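import Cfsg.Statements.S3892
import Cfsg.Agent.Lib.FGStruct.NilpotentCover

set_option autoImplicit false
open Cfsg

namespace Cfsg.Agent.S3892

open Equiv Equiv.Perm

theorem nilpotent_map {G H : Type*} [Group G] [Group H] (f : G →* H) (hf : Function.Injective f)
    {A : Subgroup G} (hA : Group.IsNilpotent ↥A) : Group.IsNilpotent ↥(A.map f) := by
  haveI := hA
  exact Group.nilpotent_of_mulEquiv (Subgroup.equivMapOfInjective A f hf)

theorem alternating_ne_top {n : ℕ} (hn : 2 ≤ n) : alternatingGroup (Fin n) ≠ ⊤ := by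
  intro h
  have hne : (⟨0, by omega⟩ : Fin n) ≠ ⟨1, by omega⟩ := by simp
  have : Equiv.swap (⟨0, by omega⟩ : Fin n) ⟨1, by omega⟩ ∈ alternatingGroup (Fin n) := h ▸ Subgroup.mem_top _
  rw [mem_alternatingGroup, Perm.sign_swap hne] at this
  exact absurd this (by decide)

theorem sign_cycle {n : ℕ} {y : Perm (Fin n)} (hy : y.IsCycle) (hodd : Odd y.support.card) :
    y ∈ alternatingGroup (Fin n) := by
  rw [mem_alternatingGroup, hy.sign, hodd.neg_one_pow, neg_neg]

theorem perm_no_cover (n : ℕ) (hn : 4 ≤ n) :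
    ¬ ∃ 𝓐 : Finset (Subgroup (Equiv.Perm (Fin n))), ((∀ A ∈ 𝓐, A ≠ ⊤) ∧ (∀ g : (Equiv.Perm (Fin n)), ∃ A ∈ 𝓐, g ∈ A)) ∧ (∀ 𝓑 : Finset (Subgroup (Equiv.Perm (Fin n))), (∀ A ∈ 𝓑, A ≠ ⊤) ∧ (∀ g : (Equiv.Perm (Fin n)), ∃ A ∈ 𝓑, g ∈ A) → 𝓐.card ≤ 𝓑.card) ∧ (∀ A ∈ 𝓐, Group.IsNilpotent ↥A) := by
  classical
  set L := if Odd n then n else n - 1 with hL
  have hLodd : Odd L := by
    rw [hL]; split_ifs with h
    · exact h
    · rw [Nat.odd_iff] at h ⊢; omega
  have hL2 : 2 ≤ L := by rw [hL]; split_ifs <;> omega
  refine NilpotentCover.no_cover (alternatingGroup (Fin n)) (alternating_ne_top (by omega))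
    {y : Perm (Fin n) | y.IsCycle ∧ y.support.card = L} ?_ ?_
  · rintro A hA y ⟨hy, hc⟩ hyA a ha
    have hodd : Odd y.support.card := hc ▸ hLodd
    obtain ⟨u, v, rfl, -, hu, hcomm, hv⟩ := NilpotentCover.exists_two_part hA hy hyA hodd ha
    have hu1 : u = 1 := by
      ext x
      rw [Perm.one_apply]
      congr 1
      by_cases hx : x ∈ y.support
      · exact hu x hx
      · refine NilpotentCover.fixed_eq_of_unique hcomm (Perm.notMem_support.1 hx) fun x' hx' => ?_
        have h1 : y.supportᶜ.card ≤ 1 := by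
          rw [Finset.card_compl, Fintype.card_fin, hc, hL]; split_ifs <;> omega
        exact Finset.card_le_one.1 h1 x' (Finset.mem_compl.2 (Perm.notMem_support.2 hx')) x
          (Finset.mem_compl.2 hx)
    rw [mem_alternatingGroup, hu1, one_mul, hv]
  · intro A hA hT
    obtain ⟨S₀, -, hS₀⟩ := Finset.exists_subset_card_eq (s := (Finset.univ : Finset (Fin n))) (n := L)
      (by rw [Finset.card_univ, Fintype.card_fin, hL]; split_ifs <;> omega)
    obtain ⟨y, hy, hys⟩ := NilpotentCover.exists_cycle S₀ (by omega)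
    have hyT : y ∈ A := hT ⟨hy, by rw [hys, hS₀]⟩
    obtain ⟨z, -, hz1, hz⟩ := NilpotentCover.exists_center hA hyT hy.ne_one
    refine hz1 (Equiv.ext fun i => ?_)
    rw [Perm.one_apply]
    by_cases hodd : Odd n
    · have hLn : L = n := by rw [hL, if_pos hodd]
      refine NilpotentCover.commute_all_cycles (S := Finset.univ)
        (by rw [Finset.card_univ, Fintype.card_fin]; rw [Nat.odd_iff] at hodd; omega) ?_ i (Finset.mem_univ i)
      exact fun w hw hws => hz w (hT ⟨hw, by rw [hws, Finset.card_univ, Fintype.card_fin, hLn]⟩)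
    · have hLn : L = n - 1 := by rw [hL, if_neg hodd]
      have hcard : ((Finset.univ : Finset (Fin n)).erase i).card = L := by
        rw [Finset.card_erase_of_mem (Finset.mem_univ i), Finset.card_univ, Fintype.card_fin, hLn]
      obtain ⟨w, hw, hws⟩ := NilpotentCover.exists_cycle _ (hcard.symm ▸ hL2)
      refine NilpotentCover.fixed_eq_of_unique (hz w (hT ⟨hw, by rw [hws, hcard]⟩))
        (Perm.notMem_support.1 (by rw [hws]; simp)) fun x hx => ?_
      by_contra hxi
      exact absurd hx (Perm.mem_support.1 (by rw [hws]; simp [hxi]))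

theorem alternating_no_cover (n : ℕ) (hn : 5 ≤ n) :
    ¬ ∃ 𝓐 : Finset (Subgroup ↥(alternatingGroup (Fin n))), ((∀ A ∈ 𝓐, A ≠ ⊤) ∧ (∀ g : ↥(alternatingGroup (Fin n)), ∃ A ∈ 𝓐, g ∈ A)) ∧ (∀ 𝓑 : Finset (Subgroup ↥(alternatingGroup (Fin n))), (∀ A ∈ 𝓑, A ≠ ⊤) ∧ (∀ g : ↥(alternatingGroup (Fin n)), ∃ A ∈ 𝓑, g ∈ A) → 𝓐.card ≤ 𝓑.card) ∧ (∀ A ∈ 𝓐, Group.IsNilpotent ↥A) := by
  classical
  set i : Fin n := ⟨0, by omega⟩ with hi
  set f := (alternatingGroup (Fin n)).subtype with hf
  set M := (MulAction.stabilizer (Perm (Fin n)) i).comap f with hM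
  have hmemM : ∀ g : ↥(alternatingGroup (Fin n)), g ∈ M ↔ (g : Perm (Fin n)) i = i := fun g => Iff.rfl
  have hMtop : M ≠ ⊤ := by
    intro h
    have h1n : 1 < n := by omega
    have h2n : 2 < n := by omega
    obtain ⟨y, hy, hys⟩ := NilpotentCover.exists_cycle
      ({i, ⟨1, h1n⟩, ⟨2, h2n⟩} : Finset (Fin n)) (by simp [hi])
    have hc : y.support.card = 3 := by rw [hys]; simp [hi]
    have h1 : (⟨y, sign_cycle hy (by rw [hc]; decide)⟩ : ↥(alternatingGroup (Fin n))) ∈ M := h ▸ Subgroup.mem_top _
    exact Perm.mem_support.1 (by rw [hys]; simp : i ∈ y.support) ((hmemM _).1 h1)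
  set L := if Odd n then n - 2 else n - 1 with hL
  have hLodd : Odd L := by
    rw [hL]; split_ifs with h <;> rw [Nat.odd_iff] at h ⊢ <;> omega
  have hL2 : 2 ≤ L := by rw [hL]; split_ifs <;> omega
  refine NilpotentCover.no_cover M hMtop
    {g : ↥(alternatingGroup (Fin n)) | (g : Perm (Fin n)).IsCycle ∧ (g : Perm (Fin n)).support.card = L ∧
      (g : Perm (Fin n)) i = i} ?_ ?_
  · rintro A hA y' ⟨hy, hc, hyi⟩ hy'A a' ha'
    set y : Perm (Fin n) := (y' : Perm (Fin n))
    have hA' : Group.IsNilpotent ↥(A.map f) := nilpotent_map f Subtype.coe_injective hA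
    have hyA : y ∈ A.map f := ⟨y', hy'A, rfl⟩
    have hodd : Odd y.support.card := hc ▸ hLodd
    have hFcard : y.supportᶜ.card = n - L := by rw [Finset.card_compl, Fintype.card_fin, hc]
    have hiF : i ∈ y.supportᶜ := Finset.mem_compl.2 (Perm.notMem_support.2 hyi)
    obtain ⟨z, hzA, hz1, hz⟩ := NilpotentCover.exists_center hA' hyA hy.ne_one
    have hsgn : ∀ g ∈ A.map f, sign g = 1 := by
      rintro _ ⟨g, -, rfl⟩; exact mem_alternatingGroup.1 g.2
    -- every member of `A` has odd order
    have hoddA : ∀ g ∈ A.map f, Odd (orderOf g) := by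
      intro g hg
      obtain ⟨u, v, huv, hvo, hu, hcomm, hv⟩ := NilpotentCover.exists_two_part hA' hy hyA hodd hg
      have hu1 : u = 1 := by
        by_contra hune
        have hsub : u.support ⊆ y.supportᶜ := fun x hx =>
          Finset.mem_compl.2 fun hxy => Perm.mem_support.1 hx (hu x hxy)
        have h1 : u.support.card = 2 := by
          have h2 := Perm.one_lt_card_support_of_ne_one hune
          have h3 := (Finset.card_le_card hsub).trans_eq hFcard
          have h4 : n - L ≤ 2 := by rw [hL]; split_ifs <;> omega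
          omega
        have h5 : sign u = -1 := (Perm.card_support_eq_two.1 h1).sign_eq
        have h6 := hsgn g hg
        rw [← huv, map_mul, hv, mul_one, h5] at h6
        exact absurd h6 (by decide)
      rwa [← huv, hu1, one_mul]
    have hzy : Commute z y := hz y hyA
    have hzs : ∀ x ∈ y.support, z x ≠ x := by
      intro x hx he
      refine hz1 (Equiv.ext fun w => ?_)
      rw [Perm.one_apply]
      by_cases hw : w ∈ y.support
      · exact NilpotentCover.eq_of_commute hy hzy (Commute.one_left y) hx (by rw [Perm.one_apply]; exact he) w hw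
      · by_contra hne
        have hw' : w ∈ y.supportᶜ := Finset.mem_compl.2 hw
        have hzw : z w ∈ y.supportᶜ := Finset.mem_compl.2 fun hh => by
          rw [Perm.mem_support] at hh
          rw [Perm.notMem_support] at hw
          exact hh (by rw [← Perm.mul_apply, ← hzy.eq, Perm.mul_apply, hw])
        have hsub : z.support ⊆ y.supportᶜ := fun t ht => Finset.mem_compl.2 fun hty =>
          Perm.mem_support.1 ht (NilpotentCover.eq_of_commute hy hzy (Commute.one_left y) hx
            (by rw [Perm.one_apply]; exact he) t hty)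
        have h2 : 1 < z.support.card := Perm.one_lt_card_support_of_ne_one hz1
        have h3 := (Finset.card_le_card hsub).trans_eq hFcard
        have h4 : n - L ≤ 2 := by rw [hL]; split_ifs <;> omega
        have h5 : z.support.card = 2 := by omega
        have h6 : orderOf z = 2 := by
          obtain ⟨a, b, hab, rfl⟩ := Perm.card_support_eq_two.1 h5
          refine orderOf_eq_prime ?_ (Equiv.swap_eq_one_iff.not.2 hab)
          rw [pow_two, Equiv.swap_mul_self]
        have h7 := hoddA z hzA
        rw [h6] at h7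
        exact absurd h7 (by decide)
    have hpres : ∀ g ∈ A.map f, ∀ w, y w = w → y (g w) = g w := by
      intro g hg w hw
      have hzw : z w = w := by
        by_contra hne
        have hw' : w ∈ y.supportᶜ := Finset.mem_compl.2 (Perm.notMem_support.2 hw)
        have hzw' : y (z w) = z w := by rw [← Perm.mul_apply, ← hzy.eq, Perm.mul_apply, hw]
        have hzzw : y (z (z w)) = z (z w) := by
          rw [← Perm.mul_apply, ← hzy.eq, Perm.mul_apply, hzw']
        have h4 : y.supportᶜ.card ≤ 2 := by rw [hFcard, hL]; split_ifs <;> omega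
        have h8 : z (z w) = w := by
          by_contra hne2
          have h9 : ({w, z w, z (z w)} : Finset (Fin n)).card = 3 := by
            rw [Finset.card_eq_three]
            exact ⟨w, z w, z (z w), Ne.symm hne, Ne.symm hne2, fun e => hne (z.injective e).symm, rfl⟩
          have h10 : ({w, z w, z (z w)} : Finset (Fin n)) ⊆ y.supportᶜ := by
            intro t ht
            simp only [Finset.mem_insert, Finset.mem_singleton] at ht
            refine Finset.mem_compl.2 (Perm.notMem_support.2 ?_)
            rcases ht with rfl | rfl | rfl <;> assumption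
          have := Finset.card_le_card h10
          omega
        obtain ⟨r, hr⟩ := hoddA z hzA
        have h9 : (z ^ (2 * r)) w = w := by
          rw [pow_mul]
          have : ∀ k : ℕ, ((z ^ 2) ^ k) w = w := by
            intro k
            induction k with
            | zero => simp
            | succ k ih => rw [pow_succ, Perm.mul_apply, pow_two, Perm.mul_apply, h8, ← pow_two, ih]
          exact this r
        have h11 : (z ^ orderOf z) w = w := by rw [pow_orderOf_eq_one, Perm.one_apply]
        rw [hr, pow_succ', Perm.mul_apply, h9] at h11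
        exact hne h11
      have h12 : z (g w) = g w := by rw [← Perm.mul_apply, (hz g hg).eq, Perm.mul_apply, hzw]
      by_contra h
      exact hzs _ (Perm.mem_support.2 h) h12
    rw [hmemM]
    set a : Perm (Fin n) := (a' : Perm (Fin n))
    have haA : a ∈ A.map f := ⟨a', ha', rfl⟩
    have h1 := hpres a haA i hyi
    have h2 := hpres a haA _ h1
    by_contra hne
    have h4 : y.supportᶜ.card ≤ 2 := by rw [hFcard, hL]; split_ifs <;> omega
    have h8 : a (a i) = i := by
      by_contra hne2
      have h9 : ({i, a i, a (a i)} : Finset (Fin n)).card = 3 := by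
        rw [Finset.card_eq_three]
        exact ⟨i, a i, a (a i), Ne.symm hne, Ne.symm hne2, fun e => hne (a.injective e).symm, rfl⟩
      have h10 : ({i, a i, a (a i)} : Finset (Fin n)) ⊆ y.supportᶜ := by
        intro t ht
        simp only [Finset.mem_insert, Finset.mem_singleton] at ht
        refine Finset.mem_compl.2 (Perm.notMem_support.2 ?_)
        rcases ht with rfl | rfl | rfl <;> assumption
      have := Finset.card_le_card h10
      omega
    obtain ⟨r, hr⟩ := hoddA a haA
    have h9 : (a ^ (2 * r)) i = i := by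
      rw [pow_mul]
      have : ∀ k : ℕ, ((a ^ 2) ^ k) i = i := by
        intro k
        induction k with
        | zero => simp
        | succ k ih => rw [pow_succ, Perm.mul_apply, pow_two, Perm.mul_apply, h8, ← pow_two, ih]
      exact this r
    have h11 : (a ^ orderOf a) i = i := by rw [pow_orderOf_eq_one, Perm.one_apply]
    rw [hr, pow_succ', Perm.mul_apply, h9] at h11
    exact hne h11
  · intro A hA hT
    have hA' : Group.IsNilpotent ↥(A.map f) := nilpotent_map f Subtype.coe_injective hA
    have hT' : ∀ w : Perm (Fin n), w.IsCycle → w.support.card = L → w i = i → w ∈ A.map f := fun w hw hc hwi =>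
      ⟨⟨w, sign_cycle hw (hc ▸ hLodd)⟩, hT ⟨hw, hc, hwi⟩, rfl⟩
    set S := (Finset.univ : Finset (Fin n)).erase i with hS
    have hScard : S.card = n - 1 := by
      rw [hS, Finset.card_erase_of_mem (Finset.mem_univ i), Finset.card_univ, Fintype.card_fin]
    obtain ⟨S₀, hS₀S, hS₀⟩ := Finset.exists_subset_card_eq (s := S) (n := L)
      (by rw [hScard, hL]; split_ifs <;> omega)
    obtain ⟨y, hy, hys⟩ := NilpotentCover.exists_cycle S₀ (by omega)
    have hyA : y ∈ A.map f := hT' y hy (by rw [hys, hS₀]) (Perm.notMem_support.1 fun h => by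
      have := hS₀S (hys ▸ h)
      exact (Finset.mem_erase.1 this).1 rfl)
    obtain ⟨z, hzA, hz1, hz⟩ := NilpotentCover.exists_center hA' hyA hy.ne_one
    refine hz1 (Equiv.ext fun t => ?_)
    rw [Perm.one_apply]
    by_cases hodd : Odd n
    · have hLn : L = n - 2 := by rw [hL, if_pos hodd]
      -- `z` fixes the fixed pair of every such cycle
      have key : ∀ j, j ≠ i → z i = i ∨ z i = j := by
        intro j hj
        have hc : (S.erase j).card = L := by
          rw [Finset.card_erase_of_mem (Finset.mem_erase.2 ⟨hj, Finset.mem_univ j⟩), hScard, hLn]; omega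
        obtain ⟨w, hw, hws⟩ := NilpotentCover.exists_cycle (S.erase j) (hc.symm ▸ hL2)
        have hwi : w i = i := Perm.notMem_support.1 (by rw [hws]; simp [hS])
        have hwA := hT' w hw (by rw [hws, hc]) hwi
        have h1 : w (z i) = z i := by rw [← Perm.mul_apply, ← (hz w hwA).eq, Perm.mul_apply, hwi]
        rw [← Perm.notMem_support, hws, Finset.mem_erase, hS, Finset.mem_erase] at h1
        simp only [Finset.mem_univ, and_true, not_and, Decidable.not_not] at h1
        by_cases h2 : z i = j
        · exact Or.inr h2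
        · exact Or.inl (h1 h2)
      have hzi : z i = i := by
        have hone : (⟨1, by omega⟩ : Fin n) ≠ i := by simp [hi]
        have htwo : (⟨2, by omega⟩ : Fin n) ≠ i := by simp [hi]
        rcases key _ hone with h1 | h1
        · exact h1
        · rcases key _ htwo with h2 | h2
          · exact h2
          · exact absurd (h1.symm.trans h2) (by simp)
      rcases eq_or_ne t i with rfl | hti
      · exact hzi
      have hc : (S.erase t).card = L := by
        rw [Finset.card_erase_of_mem (Finset.mem_erase.2 ⟨hti, Finset.mem_univ t⟩), hScard, hLn]; omega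
      obtain ⟨w, hw, hws⟩ := NilpotentCover.exists_cycle (S.erase t) (hc.symm ▸ hL2)
      have hwi : w i = i := Perm.notMem_support.1 (by rw [hws]; simp [hS])
      have hwt : w t = t := Perm.notMem_support.1 (by rw [hws]; simp)
      have hwA := hT' w hw (by rw [hws, hc]) hwi
      have h1 : w (z t) = z t := by rw [← Perm.mul_apply, ← (hz w hwA).eq, Perm.mul_apply, hwt]
      rw [← Perm.notMem_support, hws, Finset.mem_erase, hS, Finset.mem_erase] at h1
      simp only [Finset.mem_univ, and_true, not_and, Decidable.not_not] at h1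
      by_contra h2
      exact hti (z.injective ((h1 h2).trans hzi.symm))
    · have hLn : L = n - 1 := by rw [hL, if_neg hodd]
      have h5 : 5 ≤ S.card := by rw [hScard]; rw [Nat.odd_iff] at hodd; omega
      have hall : ∀ s ∈ S, z s = s := NilpotentCover.commute_all_cycles h5 fun w hw hws =>
        hz w (hT' w hw (by rw [hws, hScard, hLn]) (Perm.notMem_support.1 (by rw [hws]; simp [hS])))
      rcases eq_or_ne t i with rfl | hti
      · by_contra h1
        exact h1 (z.injective (hall (z i) (Finset.mem_erase.2 ⟨h1, Finset.mem_univ _⟩)))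
      · exact hall t (Finset.mem_erase.2 ⟨hti, Finset.mem_univ t⟩)

/-- A cover of a group is a finite set of proper subgroups whose union is the whole group; it is minimal when no cover has fewer members, and nilpotent when all its members are nilpotent. The alternating groups of degree at least 5 and the symmetric groups of degree at least 4 have no nilpotent minimal cover. -/
theorem result (n : ℕ) :
    (5 ≤ n → ¬ ∃ 𝓐 : Finset (Subgroup ↥(alternatingGroup (Fin n))), ((∀ A ∈ 𝓐, A ≠ ⊤) ∧ (∀ g : ↥(alternatingGroup (Fin n)), ∃ A ∈ 𝓐, g ∈ A)) ∧ (∀ 𝓑 : Finset (Subgroup ↥(alternatingGroup (Fin n))), (∀ A ∈ 𝓑, A ≠ ⊤) ∧ (∀ g : ↥(alternatingGroup (Fin n)), ∃ A ∈ 𝓑, g ∈ A) → 𝓐.card ≤ 𝓑.card) ∧ (∀ A ∈ 𝓐, Group.IsNilpotent ↥A)) ∧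
    (4 ≤ n → ¬ ∃ 𝓐 : Finset (Subgroup (Equiv.Perm (Fin n))), ((∀ A ∈ 𝓐, A ≠ ⊤) ∧ (∀ g : (Equiv.Perm (Fin n)), ∃ A ∈ 𝓐, g ∈ A)) ∧ (∀ 𝓑 : Finset (Subgroup (Equiv.Perm (Fin n))), (∀ A ∈ 𝓑, A ≠ ⊤) ∧ (∀ g : (Equiv.Perm (Fin n)), ∃ A ∈ 𝓑, g ∈ A) → 𝓐.card ≤ 𝓑.card) ∧ (∀ A ∈ 𝓐, Group.IsNilpotent ↥A)) := by
  exact ⟨alternating_no_cover n, perm_no_cover n⟩

end Cfsg.Agent.S3892
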