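import Cfsg.Statements.S3893
import Cfsg.Agent.Lib.Suzuki.TorType
import Cfsg.Agent.Lib.Suzuki.Minor
import Cfsg.Agent.Lib.Suzuki.Out
-- import your own Cfsg.Agent.* helpers here

set_option autoImplicit false
open Cfsg

namespace Cfsg.Agent.S3893

open Cfsg.Agent.Suzuki

theorem key {F : Type*} [Field F] [Fintype F] {m : ℕ} (h : SzField F m)
    (𝓐 : Finset (Subgroup (Cfsg.Sz F m))) (hcov : ∀ g, ∃ A ∈ 𝓐, g ∈ A)
    (hmin : ∀ 𝓑 : Finset (Subgroup (Cfsg.Sz F m)), (∀ A ∈ 𝓑, A ≠ ⊤) ∧ (∀ g, ∃ A ∈ 𝓑, g ∈ A) → 𝓐.card ≤ 𝓑.card)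
    (hnil : ∀ A ∈ 𝓐, Group.IsNilpotent A) : False := by
  classical
  let Ω := {p // p ∈ Cfsg.suzukiOvoid F m}
  have : Finite Ω := Subtype.finite
  have : Fintype Ω := Fintype.ofFinite _
  let Mem := {C : Subgroup (Cfsg.Sz F m) // IsMember C}
  have : Fintype Mem := Fintype.ofFinite _
  have hne1 : T h (0 : F) 1 ≠ 1 := fun e => one_ne_zero ((eq_one_iff_T h).mp e).2
  -- a distinguished element for each part
  have hpt : ∀ p : Ω, ∃ t : Cfsg.Sz F m, t ≠ 1 ∧ t ^ 2 ^ 2 = 1 ∧ t • p.1 = p.1 := by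
    intro p
    obtain ⟨u, hu⟩ := exists_smul_pinf h p.2
    refine ⟨u * T h 0 1 * u⁻¹, fun e => hne1 (conj_eq_one_iff.mp e),
      pow_four_of_conj_root h (u := u⁻¹) ?_, by rw [← hu, mul_smul, mul_smul, inv_smul_smul, T_smul_pinf]⟩
    rw [show u⁻¹ * (u * T h 0 1 * u⁻¹) * u⁻¹⁻¹ = T h 0 1 by group]
    exact ⟨0, 1, rfl⟩
  choose t ht1 ht4 htp using hpt
  have hmem : ∀ C : Mem, ∃ c ∈ C.1, c ≠ 1 := fun C => by
    have := (torType_member h C.2).one_lt
    by_contra hall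
    push Not at hall
    rw [(Subgroup.eq_bot_iff_forall C.1).mpr hall, Subgroup.card_bot] at this
    omega
  choose c hc hc1 using hmem
  obtain ⟨k, -, hk1, -⟩ := exists_gen h
  have hH1 : H h k ≠ 1 := fun e => hk1 (H_injective h (e.trans (H_one h).symm))
  choose sel hsel hgsel using hcov
  let f : Option (Ω ⊕ Mem) → {A // A ∈ 𝓐} := fun o => o.elim ⟨_, hsel (H h k)⟩
    (fun s => s.elim (fun p => ⟨_, hsel (t p)⟩) fun C => ⟨_, hsel (c C)⟩)
  -- a central element of a nilpotent member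
  have hcentral : ∀ g g', sel g = sel g' → g ≠ 1 →
      ∃ z : Cfsg.Sz F m, z ≠ 1 ∧ z * g = g * z ∧ z * g' = g' * z := by
    intro g g' e hg
    have := hnil _ (hsel g)
    have : Nontrivial (sel g) := ⟨⟨g, hgsel g⟩, 1, fun e' => hg (congrArg Subtype.val e')⟩
    have : Nontrivial (Subgroup.center (sel g)) :=
      (Subgroup.nontrivial_iff_ne_bot _).mpr (Group.IsNilpotent.center_ne_bot _)
    obtain ⟨z, hz⟩ := exists_ne (1 : Subgroup.center (sel g))
    have hg' : g' ∈ sel g := e ▸ hgsel g'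
    exact ⟨z.1.1, fun e' => hz (Subtype.ext (Subtype.ext e')),
      (congrArg Subtype.val (Subgroup.mem_center_iff.mp z.2 ⟨g, hgsel g⟩)).symm,
      (congrArg Subtype.val (Subgroup.mem_center_iff.mp z.2 ⟨g', hg'⟩)).symm⟩
  have two_fix : ∀ (x y : Cfsg.Sz F m), x ≠ 1 → x ^ 2 ^ 2 = 1 → y * x = x * y → y ^ 2 ^ 2 = 1 := by
    intro x y hx hx4 hxy
    obtain ⟨u, hu⟩ := exists_conj_mem_rootGroup h hx4
    refine pow_four_of_conj_root h (u := u) (centralizer_le h hu (fun e => hx (conj_eq_one_iff.mp e)) ?_)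
    rw [centralizer_conj_mem h, Subgroup.mem_centralizer_singleton_iff,
      show u⁻¹ * (u * y * u⁻¹) * u = y by group]
    exact hxy
  have pt_fix : ∀ (x y : Cfsg.Sz F m), x ≠ 1 → x ^ 2 ^ 2 = 1 → y * x = x * y → ∀ p ∈ Cfsg.suzukiOvoid F m,
      x • p = p → y • p = p := by
    intro x y hx hx4 hxy p hp hxp
    refine fixed_point_unique h hx hx4 (smul_mem_ovoid y hp) hp ?_ hxp
    rw [← mul_smul, ← hxy, mul_smul, hxp]
  have in_member : ∀ (C : Mem) y, y * c C = c C * y → y ∈ C.1 := fun C y hy => by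
    rw [← member_ti h C.2 _ (hc C) (hc1 C)]
    exact Subgroup.mem_centralizer_singleton_iff.mpr hy
  have in_torus : ∀ y, y * H h k = H h k * y → y ∈ torus h := fun y hy => by
    rw [← centralizer_H h hk1]; exact Subgroup.mem_centralizer_singleton_iff.mpr hy
  have h_tc : ∀ (p : Ω) (C : Mem), sel (t p) ≠ sel (c C) := fun p C e => by
    obtain ⟨z, hz1, hz2, hz3⟩ := hcentral _ _ e (ht1 p)
    exact hz1 ((torType_member h C.2).not_orderOf_two h (in_member C z hz3) (two_fix _ z (ht1 p) (ht4 p) hz2))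
  have h_tH : ∀ p : Ω, sel (t p) ≠ sel (H h k) := fun p e => by
    obtain ⟨z, hz1, hz2, hz3⟩ := hcentral _ _ e (ht1 p)
    exact hz1 ((torType_torus h).not_orderOf_two h (in_torus z hz3) (two_fix _ z (ht1 p) (ht4 p) hz2))
  have h_cH : ∀ C : Mem, sel (c C) ≠ sel (H h k) := fun C e => by
    obtain ⟨z, hz1, hz2, hz3⟩ := hcentral _ _ e (hc1 C)
    obtain ⟨l, rfl⟩ := (mem_torus h).mp (in_torus z hz3)
    exact fixFree_of_mem_member h C.2 (in_member C _ hz2) hz1 _ pinf_mem (H_smul_pinf h l)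
  have hf : Function.Injective f := by
    rintro (_ | p | C) (_ | p' | C') e <;> have e' := congrArg Subtype.val e <;> simp only [f, Option.elim, Sum.elim] at e'
    · rfl
    · exact absurd e'.symm (h_tH p')
    · exact absurd e'.symm (h_cH C')
    · exact absurd e' (h_tH p)
    · obtain ⟨z, hz1, hz2, hz3⟩ := hcentral _ _ e' (ht1 p)
      have hz4 := two_fix _ z (ht1 p) (ht4 p) hz2
      have : p = p' := Subtype.ext (fixed_point_unique h hz1 hz4 p.2 p'.2
        (pt_fix _ z (ht1 p) (ht4 p) hz2 _ p.2 (htp p)) (pt_fix _ z (ht1 p') (ht4 p') hz3 _ p'.2 (htp p')))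
      rw [this]
    · exact absurd e' (h_tc p C')
    · exact absurd e' (h_cH C)
    · exact absurd e'.symm (h_tc p' C)
    · obtain ⟨z, hz1, hz2, hz3⟩ := hcentral _ _ e' (hc1 C)
      have : C = C' := Subtype.ext ((member_ti h C.2 z (in_member C z hz2) hz1).symm.trans
        (member_ti h C'.2 z (in_member C' z hz3) hz1))
      rw [this]
  -- a smaller cover
  let 𝓑 : Finset (Subgroup (Cfsg.Sz F m)) :=
    (Finset.univ.image fun p : Ω => MulAction.stabilizer (Cfsg.Sz F m) p.1) ∪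
      Finset.univ.image fun C : Mem => Subgroup.normalizer (C.1 : Set (Cfsg.Sz F m))
  have hB : ∀ A ∈ 𝓑, A ≠ ⊤ := by
    intro A hA htop
    simp only [𝓑, Finset.mem_union, Finset.mem_image, Finset.mem_univ, true_and] at hA
    have hsimple := isSimple h
    have hns : ¬ Group.IsSolvable (⊤ : Subgroup (Cfsg.Sz F m)) := fun hs => by
      have hs' : Group.IsSolvable (Cfsg.Sz F m) :=
        Group.isSolvable_of_surjective (f := (Subgroup.topEquiv : (⊤ : Subgroup (Cfsg.Sz F m)) ≃* Cfsg.Sz F m).toMonoidHom)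
          Subgroup.topEquiv.surjective
      have hcomm := (IsSimpleGroup.comm_iff_isSolvable).mpr hs'
      obtain ⟨a, b, e⟩ : ∃ a b : Cfsg.Sz F m, a * b ≠ b * a := ⟨H h k, T h 1 0, fun e => hk1 (by
        have : H h k * T h 1 0 * (H h k)⁻¹ = T h 1 0 := by rw [e, mul_inv_cancel_right]
        rw [H_conj_T] at this
        exact Units.ext ((mul_one _).symm.trans (T_injective h this).1))⟩
      exact e (hcomm a b)
    rcases hA with ⟨p, rfl⟩ | ⟨C, rfl⟩
    · exact hns (htop ▸ isSolvable_stabilizer h p.2)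
    · exact hns (htop ▸ isSolvable_normalizer h (torType_member h C.2))
  have hBcov : ∀ g, ∃ A ∈ 𝓑, g ∈ A := by
    intro g
    have hfix : ∀ u, u * g * u⁻¹ ∈ borel F m → ∃ A ∈ 𝓑, g ∈ A := fun u hu => by
      refine ⟨_, Finset.mem_union_left _ (Finset.mem_image.mpr
        ⟨⟨u⁻¹ • Cfsg.suzukiPointInfinity F, smul_mem_ovoid _ pinf_mem⟩, Finset.mem_univ _, rfl⟩), ?_⟩
      rw [MulAction.mem_stabilizer_iff, eq_inv_smul_iff, ← mul_smul, ← mul_smul]
      exact hu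
    by_cases hg : g = 1
    · exact hfix 1 (by rw [hg]; simp)
    rcases classify h hg with ⟨u, hu⟩ | ⟨u, hu⟩ | ⟨C, hC, hgC⟩
    · exact hfix u (rootGroup_le_borel h hu)
    · obtain ⟨l, hl⟩ := (mem_torus h).mp hu
      exact hfix u (hl ▸ H_mem_borel h l)
    · exact ⟨_, Finset.mem_union_right _ (Finset.mem_image.mpr ⟨⟨C, hC⟩, Finset.mem_univ _, rfl⟩),
        Subgroup.le_normalizer hgC⟩
  have h1 : Fintype.card (Option (Ω ⊕ Mem)) ≤ 𝓐.card := by
    rw [← Fintype.card_coe 𝓐]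
    exact Fintype.card_le_of_injective f hf
  have h2 : 𝓑.card ≤ Fintype.card Ω + Fintype.card Mem :=
    (Finset.card_union_le _ _).trans (add_le_add Finset.card_image_le Finset.card_image_le)
  have h3 := hmin 𝓑 ⟨hB, hBcov⟩
  rw [Fintype.card_option, Fintype.card_sum] at h1
  omega

/-- A cover of a group is a finite set of proper subgroups whose union is the whole group; it is minimal when no cover has fewer members, and nilpotent when all its members are nilpotent. The Suzuki groups Sz(q), q = 2^(2m+1) with m ≥ 1, have no nilpotent minimal cover. -/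
theorem result {F : Type*} [Field F] [Fintype F] (m : ℕ) (hm : 1 ≤ m) (hF : Fintype.card F = 2 ^ (2 * m + 1)) :
    ¬ ∃ 𝓐 : Finset (Subgroup ↥(Cfsg.Lie.Sz F (2 ^ (m + 1)))), ((∀ A ∈ 𝓐, A ≠ ⊤) ∧ (∀ g : ↥(Cfsg.Lie.Sz F (2 ^ (m + 1))), ∃ A ∈ 𝓐, g ∈ A)) ∧ (∀ 𝓑 : Finset (Subgroup ↥(Cfsg.Lie.Sz F (2 ^ (m + 1)))), (∀ A ∈ 𝓑, A ≠ ⊤) ∧ (∀ g : ↥(Cfsg.Lie.Sz F (2 ^ (m + 1))), ∃ A ∈ 𝓑, g ∈ A) → 𝓐.card ≤ 𝓑.card) ∧ (∀ A ∈ 𝓐, Group.IsNilpotent ↥A) := by
  classical
  rintro ⟨𝓐, ⟨hne, hcov⟩, hmin, hnil⟩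
  have h : Cfsg.Agent.Suzuki.SzField F m := ⟨hm, hF⟩
  let ψ := (Cfsg.Agent.Suzuki.minorEquiv h).mapSubgroup
  refine key h (𝓐.image ψ.symm) (fun g => ?_) (fun 𝓑 hB => ?_) (fun A hA => ?_)
  · obtain ⟨A, hA, hgA⟩ := hcov (Cfsg.Agent.Suzuki.minorEquiv h g)
    exact ⟨ψ.symm A, Finset.mem_image_of_mem _ hA, ⟨_, hgA, (Cfsg.Agent.Suzuki.minorEquiv h).symm_apply_apply g⟩⟩
  · refine (Finset.card_image_le).trans ((hmin (𝓑.image ψ) ⟨fun A hA => ?_, fun g => ?_⟩).trans Finset.card_image_le)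
    · obtain ⟨B, hB', rfl⟩ := Finset.mem_image.mp hA
      exact fun e => hB.1 B hB' (ψ.injective (e.trans ψ.map_top.symm))
    · obtain ⟨B, hB', hgB⟩ := hB.2 ((Cfsg.Agent.Suzuki.minorEquiv h).symm g)
      exact ⟨ψ B, Finset.mem_image_of_mem _ hB', ⟨_, hgB, (Cfsg.Agent.Suzuki.minorEquiv h).apply_symm_apply g⟩⟩
  · obtain ⟨B, hB, rfl⟩ := Finset.mem_image.mp hA
    have := hnil B hB
    exact Group.nilpotent_of_mulEquiv
      (Subgroup.equivMapOfInjective B _ (Cfsg.Agent.Suzuki.minorEquiv h).symm.injective)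

end Cfsg.Agent.S3893
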