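import Cfsg.Statements.S3894
import Cfsg.Agent.Lib.FGStruct.NilpotentCoverPGL

set_option autoImplicit false
open Cfsg

namespace Cfsg.Agent.S3894

open Matrix
open NilpotentCoverPGL

variable {F : Type*} [Field F] [Fintype F] [DecidableEq F] {n : ℕ}

theorem nilpotent_map {Q : Type*} [Group Q] {G : Subgroup Q} {A : Subgroup ↥G} (hA : Group.IsNilpotent ↥A) :
    Group.IsNilpotent ↥(A.map G.subtype) := by
  haveI := hA
  exact Group.nilpotent_of_mulEquiv (Subgroup.equivMapOfInjective A G.subtype G.subtype_injective)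

theorem sl_mem {G : Subgroup (GL (Fin n) F ⧸ Subgroup.center (GL (Fin n) F))}
    (hG : ((Matrix.SpecialLinearGroup.toGL : Matrix.SpecialLinearGroup (Fin n) F →* GL (Fin n) F).range).map
      (QuotientGroup.mk' (Subgroup.center (GL (Fin n) F))) ≤ G) (g : GL (Fin n) F)
    (hg : (g : Matrix (Fin n) (Fin n) F).det = 1) :
    QuotientGroup.mk' (Subgroup.center (GL (Fin n) F)) g ∈ G :=
  hG ⟨g, ⟨⟨g, hg⟩, Units.ext rfl⟩, rfl⟩

/-- The nilpotent Jordan block. -/
def blockN (n : ℕ) : Matrix (Fin n) (Fin n) F := Matrix.of fun i j => if (i : ℕ) + 1 = j then 1 else 0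

theorem blockN_pow (k : ℕ) : ∀ i j : Fin n, (j : ℕ) < i + k → ((blockN n : Matrix (Fin n) (Fin n) F) ^ k) i j = 0 := by
  induction k with
  | zero =>
    intro i j h
    rw [pow_zero, Matrix.one_apply_ne]
    intro e; subst e; omega
  | succ k ih =>
    intro i j h
    rw [pow_succ, Matrix.mul_apply]
    refine Finset.sum_eq_zero fun l _ => ?_
    by_cases hl : (l : ℕ) + 1 = j
    · rw [ih i l (by omega), zero_mul]
    · simp [blockN, hl]

theorem blockN_pow_self : (blockN n : Matrix (Fin n) (Fin n) F) ^ n = 0 := by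
  ext i j
  exact blockN_pow n i j (by omega)

theorem blockN_mulVec {x : Fin n → F} (h : (blockN n : Matrix (Fin n) (Fin n) F) *ᵥ x = 0) (i : Fin n)
    (hi : (i : ℕ) ≠ 0) : x i = 0 := by
  obtain ⟨i, hin⟩ := i
  obtain ⟨m, rfl⟩ : ∃ m, i = m + 1 := ⟨i - 1, (Nat.succ_pred_eq_of_ne_zero hi).symm⟩
  have h1 := congrFun h ⟨m, by omega⟩
  rw [Pi.zero_apply, Matrix.mulVec, dotProduct,
    Finset.sum_eq_single ⟨m + 1, hin⟩] at h1
  · simpa [blockN] using h1
  · intro l _ hl
    have : m + 1 ≠ (l : ℕ) := fun e => hl (Fin.ext e.symm)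
    simp [blockN, this]
  · simp

theorem blockN_vecMul {x : Fin n → F} (h : x ᵥ* (blockN n : Matrix (Fin n) (Fin n) F) = 0) (i : Fin n)
    (hi : (i : ℕ) + 1 ≠ n) : x i = 0 := by
  obtain ⟨i, hin⟩ := i
  have hlt : i + 1 < n := by simp only at hi; omega
  have h1 := congrFun h ⟨i + 1, hlt⟩
  rw [Pi.zero_apply, Matrix.vecMul, dotProduct, Finset.sum_eq_single ⟨i, hin⟩] at h1
  · simpa [blockN] using h1
  · intro l _ hl
    have : (l : ℕ) ≠ i := fun e => hl (Fin.ext e)
    simp [blockN, this]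
  · simp

theorem submatrix_pow (s : Fin n ≃ Fin n) (A : Matrix (Fin n) (Fin n) F) (k : ℕ) :
    (A.submatrix s s) ^ k = (A ^ k).submatrix s s := by
  induction k with
  | zero => rw [pow_zero, pow_zero, Matrix.submatrix_one_equiv]
  | succ k ih => rw [pow_succ, pow_succ, ih, Matrix.submatrix_mul_equiv]

/-- A relabelled Jordan block as a group element. -/
theorem exists_block (s : Fin n ≃ Fin n) (a b : Fin n) (ha : (s a : ℕ) = 0) (hb : (s b : ℕ) + 1 = n) :
    ∃ g : GL (Fin n) F, (g : Matrix (Fin n) (Fin n) F).det = 1 ∧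
      ((g : Matrix (Fin n) (Fin n) F) - 1) ^ n = 0 ∧
      (g : Matrix (Fin n) (Fin n) F) *ᵥ Pi.single a 1 = Pi.single a 1 ∧
      (∀ x : Fin n → F, (g : Matrix (Fin n) (Fin n) F) *ᵥ x = x → ∃ c : F, x = c • Pi.single a 1) ∧
      ∀ x : Fin n → F, x ᵥ* (g : Matrix (Fin n) (Fin n) F) = x → ∃ c : F, x = c • Pi.single b 1 := by
  set U : Matrix (Fin n) (Fin n) F := 1 + blockN n with hU
  have hdetU : U.det = 1 := by
    rw [Matrix.det_of_isUpperTriangular]
    · refine Finset.prod_eq_one fun i _ => ?_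
      simp [hU, blockN]
    · intro i j hij
      have h1 : (j : ℕ) < (i : ℕ) := hij
      have h2 : i ≠ j := fun e => by subst e; omega
      have h3 : (i : ℕ) + 1 ≠ (j : ℕ) := by omega
      simp [hU, blockN, Matrix.one_apply_ne h2, h3]
  set V := U.submatrix s s with hV
  have hdetV : V.det = 1 := by rw [hV, Matrix.det_submatrix_equiv_self, hdetU]
  refine ⟨Matrix.SpecialLinearGroup.toGL ⟨V, hdetV⟩, hdetV, ?_, ?_, ?_, ?_⟩
  all_goals
    have hV1 : V = 1 + (blockN n : Matrix (Fin n) (Fin n) F).submatrix s s := by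
      rw [hV, hU, Matrix.submatrix_add, Pi.add_apply, Pi.add_apply, Matrix.submatrix_one_equiv]
  · show (V - 1) ^ n = 0
    rw [hV1, add_sub_cancel_left, submatrix_pow, blockN_pow_self]
    rfl
  · show V *ᵥ Pi.single a 1 = Pi.single a 1
    rw [hV1, Matrix.add_mulVec, Matrix.one_mulVec, add_eq_left, Matrix.mulVec_single_one]
    funext i
    have : (s i : ℕ) + 1 ≠ (s a : ℕ) := by omega
    simp [blockN, this]
  · intro x hx
    change V *ᵥ x = x at hx
    rw [hV1, Matrix.add_mulVec, Matrix.one_mulVec, add_eq_left, Matrix.submatrix_mulVec_equiv] at hx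
    have h0 : (blockN n : Matrix (Fin n) (Fin n) F) *ᵥ (x ∘ s.symm) = 0 := by
      funext i
      simpa using congrFun hx (s.symm i)
    refine ⟨x a, funext fun i => ?_⟩
    rw [Pi.smul_apply, smul_eq_mul]
    rcases eq_or_ne i a with rfl | hia
    · simp
    · have h1 := blockN_mulVec h0 (s i) (fun e => hia (s.injective (Fin.ext (by omega))))
      simp only [Function.comp_apply, Equiv.symm_apply_apply] at h1
      simp [hia, h1]
  · intro x hx
    change x ᵥ* V = x at hx
    rw [hV1, Matrix.vecMul_add, Matrix.vecMul_one, add_eq_left, Matrix.submatrix_vecMul_equiv] at hx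
    have h0 : (x ∘ s.symm) ᵥ* (blockN n : Matrix (Fin n) (Fin n) F) = 0 := by
      funext i
      simpa using congrFun hx (s.symm i)
    refine ⟨x b, funext fun i => ?_⟩
    rw [Pi.smul_apply, smul_eq_mul]
    rcases eq_or_ne i b with rfl | hib
    · simp
    · have h1 := blockN_vecMul h0 (s i) (fun e => hib (s.injective (Fin.ext (by omega))))
      simp only [Function.comp_apply, Equiv.symm_apply_apply] at h1
      simp [hib, h1]

theorem ge_three (hn : 3 ≤ n) (G : Subgroup (GL (Fin n) F ⧸ Subgroup.center (GL (Fin n) F)))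
    (hG : ((Matrix.SpecialLinearGroup.toGL : Matrix.SpecialLinearGroup (Fin n) F →* GL (Fin n) F).range).map
      (QuotientGroup.mk' (Subgroup.center (GL (Fin n) F))) ≤ G) :
    ¬ ∃ 𝓐 : Finset (Subgroup ↥G), ((∀ A ∈ 𝓐, A ≠ ⊤) ∧ (∀ g : ↥G, ∃ A ∈ 𝓐, g ∈ A)) ∧ (∀ 𝓑 : Finset (Subgroup ↥G), (∀ A ∈ 𝓑, A ≠ ⊤) ∧ (∀ g : ↥G, ∃ A ∈ 𝓑, g ∈ A) → 𝓐.card ≤ 𝓑.card) ∧ (∀ A ∈ 𝓐, Group.IsNilpotent ↥A) := by
  classical
  obtain ⟨p, hchar⟩ := CharP.exists F
  haveI := hchar
  haveI : Fact p.Prime := ⟨CharP.char_is_prime F p⟩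
  have h0 : 0 < n := by omega
  have h1 : 1 < n := by omega
  have hl : n - 1 < n := by omega
  set a : Fin n := ⟨0, h0⟩ with ha
  set m : Fin n := ⟨1, h1⟩ with hm
  set l : Fin n := ⟨n - 1, hl⟩ with hl'
  set e : Fin n → F := Pi.single a 1 with he
  obtain ⟨u₁, hd₁, hN₁, hf₁, hk₁, hr₁⟩ := exists_block (F := F) (Equiv.refl (Fin n)) a l
    (by rw [Equiv.refl_apply, ha]) (by rw [Equiv.refl_apply, hl']; show n - 1 + 1 = n; omega)
  obtain ⟨u₂, hd₂, hN₂, hf₂, hk₂, hr₂⟩ := exists_block (F := F) (Equiv.swap m l) a m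
    (by rw [Equiv.swap_apply_of_ne_of_ne (by simp [ha, hm]) (by simp [ha, hl']; omega)])
    (by rw [Equiv.swap_apply_left, hl']; show n - 1 + 1 = n; omega)
  have he0 : e ≠ 0 := fun h => one_ne_zero (α := F) (by simpa [he] using congrFun h a)
  set M := ((lineStab e).map (QuotientGroup.mk' (Subgroup.center (GL (Fin n) F)))).subgroupOf G with hM
  have hMtop : M ≠ ⊤ := by
    intro h
    have htd : (Matrix.transvection m a (1 : F)).det = 1 :=
      Matrix.det_transvection_of_ne m a (by rw [ha, hm]; simp) 1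
    set g : GL (Fin n) F := Matrix.SpecialLinearGroup.toGL ⟨_, htd⟩
    have hg : (⟨_, sl_mem hG g htd⟩ : ↥G) ∈ M := h ▸ Subgroup.mem_top _
    obtain ⟨c, -, hc⟩ := mem_lineStab_of_mk (Subgroup.mem_subgroupOf.1 hg)
    have h2 := congrFun hc m
    change (Matrix.transvection m a (1 : F) *ᵥ e) m = _ at h2
    rw [he, Matrix.mulVec_single_one] at h2
    simp [Matrix.transvection, ha, hm] at h2
  refine NilpotentCover.no_cover M hMtop
    {⟨_, sl_mem hG u₁ hd₁⟩, ⟨_, sl_mem hG u₂ hd₂⟩} ?_ ?_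
  · rintro A hA y hy hyA b hb
    rw [hM, Subgroup.mem_subgroupOf]
    obtain ⟨g, hg⟩ := QuotientGroup.mk'_surjective _ (b : GL (Fin n) F ⧸ Subgroup.center (GL (Fin n) F))
    refine ⟨g, ?_, hg⟩
    rcases hy with rfl | rfl
    · exact (local_fix (p := p) h0 hN₁ he0 hf₁ hk₁ (nilpotent_map hA) ⟨_, hyA, rfl⟩).2.1 g ⟨b, hb, hg.symm⟩
    · exact (local_fix (p := p) h0 hN₂ he0 hf₂ hk₂ (nilpotent_map hA) ⟨_, hyA, rfl⟩).2.1 g ⟨b, hb, hg.symm⟩
  · intro A hA hT
    have hw : (Pi.single l 1 : Fin n → F) ≠ 0 := fun h => one_ne_zero (α := F) (by simpa using congrFun h l)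
    obtain ⟨c, hc⟩ := (local_fix (p := p) h0 hN₁ he0 hf₁ hk₁ (nilpotent_map hA)
      ⟨_, hT (Set.mem_insert _ _), rfl⟩).2.2 _ hr₁ hw u₂ ⟨_, hT (Set.mem_insert_of_mem _ rfl), rfl⟩
    have hN2t : c = 1 := by
      set ut : GL (Fin n) F := ⟨(u₂ : Matrix (Fin n) (Fin n) F)ᵀ, (↑u₂⁻¹ : Matrix (Fin n) (Fin n) F)ᵀ,
        by rw [← Matrix.transpose_mul, ← Units.val_mul, inv_mul_cancel, Units.val_one, Matrix.transpose_one],
        by rw [← Matrix.transpose_mul, ← Units.val_mul, mul_inv_cancel, Units.val_one, Matrix.transpose_one]⟩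
      refine eigen_one (u := ut) ?_ hw (by rw [← hc]; exact Matrix.mulVec_transpose _ _)
      show ((u₂ : Matrix (Fin n) (Fin n) F)ᵀ - 1) ^ n = 0
      rw [← Matrix.transpose_one, ← Matrix.transpose_sub, ← Matrix.transpose_pow, hN₂, Matrix.transpose_zero]
    rw [hN2t, one_smul] at hc
    obtain ⟨d, hd⟩ := hr₂ _ hc
    have := congrFun hd l
    rw [Pi.single_eq_same, Pi.smul_apply, Pi.single_eq_of_ne (by simp [hl', hm]; omega), smul_zero] at this
    exact one_ne_zero this

/-- Representatives of the points of the projective line. -/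
def pt : Option F → Fin 2 → F
  | none => ![0, 1]
  | some x => ![1, x]

theorem pt_ne_zero (o : Option F) : pt o ≠ 0 := by
  cases o with
  | none => exact fun h => one_ne_zero (α := F) (by simpa [pt] using congrFun h 1)
  | some x => exact fun h => one_ne_zero (α := F) (by simpa [pt] using congrFun h 0)

theorem pt_inj {o o' : Option F} {c : F} (h : pt o = c • pt o') : o = o' := by
  have h0 := congrFun h 0
  have h1 := congrFun h 1
  rcases o with _ | x <;> rcases o' with _ | y <;> simp [pt] at h0 h1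
  · rfl
  · rw [← h0] at h1; simp at h1
  · rw [← h0, one_mul] at h1
    rw [h1]

theorem exists_pt {x : Fin 2 → F} (hx : x ≠ 0) : ∃ (o : Option F) (c : F), c ≠ 0 ∧ x = c • pt o := by
  by_cases h0 : x 0 = 0
  · refine ⟨none, x 1, fun h1 => hx ?_, ?_⟩
    · funext i; fin_cases i <;> simp [h0, h1]
    · funext i; fin_cases i <;> simp [pt, h0]
  · refine ⟨some (x 1 / x 0), x 0, h0, ?_⟩
    funext i; fin_cases i <;> simp [pt]
    field_simp

theorem exists_unipotent (o : Option F) : ∃ g : GL (Fin 2) F, (g : Matrix (Fin 2) (Fin 2) F).det = 1 ∧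
      ((g : Matrix (Fin 2) (Fin 2) F) - 1) ^ 2 = 0 ∧ (g : Matrix (Fin 2) (Fin 2) F) *ᵥ pt o = pt o ∧
      ∀ x : Fin 2 → F, (g : Matrix (Fin 2) (Fin 2) F) *ᵥ x = x → ∃ c : F, x = c • pt o := by
  obtain ⟨w, hw⟩ : ∃ w : Fin 2 → F, (o = none → w = ![1, 0]) ∧ ∀ x, o = some x → w = ![-x, 1] := by
    rcases o with _ | x
    · exact ⟨![1, 0], fun _ => rfl, fun x h => absurd h (by simp)⟩
    · exact ⟨![-x, 1], ⟨fun h => absurd h (by simp), fun y h => by rw [Option.some.inj h]⟩⟩
  have hwv : w ⬝ᵥ pt o = 0 := by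
    rcases o with _ | x
    · simp [hw.1 rfl, pt, dotProduct, Fin.sum_univ_two]
    · simp [hw.2 x rfl, pt, dotProduct, Fin.sum_univ_two]
  set V : Matrix (Fin 2) (Fin 2) F := 1 + Matrix.vecMulVec (pt o) w with hV
  have hdet : V.det = 1 := by
    rw [Matrix.det_fin_two]
    rw [dotProduct, Fin.sum_univ_two] at hwv
    simp [hV, Matrix.vecMulVec_apply]
    linear_combination hwv
  have hmul : ∀ x, V *ᵥ x = x + (w ⬝ᵥ x) • pt o := by
    intro x
    rw [hV, Matrix.add_mulVec, Matrix.one_mulVec, Matrix.vecMulVec_mulVec]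
    ext i; simp [dotProduct, Fin.sum_univ_two, MulOpposite.smul_eq_mul_unop]; ring
  refine ⟨Matrix.SpecialLinearGroup.toGL ⟨V, hdet⟩, hdet, ?_, ?_, ?_⟩
  · show (V - 1) ^ 2 = 0
    rw [hV, add_sub_cancel_left, pow_two, Matrix.vecMulVec_mul_vecMulVec, hwv]
    ext i j; simp [Matrix.vecMulVec_apply]
  · show V *ᵥ pt o = pt o
    rw [hmul, hwv, zero_smul, add_zero]
  · intro x hx
    change V *ᵥ x = x at hx
    rw [hmul, add_eq_left, smul_eq_zero] at hx
    have hx' : w ⬝ᵥ x = 0 := hx.resolve_right (pt_ne_zero o)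
    rw [dotProduct, Fin.sum_univ_two] at hx'
    rcases o with _ | t
    · refine ⟨x 1, funext fun i => ?_⟩
      simp [hw.1 rfl] at hx'
      fin_cases i <;> simp [pt, hx']
    · refine ⟨x 0, funext fun i => ?_⟩
      simp [hw.2 t rfl] at hx'
      fin_cases i <;> simp [pt]
      linear_combination hx'

theorem diag_commute {T S : GL (Fin 2) F} (h01 : (T : Matrix (Fin 2) (Fin 2) F) 0 1 = 0)
    (h10 : (T : Matrix (Fin 2) (Fin 2) F) 1 0 = 0)
    (hne : QuotientGroup.mk' (Subgroup.center (GL (Fin 2) F)) T ≠ 1)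
    (hc : Commute (QuotientGroup.mk' (Subgroup.center (GL (Fin 2) F)) T)
      (QuotientGroup.mk' (Subgroup.center (GL (Fin 2) F)) S)) :
    ((S : Matrix (Fin 2) (Fin 2) F) 0 1 = 0 ∧ (S : Matrix (Fin 2) (Fin 2) F) 1 0 = 0) ∨
      (QuotientGroup.mk' (Subgroup.center (GL (Fin 2) F)) S ^ 2 = 1 ∧
        QuotientGroup.mk' (Subgroup.center (GL (Fin 2) F)) T ^ 2 = 1) := by
  set π := QuotientGroup.mk' (Subgroup.center (GL (Fin 2) F))
  obtain ⟨c, hc'⟩ := (mk_eq_iff (T * S) (S * T)).1 (by rw [map_mul, map_mul]; exact hc.eq)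
  rw [Units.val_mul, Units.val_mul] at hc'
  set A := (T : Matrix (Fin 2) (Fin 2) F) with hA
  set B := (S : Matrix (Fin 2) (Fin 2) F) with hB
  have hscal : ∀ (M : GL (Fin 2) F) (x : F), (M : Matrix (Fin 2) (Fin 2) F) = x • 1 → π M = 1 := by
    intro M x hx
    have hx0 : x ≠ 0 := fun h => Units.ne_zero M (by rw [hx, h, zero_smul])
    rw [← map_one π]
    exact ((mk_eq_iff 1 M).2 ⟨Units.mk0 x hx0, by rw [hx]; simp⟩).symm
  have hab : A 0 0 ≠ A 1 1 := by
    intro h
    refine hne (hscal T (A 0 0) ?_)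
    ext i j
    fin_cases i <;> fin_cases j <;> simp [← hA, h01, h10, h]
  have hdetA : A 0 0 * A 1 1 ≠ 0 := by
    have := (Matrix.isUnit_iff_isUnit_det A).1 T.isUnit
    rw [Matrix.det_fin_two, h01, zero_mul, sub_zero] at this
    exact this.ne_zero
  have e00 := congrFun (congrFun hc' 0) 0
  have e01 := congrFun (congrFun hc' 0) 1
  have e10 := congrFun (congrFun hc' 1) 0
  have e11 := congrFun (congrFun hc' 1) 1
  simp [Matrix.mul_apply, Fin.sum_univ_two, h01, h10] at e00 e01 e10 e11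
  have ha0 := (mul_ne_zero_iff.1 hdetA).1
  have hb0 := (mul_ne_zero_iff.1 hdetA).2
  by_cases hc1 : (c : F) = 1
  · left
    rw [hc1, one_mul] at e01 e10
    constructor
    · by_contra h
      exact hab (mul_right_cancel₀ h (by linear_combination -e01))
    · by_contra h
      exact hab (mul_right_cancel₀ h (by linear_combination e10))
  · right
    have h00 : B 0 0 = 0 := by
      by_contra h
      exact hc1 (mul_right_cancel₀ (mul_ne_zero ha0 h) (by linear_combination -e00))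
    have h11 : B 1 1 = 0 := by
      by_contra h
      exact hc1 (mul_right_cancel₀ (mul_ne_zero hb0 h) (by linear_combination -e11))
    have hB01 : B 0 1 ≠ 0 ∧ B 1 0 ≠ 0 := by
      have := ((Matrix.isUnit_iff_isUnit_det B).1 S.isUnit).ne_zero
      rw [Matrix.det_fin_two, h00, zero_mul, zero_sub, neg_ne_zero, mul_ne_zero_iff] at this
      exact this
    have h1 : A 1 1 = (c : F) * A 0 0 := mul_right_cancel₀ hB01.1 (by linear_combination e01)
    have h2 : A 0 0 = (c : F) * A 1 1 := mul_right_cancel₀ hB01.2 (by linear_combination e10)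
    constructor
    · rw [← map_pow]
      refine hscal _ (B 0 1 * B 1 0) ?_
      rw [Units.val_pow_eq_pow_val, pow_two, ← hB]
      ext i j
      fin_cases i <;> fin_cases j <;> simp [Matrix.mul_apply, Fin.sum_univ_two, h00, h11, mul_comm]
    · rw [← map_pow]
      refine hscal _ (A 0 0 * A 0 0) ?_
      rw [Units.val_pow_eq_pow_val, pow_two, ← hA]
      ext i j
      fin_cases i <;> fin_cases j <;> simp [Matrix.mul_apply, Fin.sum_univ_two, h01, h10]
      linear_combination (A 1 1) * h1 - (A 0 0) * h2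

theorem diag_fix {S : GL (Fin 2) F} (h01 : (S : Matrix (Fin 2) (Fin 2) F) 0 1 = 0)
    (h10 : (S : Matrix (Fin 2) (Fin 2) F) 1 0 = 0) :
    QuotientGroup.mk' (Subgroup.center (GL (Fin 2) F)) S ∈
      (lineStab (pt (some (0 : F)))).map (QuotientGroup.mk' (Subgroup.center (GL (Fin 2) F))) := by
  refine ⟨S, ⟨(S : Matrix (Fin 2) (Fin 2) F) 0 0, fun h => ?_, ?_⟩, rfl⟩
  · have := ((Matrix.isUnit_iff_isUnit_det _).1 S.isUnit).ne_zero
    rw [Matrix.det_fin_two, h, h01] at this
    simp at this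
  · funext i
    fin_cases i <;> simp [pt, Matrix.mulVec, dotProduct, Fin.sum_univ_two, h01, h10]

theorem diag_pow_card {S : GL (Fin 2) F} (h01 : (S : Matrix (Fin 2) (Fin 2) F) 0 1 = 0)
    (h10 : (S : Matrix (Fin 2) (Fin 2) F) 1 0 = 0) : S ^ (Fintype.card F - 1) = 1 := by
  refine Units.ext ?_
  rw [Units.val_pow_eq_pow_val, Units.val_one]
  have hd : (S : Matrix (Fin 2) (Fin 2) F) = Matrix.diagonal fun i => (S : Matrix (Fin 2) (Fin 2) F) i i := by
    ext i j; fin_cases i <;> fin_cases j <;> simp [h01, h10]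
  have hdet := ((Matrix.isUnit_iff_isUnit_det _).1 S.isUnit).ne_zero
  rw [Matrix.det_fin_two, h01, zero_mul, sub_zero, mul_ne_zero_iff] at hdet
  rw [hd, Matrix.diagonal_pow, ← Matrix.diagonal_one]
  congr 1
  funext i
  rw [Pi.pow_apply]
  fin_cases i
  · exact FiniteField.pow_card_sub_one_eq_one _ hdet.1
  · exact FiniteField.pow_card_sub_one_eq_one _ hdet.2

/-- An element fixing no point lies in a cyclic torus meeting `G` in order at least three. -/
theorem exists_torus (hq : 4 ≤ Fintype.card F)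
    (G : Subgroup (GL (Fin 2) F ⧸ Subgroup.center (GL (Fin 2) F)))
    (hG : ((Matrix.SpecialLinearGroup.toGL : Matrix.SpecialLinearGroup (Fin 2) F →* GL (Fin 2) F).range).map
      (QuotientGroup.mk' (Subgroup.center (GL (Fin 2) F))) ≤ G)
    (g : GL (Fin 2) F) (hgG : QuotientGroup.mk' (Subgroup.center (GL (Fin 2) F)) g ∈ G)
    (hg : ∀ o : Option F, g ∉ lineStab (pt o)) :
    ∃ s ∈ G, QuotientGroup.mk' (Subgroup.center (GL (Fin 2) F)) g ∈ Subgroup.zpowers s ∧
      3 ≤ orderOf s ∧ orderOf s ∣ Fintype.card F + 1 := by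
  classical
  set π := QuotientGroup.mk' (Subgroup.center (GL (Fin 2) F)) with hπ
  set A := (g : Matrix (Fin 2) (Fin 2) F) with hA
  have hroot : ∀ c : F, A.charpoly.eval c ≠ 0 := by
    intro c hc
    rw [Matrix.eval_charpoly, ← Matrix.exists_mulVec_eq_zero_iff] at hc
    obtain ⟨v, hv, hv0⟩ := hc
    rw [Matrix.sub_mulVec, sub_eq_zero, Matrix.scalar_apply, ← Matrix.smul_one_eq_diagonal,
      Matrix.smul_mulVec, Matrix.one_mulVec] at hv0
    obtain ⟨o, d, hd, rfl⟩ := exists_pt hv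
    rw [Matrix.mulVec_smul, smul_comm] at hv0
    have hv1 : c • pt o = A *ᵥ pt o := smul_right_injective _ hd hv0
    refine hg o ⟨c, fun h => ?_, hv1.symm⟩
    rw [h, zero_smul] at hv1
    have := congrArg (fun x => (↑g⁻¹ : Matrix (Fin 2) (Fin 2) F) *ᵥ x) hv1.symm
    simp only [Matrix.mulVec_zero] at this
    rw [hA, Matrix.mulVec_mulVec, ← Units.val_mul, inv_mul_cancel, Units.val_one, Matrix.one_mulVec] at this
    exact pt_ne_zero o this
  have hmon : A.charpoly.Monic := Matrix.charpoly_monic A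
  have hdeg : A.charpoly.natDegree = 2 := by rw [Matrix.charpoly_natDegree_eq_dim, Fintype.card_fin]
  have hirr : Irreducible A.charpoly := by
    rw [Polynomial.irreducible_iff_roots_eq_zero_of_degree_le_three (by omega) (by omega)]
    exact Multiset.eq_zero_of_forall_notMem fun c hc => hroot c (Polynomial.isRoot_of_mem_roots hc)
  haveI : Fact (Irreducible A.charpoly) := ⟨hirr⟩
  set K := AdjoinRoot A.charpoly
  set j : K →ₐ[F] Matrix (Fin 2) (Fin 2) F :=
    Ideal.Quotient.liftₐ (Ideal.span {A.charpoly}) (Polynomial.aeval A) (fun a ha => by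
      obtain ⟨b, rfl⟩ := Ideal.mem_span_singleton.1 ha
      rw [map_mul, Matrix.aeval_self_charpoly, zero_mul]) with hj
  have hcardK : Nat.card K = Fintype.card F ^ 2 := by
    haveI : Module.Finite F K := (AdjoinRoot.powerBasis hmon.ne_zero).finite
    rw [Module.natCard_eq_pow_finrank (K := F), Nat.card_eq_fintype_card,
      (AdjoinRoot.powerBasis hmon.ne_zero).finrank, AdjoinRoot.powerBasis_dim, hdeg]
  haveI : Finite K := Nat.finite_of_card_ne_zero (by rw [hcardK]; positivity)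
  set φ : Kˣ →* GL (Fin 2) F := Units.map (j : K →* Matrix (Fin 2) (Fin 2) F) with hφ
  set ψ := π.comp φ with hψ
  haveI : IsCyclic ↥ψ.range := isCyclic_of_surjective _ ψ.rangeRestrict_surjective
  set H := ψ.range ⊓ G with hH
  haveI : IsCyclic ↥H := Subgroup.isCyclic_of_le (inf_le_left : H ≤ ψ.range)
  obtain ⟨⟨s, hsH⟩, hs⟩ := IsCyclic.exists_generator (α := ↥H)
  have hzp : ∀ x ∈ H, x ∈ Subgroup.zpowers s := by
    intro x hx
    obtain ⟨i, hi⟩ := hs ⟨x, hx⟩
    exact ⟨i, congrArg Subtype.val hi⟩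
  have hsH' : Subgroup.zpowers s = H := le_antisymm (Subgroup.zpowers_le.2 hsH) hzp
  have horder : orderOf s = Nat.card ↥H := by rw [← Nat.card_zpowers, hsH']
  have hjr : j (AdjoinRoot.root A.charpoly) = A := Polynomial.aeval_X (R := F) A
  have hinj : Function.Injective j := (j : K →+* Matrix (Fin 2) (Fin 2) F).injective
  refine ⟨s, hsH.2, hzp _ ⟨?_, hgG⟩, ?_, ?_⟩
  · have hr0 : AdjoinRoot.root A.charpoly ≠ 0 := fun h => Units.ne_zero g (by rw [← hA, ← hjr, h, map_zero])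
    exact ⟨Units.mk0 _ hr0, congrArg π (Units.ext hjr)⟩
  · -- enough elements of determinant one
    set d : Kˣ →* Fˣ := Matrix.GeneralLinearGroup.det.comp φ with hd
    have hcardU : Nat.card Kˣ = Fintype.card F ^ 2 - 1 := by rw [Nat.card_units, hcardK]
    have hker : Fintype.card F + 1 ≤ Nat.card ↥d.ker := by
      have h1 := d.ker.card_mul_index
      rw [Subgroup.index_ker, hcardU] at h1
      have h2 : Nat.card ↥d.range ≤ Fintype.card F - 1 := by
        refine (Subgroup.card_le_card_group d.range).trans ?_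
        rw [Nat.card_units, Nat.card_eq_fintype_card]
      have h4 : (Fintype.card F + 1) * (Fintype.card F - 1) ≤ Nat.card ↥d.ker * (Fintype.card F - 1) := by
        calc (Fintype.card F + 1) * (Fintype.card F - 1) = Fintype.card F ^ 2 - 1 := by
              rw [← Nat.sq_sub_sq, one_pow]
          _ = Nat.card ↥d.ker * Nat.card ↥d.range := h1.symm
          _ ≤ _ := Nat.mul_le_mul_left _ h2
      exact Nat.le_of_mul_le_mul_right h4 (by omega)
    set χ : ↥d.ker →* GL (Fin 2) F ⧸ Subgroup.center (GL (Fin 2) F) := ψ.comp d.ker.subtype with hχ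
    have hχH : χ.range ≤ H := by
      rintro _ ⟨x, rfl⟩
      exact ⟨⟨x, rfl⟩, sl_mem hG _ (congrArg Units.val (MonoidHom.mem_ker.1 x.2))⟩
    have hχker : Nat.card ↥χ.ker ≤ 2 := by
      haveI : DecidableEq K := Classical.decEq K
      have hsub : ∀ x : ↥χ.ker, ((x : ↥d.ker) : Kˣ).val ∈ ({1, -1} : Finset K) := by
        intro x
        have hx : π (φ ((x : ↥d.ker) : Kˣ)) = π 1 := by rw [map_one]; exact x.2
        obtain ⟨c, hc⟩ := (mk_eq_iff 1 (φ ((x : ↥d.ker) : Kˣ))).1 hx.symm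
        rw [Units.val_one] at hc
        have hdet : (φ ((x : ↥d.ker) : Kˣ) : Matrix (Fin 2) (Fin 2) F).det = 1 :=
          congrArg Units.val (MonoidHom.mem_ker.1 (x : ↥d.ker).2)
        rw [hc, Matrix.det_smul, Matrix.det_one, Fintype.card_fin, mul_one] at hdet
        have hxc : ((x : ↥d.ker) : Kˣ).val = algebraMap F K c := hinj (by
          rw [AlgHom.commutes, Algebra.algebraMap_eq_smul_one]; exact hc)
        have h2 : algebraMap F K c * algebraMap F K c = 1 := by rw [← map_mul, ← pow_two, hdet, map_one]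
        rw [Finset.mem_insert, Finset.mem_singleton, hxc]
        exact mul_self_eq_one_iff.1 h2
      refine (Nat.card_le_card_of_injective (fun x : ↥χ.ker => (⟨_, hsub x⟩ : ({1, -1} : Finset K))) ?_).trans ?_
      · intro x y h
        simp only [Subtype.mk.injEq] at h
        exact Subtype.ext (Subtype.ext (Units.ext h))
      · rw [Nat.card_eq_fintype_card, Fintype.card_coe]; exact Finset.card_le_two
    have h1 := χ.ker.card_mul_index
    rw [Subgroup.index_ker] at h1
    have h3 : Nat.card ↥χ.range ≤ Nat.card ↥H := Subgroup.card_le_of_le hχH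
    have h5 : Fintype.card F + 1 ≤ 2 * Nat.card ↥H := by
      calc Fintype.card F + 1 ≤ Nat.card ↥d.ker := hker
        _ = Nat.card ↥χ.ker * Nat.card ↥χ.range := h1.symm
        _ ≤ 2 * Nat.card ↥H := Nat.mul_le_mul hχker h3
    omega
  · rw [horder]
    refine (Subgroup.card_dvd_of_le (inf_le_left : H ≤ ψ.range)).trans ?_
    have h1 := ψ.ker.card_mul_index
    rw [Subgroup.index_ker, Nat.card_units, hcardK] at h1
    set σ : Fˣ →* Kˣ := Units.map (algebraMap F K : F →* K) with hσ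
    have hle : σ.range ≤ ψ.ker := by
      rintro _ ⟨c, rfl⟩
      rw [MonoidHom.mem_ker, hψ, MonoidHom.comp_apply, ← map_one π]
      refine ((mk_eq_iff 1 _).2 ⟨c, ?_⟩).symm
      rw [Units.val_one]
      show j (algebraMap F K c) = _
      rw [AlgHom.commutes, Algebra.algebraMap_eq_smul_one]
    have h2 : Fintype.card F - 1 ∣ Nat.card ↥ψ.ker := by
      refine dvd_trans (dvd_of_eq ?_) (Subgroup.card_dvd_of_le hle)
      rw [Nat.card_congr (MonoidHom.ofInjective (f := σ) (Units.map_injective (algebraMap F K).injective)).symm.toEquiv,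
        Nat.card_units, Nat.card_eq_fintype_card]
    obtain ⟨k, hk⟩ := h2
    refine ⟨k, Nat.eq_of_mul_eq_mul_left (show 0 < Fintype.card F - 1 by omega) ?_⟩
    calc (Fintype.card F - 1) * (Fintype.card F + 1) = Fintype.card F ^ 2 - 1 := by
          rw [mul_comm, ← Nat.sq_sub_sq, one_pow]
      _ = Nat.card ↥ψ.ker * Nat.card ↥ψ.range := h1.symm
      _ = _ := by rw [hk]; ring

theorem two_case (hq : 4 ≤ Fintype.card F) (G : Subgroup (GL (Fin 2) F ⧸ Subgroup.center (GL (Fin 2) F)))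
    (hG : ((Matrix.SpecialLinearGroup.toGL : Matrix.SpecialLinearGroup (Fin 2) F →* GL (Fin 2) F).range).map
      (QuotientGroup.mk' (Subgroup.center (GL (Fin 2) F))) ≤ G) :
    ¬ ∃ 𝓐 : Finset (Subgroup ↥G), ((∀ A ∈ 𝓐, A ≠ ⊤) ∧ (∀ g : ↥G, ∃ A ∈ 𝓐, g ∈ A)) ∧ (∀ 𝓑 : Finset (Subgroup ↥G), (∀ A ∈ 𝓑, A ≠ ⊤) ∧ (∀ g : ↥G, ∃ A ∈ 𝓑, g ∈ A) → 𝓐.card ≤ 𝓑.card) ∧ (∀ A ∈ 𝓐, Group.IsNilpotent ↥A) := by
  classical
  rintro ⟨𝓐, ⟨hprop, hcov⟩, hmin, hnil⟩
  obtain ⟨p, hchar⟩ := CharP.exists F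
  haveI := hchar
  haveI : Fact p.Prime := ⟨CharP.char_is_prime F p⟩
  set π := QuotientGroup.mk' (Subgroup.center (GL (Fin 2) F)) with hπ
  have hu : ∀ o : Option F, ∃ g : GL (Fin 2) F, (g : Matrix (Fin 2) (Fin 2) F).det = 1 ∧
      ((g : Matrix (Fin 2) (Fin 2) F) - 1) ^ 2 = 0 ∧ (g : Matrix (Fin 2) (Fin 2) F) *ᵥ pt o = pt o ∧
      ∀ x : Fin 2 → F, (g : Matrix (Fin 2) (Fin 2) F) *ᵥ x = x → ∃ c : F, x = c • pt o := exists_unipotent
  choose u hud huN huf huk using hu
  choose mem hmem1 hmem2 using hcov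
  set Au : Option F → Subgroup ↥G := fun o => mem ⟨π (u o), sl_mem hG (u o) (hud o)⟩ with hAu
  have hAu_mem : ∀ o, π (u o) ∈ (Au o).map G.subtype := fun o => ⟨_, hmem2 _, rfl⟩
  have hAu_fix : ∀ o, IsPGroup p ↥((Au o).map G.subtype) ∧
      ∀ g : GL (Fin 2) F, π g ∈ (Au o).map G.subtype → g ∈ lineStab (pt o) := fun o =>
    have h := local_fix (p := p) (by omega) (huN o) (pt_ne_zero o) (huf o) (huk o)
      (nilpotent_map (hnil _ (hmem1 _))) (hAu_mem o)
    ⟨h.1, h.2.1⟩
  have hu_fix : ∀ o o', u o ∈ lineStab (pt o') → o' = o := by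
    rintro o o' ⟨c, -, hc⟩
    rw [eigen_one (huN o) (pt_ne_zero o') hc, one_smul] at hc
    obtain ⟨d, hd⟩ := huk o _ hc
    exact pt_inj hd
  have hAu_inj : Function.Injective Au := fun o o' h =>
    (hu_fix o o' ((hAu_fix o').2 _ (h ▸ hAu_mem o))).symm
  set Irr : GL (Fin 2) F ⧸ Subgroup.center (GL (Fin 2) F) → Prop :=
    fun x => ∀ o : Option F, x ∉ (lineStab (pt o)).map π with hIrr
  set 𝓔 := 𝓐.filter (fun A => ∃ s ∈ A.map G.subtype, Irr s ∧ 3 ≤ orderOf s ∧ orderOf s ∣ Fintype.card F + 1)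
    with h𝓔
  set 𝓑 := (Finset.univ.image fun o : Option F => ((lineStab (pt o)).map π).subgroupOf G) ∪ 𝓔 with h𝓑
  have hB : (∀ A ∈ 𝓑, A ≠ ⊤) ∧ ∀ g : ↥G, ∃ A ∈ 𝓑, g ∈ A := by
    constructor
    · intro A hA
      rcases Finset.mem_union.1 hA with hA | hA
      · obtain ⟨o, -, rfl⟩ := Finset.mem_image.1 hA
        intro h
        obtain ⟨o', ho'⟩ : ∃ o', o' ≠ o := ⟨if o = none then some 0 else none, by split_ifs with h' <;> simp [h', Ne.symm]⟩
        have h1 : (⟨π (u o'), sl_mem hG (u o') (hud o')⟩ : ↥G) ∈ ((lineStab (pt o)).map π).subgroupOf G :=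
          h ▸ Subgroup.mem_top _
        exact ho' (hu_fix o' o (mem_lineStab_of_mk (Subgroup.mem_subgroupOf.1 h1))).symm
      · exact hprop A (Finset.mem_filter.1 hA).1
    · rintro ⟨x, hx⟩
      by_cases h : Irr x
      · obtain ⟨g, rfl⟩ := QuotientGroup.mk'_surjective _ x
        obtain ⟨s, hsG, hgs, hs3, hsq⟩ := exists_torus hq G hG g hx (fun o ho => h o ⟨g, ho, rfl⟩)
        refine ⟨mem ⟨s, hsG⟩, Finset.mem_union_right _ (Finset.mem_filter.2 ⟨hmem1 _, s, ⟨_, hmem2 _, rfl⟩, ?_, hs3, hsq⟩), ?_⟩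
        · intro o ho
          exact h o (Subgroup.zpowers_le.2 ho hgs)
        · obtain ⟨i, hi⟩ := hgs
          have : (⟨π g, hx⟩ : ↥G) = (⟨s, hsG⟩ : ↥G) ^ i := Subtype.ext (by rw [Subgroup.coe_zpow]; exact hi.symm)
          rw [this]
          exact (mem ⟨s, hsG⟩).zpow_mem (hmem2 _) i
      · simp only [hIrr, not_forall, not_not] at h
        obtain ⟨o, ho⟩ := h
        exact ⟨_, Finset.mem_union_left _ (Finset.mem_image.2 ⟨o, Finset.mem_univ o, rfl⟩), Subgroup.mem_subgroupOf.2 ho⟩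
  -- a split torus element
  obtain ⟨a, hat⟩ : ∃ a : Fˣ, a ^ 2 ≠ 1 ∧ (Fintype.card F ≠ 5 → a ^ 4 ≠ 1) := by
    obtain ⟨a, ha⟩ := IsCyclic.exists_generator (α := Fˣ)
    have hord : orderOf a = Fintype.card F - 1 := by
      rw [orderOf_eq_card_of_forall_mem_zpowers ha, Nat.card_units, Nat.card_eq_fintype_card]
    refine ⟨a, fun h => ?_, fun h5 h => ?_⟩
    · have := Nat.le_of_dvd two_pos (orderOf_dvd_of_pow_eq_one h); omega
    · have h1 := orderOf_dvd_of_pow_eq_one h
      rw [hord] at h1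
      have h2 := Nat.le_of_dvd (by norm_num) h1
      have h3 : Fintype.card F - 1 = 3 := by omega
      rw [h3] at h1
      omega
  have htd : (Matrix.diagonal ![(a : F), (↑a⁻¹ : F)]).det = 1 := by
    rw [Matrix.det_diagonal, Fin.prod_univ_two]; simp
  set T : GL (Fin 2) F := Matrix.SpecialLinearGroup.toGL ⟨_, htd⟩ with hT
  have hTv : (T : Matrix (Fin 2) (Fin 2) F) = Matrix.diagonal ![(a : F), (↑a⁻¹ : F)] := rfl
  have hT01 : (T : Matrix (Fin 2) (Fin 2) F) 0 1 = 0 := by rw [hTv]; simp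
  have hT10 : (T : Matrix (Fin 2) (Fin 2) F) 1 0 = 0 := by rw [hTv]; simp
  have htne : ∀ k : ℕ, π T ^ k = 1 → a ^ (2 * k) = 1 := by
    intro k hk
    rw [← map_pow, ← map_one π] at hk
    obtain ⟨c, hc⟩ := (mk_eq_iff 1 (T ^ k)).1 hk.symm
    rw [Units.val_one, Units.val_pow_eq_pow_val, hTv, Matrix.diagonal_pow] at hc
    have h0 := congrFun (congrFun hc 0) 0
    have h1 := congrFun (congrFun hc 1) 1
    simp at h0 h1
    refine Units.ext ?_
    rw [Units.val_pow_eq_pow_val, Units.val_one, two_mul, pow_add]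
    calc (a : F) ^ k * (a : F) ^ k = (a : F) ^ k * ((a : F)⁻¹) ^ k := by rw [inv_pow, h1, h0]
      _ = 1 := by rw [← mul_pow, mul_inv_cancel₀ a.ne_zero, one_pow]
  have ht1 : π T ≠ 1 := fun h => hat.1 (by simpa using htne 1 (by rw [pow_one, h]))
  set tm : ↥G := ⟨π T, sl_mem hG T htd⟩ with htm
  have htA : π T ∈ (mem tm).map G.subtype := ⟨tm, hmem2 tm, rfl⟩
  -- not a unipotent member
  have h1 : ∀ o, Au o ≠ mem tm := by
    intro o h
    obtain ⟨k, hk⟩ := (hAu_fix o).1 ⟨π T, h.symm ▸ htA⟩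
    have hk' : π T ^ p ^ k = 1 := congrArg Subtype.val hk
    have h2 : π T ^ (Fintype.card F - 1) = 1 := by rw [← map_pow, diag_pow_card hT01 hT10, map_one]
    have hcop : Nat.Coprime (p ^ k) (Fintype.card F - 1) := by
      refine Nat.Coprime.pow_left k ((Fact.out : p.Prime).coprime_iff_not_dvd.2 fun hd => ?_)
      obtain ⟨m, -, hm⟩ := FiniteField.card F p
      have h3 : p ∣ Fintype.card F := hm ▸ dvd_pow_self p m.ne_zero
      have h4 := Nat.dvd_sub h3 hd
      rw [show Fintype.card F - (Fintype.card F - 1) = 1 by omega, Nat.dvd_one] at h4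
      exact (Fact.out : p.Prime).ne_one h4
    exact ht1 (orderOf_eq_one_iff.1 (Nat.eq_one_of_dvd_coprimes hcop (orderOf_dvd_of_pow_eq_one hk')
      (orderOf_dvd_of_pow_eq_one h2)))
  have h2 : ∀ o, Au o ∉ 𝓔 := by
    intro o h
    obtain ⟨-, s, hs, hirr, -⟩ := Finset.mem_filter.1 h
    obtain ⟨g, rfl⟩ := QuotientGroup.mk'_surjective _ s
    exact hirr o ⟨g, (hAu_fix o).2 g hs, rfl⟩
  have h3 : mem tm ∉ 𝓔 := by
    intro h
    obtain ⟨-, s, hs, hirr, hs3, hsq⟩ := Finset.mem_filter.1 h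
    set A := (mem tm).map G.subtype with hA
    have hAn : Group.IsNilpotent ↥A := nilpotent_map (hnil _ (hmem1 tm))
    by_cases h5 : Fintype.card F = 5
    · have hs6 : orderOf s ∣ 6 := by rw [h5] at hsq; exact hsq
      have hle : orderOf s ≤ 6 := Nat.le_of_dvd (by norm_num) hs6
      have hs2ne : s ^ 2 ≠ 1 := fun e => by
        have := Nat.le_of_dvd two_pos (orderOf_dvd_of_pow_eq_one e); omega
      have hs23 : (s ^ 2) ^ 3 = 1 := by rw [← pow_mul]; exact orderOf_dvd_iff_pow_eq_one.1 hs6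
      haveI : Fact (Nat.Prime 3) := ⟨Nat.prime_three⟩
      have ho3 : orderOf (s ^ 2) = 3 := orderOf_eq_prime hs23 hs2ne
      have ht4 : orderOf (π T) ∣ 4 := by
        refine orderOf_dvd_of_pow_eq_one ?_
        have := diag_pow_card hT01 hT10
        rw [h5] at this
        rw [← map_pow, this, map_one]
      have hcomm : Commute (π T) (s ^ 2) := CN.commute_of_coprime hAn htA (A.pow_mem hs 2)
        (by rw [ho3]; exact Nat.Coprime.coprime_dvd_left ht4 (by norm_num))
      obtain ⟨S, hS⟩ := QuotientGroup.mk'_surjective _ (s ^ 2)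
      rw [← hS] at hcomm
      rcases diag_commute hT01 hT10 ht1 hcomm with ⟨ha, hb⟩ | ⟨ha, -⟩
      · have h7 : (s ^ 2) ^ 4 = 1 := by
          have := diag_pow_card ha hb
          rw [h5] at this
          rw [← hS, ← map_pow, this, map_one]
        have := orderOf_dvd_of_pow_eq_one h7
        rw [ho3] at this
        omega
      · rw [hS] at ha
        have := orderOf_dvd_of_pow_eq_one ha
        rw [ho3] at this
        omega
    · have ht2 : π T ^ 2 ≠ 1 := fun e => hat.2 h5 (htne 2 e)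
      obtain ⟨z, hzA, hz1, hz⟩ := NilpotentCover.exists_center hAn htA ht1
      obtain ⟨Z, hZ⟩ := QuotientGroup.mk'_surjective _ z
      obtain ⟨S, hS⟩ := QuotientGroup.mk'_surjective _ s
      rcases diag_commute hT01 hT10 ht1 (hZ.symm ▸ (hz _ htA).symm) with ⟨ha, hb⟩ | ⟨-, hb⟩
      · rcases diag_commute (T := Z) (S := S) ha hb (hZ.symm ▸ hz1) (hZ.symm ▸ hS.symm ▸ hz s hs) with
          ⟨hc, hd⟩ | ⟨hc, -⟩
        · exact hirr (some 0) (hS ▸ diag_fix hc hd)
        · rw [hS] at hc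
          have := Nat.le_of_dvd two_pos (orderOf_dvd_of_pow_eq_one hc)
          omega
      · exact ht2 hb
  have hcard : (insert (mem tm) (Finset.univ.image Au ∪ 𝓔)).card ≤ 𝓐.card := by
    refine Finset.card_le_card fun A hA => ?_
    simp only [Finset.mem_insert, Finset.mem_union, Finset.mem_image] at hA
    rcases hA with rfl | ⟨o, -, rfl⟩ | hA
    · exact hmem1 _
    · exact hmem1 _
    · exact (Finset.mem_filter.1 hA).1
  have hnot : mem tm ∉ Finset.univ.image Au ∪ 𝓔 := by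
    simp only [Finset.mem_union, Finset.mem_image]
    rintro (⟨o, -, ho⟩ | h)
    · exact h1 o ho
    · exact h3 h
  rw [Finset.card_insert_of_notMem hnot, Finset.card_union_of_disjoint (Finset.disjoint_left.2 fun A hA => by
    obtain ⟨o, -, rfl⟩ := Finset.mem_image.1 hA
    exact h2 o), Finset.card_image_of_injective _ hAu_inj] at hcard
  have hBcard : 𝓑.card ≤ (Finset.univ : Finset (Option F)).card + 𝓔.card :=
    (Finset.card_union_le _ _).trans (Nat.add_le_add_right Finset.card_image_le _)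
  have := hmin 𝓑 hB
  omega

/-- A cover of a group is a finite set of proper subgroups whose union is the whole group; it is minimal when no cover has fewer members, and nilpotent when all its members are nilpotent. Let F be a finite field with q elements and n ≥ 3, or n = 2 and q ≥ 4. Then no subgroup of PGL_n(F) = GL_n(F)/Z(GL_n(F)) containing the image of SL_n(F) has a nilpotent minimal cover. -/
theorem result {F : Type*} [Field F] [Fintype F] (n : ℕ) (hn : 3 ≤ n ∨ (n = 2 ∧ 4 ≤ Fintype.card F))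
    (G : Subgroup (GL (Fin n) F ⧸ Subgroup.center (GL (Fin n) F)))
    (hG : ((Matrix.SpecialLinearGroup.toGL : Matrix.SpecialLinearGroup (Fin n) F →* GL (Fin n) F).range).map
      (QuotientGroup.mk' (Subgroup.center (GL (Fin n) F))) ≤ G) :
    ¬ ∃ 𝓐 : Finset (Subgroup ↥G), ((∀ A ∈ 𝓐, A ≠ ⊤) ∧ (∀ g : ↥G, ∃ A ∈ 𝓐, g ∈ A)) ∧ (∀ 𝓑 : Finset (Subgroup ↥G), (∀ A ∈ 𝓑, A ≠ ⊤) ∧ (∀ g : ↥G, ∃ A ∈ 𝓑, g ∈ A) → 𝓐.card ≤ 𝓑.card) ∧ (∀ A ∈ 𝓐, Group.IsNilpotent ↥A) := by
  classical
  rcases hn with hn | ⟨rfl, hq⟩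
  · exact ge_three hn G hG
  · exact two_case hq G hG

end Cfsg.Agent.S3894
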