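import Cfsg.Statements.S3895
import Cfsg.Agent.Lib.FGStruct.ManyClasses
import Cfsg.Agent.Lib.TwoGroups.OddAction

set_option autoImplicit false
open Cfsg

namespace Cfsg.Agent.S3895

universe u

/-- Without a normal 2-complement there are at most `|P| / 2` classes of 2-elements. -/
theorem two_bound {G : Type u} [Group G] [Finite G] (P : Sylow 2 G)
    (h : ¬ Cfsg.HasNormalPComplement 2 G) :
    2 * ManyClasses.kp 2 G ≤ Nat.card ↥(P : Subgroup G) := by
  classical
  haveI : Fact (Nat.Prime 2) := ⟨Nat.prime_two⟩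
  obtain ⟨E, hE, hEt⟩ : ∃ E : Subgroup G, E ≤ (P : Subgroup G) ∧ ¬ TwoFus.OddTrivial E := by
    by_contra hne
    push Not at hne
    exact h (TwoFus.hasNormalPComplement_of_oddTrivial P hne)
  unfold TwoFus.OddTrivial at hEt
  push Not at hEt
  obtain ⟨w, hw, hwo, hwc⟩ := hEt
  set C := Subgroup.centralizer (E : Set G) with hC
  obtain ⟨T⟩ : Nonempty (Sylow 2 ↥C) := inferInstance
  set T3 := (T : Subgroup ↥C).map C.subtype with hT3
  have hT3C : T3 ≤ C := Subgroup.map_subtype_le _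
  have hT3p : IsPGroup 2 ↥T3 := T.isPGroup'.map C.subtype
  have hwC : ∀ x ∈ C, w * x * w⁻¹ ∈ C := by
    intro x hx
    rw [hC, Subgroup.mem_centralizer_iff] at hx ⊢
    intro e he
    have he' : w⁻¹ * e * w ∈ E := by
      rw [Subgroup.mem_normalizer_iff.1 hw]
      simpa [mul_assoc] using he
    calc e * (w * x * w⁻¹) = w * ((w⁻¹ * e * w) * x) * w⁻¹ := by group
      _ = w * (x * (w⁻¹ * e * w)) * w⁻¹ := by rw [hx _ he']
      _ = _ := by group
  -- Frattini argument
  set T4 := T3.map (MulAut.conj w).toMonoidHom with hT4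
  have hT4C : T4 ≤ C := by
    rintro _ ⟨x, hx, rfl⟩
    exact hwC x (hT3C hx)
  have hcard : Nat.card ↥(T4.subgroupOf C) = 2 ^ (Nat.card ↥C).factorization 2 := by
    rw [Nat.card_congr (Subgroup.subgroupOfEquivOfLe hT4C).toEquiv, hT4,
      Subgroup.card_map_of_injective (MulAut.conj w).injective, hT3,
      Subgroup.card_map_of_injective C.subtype_injective, T.card_eq_multiplicity]
  obtain ⟨c, hc⟩ := MulAction.exists_smul_eq ↥C T (Sylow.ofCard (T4.subgroupOf C) hcard)
  have hcT : ∀ y : ↥C, y ∈ (T : Subgroup ↥C) → (c : G) * (y : G) * (c : G)⁻¹ ∈ T4 := by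
    intro y hy
    have : c * y * c⁻¹ ∈ ((c • T : Sylow 2 ↥C) : Subgroup ↥C) := by
      rw [Sylow.coe_subgroup_smul]
      exact Subgroup.smul_mem_pointwise_smul y (MulAut.conj c) _ hy
    rw [hc, Sylow.coe_ofCard, Subgroup.mem_subgroupOf] at this
    exact_mod_cast this
  set n₀ := w⁻¹ * (c : G) with hn₀
  have hn₀T : n₀ ∈ Subgroup.normalizer (T3 : Set G) := by
    rw [Subgroup.mem_normalizer_iff_map_conj_eq]
    refine Subgroup.eq_of_le_of_card_ge ?_
      (Subgroup.card_map_of_injective (f := (↑(MulAut.conj n₀) : G →* G)) (MulAut.conj n₀).injective).ge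
    rintro _ ⟨_, ⟨y, hy, rfl⟩, rfl⟩
    obtain ⟨t, ht, hte⟩ := hcT y hy
    show n₀ * (y : G) * n₀⁻¹ ∈ T3
    have hte' : w * t * w⁻¹ = (c : G) * (y : G) * (c : G)⁻¹ := hte
    rw [show n₀ * (y : G) * n₀⁻¹ = w⁻¹ * ((c : G) * (y : G) * (c : G)⁻¹) * w by rw [hn₀]; group, ← hte']
    simpa [mul_assoc] using ht
  have hn₀E : n₀ ∈ Subgroup.normalizer (E : Set G) :=
    (Subgroup.normalizer (E : Set G)).mul_mem ((Subgroup.normalizer (E : Set G)).inv_mem hw)
      (Subgroup.centralizer_le_normalizer _ c.2)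
  have hn₀C : n₀ ∉ C := fun hh => hwc (by
    have h2 := C.mul_mem c.2 (C.inv_mem hh)
    rwa [hn₀, mul_inv_rev, inv_inv, mul_inv_cancel_left] at h2)
  -- its odd part
  obtain ⟨u, v, huv, ⟨iu, hiu⟩, ⟨iv, hiv⟩, ⟨ku, hku⟩, hvc⟩ := PBasic.exists_pPart_mul (p := 2) n₀
  have hvodd : Odd (orderOf v) := Nat.coprime_two_right.1 hvc
  have hvT : v ∈ Subgroup.normalizer (T3 : Set G) := hiv ▸ (Subgroup.normalizer (T3 : Set G)).zpow_mem hn₀T iv
  have hvE : v ∈ Subgroup.normalizer (E : Set G) := hiv ▸ (Subgroup.normalizer (E : Set G)).zpow_mem hn₀E iv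
  have hvC : v ∉ C := by
    intro hv
    set f := E.normalizerMonoidHom with hf
    have hker : ∀ (a : G) (ha : a ∈ Subgroup.normalizer (E : Set G)), f ⟨a, ha⟩ = 1 ↔ a ∈ C := by
      intro a ha
      rw [← MonoidHom.mem_ker, hf, Subgroup.normalizerMonoidHom_ker, Subgroup.mem_subgroupOf]
    have hwu : f ⟨n₀, hn₀E⟩ = (f ⟨w, hw⟩)⁻¹ := by
      rw [← map_inv]
      have : f ⟨(c : G), Subgroup.centralizer_le_normalizer _ c.2⟩ = 1 := (hker _ _).2 c.2
      rw [show (⟨n₀, hn₀E⟩ : ↥(Subgroup.normalizer (E : Set G))) =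
        (⟨w, hw⟩ : ↥(Subgroup.normalizer (E : Set G)))⁻¹ * ⟨(c : G), Subgroup.centralizer_le_normalizer _ c.2⟩ from
          Subtype.ext rfl, map_mul, this, mul_one]
    have huE : u ∈ Subgroup.normalizer (E : Set G) := hiu ▸ (Subgroup.normalizer (E : Set G)).zpow_mem hn₀E iu
    have h1 : f ⟨n₀, hn₀E⟩ = f ⟨u, huE⟩ := by
      rw [show (⟨n₀, hn₀E⟩ : ↥(Subgroup.normalizer (E : Set G))) = ⟨u, huE⟩ * ⟨v, hvE⟩ from
        Subtype.ext huv.symm, map_mul, (hker v hvE).2 hv, mul_one]
    have h2 : orderOf (f ⟨n₀, hn₀E⟩) ∣ orderOf w := by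
      rw [hwu, orderOf_inv]
      have := orderOf_map_dvd f ⟨w, hw⟩
      rwa [Subgroup.orderOf_mk] at this
    have h3 : orderOf (f ⟨n₀, hn₀E⟩) ∣ 2 ^ ku := by
      rw [h1, ← hku]
      have := orderOf_map_dvd f ⟨u, huE⟩
      rwa [Subgroup.orderOf_mk] at this
    have h4 : orderOf (f ⟨n₀, hn₀E⟩) = 1 :=
      Nat.eq_one_of_dvd_coprimes ((Nat.coprime_two_left.mpr hwo).pow_left ku) h3 h2
    exact hn₀C ((hker n₀ hn₀E).1 (orderOf_eq_one_iff.1 h4))
  -- the 2-group `Q`
  set Q := E ⊔ T3 with hQ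
  have hEp : IsPGroup 2 ↥E := P.isPGroup'.to_le hE
  have hT3n : T3 ≤ Subgroup.normalizer (E : Set G) := hT3C.trans (Subgroup.centralizer_le_normalizer _)
  have hQp : IsPGroup 2 ↥Q := hEp.to_sup_of_normal_left' hT3p hT3n
  have hvQ : v ∈ Subgroup.normalizer (Q : Set G) := by
    rw [Subgroup.mem_normalizer_iff_map_conj_eq, hQ, Subgroup.map_sup,
      Subgroup.mem_normalizer_iff_map_conj_eq.1 hvE, Subgroup.mem_normalizer_iff_map_conj_eq.1 hvT]
  obtain ⟨P1, hP1⟩ := hQp.exists_le_sylow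
  -- central elements of the Sylow group lie in `Q`
  have hZ : ∀ z ∈ (P1 : Subgroup G), (∀ y ∈ (P1 : Subgroup G), y * z = z * y) → z ∈ Q := by
    intro z hz hzc
    have hzC : z ∈ C := by
      rw [hC, Subgroup.mem_centralizer_iff]
      exact fun e he => hzc e (hP1 (Subgroup.mem_sup_left he))
    set R := Subgroup.zpowers z ⊔ T3 with hR
    have hRC : R ≤ C := sup_le (Subgroup.zpowers_le.2 hzC) hT3C
    have hRp : IsPGroup 2 ↥R := P1.isPGroup'.to_le
      (sup_le (Subgroup.zpowers_le.2 hz) (le_sup_right.trans hP1))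
    have hTR : (T : Subgroup ↥C) ≤ R.subgroupOf C := fun y hy =>
      Subgroup.mem_subgroupOf.2 (Subgroup.mem_sup_right ⟨y, hy, rfl⟩)
    have hmax := T.is_maximal' (hRp.comap_of_injective C.subtype C.subtype_injective) hTR
    have hzT : (⟨z, hzC⟩ : ↥C) ∈ (T : Subgroup ↥C) := by
      rw [← hmax]
      exact Subgroup.mem_subgroupOf.2 (Subgroup.mem_sup_left (Subgroup.mem_zpowers z))
    exact Subgroup.mem_sup_right ⟨_, hzT, rfl⟩
  -- fixed points
  set F := (Subgroup.centralizer ({v} : Set G)).subgroupOf Q with hF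
  have hmemF : ∀ x : ↥Q, x ∈ F ↔ v * (x : G) * v⁻¹ = (x : G) := by
    intro x
    rw [hF, Subgroup.mem_subgroupOf, Subgroup.mem_centralizer_singleton_iff, mul_inv_eq_iff_eq_mul]
    exact eq_comm
  have hFidx : 4 ≤ F.index := by
    obtain ⟨j, hj⟩ := hQp.index F
    rw [hj]
    have hj2 : 2 ≤ j := by
      by_contra hlt
      push Not at hlt
      interval_cases j
      · rw [pow_zero, Subgroup.index_eq_one] at hj
        refine hvC ?_
        rw [hC, Subgroup.mem_centralizer_iff]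
        intro e he
        have h1 := (hmemF ⟨e, Subgroup.mem_sup_left he⟩).1 (hj ▸ Subgroup.mem_top _)
        exact (mul_inv_eq_iff_eq_mul.1 h1).symm
      · rw [pow_one] at hj
        obtain ⟨x, hx⟩ : ∃ x : ↥Q, x ∉ F := by
          by_contra hne
          push Not at hne
          rw [Subgroup.eq_top_iff' F |>.2 hne, Subgroup.index_top] at hj
          omega
        set y : ↥Q := ⟨v * (x : G) * v⁻¹, (Subgroup.mem_normalizer_iff.1 hvQ _).1 x.2⟩ with hy
        have hyF : y ∉ F := by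
          rw [hmemF, hy]
          intro he
          exact hx ((hmemF x).2 (mul_left_cancel (mul_right_cancel he)))
        have hdF : x⁻¹ * y ∈ F := by
          rw [Subgroup.mul_mem_iff_of_index_two hj, Subgroup.inv_mem_iff]
          exact iff_of_false hx hyF
        set d : G := (x : G)⁻¹ * (v * (x : G) * v⁻¹) with hd
        have hvd : Commute v d := by
          have := (hmemF (x⁻¹ * y)).1 hdF
          exact mul_inv_eq_iff_eq_mul.1 this
        have hiter : ∀ i : ℕ, v ^ i * (x : G) * (v ^ i)⁻¹ = (x : G) * d ^ i := by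
          intro i
          induction i with
          | zero => simp
          | succ i ih =>
            calc v ^ (i + 1) * (x : G) * (v ^ (i + 1))⁻¹ = v * (v ^ i * (x : G) * (v ^ i)⁻¹) * v⁻¹ := by
                  rw [pow_succ']; group
              _ = v * ((x : G) * d ^ i) * v⁻¹ := by rw [ih]
              _ = v * (x : G) * (d ^ i * v⁻¹) := by group
              _ = v * (x : G) * (v⁻¹ * d ^ i) := by rw [((hvd.inv_left).pow_right i).eq]
              _ = (x : G) * (d * d ^ i) := by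
                  rw [← mul_assoc, show v * (x : G) * v⁻¹ = (x : G) * d from (mul_inv_cancel_left _ _).symm, mul_assoc]
              _ = _ := by rw [pow_succ']
        have h1 := hiter (orderOf v)
        rw [pow_orderOf_eq_one, one_mul, inv_one, mul_one, left_eq_mul] at h1
        obtain ⟨k, hk⟩ := IsPGroup.iff_orderOf.1 hQp (x⁻¹ * y)
        rw [← Subgroup.orderOf_coe] at hk
        have hd1 : d = 1 := TwoFus.eq_one_of_odd_pow (p := k)
          (by rw [show d = ((x⁻¹ * y : ↥Q) : G) from rfl, hk]) hvodd h1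
        refine hx ((hmemF x).2 ?_)
        rw [hd, inv_mul_eq_one] at hd1
        exact hd1.symm
    calc (4 : ℕ) = 2 ^ 2 := rfl
      _ ≤ 2 ^ j := Nat.pow_le_pow_right (by norm_num) hj2
  -- counting
  haveI := Fintype.ofFinite ↥(P1 : Subgroup G)
  haveI := Fintype.ofFinite {c : ConjClasses G // ∀ x ∈ c.carrier, ∃ k : ℕ, orderOf x = 2 ^ k}
  set wt : ↥(P1 : Subgroup G) → ℕ := fun a =>
    if (a : G) ∈ Q then (if v * (a : G) * v⁻¹ = (a : G) then 6 else 2) else 3 with hwt
  have hfib : ∀ b, 6 ≤ ∑ a ∈ Finset.univ.filter (fun a => ManyClasses.cls P1 a = b), wt a := by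
    intro b
    obtain ⟨x, rfl⟩ := ManyClasses.cls_surjective P1 b
    by_cases hS : ∃ a, ManyClasses.cls P1 a = ManyClasses.cls P1 x ∧ (a : G) ∈ Q ∧ v * (a : G) * v⁻¹ = (a : G)
    · obtain ⟨a, hab, haQ, hav⟩ := hS
      refine le_trans ?_ (Finset.single_le_sum (f := wt) (fun _ _ => Nat.zero_le _)
        (Finset.mem_filter.2 ⟨Finset.mem_univ a, hab⟩))
      simp [hwt, haQ, hav]
    by_cases hT : ∃ a, ManyClasses.cls P1 a = ManyClasses.cls P1 x ∧ (a : G) ∈ Q
    · obtain ⟨a, hab, haQ⟩ := hT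
      have hav : v * (a : G) * v⁻¹ ≠ (a : G) := fun hh => hS ⟨a, hab, haQ, hh⟩
      have h3 := ManyClasses.orbit_fibre (m := 3) hP1 hvQ (fun t ht ht1 => by
        obtain ⟨r, rfl⟩ := Odd.of_dvd_nat hvodd ht
        omega) haQ hav
      rw [hab, Nat.card_eq_fintype_card, Fintype.card_subtype] at h3
      calc 6 ≤ (Finset.univ.filter (fun a => ManyClasses.cls P1 a = ManyClasses.cls P1 x)).card • 2 := by
            rw [smul_eq_mul]; omega
        _ ≤ _ := Finset.card_nsmul_le_sum _ _ _ fun a _ => by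
            simp only [hwt]; split_ifs <;> norm_num
    · push Not at hT
      have hxQ : (x : G) ∉ Q := hT x rfl
      obtain ⟨u, hu, hux⟩ : ∃ u ∈ (P1 : Subgroup G), u * (x : G) ≠ (x : G) * u := by
        by_contra hne
        push Not at hne
        exact hxQ (hZ _ x.2 hne)
      set x' : ↥(P1 : Subgroup G) := ⟨u, hu⟩ * x * (⟨u, hu⟩ : ↥(P1 : Subgroup G))⁻¹ with hx'
      have hx'c : ManyClasses.cls P1 x' = ManyClasses.cls P1 x :=
        Subtype.ext (ManyClasses.mk_conj u (x : G))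
      have hne : x ≠ x' := fun hh => hux (by
        have : (x : G) = u * (x : G) * u⁻¹ := congrArg Subtype.val hh
        exact mul_inv_eq_iff_eq_mul.1 this.symm)
      refine le_trans ?_ (Finset.sum_le_sum_of_subset (s := {x, x'}) ?_)
      · rw [Finset.sum_pair hne]
        simp only [hwt]
        rw [if_neg hxQ, if_neg (hT x' hx'c)]
      · intro a ha
        rcases Finset.mem_insert.1 ha with rfl | ha
        · exact Finset.mem_filter.2 ⟨Finset.mem_univ _, rfl⟩
        · rw [Finset.mem_singleton.1 ha]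
          exact Finset.mem_filter.2 ⟨Finset.mem_univ _, hx'c⟩
  have key := ManyClasses.weight_le (ManyClasses.cls P1) wt 6 hfib
  rw [← Nat.card_eq_fintype_card] at key
  set A := Finset.univ.filter (fun a : ↥(P1 : Subgroup G) => (a : G) ∈ Q) with hA
  set B := Finset.univ.filter (fun a : ↥(P1 : Subgroup G) => (a : G) ∈ Q ∧ v * (a : G) * v⁻¹ = (a : G)) with hB
  have hAc : A.card = Nat.card ↥Q := by
    rw [hA, ← Fintype.card_subtype, ← Nat.card_eq_fintype_card]
    exact Nat.card_congr ⟨fun a => ⟨a.1.1, a.2⟩, fun q => ⟨⟨q.1, hP1 q.2⟩, q.2⟩, fun _ => rfl, fun _ => rfl⟩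
  have hBc : B.card = Nat.card ↥F := by
    rw [hB, ← Fintype.card_subtype, ← Nat.card_eq_fintype_card]
    exact Nat.card_congr ⟨fun a => ⟨⟨a.1.1, a.2.1⟩, (hmemF _).2 a.2.2⟩,
      fun q => ⟨⟨q.1.1, hP1 q.1.2⟩, q.1.2, (hmemF _).1 q.2⟩, fun _ => rfl, fun _ => rfl⟩
  have hsum : ∑ a, wt a + A.card = 3 * Fintype.card ↥(P1 : Subgroup G) + 4 * B.card := by
    rw [hA, hB, Finset.card_filter, Finset.card_filter, Finset.mul_sum, ← Finset.sum_add_distrib,
      Fintype.card_eq_sum_ones, Finset.mul_sum, ← Finset.sum_add_distrib]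
    refine Finset.sum_congr rfl fun a _ => ?_
    simp only [hwt]
    split_ifs <;> simp_all
  rw [hAc, hBc, ← Nat.card_eq_fintype_card] at hsum
  have h4 : 4 * Nat.card ↥F ≤ Nat.card ↥Q := by
    rw [← F.card_mul_index, mul_comm]
    exact Nat.mul_le_mul_left _ hFidx
  have hPP : Nat.card ↥(P1 : Subgroup G) = Nat.card ↥(P : Subgroup G) := by
    rw [P1.card_eq_multiplicity, P.card_eq_multiplicity]
  have hkp : ManyClasses.kp 2 G =
      Nat.card {c : ConjClasses G // ∀ x ∈ c.carrier, ∃ k : ℕ, orderOf x = 2 ^ k} := rfl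
  omega

/-- Let G be a finite group with Sylow 2-subgroup P, and write k₂(G) for the number of conjugacy classes of G consisting of 2-elements (elements of 2-power order, the identity included). Then k₂(G) > |P|/2 if and only if G has a normal 2-complement and P has more than |P|/2 conjugacy classes. -/
theorem result {G : Type*} [Group G] [Finite G] (P : Sylow 2 G) :
    Nat.card ↥(P : Subgroup G) < 2 * Nat.card {c : ConjClasses G // ∀ x ∈ c.carrier, ∃ k : ℕ, orderOf x = 2 ^ k} ↔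
      Cfsg.HasNormalPComplement 2 G ∧ Nat.card ↥(P : Subgroup G) < 2 * Nat.card (ConjClasses ↥(P : Subgroup G)) := by
  haveI : Fact (Nat.Prime 2) := ⟨Nat.prime_two⟩
  show _ < 2 * ManyClasses.kp 2 G ↔ _
  constructor
  · intro hk
    refine ⟨by_contra fun hn => absurd (two_bound P hn) (not_le.2 hk), ?_⟩
    have := ManyClasses.kp_le_classes P
    omega
  · rintro ⟨h, hk⟩
    rwa [ManyClasses.kp_eq_classes P h]

end Cfsg.Agent.S3895
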