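import Cfsg.Statements.S3898
import Cfsg.Agent.Lib.FGStruct.ManyClasses
import Cfsg.Agent.S3895

set_option autoImplicit false
open Cfsg

namespace Cfsg.Agent.S3898

/-- Let π be a finite set of primes containing 2 and G a finite group. Write k_π(G) for the number of conjugacy classes of G consisting of π-elements (elements all of whose order's prime divisors lie in π) and |G|_π for the π-part of the order of G. If k_π(G) > |G|_π/2, then G has a normal π-complement (a normal subgroup of order prime to π whose index is a π-number) and an abelian Hall subgroup for the set of odd primes in π. -/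
theorem result {G : Type*} [Group G] [Finite G] (π : Finset ℕ) (hπ : ∀ r ∈ π, r.Prime) (h2 : 2 ∈ π)
    (hk : π.prod (fun r => r ^ (Nat.card G).factorization r) < 2 * Nat.card {c : ConjClasses G // ∀ x ∈ c.carrier, ∀ r : ℕ, r.Prime → r ∣ orderOf x → r ∈ π}) :
    (∃ N : Subgroup G, N.Normal ∧ (∀ r : ℕ, r.Prime → r ∣ Nat.card ↥N → r ∉ π) ∧ ∀ r : ℕ, r.Prime → r ∣ N.index → r ∈ π) ∧ ∃ H : Subgroup G, Cfsg.IsPiHall ((↑π : Set ℕ) \ {2}) H ∧ IsMulCommutative ↥H := by
  haveI : Fact (Nat.Prime 2) := ⟨Nat.prime_two⟩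
  have hk' : ManyClasses.part π (Nat.card G) < 2 * ManyClasses.kpi π G := hk
  have hbig : ∀ r ∈ π, r ^ (Nat.card G).factorization r < 2 * ManyClasses.kp r G := by
    intro r hrπ
    haveI := Fact.mk (hπ r hrπ)
    have h1 := ManyClasses.kpi_le_kp_mul (G := G) hπ hrπ
    rw [← ManyClasses.part_erase hrπ] at hk'
    refine Nat.lt_of_mul_lt_mul_right (a := ManyClasses.part (π.erase r) (Nat.card G)) ?_
    calc _ < 2 * ManyClasses.kpi π G := hk'
      _ ≤ 2 * (ManyClasses.kp r G * ManyClasses.part (π.erase r) (Nat.card G)) := Nat.mul_le_mul_left _ h1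
      _ = _ := by ring
  have hnc : Cfsg.HasNormalPComplement 2 G := by
    by_contra hn
    have h := Cfsg.Agent.S3895.two_bound (default : Sylow 2 G) hn
    rw [Sylow.card_eq_multiplicity] at h
    exact absurd h (not_le.2 (hbig 2 h2))
  set N := Cfsg.pResidual 2 G with hN
  have hNmem : ∀ x : G, x ∈ N ↔ (orderOf x).Coprime 2 := fun x => PBasic.mem_pResidual_iff hnc
  have hNodd : Odd (Nat.card N) :=
    Nat.coprime_two_right.1 (PBasic.hasNormalPComplement_iff_pResidual.1 hnc)
  obtain ⟨jN, hjN⟩ := PBasic.exists_index_pow_of_isPGroup_quotient (PBasic.quotient_pResidual_isPGroup 2 G)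
  have hr : ∀ r ∈ π.erase 2, Cfsg.HasNormalPComplement r ↥N ∧
      ∀ P : Sylow r ↥N, IsMulCommutative ↥(P : Subgroup ↥N) := by
    intro r hr'
    obtain ⟨hr2, hrπ⟩ := Finset.mem_erase.1 hr'
    haveI := Fact.mk (hπ r hrπ)
    have hcop : Nat.Coprime r 2 := (Nat.coprime_primes (hπ r hrπ) Nat.prime_two).2 hr2
    have key : ∀ P : Sylow r ↥N, Cfsg.HasNormalPComplement r ↥N ∧ IsMulCommutative ↥(P : Subgroup ↥N) := by
      intro P
      refine ManyClasses.odd_group_forces hNodd hr2 P ?_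
      have h1 := ManyClasses.kp_le_kp_subgroup (p := r) N (fun x ⟨k, hk⟩ => (hNmem x).2 (hk ▸ hcop.pow_left k))
      have h3 : Nat.card ↥(P : Subgroup ↥N) ≤ r ^ (Nat.card G).factorization r := by
        rw [P.card_eq_multiplicity]
        exact Nat.pow_le_pow_right (hπ r hrπ).pos ((Nat.factorization_le_iff_dvd Nat.card_pos.ne'
          Nat.card_pos.ne').2 (Subgroup.card_subgroup_dvd_card N) r)
      have := hbig r hrπ
      omega
    exact ⟨(key default).1, fun P => (key P).2⟩
  have hσ : ∀ r ∈ π.erase 2, r.Prime := fun r hr' => hπ r (Finset.mem_of_mem_erase hr')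
  obtain ⟨M, hM, hmem, hidx, H, ⟨hH1, hH2⟩, hHab⟩ := ManyClasses.exists_pi_complement (π.erase 2) hσ
    (fun r hr' => (hr r hr').1) (fun r hr' => (hr r hr').2)
  have hmemG : ∀ x : G, x ∈ M.map N.subtype ↔ ∀ r ∈ π, (orderOf x).Coprime r := by
    intro x
    constructor
    · rintro ⟨y, hy, rfl⟩ r hrπ
      rcases eq_or_ne r 2 with rfl | hr2
      · exact (hNmem _).1 y.2
      · rw [Subgroup.subtype_apply, Subgroup.orderOf_coe]
        exact (hmem y).1 hy r (Finset.mem_erase.2 ⟨hr2, hrπ⟩)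
    · intro hx
      refine ⟨⟨x, (hNmem x).2 (hx 2 h2)⟩, (hmem _).2 fun r hr' => ?_, rfl⟩
      rw [Subgroup.orderOf_mk]
      exact hx r (Finset.mem_of_mem_erase hr')
  refine ⟨⟨M.map N.subtype, ⟨fun x hx g => ?_⟩, fun r hrp hd hrπ => ?_, fun r hrp hd => ?_⟩,
    H.map N.subtype, ⟨fun r hrp hd => ?_, fun r hrp hrσ hd => ?_⟩, ?_⟩
  · rw [hmemG] at hx ⊢
    rwa [show g * x * g⁻¹ = (MulAut.conj g).toMonoidHom x from rfl,
      orderOf_injective _ (MulAut.conj g).injective]
  · haveI := Fact.mk hrp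
    obtain ⟨x, hx⟩ := exists_prime_orderOf_dvd_card' r hd
    have h1 := (hmemG (x : G)).1 x.2 r hrπ
    rw [Subgroup.orderOf_coe, hx, Nat.coprime_self] at h1
    exact hrp.ne_one h1
  · rw [Subgroup.index_map_subtype] at hd
    rcases hrp.dvd_mul.1 hd with hd | hd
    · exact Finset.mem_of_mem_erase (hidx r hrp hd)
    · rw [hjN] at hd
      rw [(Nat.prime_dvd_prime_iff_eq hrp Nat.prime_two).1 (hrp.dvd_of_dvd_pow hd)]
      exact h2
  · rw [Subgroup.card_map_of_injective N.subtype_injective] at hd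
    have h := hH1 r hrp hd
    rw [Finset.mem_coe, Finset.mem_erase] at h
    exact ⟨Finset.mem_coe.2 h.2, h.1⟩
  · obtain ⟨hrπ, hr2⟩ := hrσ
    rw [Subgroup.index_map_subtype] at hd
    rcases hrp.dvd_mul.1 hd with hd | hd
    · exact hH2 r hrp (Finset.mem_coe.2 (Finset.mem_erase.2 ⟨hr2, hrπ⟩)) hd
    · rw [hjN] at hd
      exact hr2 ((Nat.prime_dvd_prime_iff_eq hrp Nat.prime_two).1 (hrp.dvd_of_dvd_pow hd))
  · haveI := hHab
    infer_instance

end Cfsg.Agent.S3898
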