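import Cfsg.Statements.S3901
import Cfsg.Agent.Lib.FGStruct.OutsidePrimePower

set_option autoImplicit false
open Cfsg

namespace Cfsg.Agent.S3901

open OutsidePP

/-- An automorphism of period two without fixed points inverts an abelian group. -/
theorem inverts {V : Type*} [CommGroup V] {f : MulAut V} (h2 : ∀ v, f (f v) = v)
    (hfix : ∀ v, f v = v → v = 1) (v : V) : f v = v⁻¹ :=
  eq_inv_of_mul_eq_one_right (hfix (v * f v) (by rw [map_mul, h2, mul_comm]))

/-- Three fixed-point-free automorphisms `f`, `g`, `f g` of period two force the trivial group. -/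
theorem three_inverts {V : Type*} [CommGroup V] [Finite V] {r : ℕ} [Fact r.Prime] (hr : r ≠ 2)
    (hV : IsPGroup r V) {f g : MulAut V} (hf2 : ∀ v, f (f v) = v) (hg2 : ∀ v, g (g v) = v)
    (hfg2 : ∀ v, (f * g) ((f * g) v) = v) (hf : ∀ v, f v = v → v = 1) (hg : ∀ v, g v = v → v = 1)
    (hfg : ∀ v, (f * g) v = v → v = 1) (v : V) : v = 1 := by
  have h1 := inverts hfg2 hfg v
  rw [MulAut.mul_apply, inverts hg2 hg, inverts hf2 hf, inv_inv] at h1
  have h2 : v ^ 2 = 1 := by rw [pow_two]; nth_rewrite 2 [h1]; rw [mul_inv_cancel]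
  obtain ⟨k, hk⟩ := IsPGroup.iff_orderOf.1 hV v
  rw [← orderOf_eq_one_iff]
  exact Nat.eq_one_of_dvd_coprimes
    (((Nat.coprime_primes (Fact.out : r.Prime) Nat.prime_two).2 hr).pow_left k) (hk ▸ dvd_rfl)
    (orderOf_dvd_of_pow_eq_one h2)

theorem exists_lifts {K : Type*} [Group K] [Finite K] {M : Subgroup K} [M.Normal] (hpp : PP M)
    (hns : ¬ Group.IsSolvable (K ⧸ M)) :
    ∃ a b : K, a ∉ M ∧ b ∉ M ∧ a * b ∉ M ∧ a * a ∈ M ∧ b * b ∈ M ∧ a * b * (a * b) ∈ M ∧
      (∃ i, orderOf a = 2 ^ i) ∧ (∃ i, orderOf b = 2 ^ i) ∧ ∃ i, orderOf (a * b) = 2 ^ i := by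
  obtain ⟨x, y, hx, hy, hxy, hne⟩ := exists_four (pp_quotient M hpp) hns
  obtain ⟨a, rfl⟩ := QuotientGroup.mk_surjective x
  obtain ⟨b, rfl⟩ := QuotientGroup.mk_surjective y
  have hxy2 : orderOf ((a * b : K) : K ⧸ M) = 2 := by
    rw [QuotientGroup.mk_mul]
    haveI : Fact (Nat.Prime 2) := ⟨Nat.prime_two⟩
    refine orderOf_eq_prime ?_ fun e => hne ?_
    · rw [hxy.mul_pow, ← hx, pow_orderOf_eq_one, one_mul, hx, ← hy, pow_orderOf_eq_one]
    · rw [mul_eq_one_iff_eq_inv] at e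
      rw [e]
      exact inv_eq_of_mul_eq_one_right (by rw [← pow_two, ← hy, pow_orderOf_eq_one])
  have key : ∀ c : K, orderOf (c : K ⧸ M) = 2 → c ∉ M ∧ c * c ∈ M ∧ ∃ i, orderOf c = 2 ^ i := by
    intro c hc
    have hcM : c ∉ M := fun h => by
      rw [(QuotientGroup.eq_one_iff c).2 h, orderOf_one] at hc
      omega
    refine ⟨hcM, ?_, ?_⟩
    · rw [← QuotientGroup.eq_one_iff, QuotientGroup.mk_mul, ← pow_two, ← hc, pow_orderOf_eq_one]
    · obtain ⟨q, k, hq, hk, he⟩ := exists_prime M hpp hcM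
      have hd : 2 ∣ q ^ k := by
        rw [← he, ← hc]; exact orderOf_map_dvd (QuotientGroup.mk' M) c
      rw [← (Nat.prime_dvd_prime_iff_eq Nat.prime_two hq).1 (Nat.prime_two.dvd_of_dvd_pow hd)] at he
      exact ⟨k, he⟩
  obtain ⟨ha, ha2, hao⟩ := key a hx
  obtain ⟨hb, hb2, hbo⟩ := key b hy
  obtain ⟨hab, hab2, habo⟩ := key (a * b) hxy2
  exact ⟨a, b, ha, hb, hab, ha2, hb2, hab2, hao, hbo, habo⟩

/-- A faithful action with fixed points only for `r`-elements outside a nilpotent normal subgroup. -/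
theorem no_action {V : Type*} [CommGroup V] [Finite V] [Nontrivial V] {r : ℕ} [Fact r.Prime] (hr : r ≠ 2)
    (hV : IsPGroup r V) (K : Subgroup (MulAut V)) (M : Subgroup ↥K) [M.Normal]
    (hnil : Group.IsNilpotent ↥M) (hpp : PP M)
    (hfix : ∀ a : ↥K, a ∉ M → ∀ v : V, (a : MulAut V) v = v → v ≠ 1 → ∃ i, orderOf a = r ^ i)
    (hns : ¬ Group.IsSolvable (↥K ⧸ M)) : False := by
  classical
  haveI : Finite (MulAut V) := Finite.of_injective (fun e : MulAut V => (e : V → V)) DFunLike.coe_injective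
  haveI := hnil
  haveI : Fact (Nat.Prime 2) := ⟨Nat.prime_two⟩
  obtain ⟨a, b, haM, hbM, habM, ha2, hb2, hab2, hao, hbo, habo⟩ := exists_lifts hpp hns
  have hfpf : ∀ c : ↥K, c ∉ M → (∃ i, orderOf c = 2 ^ i) → ∀ v : V, (c : MulAut V) v = v → v = 1 := by
    rintro c hc ⟨i, hi⟩ v hv
    by_contra hv1
    obtain ⟨j, hj⟩ := hfix c hc v hv hv1
    refine hc ?_
    have : orderOf c = 1 := Nat.eq_one_of_dvd_coprimes
      (((Nat.coprime_primes Nat.prime_two (Fact.out : r.Prime)).2 hr.symm).pow i j)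
      (hi ▸ dvd_rfl) (hj ▸ dvd_rfl)
    rw [orderOf_eq_one_iff.1 this]
    exact M.one_mem
  -- `M` is a 2-group
  have hM2 : ∀ m ∈ M, ∃ i, orderOf m = 2 ^ i := by
    suffices h : IsPGroup 2 ↥M by
      intro m hm
      obtain ⟨i, hi⟩ := IsPGroup.iff_orderOf.1 h ⟨m, hm⟩
      exact ⟨i, by rwa [Subgroup.orderOf_mk] at hi⟩
    by_contra hnot
    obtain ⟨q, hq, hqM, hq2⟩ : ∃ q : ℕ, q.Prime ∧ q ∣ Nat.card ↥M ∧ q ≠ 2 := by
      by_contra hne
      push Not at hne
      refine hnot (IsPGroup.of_card (n := (Nat.card ↥M).primeFactorsList.length) ?_)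
      exact Nat.eq_prime_pow_of_unique_prime_dvd Nat.card_pos.ne' fun {d} hd hdM => hne d hd hdM
    haveI := Fact.mk hq
    obtain ⟨W⟩ : Nonempty (Sylow q ↥M) := inferInstance
    haveI hWn : (W : Subgroup ↥M).Normal :=
      Sylow.normal_of_normalizerCondition Group.normalizerCondition_of_isNilpotent W
    haveI : (W : Subgroup ↥M).Characteristic := Sylow.characteristic_of_normal W inferInstance
    set W3 := (W : Subgroup ↥M).map M.subtype with hW3
    haveI hW3n : W3.Normal := inferInstance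
    have hW3p : IsPGroup q ↥W3 := W.isPGroup'.map M.subtype
    have hW3ne : W3 ≠ ⊥ := by
      intro h
      rw [hW3, Subgroup.map_eq_bot_iff_of_injective _ M.subtype_injective] at h
      exact W.ne_bot_of_dvd_card hqM h
    set U := W3 ⊓ Subgroup.centralizer (W3 : Set ↥K) with hU
    have hUne : U ≠ ⊥ := ThompsonNPC.center_ne_bot hW3p hW3ne
    haveI hUn : U.Normal := by
      haveI : (Subgroup.centralizer (W3 : Set ↥K)).Normal := Subgroup.normal_centralizer
      rw [hU]; infer_instance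
    have hUM : U ≤ M := inf_le_left.trans (Subgroup.map_subtype_le _)
    letI : CommGroup ↥U := { (inferInstance : Group ↥U) with
      mul_comm := fun u v => Subtype.ext (Subgroup.mem_centralizer_iff.1 v.2.2 _ u.2.1) }
    have hUp : IsPGroup q ↥U := hW3p.to_le inf_le_left
    have hcomm2 : ∀ c : ↥K, c * c ∈ M → (∃ i, orderOf c = 2 ^ i) → ∀ u ∈ U, Commute (c * c) u := by
      rintro c hc ⟨i, hi⟩ u hu
      obtain ⟨k, hk⟩ := IsPGroup.iff_orderOf.1 hUp ⟨u, hu⟩
      rw [Subgroup.orderOf_mk] at hk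
      refine CN.commute_of_coprime hnil hc (hUM hu) ?_
      have : orderOf (c * c) ∣ 2 ^ i := by
        rw [← pow_two, ← hi]; exact orderOf_pow_dvd 2
      rw [hk]
      exact Nat.Coprime.coprime_dvd_left this (((Nat.coprime_primes Nat.prime_two hq).2 hq2.symm).pow i k)
    have hfix2 : ∀ c : ↥K, c ∉ M → (∃ i, orderOf c = 2 ^ i) → ∀ u : ↥U,
        (MulAut.conjNormal c : MulAut ↥U) u = u → u = 1 := by
      rintro c hc ⟨i, hi⟩ u hu
      have h1 : c * (u : ↥K) * c⁻¹ = u := by rw [← MulAut.conjNormal_apply]; exact congrArg Subtype.val hu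
      obtain ⟨k, hk⟩ := IsPGroup.iff_orderOf.1 hUp u
      refine Subtype.ext (eq_one_of_commute hpp hc (hUM u.2) (mul_inv_eq_iff_eq_mul.1 h1) ?_)
      rw [hi, Subgroup.orderOf_coe, hk]
      exact ((Nat.coprime_primes Nat.prime_two hq).2 hq2.symm).pow i k
    have hper : ∀ c : ↥K, c * c ∈ M → (∃ i, orderOf c = 2 ^ i) → ∀ u : ↥U,
        (MulAut.conjNormal c : MulAut ↥U) ((MulAut.conjNormal c : MulAut ↥U) u) = u := by
      intro c hc hi u
      refine Subtype.ext ?_
      rw [MulAut.conjNormal_apply, MulAut.conjNormal_apply]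
      calc c * (c * (u : ↥K) * c⁻¹) * c⁻¹ = c * c * (u : ↥K) * (c * c)⁻¹ := by group
        _ = u := by rw [(hcomm2 c hc hi u u.2).eq, mul_inv_cancel_right]
    refine hUne ((Subgroup.eq_bot_iff_forall U).2 fun u hu => ?_)
    have := three_inverts hq2 hUp (f := MulAut.conjNormal a) (g := MulAut.conjNormal b)
      (hper a ha2 hao) (hper b hb2 hbo) (by rw [← map_mul]; exact hper _ hab2 habo)
      (hfix2 a haM hao) (hfix2 b hbM hbo) (by rw [← map_mul]; exact hfix2 _ habM habo) ⟨u, hu⟩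
    exact congrArg Subtype.val this
  have hMne : M ≠ ⊥ := by
    intro h
    have hsq : ∀ c : ↥K, c * c ∈ M → ∀ v : V, (c : MulAut V) ((c : MulAut V) v) = v := by
      intro c hc v
      rw [h, Subgroup.mem_bot] at hc
      rw [← MulAut.mul_apply, ← Subgroup.coe_mul, hc, Subgroup.coe_one, MulAut.one_apply]
    obtain ⟨v, hv⟩ := exists_ne (1 : V)
    exact hv (three_inverts hr hV (hsq a ha2) (hsq b hb2) (hsq _ hab2) (hfpf a haM hao) (hfpf b hbM hbo)
      (hfpf _ habM habo) v)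
  obtain ⟨p, hp, hpd, hp2, hpr⟩ := exists_odd_prime hns r Fact.out
  haveI := Fact.mk hp
  obtain ⟨x, hx⟩ := exists_prime_orderOf_dvd_card' (G := ↥K) p
    (hpd.trans (Subgroup.card_quotient_dvd_card M))
  have hxp : x ^ p = 1 := hx ▸ pow_orderOf_eq_one x
  have hxM : x ∉ M := fun h => by
    obtain ⟨i, hi⟩ := hM2 x h
    rw [hx] at hi
    exact hp2 ((Nat.prime_dvd_prime_iff_eq hp Nat.prime_two).1 (hp.dvd_of_dvd_pow (dvd_of_eq hi)))
  set A := (Subgroup.center ↥M).map M.subtype with hA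
  haveI hAn : A.Normal := inferInstance
  have hAM : A ≤ M := Subgroup.map_subtype_le _
  have hAc : ∀ u ∈ A, ∀ w ∈ A, u * w = w * u := by
    rintro _ ⟨u, hu, rfl⟩ _ ⟨w, -, rfl⟩
    exact (congrArg Subtype.val (Subgroup.mem_center_iff.1 hu w)).symm
  have hcop : (Nat.card ↥A).Coprime (Nat.card V) := by
    obtain ⟨k, hk⟩ := IsPGroup.iff_card.1 hV
    rw [hk]
    refine Nat.Coprime.pow_right k ((Nat.coprime_comm).1 ?_)
    rw [(Fact.out : r.Prime).coprime_iff_not_dvd]
    intro hd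
    obtain ⟨u, hu⟩ := exists_prime_orderOf_dvd_card' r hd
    obtain ⟨i, hi⟩ := hM2 u (hAM u.2)
    rw [Subgroup.orderOf_coe, hu] at hi
    exact hr ((Nat.prime_dvd_prime_iff_eq (Fact.out : r.Prime) Nat.prime_two).1
      ((Fact.out : r.Prime).dvd_of_dvd_pow (dvd_of_eq hi)))
  have hfixA : ∀ u ∈ A, x * u = u * x → u = 1 := by
    intro u hu hc
    obtain ⟨i, hi⟩ := hM2 u (hAM hu)
    refine eq_one_of_commute hpp hxM (hAM hu) hc ?_
    rw [hx, hi]
    exact ((Nat.coprime_primes hp Nat.prime_two).2 hp2).pow_right i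
  have hux : ∀ u ∈ A, u * x ∉ M := fun u hu h => hxM ((M.mul_mem_cancel_left (hAM hu)).1 h)
  have hfixV : ∀ u ∈ A, ∀ v : V, K.subtype (u * x) v = v → v = 1 := by
    intro u hu v hv
    by_contra hv1
    obtain ⟨i, hi⟩ := hfix _ (hux u hu) v hv hv1
    have hd : p ∣ r ^ i := by
      rw [← hi]
      have h1 : orderOf ((u * x : ↥K) : ↥K ⧸ M) ∣ orderOf (u * x) := orderOf_map_dvd (QuotientGroup.mk' M) _
      rw [QuotientGroup.mk_mul, (QuotientGroup.eq_one_iff u).2 (hAM hu), one_mul] at h1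
      refine Eq.subst (motive := fun n => n ∣ orderOf (u * x)) ?_ h1
      refine orderOf_eq_prime ?_ ?_
      · rw [← QuotientGroup.mk_pow, hxp, QuotientGroup.mk_one]
      · rwa [Ne, QuotientGroup.eq_one_iff]
    exact hpr ((Nat.prime_dvd_prime_iff_eq hp Fact.out).1 (hp.dvd_of_dvd_pow hd))
  have hAtriv := kernel_trivial A hAc K.subtype hp hxp (fun u hu => hAn.conj_mem u hu x) hfixA hfixV hcop
  haveI : Nontrivial ↥M := (Subgroup.nontrivial_iff_ne_bot M).2 hMne
  refine Group.IsNilpotent.center_ne_bot ↥M ((Subgroup.eq_bot_iff_forall _).2 fun u hu => ?_)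
  exact Subtype.ext (K.subtype_injective ((hAtriv _ ⟨u, hu, rfl⟩).trans (map_one _).symm))

/-- The main statement. -/
theorem main {G : Type*} [Group G] [Finite G] (N : Subgroup G) [N.Normal]
    (hns : ¬ Group.IsSolvable ↥N) (h : PP N) : Group.IsSolvable (G ⧸ N) := by
  classical
  by_contra hq
  obtain ⟨r, hr, hrN, hr2⟩ : ∃ r : ℕ, r.Prime ∧ r ∣ Nat.card ↥N ∧ r ≠ 2 := by
    by_contra hne
    push Not at hne
    refine hns ?_
    haveI : Fact (Nat.Prime 2) := ⟨Nat.prime_two⟩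
    haveI : Group.IsNilpotent ↥N := (IsPGroup.of_card (p := 2) (n := (Nat.card ↥N).primeFactorsList.length)
      (Nat.eq_prime_pow_of_unique_prime_dvd Nat.card_pos.ne' fun {d} hd hdN => hne d hd hdN)).isNilpotent
    infer_instance
  haveI := Fact.mk hr
  obtain ⟨R⟩ : Nonempty (Sylow r ↥N) := inferInstance
  have hF := Sylow.normalizer_sup_eq_top R
  set R3 := (R : Subgroup ↥N).map N.subtype with hR3
  have hR3p : IsPGroup r ↥R3 := R.isPGroup'.map N.subtype
  have hR3ne : R3 ≠ ⊥ := by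
    intro h
    rw [hR3, Subgroup.map_eq_bot_iff_of_injective _ N.subtype_injective] at h
    exact R.ne_bot_of_dvd_card hrN h
  set V := R3 ⊓ Subgroup.centralizer (R3 : Set G) with hV
  have hVN : V ≤ N := inf_le_left.trans (Subgroup.map_subtype_le _)
  have hVp : IsPGroup r ↥V := hR3p.to_le inf_le_left
  haveI : Nontrivial ↥V := (Subgroup.nontrivial_iff_ne_bot V).2 (ThompsonNPC.center_ne_bot hR3p hR3ne)
  letI : CommGroup ↥V := { (inferInstance : Group ↥V) with
    mul_comm := fun u v => Subtype.ext (Subgroup.mem_centralizer_iff.1 v.2.2 _ u.2.1) }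
  -- a minimal supplement to `N` in the normalizer of `V`
  haveI : Finite (Subgroup G) := inferInstance
  obtain ⟨H, ⟨hHV, hHN⟩, hmin⟩ := WellFounded.has_min (r := (· < ·))
    (wellFounded_lt (α := Subgroup G))
    {H : Subgroup G | H ≤ Subgroup.normalizer (V : Set G) ∧ H ⊔ N = ⊤}
    ⟨Subgroup.normalizer (V : Set G), le_rfl, top_le_iff.1 (hF ▸ sup_le_sup_right
      (ThompsonNPC.normalizer_le_normalizer_center (p := r) R3) N)⟩
  set f : ↥H →* G ⧸ N := (QuotientGroup.mk' N).comp H.subtype with hf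
  have hfs : Function.Surjective f := by
    intro y
    obtain ⟨g, rfl⟩ := QuotientGroup.mk'_surjective N y
    obtain ⟨u, hu, n, hn, rfl⟩ := Subgroup.mem_sup_of_normal_right.1 (hHN.symm ▸ Subgroup.mem_top g : g ∈ H ⊔ N)
    refine ⟨⟨u, hu⟩, ?_⟩
    show QuotientGroup.mk' N u = QuotientGroup.mk' N (u * n)
    rw [map_mul, QuotientGroup.mk'_apply N n, (QuotientGroup.eq_one_iff n).2 hn, mul_one]
  set M := N.subgroupOf H with hM
  have hMfr : M ≤ frattini ↥H := by
    refine le_iInf₂ fun L hL => ?_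
    by_contra hML
    have htop : L ⊔ M = ⊤ := hL.2 _ (lt_of_le_of_ne le_sup_left fun e => hML (le_sup_right.trans e.symm.le))
    have hlt : L.map H.subtype < H := by
      refine lt_of_le_of_ne (Subgroup.map_subtype_le _) fun e => hL.1 ?_
      rw [eq_top_iff]
      intro y _
      obtain ⟨z, hz, hzy⟩ : (y : G) ∈ L.map H.subtype := e.symm ▸ y.2
      rwa [← Subtype.ext hzy]
    refine hmin (L.map H.subtype) ⟨(Subgroup.map_subtype_le _).trans hHV, ?_⟩ hlt
    rw [eq_top_iff, ← hHN]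
    refine sup_le ?_ le_sup_right
    intro y hy
    obtain ⟨l, hl, m, hm, hlm⟩ := Subgroup.mem_sup_of_normal_right.1
      (htop.symm ▸ Subgroup.mem_top (⟨y, hy⟩ : ↥H) : (⟨y, hy⟩ : ↥H) ∈ L ⊔ M)
    rw [show y = (l : G) * (m : G) from (congrArg Subtype.val hlm).symm]
    exact Subgroup.mul_mem _ (Subgroup.mem_sup_left ⟨l, hl, rfl⟩)
      (Subgroup.mem_sup_right (Subgroup.mem_subgroupOf.1 hm))
  haveI hMnil : Group.IsNilpotent ↥M := by
    haveI := frattini_nilpotent (G := ↥H)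
    exact Group.nilpotent_of_mulEquiv (Subgroup.subgroupOfEquivOfLe hMfr)
  have hppH : PP M := by
    intro x hx
    rw [← Subgroup.orderOf_coe]
    exact h _ fun hh => hx (Subgroup.mem_subgroupOf.2 hh)
  have hfixH : ∀ x : ↥H, x ∉ M → ∀ v ∈ V, v ≠ 1 → Commute (x : G) v → ∃ i, orderOf x = r ^ i := by
    intro x hx v hv hv1 hc
    have hxN : (x : G) ∉ N := fun hh => hx (Subgroup.mem_subgroupOf.2 hh)
    obtain ⟨q, k, hq, hk, he⟩ := exists_prime N h hxN
    by_cases hqr : q = r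
    · exact ⟨k, by rw [← Subgroup.orderOf_coe, he, hqr]⟩
    · refine absurd (eq_one_of_commute h hxN (hVN hv) hc ?_) hv1
      obtain ⟨j, hj⟩ := IsPGroup.iff_orderOf.1 hVp ⟨v, hv⟩
      rw [Subgroup.orderOf_mk] at hj
      rw [he, hj]
      exact ((Nat.coprime_primes hq hr).2 hqr).pow k j
  set ρ : ↥H →* MulAut ↥V := V.normalizerMonoidHom.comp (Subgroup.inclusion hHV) with hρ
  have hρv : ∀ (x : ↥H) (v : ↥V), ((ρ x v : ↥V) : G) = (x : G) * (v : G) * (x : G)⁻¹ := fun x v => rfl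
  set φ := ρ.rangeRestrict with hφ
  have hφs : Function.Surjective φ := ρ.rangeRestrict_surjective
  haveI : Finite (MulAut ↥V) := Finite.of_injective (fun e : MulAut ↥V => (e : ↥V → ↥V)) DFunLike.coe_injective
  set M' := M.map φ with hM'
  haveI : M'.Normal := Subgroup.Normal.map inferInstance φ hφs
  haveI : Group.IsNilpotent ↥M' :=
    Group.nilpotent_of_surjective (φ.subgroupMap M) (MonoidHom.subgroupMap_surjective φ M)
  refine no_action hr2 hVp ρ.range M' inferInstance (pp_map hppH φ hφs) ?_ ?_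
  · intro a ha v hv hv1
    obtain ⟨x, rfl⟩ := hφs a
    have hxM : x ∉ M := fun hh => ha ⟨x, hh, rfl⟩
    obtain ⟨i, hi⟩ := hfixH x hxM v v.2 (fun e => hv1 (Subtype.ext e))
      (mul_inv_eq_iff_eq_mul.1 (by rw [← hρv]; exact congrArg Subtype.val hv))
    obtain ⟨j, -, hj⟩ := (Nat.dvd_prime_pow hr).1 (hi ▸ orderOf_map_dvd φ x)
    exact ⟨j, hj⟩
  · intro hsol
    set g : ↥H →* ↥ρ.range ⧸ M' := (QuotientGroup.mk' M').comp φ with hg
    have hgs : Function.Surjective g := (QuotientGroup.mk'_surjective M').comp hφs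
    set Y := g.ker.map f with hY
    haveI : Y.Normal := Subgroup.Normal.map inferInstance f hfs
    have hYp : IsPGroup r ↥Y := by
      rw [IsPGroup.iff_orderOf]
      rintro ⟨_, x, hx, rfl⟩
      suffices ∃ k, orderOf (f x) = r ^ k by
        obtain ⟨k, hk⟩ := this
        exact ⟨k, (Subgroup.orderOf_mk _ _).trans hk⟩
      by_cases h1 : f x = 1
      · exact ⟨0, by rw [h1, orderOf_one, pow_zero]⟩
      obtain ⟨m, hm, hmx⟩ : φ x ∈ M' := by
        rw [← QuotientGroup.eq_one_iff]; exact hx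
      set k := m⁻¹ * x with hk
      have hkρ : φ k = 1 := by rw [hk, map_mul, map_inv, hmx, inv_mul_cancel]
      have hfk : f k = f x := by
        rw [hk, map_mul, map_inv, show f m = 1 from (QuotientGroup.eq_one_iff _).2 (Subgroup.mem_subgroupOf.1 hm),
          inv_one, one_mul]
      have hkM : k ∉ M := fun hh => h1 (by
        rw [← hfk]; exact (QuotientGroup.eq_one_iff _).2 (Subgroup.mem_subgroupOf.1 hh))
      obtain ⟨v, hv⟩ := exists_ne (1 : ↥V)
      have hkv : (k : G) * (v : G) * (k : G)⁻¹ = v := by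
        rw [← hρv]
        have : ρ k = 1 := congrArg Subtype.val hkρ
        rw [this, MulAut.one_apply]
      obtain ⟨i, hi⟩ := hfixH k hkM v v.2 (fun e => hv (Subtype.ext e)) (mul_inv_eq_iff_eq_mul.1 hkv)
      obtain ⟨j, -, hj⟩ := (Nat.dvd_prime_pow hr).1 (hfk ▸ hi ▸ orderOf_map_dvd f k)
      exact ⟨j, hj⟩
    haveI : Group.IsNilpotent ↥Y := hYp.isNilpotent
    haveI : Group.IsSolvable ((G ⧸ N) ⧸ Y) := by
      haveI := hsol
      haveI : Group.IsSolvable (↥H ⧸ g.ker) :=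
        Group.isSolvable_of_surjective (f := (QuotientGroup.quotientKerEquivOfSurjective g hgs).symm.toMonoidHom)
          (QuotientGroup.quotientKerEquivOfSurjective g hgs).symm.surjective
      refine Group.isSolvable_of_surjective
        (f := QuotientGroup.lift g.ker ((QuotientGroup.mk' Y).comp f) fun x hx =>
          (QuotientGroup.eq_one_iff _).2 ⟨x, hx, rfl⟩) ?_
      intro y
      obtain ⟨x, rfl⟩ := (QuotientGroup.mk'_surjective Y).comp hfs y
      exact ⟨(x : ↥H ⧸ g.ker), rfl⟩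
    exact hq (Group.isSolvable_of_ker_le_range Y.subtype (QuotientGroup.mk' Y)
      (by rw [QuotientGroup.ker_mk', Subgroup.range_subtype]))

/-- Let N be a non-trivial normal subgroup of the finite group G such that every element of G outside N has prime power order. If N is not solvable, then G/N is solvable. -/
theorem result {G : Type*} [Group G] [Finite G] (N : Subgroup G) [N.Normal] (hN : N ≠ ⊥) (hns : ¬ Group.IsSolvable ↥N)
    (h : ∀ x : G, x ∉ N → IsPrimePow (orderOf x)) : Group.IsSolvable (G ⧸ N) := by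
  exact main N hns h

end Cfsg.Agent.S3901
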