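import Cfsg.Statements.S3903
import Cfsg.Agent.S3901
import Cfsg.Agent.Lib.BrauerSuzuki.ZStar
import Cfsg.Agent.Lib.FGStruct.NilpotentMaximal

set_option autoImplicit false
open Cfsg

namespace Cfsg.Agent.S3903

open OutsidePP

theorem solvable_of_quotient {G : Type*} [Group G] (K : Subgroup G) [K.Normal] [Group.IsSolvable ↥K]
    [Group.IsSolvable (G ⧸ K)] : Group.IsSolvable G :=
  Group.isSolvable_of_ker_le_range K.subtype (QuotientGroup.mk' K)
    (by rw [QuotientGroup.ker_mk', Subgroup.range_subtype])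

/-- A group with a fixed-point-free automorphism of period two is abelian. -/
theorem comm_of_fpf {O : Type*} [Group O] [Finite O] (f : MulAut O) (h2 : ∀ v, f (f v) = v)
    (hfix : ∀ v, f v = v → v = 1) (a b : O) : a * b = b * a := by
  have hinj : Function.Injective (fun o : O => o⁻¹ * f o) := by
    intro u v huv
    have h1 : f (v * u⁻¹) = v * u⁻¹ := by
      have h' : u⁻¹ * f u = v⁻¹ * f v := huv
      rw [map_mul, map_inv]
      calc f v * (f u)⁻¹ = v * (v⁻¹ * f v) * (f u)⁻¹ := by group
        _ = v * (u⁻¹ * f u) * (f u)⁻¹ := by rw [h']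
        _ = _ := by group
    exact (mul_inv_eq_one.1 (hfix _ h1)).symm
  have hinv : ∀ o, f o = o⁻¹ := by
    intro o
    obtain ⟨u, rfl⟩ := Finite.injective_iff_surjective.1 hinj o
    show f (u⁻¹ * f u) = (u⁻¹ * f u)⁻¹
    rw [map_mul, map_inv, h2, mul_inv_rev, inv_inv]
  have h3 := map_mul f a b
  rw [hinv, hinv, hinv, mul_inv_rev] at h3
  have h4 := congrArg (·⁻¹) h3
  simp only [mul_inv_rev, inv_inv] at h4
  exact h4

theorem exists_index_prime {G : Type*} [Group G] [Finite G] (N : Subgroup G) [N.Normal] (hN : N ≠ ⊤)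
    (hq : Group.IsSolvable (G ⧸ N)) :
    ∃ (p : ℕ) (L : Subgroup G), p.Prime ∧ L.Normal ∧ N ≤ L ∧ L.index = p := by
  haveI : Nontrivial (G ⧸ N) := QuotientGroup.nontrivial_iff.2 hN
  haveI := hq
  have hlt := Group.IsSolvable.commutator_lt_top_of_nontrivial (G ⧸ N)
  set C := (commutator (G ⧸ N)).comap (QuotientGroup.mk' N) with hC
  have hCtop : C ≠ ⊤ := by
    intro h
    refine hlt.ne (Subgroup.comap_injective (QuotientGroup.mk'_surjective N) ?_)
    rw [Subgroup.comap_top]; exact h
  obtain ⟨L, hL, hCL⟩ := (IsCoatomic.eq_top_or_exists_le_coatom C).resolve_left hCtop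
  have hcomm : ∀ a b : G, a * b * a⁻¹ * b⁻¹ ∈ L := by
    intro a b
    refine hCL ?_
    rw [hC, Subgroup.mem_comap, map_mul, map_mul, map_mul, map_inv, map_inv, ← commutatorElement_def]
    exact Subgroup.commutator_mem_commutator (Subgroup.mem_top _) (Subgroup.mem_top _)
  haveI hLn : L.Normal := ⟨fun x hx g => by
    have := L.mul_mem (hcomm g x) hx
    rwa [inv_mul_cancel_right] at this⟩
  haveI : IsMulCommutative (G ⧸ L) := ⟨⟨fun a b => by
    obtain ⟨a, rfl⟩ := QuotientGroup.mk_surjective a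
    obtain ⟨b, rfl⟩ := QuotientGroup.mk_surjective b
    rw [← QuotientGroup.mk_mul, ← QuotientGroup.mk_mul, QuotientGroup.eq]
    convert hcomm b⁻¹ a⁻¹ using 1
    group⟩⟩
  haveI : Nontrivial (G ⧸ L) := QuotientGroup.nontrivial_iff.2 hL.1
  letI : CommGroup (G ⧸ L) := { (inferInstance : Group (G ⧸ L)) with
    mul_comm := fun a b => IsMulCommutative.is_comm.comm a b }
  haveI : IsSimpleGroup (G ⧸ L) := ⟨fun H _ => by
    rcases eq_or_ne (H.comap (QuotientGroup.mk' L)) L with he | he
    · left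
      rw [← Subgroup.map_comap_eq_self_of_surjective (QuotientGroup.mk'_surjective L) H, he,
        QuotientGroup.map_mk'_self]
    · right
      have hle : L ≤ H.comap (QuotientGroup.mk' L) := by
        intro y hy
        rw [Subgroup.mem_comap, QuotientGroup.mk'_apply, (QuotientGroup.eq_one_iff y).2 hy]
        exact H.one_mem
      rw [← Subgroup.map_comap_eq_self_of_surjective (QuotientGroup.mk'_surjective L) H,
        hL.2 _ (lt_of_le_of_ne hle (Ne.symm he)), Subgroup.map_top_of_surjective _ (QuotientGroup.mk'_surjective L)]⟩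
  exact ⟨_, L, IsSimpleGroup.prime_card (α := G ⧸ L), hLn, fun y hy => hCL (by
    rw [hC, Subgroup.mem_comap, QuotientGroup.mk'_apply, (QuotientGroup.eq_one_iff y).2 hy]
    exact Subgroup.one_mem _), Subgroup.index_eq_card L⟩

/-- Outside a subgroup of index two only 2-elements, and a maximal Sylow 2-subgroup: every outside
element is in exactly one Sylow 2-subgroup. -/
theorem sylow_unique {G : Type*} [Group G] [Finite G] (L : Subgroup G) (hL : L.index = 2)
    (h2 : ∀ x : G, x ∉ L → ∃ k, orderOf x = 2 ^ k) (S : Sylow 2 G)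
    (hNS : Subgroup.normalizer ((S : Subgroup G) : Set G) = S) :
    ∀ P Q : Sylow 2 G, ∀ x : G, x ∈ (P : Subgroup G) → x ∈ (Q : Subgroup G) → x ∉ L → P = Q := by
  classical
  haveI : Fact (Nat.Prime 2) := ⟨Nat.prime_two⟩
  haveI := Fintype.ofFinite G
  haveI := Fintype.ofFinite (Sylow 2 G)
  haveI : L.Normal := Subgroup.normal_of_index_eq_two hL
  set T := Σ P : Sylow 2 G, {x : G // x ∈ (P : Subgroup G) ∧ x ∉ L} with hT
  set F : T → {x : G // x ∉ L} := fun t => ⟨t.2.1, t.2.2.2⟩ with hF
  have hFs : Function.Surjective F := by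
    rintro ⟨x, hx⟩
    obtain ⟨k, hk⟩ := h2 x hx
    obtain ⟨P, hP⟩ := (IsPGroup.of_card (p := 2) (n := k)
      (show Nat.card (Subgroup.zpowers x) = 2 ^ k by rw [Nat.card_zpowers, hk])).exists_le_sylow
    exact ⟨⟨P, x, hP (Subgroup.mem_zpowers x), hx⟩, rfl⟩
  have hhalf : ∀ K : Subgroup G, ¬ K ≤ L → 2 * Nat.card {x : G // x ∈ K ∧ x ∉ L} = Nat.card ↥K := by
    intro K hK
    have h1 : (L.subgroupOf K).index = 2 := by
      have h3 : L.relIndex K ∣ 2 := hL ▸ Subgroup.relIndex_dvd_index_of_normal L K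
      rcases (Nat.dvd_prime Nat.prime_two).1 h3 with h4 | h4
      · exact absurd (Subgroup.relIndex_eq_one.1 h4) hK
      · exact h4
    have h3 := Nat.card_congr (Equiv.sumCompl (fun x : ↥K => x ∈ L.subgroupOf K))
    rw [Nat.card_sum] at h3
    have h4 : Nat.card {x : ↥K // x ∉ L.subgroupOf K} = Nat.card {x : G // x ∈ K ∧ x ∉ L} :=
      Nat.card_congr ⟨fun x => ⟨x.1.1, x.1.2, fun hh => x.2 (Subgroup.mem_subgroupOf.2 hh)⟩,
        fun x => ⟨⟨x.1, x.2.1⟩, fun hh => x.2.2 (Subgroup.mem_subgroupOf.1 hh)⟩, fun _ => rfl, fun _ => rfl⟩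
    have h5 := (L.subgroupOf K).card_mul_index
    rw [h1] at h5
    have h6 : Nat.card {x : ↥K // x ∈ L.subgroupOf K} = Nat.card ↥(L.subgroupOf K) := rfl
    rw [h4, h6] at h3
    omega
  have hPL : ∀ P : Sylow 2 G, ¬ (P : Subgroup G) ≤ L := by
    intro P hle
    have hd := Subgroup.index_dvd_of_le hle
    rw [hL] at hd
    exact P.not_dvd_index hd
  have hTc : 2 * Nat.card T = Nat.card G := by
    rw [hT, Nat.card_sigma, Finset.mul_sum,
      Finset.sum_congr rfl fun P _ => (hhalf _ (hPL P)).trans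
        (show Nat.card ↥(P : Subgroup G) = Nat.card ↥(S : Subgroup G) by
          rw [P.card_eq_multiplicity, S.card_eq_multiplicity]),
      Finset.sum_const, Finset.card_univ, smul_eq_mul, ← Nat.card_eq_fintype_card,
      Sylow.card_eq_index_normalizer S]
    erw [hNS]
    exact Subgroup.index_mul_card _
  have hcard : 2 * Nat.card {x : G // x ∉ L} = Nat.card G := by
    have h := hhalf ⊤ (fun h => by rw [top_le_iff.1 h, Subgroup.index_top] at hL; omega)
    rw [Subgroup.card_top] at h
    rw [← h]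
    congr 1
    exact Nat.card_congr (Equiv.subtypeEquivRight fun x => by simp)
  have hbij : Function.Bijective F := hFs.bijective_of_nat_card_le (by omega)
  intro P Q x hP hQ hx
  exact congrArg Sigma.fst (hbij.1 (a₁ := (⟨P, x, hP, hx⟩ : T)) (a₂ := (⟨Q, x, hQ, hx⟩ : T)) rfl)

theorem main {G : Type*} [Group G] [Finite G] (N : Subgroup G) [N.Normal] (hN : N ≠ ⊤)
    (h : ∀ x : G, x ∉ N → IsPrimePow (orderOf x) ∧ IsCoatom (Subgroup.centralizer ({x} : Set G))) :
    Group.IsSolvable ↥N := by
  classical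
  by_contra hns
  have hGns : ¬ Group.IsSolvable G := fun hG => hns (by haveI := hG; infer_instance)
  have hpp : PP N := fun x hx => (h x hx).1
  obtain ⟨p, L, hp, hLn, hNL, hLp⟩ := exists_index_prime N hN (Cfsg.Agent.S3901.main N hns hpp)
  haveI := hLn
  haveI := Fact.mk hp
  have hppL : PP L := fun x hx => hpp x fun hh => hx (hNL hh)
  have hcardQ : Nat.card (G ⧸ L) = p := by rw [← Subgroup.index_eq_card, hLp]
  have hout : ∀ x : G, x ∉ L → ∃ k, orderOf x = p ^ k := by
    intro x hx
    obtain ⟨q, k, hq, hk, he⟩ := exists_prime L hppL hx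
    have hd : orderOf (x : G ⧸ L) ∣ q ^ k := he ▸ orderOf_map_dvd (QuotientGroup.mk' L) x
    have hp' : orderOf (x : G ⧸ L) = p := by
      refine orderOf_eq_prime ?_ (by rwa [Ne, QuotientGroup.eq_one_iff])
      rw [← hcardQ]; exact pow_card_eq_one'
    rw [hp'] at hd
    exact ⟨k, by rw [he, (Nat.prime_dvd_prime_iff_eq hp hq).1 (hp.dvd_of_dvd_pow hd)]⟩
  obtain ⟨x, hx⟩ : ∃ x : G, x ∉ L := by
    by_contra hne
    push Not at hne
    rw [(Subgroup.eq_top_iff' L).2 hne, Subgroup.index_top] at hLp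
    exact hp.ne_one hLp.symm
  set C := Subgroup.centralizer ({x} : Set G) with hC
  have hCmax : IsCoatom C := (h x fun hh => hx (hNL hh)).2
  obtain ⟨k, hk⟩ := hout x hx
  have hCp : IsPGroup p ↥C := by
    rw [PBasic.isPGroup_iff_forall_coprime]
    rintro ⟨m, hm⟩ hcop
    rw [Subgroup.orderOf_mk] at hcop
    have hmL : m ∈ L := by
      rw [← QuotientGroup.eq_one_iff, ← orderOf_eq_one_iff]
      exact Nat.eq_one_of_dvd_coprimes hcop (orderOf_map_dvd (QuotientGroup.mk' L) m)
        (hcardQ ▸ orderOf_dvd_natCard _)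
    refine Subtype.ext (eq_one_of_commute hppL hx hmL (Subgroup.mem_centralizer_singleton_iff.1 hm).symm ?_)
    rw [hk]
    exact hcop.symm.pow_left k
  by_cases hp2 : p = 2
  swap
  · refine hGns (NilMax.solvable_of_odd C hCmax hCp.isNilpotent ?_)
    obtain ⟨j, hj⟩ := IsPGroup.iff_card.1 hCp
    rw [hj]
    exact (hp.odd_of_ne_two hp2).pow
  subst hp2
  obtain ⟨S, hS⟩ := hCp.exists_le_sylow
  have hSne : (S : Subgroup G) ≠ ⊤ := by
    intro ht
    refine hGns ?_
    haveI : Group.IsNilpotent G :=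
      (S.isPGroup'.of_equiv ((MulEquiv.subgroupCongr ht).trans Subgroup.topEquiv)).isNilpotent
    infer_instance
  have hSC : (S : Subgroup G) = C := by
    rcases hCmax.le_iff.1 hS with h1 | h1
    · exact absurd h1 hSne
    · exact h1
  have hxS : x ∈ (S : Subgroup G) := hSC ▸ Subgroup.mem_centralizer_singleton_iff.2 rfl
  have hSx : ∀ s ∈ (S : Subgroup G), Commute x s := fun s hs =>
    (Subgroup.mem_centralizer_singleton_iff.1 (hSC ▸ hs : s ∈ C)).symm
  have hNS : Subgroup.normalizer ((S : Subgroup G) : Set G) = S := by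
    have hcS : IsCoatom (S : Subgroup G) := hSC ▸ hCmax
    rcases hcS.le_iff.1 (Subgroup.le_normalizer (H := (S : Subgroup G))) with h1 | h1
    · exfalso
      haveI : (S : Subgroup G).Normal := Subgroup.normalizer_eq_top_iff.1 h1
      haveI : Group.IsNilpotent ↥(S : Subgroup G) := S.isPGroup'.isNilpotent
      haveI : Nontrivial (G ⧸ (S : Subgroup G)) := QuotientGroup.nontrivial_iff.2 hSne
      obtain ⟨y, hy⟩ := exists_ne (1 : G ⧸ (S : Subgroup G))
      have htop : Subgroup.zpowers y = ⊤ := by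
        refine Subgroup.comap_injective (QuotientGroup.mk'_surjective (S : Subgroup G)) ?_
        rw [Subgroup.comap_top]
        refine hcS.2 _ (lt_of_le_of_ne ?_ ?_)
        · intro s hs
          rw [Subgroup.mem_comap, QuotientGroup.mk'_apply, (QuotientGroup.eq_one_iff s).2 hs]
          exact Subgroup.one_mem _
        · intro he
          obtain ⟨g, rfl⟩ := QuotientGroup.mk_surjective y
          refine hy ((QuotientGroup.eq_one_iff g).2 ?_)
          rw [he]
          exact Subgroup.mem_zpowers _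
      haveI : IsCyclic (G ⧸ (S : Subgroup G)) := isCyclic_iff_exists_zpowers_eq_top.2 ⟨y, htop⟩
      haveI : Group.IsNilpotent (G ⧸ (S : Subgroup G)) := by
        letI := IsCyclic.commGroup (α := G ⧸ (S : Subgroup G)); infer_instance
      exact hGns (solvable_of_quotient (S : Subgroup G))
    · exact h1
  have hTI := sylow_unique L hLp hout S hNS
  set Z := Subgroup.center G with hZ
  have hZS : Z ≤ (S : Subgroup G) := fun z hz => hSC ▸ Subgroup.mem_centralizer_singleton_iff.2
    ((Subgroup.mem_center_iff.1 hz x).symm)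
  have hxZ : x ∉ Z := fun hh => hCmax.1 ((Subgroup.eq_top_iff' C).2 fun g =>
    Subgroup.mem_centralizer_singleton_iff.2 (Subgroup.mem_center_iff.1 hh g))
  have hex : ∃ j, x ^ 2 ^ j ∈ Z := ⟨k, by rw [← hk, pow_orderOf_eq_one]; exact Z.one_mem⟩
  obtain ⟨j, hj⟩ : ∃ j, Nat.find hex = j + 1 := by
    refine Nat.exists_eq_succ_of_ne_zero fun h0 => hxZ ?_
    have := Nat.find_spec hex
    rwa [h0, pow_zero, pow_one] at this
  set y := x ^ 2 ^ j with hy
  have hyZ : y ∉ Z := Nat.find_min hex (by omega)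
  have hy2 : y ^ 2 ∈ Z := by
    rw [hy, ← pow_mul, ← pow_succ, ← hj]; exact Nat.find_spec hex
  have hSy : (S : Subgroup G) ≤ Subgroup.centralizer ({y} : Set G) := fun s hs =>
    Subgroup.mem_centralizer_singleton_iff.2 ((hSx s hs).pow_left _).eq.symm
  have hCy : Subgroup.centralizer ({y} : Set G) = S := by
    have hcS : IsCoatom (S : Subgroup G) := hSC ▸ hCmax
    rcases hcS.le_iff.1 hSy with h1 | h1
    · exact absurd (Subgroup.mem_center_iff.2 fun g =>
        Subgroup.mem_centralizer_singleton_iff.1 ((Subgroup.eq_top_iff' _).1 h1 g)) hyZ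
    · exact h1
  haveI : Fact (Nat.Prime 2) := ⟨Nat.prime_two⟩
  have hy2' : orderOf (y : G ⧸ Z) = 2 := orderOf_eq_prime
    (by rw [← QuotientGroup.mk_pow]; exact (QuotientGroup.eq_one_iff _).2 hy2)
    (by rwa [Ne, QuotientGroup.eq_one_iff])
  -- the preimage of the centralizer of the image of `y` is `S`
  set D := (Subgroup.centralizer ({(y : G ⧸ Z)} : Set (G ⧸ Z))).comap (QuotientGroup.mk' Z) with hD
  have hSD : (S : Subgroup G) ≤ D := by
    intro s hs
    rw [hD, Subgroup.mem_comap, Subgroup.mem_centralizer_singleton_iff, QuotientGroup.mk'_apply,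
      ← QuotientGroup.mk_mul, ← QuotientGroup.mk_mul,
      Subgroup.mem_centralizer_singleton_iff.1 (hSy hs)]
  have hDS : D = S := by
    have hcS : IsCoatom (S : Subgroup G) := hSC ▸ hCmax
    rcases hcS.le_iff.1 hSD with h1 | h1
    · exfalso
      refine hyZ (Subgroup.mem_center_iff.2 fun g => ?_)
      obtain ⟨u, v, huv, -, -, ⟨i, hi⟩, hv⟩ := PBasic.exists_pPart_mul (p := 2) g
      have hcomm : ∀ w : G, ∃ z ∈ Z, w * y = y * w * z := by
        intro w
        have hw : w ∈ D := h1 ▸ Subgroup.mem_top w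
        rw [hD, Subgroup.mem_comap, Subgroup.mem_centralizer_singleton_iff, QuotientGroup.mk'_apply,
          ← QuotientGroup.mk_mul, ← QuotientGroup.mk_mul, eq_comm, QuotientGroup.eq] at hw
        exact ⟨_, hw, by group⟩
      -- 2-elements and odd elements both centralise `y`
      have hodd : ∀ w : G, (orderOf w).Coprime 2 → Commute w y := by
        intro w hw
        obtain ⟨z, hz, he⟩ := hcomm w
        have hzc : ∀ g : G, g * z = z * g := Subgroup.mem_center_iff.1 hz
        have hit : ∀ n : ℕ, w ^ n * y = y * w ^ n * z ^ n := by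
          intro n
          induction n with
          | zero => simp
          | succ n ih =>
            rw [pow_succ', mul_assoc, ih, ← mul_assoc, ← mul_assoc, he, mul_assoc (y * w) z, ← hzc (w ^ n),
              pow_succ' z]
            group
        have h3 := hit (orderOf w)
        rw [pow_orderOf_eq_one, one_mul, mul_one, left_eq_mul] at h3
        have hz1 : z = 1 := by
          obtain ⟨i', hi'⟩ := IsPGroup.iff_orderOf.1 S.isPGroup' ⟨z, hZS hz⟩
          rw [Subgroup.orderOf_mk] at hi'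
          rw [← orderOf_eq_one_iff]
          exact Nat.eq_one_of_dvd_coprimes (hw.pow_right i') (orderOf_dvd_of_pow_eq_one h3) (hi' ▸ dvd_rfl)
        show w * y = y * w
        rw [he, hz1, mul_one]
      have h2el : ∀ w : G, (∃ i, orderOf w = 2 ^ i) → ∃ c : G, c * w * c⁻¹ ∈ (S : Subgroup G) := by
        rintro w ⟨i', hi'⟩
        obtain ⟨P, hP⟩ := (IsPGroup.of_card (p := 2) (n := i')
          (show Nat.card (Subgroup.zpowers w) = 2 ^ i' by rw [Nat.card_zpowers, hi'])).exists_le_sylow
        obtain ⟨c, hc⟩ := MulAction.exists_smul_eq G P S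
        refine ⟨c, ?_⟩
        rw [← hc, Sylow.coe_subgroup_smul]
        exact Subgroup.smul_mem_pointwise_smul w (MulAut.conj c) _ (hP (Subgroup.mem_zpowers w))
      -- the centraliser of `y` is normal here
      have hnorm : ∀ c w : G, w * y = y * w → (c * w * c⁻¹) * y = y * (c * w * c⁻¹) := by
        intro c w hw
        obtain ⟨z, hz, he⟩ := hcomm c⁻¹
        have hzc : ∀ g : G, g * z = z * g := Subgroup.mem_center_iff.1 hz
        obtain ⟨z', hz', he'⟩ := hcomm c
        have hzc' : ∀ g : G, g * z' = z' * g := Subgroup.mem_center_iff.1 hz'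
        have h3 : z' * z = 1 := by
          have e1 : y = y * (z' * z) := by
            calc y = c * (c⁻¹ * y) := by group
              _ = c * (y * c⁻¹ * z) := by rw [he]
              _ = c * y * c⁻¹ * z := by group
              _ = y * c * z' * c⁻¹ * z := by rw [he']
              _ = y * (c * z') * c⁻¹ * z := by group
              _ = y * (z' * c) * c⁻¹ * z := by rw [hzc' c]
              _ = _ := by group
          exact left_eq_mul.1 e1
        calc c * w * c⁻¹ * y = c * w * (c⁻¹ * y) := by group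
          _ = c * (w * y) * c⁻¹ * z := by rw [he]; group
          _ = c * y * w * c⁻¹ * z := by rw [hw]; group
          _ = y * c * z' * w * c⁻¹ * z := by rw [he']
          _ = y * c * (z' * w) * c⁻¹ * z := by group
          _ = y * c * (w * z') * c⁻¹ * z := by rw [hzc' w]
          _ = y * c * w * (z' * c⁻¹) * z := by group
          _ = y * c * w * (c⁻¹ * z') * z := by rw [hzc' c⁻¹]
          _ = y * (c * w * c⁻¹) * (z' * z) := by group
          _ = _ := by rw [h3, mul_one]
      obtain ⟨c, hc⟩ := h2el u ⟨i, hi⟩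
      have hu : u * y = y * u := by
        have h3 := hnorm c⁻¹ (c * u * c⁻¹) (Subgroup.mem_centralizer_singleton_iff.1 (hSy hc))
        rwa [show c⁻¹ * (c * u * c⁻¹) * c⁻¹⁻¹ = u by group] at h3
      rw [← huv]
      exact ((Commute.mul_left hu (hodd v hv)).eq)
    · exact h1
  have hiso : Cfsg.IsIsolated (y : G ⧸ Z) := by
    intro g hg
    obtain ⟨g, rfl⟩ := QuotientGroup.mk_surjective g
    have hgyS : g * y * g⁻¹ ∈ (S : Subgroup G) := by
      rw [← hDS, hD, Subgroup.mem_comap, Subgroup.mem_centralizer_singleton_iff]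
      simp only [map_mul, map_inv, QuotientGroup.mk'_apply]
      exact hg.eq.symm
    set P : Sylow 2 G := g • S with hP
    have hPc : ∀ w : G, w ∈ (P : Subgroup G) ↔ g⁻¹ * w * g ∈ (S : Subgroup G) := by
      intro w
      rw [hP, Sylow.coe_subgroup_smul, Subgroup.mem_pointwise_smul_iff_inv_smul_mem]
      simp [MulAut.smul_def, mul_assoc]
    have hxP : x ∈ (P : Subgroup G) := by
      rw [hPc, ← hCy, Subgroup.mem_centralizer_singleton_iff]
      have h1 := (hSx _ hgyS).eq
      calc g⁻¹ * x * g * y = g⁻¹ * (x * (g * y * g⁻¹)) * g := by group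
        _ = g⁻¹ * ((g * y * g⁻¹) * x) * g := by rw [h1]
        _ = y * (g⁻¹ * x * g) := by group
    have hgS : g ∈ (S : Subgroup G) := by
      rw [← hNS]
      exact Sylow.smul_eq_iff_mem_normalizer.1 (hTI P S x hxP hxS hx)
    show (g : G ⧸ Z) * (y : G ⧸ Z) * (g : G ⧸ Z)⁻¹ = (y : G ⧸ Z)
    rw [← QuotientGroup.mk_inv, ← QuotientGroup.mk_mul, ← QuotientGroup.mk_mul,
      Subgroup.mem_centralizer_singleton_iff.1 (hSy hgS), mul_inv_cancel_right]
  have hZ' := BrauerSuzuki.zStar (G ⧸ Z) (y : G ⧸ Z) hy2' hiso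
  set O := Cfsg.pPrimeCore 2 (G ⧸ Z) with hO
  haveI : O.Normal := FittingCores.pPrimeCore_normal 2
  have hOcop : (Nat.card O).Coprime 2 := PBasic.pPrimeCore_coprime 2 (G ⧸ Z)
  have hfixO : ∀ o ∈ O, Commute (y : G ⧸ Z) o → o = 1 := by
    intro o ho hc
    obtain ⟨w, rfl⟩ := QuotientGroup.mk_surjective o
    have hw : w ∈ (S : Subgroup G) := by
      rw [← hDS, hD, Subgroup.mem_comap, Subgroup.mem_centralizer_singleton_iff, QuotientGroup.mk'_apply]
      exact hc.eq.symm
    obtain ⟨i, hi⟩ := IsPGroup.iff_orderOf.1 S.isPGroup' ⟨w, hw⟩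
    rw [Subgroup.orderOf_mk] at hi
    rw [← orderOf_eq_one_iff]
    exact Nat.eq_one_of_dvd_coprimes ((PBasic.coprime_orderOf_of_mem hOcop ho).pow_right i) dvd_rfl
      (hi ▸ orderOf_map_dvd (QuotientGroup.mk' Z) w)
  have hOc : IsMulCommutative ↥O := by
    refine ⟨⟨comm_of_fpf (MulAut.conjNormal (y : G ⧸ Z)) (fun v => Subtype.ext ?_) (fun v hv => Subtype.ext (hfixO _ v.2 ?_))⟩⟩
    · rw [MulAut.conjNormal_apply, MulAut.conjNormal_apply]
      have h1 : (y : G ⧸ Z) * (y : G ⧸ Z) = 1 := by rw [← pow_two, ← hy2', pow_orderOf_eq_one]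
      calc (y : G ⧸ Z) * ((y : G ⧸ Z) * (v : G ⧸ Z) * (y : G ⧸ Z)⁻¹) * (y : G ⧸ Z)⁻¹
          = (y : G ⧸ Z) * (y : G ⧸ Z) * (v : G ⧸ Z) * ((y : G ⧸ Z) * (y : G ⧸ Z))⁻¹ := by group
        _ = _ := by rw [h1, one_mul, inv_one, mul_one]
    · exact mul_inv_eq_iff_eq_mul.1 (by rw [← MulAut.conjNormal_apply]; exact congrArg Subtype.val hv)
  by_cases hO1 : O = ⊥
  · refine (hSne ?_)
    rw [← hDS, hD, Subgroup.eq_top_iff']
    intro g
    rw [Subgroup.mem_comap, Subgroup.mem_centralizer_singleton_iff, QuotientGroup.mk'_apply]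
    have h1 := hZ' (g : G ⧸ Z)
    rw [← hO, hO1, Subgroup.mem_bot, mul_inv_eq_one, mul_inv_eq_iff_eq_mul] at h1
    exact h1
  · set Pre := O.comap (QuotientGroup.mk' Z) with hPre
    have htop : (S : Subgroup G) ⊔ Pre = ⊤ := by
      have hcS : IsCoatom (S : Subgroup G) := hSC ▸ hCmax
      refine hcS.2 _ (lt_of_le_of_ne le_sup_left fun he => hO1 ((Subgroup.eq_bot_iff_forall O).2 ?_))
      intro o ho
      obtain ⟨w, rfl⟩ := QuotientGroup.mk_surjective o
      have hw : w ∈ (S : Subgroup G) := by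
        rw [he]; exact Subgroup.mem_sup_right (Subgroup.mem_comap.2 ho)
      rw [← hDS, hD, Subgroup.mem_comap, Subgroup.mem_centralizer_singleton_iff, QuotientGroup.mk'_apply] at hw
      exact hfixO _ ho hw.symm
    refine hGns ?_
    haveI : Group.IsNilpotent ↥(S : Subgroup G) := S.isPGroup'.isNilpotent
    haveI : Group.IsSolvable ((G ⧸ Z) ⧸ O) := by
      refine Group.isSolvable_of_surjective
        (f := ((QuotientGroup.mk' O).comp (QuotientGroup.mk' Z)).comp (S : Subgroup G).subtype) ?_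
      intro q
      obtain ⟨g', rfl⟩ := QuotientGroup.mk'_surjective O q
      obtain ⟨g, rfl⟩ := QuotientGroup.mk'_surjective Z g'
      obtain ⟨s, hs, w, hw, rfl⟩ := Subgroup.mem_sup_of_normal_right.1
        (htop.symm ▸ Subgroup.mem_top g : g ∈ (S : Subgroup G) ⊔ Pre)
      refine ⟨⟨s, hs⟩, ?_⟩
      show QuotientGroup.mk' O (QuotientGroup.mk' Z s) = _
      have hw' : QuotientGroup.mk' O (QuotientGroup.mk' Z w) = 1 := (QuotientGroup.eq_one_iff _).2 hw
      rw [map_mul, map_mul, hw', mul_one]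
    haveI : Group.IsSolvable ↥O := by
      haveI := hOc
      haveI : Group.IsNilpotent ↥O := by
        letI : CommGroup ↥O := { (inferInstance : Group ↥O) with mul_comm := hOc.is_comm.comm }
        infer_instance
      infer_instance
    haveI : Group.IsSolvable (G ⧸ Z) := solvable_of_quotient O
    haveI : Group.IsNilpotent ↥Z := Group.nilpotent_of_mulEquiv (Subgroup.subgroupOfEquivOfLe hZS)
    exact solvable_of_quotient Z

/-- Let N be a proper normal subgroup of the finite group G such that every element x of G outside N has prime power order and has centralizer C_G(x) a maximal subgroup of G. Then N is solvable. -/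
theorem result {G : Type*} [Group G] [Finite G] (N : Subgroup G) [N.Normal] (hN : N ≠ ⊤)
    (h : ∀ x : G, x ∉ N → IsPrimePow (orderOf x) ∧ IsCoatom (Subgroup.centralizer ({x} : Set G))) : Group.IsSolvable ↥N := by
  exact main N hN h

end Cfsg.Agent.S3903
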