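import Cfsg.Statements.S3904
import Cfsg.Agent.Lib.FGStruct.FrobeniusData
import Cfsg.Agent.Lib.PLocal.ZJNPC
import Cfsg.Agent.Lib.Solvable.Coprime
import Cfsg.Agent.Lib.Transfer.Basic
import Mathlib

set_option autoImplicit false
open Cfsg

namespace Cfsg.Agent.S3904

open Cfsg.Agent
open Cfsg.Agent.FrobData

variable {G : Type*} [Group G] [Finite G]

lemma prime_card_of_simple {Q : Type*} [Group Q] [Finite Q] [Nontrivial Q]
    (h : ∀ K : Subgroup Q, K = ⊥ ∨ K = ⊤) : (Nat.card Q).Prime := by
  obtain ⟨r, hr, hd⟩ := Nat.exists_prime_and_dvd (n := Nat.card Q) Finite.one_lt_card.ne'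
  haveI := Fact.mk hr
  obtain ⟨x, hx⟩ := exists_prime_orderOf_dvd_card' r hd
  rcases h (Subgroup.zpowers x) with hb | ht
  · rw [Subgroup.zpowers_eq_bot] at hb
    rw [hb, orderOf_one] at hx
    exact absurd hx.symm hr.ne_one
  · rw [← Subgroup.card_top, ← ht, Nat.card_zpowers, hx]
    exact hr

lemma prime_index {Q : Type*} [Group Q] [Finite Q] {L : Subgroup Q} [L.Normal] (hL : IsCoatom L) :
    L.index.Prime := by
  have hs := QuotientGroup.mk'_surjective L
  haveI : Nontrivial (Q ⧸ L) := by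
    rw [← Finite.one_lt_card_iff_nontrivial, ← Subgroup.index_eq_card]
    exact Subgroup.one_lt_index_of_ne_top hL.1
  rw [Subgroup.index_eq_card]
  refine prime_card_of_simple fun K => ?_
  rcases hL.le_iff.1 (QuotientGroup.le_comap_mk' L K) with h | h
  · right
    rw [← Subgroup.map_comap_eq_self_of_surjective hs K, h, Subgroup.map_top_of_surjective _ hs]
  · left
    rw [← Subgroup.map_comap_eq_self_of_surjective hs K, h, QuotientGroup.map_mk'_self]

/-- Facts about the image of a centralizer in the quotient by the centre. -/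
lemma image_coatom (x : G) (hx : IsCoatom (Subgroup.centralizer ({x} : Set G))) :
    IsCoatom ((Subgroup.centralizer ({x} : Set G)).map (QuotientGroup.mk' (Subgroup.center G))) ∧
    ((Subgroup.centralizer ({x} : Set G)).map (QuotientGroup.mk' (Subgroup.center G))).comap
      (QuotientGroup.mk' (Subgroup.center G)) = Subgroup.centralizer ({x} : Set G) := by
  set f := QuotientGroup.mk' (Subgroup.center G)
  have hfs : Function.Surjective f := QuotientGroup.mk'_surjective _
  have hcm : ((Subgroup.centralizer ({x} : Set G)).map f).comap f = Subgroup.centralizer ({x} : Set G) := by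
    rw [Subgroup.comap_map_eq, QuotientGroup.ker_mk', sup_eq_left]
    exact Subgroup.center_le_centralizer _
  refine ⟨⟨fun h => hx.1 ?_, fun K hK => ?_⟩, hcm⟩
  · rw [← hcm, h, Subgroup.comap_top]
  · have h2 : Subgroup.centralizer ({x} : Set G) < K.comap f := by
      refine lt_of_le_of_ne (hcm.ge.trans (Subgroup.comap_mono hK.le)) fun he => hK.ne ?_
      rw [he, Subgroup.map_comap_eq_self_of_surjective hfs]
    rw [← Subgroup.map_comap_eq_self_of_surjective hfs K, hx.2 _ h2, Subgroup.map_top_of_surjective f hfs]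

section
variable (h : ∀ x : G, x ∉ Subgroup.center G → IsCoatom (Subgroup.centralizer ({x} : Set G)))
include h

/-- A noncentral power has the same centralizer. -/
lemma cent_eq_of_zpowers {x u : G} (hu : u ∉ Subgroup.center G) (hux : u ∈ Subgroup.zpowers x) :
    Subgroup.centralizer ({x} : Set G) = Subgroup.centralizer ({u} : Set G) := by
  obtain ⟨i, hi⟩ := hux
  have hxc : x ∉ Subgroup.center G := fun hx => hu (hi ▸ zpow_mem hx i)
  have hle : Subgroup.centralizer ({x} : Set G) ≤ Subgroup.centralizer ({u} : Set G) := by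
    intro g hg
    rw [Subgroup.mem_centralizer_singleton_iff] at hg ⊢
    rw [← hi]
    exact ((show Commute g x from hg).zpow_right i).eq
  rcases (h x hxc).le_iff.1 hle with ht | he
  · exact absurd ht (h u hu).1
  · exact he.symm

lemma cent_eq_of_coprime {x y : G} (hx : x ∉ Subgroup.center G) (hy : y ∉ Subgroup.center G)
    (hc : Commute x y) (hco : (orderOf x).Coprime (orderOf y)) :
    Subgroup.centralizer ({x} : Set G) = Subgroup.centralizer ({y} : Set G) := by
  have key : ∀ {a b : G}, Commute a b → (orderOf a).Coprime (orderOf b) → a ∈ Subgroup.zpowers (a * b) := by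
    intro a b hab hcop
    obtain ⟨m, hm⟩ := exists_pow_eq_self_of_coprime (x := a) (n := orderOf b) hcop.symm
    refine ⟨(orderOf b * m : ℕ), ?_⟩
    show (a * b) ^ ((orderOf b * m : ℕ) : ℤ) = a
    rw [zpow_natCast, pow_mul, hab.mul_pow, pow_orderOf_eq_one, mul_one, hm]
  rw [← cent_eq_of_zpowers h hx (key hc hco), hc.eq, cent_eq_of_zpowers h hy (key hc.symm hco.symm)]

/-- A centralizer is abelian or a `p`-group modulo the centre. -/
lemma abelian_or_pgroup {x : G} (hx : x ∉ Subgroup.center G) :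
    IsMulCommutative ↥(Subgroup.centralizer ({x} : Set G)) ∨
    ∃ p : ℕ, p.Prime ∧ IsPGroup p
      ↥((Subgroup.centralizer ({x} : Set G)).map (QuotientGroup.mk' (Subgroup.center G))) := by
  classical
  obtain ⟨p, hp, u, hu, hup, hCu⟩ : ∃ p : ℕ, p.Prime ∧ ∃ u : G, u ∉ Subgroup.center G ∧
      (∃ k, orderOf u = p ^ k) ∧ Subgroup.centralizer ({x} : Set G) = Subgroup.centralizer ({u} : Set G) := by
    by_contra hne
    apply hx
    suffices hall : ∀ n : ℕ, ∀ w : G, orderOf w = n → w ∈ Subgroup.zpowers x → w ∈ Subgroup.center G from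
      hall _ x rfl (Subgroup.mem_zpowers x)
    intro n
    induction n using Nat.strong_induction_on with
    | _ n ih =>
      intro w hn hw
      rcases eq_or_ne n 1 with rfl | hn1
      · rw [orderOf_eq_one_iff] at hn
        rw [hn]; exact one_mem _
      obtain ⟨r, hr, hrd⟩ := Nat.exists_prime_and_dvd hn1
      haveI := Fact.mk hr
      obtain ⟨a, b, hab, ha, hb, ⟨k, hk⟩, hbc⟩ := PBasic.exists_pPart_mul (p := r) w
      rw [← hab]
      refine mul_mem ?_ ?_
      · by_contra hac
        exact hne ⟨r, hr, a, hac, ⟨k, hk⟩, cent_eq_of_zpowers h hac ((Subgroup.zpowers_le.2 hw) ha)⟩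
      · refine ih (orderOf b) ?_ b rfl ((Subgroup.zpowers_le.2 hw) hb)
        have hd : orderOf b ∣ n := hn ▸ orderOf_dvd_of_mem_zpowers hb
        refine lt_of_le_of_ne (Nat.le_of_dvd (hn ▸ orderOf_pos w) hd) fun he => ?_
        rw [he] at hbc
        exact hr.coprime_iff_not_dvd.1 hbc.symm hrd
  haveI := Fact.mk hp
  rw [hCu]
  by_cases hex : ∃ y ∈ Subgroup.centralizer ({u} : Set G), (orderOf y).Coprime p ∧ y ∉ Subgroup.center G
  · left
    obtain ⟨y, hyC, hyo, hy⟩ := hex
    obtain ⟨k, hk⟩ := hup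
    have hyu : Subgroup.centralizer ({u} : Set G) = Subgroup.centralizer ({y} : Set G) := by
      refine cent_eq_of_coprime h hu hy (Subgroup.mem_centralizer_singleton_iff.1 hyC).symm ?_
      rw [hk]; exact Nat.Coprime.pow_left k hyo.symm
    have hall : ∀ a ∈ Subgroup.centralizer ({u} : Set G), ∀ b ∈ Subgroup.centralizer ({u} : Set G), a * b = b * a := by
      intro a ha b hb
      obtain ⟨a1, a2, hA, ha1, ha2, ⟨i, hi⟩, ha2c⟩ := PBasic.exists_pPart_mul (p := p) a
      have m1 := (Subgroup.zpowers_le.2 ha) ha1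
      have m2 := (Subgroup.zpowers_le.2 ha) ha2
      have c1 : a1 * b = b * a1 := by
        by_cases hc : a1 ∈ Subgroup.center G
        · exact (Subgroup.mem_center_iff.1 hc b).symm
        · have hm : a1 ∈ Subgroup.centralizer ({y} : Set G) := hyu ▸ m1
          have := cent_eq_of_coprime h hc hy (Subgroup.mem_centralizer_singleton_iff.1 hm)
            (by rw [hi]; exact Nat.Coprime.pow_left i hyo.symm)
          rw [hyu, ← this] at hb
          exact (Subgroup.mem_centralizer_singleton_iff.1 hb).symm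
      have c2 : a2 * b = b * a2 := by
        by_cases hc : a2 ∈ Subgroup.center G
        · exact (Subgroup.mem_center_iff.1 hc b).symm
        · have := cent_eq_of_coprime h hc hu (Subgroup.mem_centralizer_singleton_iff.1 m2)
            (by rw [hk]; exact Nat.Coprime.pow_right k ha2c)
          rw [← this] at hb
          exact (Subgroup.mem_centralizer_singleton_iff.1 hb).symm
      rw [← hA]
      exact ((show Commute a1 b from c1).mul_left c2).eq
    exact ⟨⟨fun a b => Subtype.ext (hall a a.2 b b.2)⟩⟩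
  · right
    push Not at hex
    refine ⟨p, hp, ?_⟩
    rintro ⟨_, a, ha, rfl⟩
    obtain ⟨a1, a2, hA, ha1, ha2, ⟨i, hi⟩, ha2c⟩ := PBasic.exists_pPart_mul (p := p) a
    refine ⟨i, Subtype.ext ?_⟩
    show QuotientGroup.mk' (Subgroup.center G) a ^ p ^ i = 1
    have h2 : QuotientGroup.mk' (Subgroup.center G) a2 = 1 :=
      (QuotientGroup.eq_one_iff a2).2 (hex a2 ((Subgroup.zpowers_le.2 ha) ha2) ha2c)
    rw [← hA, map_mul, h2, mul_one, ← map_pow, ← hi, pow_orderOf_eq_one, map_one]

/-- An abelian centralizer meets every other centralizer in the centre. -/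
lemma inf_le_center {x x' : G} (hx' : x' ∉ Subgroup.center G)
    (hab : IsMulCommutative ↥(Subgroup.centralizer ({x} : Set G))) (hxc : x ∉ Subgroup.center G)
    (hne : Subgroup.centralizer ({x} : Set G) ≠ Subgroup.centralizer ({x'} : Set G)) :
    Subgroup.centralizer ({x} : Set G) ⊓ Subgroup.centralizer ({x'} : Set G) ≤ Subgroup.center G := by
  intro w hw
  by_contra hwc
  apply hne
  haveI := hab
  have hle : Subgroup.centralizer ({x} : Set G) ≤ Subgroup.centralizer ({w} : Set G) := fun g hg => by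
    rw [Subgroup.mem_centralizer_singleton_iff]
    exact congrArg Subtype.val (mul_comm' (⟨g, hg⟩ : ↥(Subgroup.centralizer ({x} : Set G))) ⟨w, hw.1⟩)
  rcases (h x hxc).le_iff.1 hle with ht | he
  · exact absurd ht (h w hwc).1
  have hx'm : x' ∈ Subgroup.centralizer ({w} : Set G) := by
    have h2 := Subgroup.mem_centralizer_singleton_iff.1 hw.2
    rw [Subgroup.mem_centralizer_singleton_iff]
    exact h2.symm
  rw [he] at hx'm
  have hle2 : Subgroup.centralizer ({x} : Set G) ≤ Subgroup.centralizer ({x'} : Set G) := fun g hg => by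
    rw [Subgroup.mem_centralizer_singleton_iff]
    exact congrArg Subtype.val (mul_comm' (⟨g, hg⟩ : ↥(Subgroup.centralizer ({x} : Set G))) ⟨x', hx'm⟩)
  rcases (h x hxc).le_iff.1 hle2 with ht | he2
  · exact absurd ht (h x' hx').1
  · exact he2.symm

end

/-- Let G be a non-abelian finite group in which the centralizer of every non-central element is a maximal subgroup. Then G/Z(G) is either an elementary abelian p-group for some prime p, or a minimal non-abelian group (non-abelian with all proper subgroups abelian) of order p^a · q for distinct primes p, q with a normal Sylow p-subgroup. -/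
theorem result {G : Type*} [Group G] [Finite G] (hna : ¬ IsMulCommutative G)
    (h : ∀ x : G, x ∉ Subgroup.center G → IsCoatom (Subgroup.centralizer ({x} : Set G))) :
    (∃ p : ℕ, p.Prime ∧ Cfsg.IsElementaryAbelian p (⊤ : Subgroup (G ⧸ Subgroup.center G))) ∨
    (¬ IsMulCommutative (G ⧸ Subgroup.center G) ∧ (∀ H : Subgroup (G ⧸ Subgroup.center G), H ≠ ⊤ → IsMulCommutative ↥H) ∧
      ∃ p q a : ℕ, p.Prime ∧ q.Prime ∧ p ≠ q ∧ Nat.card (G ⧸ Subgroup.center G) = p ^ a * q ∧
        ∀ P : Subgroup (G ⧸ Subgroup.center G), Nat.card ↥P = p ^ a → P.Normal) := by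
  classical
  set Z := Subgroup.center G with hZ
  set f := QuotientGroup.mk' Z with hf
  have hfs : Function.Surjective f := QuotientGroup.mk'_surjective Z
  have hlift : ∀ k : G ⧸ Z, k ≠ 1 → ∃ y : G, f y = k ∧ y ∉ Z := by
    intro k hk
    obtain ⟨y, rfl⟩ := hfs k
    exact ⟨y, rfl, fun hy => hk ((QuotientGroup.eq_one_iff y).2 hy)⟩
  have hcyc : ∀ _ : IsCyclic (G ⧸ Z), False := fun hc => hna ⟨⟨fun a b =>
    commutative_of_cyclic_center_quotient f (by rw [hf, QuotientGroup.ker_mk']) a b⟩⟩
  haveI : Nontrivial (G ⧸ Z) := by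
    by_contra hn
    rw [not_nontrivial_iff_subsingleton] at hn
    exact hcyc inferInstance
  have hselfc : ∀ x : G, f x ∈ (Subgroup.centralizer ({x} : Set G)).map f := fun x =>
    Subgroup.mem_map_of_mem f (Subgroup.mem_centralizer_singleton_iff.2 rfl)
  by_cases hI : ∃ x : G, x ∉ Z ∧ IsMulCommutative ↥(Subgroup.centralizer ({x} : Set G)) ∧
      ¬ (Subgroup.centralizer ({x} : Set G)).Normal
  · -- Frobenius case
    right
    obtain ⟨x, hx, hab, hnn⟩ := hI
    haveI := hab
    set M := Subgroup.centralizer ({x} : Set G) with hMdef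
    set H := M.map f with hHdef
    obtain ⟨hHco, hHcm⟩ := image_coatom x (h x hx)
    have hmal : Char.Malnormal H := by
      intro gq hgq yq hy hgy
      obtain ⟨g, rfl⟩ := hfs gq
      obtain ⟨y, hyM, rfl⟩ := hy
      have hgM : g ∉ M := fun hg => hgq ⟨g, hg, rfl⟩
      rw [← map_inv, ← map_mul, ← map_mul] at hgy
      have hgy' : g * y * g⁻¹ ∈ M := hHcm.le hgy
      have hx' : g⁻¹ * x * g ∉ Z := fun hz => hx (by
        simpa [mul_assoc] using (inferInstance : Z.Normal).conj_mem _ hz g)
      have hne : M ≠ Subgroup.centralizer ({g⁻¹ * x * g} : Set G) := by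
        intro he
        apply hgM
        have hN : Subgroup.normalizer (M : Set G) = M := by
          rcases (h x hx).le_iff.1 (Subgroup.le_normalizer : M ≤ Subgroup.normalizer (M : Set G)) with ht | he'
          · exact absurd (Subgroup.normalizer_eq_top_iff.1 ht) hnn
          · exact he'
        rw [← hN, Subgroup.mem_normalizer_iff]
        intro w
        conv_lhs => rw [he]
        rw [hMdef, Subgroup.mem_centralizer_singleton_iff, Subgroup.mem_centralizer_singleton_iff]
        constructor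
        · intro hw
          calc g * w * g⁻¹ * x = g * (w * (g⁻¹ * x * g)) * g⁻¹ := by group
            _ = g * (g⁻¹ * x * g * w) * g⁻¹ := by rw [hw]
            _ = x * (g * w * g⁻¹) := by group
        · intro hw
          calc w * (g⁻¹ * x * g) = g⁻¹ * (g * w * g⁻¹ * x) * g := by group
            _ = g⁻¹ * (x * (g * w * g⁻¹)) * g := by rw [hw]
            _ = g⁻¹ * x * g * w := by group
      refine (QuotientGroup.eq_one_iff y).2 (inf_le_center h hx' hab hx hne ⟨hyM, ?_⟩)
      show y ∈ Subgroup.centralizer _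
      rw [Subgroup.mem_centralizer_singleton_iff]
      rw [hMdef, Subgroup.mem_centralizer_singleton_iff] at hgy'
      calc y * (g⁻¹ * x * g) = g⁻¹ * (g * y * g⁻¹ * x) * g := by group
        _ = g⁻¹ * (x * (g * y * g⁻¹)) * g := by rw [hgy']
        _ = g⁻¹ * x * g * y := by group
    have hHne : H ≠ ⊥ := fun hb => hx ((QuotientGroup.eq_one_iff x).1 (by
      rw [← Subgroup.mem_bot, ← hb]; exact hselfc x))
    obtain ⟨K, hKn, hKH, hKc, -⟩ := Char.exists_frobenius_kernel hmal
    haveI := hKn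
    have hKne : K ≠ ⊥ := by
      rintro rfl
      exact hHco.1 (Subgroup.isComplement'_bot_left.1 hKc)
    have hd : FData K H := ⟨hKn, hKc, hmal, hKne, hHne⟩
    -- the kernel
    have hCK : ∀ y : G, f y ∈ K → y ∉ Z → (Subgroup.centralizer ({y} : Set G)).map f = K := by
      intro y hyK hy
      have hk1 : f y ≠ 1 := fun he => hy ((QuotientGroup.eq_one_iff y).1 he)
      have hle : (Subgroup.centralizer ({y} : Set G)).map f ≤ K := by
        rintro _ ⟨c, hc, rfl⟩
        rcases hd.decomp (f c) with hK | ⟨k, hkK, a, ha, ha1, hca⟩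
        · exact hK
        · exfalso
          apply hk1
          have hcy : f c * f y = f y * f c := by
            rw [← map_mul, ← map_mul, Subgroup.mem_centralizer_singleton_iff.1 hc]
          have h1 : a * (k⁻¹ * f y * k) = (k⁻¹ * f y * k) * a := by
            rw [hca] at hcy
            calc a * (k⁻¹ * f y * k) = k⁻¹ * (k * a * k⁻¹ * f y) * k := by group
              _ = k⁻¹ * (f y * (k * a * k⁻¹)) * k := by rw [hcy]
              _ = (k⁻¹ * f y * k) * a := by group
          have h2 := hd.fpf ha ha1 (mul_mem (mul_mem (inv_mem hkK) hyK) hkK) h1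
          calc f y = k * (k⁻¹ * f y * k) * k⁻¹ := by group
            _ = 1 := by rw [h2]; group
      rcases (image_coatom y (h y hy)).1.le_iff.1 hle with ht | he
      · exact absurd (Subgroup.isComplement'_top_left.1 (ht ▸ hKc)) hHne
      · exact he.symm
    obtain ⟨k₀, hk₀, hk₀1⟩ := (Subgroup.bot_or_exists_ne_one K).resolve_left hKne
    obtain ⟨y₀, hy₀, hy₀Z⟩ := hlift k₀ hk₀1
    have hKco : IsCoatom K := hCK y₀ (hy₀ ▸ hk₀) hy₀Z ▸ (image_coatom y₀ (h y₀ hy₀Z)).1
    have hKab : ∀ a ∈ K, ∀ b ∈ K, a * b = b * a := by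
      intro a ha b hb
      by_cases ha1 : a = 1
      · rw [ha1, one_mul, mul_one]
      obtain ⟨y, rfl, hy⟩ := hlift a ha1
      rw [← hCK y ha hy] at hb
      obtain ⟨c, hc, rfl⟩ := hb
      rw [← map_mul, ← map_mul, Subgroup.mem_centralizer_singleton_iff.1 hc]
    have hq : (Nat.card H).Prime := by
      have := prime_index hKco
      rwa [hKc.symm.index_eq_card] at this
    have hKmin : ∀ W : Subgroup (G ⧸ Z), W.Normal → W ≤ K → W = ⊥ ∨ W = K := by
      intro W hW hWK
      by_cases hWb : W = ⊥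
      · exact Or.inl hWb
      right
      haveI := hW
      have hWH : W ⊓ H = ⊥ := le_bot_iff.1 ((inf_le_inf_right H hWK).trans hd.inf_eq_bot.le)
      have hlt : H < H ⊔ W := by
        refine lt_of_le_of_ne le_sup_left fun he => hWb ?_
        rw [← hWH, eq_comm, inf_eq_left]
        exact he ▸ le_sup_right
      have htop := hHco.2 _ hlt
      have hc : Nat.card ↥(W ⊔ H) = Nat.card W * Nat.card H :=
        SolvBasic.card_sup_of_inf_eq_bot (by rw [Subgroup.normalizer_eq_top]; exact le_top) hWH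
      rw [sup_comm, htop, Subgroup.card_top, ← hKc.card_mul_card] at hc
      exact Subgroup.eq_of_le_of_card_ge hWK (Nat.eq_of_mul_eq_mul_right Nat.card_pos hc).le
    haveI : IsMulCommutative ↥K := ⟨⟨fun a b => Subtype.ext (hKab a a.2 b b.2)⟩⟩
    obtain ⟨p, hp, -, hKp⟩ := SolvBasic.exists_prime_exponent_of_minimal_normal hKne hKmin
    obtain ⟨a, ha⟩ := (haveI := Fact.mk hp; IsPGroup.iff_card.1 hKp)
    have hpq : p ≠ Nat.card H := by
      intro he
      have ha0 : a ≠ 0 := fun h0 => hKne (Subgroup.card_eq_one.1 (by rw [ha, h0, pow_zero]))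
      have h2 := hd.coprime
      rw [ha, ← he, Nat.coprime_pow_left_iff (Nat.pos_of_ne_zero ha0)] at h2
      exact hp.ne_one ((Nat.coprime_self p).1 h2)
    refine ⟨?_, ?_, p, Nat.card H, a, hp, hq, hpq, ?_, ?_⟩
    · intro hc
      haveI := hc
      obtain ⟨b, hb, hb1⟩ := (Subgroup.bot_or_exists_ne_one H).resolve_left hHne
      exact hk₀1 (hd.fpf hb hb1 hk₀ (mul_comm' b k₀))
    · intro W hW
      by_cases hWK : W ≤ K
      · exact ⟨⟨fun u v => Subtype.ext (hKab u (hWK u.2) v (hWK v.2))⟩⟩
      · obtain ⟨w, hwW, hwK⟩ := SetLike.not_le_iff_exists.1 hWK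
        rcases hd.decomp w with h1 | ⟨k, hk, b, hb, hb1, rfl⟩
        · exact absurd h1 hwK
        set H' := H.map (MulAut.conj k).toMonoidHom with hH'
        haveI : IsCyclic ↥H := @isCyclic_of_prime_card _ _ (Nat.card H) ⟨hq⟩ rfl
        haveI : IsCyclic ↥H' := isCyclic_of_surjective (MulEquiv.subgroupMap (MulAut.conj k) H).toMonoidHom
          (MulEquiv.subgroupMap (MulAut.conj k) H).surjective
        have hH'c : Nat.card H' = Nat.card H := Subgroup.card_map_of_injective (MulAut.conj k).injective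
        have hH'W : H' ≤ W := by
          have hz : Subgroup.zpowers (k * b * k⁻¹) = H' := by
            refine Subgroup.eq_of_le_of_card_ge (Subgroup.zpowers_le.2 ⟨b, hb, rfl⟩) ?_
            rw [hH'c, Nat.card_zpowers]
            have h2 : orderOf (k * b * k⁻¹) ∣ Nat.card H := by
              rw [← hH'c]; exact Subgroup.orderOf_dvd_natCard H' ⟨b, hb, rfl⟩
            rcases (Nat.dvd_prime hq).1 h2 with h3 | h3
            · rw [orderOf_eq_one_iff, conj_eq_one_iff] at h3
              exact absurd h3 hb1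
            · rw [h3]
          rw [← hz]; exact Subgroup.zpowers_le.2 hwW
        have hH'co : IsCoatom H' := (MulEquiv.mapSubgroup (MulAut.conj k)).isCoatom_iff H |>.2 hHco
        rcases hH'co.le_iff.1 hH'W with ht | he
        · exact absurd ht hW
        · subst he
          exact ⟨⟨fun u v => IsCyclic.commGroup.mul_comm u v⟩⟩
    · rw [← hKc.card_mul_card, ha]
    · intro P hP
      have hPK : P ≤ K := fun u hu => (hd.mem_iff u).2 (by
        rw [ha, ← hP]; exact Subgroup.orderOf_dvd_natCard P hu)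
      rw [Subgroup.eq_of_le_of_card_ge hPK (by rw [ha, hP])]
      exact hKn
  push Not at hI
  left
  by_cases hA : ∃ x : G, x ∉ Z ∧ IsMulCommutative ↥(Subgroup.centralizer ({x} : Set G))
  · -- a normal abelian centralizer
    obtain ⟨x, hx, hab⟩ := hA
    haveI := hI x hx hab
    set M := Subgroup.centralizer ({x} : Set G) with hMdef
    haveI hMn : (M.map f).Normal := Subgroup.Normal.map inferInstance f hfs
    obtain ⟨hMco, hMcm⟩ := image_coatom x (h x hx)
    have hr := prime_index hMco
    obtain ⟨s, hs⟩ : ∃ s, s ∉ M := by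
      by_contra hh
      push Not at hh
      exact (h x hx).1 ((Subgroup.eq_top_iff' _).2 hh)
    have hsZ : s ∉ Z := fun hz => hs (Subgroup.center_le_centralizer _ hz)
    set M' := Subgroup.centralizer ({s} : Set G) with hM'def
    obtain ⟨hM'co, hM'cm⟩ := image_coatom s (h s hsZ)
    have hne : M ≠ M' := fun he => hs (he ▸ Subgroup.mem_centralizer_singleton_iff.2 rfl)
    have hinf : M.map f ⊓ M'.map f = ⊥ := by
      rw [eq_bot_iff]
      intro u hu
      obtain ⟨w, rfl⟩ := hfs u
      rw [Subgroup.mem_bot]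
      exact (QuotientGroup.eq_one_iff w).2 (inf_le_center h hsZ hab hx hne ⟨hMcm.le hu.1, hM'cm.le hu.2⟩)
    have hsup : M.map f ⊔ M'.map f = ⊤ := hMco.2 _ (lt_of_le_of_ne le_sup_left fun he => by
      have h1 : M'.map f ≤ M.map f := he ▸ le_sup_right
      exact hs (hMcm.le (h1 (hselfc s))))
    have hcard : Nat.card (G ⧸ Z) = Nat.card ↥(M.map f) * Nat.card ↥(M'.map f) := by
      rw [← SolvBasic.card_sup_of_inf_eq_bot (by rw [Subgroup.normalizer_eq_top]; exact le_top) hinf, hsup,
        Subgroup.card_top]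
    have hM'c : Nat.card ↥(M'.map f) = (M.map f).index := by
      have := (M.map f).card_mul_index
      rw [hcard] at this
      exact (Nat.eq_of_mul_eq_mul_left Nat.card_pos this).symm
    haveI := Fact.mk (hM'c ▸ hr : (Nat.card ↥(M'.map f)).Prime)
    haveI hc' : IsCyclic ↥(M'.map f) := isCyclic_of_prime_card rfl
    have hab' : IsMulCommutative ↥M' := by
      refine ⟨⟨fun a b => ?_⟩⟩
      refine commutative_of_cyclic_center_quotient (f.subgroupMap M') ?_ a b
      intro u hu
      rw [Subgroup.mem_center_iff]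
      intro v
      have h1 : (u : G) ∈ Z := (QuotientGroup.eq_one_iff _).1 (congrArg Subtype.val hu)
      exact Subtype.ext (Subgroup.mem_center_iff.1 h1 v)
    haveI := hI s hsZ hab'
    haveI hM'n : (M'.map f).Normal := Subgroup.Normal.map inferInstance f hfs
    have hr' := prime_index hM'co
    have hMc : Nat.card ↥(M.map f) = (M'.map f).index := by
      have := (M'.map f).card_mul_index
      rw [hcard, mul_comm (Nat.card ↥(M.map f))] at this
      exact (Nat.eq_of_mul_eq_mul_left Nat.card_pos this).symm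
    rw [← hMc] at hr'
    have hr2 : (Nat.card ↥(M'.map f)).Prime := Fact.out
    haveI := Fact.mk hr'
    haveI hc : IsCyclic ↥(M.map f) := isCyclic_of_prime_card rfl
    have hcomm : ∀ a ∈ M.map f, ∀ b ∈ M'.map f, a * b = b * a := fun a ha b hb =>
      Subgroup.commute_of_normal_of_disjoint _ _ hMn hM'n (disjoint_iff.2 hinf) a b ha hb
    have hdec : ∀ u : G ⧸ Z, ∃ a ∈ M.map f, ∃ b ∈ M'.map f, u = a * b := by
      intro u
      have hu : u ∈ ((M.map f ⊔ M'.map f : Subgroup (G ⧸ Z)) : Set (G ⧸ Z)) := by rw [hsup]; trivial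
      rw [Subgroup.normal_mul] at hu
      obtain ⟨a, ha, b, hb, rfl⟩ := Set.mem_mul.1 hu
      exact ⟨a, ha, b, hb, rfl⟩
    have heq : Nat.card ↥(M.map f) = Nat.card ↥(M'.map f) := by
      by_contra hne2
      apply hcyc
      obtain ⟨a, ha⟩ := isCyclic_iff_exists_orderOf_eq_natCard.1 hc
      obtain ⟨b, hb⟩ := isCyclic_iff_exists_orderOf_eq_natCard.1 hc'
      refine isCyclic_of_orderOf_eq_card ((a : G ⧸ Z) * b) ?_
      rw [(show Commute (a : G ⧸ Z) b from hcomm a a.2 b b.2).orderOf_mul_eq_mul_orderOf_of_coprime]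
      · rw [Subgroup.orderOf_coe, Subgroup.orderOf_coe, ha, hb, hcard]
      · rw [Subgroup.orderOf_coe, Subgroup.orderOf_coe, ha, hb, Nat.coprime_primes hr' hr2]
        exact hne2
    refine ⟨Nat.card ↥(M.map f), hr', ⟨⟨fun u v => Subtype.ext ?_⟩⟩, fun u _ => ?_⟩
    · obtain ⟨a, ha, b, hb, h1⟩ := hdec u.1
      obtain ⟨a', ha', b', hb', h2⟩ := hdec v.1
      show u.1 * v.1 = v.1 * u.1
      have e1 : a * a' = a' * a :=
        congrArg Subtype.val (IsCyclic.commGroup.mul_comm (⟨a, ha⟩ : ↥(M.map f)) ⟨a', ha'⟩)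
      have e2 : b * b' = b' * b :=
        congrArg Subtype.val (IsCyclic.commGroup.mul_comm (⟨b, hb⟩ : ↥(M'.map f)) ⟨b', hb'⟩)
      rw [h1, h2]
      calc a * b * (a' * b') = a * (b * a') * b' := by group
        _ = a * (a' * b) * b' := by rw [hcomm a' ha' b hb]
        _ = (a * a') * (b * b') := by group
        _ = (a' * a) * (b' * b) := by rw [e1, e2]
        _ = a' * (a * b') * b := by group
        _ = a' * (b' * a) * b := by rw [hcomm a ha b' hb']
        _ = a' * b' * (a * b) := by group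
    · obtain ⟨a, ha, b, hb, rfl⟩ := hdec u
      rw [(show Commute a b from hcomm a ha b hb).mul_pow]
      have h1 : a ^ Nat.card ↥(M.map f) = 1 :=
        orderOf_dvd_iff_pow_eq_one.1 (Subgroup.orderOf_dvd_natCard _ ha)
      have h2 : b ^ Nat.card ↥(M.map f) = 1 :=
        orderOf_dvd_iff_pow_eq_one.1 (heq ▸ Subgroup.orderOf_dvd_natCard _ hb)
      rw [h1, h2, one_mul]
  push Not at hA
  -- every centralizer is a prime power group modulo the centre
  have hP : ∀ x : G, x ∉ Z → ∃ p : ℕ, p.Prime ∧ IsPGroup p ↥((Subgroup.centralizer ({x} : Set G)).map f) :=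
    fun x hx => (abelian_or_pgroup h hx).resolve_left (hA x hx)
  by_cases hone : ∃ p : ℕ, p.Prime ∧ IsPGroup p (G ⧸ Z)
  · obtain ⟨p, hp, hQ⟩ := hone
    haveI := Fact.mk hp
    haveI := hQ.isNilpotent
    haveI : Group.IsNilpotent G := Subgroup.isNilpotent_of_ker_le_center f
      (by rw [hf, QuotientGroup.ker_mk'])
    have key : ∀ x : G, x ∉ Z → ∀ g : G, g ^ p ∈ Subgroup.centralizer ({x} : Set G) ∧
        ∀ g' : G, g * g' * g⁻¹ * g'⁻¹ ∈ Subgroup.centralizer ({x} : Set G) := by
      intro x hx g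
      obtain ⟨hco, hcm⟩ := image_coatom x (h x hx)
      haveI := Subgroup.NormalizerCondition.normal_of_coatom _ Group.normalizerCondition_of_isNilpotent hco
      have hi := prime_index hco
      have hip : ((Subgroup.centralizer ({x} : Set G)).map f).index = p := by
        obtain ⟨k, hk⟩ := hQ.index ((Subgroup.centralizer ({x} : Set G)).map f)
        rw [hk] at hi ⊢
        have h1 := (Nat.prime_dvd_prime_iff_eq hp hi).1 (dvd_pow_self p (by rintro rfl; exact Nat.not_prime_one hi))
        exact h1.symm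
      constructor
      · rw [← hcm, Subgroup.mem_comap, map_pow, ← hip]
        exact Subgroup.pow_index_mem _ (f g)
      · intro g'
        rw [← hcm, Subgroup.mem_comap]
        haveI : IsCyclic ((G ⧸ Z) ⧸ (Subgroup.centralizer ({x} : Set G)).map f) :=
          @isCyclic_of_prime_card _ _ p ⟨hp⟩ (by rw [← Subgroup.index_eq_card, hip])
        rw [← QuotientGroup.eq_one_iff]
        have hc := IsCyclic.commGroup.mul_comm ((f g : G ⧸ Z) : (G ⧸ Z) ⧸ (Subgroup.centralizer ({x} : Set G)).map f) (f g' : G ⧸ Z)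
        show ((f (g * g' * g⁻¹ * g'⁻¹) : G ⧸ Z) : (G ⧸ Z) ⧸ (Subgroup.centralizer ({x} : Set G)).map f) = 1
        rw [map_mul, map_mul, map_mul, map_inv, map_inv, QuotientGroup.mk_mul, QuotientGroup.mk_mul,
          QuotientGroup.mk_mul, QuotientGroup.mk_inv, QuotientGroup.mk_inv, hc, mul_inv_cancel_right,
          mul_inv_cancel]
    have hcen : ∀ w : G, (∀ x : G, x ∉ Z → w ∈ Subgroup.centralizer ({x} : Set G)) → w ∈ Z := by
      intro w hw
      rw [hZ, Subgroup.mem_center_iff]
      intro x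
      by_cases hx : x ∈ Z
      · exact (Subgroup.mem_center_iff.1 hx w).symm
      · exact (Subgroup.mem_centralizer_singleton_iff.1 (hw x hx)).symm
    refine ⟨p, hp, ⟨⟨fun u v => Subtype.ext ?_⟩⟩, fun u _ => ?_⟩
    · obtain ⟨g, hg⟩ := hfs u.1
      obtain ⟨g', hg'⟩ := hfs v.1
      show u.1 * v.1 = v.1 * u.1
      rw [← hg, ← hg', ← map_mul, ← map_mul]
      refine (mul_inv_eq_one.1 ?_)
      rw [← map_inv, ← map_mul]
      refine (QuotientGroup.eq_one_iff _).2 (hcen _ fun x hx => ?_)
      simpa [mul_assoc] using (key x hx g).2 g'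
    · obtain ⟨g, rfl⟩ := hfs u
      rw [← map_pow]
      exact (QuotientGroup.eq_one_iff _).2 (hcen _ fun x hx => (key x hx g).1)
  exfalso
  push Not at hone
  have hsyl : ∀ r : ℕ, [Fact r.Prime] → r ∣ Nat.card (G ⧸ Z) → ∃ S : Sylow r (G ⧸ Z),
      IsCoatom (S : Subgroup (G ⧸ Z)) ∧ ¬ (S : Subgroup (G ⧸ Z)).Normal := by
    intro r _ hrd
    have hr : r.Prime := Fact.out
    obtain ⟨u, hu⟩ := exists_prime_orderOf_dvd_card' r hrd
    obtain ⟨x, hxu, hx⟩ := hlift u (fun h1 => by rw [h1, orderOf_one] at hu; exact hr.ne_one hu.symm)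
    obtain ⟨hco, hcm⟩ := image_coatom x (h x hx)
    set W := (Subgroup.centralizer ({x} : Set G)).map f with hW
    obtain ⟨t, ht, hWt⟩ := hP x hx
    have htr : t = r := by
      haveI := Fact.mk ht
      obtain ⟨k, hk⟩ := IsPGroup.iff_card.1 hWt
      have h1 : r ∣ Nat.card W := hu ▸ Subgroup.orderOf_dvd_natCard W (hxu ▸ hselfc x)
      rw [hk] at h1
      exact ((Nat.prime_dvd_prime_iff_eq hr ht).1 (hr.dvd_of_dvd_pow h1)).symm
    subst htr
    have hnn : ¬ W.Normal := by
      intro hn
      haveI := hn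
      have hi := prime_index hco
      set s := W.index with hs
      haveI := Fact.mk hi
      have hsr : s ≠ t := by
        intro he
        refine hone t hr (IsPGroup.of_card (n := ((Nat.card W).factorization t) + 1) ?_)
        rw [← W.card_mul_index, ← hs, he, pow_succ]
        congr 1
        obtain ⟨k, hk⟩ := IsPGroup.iff_card.1 hWt
        rw [hk, hr.factorization_pow, Finsupp.single_eq_same]
      obtain ⟨v, hv⟩ := exists_prime_orderOf_dvd_card' (G := G ⧸ Z) s (W.index_dvd_card)
      obtain ⟨y, hyv, hy⟩ := hlift v (fun h1 => by rw [h1, orderOf_one] at hv; exact hi.ne_one hv.symm)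
      obtain ⟨t', ht', hY⟩ := hP y hy
      haveI := Fact.mk ht'
      set Y := (Subgroup.centralizer ({y} : Set G)).map f with hYdef
      obtain ⟨k, hk⟩ := IsPGroup.iff_card.1 hY
      have h1 : s ∣ Nat.card Y := hv ▸ Subgroup.orderOf_dvd_natCard Y (hyv ▸ hselfc y)
      rw [hk] at h1
      have hts : s = t' := (Nat.prime_dvd_prime_iff_eq hi ht').1 (hi.dvd_of_dvd_pow h1)
      subst hts
      obtain ⟨j, hj⟩ := IsPGroup.iff_card.1 hWt
      have hd : Nat.card Y ∣ t ^ j * s := by
        rw [← hj, hs, W.card_mul_index]; exact Y.card_subgroup_dvd_card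
      have hYs : Nat.card Y ∣ s := by
        refine Nat.Coprime.dvd_of_dvd_mul_left ?_ hd
        rw [hk]
        exact Nat.Coprime.pow _ _ ((Nat.coprime_primes hi hr).2 hsr)
      haveI : IsCyclic ↥Y := by
        rcases (Nat.dvd_prime hi).1 hYs with h2 | h2
        · haveI : Subsingleton ↥Y := (Nat.card_eq_one_iff_unique.1 h2).1
          infer_instance
        · exact isCyclic_of_prime_card h2
      refine hA y hy ⟨⟨fun a b => ?_⟩⟩
      refine commutative_of_cyclic_center_quotient (f.subgroupMap (Subgroup.centralizer ({y} : Set G))) ?_ a b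
      intro a ha
      rw [Subgroup.mem_center_iff]
      intro b
      exact Subtype.ext (Subgroup.mem_center_iff.1 ((QuotientGroup.eq_one_iff _).1 (congrArg Subtype.val ha)) b)
    obtain ⟨S, hS⟩ := hWt.exists_le_sylow
    have hSW : (S : Subgroup (G ⧸ Z)) = W := by
      rcases hco.le_iff.1 hS with ht2 | he
      · exfalso
        exact hone t hr (S.isPGroup'.of_equiv ((MulEquiv.subgroupCongr ht2).trans Subgroup.topEquiv))
      · exact he
    exact ⟨S, hSW ▸ hco, hSW ▸ hnn⟩
  obtain ⟨p, hp, hp2, hpd⟩ : ∃ p : ℕ, p.Prime ∧ p ≠ 2 ∧ p ∣ Nat.card (G ⧸ Z) := by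
    by_contra hne
    refine hone 2 Nat.prime_two (IsPGroup.of_card (n := (Nat.card (G ⧸ Z)).primeFactorsList.length) ?_)
    exact Nat.eq_prime_pow_of_unique_prime_dvd Nat.card_pos.ne'
      fun {d} hd hdd => by_contra fun hd2 => hne ⟨d, hd, hd2, hdd⟩
  haveI := Fact.mk hp
  obtain ⟨P, hPco, hPnn⟩ := hsyl p hpd
  obtain ⟨q, hq, hqd, hqp⟩ : ∃ q : ℕ, q.Prime ∧ q ∣ Nat.card (G ⧸ Z) ∧ q ≠ p := by
    by_contra hne
    refine hone p hp (IsPGroup.of_card (n := (Nat.card (G ⧸ Z)).primeFactorsList.length) ?_)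
    exact Nat.eq_prime_pow_of_unique_prime_dvd Nat.card_pos.ne'
      fun {d} hd hdd => by_contra fun hd2 => hne ⟨d, hd, hdd, hd2⟩
  haveI := Fact.mk hq
  obtain ⟨Pq, hPqco, hPqnn⟩ := hsyl q hqd
  set W := ZJ.zJ p True (P : Subgroup (G ⧸ Z)) with hW
  have hWne : W ≠ ⊥ := fun hb => ZJ.zCore_ne_bot P.isPGroup' (P.ne_bot_of_dvd_card hpd)
    (le_bot_iff.1 ((ZJ.zCore_le_zJ (p := p) (e := True) (P : Subgroup (G ⧸ Z))).trans (hW.symm.trans hb).le))
  have hNW : Subgroup.normalizer (W : Set (G ⧸ Z)) = (P : Subgroup (G ⧸ Z)) := by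
    rcases hPco.le_iff.1 (ZJ.le_normalizer_zJ (P : Subgroup (G ⧸ Z))) with ht | he
    swap
    · exact he
    exfalso
    haveI : W.Normal := Subgroup.normalizer_eq_top_iff.1 ht
    have hinf : W ⊓ (Pq : Subgroup (G ⧸ Z)) = ⊥ :=
      le_bot_iff.1 ((inf_le_inf_right _ (ZJ.zJ_le _)).trans
        (IsPGroup.disjoint_of_ne p q hqp.symm _ _ P.isPGroup' Pq.isPGroup').eq_bot.le)
    have htop : (Pq : Subgroup (G ⧸ Z)) ⊔ W = ⊤ := by
      refine hPqco.2 _ (lt_of_le_of_ne le_sup_left fun he => hWne ?_)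
      rw [← hinf, eq_comm, inf_eq_left]
      exact he ▸ le_sup_right
    have hc : Nat.card ↥(W ⊔ (Pq : Subgroup (G ⧸ Z))) = Nat.card W * Nat.card (Pq : Subgroup (G ⧸ Z)) :=
      SolvBasic.card_sup_of_inf_eq_bot (by rw [Subgroup.normalizer_eq_top]; exact le_top) hinf
    rw [sup_comm, htop, Subgroup.card_top] at hc
    have hd : Nat.card (P : Subgroup (G ⧸ Z)) ∣ Nat.card W * Nat.card (Pq : Subgroup (G ⧸ Z)) :=
      hc ▸ Subgroup.card_subgroup_dvd_card _
    have hcop : (Nat.card (P : Subgroup (G ⧸ Z))).Coprime (Nat.card (Pq : Subgroup (G ⧸ Z))) := by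
      rw [P.card_eq_multiplicity, Pq.card_eq_multiplicity]
      exact Nat.Coprime.pow _ _ ((Nat.coprime_primes hp hq).2 hqp.symm)
    have hWP : W = (P : Subgroup (G ⧸ Z)) := Subgroup.eq_of_le_of_card_ge (ZJ.zJ_le _)
      (Nat.le_of_dvd Nat.card_pos (hcop.dvd_of_dvd_mul_right hd))
    exact hPnn (hWP ▸ ‹W.Normal›)
  have hnpc : Cfsg.HasNormalPComplement p (G ⧸ Z) := by
    refine ZJNPC.hasNormalPComplement_of_zJ hp2 True P ?_
    rw [← hW, hNW]
    exact PBasic.hasNormalPComplement_of_isPGroup P.isPGroup'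
  obtain ⟨K, hKn, hKc, j, hKj⟩ := PBasic.hasNormalPComplement_iff.1 hnpc
  haveI := hKn
  have hqK : q ∣ Nat.card K := by
    rw [← K.card_mul_index, hKj] at hqd
    exact (hq.dvd_mul.1 hqd).resolve_right
      fun hh => hqp ((Nat.prime_dvd_prime_iff_eq hq hp).1 (hq.dvd_of_dvd_pow hh))
  have hcop : (Nat.card (P : Subgroup (G ⧸ Z))).Coprime (Nat.card K) := by
    rw [P.card_eq_multiplicity]; exact Nat.Coprime.pow_left _ hKc.symm
  have hPK : (P : Subgroup (G ⧸ Z)) ≤ Subgroup.normalizer (K : Set (G ⧸ Z)) := by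
    rw [Subgroup.normalizer_eq_top]; exact le_top
  haveI := P.isPGroup'.isNilpotent
  obtain ⟨S, hS⟩ := CoprimeAct.exists_invariant_sylow hPK hcop (Or.inl inferInstance) q
  set B := (S : Subgroup ↥K).map K.subtype with hB
  have hBP : B ⊓ (P : Subgroup (G ⧸ Z)) = ⊥ :=
    le_bot_iff.1 ((inf_le_inf_right _ (Subgroup.map_subtype_le _)).trans (SchurZ.inf_eq_bot hcop).le)
  have hBne : B ≠ ⊥ := by
    rw [hB, Ne, Subgroup.map_eq_bot_iff_of_injective _ K.subtype_injective]
    exact S.ne_bot_of_dvd_card hqK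
  have htop : (P : Subgroup (G ⧸ Z)) ⊔ B = ⊤ := by
    refine hPco.2 _ (lt_of_le_of_ne le_sup_left fun he => hBne ?_)
    rw [← hBP, eq_comm, inf_eq_left]
    exact he ▸ le_sup_right
  haveI hBn : B.Normal := by
    rw [← Subgroup.normalizer_eq_top_iff, eq_top_iff, ← htop]
    exact sup_le hS Subgroup.le_normalizer
  obtain ⟨g, hg⟩ : ∃ g : G ⧸ Z, g • Pq = (default : Sylow q (G ⧸ Z)) := MulAction.exists_smul_eq _ _ _
  have hBle : ∀ T : Sylow q (G ⧸ Z), B ≤ (T : Subgroup (G ⧸ Z)) := fun T =>
    (PBasic.le_pCore hBn (S.isPGroup'.map _)).trans (PBasic.pCore_le_sylow T)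
  have hBc : Nat.card (Pq : Subgroup (G ⧸ Z)) ≤ Nat.card B := by
    have hc : Nat.card ↥(B ⊔ (P : Subgroup (G ⧸ Z))) = Nat.card B * Nat.card (P : Subgroup (G ⧸ Z)) :=
      SolvBasic.card_sup_of_inf_eq_bot hS hBP
    rw [sup_comm, htop, Subgroup.card_top] at hc
    have hd : Nat.card (Pq : Subgroup (G ⧸ Z)) ∣ Nat.card B * Nat.card (P : Subgroup (G ⧸ Z)) :=
      hc ▸ Subgroup.card_subgroup_dvd_card _
    refine Nat.le_of_dvd Nat.card_pos (Nat.Coprime.dvd_of_dvd_mul_right ?_ hd)
    rw [P.card_eq_multiplicity, Pq.card_eq_multiplicity]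
    exact Nat.Coprime.pow _ _ ((Nat.coprime_primes hq hp).2 hqp)
  exact hPqnn (Subgroup.eq_of_le_of_card_ge (hBle Pq) hBc ▸ hBn)

end Cfsg.Agent.S3904
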