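import Cfsg.Statements.S3905
import Cfsg.Agent.Lib.FGStruct.FrobeniusData
import Cfsg.Agent.Lib.FiniteGroup.FrobKernelQuat
import Cfsg.Agent.Lib.PLocal.ZJNPC
import Cfsg.Agent.Lib.Solvable.Coprime
import Cfsg.Agent.Lib.Solvable.Basic
import Cfsg.Agent.Lib.Solvable.NilpotentFrattini
import Cfsg.Agent.Lib.Components.Fitting
import Cfsg.Agent.Lib.Transfer.Basic

set_option autoImplicit false
open Cfsg

namespace Cfsg.Agent.S3905

open Cfsg.Agent
open Cfsg.Agent.FrobData
open scoped commutatorElement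

lemma prime_card_of_simple {Q : Type*} [Group Q] [Finite Q] [Nontrivial Q] [Group.IsNilpotent Q]
    (h : ∀ K : Subgroup Q, K.Normal → K = ⊥ ∨ K = ⊤) : (Nat.card Q).Prime := by
  have hc : Subgroup.center Q = ⊤ :=
    (h _ inferInstance).resolve_left (fun hb => by
      exact Group.IsNilpotent.center_ne_bot Q hb)
  have hall : ∀ K : Subgroup Q, K = ⊥ ∨ K = ⊤ := fun K => h K ⟨fun k hk g => by
    have hg : k ∈ Subgroup.center Q := by rw [hc]; exact Subgroup.mem_top k
    rw [Subgroup.mem_center_iff.1 hg g, mul_inv_cancel_right]; exact hk⟩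
  obtain ⟨r, hr, hd⟩ := Nat.exists_prime_and_dvd (n := Nat.card Q) Finite.one_lt_card.ne'
  haveI := Fact.mk hr
  obtain ⟨x, hx⟩ := exists_prime_orderOf_dvd_card' r hd
  rcases hall (Subgroup.zpowers x) with hb | ht
  · rw [Subgroup.zpowers_eq_bot] at hb
    rw [hb, orderOf_one] at hx
    exact absurd hx.symm hr.ne_one
  · rw [← Subgroup.card_top, ← ht, Nat.card_zpowers, hx]
    exact hr

lemma eq_of_selfnorm {Q : Type*} [Group Q] [Finite Q] {A W : Subgroup Q} (hAW : A ≤ W)
    [Group.IsNilpotent ↥W] (hA : Subgroup.normalizer (A : Set Q) ≤ A) : A = W := by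
  refine le_antisymm hAW (Subgroup.subgroupOf_eq_top.1 ?_)
  by_contra hne
  obtain ⟨v, hv, hvA⟩ := SetLike.exists_of_lt
    (Group.normalizerCondition_of_isNilpotent (A.subgroupOf W) (lt_top_iff_ne_top.2 hne))
  refine hvA (Subgroup.mem_subgroupOf.2 (hA (Subgroup.mem_normalizer_iff.2 fun w => ?_)))
  constructor
  · intro hw
    exact (Subgroup.mem_normalizer_iff.1 hv ⟨w, hAW hw⟩).1 hw
  · intro hw
    have hwW : w ∈ W := by
      have h2 := W.mul_mem (W.mul_mem (W.inv_mem v.2) (hAW hw)) v.2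
      simpa [mul_assoc] using h2
    exact (Subgroup.mem_normalizer_iff.1 hv ⟨w, hwW⟩).2 hw

lemma conj_pow_central {X : Type*} [Group X] {u x c : X} (hc : c ∈ Subgroup.center X)
    (h : u * x = c * x * u) (n : ℕ) : u ^ n * x = c ^ n * x * u ^ n := by
  induction n with
  | zero => simp
  | succ n ih =>
    calc u ^ (n + 1) * x = u * (u ^ n * x) := by rw [pow_succ']; group
      _ = (u * c ^ n) * x * u ^ n := by rw [ih]; group
      _ = c ^ n * (u * x) * u ^ n := by rw [Subgroup.mem_center_iff.1 (pow_mem hc n) u]; group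
      _ = c ^ (n + 1) * x * u ^ (n + 1) := by rw [h, pow_succ, pow_succ' u]; group

section
variable {G : Type*} [Group G] [Finite G]
variable (h : ∀ x u : G, u ∉ Subgroup.center G → u ∈ Subgroup.zpowers x →
  Subgroup.centralizer ({x} : Set G) = Subgroup.centralizer ({u} : Set G))
include h

lemma cent_eq_of_coprime {x y : G} (hx : x ∉ Subgroup.center G) (hy : y ∉ Subgroup.center G)
    (hc : Commute x y) (hco : (orderOf x).Coprime (orderOf y)) :
    Subgroup.centralizer ({x} : Set G) = Subgroup.centralizer ({y} : Set G) := by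
  have key : ∀ {a b : G}, Commute a b → (orderOf a).Coprime (orderOf b) → a ∈ Subgroup.zpowers (a * b) := by
    intro a b hab hcop
    obtain ⟨m, hm⟩ := exists_pow_eq_self_of_coprime (x := a) (n := orderOf b) hcop.symm
    refine ⟨(orderOf b * m : ℕ), ?_⟩
    show (a * b) ^ ((orderOf b * m : ℕ) : ℤ) = a
    rw [zpow_natCast, pow_mul, hab.mul_pow, pow_orderOf_eq_one, mul_one, hm]
  rw [← h _ _ hx (key hc hco), hc.eq, h _ _ hy (key hc.symm hco.symm)]

/-- A centralizer is abelian or a `p`-group modulo the centre. -/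
lemma abelian_or_pgroup {x : G} (hx : x ∉ Subgroup.center G) :
    IsMulCommutative ↥(Subgroup.centralizer ({x} : Set G)) ∨
    ∃ p : ℕ, p.Prime ∧ IsPGroup p
      ↥((Subgroup.centralizer ({x} : Set G)).map (QuotientGroup.mk' (Subgroup.center G))) := by
  classical
  obtain ⟨p, hp, u, hu, hup, hCu⟩ : ∃ p : ℕ, p.Prime ∧ ∃ u : G, u ∉ Subgroup.center G ∧
      (∃ k, orderOf u = p ^ k) ∧ Subgroup.centralizer ({x} : Set G) = Subgroup.centralizer ({u} : Set G) := by
    by_contra hne
    apply hx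
    suffices hall : ∀ n : ℕ, ∀ w : G, orderOf w = n → w ∈ Subgroup.zpowers x → w ∈ Subgroup.center G from
      hall _ x rfl (Subgroup.mem_zpowers x)
    intro n
    induction n using Nat.strong_induction_on with
    | _ n ih =>
      intro w hn hw
      rcases eq_or_ne n 1 with rfl | hn1
      · rw [orderOf_eq_one_iff] at hn
        rw [hn]; exact one_mem _
      obtain ⟨r, hr, hrd⟩ := Nat.exists_prime_and_dvd hn1
      haveI := Fact.mk hr
      obtain ⟨a, b, hab, ha, hb, ⟨k, hk⟩, hbc⟩ := PBasic.exists_pPart_mul (p := r) w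
      rw [← hab]
      refine mul_mem ?_ ?_
      · by_contra hac
        exact hne ⟨r, hr, a, hac, ⟨k, hk⟩, h _ _ hac ((Subgroup.zpowers_le.2 hw) ha)⟩
      · refine ih (orderOf b) ?_ b rfl ((Subgroup.zpowers_le.2 hw) hb)
        have hd : orderOf b ∣ n := hn ▸ orderOf_dvd_of_mem_zpowers hb
        refine lt_of_le_of_ne (Nat.le_of_dvd (hn ▸ orderOf_pos w) hd) fun he => ?_
        rw [he] at hbc
        exact hr.coprime_iff_not_dvd.1 hbc.symm hrd
  haveI := Fact.mk hp
  rw [hCu]
  by_cases hex : ∃ y ∈ Subgroup.centralizer ({u} : Set G), (orderOf y).Coprime p ∧ y ∉ Subgroup.center G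
  · left
    obtain ⟨y, hyC, hyo, hy⟩ := hex
    obtain ⟨k, hk⟩ := hup
    have hyu : Subgroup.centralizer ({u} : Set G) = Subgroup.centralizer ({y} : Set G) := by
      refine cent_eq_of_coprime h hu hy (Subgroup.mem_centralizer_singleton_iff.1 hyC).symm ?_
      rw [hk]; exact Nat.Coprime.pow_left k hyo.symm
    have hall : ∀ a ∈ Subgroup.centralizer ({u} : Set G), ∀ b ∈ Subgroup.centralizer ({u} : Set G), a * b = b * a := by
      intro a ha b hb
      obtain ⟨a1, a2, hA, ha1, ha2, ⟨i, hi⟩, ha2c⟩ := PBasic.exists_pPart_mul (p := p) a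
      have m1 := (Subgroup.zpowers_le.2 ha) ha1
      have m2 := (Subgroup.zpowers_le.2 ha) ha2
      have c1 : a1 * b = b * a1 := by
        by_cases hc : a1 ∈ Subgroup.center G
        · exact (Subgroup.mem_center_iff.1 hc b).symm
        · have hm : a1 ∈ Subgroup.centralizer ({y} : Set G) := hyu ▸ m1
          have := cent_eq_of_coprime h hc hy (Subgroup.mem_centralizer_singleton_iff.1 hm)
            (by rw [hi]; exact Nat.Coprime.pow_left i hyo.symm)
          rw [hyu, ← this] at hb
          exact (Subgroup.mem_centralizer_singleton_iff.1 hb).symm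
      have c2 : a2 * b = b * a2 := by
        by_cases hc : a2 ∈ Subgroup.center G
        · exact (Subgroup.mem_center_iff.1 hc b).symm
        · have := cent_eq_of_coprime h hc hu (Subgroup.mem_centralizer_singleton_iff.1 m2)
            (by rw [hk]; exact Nat.Coprime.pow_right k ha2c)
          rw [← this] at hb
          exact (Subgroup.mem_centralizer_singleton_iff.1 hb).symm
      rw [← hA]
      exact ((show Commute a1 b from c1).mul_left c2).eq
    exact ⟨⟨fun a b => Subtype.ext (hall a a.2 b b.2)⟩⟩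
  · right
    push Not at hex
    refine ⟨p, hp, ?_⟩
    rintro ⟨_, a, ha, rfl⟩
    obtain ⟨a1, a2, hA, ha1, ha2, ⟨i, hi⟩, ha2c⟩ := PBasic.exists_pPart_mul (p := p) a
    refine ⟨i, Subtype.ext ?_⟩
    show QuotientGroup.mk' (Subgroup.center G) a ^ p ^ i = 1
    have h2 : QuotientGroup.mk' (Subgroup.center G) a2 = 1 :=
      (QuotientGroup.eq_one_iff a2).2 (hex a2 ((Subgroup.zpowers_le.2 ha) ha2) ha2c)
    rw [← hA, map_mul, h2, mul_one, ← map_pow, ← hi, pow_orderOf_eq_one, map_one]

end

section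
variable {G : Type*} [Group G] [Finite G] (N : Subgroup G) [N.Normal]

/-- The image of a centralizer in the central quotient. -/
def cq (x : ↥N) : Subgroup (↥N ⧸ Subgroup.center ↥N) :=
  (Subgroup.centralizer ({x} : Set ↥N)).map (QuotientGroup.mk' (Subgroup.center ↥N))

variable {N}

lemma mem_cq {x u : ↥N} :
    QuotientGroup.mk' (Subgroup.center ↥N) u ∈ cq N x ↔ Commute u x := by
  constructor
  · rintro ⟨v, hv, hvu⟩
    have hz : v⁻¹ * u ∈ Subgroup.center ↥N := QuotientGroup.eq.1 hvu
    have h1 : Commute v x := Subgroup.mem_centralizer_singleton_iff.1 hv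
    have h2 : Commute (v⁻¹ * u) x := (Subgroup.mem_center_iff.1 hz x).symm
    simpa using h1.mul_left h2
  · intro hu
    exact Subgroup.mem_map_of_mem _ (Subgroup.mem_centralizer_singleton_iff.2 hu.eq)

lemma cq_eq_of_centralizer_le {x w : ↥N} (h : Subgroup.centralizer ({x} : Set ↥N) ≤ Subgroup.centralizer ({w} : Set ↥N)) :
    cq N x ≤ cq N w := Subgroup.map_mono h

lemma mem_center_conjNormal (g : G) {u : ↥N} (hu : u ∈ Subgroup.center ↥N) :
    MulAut.conjNormal g u ∈ Subgroup.center ↥N := by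
  rw [Subgroup.mem_center_iff] at hu ⊢
  intro v
  rw [← (MulAut.conjNormal g).apply_symm_apply v, ← map_mul, ← map_mul, hu]

lemma commute_conjNormal {m : G} {x : ↥N} (hm : Commute m (x : G)) {v : ↥N} :
    Commute (MulAut.conjNormal m v) x ↔ Commute v x := by
  have hx : MulAut.conjNormal m x = x := Subtype.ext (by
    rw [MulAut.conjNormal_apply, hm.eq, mul_inv_cancel_right])
  constructor
  · intro h
    refine (MulAut.conjNormal (H := N) m).injective ?_
    rw [map_mul, map_mul, hx]
    exact h.eq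
  · intro h
    rw [Commute, SemiconjBy, ← hx, ← map_mul, ← map_mul, h.eq]

variable (h : ∀ x : ↥N, x ∉ Subgroup.center ↥N → IsCoatom (Subgroup.centralizer ({(x : G)} : Set G)))
include h

lemma cent_sup {x : ↥N} (hx : x ∉ Subgroup.center ↥N) :
    N ⊔ Subgroup.centralizer ({(x : G)} : Set G) = ⊤ := by
  refine (h x hx).2 _ (lt_of_le_of_ne le_sup_right fun he => hx ?_)
  rw [Subgroup.mem_center_iff]
  intro v
  have hv : (v : G) ∈ Subgroup.centralizer ({(x : G)} : Set G) := he.ge (le_sup_left (a := N) v.2)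
  exact Subtype.ext (Subgroup.mem_centralizer_singleton_iff.1 hv)

lemma zp_hyp (x u : ↥N) (hu : u ∉ Subgroup.center ↥N) (hux : u ∈ Subgroup.zpowers x) :
    Subgroup.centralizer ({x} : Set ↥N) = Subgroup.centralizer ({u} : Set ↥N) := by
  obtain ⟨i, hi⟩ := hux
  have hxc : x ∉ Subgroup.center ↥N := fun hx => hu (hi ▸ zpow_mem hx i)
  have hi' : (x : G) ^ i = (u : G) := by rw [← Subgroup.coe_zpow]; exact congrArg Subtype.val hi
  have hle : Subgroup.centralizer ({(x : G)} : Set G) ≤ Subgroup.centralizer ({(u : G)} : Set G) := by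
    intro g hg
    rw [Subgroup.mem_centralizer_singleton_iff] at hg ⊢
    rw [← hi']
    exact ((show Commute g (x : G) from hg).zpow_right i).eq
  have he : Subgroup.centralizer ({(u : G)} : Set G) = Subgroup.centralizer ({(x : G)} : Set G) :=
    ((h x hxc).le_iff.1 hle).resolve_left (h u hu).1
  ext g
  rw [Subgroup.mem_centralizer_singleton_iff, Subgroup.mem_centralizer_singleton_iff]
  constructor
  · intro hg
    refine Subtype.ext ?_
    have : (g : G) ∈ Subgroup.centralizer ({(x : G)} : Set G) :=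
      Subgroup.mem_centralizer_singleton_iff.2 (congrArg Subtype.val hg)
    exact Subgroup.mem_centralizer_singleton_iff.1 (he.ge this)
  · intro hg
    refine Subtype.ext ?_
    have : (g : G) ∈ Subgroup.centralizer ({(u : G)} : Set G) :=
      Subgroup.mem_centralizer_singleton_iff.2 (congrArg Subtype.val hg)
    exact Subgroup.mem_centralizer_singleton_iff.1 (he.le this)

/-- Normal subgroups of the central quotient are invariant under the whole group. -/
lemma normal_invariant (K : Subgroup (↥N ⧸ Subgroup.center ↥N)) [K.Normal] (g : G) {u : ↥N}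
    (hu : QuotientGroup.mk' _ u ∈ K) : QuotientGroup.mk' _ (MulAut.conjNormal g u) ∈ K := by
  by_cases huz : u ∈ Subgroup.center ↥N
  · rw [QuotientGroup.mk'_apply, (QuotientGroup.eq_one_iff _).2 (mem_center_conjNormal g huz)]
    exact K.one_mem
  have hg : g ∈ N ⊔ Subgroup.centralizer ({(u : G)} : Set G) := by rw [cent_sup h huz]; exact Subgroup.mem_top g
  obtain ⟨n, hn, m, hm, rfl⟩ := Subgroup.mem_sup_of_normal_left.1 hg
  have e : MulAut.conjNormal (n * m) u = (⟨n, hn⟩ : ↥N) * u * (⟨n, hn⟩ : ↥N)⁻¹ := by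
    refine Subtype.ext ?_
    rw [MulAut.conjNormal_apply]
    have hm' := Subgroup.mem_centralizer_singleton_iff.1 hm
    calc n * m * (u : G) * (n * m)⁻¹ = n * (m * (u : G)) * m⁻¹ * n⁻¹ := by group
      _ = n * ((u : G) * m) * m⁻¹ * n⁻¹ := by rw [hm']
      _ = n * (u : G) * n⁻¹ := by group
      _ = _ := rfl
  rw [e, map_mul, map_mul, map_inv]
  exact (inferInstance : K.Normal).conj_mem _ hu _

lemma cq_max {x : ↥N} (hx : x ∉ Subgroup.center ↥N) {K : Subgroup (↥N ⧸ Subgroup.center ↥N)}
    (hle : cq N x ≤ K)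
    (hK : ∀ m : G, Commute m (x : G) → ∀ u : ↥N, QuotientGroup.mk' _ u ∈ K →
      QuotientGroup.mk' _ (MulAut.conjNormal m u) ∈ K) : K = cq N x ∨ K = ⊤ := by
  set M := Subgroup.centralizer ({(x : G)} : Set G) with hM
  set L := (K.comap (QuotientGroup.mk' (Subgroup.center ↥N))).map N.subtype with hL
  have hMn : M ≤ Subgroup.normalizer (L : Set G) := by
    intro m hm
    rw [Subgroup.mem_normalizer_iff]
    intro w
    constructor
    · rintro ⟨u, hu, rfl⟩
      exact ⟨MulAut.conjNormal m u, hK m (Subgroup.mem_centralizer_singleton_iff.1 hm) u hu,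
        MulAut.conjNormal_apply m u⟩
    · rintro ⟨u, hu, hu'⟩
      refine ⟨MulAut.conjNormal m⁻¹ u, hK m⁻¹ (Subgroup.mem_centralizer_singleton_iff.1 (inv_mem hm)) u hu, ?_⟩
      rw [Subgroup.coe_subtype] at hu' ⊢
      rw [MulAut.conjNormal_apply, hu']
      group
  rcases (h x hx).le_iff.1 (le_sup_right : M ≤ L ⊔ M) with ht | he
  · right
    rw [Subgroup.eq_top_iff']
    intro k
    obtain ⟨n, rfl⟩ := QuotientGroup.mk'_surjective _ k
    have hn : (n : G) ∈ ((L ⊔ M : Subgroup G) : Set G) := by rw [ht]; exact Set.mem_univ _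
    rw [Subgroup.coe_mul_of_right_le_normalizer_left L M hMn] at hn
    obtain ⟨l, hl, m, hm, hlm⟩ := Set.mem_mul.1 hn
    obtain ⟨u, hu, rfl⟩ := hl
    have hc : Commute (u⁻¹ * n) x := by
      refine Subtype.ext ?_
      have hm' := Subgroup.mem_centralizer_singleton_iff.1 hm
      have e : ((u⁻¹ * n : ↥N) : G) = m := by
        rw [Subgroup.coe_mul, Subgroup.coe_inv, ← hlm, Subgroup.coe_subtype, inv_mul_cancel_left]
      simpa [e] using hm'
    have h2 := K.mul_mem hu (hle (mem_cq.2 hc))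
    rwa [map_mul, map_inv, mul_inv_cancel_left] at h2
  · left
    refine le_antisymm (fun k hk => ?_) hle
    obtain ⟨n, rfl⟩ := QuotientGroup.mk'_surjective _ k
    have hn : (n : G) ∈ M := he.le (le_sup_left (b := M) ⟨n, hk, rfl⟩)
    exact mem_cq.2 (Subtype.ext (Subgroup.mem_centralizer_singleton_iff.1 hn))

/-- A join of a normal subgroup and an image of a centralizer is invariant. -/
lemma sup_invariant (L : Subgroup (↥N ⧸ Subgroup.center ↥N)) [L.Normal] (x : ↥N) (m : G)
    (hm : Commute m (x : G)) (u : ↥N) (hu : QuotientGroup.mk' _ u ∈ L ⊔ cq N x) :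
    QuotientGroup.mk' _ (MulAut.conjNormal m u) ∈ L ⊔ cq N x := by
  have hfs : Function.Surjective (QuotientGroup.mk' (Subgroup.center ↥N)) := QuotientGroup.mk'_surjective _
  set f := QuotientGroup.mk' (Subgroup.center ↥N) with hf
  obtain ⟨a, ha, b, hb, hab⟩ := Subgroup.mem_sup_of_normal_left.1 hu
  obtain ⟨a, rfl⟩ := hfs a
  obtain ⟨b, rfl⟩ := hfs b
  have h1 : f (MulAut.conjNormal m (a * b)) = f (MulAut.conjNormal m u) := by
    rw [← map_mul] at hab
    have hz : (a * b)⁻¹ * u ∈ Subgroup.center ↥N := QuotientGroup.eq.1 hab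
    refine QuotientGroup.eq.2 ?_
    rw [← map_inv, ← map_mul]
    exact mem_center_conjNormal m hz
  rw [← h1, map_mul, map_mul]
  exact Subgroup.mul_mem_sup (normal_invariant h L m ha)
    (mem_cq.2 ((commute_conjNormal hm).2 (mem_cq.1 hb)))

lemma cq_normal_or {x : ↥N} (hx : x ∉ Subgroup.center ↥N) :
    (cq N x).Normal ∨ Subgroup.normalizer (cq N x : Set (↥N ⧸ Subgroup.center ↥N)) = cq N x := by
  refine Or.symm ((cq_max h hx (K := Subgroup.normalizer (cq N x : Set (↥N ⧸ Subgroup.center ↥N)))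
    Subgroup.le_normalizer ?_).imp id fun ht => Subgroup.normalizer_eq_top_iff.1 ht)
  intro m hm u hu
  rw [Subgroup.mem_normalizer_iff] at hu ⊢
  intro w
  obtain ⟨v, rfl⟩ := QuotientGroup.mk'_surjective _ w
  obtain ⟨v, rfl⟩ := (MulAut.conjNormal (H := N) m).surjective v
  have h2 := hu (QuotientGroup.mk' _ v)
  rw [← map_inv, ← map_mul, ← map_mul, mem_cq, mem_cq] at h2
  rw [← map_inv (QuotientGroup.mk' (Subgroup.center ↥N)), ← map_mul (QuotientGroup.mk' (Subgroup.center ↥N)),
    ← map_mul (QuotientGroup.mk' (Subgroup.center ↥N)), mem_cq, mem_cq, ← map_inv, ← map_mul, ← map_mul,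
    commute_conjNormal hm, commute_conjNormal hm]
  exact h2

omit h in
lemma cq_ne_top {x : ↥N} (hx : x ∉ Subgroup.center ↥N) : cq N x ≠ ⊤ := fun he => hx (by
  rw [Subgroup.mem_center_iff]
  intro v
  exact (mem_cq.1 (by rw [he]; exact Subgroup.mem_top _)).eq)

lemma cq_nilpotent {x : ↥N} (hx : x ∉ Subgroup.center ↥N) : Group.IsNilpotent ↥(cq N x) := by
  rcases abelian_or_pgroup (zp_hyp h) hx with hab | ⟨p, hp, hpg⟩
  · haveI := hab
    have hcomm : ∀ a b : ↥(cq N x), a * b = b * a := by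
      rintro ⟨_, a, ha, rfl⟩ ⟨_, b, hb, rfl⟩
      refine Subtype.ext ?_
      show QuotientGroup.mk' _ a * QuotientGroup.mk' _ b = _
      rw [← map_mul]
      exact (congrArg (QuotientGroup.mk' _) (congrArg Subtype.val
        (mul_comm' (⟨a, ha⟩ : ↥(Subgroup.centralizer ({x} : Set ↥N))) ⟨b, hb⟩))).trans (map_mul _ b a)
    letI : CommGroup ↥(cq N x) := { (inferInstance : Group ↥(cq N x)) with mul_comm := hcomm }
    exact CommGroup.isNilpotent
  · haveI := Fact.mk hp
    exact IsPGroup.isNilpotent hpg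

omit h in
lemma union_ne {x y : ↥N} (hx : x ∉ Subgroup.center ↥N) (hy : y ∉ Subgroup.center ↥N) :
    ∃ u : ↥N, ¬ Commute u x ∧ ¬ Commute u y := by
  obtain ⟨a, ha⟩ : ∃ a, ¬ Commute a x := by
    by_contra hh; push Not at hh; exact hx (Subgroup.mem_center_iff.2 fun v => (hh v).eq)
  obtain ⟨b, hb⟩ : ∃ b, ¬ Commute b y := by
    by_contra hh; push Not at hh; exact hy (Subgroup.mem_center_iff.2 fun v => (hh v).eq)
  by_cases hay : Commute a y
  swap
  · exact ⟨a, ha, hay⟩
  by_cases hbx : Commute b x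
  swap
  · exact ⟨b, hbx, hb⟩
  refine ⟨a * b, fun hc => ha ?_, fun hc => hb ?_⟩
  · simpa using hc.mul_left hbx.inv_left
  · simpa using hay.inv_left.mul_left hc

/-- Nilpotent central quotient: elementary abelian. -/
lemma case_nilpotent [Group.IsNilpotent (↥N ⧸ Subgroup.center ↥N)] :
    ∃ p : ℕ, p.Prime ∧ Cfsg.IsElementaryAbelian p (⊤ : Subgroup (↥N ⧸ Subgroup.center ↥N)) := by
  classical
  set f := QuotientGroup.mk' (Subgroup.center ↥N) with hf
  have hcomm : ∀ a b : ↥N ⧸ Subgroup.center ↥N, a * b = b * a := by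
    have hn : ∀ x : ↥N, x ∉ Subgroup.center ↥N → (cq N x).Normal := by
      intro x hx
      refine (cq_normal_or h hx).resolve_right fun he => ?_
      exact (Group.normalizerCondition_of_isNilpotent _ (lt_top_iff_ne_top.2 (cq_ne_top hx))).ne he.symm
    have hd : ∀ x : ↥N, x ∉ Subgroup.center ↥N → commutator (↥N ⧸ Subgroup.center ↥N) ≤ cq N x := by
      intro x hx
      haveI := hn x hx
      rcases cq_max h hx (K := cq N x ⊔ commutator _) le_sup_left
        (fun m _ u hu => normal_invariant h _ m hu) with he | ht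
      · exact he ▸ le_sup_right
      · exfalso
        apply cq_ne_top hx
        refine frattini_nongenerating (top_le_iff.1 ?_)
        rw [← ht]
        exact sup_le_sup_left (SolvStruct.commutator_le_frattini _) _
    have hb : commutator (↥N ⧸ Subgroup.center ↥N) = ⊥ := by
      rw [eq_bot_iff]
      intro c hc
      obtain ⟨c, rfl⟩ := QuotientGroup.mk'_surjective _ c
      rw [Subgroup.mem_bot, QuotientGroup.mk'_apply, QuotientGroup.eq_one_iff, Subgroup.mem_center_iff]
      intro x
      by_cases hx : x ∈ Subgroup.center ↥N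
      · exact (Subgroup.mem_center_iff.1 hx c).symm
      · exact (mem_cq.1 (hd x hx hc)).eq.symm
    intro a b
    have h1 : ⁅a, b⁆ ∈ commutator (↥N ⧸ Subgroup.center ↥N) :=
      Subgroup.commutator_mem_commutator (Subgroup.mem_top a) (Subgroup.mem_top b)
    rw [hb, Subgroup.mem_bot] at h1
    exact commutatorElement_eq_one_iff_mul_comm.1 h1
  haveI : IsMulCommutative ↥(⊤ : Subgroup (↥N ⧸ Subgroup.center ↥N)) :=
    ⟨⟨fun a b => Subtype.ext (hcomm a b)⟩⟩
  have hnorm : ∀ K : Subgroup (↥N ⧸ Subgroup.center ↥N), K.Normal := fun K =>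
    ⟨fun k hk g => by rw [hcomm g k, mul_inv_cancel_right]; exact hk⟩
  have hco : ∀ x : ↥N, x ∉ Subgroup.center ↥N → IsCoatom (cq N x) := fun x hx =>
    ⟨cq_ne_top hx, fun K hK => ((cq_max h hx hK.le fun m _ u hu => by
      haveI := hnorm K; exact normal_invariant h K m hu).resolve_left hK.ne')⟩
  have hprime : ∀ x : ↥N, x ∉ Subgroup.center ↥N → (cq N x).index.Prime := by
    intro x hx
    haveI := hnorm (cq N x)
    have hs := QuotientGroup.mk'_surjective (cq N x)
    haveI : Nontrivial ((↥N ⧸ Subgroup.center ↥N) ⧸ cq N x) := by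
      rw [← Finite.one_lt_card_iff_nontrivial, ← Subgroup.index_eq_card]
      exact Subgroup.one_lt_index_of_ne_top (cq_ne_top hx)
    haveI : Group.IsNilpotent ((↥N ⧸ Subgroup.center ↥N) ⧸ cq N x) := nilpotent_of_surjective _ hs
    rw [Subgroup.index_eq_card]
    refine prime_card_of_simple fun K _ => ?_
    rcases (hco x hx).le_iff.1 (QuotientGroup.le_comap_mk' (cq N x) K) with h' | h'
    · right
      rw [← Subgroup.map_comap_eq_self_of_surjective hs K, h', Subgroup.map_top_of_surjective _ hs]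
    · left
      rw [← Subgroup.map_comap_eq_self_of_surjective hs K, h', QuotientGroup.map_mk'_self]
  have hpow : ∀ x : ↥N, x ∉ Subgroup.center ↥N → ∀ u : ↥N, Commute (u ^ (cq N x).index) x := by
    intro x hx u
    haveI := hnorm (cq N x)
    refine mem_cq.1 ?_
    rw [map_pow]
    exact Subgroup.pow_index_mem _ _
  have hsame : ∀ x u : ↥N, x ∉ Subgroup.center ↥N → ¬ Commute u x → (cq N x).index = (cq N u).index := by
    intro x u hx hux
    have hu : u ∉ Subgroup.center ↥N := fun hu => hux (Subgroup.mem_center_iff.1 hu x).symm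
    set c := u * x * u⁻¹ * x⁻¹ with hc
    have hcZ : c ∈ Subgroup.center ↥N := by
      rw [← QuotientGroup.eq_one_iff, ← QuotientGroup.mk'_apply (Subgroup.center ↥N), hc]
      simp only [map_mul, map_inv]
      rw [hcomm (f u) (f x), mul_inv_cancel_right, mul_inv_cancel]
    have e1 : u * x = c * x * u := by rw [hc]; group
    have e2 : x * u = c⁻¹ * u * x := by rw [hc]; group
    have hc1 : c ≠ 1 := fun he => hux (by
      rw [he, one_mul] at e1; exact e1)
    have h1 : c ^ (cq N x).index = 1 := by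
      have := conj_pow_central hcZ e1 (cq N x).index
      rw [(hpow x hx u).eq, mul_assoc] at this
      exact (mul_eq_right.1 this.symm)
    have h2 : c⁻¹ ^ (cq N u).index = 1 := by
      have := conj_pow_central (inv_mem hcZ) e2 (cq N u).index
      rw [(hpow u hu x).eq, mul_assoc] at this
      exact (mul_eq_right.1 this.symm)
    rw [inv_pow, inv_eq_one] at h2
    have o1 := (Nat.dvd_prime (hprime x hx)).1 (orderOf_dvd_of_pow_eq_one h1)
    have o2 := (Nat.dvd_prime (hprime u hu)).1 (orderOf_dvd_of_pow_eq_one h2)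
    have hne : orderOf c ≠ 1 := fun he => hc1 (orderOf_eq_one_iff.1 he)
    rw [← o1.resolve_left hne, o2.resolve_left hne]
  by_cases hex : ∃ x : ↥N, x ∉ Subgroup.center ↥N
  swap
  · push Not at hex
    refine ⟨2, Nat.prime_two, inferInstance, fun a _ => ?_⟩
    obtain ⟨a, rfl⟩ := QuotientGroup.mk'_surjective _ a
    rw [QuotientGroup.mk'_apply, (QuotientGroup.eq_one_iff a).2 (hex a), one_pow]
  obtain ⟨x₀, hx₀⟩ := hex
  refine ⟨_, hprime x₀ hx₀, inferInstance, fun a _ => ?_⟩
  obtain ⟨a, rfl⟩ := QuotientGroup.mk'_surjective _ a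
  rw [← map_pow, QuotientGroup.mk'_apply, QuotientGroup.eq_one_iff, Subgroup.mem_center_iff]
  intro x
  by_cases hx : x ∈ Subgroup.center ↥N
  · exact (Subgroup.mem_center_iff.1 hx _).symm
  obtain ⟨w, hw1, hw2⟩ := union_ne hx₀ hx
  rw [hsame x₀ w hx₀ hw1, ← hsame x w hx hw2]
  exact (hpow x hx a).eq.symm

/-- A normal image of a centralizer, non-nilpotent central quotient: Frobenius. -/
lemma case_normal (hnil : ¬ Group.IsNilpotent (↥N ⧸ Subgroup.center ↥N)) {x : ↥N}
    (hx : x ∉ Subgroup.center ↥N) (hxn : (cq N x).Normal) :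
    ∃ (Q K : Subgroup (↥N ⧸ Subgroup.center ↥N)) (p : ℕ), p.Prime ∧ Cfsg.IsFrobeniusComplement Q ∧
      (Nat.card ↥Q).Prime ∧ K.Normal ∧
      (K : Set (↥N ⧸ Subgroup.center ↥N)) = Cfsg.frobeniusKernel Q ∧ Cfsg.IsElementaryAbelian p K := by
  classical
  set f := QuotientGroup.mk' (Subgroup.center ↥N) with hf
  have hfs : Function.Surjective f := QuotientGroup.mk'_surjective _
  set A := cq N x with hA
  haveI := hxn
  haveI := cq_nilpotent h hx
  have hAne : A ≠ ⊥ := fun hb => hx ((QuotientGroup.eq_one_iff x).1 (by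
    have h1 : f x ∈ A := mem_cq.2 (Commute.refl x)
    rwa [hb, Subgroup.mem_bot] at h1))
  have honly : ∀ y : ↥N, y ∉ Subgroup.center ↥N → (cq N y).Normal → cq N y = A := by
    intro y hy hyn
    haveI := hyn
    rcases cq_max h hx (K := A ⊔ cq N y) le_sup_left (fun m _ u hu => normal_invariant h _ m hu) with he | ht
    · have hle : cq N y ≤ A := le_sup_right.trans he.le
      rcases cq_max h hy hle (fun m _ u hu => normal_invariant h _ m hu) with h1 | h1
      · exact h1.symm
      · exact absurd h1 (cq_ne_top hx)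
    · exfalso
      apply hnil
      haveI := cq_nilpotent h hy
      haveI := Components.isNilpotent_sup A (cq N y)
      exact Group.nilpotent_of_mulEquiv ((MulEquiv.subgroupCongr ht).trans Subgroup.topEquiv)
  have hout : ∀ y : ↥N, f y ∉ A → y ∉ Subgroup.center ↥N ∧ A ⊔ cq N y = ⊤ ∧
      Subgroup.normalizer (cq N y : Set (↥N ⧸ Subgroup.center ↥N)) = cq N y := by
    intro y hy
    have hyc : y ∉ Subgroup.center ↥N := fun hz => hy (by
      rw [hf, QuotientGroup.mk'_apply, (QuotientGroup.eq_one_iff y).2 hz]; exact A.one_mem)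
    have hsn : Subgroup.normalizer (cq N y : Set (↥N ⧸ Subgroup.center ↥N)) = cq N y :=
      (cq_normal_or h hyc).resolve_left fun hn => hy (honly y hyc hn ▸ mem_cq.2 (Commute.refl y))
    refine ⟨hyc, ?_, hsn⟩
    rcases cq_max h hyc (K := A ⊔ cq N y) le_sup_right (fun m hm u hu => sup_invariant h A y m hm u hu) with he | ht
    · exfalso
      have h1 : f x ∈ cq N y := he ▸ (le_sup_left (b := cq N y) (mem_cq.2 (Commute.refl x) : f x ∈ A))
      exact hy (mem_cq.2 (mem_cq.1 h1).symm)
    · exact ht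

  obtain ⟨y, hy⟩ : ∃ y : ↥N, f y ∉ A := by
    by_contra hh
    push Not at hh
    exact cq_ne_top hx ((Subgroup.eq_top_iff' _).2 fun k => by obtain ⟨u, rfl⟩ := hfs k; exact hh u)
  obtain ⟨hyc, hsup, hyn⟩ := hout y hy
  set H := cq N y with hH
  -- the quotient by `A` has prime order
  have hq : A.index.Prime := by
    have hs := QuotientGroup.mk'_surjective A
    haveI := cq_nilpotent h hyc
    have hsur : Function.Surjective ((QuotientGroup.mk' A).comp H.subtype) := by
      intro k
      obtain ⟨k, rfl⟩ := hs k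
      obtain ⟨a, ha, b, hb, rfl⟩ :=
        Subgroup.mem_sup_of_normal_left.1 (show k ∈ A ⊔ H by rw [hsup]; exact Subgroup.mem_top k)
      refine ⟨⟨b, hb⟩, ?_⟩
      show QuotientGroup.mk' A b = QuotientGroup.mk' A (a * b)
      rw [map_mul, QuotientGroup.mk'_apply A a, (QuotientGroup.eq_one_iff a).2 ha, one_mul]
    haveI : Group.IsNilpotent ((↥N ⧸ Subgroup.center ↥N) ⧸ A) := nilpotent_of_surjective _ hsur
    haveI : Nontrivial ((↥N ⧸ Subgroup.center ↥N) ⧸ A) := by
      rw [← Finite.one_lt_card_iff_nontrivial, ← Subgroup.index_eq_card]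
      exact Subgroup.one_lt_index_of_ne_top (cq_ne_top hx)
    rw [Subgroup.index_eq_card]
    refine prime_card_of_simple fun K hK => ?_
    haveI := hK
    rcases cq_max h hx (QuotientGroup.le_comap_mk' A K) (fun m _ u hu => normal_invariant h _ m hu) with h' | h'
    · left
      rw [← Subgroup.map_comap_eq_self_of_surjective hs K, h', QuotientGroup.map_mk'_self]
    · right
      rw [← Subgroup.map_comap_eq_self_of_surjective hs K, h', Subgroup.map_top_of_surjective _ hs]
  have hover : ∀ B : Subgroup (↥N ⧸ Subgroup.center ↥N), A ≤ B → B ≠ ⊤ → B = A := by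
    intro B hAB hB
    have h1 := Subgroup.relIndex_mul_index hAB
    rcases hq.eq_one_or_self_of_dvd _ (Dvd.intro_left _ h1) with h2 | h2
    · exact absurd (Subgroup.index_eq_one.1 h2) hB
    · rw [h2] at h1
      exact le_antisymm (Subgroup.relIndex_eq_one.1 ((Nat.mul_eq_right hq.pos.ne').1 h1)) hAB
  -- centralizers inside `A`
  have hCA : ∀ a : ↥N, a ∉ Subgroup.center ↥N → f a ∈ A → cq N a = A := by
    intro a hac ha
    rcases cq_normal_or h hac with hn | hsn
    · exact honly a hac hn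
    by_contra hne
    set B := cq N a with hB
    have hxB : f x ∈ B := mem_cq.2 (mem_cq.1 ha).symm
    have hAB : ¬ A ≤ B := fun hle => hne (hover B hle (cq_ne_top hac))
    haveI := cq_nilpotent h hx
    rcases abelian_or_pgroup (zp_hyp h) hx with hab | ⟨p, hp, hAp⟩
    · haveI := hab
      refine hAB fun k hk => ?_
      obtain ⟨u, rfl⟩ := hfs k
      refine mem_cq.2 ?_
      exact congrArg Subtype.val (mul_comm' (⟨u, Subgroup.mem_centralizer_singleton_iff.2 (mem_cq.1 hk).eq⟩ :
        ↥(Subgroup.centralizer ({x} : Set ↥N))) ⟨a, Subgroup.mem_centralizer_singleton_iff.2 (mem_cq.1 ha).eq⟩)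
    rcases abelian_or_pgroup (zp_hyp h) hac with hab | ⟨r, hr, hBr⟩
    · haveI := hab
      apply hne
      refine eq_of_selfnorm (W := A) (fun k hk => ?_) hsn.le
      obtain ⟨u, rfl⟩ := hfs k
      refine mem_cq.2 ?_
      exact congrArg Subtype.val (mul_comm' (⟨u, Subgroup.mem_centralizer_singleton_iff.2 (mem_cq.1 hk).eq⟩ :
        ↥(Subgroup.centralizer ({a} : Set ↥N))) ⟨x, Subgroup.mem_centralizer_singleton_iff.2 (mem_cq.1 hxB).eq⟩)
    haveI := Fact.mk hp
    haveI := Fact.mk hr
    have hrp : r = p := by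
      by_contra hrp
      refine hx ((QuotientGroup.eq_one_iff x).1 ?_)
      exact Subgroup.disjoint_def.1 (IsPGroup.disjoint_of_ne r p hrp B A hBr hAp) hxB (mem_cq.2 (Commute.refl x))
    subst hrp
    obtain ⟨S, hS⟩ := IsPGroup.exists_le_sylow (p := r) (show IsPGroup r ↥B from hBr)
    haveI := S.isPGroup'.isNilpotent
    have hSB := eq_of_selfnorm hS hsn.le
    exact hAB (hSB.symm ▸ ((PBasic.le_pCore hxn hAp).trans (PBasic.pCore_le_sylow S)))
  have hAab : IsMulCommutative ↥A := by
    refine ⟨⟨fun a b => Subtype.ext ?_⟩⟩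
    obtain ⟨u, hu⟩ := hfs a.1
    obtain ⟨v, hv⟩ := hfs b.1
    show a.1 * b.1 = b.1 * a.1
    rw [← hu, ← hv]
    by_cases huz : u ∈ Subgroup.center ↥N
    · rw [← map_mul, ← map_mul, Subgroup.mem_center_iff.1 huz v]
    · have h1 : f v ∈ cq N u := by rw [hCA u huz (hu ▸ a.2), hv]; exact b.2
      rw [← map_mul, ← map_mul, (mem_cq.1 h1).eq]
  have hAH : A ⊓ H = ⊥ := by
    rw [eq_bot_iff]
    intro k hk
    obtain ⟨u, rfl⟩ := hfs k
    rw [Subgroup.mem_bot]
    by_contra hne
    have huz : u ∉ Subgroup.center ↥N := fun hz => hne ((QuotientGroup.eq_one_iff u).2 hz)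
    exact hy (hCA u huz hk.1 ▸ mem_cq.2 (mem_cq.1 hk.2).symm)
  have hc : Subgroup.IsComplement' A H := by
    refine Subgroup.isComplement'_of_disjoint_and_mul_eq_univ (disjoint_iff.2 hAH) ?_
    rw [← Subgroup.normal_mul, hsup, Subgroup.coe_top]
  have hHq : (Nat.card ↥H).Prime := by rw [← hc.symm.index_eq_card]; exact hq
  have hHne : H ≠ ⊥ := fun hb => hHq.ne_one (by rw [hb, Subgroup.card_bot])
  have hd : FData A H := by
    refine ⟨hxn, hc, ?_, hAne, hHne⟩
    intro g hg k hk hgk
    by_contra hk1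
    apply hg
    rw [← hyn]
    have hz : Subgroup.zpowers k = H := by
      refine Subgroup.eq_of_le_of_card_ge (Subgroup.zpowers_le.2 hk) ?_
      rw [Nat.card_zpowers]
      rcases (Nat.dvd_prime hHq).1 (Subgroup.orderOf_dvd_natCard H hk) with h2 | h2
      · exact absurd (orderOf_eq_one_iff.1 h2) hk1
      · rw [h2]
    have hle : H.map (MulAut.conj g).toMonoidHom ≤ H := by
      rw [Subgroup.map_le_iff_le_comap]
      conv_lhs => rw [← hz]
      exact Subgroup.zpowers_le.2 hgk
    have he : H.map (MulAut.conj g).toMonoidHom = H := Subgroup.eq_of_le_of_card_ge hle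
      (Subgroup.card_map_of_injective (MulAut.conj g).injective).ge
    rw [Subgroup.mem_normalizer_iff]
    intro w
    constructor
    · exact fun hw => hle ⟨w, hw, rfl⟩
    · intro hw
      rw [← he] at hw
      obtain ⟨w', hw', he'⟩ := hw
      rwa [← (MulAut.conj g).injective (a₁ := w') (a₂ := w) he']
  haveI := hAab
  obtain ⟨p, hp, hpe, -⟩ := SolvBasic.exists_prime_exponent_of_minimal_normal hAne (fun L hL hLA => by
    haveI := hL
    rcases cq_max h hyc (K := L ⊔ H) le_sup_right (fun m hm u hu => sup_invariant h L y m hm u hu) with he | ht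
    · left
      rw [eq_bot_iff, ← hAH]
      exact le_inf hLA (le_sup_left.trans he.le)
    · right
      refine le_antisymm hLA fun a ha => ?_
      obtain ⟨l, hl, b, hb, rfl⟩ :=
        Subgroup.mem_sup_of_normal_left.1 (show a ∈ L ⊔ H by rw [ht]; exact Subgroup.mem_top a)
      have hb1 : b ∈ A := by
        have := A.mul_mem (A.inv_mem (hLA hl)) ha
        rwa [inv_mul_cancel_left] at this
      have hb' : b ∈ A ⊓ H := ⟨hb1, hb⟩
      rw [hAH, Subgroup.mem_bot] at hb'
      rw [hb', mul_one]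
      exact hl)
  exact ⟨H, A, p, hp, hd.isFrobeniusComplement, hHq, hxn, (FrobKernelQuat.kernel_eq hd).symm, hAab, hpe⟩

/-- Some image of a centralizer is normal. -/
lemma exists_normal (hnil : ¬ Group.IsNilpotent (↥N ⧸ Subgroup.center ↥N)) :
    ∃ x : ↥N, x ∉ Subgroup.center ↥N ∧ (cq N x).Normal := by
  classical
  by_contra hall
  push Not at hall
  set f := QuotientGroup.mk' (Subgroup.center ↥N) with hf
  have hfs : Function.Surjective f := QuotientGroup.mk'_surjective _
  have hsn : ∀ x : ↥N, x ∉ Subgroup.center ↥N →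
      Subgroup.normalizer (cq N x : Set (↥N ⧸ Subgroup.center ↥N)) = cq N x :=
    fun x hx => (cq_normal_or h hx).resolve_left (hall x hx)
  by_cases hex : ∃ x : ↥N, x ∉ Subgroup.center ↥N ∧ IsMulCommutative ↥(Subgroup.centralizer ({x} : Set ↥N))
  · obtain ⟨x, hx, hab⟩ := hex
    haveI := hab
    set A := cq N x with hA
    have hCA : ∀ w : ↥N, w ∉ Subgroup.center ↥N → f w ∈ A → cq N w = A := by
      intro w hw hwA
      haveI := cq_nilpotent h hw
      refine (eq_of_selfnorm (cq_eq_of_centralizer_le fun g hg => ?_) (hsn x hx).le).symm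
      rw [Subgroup.mem_centralizer_singleton_iff]
      exact congrArg Subtype.val (mul_comm' (⟨g, hg⟩ : ↥(Subgroup.centralizer ({x} : Set ↥N)))
        ⟨w, Subgroup.mem_centralizer_singleton_iff.2 (mem_cq.1 hwA).eq⟩)
    have hmal : Char.Malnormal A := by
      intro g hg k hk hgk
      by_contra hk1
      apply hg
      obtain ⟨w, rfl⟩ := hfs k
      obtain ⟨n, rfl⟩ := hfs g
      have hw : w ∉ Subgroup.center ↥N := fun hz => hk1 ((QuotientGroup.eq_one_iff w).2 hz)
      rw [← map_inv, ← map_mul, ← map_mul] at hgk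
      have hw' : n * w * n⁻¹ ∉ Subgroup.center ↥N := fun hz => hw (by
        simpa [mul_assoc] using (inferInstance : (Subgroup.center ↥N).Normal).conj_mem' _ hz n)
      have hsnA : Subgroup.normalizer (A : Set (↥N ⧸ Subgroup.center ↥N)) = A := hsn x hx
      rw [← hsnA, Subgroup.mem_normalizer_iff]
      intro k
      obtain ⟨c, rfl⟩ := hfs k
      rw [← map_inv, ← map_mul, ← map_mul]
      conv_lhs => rw [← hCA w hw hk, mem_cq]
      rw [← hCA _ hw' hgk, mem_cq, Commute.conj_iff]
    obtain ⟨K, hKn, -, hKc, -⟩ := Char.exists_frobenius_kernel hmal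
    haveI := hKn
    have hAne : A ≠ ⊥ := fun hb => hx ((QuotientGroup.eq_one_iff x).1 (by
      have h1 : f x ∈ A := mem_cq.2 (Commute.refl x)
      rwa [hb, Subgroup.mem_bot] at h1))
    have hKne : K ≠ ⊥ := by
      rintro rfl
      exact cq_ne_top hx (Subgroup.isComplement'_bot_left.1 hKc)
    have hd : FData K A := ⟨hKn, hKc, hmal, hKne, hAne⟩
    obtain ⟨k, hk, hk1⟩ := (Subgroup.bot_or_exists_ne_one K).resolve_left hKne
    obtain ⟨u, rfl⟩ := hfs k
    have hu : u ∉ Subgroup.center ↥N := fun hz => hk1 ((QuotientGroup.eq_one_iff u).2 hz)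
    have hle : cq N u ≤ K := by
      intro c hc
      rcases hd.decomp c with hK | ⟨k, hkK, a, ha, ha1, hca⟩
      · exact hK
      exfalso
      apply hk1
      obtain ⟨c', rfl⟩ := hfs c
      have hcy : f c' * f u = f u * f c' := by rw [← map_mul, ← map_mul, (mem_cq.1 hc).eq]
      have h1 : a * (k⁻¹ * f u * k) = (k⁻¹ * f u * k) * a := by
        rw [hca] at hcy
        calc a * (k⁻¹ * f u * k) = k⁻¹ * (k * a * k⁻¹ * f u) * k := by group
          _ = k⁻¹ * (f u * (k * a * k⁻¹)) * k := by rw [hcy]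
          _ = (k⁻¹ * f u * k) * a := by group
      have h2 := hd.fpf ha ha1 (mul_mem (mul_mem (inv_mem hkK) hk) hkK) h1
      calc f u = k * (k⁻¹ * f u * k) * k⁻¹ := by group
        _ = 1 := by rw [h2]; group
    rcases cq_max h hu hle (fun m _ v hv => normal_invariant h _ m hv) with he | ht
    · exact hall u hu (he ▸ hKn)
    · exact hAne (Subgroup.isComplement'_top_left.1 (ht ▸ hKc))
  push Not at hex
  -- every image of a centralizer is a self-normalizing Sylow subgroup
  have hone : ∀ r : ℕ, r.Prime → ¬ IsPGroup r (↥N ⧸ Subgroup.center ↥N) :=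
    fun r hr hpg => hnil (by haveI := Fact.mk hr; exact hpg.isNilpotent)
  have hsyl : ∀ r : ℕ, r.Prime → r ∣ Nat.card (↥N ⧸ Subgroup.center ↥N) →
      ∃ (S : Sylow r (↥N ⧸ Subgroup.center ↥N)) (x : ↥N), x ∉ Subgroup.center ↥N ∧
        (S : Subgroup (↥N ⧸ Subgroup.center ↥N)) = cq N x := by
    intro r hr hrd
    haveI := Fact.mk hr
    obtain ⟨k, hk⟩ := exists_prime_orderOf_dvd_card' r hrd
    obtain ⟨x, rfl⟩ := hfs k
    have hx : x ∉ Subgroup.center ↥N := fun hz => by
      rw [show f x = 1 from (QuotientGroup.eq_one_iff x).2 hz, orderOf_one] at hk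
      exact hr.ne_one hk.symm
    rcases abelian_or_pgroup (zp_hyp h) hx with hab | ⟨s, hs, hsg⟩
    · exact absurd hab (hex x hx)
    haveI := Fact.mk hs
    have hsr : s = r := by
      obtain ⟨j, hj⟩ := IsPGroup.iff_card.1 hsg
      have h1 : r ∣ Nat.card ↥(cq N x) := hk ▸ Subgroup.orderOf_dvd_natCard _ (mem_cq.2 (Commute.refl x))
      change r ∣ Nat.card ↥((Subgroup.centralizer ({x} : Set ↥N)).map _) at h1
      rw [hj] at h1
      exact ((Nat.prime_dvd_prime_iff_eq hr hs).1 (hr.dvd_of_dvd_pow h1)).symm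
    subst hsr
    obtain ⟨S, hS⟩ := IsPGroup.exists_le_sylow (p := s) (P := cq N x) hsg
    haveI := S.isPGroup'.isNilpotent
    exact ⟨S, x, hx, (eq_of_selfnorm hS (hsn x hx).le).symm⟩
  obtain ⟨p, hp, hp2, hpd⟩ : ∃ p : ℕ, p.Prime ∧ p ≠ 2 ∧ p ∣ Nat.card (↥N ⧸ Subgroup.center ↥N) := by
    by_contra hne
    refine hone 2 Nat.prime_two
      (IsPGroup.of_card (n := (Nat.card (↥N ⧸ Subgroup.center ↥N)).primeFactorsList.length) ?_)
    exact Nat.eq_prime_pow_of_unique_prime_dvd Nat.card_pos.ne'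
      fun {d} hd hdd => by_contra fun hd2 => hne ⟨d, hd, hd2, hdd⟩
  haveI := Fact.mk hp
  obtain ⟨P, x, hx, hPx⟩ := hsyl p hp hpd
  obtain ⟨q, hq, hqd, hqp⟩ : ∃ q : ℕ, q.Prime ∧ q ∣ Nat.card (↥N ⧸ Subgroup.center ↥N) ∧ q ≠ p := by
    by_contra hne
    refine hone p hp
      (IsPGroup.of_card (n := (Nat.card (↥N ⧸ Subgroup.center ↥N)).primeFactorsList.length) ?_)
    exact Nat.eq_prime_pow_of_unique_prime_dvd Nat.card_pos.ne'
      fun {d} hd hdd => by_contra fun hd2 => hne ⟨d, hd, hdd, hd2⟩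
  haveI := Fact.mk hq
  obtain ⟨Pq, x', hx', hPqx⟩ := hsyl q hq hqd
  set W := ZJ.zJ p True (P : Subgroup (↥N ⧸ Subgroup.center ↥N)) with hW
  have hWne : W ≠ ⊥ := fun hb => ZJ.zCore_ne_bot P.isPGroup' (P.ne_bot_of_dvd_card hpd)
    (le_bot_iff.1 ((ZJ.zCore_le_zJ (p := p) (e := True) (P : Subgroup (↥N ⧸ Subgroup.center ↥N))).trans (hW.symm.trans hb).le))
  have hWnn : ¬ W.Normal := by
    intro hWn
    haveI := hWn
    have hinf : W ⊓ cq N x' = ⊥ := by
      rw [← hPqx]
      exact le_bot_iff.1 ((inf_le_inf_right _ (ZJ.zJ_le _)).trans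
        (IsPGroup.disjoint_of_ne p q hqp.symm _ _ P.isPGroup' Pq.isPGroup').eq_bot.le)
    rcases cq_max h hx' (K := W ⊔ cq N x') le_sup_right (fun m hm u hu => sup_invariant h W x' m hm u hu) with he | ht
    · apply hWne
      rw [← hinf, eq_comm, inf_eq_left]
      exact le_sup_left.trans he.le
    · have hc := SolvBasic.card_sup_of_inf_eq_bot (N := W) (H := cq N x')
        (by rw [Subgroup.normalizer_eq_top]; exact le_top) hinf
      rw [ht, Subgroup.card_top, ← hPqx] at hc
      have hd : Nat.card (P : Subgroup (↥N ⧸ Subgroup.center ↥N)) ∣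
          Nat.card W * Nat.card (Pq : Subgroup (↥N ⧸ Subgroup.center ↥N)) :=
        hc ▸ Subgroup.card_subgroup_dvd_card _
      have hcop : (Nat.card (P : Subgroup (↥N ⧸ Subgroup.center ↥N))).Coprime
          (Nat.card (Pq : Subgroup (↥N ⧸ Subgroup.center ↥N))) := by
        rw [P.card_eq_multiplicity, Pq.card_eq_multiplicity]
        exact Nat.Coprime.pow _ _ ((Nat.coprime_primes hp hq).2 hqp.symm)
      have hWP : W = (P : Subgroup (↥N ⧸ Subgroup.center ↥N)) := Subgroup.eq_of_le_of_card_ge (ZJ.zJ_le _)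
        (Nat.le_of_dvd Nat.card_pos (hcop.dvd_of_dvd_mul_right hd))
      exact hall x hx (hPx ▸ hWP ▸ hWn)

  have hNW : Subgroup.normalizer (W : Set (↥N ⧸ Subgroup.center ↥N)) = (P : Subgroup (↥N ⧸ Subgroup.center ↥N)) := by
    suffices hinv : ∀ m : G, Commute m (x : G) → ∀ u : ↥N,
        f u ∈ Subgroup.normalizer (W : Set (↥N ⧸ Subgroup.center ↥N)) →
        f (MulAut.conjNormal m u) ∈ Subgroup.normalizer (W : Set (↥N ⧸ Subgroup.center ↥N)) by
      rcases cq_max h hx (K := Subgroup.normalizer (W : Set (↥N ⧸ Subgroup.center ↥N)))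
        (hPx ▸ ZJ.le_normalizer_zJ (P : Subgroup (↥N ⧸ Subgroup.center ↥N))) hinv with he | ht
      · rw [he, hPx]
      · exact absurd (Subgroup.normalizer_eq_top_iff.1 ht) hWnn
    intro m hm u hu
    have hZm : (Subgroup.center ↥N).map ((MulAut.conjNormal (H := N) m).toMonoidHom) = Subgroup.center ↥N :=
      (Subgroup.characteristic_iff_map_eq.1 inferInstance) _
    set ψ := QuotientGroup.congr (Subgroup.center ↥N) (Subgroup.center ↥N) (MulAut.conjNormal (H := N) m) hZm with hψ
    have hψf : ∀ v : ↥N, ψ (f v) = f (MulAut.conjNormal m v) := fun v => rfl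
    have hψP : (P : Subgroup (↥N ⧸ Subgroup.center ↥N)).map ψ.toMonoidHom = P := by
      rw [hPx]
      ext k
      obtain ⟨v, rfl⟩ := hfs k
      obtain ⟨v, rfl⟩ := (MulAut.conjNormal (H := N) m).surjective v
      rw [← hψf]
      refine (Subgroup.mem_map_iff_mem (f := ψ.toMonoidHom) ψ.injective).trans ?_
      rw [hψf, mem_cq, mem_cq, commute_conjNormal hm]
    have hψW : W.map ψ.toMonoidHom = W := by rw [hW, ZJ.zJ_map ψ.toMonoidHom ψ.injective.injOn, hψP]
    have h1 : ψ (f u) ∈ (Subgroup.normalizer (W : Set (↥N ⧸ Subgroup.center ↥N))).map ψ.toMonoidHom :=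
      Subgroup.mem_map_of_mem _ hu
    rw [Subgroup.map_equiv_normalizer_eq, hψW, hψf] at h1
    exact h1
  have hnpc : Cfsg.HasNormalPComplement p (↥N ⧸ Subgroup.center ↥N) := by
    refine ZJNPC.hasNormalPComplement_of_zJ hp2 True P ?_
    rw [← hW, hNW]
    exact PBasic.hasNormalPComplement_of_isPGroup P.isPGroup'
  obtain ⟨K, hKn, hKc, j, hKj⟩ := PBasic.hasNormalPComplement_iff.1 hnpc
  haveI := hKn
  have hPqK : (Pq : Subgroup (↥N ⧸ Subgroup.center ↥N)) ≤ K := by
    intro k hk
    obtain ⟨i, hi⟩ := Pq.isPGroup' ⟨k, hk⟩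
    have hi' : k ^ q ^ i = 1 := congrArg Subtype.val hi
    have h1 : orderOf (QuotientGroup.mk' K k) ∣ q ^ i :=
      (orderOf_map_dvd _ k).trans (orderOf_dvd_of_pow_eq_one hi')
    have h2 : orderOf (QuotientGroup.mk' K k) ∣ p ^ j := by
      rw [← hKj, Subgroup.index_eq_card]; exact orderOf_dvd_natCard _
    have h3 := Nat.eq_one_of_dvd_coprimes (Nat.Coprime.pow i j ((Nat.coprime_primes hq hp).2 hqp)) h1 h2
    exact (QuotientGroup.eq_one_iff k).1 (orderOf_eq_one_iff.1 h3)
  have hF : Subgroup.normalizer (((Pq : Subgroup (↥N ⧸ Subgroup.center ↥N))) : Set (↥N ⧸ Subgroup.center ↥N)) ⊔ K = ⊤ :=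
    Sylow.normalizer_sup_eq_top' Pq hPqK
  rw [hPqx, hsn x' hx', ← hPqx, sup_eq_right.2 hPqK] at hF
  rw [hF, Subgroup.card_top] at hKc
  exact hp.coprime_iff_not_dvd.1 hKc.symm hpd

end

/-- Let N be a normal subgroup of the finite group G such that for every element x of N outside the center of N the centralizer C_G(x) is a maximal subgroup of G. Then N/Z(N) is either an elementary abelian p-group for some prime p, or a Frobenius group whose kernel is an elementary abelian normal subgroup and whose complement has prime order. -/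
theorem result {G : Type*} [Group G] [Finite G] (N : Subgroup G) [N.Normal]
    (h : ∀ x : G, x ∈ N → x ∉ Subgroup.centralizer (N : Set G) → IsCoatom (Subgroup.centralizer ({x} : Set G))) :
    (∃ p : ℕ, p.Prime ∧ Cfsg.IsElementaryAbelian p (⊤ : Subgroup (↥N ⧸ Subgroup.center ↥N))) ∨
    (∃ (Q K : Subgroup (↥N ⧸ Subgroup.center ↥N)) (p : ℕ), p.Prime ∧ Cfsg.IsFrobeniusComplement Q ∧ (Nat.card ↥Q).Prime ∧
      K.Normal ∧ (K : Set (↥N ⧸ Subgroup.center ↥N)) = Cfsg.frobeniusKernel Q ∧ Cfsg.IsElementaryAbelian p K) := by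
  classical
  have h' : ∀ x : ↥N, x ∉ Subgroup.center ↥N → IsCoatom (Subgroup.centralizer ({(x : G)} : Set G)) := by
    intro x hx
    refine h x x.2 fun hc => hx (Subgroup.mem_center_iff.2 fun v => Subtype.ext ?_)
    exact Subgroup.mem_centralizer_iff.1 hc v v.2
  by_cases hnil : Group.IsNilpotent (↥N ⧸ Subgroup.center ↥N)
  · exact Or.inl (case_nilpotent h')
  · obtain ⟨x, hx, hxn⟩ := exists_normal h' hnil
    exact Or.inr (case_normal h' hnil hx hxn)

end Cfsg.Agent.S3905
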