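import Cfsg.Statements.S3908
import Cfsg.Agent.S0126
import Cfsg.Agent.Lib.Solvable.FixedPointFree
import Mathlib

set_option autoImplicit false
open Cfsg

namespace Cfsg.Agent.S3908

open Cfsg.Agent

variable {G : Type*} [Group G] [Finite G]

lemma cyclic_of_sq {p : ℕ} [Fact p.Prime]
    (hB : ∀ A B : Subgroup G, IsMulCommutative ↥A → IsMulCommutative ↥B → Nat.card ↥A = Nat.card ↥B → ∃ g : G, B = A.map (MulAut.conj g).toMonoidHom)
    {x : G} (hx : orderOf x = p ^ 2) (B : Subgroup G) (hab : IsMulCommutative ↥B) (hc : Nat.card ↥B = p ^ 2) :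
    IsCyclic ↥B := by
  obtain ⟨g, hg⟩ := hB (Subgroup.zpowers x) B
    ⟨⟨fun a b => IsCyclic.commGroup.mul_comm a b⟩⟩ hab (by rw [Nat.card_zpowers, hx, hc])
  rw [hg]
  exact isCyclic_of_surjective _ ((MulAut.conj g).toMonoidHom.subgroupMap_surjective _)

lemma exists_order_sq {p : ℕ} [Fact p.Prime] (P : Sylow p G) {x : G} (hx : x ∈ (P : Subgroup G))
    (hxp : x ^ p ≠ 1) : ∃ y : G, orderOf y = p ^ 2 := by
  obtain ⟨k, hk⟩ := IsPGroup.iff_orderOf.1 P.isPGroup' ⟨x, hx⟩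
  rw [Subgroup.orderOf_mk] at hk
  have hk2 : 2 ≤ k := by
    by_contra hlt
    refine hxp ?_
    rw [← orderOf_dvd_iff_pow_eq_one, hk]
    exact (pow_dvd_pow p (by omega : k ≤ 1)).trans (pow_one p).dvd
  refine ⟨x ^ p ^ (k - 2), ?_⟩
  rw [orderOf_pow' _ (pow_ne_zero _ (Fact.out : p.Prime).ne_zero), hk, Nat.gcd_eq_right (pow_dvd_pow p (by omega)),
    Nat.pow_div (by omega) (Fact.out : p.Prime).pos]
  congr 1; omega

theorem sylow_odd {p : ℕ} [Fact p.Prime] (hp : p ≠ 2)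
    (hB : ∀ A B : Subgroup G, IsMulCommutative ↥A → IsMulCommutative ↥B → Nat.card ↥A = Nat.card ↥B → ∃ g : G, B = A.map (MulAut.conj g).toMonoidHom)
    (P : Sylow p G) : IsCyclic ↥(P : Subgroup G) ∨ ∀ x ∈ (P : Subgroup G), x ^ p = 1 := by
  by_contra hc
  push Not at hc
  obtain ⟨hnc, x, hx, hxp⟩ := hc
  obtain ⟨y, hy⟩ := exists_order_sq P hx hxp
  obtain ⟨E, -, hE, hEc⟩ := S0126.result hp P.isPGroup' hnc
  set E' := E.map (P : Subgroup G).subtype
  have hE'c : Nat.card ↥E' = p ^ 2 := by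
    rw [Subgroup.card_map_of_injective (P : Subgroup G).subtype_injective, hEc]
  have hE'ab : IsMulCommutative ↥E' := by
    refine .of_setLike_mul_comm ?_
    rintro _ ⟨a, ha, rfl⟩ _ ⟨b, hb, rfl⟩
    rw [← map_mul, ← map_mul, show a * b = b * a from congrArg Subtype.val (hE.1.is_comm.comm (⟨a, ha⟩ : ↥E) ⟨b, hb⟩)]
  haveI := cyclic_of_sq hB hy E' hE'ab hE'c
  obtain ⟨g, hg⟩ := IsCyclic.exists_ofOrder_eq_natCard (α := ↥E')
  obtain ⟨a, ha, hag⟩ := g.2
  have h1 : orderOf g ∣ p := orderOf_dvd_of_pow_eq_one (Subtype.ext (by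
    show (g : G) ^ p = 1
    rw [← hag, ← map_pow, hE.2 a ha, map_one]))
  rw [hg, hE'c] at h1
  have h2 := Nat.le_of_dvd (Fact.out : p.Prime).pos h1
  have h3 : p ^ 1 < p ^ 2 := Nat.pow_lt_pow_right (Fact.out : p.Prime).one_lt (by norm_num)
  rw [pow_one] at h3
  omega

/-- Let G be a finite group in which any two abelian subgroups of the same order are conjugate. Then a Sylow 2-subgroup of G is cyclic, elementary abelian or generalized quaternion, and for an odd prime p a Sylow p-subgroup of G is cyclic or has exponent dividing p. -/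
theorem result {G : Type*} [Group G] [Finite G] (hB : ∀ A B : Subgroup G, IsMulCommutative ↥A → IsMulCommutative ↥B → Nat.card ↥A = Nat.card ↥B → ∃ g : G, B = A.map (MulAut.conj g).toMonoidHom) :
    (∀ P : Sylow 2 G, IsCyclic ↥(P : Subgroup G) ∨ Cfsg.IsElementaryAbelian 2 (P : Subgroup G) ∨ ∃ k : ℕ, Nonempty (↥(P : Subgroup G) ≃* QuaternionGroup (2 ^ k))) ∧
    ∀ (p : ℕ) [Fact p.Prime], p ≠ 2 → ∀ P : Sylow p G, IsCyclic ↥(P : Subgroup G) ∨ ∀ x ∈ (P : Subgroup G), x ^ p = 1 := by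
  refine ⟨fun P => ?_, fun p _ hp P => sylow_odd hp hB P⟩
  haveI : Fact (Nat.Prime 2) := ⟨Nat.prime_two⟩
  by_cases hexp : ∀ x ∈ (P : Subgroup G), x ^ 2 = 1
  · refine Or.inr (Or.inl ⟨⟨⟨fun a b => Subtype.ext ?_⟩⟩, hexp⟩)
    have h1 : ∀ z ∈ (P : Subgroup G), z⁻¹ = z := fun z hz => by
      have := hexp z hz; rw [pow_two] at this; exact inv_eq_of_mul_eq_one_left this
    calc (a : G) * b = ((a : G) * b)⁻¹ := (h1 _ (mul_mem a.2 b.2)).symm
      _ = (b : G) * a := by rw [mul_inv_rev, h1 _ a.2, h1 _ b.2]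
  push Not at hexp
  obtain ⟨x, hx, hx2⟩ := hexp
  obtain ⟨y, hy⟩ := exists_order_sq P hx hx2
  have hAb : AbCyc.AbCyclic ↥(P : Subgroup G) := by
    intro B hBab
    by_contra hnc
    haveI := hBab
    obtain ⟨q, E, hq, hEc, hEe⟩ := CoprimeAct.exists_elementary_of_not_isCyclic hnc
    haveI := Fact.mk hq
    obtain ⟨k, hk⟩ := ((P.isPGroup'.to_subgroup B).to_subgroup E).exists_card_eq
    have hq2 : q = 2 := by
      have h1 : q ∣ 2 ^ k := hk ▸ hEc ▸ dvd_pow_self q two_ne_zero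
      exact (Nat.prime_dvd_prime_iff_eq hq Nat.prime_two).1 (hq.dvd_of_dvd_pow h1)
    subst hq2
    set E' := (E.map B.subtype).map (P : Subgroup G).subtype
    have hE'c : Nat.card ↥E' = 2 ^ 2 := by
      rw [Subgroup.card_map_of_injective (P : Subgroup G).subtype_injective,
        Subgroup.card_map_of_injective B.subtype_injective, hEc]
    have hE'ab : IsMulCommutative ↥E' := by
      refine .of_setLike_mul_comm ?_
      rintro _ ⟨_, ⟨a, -, rfl⟩, rfl⟩ _ ⟨_, ⟨b, -, rfl⟩, rfl⟩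
      rw [← map_mul, ← map_mul, ← map_mul, ← map_mul, hBab.is_comm.comm a b]
    haveI := cyclic_of_sq hB hy E' hE'ab hE'c
    obtain ⟨g, hg⟩ := IsCyclic.exists_ofOrder_eq_natCard (α := ↥E')
    obtain ⟨_, ⟨a, ha, rfl⟩, hag⟩ := g.2
    have h1 : orderOf g ∣ 2 := orderOf_dvd_of_pow_eq_one (Subtype.ext (by
      show (g : G) ^ 2 = 1
      rw [← hag, ← map_pow, ← map_pow, show a ^ 2 = 1 from congrArg Subtype.val (hEe ⟨a, ha⟩), map_one, map_one]))
    rw [hg, hE'c] at h1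
    exact absurd (Nat.le_of_dvd two_pos h1) (by norm_num)
  rcases FpfStruct.cyclic_or_quaternion P.isPGroup' hAb with h | ⟨-, k, hk⟩
  · exact Or.inl h
  · exact Or.inr (Or.inr ⟨k, hk⟩)

end Cfsg.Agent.S3908
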