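import Cfsg.Statements.S3909
import Mathlib.GroupTheory.Sylow

set_option autoImplicit false
open Cfsg

namespace Cfsg.Agent.S3909

/-- Let G be a finite group in which any two abelian subgroups of the same order are conjugate. Let M be a normal subgroup of G. If M contains an element of the same order as a ∈ G, then a ∈ M; and if M is elementary abelian of order p^t with p prime and t ≥ 2, then M is the unique Sylow p-subgroup of G. -/
theorem result {G : Type*} [Group G] [Finite G] (hB : ∀ A B : Subgroup G, IsMulCommutative ↥A → IsMulCommutative ↥B → Nat.card ↥A = Nat.card ↥B → ∃ g : G, B = A.map (MulAut.conj g).toMonoidHom) (M : Subgroup G) [M.Normal] :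
    (∀ a : G, (∃ m ∈ M, orderOf m = orderOf a) → a ∈ M) ∧
    ∀ (p t : ℕ) [Fact p.Prime], 2 ≤ t → Nat.card ↥M = p ^ t → Cfsg.IsElementaryAbelian p M → ∀ P : Sylow p G, (P : Subgroup G) = M := by
  have hsub : ∀ Y B : Subgroup G, IsMulCommutative Y → IsMulCommutative B → B ≤ M →
      Nat.card Y = Nat.card B → Y ≤ M := by
    intro Y B hY hBc hBM hc
    obtain ⟨g, rfl⟩ := hB B Y hBc hY hc.symm
    rintro _ ⟨b, hb, rfl⟩
    exact (inferInstance : M.Normal).conj_mem b (hBM hb) g
  have hmem : ∀ a : G, (∃ m ∈ M, orderOf m = orderOf a) → a ∈ M := by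
    rintro a ⟨m, hm, ho⟩
    refine hsub (Subgroup.zpowers a) (Subgroup.zpowers m) inferInstance inferInstance
      (Subgroup.zpowers_le.2 hm) ?_ (Subgroup.mem_zpowers a)
    rw [Nat.card_zpowers, Nat.card_zpowers, ho]
  refine ⟨hmem, fun p t _ ht hcard hM P => ?_⟩
  have hp : p.Prime := Fact.out
  have hMP : IsPGroup p M := IsPGroup.of_card hcard
  have key : ∀ x : G, orderOf x = p ^ 2 → False := by
    intro x hx
    obtain ⟨B₀, hB0⟩ := Sylow.exists_subgroup_card_pow_prime (G := M) p (n := 2)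
      (hcard ▸ pow_dvd_pow p ht)
    obtain ⟨B, hB1, hBM⟩ : ∃ B : Subgroup G, Nat.card B = p ^ 2 ∧ B ≤ M :=
      ⟨B₀.map M.subtype, by rw [Subgroup.card_map_of_injective M.subtype_injective]; exact hB0,
        Subgroup.map_subtype_le _⟩
    have hBc : IsMulCommutative B := ⟨⟨fun a b => Subtype.ext
      (congrArg Subtype.val (hM.1.is_comm.comm ⟨a, hBM a.2⟩ ⟨b, hBM b.2⟩) :)⟩⟩
    have hx' : x ∈ M := hsub (Subgroup.zpowers x) B inferInstance hBc hBM
      (by rw [Nat.card_zpowers, hx, hB1]) (Subgroup.mem_zpowers x)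
    have := Nat.le_of_dvd hp.pos (hx ▸ orderOf_dvd_of_pow_eq_one (hM.2 x hx'))
    nlinarith [hp.two_le]
  obtain ⟨m, hm⟩ := exists_prime_orderOf_dvd_card' (G := M) p
    (hcard ▸ dvd_pow_self p (by omega))
  have hle : (P : Subgroup G) ≤ M := by
    intro x hx
    obtain ⟨k, hk⟩ := IsPGroup.iff_orderOf.1 P.isPGroup' ⟨x, hx⟩
    rw [Subgroup.orderOf_mk] at hk
    rcases k with _ | _ | k
    · rw [pow_zero, orderOf_eq_one_iff] at hk; rw [hk]; exact one_mem M
    · exact hmem x ⟨m, m.2, by rw [Subgroup.orderOf_coe, hm, hk, zero_add, pow_one]⟩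
    · refine (key (x ^ p ^ k) ?_).elim
      rw [orderOf_pow' _ (pow_ne_zero _ hp.ne_zero), hk,
        Nat.gcd_eq_right (pow_dvd_pow p (by omega)), Nat.pow_div (by omega) hp.pos]
      congr 1; omega
  exact le_antisymm hle (P.3 hMP hle ▸ le_rfl)

end Cfsg.Agent.S3909
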