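import Cfsg.Statements.S3910
import Cfsg.Agent.Lib.Solvable.Coprime
import Cfsg.Agent.Lib.OddOrder.Nilpotent
import Mathlib.Tactic.Group

set_option autoImplicit false
open Cfsg

namespace Cfsg.Agent.S3910

set_option linter.style.haveILetI false

/-- A subgroup containing all elements of prime power order is everything. -/
lemma eq_top_of_primePow {G : Type*} [Group G] [Finite G] (H : Subgroup G)
    (h : ∀ q : ℕ, q.Prime → ∀ a : G, (∃ j, orderOf a = q ^ j) → a ∈ H) : H = ⊤ := by
  rw [← Subgroup.index_eq_one]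
  by_contra hne
  obtain ⟨q, hq, hdvd⟩ := Nat.exists_prime_and_dvd hne
  haveI := Fact.mk hq
  obtain ⟨P⟩ : Nonempty (Sylow q G) := inferInstance
  have hle : (P : Subgroup G) ≤ H := fun a ha => by
    obtain ⟨j, hj⟩ := IsPGroup.iff_orderOf.1 P.isPGroup' ⟨a, ha⟩
    exact h q hq a ⟨j, by rwa [Subgroup.orderOf_mk] at hj⟩
  exact P.not_dvd_index (hdvd.trans (Subgroup.index_dvd_of_le hle))

/-- A finite nilpotent group in which any two abelian subgroups of the same order are conjugate is cyclic. -/
theorem result {G : Type*} [Group G] [Finite G] (hB : ∀ A B : Subgroup G, IsMulCommutative ↥A → IsMulCommutative ↥B → Nat.card ↥A = Nat.card ↥B → ∃ g : G, B = A.map (MulAut.conj g).toMonoidHom) (hnil : Group.IsNilpotent G) : IsCyclic G := by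
  haveI := hnil
  obtain ⟨A, hAn, hAc, hC⟩ := Cfsg.Agent.OddOrder.Nilp.exists_normal_abelian_self_centralizing (G := G)
  have hnorm : ∀ (q : ℕ) [Fact q.Prime] (P : Sylow q G), (P : Subgroup G).Normal := fun q _ P =>
    ((Group.isNilpotent_of_finite_tfae (G := G)).out 0 3 : _ ↔ ∀ (p : ℕ) (_ : Fact p.Prime) (P : Sylow p G), (P : Subgroup G).Normal).1 hnil q inferInstance P
  have hconj : ∀ Y B : Subgroup G, IsMulCommutative Y → IsMulCommutative B → B.Normal →
      Nat.card Y = Nat.card B → Y = B := by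
    intro Y B hY hBc hBn hc
    obtain ⟨g, rfl⟩ := hB B Y hBc hY hc.symm
    apply Subgroup.eq_of_le_of_card_ge
    · rintro _ ⟨b, hb, rfl⟩; exact hBn.conj_mem b hb g
    · exact (Subgroup.card_map_of_injective (MulEquiv.injective _)).ge
  have hcA : ∀ B : Subgroup G, B ≤ A → IsMulCommutative B := fun B hBA => ⟨⟨fun a b => Subtype.ext
      (congrArg Subtype.val (hAc.is_comm.comm ⟨a, hBA a.2⟩ ⟨b, hBA b.2⟩) :)⟩⟩
  have htop : A = ⊤ := by
    apply eq_top_of_primePow
    rintro p hp x ⟨k, hk⟩
    haveI := Fact.mk hp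
    obtain ⟨P, hP⟩ := (IsPGroup.of_card (p := p) (n := k) (G := Subgroup.zpowers x)
      (by rw [Nat.card_zpowers, hk])).exists_le_sylow
    haveI := hnorm p P
    obtain ⟨s, hs⟩ := IsPGroup.iff_card.1 (P.isPGroup'.to_le (inf_le_right : A ⊓ (P : Subgroup G) ≤ P))
    by_cases hks : k ≤ s
    · obtain ⟨B, hB1⟩ := Sylow.exists_subgroup_card_pow_prime
        (G := (A ⊓ (P : Subgroup G) : Subgroup G)) p (n := k) (hs ▸ pow_dvd_pow p hks)
      set B' := B.map (A ⊓ (P : Subgroup G)).subtype
      have hB'A : B' ≤ A := (Subgroup.map_subtype_le _).trans inf_le_left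
      obtain ⟨g, hg⟩ := hB B' (Subgroup.zpowers x) (hcA _ hB'A) inferInstance (by
        rw [Subgroup.card_map_of_injective (Subgroup.subtype_injective _), hB1, Nat.card_zpowers, hk])
      obtain ⟨b, hb, hbe⟩ := hg ▸ Subgroup.mem_zpowers x
      rw [← hbe]
      exact hAn.conj_mem b (hB'A hb) g
    · rw [← hC, Subgroup.mem_centralizer_iff]
      have hQx : A ⊓ (P : Subgroup G) ≤ Subgroup.zpowers x := by
        obtain ⟨B, hB1⟩ := Sylow.exists_subgroup_card_pow_prime (G := Subgroup.zpowers x) p (n := s)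
          (by rw [Nat.card_zpowers, hk]; exact pow_dvd_pow p (by omega))
        set B' := B.map (Subgroup.zpowers x).subtype
        have hB'c : IsMulCommutative B' := ⟨⟨fun a b => Subtype.ext (by
          obtain ⟨i, hi⟩ := Subgroup.map_subtype_le _ a.2
          obtain ⟨j, hj⟩ := Subgroup.map_subtype_le _ b.2
          simp only [Subgroup.coe_mul, ← hi, ← hj, ← zpow_add, add_comm])⟩⟩
        have := hconj B' _ hB'c (hcA _ inf_le_left) inferInstance (by
          rw [Subgroup.card_map_of_injective (Subgroup.subtype_injective _), hB1, hs])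
        rw [← this]
        exact Subgroup.map_subtype_le _
      have hcen : ((Subgroup.centralizer ({x} : Set G)).subgroupOf A) = ⊤ := by
        apply eq_top_of_primePow
        rintro q hq a ⟨j, hj⟩
        rw [Subgroup.mem_subgroupOf, Subgroup.mem_centralizer_singleton_iff]
        haveI := Fact.mk hq
        rw [← Subgroup.orderOf_coe] at hj
        obtain ⟨Q, hQ⟩ := (IsPGroup.of_card (p := q) (n := j) (G := Subgroup.zpowers (a : G))
          (by rw [Nat.card_zpowers, hj])).exists_le_sylow
        haveI := hnorm q Q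
        have haQ := hQ (Subgroup.mem_zpowers _)
        rcases eq_or_ne q p with rfl | hqp
        · have hQP : Q = P := (Sylow.unique_of_normal P inferInstance).instSubsingleton.elim Q P
          obtain ⟨i, hi⟩ := hQx ⟨a.2, hQP ▸ haQ⟩
          simp only at hi
          rw [← hi]
          exact (Commute.refl x).zpow_left i
        · exact (Subgroup.commute_of_normal_of_disjoint (Q : Subgroup G) (P : Subgroup G) inferInstance inferInstance
            (IsPGroup.disjoint_of_ne q p hqp _ _ Q.isPGroup' P.isPGroup') (a : G) x haQ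
            (hP (Subgroup.mem_zpowers x))).eq
      intro a ha
      have := (hcen ▸ Subgroup.mem_top (⟨a, ha⟩ : A) : (⟨a, ha⟩ : A) ∈ (Subgroup.centralizer ({x} : Set G)).subgroupOf A)
      rw [Subgroup.mem_subgroupOf, Subgroup.mem_centralizer_singleton_iff] at this
      exact this
  subst htop
  have hcomm : ∀ a b : G, a * b = b * a := fun a b =>
    congrArg Subtype.val (hAc.is_comm.comm ⟨a, Subgroup.mem_top a⟩ ⟨b, Subgroup.mem_top b⟩)
  haveI : IsMulCommutative G := ⟨⟨hcomm⟩⟩
  by_contra hnc
  obtain ⟨q, E, hq, hE, hexp⟩ := Cfsg.Agent.CoprimeAct.exists_elementary_of_not_isCyclic hnc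
  haveI := Fact.mk hq
  have hord : ∀ e ∈ E, e ≠ 1 → orderOf e = q := fun e he h1 =>
    orderOf_eq_prime (congrArg Subtype.val (hexp ⟨e, he⟩) :) h1
  have hEb : E ≠ ⊥ := by
    rintro rfl
    rw [Subgroup.card_bot] at hE
    nlinarith [hq.two_le]
  obtain ⟨e, he, he1⟩ := (Subgroup.bot_or_exists_ne_one E).resolve_left hEb
  have hle : E ≤ Subgroup.zpowers e := by
    intro y hy
    rcases eq_or_ne y 1 with rfl | hy1
    · exact one_mem _
    obtain ⟨g, hg⟩ := hB (Subgroup.zpowers e) (Subgroup.zpowers y) inferInstance inferInstance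
      (by rw [Nat.card_zpowers, Nat.card_zpowers, hord e he he1, hord y hy hy1])
    obtain ⟨b, hb, hbe⟩ := hg ▸ Subgroup.mem_zpowers y
    rw [← hbe]
    simp only [MulEquiv.coe_toMonoidHom, MulAut.conj_apply, hcomm g b, mul_inv_cancel_right]
    exact hb
  have := Nat.le_of_dvd (by rw [Nat.card_zpowers]; exact orderOf_pos e) (Subgroup.card_dvd_of_le hle)
  rw [hE, Nat.card_zpowers, hord e he he1] at this
  nlinarith [hq.two_le]

end Cfsg.Agent.S3910
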