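import Cfsg.Statements.S3911
import Cfsg.Agent.S3908
import Cfsg.Agent.S3939
import Cfsg.Agent.S3867
import Mathlib

set_option autoImplicit false
open Cfsg

namespace Cfsg.Agent.S3911

open Cfsg.Agent
open scoped commutatorElement Pointwise

variable {G : Type*} [Group G] [Finite G]

/-- A prime shared by `|M|` and the quotient has cyclic Sylow subgroups. -/
lemma sylow_cyclic
    (hB : ∀ A B : Subgroup G, IsMulCommutative ↥A → IsMulCommutative ↥B → Nat.card ↥A = Nat.card ↥B → ∃ g : G, B = A.map (MulAut.conj g).toMonoidHom)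
    (M : Subgroup G) [hMn : M.Normal] (hM : Odd (Nat.card ↥M)) {p : ℕ} [Fact p.Prime]
    (hpM : p ∣ Nat.card ↥M) (hpQ : p ∣ M.index) (P : Sylow p G) : IsCyclic ↥(P : Subgroup G) := by
  have hp2 : p ≠ 2 := fun h => hM.not_two_dvd_nat (h ▸ hpM)
  rcases S3908.sylow_odd hp2 hB P with h | h
  · exact h
  exfalso
  obtain ⟨m, hm⟩ := exists_prime_orderOf_dvd_card' (G := ↥M) p hpM
  have hmG : orderOf (m : G) = p := by rwa [Subgroup.orderOf_coe]
  have hPM : (P : Subgroup G) ≤ M := by
    intro x hx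
    rcases eq_or_ne x 1 with rfl | hx1
    · exact one_mem M
    obtain ⟨g, hg⟩ := hB (Subgroup.zpowers (m : G)) (Subgroup.zpowers x)
      ⟨⟨fun a b => IsCyclic.commGroup.mul_comm a b⟩⟩ ⟨⟨fun a b => IsCyclic.commGroup.mul_comm a b⟩⟩
      (by rw [Nat.card_zpowers, Nat.card_zpowers, hmG, orderOf_eq_prime (h x hx) hx1])
    obtain ⟨w, hw, hwx⟩ : x ∈ (Subgroup.zpowers (m : G)).map (MulAut.conj g).toMonoidHom :=
      hg ▸ Subgroup.mem_zpowers x
    rw [← hwx]
    exact hMn.conj_mem w (Subgroup.zpowers_le.2 m.2 hw) g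
  exact P.not_dvd_index (hpQ.trans (Subgroup.index_dvd_of_le hPM))

/-- An abelian subgroup covering a given abelian subgroup of the quotient, of predictable order. -/
lemma exists_lift
    (hB : ∀ A B : Subgroup G, IsMulCommutative ↥A → IsMulCommutative ↥B → Nat.card ↥A = Nat.card ↥B → ∃ g : G, B = A.map (MulAut.conj g).toMonoidHom)
    (M : Subgroup G) [hMn : M.Normal] (hM : Odd (Nat.card ↥M)) (A : Subgroup (G ⧸ M)) (hA : IsMulCommutative ↥A) :
    ∃ K : Subgroup G, IsMulCommutative ↥K ∧ K.map (QuotientGroup.mk' M) = A ∧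
      Nat.card ↥K = Nat.card ↥A * Nat.card ↥(K ⊓ M) ∧
      ∀ p : ℕ, p.Prime → (Nat.card ↥(K ⊓ M)).factorization p =
        if p ∣ Nat.card ↥A then (Nat.card ↥M).factorization p else 0 := by
  classical
  set f := QuotientGroup.mk' M with hf
  obtain ⟨K, hKf, hmin⟩ := (Set.toFinite {K : Subgroup G | K.map f = A}).exists_minimal
    ⟨A.comap f, Subgroup.map_comap_eq_self_of_surjective (QuotientGroup.mk'_surjective M) A⟩
  have hKf' : K.map f = A := hKf
  set N := M.subgroupOf K with hN
  have hNfr : N ≤ frattini ↥K := by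
    refine le_iInf₂ fun L hL => ?_
    by_contra hle
    have htop : L ⊔ N = ⊤ := hL.2 _ (left_lt_sup.2 hle)
    have hmap : (L.map K.subtype).map f = A := by
      rw [← hKf']
      refine le_antisymm (Subgroup.map_mono (Subgroup.map_subtype_le L)) ?_
      rintro _ ⟨k, hk, rfl⟩
      obtain ⟨l, hl, n, hn, hln⟩ := Subgroup.mem_sup_of_normal_right.1 (htop ▸ Subgroup.mem_top (⟨k, hk⟩ : ↥K))
      refine ⟨l, ⟨l, hl, rfl⟩, ?_⟩
      have e1 : (l : G) * (n : G) = k := congrArg Subtype.val hln
      rw [← e1, map_mul, show f (n : G) = 1 from (QuotientGroup.eq_one_iff (n : G)).2 hn, mul_one]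
    exact hL.1 (by
      have h1 := hmin hmap (Subgroup.map_subtype_le L)
      rw [eq_top_iff]
      intro y _
      obtain ⟨z, hz, hzy⟩ := h1 y.2
      exact K.subtype_injective hzy ▸ hz)
  let φ : ↥K →* ↥A := (f.comp K.subtype).codRestrict A fun k => hKf' ▸ ⟨k, k.2, rfl⟩
  have hφs : Function.Surjective φ := by
    rintro ⟨a, ha⟩
    obtain ⟨k, hk, hka⟩ := (hKf'.symm ▸ ha : a ∈ K.map f)
    exact ⟨⟨k, hk⟩, Subtype.ext hka⟩
  have hker : φ.ker = N := by
    ext k
    rw [MonoidHom.mem_ker]
    exact ⟨fun h => (QuotientGroup.eq_one_iff (k : G)).1 (congrArg Subtype.val h),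
      fun h => Subtype.ext ((QuotientGroup.eq_one_iff (k : G)).2 h)⟩
  have hcomm : ∀ a b : ↥K, ⁅a, b⁆ ∈ N := fun a b => by
    rw [← hker, MonoidHom.mem_ker, map_commutatorElement, commutatorElement_eq_one_iff_mul_comm]
    exact hA.is_comm.comm _ _
  haveI hKnil : Group.IsNilpotent ↥K := by
    refine ((isNilpotent_of_finite_tfae (G := ↥K)).out 0 2).2 fun L hL => ?_
    have hle : frattini ↥K ≤ L := iInf₂_le L hL
    refine ⟨fun l hl a => ?_⟩
    have h1 := mul_mem (hle (hNfr (hcomm a l))) hl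
    simpa [commutatorElement_def, mul_assoc] using h1
  have hcardK : Nat.card ↥K = Nat.card ↥A * Nat.card ↥(K ⊓ M) := by
    rw [← φ.ker.card_mul_index, Subgroup.index_ker, MonoidHom.range_eq_top.2 hφs, Subgroup.card_top, hker, hN,
      ← Subgroup.inf_subgroupOf_right, inf_comm, Nat.card_congr (Subgroup.subgroupOfEquivOfLe inf_le_left).toEquiv,
      mul_comm]
  have hcyc : ∀ {p : ℕ}, p.Prime → p ∣ Nat.card ↥M → p ∣ Nat.card ↥A → ∀ P : Sylow p G,
      IsCyclic ↥(P : Subgroup G) := fun {p} hp h1 h2 P =>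
    haveI := Fact.mk hp
    sylow_cyclic hB M hM h1 (h2.trans (Subgroup.card_subgroup_dvd_card A)) P
  have hnoA : ∀ p : ℕ, p.Prime → p ∣ Nat.card ↥K → p ∣ Nat.card ↥A := by
    intro p hp hpK
    by_contra hpA
    haveI := Fact.mk hp
    let S : Sylow p ↥K := default
    haveI : (S : Subgroup ↥K).Normal := inferInstance
    obtain ⟨C, hC⟩ := Subgroup.exists_right_complement'_of_coprime (N := (S : Subgroup ↥K))
      (by
        obtain ⟨e, he⟩ := S.isPGroup'.exists_card_eq
        rw [he]
        exact Nat.Coprime.pow_left e (hp.coprime_iff_not_dvd.2 S.not_dvd_index))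
    have hSN : (S : Subgroup ↥K) ≤ N := by
      intro s hs
      rw [← hker, MonoidHom.mem_ker, ← orderOf_eq_one_iff]
      obtain ⟨e, he⟩ := IsPGroup.iff_orderOf.1 S.isPGroup' ⟨s, hs⟩
      rw [Subgroup.orderOf_mk] at he
      have h1 : orderOf (φ s) ∣ p ^ e := he ▸ orderOf_map_dvd φ s
      obtain ⟨j, -, hj⟩ := (Nat.dvd_prime_pow hp).1 h1
      rcases j with _ | j
      · exact hj.trans (pow_zero p)
      · exact absurd ((dvd_pow_self p (Nat.succ_ne_zero j)).trans (hj ▸ orderOf_dvd_natCard (φ s))) hpA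
    have hCtop : C = ⊤ := by
      refine frattini_nongenerating (eq_top_iff.2 ?_)
      rw [← hC.sup_eq_top, sup_comm (S : Subgroup ↥K)]
      exact sup_le_sup_left (hSN.trans hNfr) C
    have h1 := hC.card_mul
    rw [hCtop, Subgroup.card_top] at h1
    have h2 : Nat.card ↥(S : Subgroup ↥K) = 1 := Nat.eq_of_mul_eq_mul_right (Nat.card_pos (α := ↥K)) (by
      rw [one_mul]; exact h1)
    have h3 := S.dvd_card_of_dvd_card hpK
    rw [h2] at h3
    exact hp.ne_one (Nat.dvd_one.1 h3)
  refine ⟨K, ⟨⟨fun a b => ?_⟩⟩, hKf', hcardK, fun p hp => ?_⟩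
  · -- the subgroup is abelian
    refine (Subgroup.mem_centralizer_singleton_iff.1
      (S3939.mem_of_prime_parts a (Subgroup.centralizer {b}) fun r hr a' _ har => ?_))
    rw [Subgroup.mem_centralizer_singleton_iff]
    refine (Subgroup.mem_centralizer_singleton_iff.1
      (S3939.mem_of_prime_parts b (Subgroup.centralizer {a'}) fun s hs b' _ hbs => ?_)).symm
    rw [Subgroup.mem_centralizer_singleton_iff]
    haveI := Fact.mk hr
    by_cases hsr : s = r
    swap
    · obtain ⟨j, hj⟩ := hbs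
      exact (S3939.commute_of_nilpotent hr har
        (by rw [hj]; exact Nat.Coprime.pow_left j ((Nat.coprime_primes hs hr).2 hsr))).eq.symm
    subst hsr
    let S : Sylow s ↥K := default
    have ha' := S3939.mem_sylow_of_normal S har
    have hb' := S3939.mem_sylow_of_normal S hbs
    rcases subsingleton_or_nontrivial ↥(S : Subgroup ↥K) with hsub | hnt
    · have := congrArg Subtype.val (Subsingleton.elim (⟨a', ha'⟩ : ↥(S : Subgroup ↥K)) ⟨1, one_mem _⟩)
      rw [show a' = 1 from this]; simp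
    by_cases hpM : s ∣ Nat.card ↥M
    · obtain ⟨e, he⟩ := S.isPGroup'.exists_card_eq
      have he0 : e ≠ 0 := fun h0 => by
        have := Finite.one_lt_card_iff_nontrivial.2 hnt
        rw [he, h0] at this; simp at this
      have hpA := hnoA s hr ((dvd_pow_self s he0).trans (he ▸ Subgroup.card_subgroup_dvd_card _))
      obtain ⟨P, hP⟩ := (S.isPGroup'.map K.subtype).exists_le_sylow
      haveI := hcyc hr hpM hpA P
      have h1 : (⟨(a' : G), hP ⟨a', ha', rfl⟩⟩ : ↥(P : Subgroup G)) * ⟨(b' : G), hP ⟨b', hb', rfl⟩⟩ =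
          ⟨(b' : G), hP ⟨b', hb', rfl⟩⟩ * ⟨(a' : G), hP ⟨a', ha', rfl⟩⟩ := IsCyclic.commGroup.mul_comm _ _
      exact Subtype.ext (congrArg Subtype.val h1).symm
    · have hcS : ⁅b', a'⁆ ∈ (S : Subgroup ↥K) := by
        rw [commutatorElement_def]
        exact mul_mem (mul_mem (mul_mem hb' ha') (inv_mem hb')) (inv_mem ha')
      have hcM : ((⁅b', a'⁆ : ↥K) : G) ∈ M := hcomm b' a'
      refine commutatorElement_eq_one_iff_mul_comm.1 (Subtype.ext ?_)
      obtain ⟨e, he⟩ := IsPGroup.iff_orderOf.1 S.isPGroup' ⟨_, hcS⟩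
      rw [Subgroup.orderOf_mk, ← Subgroup.orderOf_coe] at he
      have h1 : orderOf ((⁅b', a'⁆ : ↥K) : G) ∣ Nat.card ↥M := Subgroup.orderOf_dvd_natCard M hcM
      rw [he] at h1
      rcases e with _ | e
      · exact orderOf_eq_one_iff.1 (he.trans (pow_zero s))
      · exact absurd ((dvd_pow_self s (Nat.succ_ne_zero e)).trans h1) hpM
  · -- the order of the intersection with `M`
    haveI := Fact.mk hp
    have hne : Nat.card ↥(K ⊓ M) ≠ 0 := Nat.card_pos.ne'
    have hle : (Nat.card ↥(K ⊓ M)).factorization p ≤ (Nat.card ↥M).factorization p :=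
      (Nat.factorization_le_iff_dvd hne Nat.card_pos.ne').2 (Subgroup.card_dvd_of_le inf_le_right) p
    split_ifs with hpA
    · refine le_antisymm hle ?_
      set v := (Nat.card ↥M).factorization p with hv
      rcases Nat.eq_zero_or_pos v with h0 | hv0
      · omega
      have hpM : p ∣ Nat.card ↥M := Nat.dvd_of_factorization_pos hv0.ne'
      -- a Sylow subgroup of `K` meets the quotient nontrivially
      let S : Sylow p ↥K := default
      obtain ⟨P, hP⟩ := (S.isPGroup'.map K.subtype).exists_le_sylow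
      haveI := hcyc hp hpM hpA P
      have hSM : ¬ (S : Subgroup ↥K).map K.subtype ≤ M := by
        intro hle'
        have h1 : (S : Subgroup ↥K) ≤ N := fun s hs => hle' ⟨s, hs, rfl⟩
        refine S.not_dvd_index ((dvd_trans ?_ (Subgroup.index_dvd_of_le h1)))
        rw [← hker, Subgroup.index_ker, MonoidHom.range_eq_top.2 hφs, Subgroup.card_top]
        exact hpA
      have hPM : (P : Subgroup G) ⊓ M ≤ K := by
        set T := (S : Subgroup ↥K).map K.subtype with hT
        obtain ⟨c, hc⟩ := (P.isPGroup'.to_le hP).exists_card_eq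
        obtain ⟨i, hi⟩ := (P.isPGroup'.to_le (inf_le_left : (P : Subgroup G) ⊓ M ≤ _)).exists_card_eq
        have key : ∀ X Y : Subgroup G, X ≤ P → Y ≤ P → Nat.card ↥X ∣ Nat.card ↥Y → X ≤ Y := by
          intro X Y hX hY hd x hx
          haveI := Fintype.ofFinite ↥(P : Subgroup G)
          have hcard := IsCyclic.card_pow_eq_one_le (α := ↥(P : Subgroup G)) (Nat.card_pos (α := ↥Y))
          set S1 := (Finset.univ.filter fun a : ↥(P : Subgroup G) => (a : G) ∈ Y)
          set S2 := (Finset.univ.filter fun a : ↥(P : Subgroup G) => a ^ Nat.card ↥Y = 1)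
          have hS12 : S1 ⊆ S2 := fun a ha => by
            rw [Finset.mem_filter] at ha ⊢
            exact ⟨ha.1, Subtype.ext (by
              have h : ((⟨(a : G), ha.2⟩ ^ Nat.card ↥Y : ↥Y) : G) = ((1 : ↥Y) : G) :=
                congrArg (fun y : ↥Y => (y : G)) pow_card_eq_one'
              rw [Subgroup.coe_pow, Subgroup.coe_one] at h ⊢
              exact h)⟩
          have hS1 : S1.card = Nat.card ↥Y := by
            rw [← Fintype.card_subtype, ← Nat.card_eq_fintype_card]
            exact Nat.card_congr ⟨fun a => ⟨_, a.2⟩, fun y => ⟨⟨_, hY y.2⟩, y.2⟩, fun _ => rfl, fun _ => rfl⟩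
          have heq := Finset.eq_of_subset_of_card_le hS12 (hS1.symm ▸ hcard)
          have hx2 : (⟨x, hX hx⟩ : ↥(P : Subgroup G)) ∈ S2 := Finset.mem_filter.2 ⟨Finset.mem_univ _, Subtype.ext (by
            have h1 : orderOf x ∣ Nat.card ↥Y := (Subgroup.orderOf_dvd_natCard X hx).trans hd
            exact orderOf_dvd_iff_pow_eq_one.1 h1)⟩
          rw [← heq, Finset.mem_filter] at hx2
          exact hx2.2
        rcases Nat.le_total i c with hle' | hle'
        · exact (key _ T inf_le_left hP (by rw [hi, hc]; exact pow_dvd_pow p hle')).trans (Subgroup.map_subtype_le _)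
        · exact absurd ((key T _ hP inf_le_left (by rw [hi, hc]; exact pow_dvd_pow p hle')).trans inf_le_right) hSM
      have h1 : p ^ v ∣ Nat.card ↥((P : Subgroup G) ⊓ M : Subgroup G) := by
        obtain ⟨i, hi⟩ := (P.isPGroup'.to_le (inf_le_left : (P : Subgroup G) ⊓ M ≤ _)).exists_card_eq
        have h2 := S3867.card_sup_normal (P : Subgroup G) M
        have h3 : Nat.card ↥(P : Subgroup G) * Nat.card ↥M ∣ Nat.card G * p ^ i := by
          rw [← h2, hi]
          exact Nat.mul_dvd_mul_right (Subgroup.card_subgroup_dvd_card _) _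
        have h4 := (Nat.factorization_le_iff_dvd (Nat.mul_ne_zero Nat.card_pos.ne' Nat.card_pos.ne')
          (Nat.mul_ne_zero Nat.card_pos.ne' (pow_ne_zero i hp.ne_zero))).2 h3 p
        rw [Nat.factorization_mul Nat.card_pos.ne' Nat.card_pos.ne',
          Nat.factorization_mul Nat.card_pos.ne' (pow_ne_zero i hp.ne_zero), Finsupp.add_apply, Finsupp.add_apply,
          P.card_eq_multiplicity, Nat.factorization_pow_self hp, Nat.factorization_pow_self hp, ← hv] at h4
        rw [hi]; exact pow_dvd_pow p (by omega)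
      have h2 : p ^ v ∣ Nat.card ↥(K ⊓ M) := h1.trans (Subgroup.card_dvd_of_le (le_inf hPM inf_le_right))
      exact (hp.pow_dvd_iff_le_factorization hne).1 h2
    · exact Nat.factorization_eq_zero_of_not_dvd fun h => hpA (hnoA p hp (hcardK ▸ dvd_mul_of_dvd_right h _))

/-- Let G be a finite group in which any two abelian subgroups of the same order are conjugate. If M is a normal subgroup of G of odd order, then any two abelian subgroups of G/M of the same order are conjugate in G/M. -/
theorem result {G : Type*} [Group G] [Finite G] (hB : ∀ A B : Subgroup G, IsMulCommutative ↥A → IsMulCommutative ↥B → Nat.card ↥A = Nat.card ↥B → ∃ g : G, B = A.map (MulAut.conj g).toMonoidHom) (M : Subgroup G) [M.Normal] (hM : Odd (Nat.card ↥M)) :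
    ∀ A B : Subgroup (G ⧸ M), IsMulCommutative ↥A → IsMulCommutative ↥B → Nat.card ↥A = Nat.card ↥B →
      ∃ g : G ⧸ M, B = A.map (MulAut.conj g).toMonoidHom := by
  intro A B hA hB' hcard
  obtain ⟨K, hK, hKA, hKc, hKf⟩ := exists_lift hB M hM A hA
  obtain ⟨L, hL, hLB, hLc, hLf⟩ := exists_lift hB M hM B hB'
  have heq : Nat.card ↥(K ⊓ M) = Nat.card ↥(L ⊓ M) :=
    Nat.eq_of_factorization_eq Nat.card_pos.ne' Nat.card_pos.ne' fun p => by
      by_cases hp : p.Prime
      · rw [hKf p hp, hLf p hp, hcard]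
      · rw [Nat.factorization_eq_zero_of_not_prime _ hp, Nat.factorization_eq_zero_of_not_prime _ hp]
  obtain ⟨g, hg⟩ := hB K L hK hL (by rw [hKc, hLc, hcard, heq])
  refine ⟨QuotientGroup.mk' M g, ?_⟩
  rw [← hKA, ← hLB, hg, Subgroup.map_map, Subgroup.map_map]
  congr 1

end Cfsg.Agent.S3911
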