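import Cfsg.Statements.S3915
import Cfsg.Agent.Lib.Components.Basic
import Cfsg.Agent.S0205

set_option autoImplicit false
open Cfsg

namespace Cfsg.Agent.S3915

open Subgroup
open Cfsg.Agent

section
variable {G : Type*} [Group G] [Finite G]

/-- A component has a 2-element which is not central in it but whose square is. -/
theorem exists_two_element {K : Subgroup G} (hK : IsComponent K) :
    ∃ x ∈ K, (∃ a : ℕ, orderOf x = 2 ^ a) ∧ (∀ k ∈ K, Commute (x * x) k) ∧
      ∃ k ∈ K, ¬ Commute x k := by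
  classical
  haveI : IsSimpleGroup (↥K ⧸ center ↥K) := hK.2.2
  have hnc : ¬ ∀ a b : ↥K ⧸ center ↥K, a * b = b * a := fun h => by
    haveI : IsMulCommutative (↥K ⧸ center ↥K) := ⟨⟨h⟩⟩
    refine Components.quasisimple_center_ne_top hK.2 (eq_top_iff.2 ?_)
    rw [← hK.2.1.commutator_eq_top, commutator_def, commutator_le]
    intro a _ b _
    rw [← QuotientGroup.eq_one_iff]
    simp [commutatorElement_def, h (a : ↥K ⧸ center ↥K) b]
  have h2 : 2 ∣ Nat.card (↥K ⧸ center ↥K) := by
    by_contra h2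
    exact hnc (IsSimpleGroup.comm_iff_isSolvable.2
      (S0205.result (Nat.not_even_iff_odd.1 fun he => h2 (even_iff_two_dvd.1 he))))
  obtain ⟨q, hq⟩ := exists_prime_orderOf_dvd_card' (hp := ⟨Nat.prime_two⟩) 2 h2
  obtain ⟨w, rfl⟩ := QuotientGroup.mk_surjective q
  obtain ⟨a, m, hm, he⟩ := Nat.exists_eq_two_pow_mul_odd (orderOf_pos w).ne'
  set x : ↥K := w ^ m with hx
  have hxo : orderOf x = 2 ^ a := by
    rw [hx, orderOf_pow' w (by rintro rfl; simp at hm), he, Nat.gcd_mul_left_left]
    exact Nat.mul_div_cancel _ hm.pos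
  have hxq : (x : ↥K ⧸ center ↥K) = w := by
    obtain ⟨j, rfl⟩ := hm
    rw [hx, QuotientGroup.mk_pow, pow_succ, pow_mul,
      show (w : ↥K ⧸ center ↥K) ^ 2 = 1 by rw [← hq, pow_orderOf_eq_one], one_pow, one_mul]
  have hxx : x * x ∈ center ↥K := by
    rw [← QuotientGroup.eq_one_iff, QuotientGroup.mk_mul, hxq, ← sq, ← hq, pow_orderOf_eq_one]
  have hxc : x ∉ center ↥K := fun h => by
    rw [← QuotientGroup.eq_one_iff, hxq] at h
    rw [h, orderOf_one] at hq
    omega
  refine ⟨x, x.2, ⟨a, by rw [orderOf_coe, hxo]⟩, fun k hk => ?_, ?_⟩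
  · exact (congrArg Subtype.val (Subgroup.mem_center_iff.1 hxx ⟨k, hk⟩)).symm
  · by_contra h
    push Not at h
    exact hxc (Subgroup.mem_center_iff.2 fun k => Subtype.ext (h k k.2).eq.symm)

/-- 2-elements outside a normal subgroup with squares inside have equal orders, if cyclic 2-groups
of equal order are conjugate. -/
theorem orderOf_eq_of_sq_mem (hP : ∀ A B : Subgroup G, IsCyclic ↥A → IsCyclic ↥B → IsPGroup 2 ↥A →
      Nat.card ↥A = Nat.card ↥B → ∃ g : G, B = A.map (MulAut.conj g).toMonoidHom)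
    (R : Subgroup G) [hR : R.Normal] {u v : G} (hu : ∃ a : ℕ, orderOf u = 2 ^ a)
    (hv : ∃ b : ℕ, orderOf v = 2 ^ b) (hu1 : u ∉ R) (hv1 : v ∉ R)
    (hu2 : u * u ∈ R) (hv2 : v * v ∈ R) : orderOf u = orderOf v := by
  have key : ∀ (u v : G) (a b : ℕ), orderOf u = 2 ^ a → orderOf v = 2 ^ b → u ∉ R → v * v ∈ R →
      ¬ a < b := by
    intro u v a b ha hb hu1 hv2 hab
    obtain ⟨d, rfl⟩ : ∃ d, b = a + (d + 1) := ⟨b - a - 1, by omega⟩
    have hw : v ^ 2 ^ (d + 1) ∈ R := by
      rw [pow_succ', pow_mul, pow_two]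
      exact pow_mem hv2 _
    have ho : orderOf (v ^ 2 ^ (d + 1)) = 2 ^ a := by
      rw [orderOf_pow_of_dvd (by positivity) (by rw [hb]; exact pow_dvd_pow 2 (by omega)), hb,
        Nat.pow_div (by omega) two_pos, Nat.add_sub_cancel]
    obtain ⟨g, hg⟩ := hP (zpowers (v ^ 2 ^ (d + 1))) (zpowers u) inferInstance inferInstance
      (IsPGroup.of_card (n := a) (by rw [Nat.card_zpowers, ho]))
      (by rw [Nat.card_zpowers, Nat.card_zpowers, ho, ha])
    obtain ⟨y, hy, e⟩ := (hg ▸ mem_zpowers u :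
      u ∈ (zpowers (v ^ 2 ^ (d + 1))).map (MulAut.conj g).toMonoidHom)
    exact hu1 (e ▸ hR.conj_mem y (zpowers_le.2 hw hy) g)
  obtain ⟨a, ha⟩ := hu
  obtain ⟨b, hb⟩ := hv
  rcases lt_trichotomy a b with h | h | h
  · exact absurd h (key u v a b ha hb hu1 hv2)
  · rw [ha, hb, h]
  · exact absurd h (key v u b a hb ha hv1 hu2)

/-- There is only one component. -/
theorem component_unique (hP : ∀ A B : Subgroup G, IsCyclic ↥A → IsCyclic ↥B → IsPGroup 2 ↥A →
      Nat.card ↥A = Nat.card ↥B → ∃ g : G, B = A.map (MulAut.conj g).toMonoidHom)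
    {K L : Subgroup G} (hK : IsComponent K) (hL : IsComponent L) : K = L := by
  by_contra hne
  have cm : ∀ {M N : Subgroup G}, IsComponent M → IsComponent N → M ≠ N →
      ∀ a ∈ M, ∀ b ∈ N, Commute a b := fun hM hN h a ha b hb =>
    (Subgroup.mem_centralizer_iff.1
      (commutator_eq_bot_iff_le_centralizer.1 (Components.components_commute hM hN h) ha) b hb).symm
  obtain ⟨x, hxK, hxo, hxx, k, hk, hxk⟩ := exists_two_element hK
  obtain ⟨y, hyL, hyo, hyy, l, hl, hyl⟩ := exists_two_element hL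
  haveI := Components.layer_normal (G := G)
  set R := layer G ⊓ centralizer (layer G : Set G) with hR
  haveI : R.Normal := inferInstance
  have sqR : ∀ {M : Subgroup G} {w : G}, IsComponent M → w ∈ M → (∀ m ∈ M, Commute (w * w) m) →
      w * w ∈ R := by
    intro M w hM hw hc
    refine ⟨Components.component_le_layer hM (mul_mem hw hw), ?_⟩
    have h : layer G ≤ centralizer ({w * w} : Set G) := by
      rw [Components.layer_le_iff]
      intro N hN n hn
      rw [mem_centralizer_singleton_iff]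
      rcases eq_or_ne N M with rfl | hNM
      · exact (hc n hn).eq.symm
      · exact (cm hN hM hNM n hn _ (mul_mem hw hw)).eq
    exact Subgroup.mem_centralizer_iff.2 fun n hn => mem_centralizer_singleton_iff.1 (h hn)
  have hxy : Commute x y := cm hK hL hne x hxK y hyL
  have hxR : x ∉ R := fun h => hxk
    (Subgroup.mem_centralizer_iff.1 h.2 k (Components.component_le_layer hK hk)).symm
  have hzR : x * y ∉ R := fun h => hxk (by
    have h' : Commute (x * y) k :=
      (Subgroup.mem_centralizer_iff.1 h.2 k (Components.component_le_layer hK hk)).symm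
    have := h'.mul_left (cm hK hL hne k hk y hyL).symm.inv_left
    rwa [mul_inv_cancel_right] at this)
  have hzz : x * y * (x * y) ∈ R := by
    rw [show x * y * (x * y) = x * x * (y * y) by rw [hxy.symm.mul_mul_mul_comm]]
    exact mul_mem (sqR hK hxK hxx) (sqR hL hyL hyy)
  obtain ⟨a, ha⟩ := hxo
  obtain ⟨b, hb⟩ := hyo
  obtain ⟨c, -, hc⟩ : ∃ c ≤ a + b, orderOf (x * y) = 2 ^ c :=
    (Nat.dvd_prime_pow Nat.prime_two).1 (by
      refine hxy.orderOf_mul_dvd_mul_orderOf.trans ?_
      rw [ha, hb, pow_add])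
  have ho := orderOf_eq_of_sq_mem hP R ⟨a, ha⟩ ⟨c, hc⟩ hxR hzR (sqR hK hxK hxx) hzz
  obtain ⟨g, hg⟩ := hP (zpowers x) (zpowers (x * y)) inferInstance inferInstance
    (IsPGroup.of_card (n := a) (by rw [Nat.card_zpowers, ha]))
    (by rw [Nat.card_zpowers, Nat.card_zpowers, ho])
  have hz : x * y ∈ K.map (MulAut.conj g).toMonoidHom :=
    Subgroup.map_mono (zpowers_le.2 hxK) (hg ▸ mem_zpowers (x * y))
  by_cases hK' : K.map (MulAut.conj g).toMonoidHom = K
  · rw [hK'] at hz
    exact hyl (cm hK hL hne y (by simpa using mul_mem (inv_mem hxK) hz) l hl)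
  · refine hxk ?_
    have h' : Commute (x * y) k := cm (Components.component_conj hK g) hK hK' _ hz k hk
    have := h'.mul_left (cm hK hL hne k hk y hyL).symm.inv_left
    rwa [mul_inv_cancel_right] at this

end

/-- Let G be a finite group in which, for every prime p, any two cyclic p-subgroups of the same order are conjugate. If the layer E(G), the subgroup generated by the components of G, is non-trivial, then E(G)/Z(E(G)) is a non-abelian simple group. -/
theorem result {G : Type*} [Group G] [Finite G] (hP : ∀ (p : ℕ), p.Prime → ∀ A B : Subgroup G, IsCyclic ↥A → IsCyclic ↥B → IsPGroup p ↥A → Nat.card ↥A = Nat.card ↥B → ∃ g : G, B = A.map (MulAut.conj g).toMonoidHom) (hE : Cfsg.layer G ≠ ⊥) :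
    IsSimpleGroup (↥(Cfsg.layer G) ⧸ Subgroup.center ↥(Cfsg.layer G)) ∧ ¬ IsMulCommutative (↥(Cfsg.layer G) ⧸ Subgroup.center ↥(Cfsg.layer G)) := by
  obtain ⟨K, hK⟩ : ∃ K : Subgroup G, IsComponent K := by
    by_contra h
    push Not at h
    exact hE (eq_bot_iff.2 (Components.layer_le_iff.2 fun L hL => absurd hL (h L)))
  have e : Cfsg.layer G = K := le_antisymm
    (Components.layer_le_iff.2 fun L hL => (component_unique (hP 2 Nat.prime_two) hL hK).le)
    (Components.component_le_layer hK)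
  rw [e]
  refine ⟨hK.2.2, fun h => Components.quasisimple_center_ne_top hK.2 (eq_top_iff.2 ?_)⟩
  rw [← hK.2.1.commutator_eq_top, commutator_def, Subgroup.commutator_le]
  intro a _ b _
  rw [← QuotientGroup.eq_one_iff]
  simp [commutatorElement_def, h.is_comm.comm (a : ↥K ⧸ Subgroup.center ↥K) b]

end Cfsg.Agent.S3915
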