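import Cfsg.Statements.S3917
import Cfsg.Agent.Lib.Solvable.Coprime

set_option autoImplicit false
open Cfsg

namespace Cfsg.Agent.S3917

/-- Say that a group has self-centralizing non-cyclic subgroups when every non-cyclic subgroup H satisfies C_G(H) ≤ H. A finite abelian group with self-centralizing non-cyclic subgroups is cyclic or elementary abelian of order p² for a prime p. -/
theorem result {G : Type*} [CommGroup G] [Finite G] (hX : (∀ H : Subgroup G, ¬ IsCyclic ↥H → Subgroup.centralizer (H : Set G) ≤ H)) :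
    IsCyclic G ∨ ∃ p : ℕ, p.Prime ∧ Nat.card G = p ^ 2 ∧ Monoid.exponent G = p := by
  rw [or_iff_not_imp_left]
  intro hnc
  obtain ⟨q, E, hq, hE, hexp⟩ := Cfsg.Agent.CoprimeAct.exists_elementary_of_not_isCyclic hnc
  haveI := Fact.mk hq
  have hEc : ¬ IsCyclic E := by
    intro h
    have h1 : Monoid.exponent E ∣ q := Monoid.exponent_dvd_of_forall_pow_eq_one hexp
    rw [IsCyclic.exponent_eq_card, hE] at h1
    have := Nat.le_of_dvd hq.pos h1
    nlinarith [hq.two_le]
  have htop : E = ⊤ := by
    rw [eq_top_iff]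
    intro x _
    refine hX E hEc (Subgroup.mem_centralizer_iff.2 fun e _ => mul_comm e x)
  subst htop
  refine ⟨q, hq, by rwa [Subgroup.card_top] at hE, ?_⟩
  have h1 : Monoid.exponent G ∣ q := Monoid.exponent_dvd_of_forall_pow_eq_one fun g =>
    congrArg Subtype.val (hexp ⟨g, Subgroup.mem_top g⟩)
  rcases (Nat.dvd_prime hq).1 h1 with h | h
  · rw [Monoid.exp_eq_one_iff] at h
    refine absurd ?_ hnc
    infer_instance
  · exact h

end Cfsg.Agent.S3917
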