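import Cfsg.Statements.S3918
import Cfsg.Agent.S0126
import Cfsg.Agent.Lib.OddOrder.Nilpotent
import Mathlib

set_option autoImplicit false
open Cfsg

namespace Cfsg.Agent.S3918

open Cfsg.Agent
open scoped commutatorElement

/-- Say that a group has self-centralizing non-cyclic subgroups when every non-cyclic subgroup H satisfies C_G(H) ≤ H. For an odd prime p, a finite non-abelian p-group has self-centralizing non-cyclic subgroups if and only if it has order p³. -/
theorem result {G : Type*} [Group G] [Finite G] {p : ℕ} [Fact p.Prime] (hp : p ≠ 2) (hG : IsPGroup p G) (hna : ¬ IsMulCommutative G) :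
    (∀ H : Subgroup G, ¬ IsCyclic ↥H → Subgroup.centralizer (H : Set G) ≤ H) ↔ Nat.card G = p ^ 3 := by
  have hp' : p.Prime := Fact.out
  haveI := hG.isNilpotent
  obtain ⟨d, hd⟩ := hG.exists_card_eq
  have hd3 : 3 ≤ d := by
    by_contra hlt
    refine hna ?_
    rcases d with _ | _ | _ | d
    · haveI := (Nat.card_eq_one_iff_unique.1 (hd.trans (pow_zero p))).1
      exact ⟨⟨fun a b => Subsingleton.elim _ _⟩⟩
    · haveI : IsCyclic G := isCyclic_of_prime_card (p := p) (by simpa using hd)
      exact ⟨⟨fun a b => IsCyclic.commGroup.mul_comm a b⟩⟩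
    · exact ⟨⟨fun a b => (IsPGroup.commGroupOfCardEqPrimeSq (p := p) (by simpa using hd)).mul_comm a b⟩⟩
    · omega
  constructor
  · intro h
    have hncG : ¬ IsCyclic G := fun hc => hna (haveI := hc; ⟨⟨fun a b => IsCyclic.commGroup.mul_comm a b⟩⟩)
    obtain ⟨E, hEn, hE, hEc⟩ := S0126.result hp hG hncG
    have hEnc : ¬ IsCyclic ↥E := fun hc => by
      obtain ⟨g, hg⟩ := hc.exists_ofOrder_eq_natCard
      have h1 : orderOf g ∣ p := orderOf_dvd_of_pow_eq_one (Subtype.ext (hE.2 _ g.2))
      rw [hg, hEc] at h1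
      have := Nat.le_of_dvd hp'.pos h1
      have h2 : p ^ 1 < p ^ 2 := Nat.pow_lt_pow_right hp'.one_lt (by norm_num)
      rw [pow_one] at h2
      omega
    have hC := h E hEnc
    obtain ⟨z, hzE, hz1, hz⟩ := OddOrder.Nilp.exists_mem_commutator_le (G := G) (A := (⊥ : Subgroup G)) (C := E)
      (fun hle => by
        rw [le_bot_iff.1 hle, Subgroup.card_bot] at hEc
        exact absurd hEc.symm (by simp [pow_eq_one_iff, hp'.one_lt.ne']))
    have hzc : ∀ g : G, g * z = z * g := fun g =>
      (commutatorElement_eq_one_iff_mul_comm.1 (Subgroup.mem_bot.1 (hz g))).symm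
    set Z := Subgroup.zpowers z with hZdef
    have hZp : Nat.card ↥Z = p := by
      rw [hZdef, Nat.card_zpowers]
      exact orderOf_eq_prime (hE.2 z hzE) fun h => hz1 (h ▸ one_mem _)
    have hZc : ∀ y ∈ Z, ∀ g : G, g * y = y * g := by
      rintro _ ⟨i, rfl⟩ g
      exact (Commute.zpow_right (hzc g : Commute g z) i).eq
    obtain ⟨w, hwE, hwZ, hw⟩ := OddOrder.Nilp.exists_mem_commutator_le (G := G) (A := Z) (C := E) (fun hle => by
      have := Subgroup.card_le_of_le hle
      rw [hZp, hEc] at this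
      have h2 : p ^ 1 < p ^ 2 := Nat.pow_lt_pow_right hp'.one_lt (by norm_num)
      rw [pow_one] at h2
      omega)
    let f : G →* ↥Z :=
    { toFun := fun y => ⟨⁅w, y⁆, hw y⟩
      map_one' := Subtype.ext (by simp)
      map_mul' := fun a b => Subtype.ext (by
        have e : ⁅w, a * b⁆ = ⁅w, a⁆ * (a * ⁅w, b⁆ * a⁻¹) := by
          simp only [commutatorElement_def]; group
        show ⁅w, a * b⁆ = ⁅w, a⁆ * ⁅w, b⁆
        rw [e, hZc _ (hw b) a, mul_inv_cancel_right]) }
    have hker : f.ker ≤ E := by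
      intro y hy
      refine hC (Subgroup.mem_centralizer_iff.2 fun e he => ?_)
      have hEsup : Z ⊔ Subgroup.zpowers w = E := by
        refine Subgroup.eq_of_le_of_card_ge (sup_le (Subgroup.zpowers_le.2 hzE) (Subgroup.zpowers_le.2 hwE)) ?_
        obtain ⟨k, hk⟩ := (hG.to_subgroup (Z ⊔ Subgroup.zpowers w)).exists_card_eq
        have hlt : Nat.card ↥Z < Nat.card ↥(Z ⊔ Subgroup.zpowers w) := by
          refine lt_of_le_of_ne (Subgroup.card_le_of_le le_sup_left) fun he' => hwZ ?_
          rw [Subgroup.eq_of_le_of_card_ge (le_sup_left (a := Z) (b := Subgroup.zpowers w)) he'.ge]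
          exact Subgroup.mem_sup_right (Subgroup.mem_zpowers w)
        rw [hZp, hk] at hlt
        rw [hEc, hk]
        exact Nat.pow_le_pow_right hp'.pos ((Nat.pow_lt_pow_iff_right hp'.one_lt).1 (lt_of_eq_of_lt (pow_one p) hlt))
      have hle : Z ⊔ Subgroup.zpowers w ≤ Subgroup.centralizer {y} := sup_le
        (fun x hx => Subgroup.mem_centralizer_singleton_iff.2 (hZc x hx y).symm)
        (Subgroup.zpowers_le.2 (Subgroup.mem_centralizer_singleton_iff.2
          (commutatorElement_eq_one_iff_mul_comm.1 (congrArg Subtype.val (MonoidHom.mem_ker.1 hy)))))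
      exact Subgroup.mem_centralizer_singleton_iff.1 (hle (hEsup.symm ▸ he))
    have h1 : f.ker.index ≤ p := by
      rw [Subgroup.index_ker, ← hZp]; exact Subgroup.card_le_card_group _
    have h2 : Nat.card G ≤ p ^ 3 := by
      rw [← f.ker.card_mul_index, pow_succ]
      exact Nat.mul_le_mul ((Subgroup.card_le_of_le hker).trans hEc.le) h1
    rw [hd] at h2 ⊢
    have := (Nat.pow_le_pow_iff_right hp'.two_le).1 h2
    congr 1; omega
  · intro h3 H hH
    obtain ⟨k, hk⟩ := (hG.to_subgroup H).exists_card_eq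
    have hk2 : 2 ≤ k := by
      by_contra hlt
      refine hH ?_
      rcases k with _ | _ | k
      · haveI := (Nat.card_eq_one_iff_unique.1 (hk.trans (pow_zero p))).1
        exact isCyclic_of_subsingleton
      · exact isCyclic_of_prime_card (p := p) (by simpa using hk)
      · omega
    have hk3 : k ≤ 3 := by
      have := Subgroup.card_le_card_group H
      rw [hk, h3] at this
      exact (Nat.pow_le_pow_iff_right hp'.two_le).1 this
    rcases Nat.eq_or_lt_of_le hk3 with rfl | hklt
    · rw [Subgroup.eq_top_of_card_eq H (hk.trans h3.symm)]; exact le_top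
    have hkeq : k = 2 := by omega
    subst hkeq
    intro c hc
    by_contra hcH
    set K := H ⊔ Subgroup.zpowers c with hK
    obtain ⟨j, hj⟩ := (hG.to_subgroup K).exists_card_eq
    have hlt : Nat.card ↥H < Nat.card ↥K := by
      refine lt_of_le_of_ne (Subgroup.card_le_of_le le_sup_left) fun he => hcH ?_
      rw [Subgroup.eq_of_le_of_card_ge (le_sup_left (a := H) (b := Subgroup.zpowers c)) he.ge]
      exact Subgroup.mem_sup_right (Subgroup.mem_zpowers c)
    rw [hk, hj] at hlt
    have hKtop : K = ⊤ := by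
      refine Subgroup.eq_top_of_card_eq _ (le_antisymm (Subgroup.card_le_card_group _) ?_)
      rw [h3, hj]
      exact Nat.pow_le_pow_right hp'.pos ((Nat.pow_lt_pow_iff_right hp'.one_lt).1 hlt)
    refine hna ?_
    let C2 := IsPGroup.commGroupOfCardEqPrimeSq (G := ↥H) (p := p) hk
    have hHH : ∀ a ∈ H, ∀ b ∈ H, a * b = b * a := fun a ha b hb =>
      congrArg Subtype.val (C2.mul_comm (⟨a, ha⟩ : ↥H) ⟨b, hb⟩)
    have hgen : ∀ g : G, g ∈ Subgroup.closure ((H : Set G) ∪ {c}) := fun g => by
      have : K ≤ Subgroup.closure ((H : Set G) ∪ {c}) := sup_le (fun x hx => Subgroup.subset_closure (Or.inl hx))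
        (Subgroup.zpowers_le.2 (Subgroup.subset_closure (Or.inr rfl)))
      exact this (hKtop ▸ Subgroup.mem_top g)
    haveI := Subgroup.isMulCommutative_closure (k := (H : Set G) ∪ {c}) (fun a ha b hb => by
      rcases ha with ha | ha <;> rcases hb with hb | hb
      · exact hHH a ha b hb
      · rw [Set.mem_singleton_iff.1 hb]; exact Subgroup.mem_centralizer_iff.1 hc a ha
      · rw [Set.mem_singleton_iff.1 ha]; exact (Subgroup.mem_centralizer_iff.1 hc b hb).symm
      · rw [Set.mem_singleton_iff.1 ha, Set.mem_singleton_iff.1 hb])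
    exact ⟨⟨fun a b => congrArg Subtype.val (IsMulCommutative.is_comm.comm
      (⟨a, hgen a⟩ : ↥(Subgroup.closure ((H : Set G) ∪ {c}))) ⟨b, hgen b⟩)⟩⟩

end Cfsg.Agent.S3918
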