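import Cfsg.Statements.S3919
import Cfsg.Agent.Lib.PLocal.MaxClass
import Cfsg.Agent.Lib.FGStruct.AbelianCyclic
import Cfsg.Agent.Lib.Solvable.Coprime
import Cfsg.Agent.S0112
import Mathlib

set_option autoImplicit false
open Cfsg

namespace Cfsg.Agent.S3919

open Cfsg.Agent
open scoped commutatorElement

/-- Say that a group has self-centralizing non-cyclic subgroups when every non-cyclic subgroup H satisfies C_G(H) ≤ H. A finite non-abelian 2-group G of order 2^n has self-centralizing non-cyclic subgroups if and only if G has nilpotency class n − 1 (that is, G is dihedral, semidihedral or generalized quaternion). -/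
theorem result {G : Type*} [Group G] [Finite G] (hna : ¬ IsMulCommutative G) (n : ℕ) (hG : Nat.card G = 2 ^ n) :
    (∀ H : Subgroup G, ¬ IsCyclic ↥H → Subgroup.centralizer (H : Set G) ≤ H) ↔ (⊤ : Subgroup G).lowerCentralSeries (n - 2) ≠ ⊥ := by
  classical
  haveI : Fact (Nat.Prime 2) := ⟨Nat.prime_two⟩
  have hG2 : IsPGroup 2 G := IsPGroup.of_card hG
  haveI := hG2.isNilpotent
  have hn3 : 3 ≤ n := by
    by_contra hlt
    apply hna
    rcases (by omega : n = 0 ∨ n = 1 ∨ n = 2) with rfl | rfl | rfl
    · haveI : Subsingleton G := (Nat.card_eq_one_iff_unique.1 (by simpa using hG)).1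
      exact ⟨⟨fun a b => Subsingleton.elim _ _⟩⟩
    · haveI : IsCyclic G := isCyclic_of_prime_card (p := 2) (by simpa using hG)
      exact ⟨⟨fun a b => IsCyclic.commGroup.mul_comm a b⟩⟩
    · exact IsPGroup.isMulCommutative_of_card_eq_prime_sq hG
  have hle : Group.nilpotencyClass G ≤ n - 1 :=
    Subgroup.lowerCentralSeries_eq_bot_iff_nilpotencyClass_le.1
      (MaxClass.lcs_eq_bot hG2 hG (by omega))
  have hiff : (⊤ : Subgroup G).lowerCentralSeries (n - 2) ≠ ⊥ ↔ Group.nilpotencyClass G = n - 1 := by
    rw [Ne, Subgroup.lowerCentralSeries_eq_bot_iff_nilpotencyClass_le]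
    omega
  rw [hiff]
  constructor
  · intro h
    by_cases hab : AbCyc.AbCyclic G
    · rcases AbCyc.structure_of_pGroup hab hG2 with hc | ⟨-, A, hAn, hAc, hAi, hA4, hout, -⟩
      · exact absurd (⟨⟨fun a b => IsCyclic.commGroup.mul_comm a b⟩⟩ : IsMulCommutative G) hna
      · haveI := hAn
        obtain ⟨a, ha⟩ := (Subgroup.isCyclic_iff_exists_zpowers_eq_top A).1 hAc
        obtain ⟨g, hg⟩ : ∃ g, g ∉ A := by
          by_contra hh
          push Not at hh
          rw [(Subgroup.eq_top_iff' _).2 hh, Subgroup.index_top] at hAi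
          omega
        have hA : ∀ x : G, x ∉ A → x * x ∈ A ∧ orderOf (x * x) = 2 := by
          intro x hx
          refine ⟨(Subgroup.mul_self_mem_of_index_two hAi x), ?_⟩
          rw [← pow_two, orderOf_pow' _ two_ne_zero, hout x hx]
          rfl
        have hgen : ∀ x : G, x ∈ A → x ∈ Subgroup.zpowers a := fun x hx => ha.symm ▸ hx
        have huniq : ∀ x y : G, x ∈ A → y ∈ A → orderOf x = 2 → orderOf y = 2 → x = y := by
          intro x y hx hy hox hoy
          have h1 := AbCyc.mem_zpowers_of_commute hab (r := 2) (show Commute x y from by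
            obtain ⟨i, rfl⟩ := hgen x hx
            obtain ⟨j, rfl⟩ := hgen y hy
            exact (Commute.refl a).zpow_zpow i j) Nat.prime_two hox hoy
          rw [mem_zpowers_iff_mem_range_orderOf, hox, Finset.mem_image] at h1
          obtain ⟨i, hi, hix⟩ := h1
          rcases (by have := Finset.mem_range.1 hi; omega : i = 0 ∨ i = 1) with rfl | rfl
          · rw [pow_zero] at hix
            rw [← hix, orderOf_one] at hoy
            omega
          · rw [pow_one] at hix; exact hix
        have haA : a ∈ A := ha ▸ Subgroup.mem_zpowers a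
        have hga : g * a ∉ A := fun hh => hg (by simpa using mul_mem hh (inv_mem haA))
        have hz := huniq _ _ (hA g hg).1 (hA _ hga).1 (hA g hg).2 (hA _ hga).2
        have hinv : g * a * g⁻¹ = a⁻¹ := by
          have hzc : Commute a (g * g) := by
            obtain ⟨i, hi⟩ := hgen _ (hA g hg).1
            exact hi ▸ (Commute.refl a).zpow_right i
          calc g * a * g⁻¹ = g * a * (g * a) * a⁻¹ * (g * g)⁻¹ := by group
            _ = g * g * a⁻¹ * (g * g)⁻¹ := by rw [← hz]
            _ = a⁻¹ := by rw [(hzc.inv_left).symm.eq]; group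
        have hsq : a ^ 2 ∈ commutator G := by
          have h1 : ⁅a, g⁆ ∈ commutator G :=
            Subgroup.commutator_mem_commutator (Subgroup.mem_top a) (Subgroup.mem_top g)
          have h2 : ⁅a, g⁆ = a ^ 2 := by
            rw [commutatorElement_def]
            calc a * g * a⁻¹ * g⁻¹ = a * (g * a * g⁻¹)⁻¹ := by group
              _ = a ^ 2 := by rw [hinv, inv_inv, pow_two]
          rwa [h2] at h1
        have hidx : (commutator G).index ∣ 4 := by
          refine (Subgroup.index_dvd_of_le (Subgroup.zpowers_le.2 hsq)).trans ?_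
          rw [← Subgroup.relIndex_mul_index (Subgroup.zpowers_le.2 (pow_mem haA 2) : Subgroup.zpowers (a ^ 2) ≤ A), hAi]
          show _ ∣ 2 * 2
          refine Nat.mul_dvd_mul_right ?_ 2
          have hcA : Nat.card A = orderOf a := by rw [← ha, Nat.card_zpowers]
          have h3 : Nat.card ↥(Subgroup.zpowers (a ^ 2)) * (Subgroup.zpowers (a ^ 2)).relIndex A = Nat.card A := by
            rw [← Subgroup.relIndex_bot_left, Subgroup.relIndex_mul_relIndex _ _ _ bot_le
              (Subgroup.zpowers_le.2 (pow_mem haA 2)), Subgroup.relIndex_bot_left]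
          rw [Nat.card_zpowers, orderOf_pow' _ two_ne_zero, hcA] at h3
          have hg2 : Nat.gcd (orderOf a) 2 ∣ 2 := Nat.gcd_dvd_right _ _
          have hpos : 0 < orderOf a / Nat.gcd (orderOf a) 2 :=
            Nat.div_pos (Nat.le_of_dvd (orderOf_pos a) (Nat.gcd_dvd_left _ _)) (Nat.gcd_pos_of_pos_left _ (orderOf_pos a))
          have h4 : (Subgroup.zpowers (a ^ 2)).relIndex A = Nat.gcd (orderOf a) 2 := by
            refine Nat.eq_of_mul_eq_mul_left hpos ?_
            rw [h3, Nat.div_mul_cancel (Nat.gcd_dvd_left _ _)]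
          rw [h4]; exact hg2
        have hge := MaxClass.sq_le_index_commutator hG2 (fun hb => hna ((commutator_eq_bot_iff G).1 hb))
        have h4 : (commutator G).index = 4 := by
          have := Nat.le_of_dvd (by norm_num) hidx
          omega
        exact MaxClass.class_eq_of_index_four n G hG hn3 h4
    · simp only [AbCyc.AbCyclic, not_forall] at hab
      obtain ⟨B, hB, hBc⟩ := hab
      haveI := hB
      obtain ⟨q, E, hq, hEc, hEe⟩ := CoprimeAct.exists_elementary_of_not_isCyclic hBc
      set V := E.map B.subtype with hV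
      have hVc : Nat.card V = q ^ 2 := by rw [Subgroup.card_map_of_injective B.subtype_injective, hEc]
      have hq2 : q = 2 := by
        have h1 : q ∣ Nat.card G := (dvd_pow_self q two_ne_zero).trans (hVc ▸ V.card_subgroup_dvd_card)
        rw [hG] at h1
        exact (Nat.prime_dvd_prime_iff_eq hq Nat.prime_two).1 (hq.dvd_of_dvd_pow h1)
      subst hq2
      have hVnc : ¬ IsCyclic ↥V := by
        intro hc
        haveI := hc
        obtain ⟨v, hv⟩ := IsCyclic.exists_generator (α := ↥V)
        have h1 : orderOf v = 4 := by rw [orderOf_eq_card_of_forall_mem_zpowers hv, hVc]; rfl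
        obtain ⟨w, hw, hwv⟩ := v.2
        have h2 : v ^ 2 = 1 := by
          apply Subtype.ext
          rw [Subgroup.coe_pow, ← hwv, ← map_pow]
          have h5 := congrArg Subtype.val (hEe ⟨w, hw⟩)
          rw [show w ^ 2 = 1 from h5, map_one]; rfl
        have := Nat.le_of_dvd (by norm_num) (orderOf_dvd_of_pow_eq_one h2)
        omega
      refine S0112.result n hG V hVc (le_antisymm (h V hVnc) ?_)
      intro x hx
      rw [Subgroup.mem_centralizer_iff]
      intro y hy
      obtain ⟨x', -, rfl⟩ := hx
      obtain ⟨y', -, rfl⟩ := hy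
      rw [← map_mul, ← map_mul, mul_comm' y' x']
  · intro hcl H hH c hc
    have hci : (commutator G).index = 4 := MaxClass.index_commutator_eq hG hn3 hcl
    obtain ⟨a, ha⟩ := MaxClass.exists_cyclic_index_two n G hG hn3 hci
    set A := Subgroup.zpowers a with hA
    have hAc : ∀ x ∈ A, ∀ y ∈ A, x * y = y * x := by
      rintro _ ⟨i, rfl⟩ _ ⟨j, rfl⟩
      exact ((Commute.refl a).zpow_zpow i j).eq
    have hHA : ¬ H ≤ A := fun hle => hH (Subgroup.isCyclic_of_le hle)
    obtain ⟨h, hhH, hhA⟩ := SetLike.not_le_iff_exists.1 hHA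
    obtain ⟨hZ2, -, hZA, -, hsqZ, -⟩ := MaxClass.abelian_index_two hG hn3 hci A ha hAc hhA
    have hcent : ∀ x ∈ A, x * h = h * x → x ∈ Subgroup.center G := by
      intro x hx hxh
      rw [Subgroup.mem_center_iff]
      intro y
      have hcase : y ∈ A ∨ y * h⁻¹ ∈ A := by
        by_cases hy : y ∈ A
        · exact Or.inl hy
        · exact Or.inr ((Subgroup.mul_mem_iff_of_index_two ha).2 (iff_of_false hy (fun hh => hhA (by simpa using inv_mem hh))))
      rcases hcase with hy | hy
      · exact hAc y hy x hx
      · have h1 := hAc _ hy x hx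
        calc y * x = y * h⁻¹ * (h * x) := by group
          _ = y * h⁻¹ * (x * h) := by rw [hxh]
          _ = y * h⁻¹ * x * h := by group
          _ = x * (y * h⁻¹) * h := by rw [h1]
          _ = x * y := by group
    have hne : H ⊓ A ≠ ⊥ := by
      intro hbot
      apply hH
      have h1 : Nat.card H ≤ 2 := by
        have h2 : A.relIndex H ∣ A.index :=
          haveI := Subgroup.normal_of_index_eq_two ha
          Subgroup.relIndex_dvd_index_of_normal A H
        rw [ha, ← Subgroup.inf_relIndex_right, inf_comm, hbot, Subgroup.relIndex_bot_left] at h2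
        exact Nat.le_of_dvd two_pos h2
      have h3 : 1 ≤ Nat.card H := Nat.card_pos
      rcases (by omega : Nat.card H = 1 ∨ Nat.card H = 2) with h4 | h4
      · haveI : Subsingleton ↥H := (Nat.card_eq_one_iff_unique.1 h4).1
        infer_instance
      · exact isCyclic_of_prime_card (p := 2) h4
    haveI : Nontrivial ↥(H ⊓ A) := (Subgroup.nontrivial_iff_ne_bot _).2 hne
    obtain ⟨z, hz⟩ : ∃ z : ↥(H ⊓ A), orderOf z = 2 := by
      obtain ⟨k, hk⟩ := IsPGroup.iff_card.1 (hG2.to_subgroup (H ⊓ A))
      refine exists_prime_orderOf_dvd_card' 2 ?_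
      rw [hk]
      refine dvd_pow_self 2 ?_
      rintro rfl
      have := Finite.one_lt_card (α := ↥(H ⊓ A))
      rw [hk, pow_zero] at this
      omega
    have hzH : Subgroup.center G ≤ H := by
      intro w hw
      by_cases hw1 : w = 1
      · rw [hw1]; exact one_mem H
      have how : orderOf w = 2 := by
        refine orderOf_eq_prime ?_ hw1
        have hw2 : orderOf (⟨w, hw⟩ : ↥(Subgroup.center G)) ∣ 2 := hZ2 ▸ orderOf_dvd_natCard _
        rw [Subgroup.orderOf_mk] at hw2
        exact orderOf_dvd_iff_pow_eq_one.1 hw2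
      haveI : IsCyclic ↥A := inferInstance
      haveI := Fintype.ofFinite ↥A
      have e : (⟨w, hZA hw⟩ : ↥A) = ⟨z, z.2.2⟩ := by
        by_contra hne2
        have h1 := IsCyclic.card_pow_eq_one_le (α := ↥A) (n := 2) two_pos
        have hw2 : w ^ 2 = 1 := by rw [← how, pow_orderOf_eq_one]
        have hz2 : ((z : ↥(H ⊓ A)) : G) ^ 2 = 1 := by
          rw [← hz, ← Subgroup.orderOf_coe, pow_orderOf_eq_one]
        have hz1 : ((z : ↥(H ⊓ A)) : G) ≠ 1 := fun h => by
          rw [← Subgroup.orderOf_coe, h, orderOf_one] at hz; omega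
        have h2 : ({1, ⟨w, hZA hw⟩, ⟨z, z.2.2⟩} : Finset ↥A) ⊆ Finset.univ.filter (fun x => x ^ 2 = 1) := by
          intro x hx
          simp only [Finset.mem_insert, Finset.mem_singleton] at hx
          rcases hx with rfl | rfl | rfl
          · simp
          · exact Finset.mem_filter.2 ⟨Finset.mem_univ _, Subtype.ext hw2⟩
          · exact Finset.mem_filter.2 ⟨Finset.mem_univ _, Subtype.ext hz2⟩
        have h3 := (Finset.card_le_card h2).trans h1
        rw [Finset.card_insert_of_notMem (by
            simp only [Finset.mem_insert, Finset.mem_singleton, not_or]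
            exact ⟨fun h => hw1 (congrArg Subtype.val h).symm, fun h => hz1 (congrArg Subtype.val h).symm⟩),
          Finset.card_pair hne2] at h3
        omega
      rw [show w = z from congrArg Subtype.val e]
      exact z.2.1
    have hch : c * h = h * c := (Subgroup.mem_centralizer_iff.1 hc h hhH).symm
    by_cases hcA : c ∈ A
    · exact hzH (hcent c hcA hch)
    · have h1 : c * h⁻¹ ∈ A :=
        (Subgroup.mul_mem_iff_of_index_two ha).2 (iff_of_false hcA (fun hh => hhA (by simpa using inv_mem hh)))
      have h2 : c * h⁻¹ * h = h * (c * h⁻¹) := by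
        rw [← mul_assoc h, ← hch]; group
      have h3 := mul_mem (hzH (hcent _ h1 h2)) hhH
      simpa using h3

end Cfsg.Agent.S3919
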