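import Cfsg.Statements.S3920
import Mathlib

set_option autoImplicit false
open Cfsg

namespace Cfsg.Agent.S3920

open DihedralGroup

lemma zmod_two_mul {n : ℕ} [NeZero n] {j : ZMod n} (h : 2 * j = 0) :
    j = 0 ∨ 2 * j.val = n := by
  have hj : (((2 * j.val : ℕ) : ℕ) : ZMod n) = 0 := by
    rw [Nat.cast_mul, ZMod.natCast_zmod_val]; exact_mod_cast h
  rw [ZMod.natCast_eq_zero_iff] at hj
  have hlt := ZMod.val_lt j
  obtain ⟨c, hc⟩ := hj
  rcases c with _ | _ | c
  · left; exact (ZMod.val_eq_zero j).1 (by omega)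
  · right; omega
  · exfalso
    have : n * 2 ≤ n * (c + 1 + 1) := Nat.mul_le_mul_left n (by omega)
    omega

/-- Say that a group has self-centralizing non-cyclic subgroups when every non-cyclic subgroup H satisfies C_G(H) ≤ H. For n ≥ 3, the dihedral group of order 2n has self-centralizing non-cyclic subgroups if and only if n is odd or a power of 2. -/
theorem result (n : ℕ) (hn : 3 ≤ n) : (∀ H : Subgroup (DihedralGroup n), ¬ IsCyclic ↥H → Subgroup.centralizer (H : Set (DihedralGroup n)) ≤ H) ↔ (Odd n ∨ ∃ k : ℕ, n = 2 ^ k) := by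
  haveI : NeZero n := ⟨by omega⟩
  constructor
  · intro h
    by_contra hc
    push Not at hc
    obtain ⟨heven0, hpow⟩ := hc
    have heven : Even n := Nat.not_odd_iff_even.1 heven0
    obtain ⟨d, hd, hdn, hdodd⟩ : ∃ d : ℕ, 3 ≤ d ∧ d ∣ n ∧ Odd d := by
      obtain ⟨k, m, hm, hnm⟩ := Nat.exists_eq_two_pow_mul_odd (n := n) (by omega)
      refine ⟨m, ?_, hnm ▸ dvd_mul_left m _, hm⟩
      rcases hm with ⟨j, rfl⟩
      rcases j with _ | j
      · exact absurd (by simpa using hnm) (hpow k)
      · omega
    obtain ⟨m, hm⟩ : ∃ m, n = 2 * m := by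
      obtain ⟨m, hm⟩ := heven
      exact ⟨m, by omega⟩
    obtain ⟨s, hs⟩ := hdn
    let H : Subgroup (DihedralGroup n) :=
    { carrier := {g | match g with
        | r j => (d : ZMod n) * j = 0
        | sr j => (d : ZMod n) * j = 0}
      one_mem' := by show (d : ZMod n) * 0 = 0; simp
      mul_mem' := by
        rintro (a | a) (b | b) ha hb <;> simp only [Set.mem_setOf_eq] at ha hb ⊢ <;>
          simp only [r_mul_r, r_mul_sr, sr_mul_r, sr_mul_sr] <;> simp [mul_add, mul_sub, ha, hb]
      inv_mem' := by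
        rintro (a | a) ha <;> simp only [Set.mem_setOf_eq] at ha ⊢ <;>
          simp only [inv_r, inv_sr] <;> simp [ha] }
    have hsH : r (s : ZMod n) ∈ H := by
      show (d : ZMod n) * s = 0
      rw [← Nat.cast_mul, ← hs, ZMod.natCast_self]
    have h0H : sr (0 : ZMod n) ∈ H := by show (d : ZMod n) * 0 = 0; simp
    have hnc : ¬ IsCyclic ↥H := by
      intro hcyc
      haveI := hcyc
      have h1 : (⟨_, hsH⟩ : ↥H) * ⟨_, h0H⟩ = ⟨_, h0H⟩ * ⟨_, hsH⟩ := IsCyclic.commGroup.mul_comm _ _
      have h2 := congrArg Subtype.val h1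
      simp only [Subgroup.coe_mul, r_mul_sr, sr_mul_r, sr.injEq] at h2
      have h3 : ((2 * s : ℕ) : ZMod n) = 0 := by
        push_cast
        linear_combination -h2
      rw [ZMod.natCast_eq_zero_iff] at h3
      have hs0 : 0 < s := Nat.pos_of_ne_zero (by rintro rfl; simp at hs; omega)
      have := Nat.le_of_dvd (by omega) h3
      have : 3 * s ≤ d * s := Nat.mul_le_mul_right s hd
      omega
    have hmm : (m : ZMod n) + m = 0 := by
      rw [← Nat.cast_add, ← two_mul, ← hm, ZMod.natCast_self]
    have hmem : r (m : ZMod n) ∈ H := by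
      refine h H hnc (Subgroup.mem_centralizer_iff.2 ?_)
      rintro (a | a) -
      · simp only [r_mul_r, r.injEq]; ring
      · simp only [r_mul_sr, sr_mul_r, sr.injEq]
        linear_combination hmm
    have hdm : ((d * m : ℕ) : ZMod n) = 0 := by rw [Nat.cast_mul]; exact hmem
    rw [ZMod.natCast_eq_zero_iff] at hdm
    obtain ⟨c, hc⟩ := hdm
    obtain ⟨j, rfl⟩ := hdodd
    have hm0 : 0 < m := by omega
    rw [hm] at hc
    have hc' : (2 * j + 1) * m = 2 * c * m := by rw [hc]; ring
    have := Nat.eq_of_mul_eq_mul_right hm0 hc'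
    omega
  · intro hn2 H hnc g hg
    by_contra hgH
    rw [Subgroup.mem_centralizer_iff] at hg
    -- `H` contains a reflection
    obtain ⟨i, hi⟩ : ∃ i, sr i ∈ H := by
      by_contra hc
      push Not at hc
      have hle : H ≤ Subgroup.zpowers (r (1 : ZMod n)) := by
        rintro (a | a) ha
        · exact ⟨(a.val : ℤ), by simp [zpow_natCast, r_one_pow, ZMod.natCast_zmod_val]⟩
        · exact absurd ha (hc a)
      exact hnc (isCyclic_of_injective (Subgroup.inclusion hle) (Subgroup.inclusion_injective hle))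
    -- and a non-trivial rotation
    obtain ⟨a, ha, ha0⟩ : ∃ a, r a ∈ H ∧ a ≠ 0 := by
      by_contra hc
      push Not at hc
      have hle : H ≤ Subgroup.zpowers (sr i) := by
        rintro (a | a) ha
        · rw [hc a ha]; exact one_mem _
        · have h1 := mul_mem hi ha
          rw [sr_mul_sr] at h1
          rw [sub_eq_zero.1 (hc _ h1)]
          exact Subgroup.mem_zpowers _
      exact hnc (isCyclic_of_injective (Subgroup.inclusion hle) (Subgroup.inclusion_injective hle))
    -- so it contains every solution of `2 * j = 0`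
    have key : ∀ j : ZMod n, 2 * j = 0 → r j ∈ H := by
      intro j hj
      rcases zmod_two_mul hj with rfl | hjn
      · exact H.one_mem
      rcases hn2 with hodd | ⟨k, hk⟩
      · obtain ⟨l, hl⟩ := hodd; omega
      -- a multiple of `a` equals `j`
      have hav : 0 < a.val := Nat.pos_of_ne_zero (fun h => ha0 ((ZMod.val_eq_zero a).1 h))
      have hlt := ZMod.val_lt a
      obtain ⟨e, u, hu, hau⟩ := Nat.exists_eq_two_pow_mul_odd (n := a.val) (by omega)
      have hek : e < k := by
        have hlt' : a.val < 2 ^ k := hlt.trans_eq hk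
        rw [hau] at hlt'
        refine (Nat.pow_lt_pow_iff_right Nat.one_lt_two).1 (lt_of_le_of_lt ?_ hlt')
        exact Nat.le_mul_of_pos_right _ hu.pos
      have hjv : j.val = 2 ^ (k - 1) := by
        have hkk : 2 ^ k = 2 * 2 ^ (k - 1) := by rw [← pow_succ']; congr 1; omega
        omega
      have hj' : j = ((2 ^ (k - 1 - e) * a.val : ℕ) : ZMod n) := by
        obtain ⟨t, rfl⟩ := hu
        rw [hau, show 2 ^ (k - 1 - e) * (2 ^ e * (2 * t + 1)) = 2 ^ (k - 1) + t * (2 * 2 ^ (k - 1)) by
          rw [← mul_assoc, ← pow_add, show k - 1 - e + e = k - 1 by omega]; ring]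
        rw [← pow_succ', show k - 1 + 1 = k by omega, ← hk, Nat.cast_add, Nat.cast_mul, ZMod.natCast_self,
          mul_zero, add_zero, ← hjv, ZMod.natCast_zmod_val]
      rw [hj', Nat.cast_mul, ZMod.natCast_zmod_val, mul_comm]
      have h1 := pow_mem ha (2 ^ (k - 1 - e))
      rwa [r_pow] at h1
    have hgi := hg _ hi
    rcases g with j | j
    · simp only [r_mul_sr, sr_mul_r, sr.injEq] at hgi
      exact hgH (key j (by linear_combination hgi))
    · simp only [sr_mul_sr, r.injEq] at hgi
      have h1 := key (j - i) (by linear_combination hgi)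
      have h2 := mul_mem hi h1
      rw [sr_mul_r, add_sub_cancel] at h2
      exact hgH h2

end Cfsg.Agent.S3920
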