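import Cfsg.Statements.S3921
import Cfsg.Agent.Lib.SelfCentNC.PSL

set_option autoImplicit false
open Cfsg

namespace Cfsg.Agent.S3921

/-- Say that a group has self-centralizing non-cyclic subgroups when every non-cyclic subgroup H satisfies C_G(H) ≤ H. A non-abelian finite simple group has self-centralizing non-cyclic subgroups if and only if it is isomorphic to PSL₂(q) with q = 4, q = 9, or q a prime of the form 2^k + 1 or 2^k − 1. -/
theorem result {G : Type*} [Group G] [Finite G] [IsSimpleGroup G] (hna : ¬ IsMulCommutative G) :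
    (∀ H : Subgroup G, ¬ IsCyclic ↥H → Subgroup.centralizer (H : Set G) ≤ H) ↔ ∃ (F : Type) (_ : Field F) (_ : Fintype F),
      (Fintype.card F = 4 ∨ Fintype.card F = 9 ∨ ((Fintype.card F).Prime ∧ ∃ k : ℕ, Fintype.card F = 2 ^ k + 1 ∨ Fintype.card F = 2 ^ k - 1)) ∧
      Nonempty (G ≃* Matrix.ProjectiveSpecialLinearGroup (Fin 2) F) := by
  constructor
  · intro h
    obtain ⟨D⟩ := SelfCentNC.exists_frame hna h
    obtain ⟨F, iF, iFi, hodd, ⟨e⟩⟩ := D.exists_psl hna h
    refine ⟨F, iF, iFi, ?_, ⟨e⟩⟩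
    haveI : Finite F := Finite.of_fintype F
    have hodd' : Odd (Nat.card F) := by rw [Nat.card_eq_fintype_card]; exact hodd
    have h2 : (2 : F) ≠ 0 := PSL2Sub.two_ne_zero_of_odd hodd'
    have hx : e D.t * e D.t = 1 := by rw [← map_mul, Invol.mul_self D.ht, map_one]
    have hx1 : e D.t ≠ 1 := fun e0 => by
      have := D.ht
      rw [e.map_eq_one_iff.1 e0, orderOf_one] at this
      norm_num at this
    haveI : Fact (Nat.Prime 2) := ⟨Nat.prime_two⟩
    have hp : IsPGroup 2 (Subgroup.centralizer ({e D.t} : Set _)) := by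
      intro v
      have hv : e.symm v.1 ∈ (D.T : Subgroup G) := by
        rw [← D.centralizer_eq h, Subgroup.mem_centralizer_singleton_iff]
        apply e.injective
        rw [map_mul, map_mul, e.apply_symm_apply]
        exact Subgroup.mem_centralizer_singleton_iff.1 v.2
      obtain ⟨k, hk⟩ := D.T.isPGroup' ⟨_, hv⟩
      refine ⟨k, Subtype.ext ?_⟩
      have h1 : e.symm v.1 ^ (2 ^ k) = 1 := congrArg Subtype.val hk
      rw [SubgroupClass.coe_pow, ← e.apply_symm_apply v.1, ← map_pow, h1, map_one]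
      rfl
    obtain ⟨k, hk⟩ := IsPGroup.iff_card.1 hp
    rw [SelfCentNC.card_cent_invol h2 hx hx1] at hk
    obtain ⟨p, hchar⟩ := CharP.exists F
    obtain ⟨n, hpp, hn⟩ := FiniteField.card F p
    rw [← Nat.card_eq_fintype_card] at hn
    have hp2 : p ≠ 2 := by
      intro h0
      rw [hn, h0, Nat.odd_iff, Nat.pow_mod] at hodd'
      simp at hodd'
    have hpow := Nat.two_pow_pos k
    have hq := SelfCentNC.goodQ_of_prime_pow (k := k) hpp hp2 n.pos (by
      rw [← hn]
      rw [Nat.odd_iff] at hodd'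
      split_ifs at hk <;> omega)
    rw [← hn, Nat.card_eq_fintype_card] at hq
    exact hq
  · rintro ⟨F, iF, iFi, hq, ⟨e⟩⟩
    haveI : Finite F := Finite.of_fintype F
    have hq' : SelfCentNC.GoodQ (Nat.card F) := by rw [Nat.card_eq_fintype_card]; exact hq
    exact SelfCentNC.SC.of_equiv e.symm (SelfCentNC.sc_psl hq')

end Cfsg.Agent.S3921
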