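import Cfsg.Statements.S3947
import Cfsg.Agent.Lib.LocalEven.Wielandt
import Mathlib

set_option autoImplicit false
open Cfsg

namespace Cfsg.Agent.S3947

open Cfsg.Agent

variable {G : Type*} [Group G]

/-- Conjugate of a subgroup. -/
def cj (g : G) (B : Subgroup G) : Subgroup G := B.map (MulAut.conj g).toMonoidHom

lemma mem_cj {g x : G} {B : Subgroup G} : x ∈ cj g B ↔ g⁻¹ * x * g ∈ B := by
  constructor
  · rintro ⟨b, hb, rfl⟩
    simpa [mul_assoc] using hb
  · intro hx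
    exact ⟨g⁻¹ * x * g, hx, by simp [mul_assoc]⟩

lemma cj_cj (g h : G) (B : Subgroup G) : cj g (cj h B) = cj (g * h) B := by
  ext x
  simp only [mem_cj, mul_inv_rev, mul_assoc]

lemma cj_one (B : Subgroup G) : cj (1 : G) B = B := by
  ext x; simp [mem_cj]

lemma cj_inv_cj (g : G) (B : Subgroup G) : cj g⁻¹ (cj g B) = B := by
  rw [cj_cj, inv_mul_cancel, cj_one]

lemma cj_cj_inv (g : G) (B : Subgroup G) : cj g (cj g⁻¹ B) = B := by
  rw [cj_cj, mul_inv_cancel, cj_one]

lemma cj_mono (g : G) {B C : Subgroup G} (h : B ≤ C) : cj g B ≤ cj g C := Subgroup.map_mono h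

lemma cj_injective (g : G) : Function.Injective (cj g : Subgroup G → Subgroup G) :=
  fun _ _ h => Subgroup.map_injective (MulAut.conj g).injective h

lemma cj_of_mem {g : G} {U : Subgroup G} (hg : g ∈ U) : cj g U = U := by
  ext x
  rw [mem_cj, U.mul_mem_cancel_right hg, U.mul_mem_cancel_left (U.inv_mem hg)]

lemma coatom_cj (g : G) {U : Subgroup G} (h : IsCoatom U) : IsCoatom (cj g U) :=
  ((MulEquiv.mapSubgroup (MulAut.conj g)).isCoatom_iff U).2 h

/-- Subnormal in a subgroup. -/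
def SnIn (B U : Subgroup G) : Prop := (B.subgroupOf U).IsSubnormal

lemma SnIn.translate {B U : Subgroup G} (h : SnIn B U) (g : G) : SnIn (cj g B) (cj g U) := by
  have e : (cj g B).subgroupOf (cj g U) =
      (B.subgroupOf U).map ((MulAut.conj g).subgroupMap U).toMonoidHom := by
    ext ⟨x, hx⟩
    rw [Subgroup.mem_subgroupOf, mem_cj]
    constructor
    · intro hb
      exact ⟨⟨g⁻¹ * x * g, mem_cj.1 hx⟩, hb, Subtype.ext (show g * (g⁻¹ * x * g) * g⁻¹ = x by group)⟩
    · rintro ⟨⟨y, hy⟩, hyB, he⟩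
      have he' : g * y * g⁻¹ = x := congrArg Subtype.val he
      subst he'
      simpa [mul_assoc, Subgroup.mem_subgroupOf] using hyB
  show Subgroup.IsSubnormal _
  rw [e]
  exact Subgroup.IsSubnormal.map ((MulAut.conj g).subgroupMap U).surjective h

/-- A maximal subgroup containing `B` in which `B` is not subnormal. -/
def Own (B U : Subgroup G) : Prop := IsCoatom U ∧ B ≤ U ∧ ¬ SnIn B U

lemma Own.translate {B U : Subgroup G} (h : Own B U) (g : G) : Own (cj g B) (cj g U) := by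
  refine ⟨coatom_cj g h.1, cj_mono g h.2.1, fun hs => h.2.2 ?_⟩
  have := hs.translate g⁻¹
  rwa [cj_inv_cj, cj_inv_cj] at this

/-- Setwise stabilizer of a set of subgroups. -/
def stab (Q : Set (Subgroup G)) : Subgroup G where
  carrier := {g | ∀ B, cj g B ∈ Q ↔ B ∈ Q}
  one_mem' := fun B => by rw [cj_one]
  mul_mem' := fun {a b} ha hb B => by rw [← cj_cj, ha, hb]
  inv_mem' := fun {a} ha B => by rw [← ha (cj a⁻¹ B), cj_cj_inv]

variable [Finite G]

lemma mem_stab {Q : Set (Subgroup G)} {u : G} (h : ∀ B ∈ Q, cj u B ∈ Q) : u ∈ stab Q := by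
  intro B
  refine ⟨fun hB => ?_, h B⟩
  have he : cj u '' Q = Q := Set.eq_of_subset_of_ncard_le (by rintro _ ⟨C, hC, rfl⟩; exact h C hC)
    (by rw [Set.ncard_image_of_injective _ (cj_injective u)]) (Set.toFinite _)
  rw [← he] at hB
  obtain ⟨C, hC, hCB⟩ := hB
  rwa [← cj_injective u hCB]

section
variable (A : Subgroup G)

/-- The conjugates of `A` in `D`. -/
def cset (D : Subgroup G) : Set (Subgroup G) := {B | (∃ g, cj g A = B) ∧ B ≤ D}

/-- The subnormal ones of those. -/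
def qset (U V : Subgroup G) : Set (Subgroup G) := {B | B ∈ cset A (U ⊓ V) ∧ SnIn B U}

variable {A}

lemma mem_qset_of_le {U V B : Subgroup G} {u : G} (hu : u ∈ U) (hB : B ∈ qset A U V)
    (h : cj u B ≤ U ⊓ V) : cj u B ∈ qset A U V := by
  obtain ⟨⟨⟨g, rfl⟩, -⟩, hs⟩ := hB
  refine ⟨⟨⟨u * g, (cj_cj u g A).symm⟩, h⟩, ?_⟩
  have := hs.translate u
  rwa [cj_of_mem hu] at this

lemma inf_le_stab (U V : Subgroup G) : U ⊓ V ≤ U ⊓ stab (qset A U V) := fun u hu =>
  ⟨hu.1, mem_stab fun B hB => mem_qset_of_le hu.1 hB ((cj_mono u hB.1.2).trans (cj_of_mem hu).le)⟩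

lemma sSup_snIn (U : Subgroup G) (Q : Set (Subgroup G)) (h : ∀ B ∈ Q, B ≤ U ∧ SnIn B U) :
    SnIn (sSup Q) U := by
  have hfin := Set.toFinite Q
  revert h
  refine Set.Finite.induction_on (motive := fun Q _ => (∀ B ∈ Q, B ≤ U ∧ SnIn B U) → SnIn (sSup Q) U) Q hfin ?_ ?_
  · intro _
    show Subgroup.IsSubnormal _
    rw [sSup_empty, Subgroup.bot_subgroupOf]
    exact Subgroup.IsSubnormal.bot
  · intro B T _ _ ih h
    have hT : ∀ C ∈ T, C ≤ U ∧ SnIn C U := fun C hC => h C (Set.mem_insert_of_mem _ hC)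
    show Subgroup.IsSubnormal _
    rw [sSup_insert, Subgroup.subgroupOf_sup (h B (Set.mem_insert _ _)).1 (sSup_le fun C hC => (hT C hC).1)]
    exact LEWielandt.sup (h B (Set.mem_insert _ _)).2 (ih hT)

/-- The stabilizer grows beyond the intersection. -/
lemma stab_not_le {U V : Subgroup G} (hUV : ¬ U ≤ V) : ¬ U ⊓ stab (qset A U V) ≤ U ⊓ V := by
  intro hle
  set Q := qset A U V with hQ
  set X := sSup Q with hX
  have hXD : X ≤ U ⊓ V := sSup_le fun B hB => hB.1.2
  have hin : ∀ w ∈ U, (∀ B ∈ Q, cj w B ≤ U ⊓ V) → w ∈ U ⊓ V := fun w hw h =>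
    hle ⟨hw, mem_stab fun B hB => mem_qset_of_le hw hB (h B hB)⟩
  have hnorm : ∀ w : ↥U, w ∈ Subgroup.normalizer (X.subgroupOf U : Set ↥U) → (w : G) ∈ U ⊓ V := by
    intro w hw
    refine hin w w.2 fun B hB => ?_
    rintro x ⟨b, hb, rfl⟩
    exact hXD ((Subgroup.mem_normalizer_iff.1 hw ⟨b, (hB.1.2 hb).1⟩).1 (le_sSup hB hb))
  by_cases hn : (X.subgroupOf U).Normal
  · refine hUV fun u hu => ?_
    exact (hnorm ⟨u, hu⟩ (by rw [Subgroup.normalizer_eq_top]; exact Subgroup.mem_top _)).2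
  obtain ⟨x, hxN, hxle⟩ := LEWielandt.exists_conj_ne_le_normalizer
    (sSup_snIn U Q fun B hB => ⟨hB.1.2.trans inf_le_left, hB.2⟩) hn
  have hxD : (x : G) ∈ U ⊓ V := by
    refine hin x x.2 fun B hB => ?_
    rintro _ ⟨b, hb, rfl⟩
    have h1 := hxle ⟨⟨b, (hB.1.2 hb).1⟩, le_sSup hB hb, rfl⟩
    exact hnorm _ h1
  apply hxN
  have hst := (inf_le_stab (A := A) U V hxD).2
  rw [← LEBasic.map_conj_eq_iff_mem_normalizer]
  refine Subgroup.eq_of_le_of_card_ge ?_ (Subgroup.card_map_of_injective (MulAut.conj x).injective).ge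
  rintro _ ⟨b, hb, rfl⟩
  have h1 : cj (x : G) X ≤ X := by
    rw [cj, Subgroup.map_le_iff_le_comap]
    refine sSup_le fun B hB => ?_
    rw [← Subgroup.map_le_iff_le_comap]
    exact le_sSup ((hst B).2 hB)
  exact h1 ⟨(b : G), hb, rfl⟩

/-- One step of reachability avoiding the point `E`. -/
def Step (U V SU SV : Subgroup G) (R : Prop) (E : Subgroup G) (g k : G) : Prop :=
  (g⁻¹ * k ∈ SU ∧ cj g U ≠ E) ∨ (g⁻¹ * k ∈ SV ∧ ¬ (cj g V = E ∧ R))

/-- If every conjugate has at most one maximal overgroup in which it is not subnormal, there is at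
most one maximal overgroup. -/
theorem atMostOne (hA : Subgroup.normalClosure (A : Set G) = ⊤)
    (huniq : ∀ g : G, ∀ U V : Subgroup G, Own (cj g A) U → Own (cj g A) V → U = V)
    (U₀ V₀ : Subgroup G) (hU₀ : IsCoatom U₀) (hV₀ : IsCoatom V₀) (hAU : A ≤ U₀) (hAV : A ≤ V₀) : U₀ = V₀ := by
  classical
  by_contra hne₀
  have hgen : ∀ U : Subgroup G, IsCoatom U → ∀ g₀ : G, (∀ k : G, cj (k * g₀) A ≤ U) → False := by
    intro U hU g₀ hk
    apply hU.1
    rw [eq_top_iff, ← hA]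
    refine (Subgroup.closure_le U).2 ?_
    intro x hx
    obtain ⟨a, ha, hax⟩ := Group.mem_conjugatesOfSet_iff.1 hx
    obtain ⟨c, rfl⟩ := isConj_iff.1 hax
    have := hk (c * g₀⁻¹) (show c * a * c⁻¹ ∈ cj (c * g₀⁻¹ * g₀) A by
      rw [inv_mul_cancel_right, mem_cj]; simpa [mul_assoc] using ha)
    exact this
  let s : Set (Subgroup G × Subgroup G) :=
    {x | IsCoatom x.1 ∧ IsCoatom x.2 ∧ x.1 ≠ x.2 ∧ (cset A (x.1 ⊓ x.2)).Nonempty}
  let meas : Subgroup G × Subgroup G → ℕ := fun x =>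
    (cset A (x.1 ⊓ x.2)).ncard * (Nat.card G + 1) + Nat.card ↥(x.1 ⊓ x.2)
  obtain ⟨⟨U', V'⟩, ⟨hU', hV', hne', hP'⟩, hmax⟩ := Set.exists_max_image s meas (Set.toFinite _)
    ⟨(U₀, V₀), hU₀, hV₀, hne₀, A, ⟨1, cj_one A⟩, le_inf hAU hAV⟩
  -- the two stabilizers generate
  have htop : ∀ U V : Subgroup G, IsCoatom U → IsCoatom V → U ≠ V → (cset A (U ⊓ V)).Nonempty →
      meas (U', V') = meas (U, V) → (U ⊓ stab (qset A U V)) ⊔ (V ⊓ stab (qset A V U)) = ⊤ := by
    intro U V hU hV hne hP hm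
    by_contra ht
    obtain ⟨W, hW, hle⟩ := (eq_top_or_exists_le_coatom ((U ⊓ stab (qset A U V)) ⊔ (V ⊓ stab (qset A V U)))).resolve_left ht
    have hD : U ⊓ V ≤ W := (inf_le_stab U V).trans (le_sup_left.trans hle)
    have key : ∀ X : Subgroup G, IsCoatom X → U ⊓ V ≤ X → ¬ W ⊓ X ≤ U ⊓ V → W = X := by
      intro X hX hDX hnot
      by_contra hWX
      have hsub : cset A (U ⊓ V) ⊆ cset A (W ⊓ X) := fun B hB => ⟨hB.1, hB.2.trans (le_inf hD hDX)⟩
      have h1 := hmax (W, X) ⟨hW, hX, hWX, hP.mono hsub⟩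
      rw [hm] at h1
      have h2 : Nat.card ↥(U ⊓ V) < Nat.card ↥(W ⊓ X) := by
        refine lt_of_le_of_ne (Subgroup.card_le_of_le (le_inf hD hDX)) fun he => hnot ?_
        exact (Subgroup.eq_of_le_of_card_ge (le_inf hD hDX) he.ge).ge
      have h3 : (cset A (U ⊓ V)).ncard ≤ (cset A (W ⊓ X)).ncard := Set.ncard_le_ncard hsub (Set.toFinite _)
      have h4 : (cset A (U ⊓ V)).ncard * (Nat.card G + 1) ≤ (cset A (W ⊓ X)).ncard * (Nat.card G + 1) :=
        Nat.mul_le_mul_right _ h3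
      simp only [meas] at h1
      omega
    have e1 : W = U := key U hU inf_le_left fun h => stab_not_le (A := A) (U := U) (V := V)
      (fun h' => hne ((hU.le_iff.1 h').resolve_left hV.1).symm)
      ((le_inf (le_sup_left.trans hle) inf_le_left).trans h)
    have e2 : W = V := key V hV inf_le_right fun h => stab_not_le (A := A) (U := V) (V := U)
      (fun h' => hne ((hV.le_iff.1 h').resolve_left hU.1))
      (((le_inf (le_sup_right.trans hle) inf_le_left).trans h).trans (inf_comm U V).le)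
    exact hne (e1.symm.trans e2)
  by_cases hnone : ∀ B ∈ cset A (U' ⊓ V'), SnIn B U' ∧ SnIn B V'
  · have e1 : qset A U' V' = cset A (U' ⊓ V') := Set.ext fun B => ⟨fun h => h.1, fun h => ⟨h, (hnone B h).1⟩⟩
    have e2 : qset A V' U' = cset A (U' ⊓ V') := Set.ext fun B =>
      ⟨fun h => inf_comm V' U' ▸ h.1, fun h => ⟨inf_comm U' V' ▸ h, (hnone B h).2⟩⟩
    have h1 := htop U' V' hU' hV' hne' hP' rfl
    rw [e1, e2] at h1
    have h2 : stab (cset A (U' ⊓ V')) = ⊤ := top_le_iff.1 (h1 ▸ sup_le inf_le_right inf_le_right)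
    obtain ⟨B₀, hB₀⟩ := hP'
    have hB₀mem := hB₀
    obtain ⟨⟨g₀, rfl⟩, -⟩ := hB₀
    refine hgen U' hU' g₀ fun k => ?_
    have hk : k ∈ stab (cset A (U' ⊓ V')) := h2 ▸ Subgroup.mem_top k
    rw [← cj_cj]
    exact ((hk (cj g₀ A)).2 hB₀mem).2.trans inf_le_left
  -- a member with its own maximal subgroup in the pair
  obtain ⟨U, V, hU, hV, hne, hP, hm, B₀, hB₀P, hB₀⟩ : ∃ U V : Subgroup G, IsCoatom U ∧ IsCoatom V ∧ U ≠ V ∧
      (cset A (U ⊓ V)).Nonempty ∧ meas (U', V') = meas (U, V) ∧ ∃ B₀ ∈ cset A (U ⊓ V), Own B₀ U := by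
    push Not at hnone
    obtain ⟨B, hB, hBn⟩ := hnone
    by_cases h1 : SnIn B U'
    · refine ⟨V', U', hV', hU', hne'.symm, inf_comm U' V' ▸ hP', ?_, B, inf_comm U' V' ▸ hB,
        hV', hB.2.trans inf_le_right, hBn h1⟩
      simp only [meas]; rw [inf_comm U' V']
    · exact ⟨U', V', hU', hV', hne', hP', rfl, B, hB, hU', hB.2.trans inf_le_left, h1⟩
  have hgenST := htop U V hU hV hne hP hm
  set SU := U ⊓ stab (qset A U V) with hSU
  set SV := V ⊓ stab (qset A V U) with hSV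
  set R : Prop := ∃ C ∈ cset A (U ⊓ V), Own C V with hR
  -- membership in the translated set
  let Mem : G → Subgroup G → Prop := fun g B => cj g⁻¹ B ∈ cset A (U ⊓ V)
  have hprop : ∀ (g k : G) (B E : Subgroup G), Own B E → Step U V SU SV R E g k → Mem g B → Mem k B := by
    intro g k B E hBE hstep hg
    obtain ⟨⟨g₁, hg₁⟩, hBD⟩ := hg
    have hB : cj (g * g₁) A = B := by rw [← cj_cj, hg₁, cj_cj_inv]
    have huq : ∀ X : Subgroup G, Own B X → X = E := fun X hX =>
      huniq (g * g₁) X E (hB.symm ▸ hX) (hB.symm ▸ hBE)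
    have move : ∀ s : G, g⁻¹ * k = s → cj g⁻¹ B = cj s (cj k⁻¹ B) := by
      intro s hs
      rw [cj_cj, ← hs, mul_assoc, mul_inv_cancel, mul_one]
    rcases hstep with ⟨hs, hne1⟩ | ⟨hs, hne2⟩
    · have hsn : SnIn (cj g⁻¹ B) U := by
        by_contra hn
        have ho : Own (cj g⁻¹ B) U := ⟨hU, hBD.trans inf_le_left, hn⟩
        have ho' := ho.translate g
        rw [cj_cj_inv] at ho'
        exact hne1 (huq _ ho')
      have hq : cj (g⁻¹ * k) (cj k⁻¹ B) ∈ qset A U V := move _ rfl ▸ ⟨⟨⟨g₁, hg₁⟩, hBD⟩, hsn⟩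
      exact ((hs.2 _).1 hq).1
    · have hsn : SnIn (cj g⁻¹ B) V := by
        by_contra hn
        have ho : Own (cj g⁻¹ B) V := ⟨hV, hBD.trans inf_le_right, hn⟩
        have hRR : R := ⟨cj g⁻¹ B, ⟨⟨g₁, hg₁⟩, hBD⟩, ho⟩
        have ho' := ho.translate g
        rw [cj_cj_inv] at ho'
        exact hne2 ⟨huq _ ho', hRR⟩
      have hq : cj (g⁻¹ * k) (cj k⁻¹ B) ∈ qset A V U :=
        move _ rfl ▸ ⟨⟨⟨g₁, hg₁⟩, inf_comm U V ▸ hBD⟩, hsn⟩
      exact (inf_comm V U ▸ ((hs.2 _).1 hq).1 : cj k⁻¹ B ∈ cset A (U ⊓ V))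
  have hsym : ∀ (E : Subgroup G) (g k : G), Step U V SU SV R E g k → Step U V SU SV R E k g := by
    intro E g k h
    have e : k⁻¹ * g = (g⁻¹ * k)⁻¹ := by group
    rcases h with ⟨hs, hn⟩ | ⟨hs, hn⟩
    · refine Or.inl ⟨e ▸ inv_mem hs, ?_⟩
      rwa [show cj k U = cj g U by rw [← mul_inv_cancel_left g k, ← cj_cj, cj_of_mem hs.1]]
    · refine Or.inr ⟨e ▸ inv_mem hs, ?_⟩
      rwa [show cj k V = cj g V by rw [← mul_inv_cancel_left g k, ← cj_cj, cj_of_mem hs.1]]
  let Cl : Subgroup G → Set G := fun E => {g | Relation.ReflTransGen (Step U V SU SV R E) 1 g}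
  obtain ⟨E, ⟨h₀, hE⟩, hEmax⟩ := Set.exists_max_image {E : Subgroup G | ∃ g, cj g U = E}
    (fun E => (Cl E).ncard) (Set.toFinite _) ⟨U, 1, cj_one U⟩
  have hbd : Cl E ≠ Set.univ → ∃ g ∈ Cl E, ∃ w, (w ∈ SU ∨ w ∈ SV) ∧ g * w ∉ Cl E := by
    intro hne'
    by_contra hh
    push Not at hh
    apply hne'
    rw [Set.eq_univ_iff_forall]
    let K : Subgroup G :=
      { carrier := {w | ∀ g, g ∈ Cl E ↔ g * w ∈ Cl E}
        one_mem' := fun g => by rw [mul_one]
        mul_mem' := fun {a b} ha hb g => by rw [← mul_assoc, ha g, hb (g * a)]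
        inv_mem' := fun {a} ha g => by rw [ha (g * a⁻¹), inv_mul_cancel_right] }
    have hK : SU ⊔ SV ≤ K := by
      refine sup_le (fun w hw g => ⟨fun h => hh g h w (Or.inl hw), fun h => ?_⟩)
        (fun w hw g => ⟨fun h => hh g h w (Or.inr hw), fun h => ?_⟩)
      · simpa using hh _ h w⁻¹ (Or.inl (inv_mem hw))
      · simpa using hh _ h w⁻¹ (Or.inr (inv_mem hw))
    rw [hgenST, top_le_iff] at hK
    intro g
    have hg : g ∈ K := hK ▸ Subgroup.mem_top g
    simpa using (hg 1).1 Relation.ReflTransGen.refl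
  -- a conjugate with own maximal subgroup `E`, present along the whole class
  obtain ⟨B, hBE, g₁, hg₁, hBg⟩ : ∃ B, Own B E ∧ ∃ g ∈ Cl E, Mem g B := by
    by_cases hu : Cl E = Set.univ
    · exact ⟨cj h₀ B₀, hE ▸ hB₀.translate h₀, h₀, hu ▸ Set.mem_univ _, by simp only [Mem, cj_inv_cj]; exact hB₀P⟩
    obtain ⟨g, hg, w, hw, hgw⟩ := hbd hu
    rcases hw with hw | hw
    · have he : cj g U = E := by
        by_contra hn
        exact hgw (Relation.ReflTransGen.tail hg (Or.inl ⟨by rwa [inv_mul_cancel_left], hn⟩))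
      exact ⟨cj g B₀, he ▸ hB₀.translate g, g, hg, by simp only [Mem, cj_inv_cj]; exact hB₀P⟩
    · have he : cj g V = E ∧ R := by
        by_contra hn
        exact hgw (Relation.ReflTransGen.tail hg (Or.inr ⟨by rwa [inv_mul_cancel_left], hn⟩))
      obtain ⟨he, C, hC, hCo⟩ := he
      exact ⟨cj g C, he ▸ hCo.translate g, g, hg, by simp only [Mem, cj_inv_cj]; exact hC⟩
  have hiff : ∀ g ∈ Cl E, (Mem g B ↔ Mem 1 B) := by
    intro g hg
    induction hg with
    | refl => exact Iff.rfl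
    | tail _ hstep ih => exact (Iff.intro (hprop _ _ B E hBE (hsym _ _ _ hstep)) (hprop _ _ B E hBE hstep)).trans ih
  have hall : ∀ g ∈ Cl E, Mem g B := fun g hg => (hiff g hg).2 ((hiff g₁ hg₁).1 hBg)
  have hin : ∀ k : G, B ≤ cj k U := by
    intro k
    by_cases hkE : cj k U = E
    · rw [hkE]; exact hBE.2.1
    by_cases hcov : ∃ g ∈ Cl E, cj g U = cj k U ∨ (cj g V = cj k U ∧ R)
    · obtain ⟨g, hg, hgk⟩ := hcov
      have h1 := cj_mono g (hall g hg).2
      rw [cj_cj_inv] at h1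
      rcases hgk with he | ⟨he, -⟩
      · exact he ▸ h1.trans (cj_mono g inf_le_left)
      · exact he ▸ h1.trans (cj_mono g inf_le_right)
    exfalso
    push Not at hcov
    set F := cj k U with hF
    have hsub : Cl E ⊆ Cl F := by
      intro g hg
      induction hg with
      | refl => exact Relation.ReflTransGen.refl
      | tail hab hstep ih =>
        refine Relation.ReflTransGen.tail ih ?_
        have hc := hcov _ hab
        rcases hstep with ⟨hs, -⟩ | ⟨hs, -⟩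
        · exact Or.inl ⟨hs, hc.1⟩
        · exact Or.inr ⟨hs, fun hh => hc.2 hh.1 hh.2⟩
    have hu : Cl E ≠ Set.univ := fun hu => (hcov k (hu ▸ Set.mem_univ k)).1 rfl
    obtain ⟨g, hg, w, hw, hgw⟩ := hbd hu
    have hgwF : g * w ∈ Cl F := by
      refine Relation.ReflTransGen.tail (hsub hg) ?_
      have hc := hcov g hg
      rcases hw with hw | hw
      · exact Or.inl ⟨by rwa [inv_mul_cancel_left], hc.1⟩
      · exact Or.inr ⟨by rwa [inv_mul_cancel_left], fun hh => hc.2 hh.1 hh.2⟩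
    have hlt : (Cl E).ncard < (Cl F).ncard :=
      Set.ncard_lt_ncard ⟨hsub, fun h => hgw (h hgwF)⟩ (Set.toFinite _)
    exact absurd (hEmax F ⟨k, rfl⟩) (not_le.2 hlt)
  obtain ⟨g₂, hg₂⟩ := (hall g₁ hg₁).1
  refine hgen U hU (g₁ * g₂) fun k => ?_
  rw [← cj_cj, ← cj_cj, hg₂, cj_cj_inv]
  exact (cj_mono k (hin k⁻¹)).trans (cj_cj_inv k U).le

end

/-- The subgroups generated by their conjugates of `A`. -/
def sset (A : Subgroup G) : Set (Subgroup G) :=
  {H | A ≤ H ∧ H ≠ ⊤ ∧ Subgroup.normalClosure ((A.subgroupOf H : Subgroup ↥H) : Set ↥H) = ⊤}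

omit [Finite G] in
lemma closure_mono {A H K : Subgroup G} (hAH : A ≤ H) (hHK : H ≤ K)
    (h : Subgroup.normalClosure ((A.subgroupOf H : Subgroup ↥H) : Set ↥H) = ⊤) :
    H.subgroupOf K ≤ Subgroup.normalClosure ((A.subgroupOf K : Subgroup ↥K) : Set ↥K) := by
  set N := Subgroup.normalClosure ((A.subgroupOf K : Subgroup ↥K) : Set ↥K) with hN
  have h1 : Subgroup.normalClosure ((A.subgroupOf H : Subgroup ↥H) : Set ↥H) ≤ N.comap (Subgroup.inclusion hHK) :=
    Subgroup.normalClosure_le_normal fun x hx => Subgroup.subset_normalClosure (s := ((A.subgroupOf K : Subgroup ↥K) : Set ↥K)) hx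
  rw [h] at h1
  intro x hx
  exact h1 (Subgroup.mem_top ⟨(x : G), hx⟩)

lemma unique_overgroup : ∀ A : Subgroup G, Subgroup.normalClosure (A : Set G) = ⊤ → sSup (sset A) ≠ ⊤ →
    ∀ U V : Subgroup G, IsCoatom U → IsCoatom V → A ≤ U → A ≤ V → U = V := by
  intro A
  induction A using WellFoundedGT.induction with
  | ind A ih =>
    intro hA hY
    obtain ⟨M, hM, hYM⟩ := (eq_top_or_exists_le_coatom (sSup (sset A))).resolve_left hY
    have hown : ∀ U : Subgroup G, Own A U → U = M := by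
      intro U hU
      obtain ⟨H, ⟨hAH, hHU, hHs⟩, hmin⟩ := (Set.toFinite {H : Subgroup G | A ≤ H ∧ H ≤ U ∧ SnIn H U}).exists_minimal
        ⟨U, hU.2.1, le_rfl, by show Subgroup.IsSubnormal _; rw [Subgroup.subgroupOf_self]; exact Subgroup.IsSubnormal.top⟩
      have hcl : Subgroup.normalClosure ((A.subgroupOf H : Subgroup ↥H) : Set ↥H) = ⊤ := by
        set N := Subgroup.normalClosure ((A.subgroupOf H : Subgroup ↥H) : Set ↥H) with hN
        have hle : N.map H.subtype ≤ H := Subgroup.map_subtype_le N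
        have hAN : A ≤ N.map H.subtype := fun a ha => ⟨⟨a, hAH ha⟩, Subgroup.subset_normalClosure ha, rfl⟩
        have hn : H ≤ Subgroup.normalizer (N.map H.subtype : Set G) := by
          have := Subgroup.le_normalizer_map (H := N) H.subtype
          rwa [Subgroup.normalizer_eq_top, ← MonoidHom.range_eq_map, Subgroup.range_subtype] at this
        have hsn : SnIn (N.map H.subtype) U := by
          refine Subgroup.IsSubnormal.step _ (H.subgroupOf U) (Subgroup.comap_mono hle) hHs ?_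
          refine (Subgroup.normal_subgroupOf_iff_le_normalizer (Subgroup.comap_mono hle)).2 ?_
          exact (Subgroup.comap_mono hn).trans (Subgroup.le_normalizer_comap U.subtype)
        have h2 := hmin ⟨hAN, hle.trans hHU, hsn⟩ hle
        rw [eq_top_iff]
        intro x _
        obtain ⟨y, hy, hyx⟩ := h2 x.2
        rwa [← Subtype.ext hyx]
      have hlt : A < H := lt_of_le_of_ne hAH fun he => hU.2.2 (he ▸ hHs)
      have hHt : H ≠ ⊤ := fun he => hU.1.1 (top_le_iff.1 (he ▸ hHU))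
      have hHA : H ∈ sset A := ⟨hAH, hHt, hcl⟩
      have hsub : sset H ⊆ sset A := by
        rintro K ⟨hHK, hKt, hK⟩
        refine ⟨hAH.trans hHK, hKt, top_le_iff.1 ?_⟩
        rw [← hK]
        exact Subgroup.normalClosure_le_normal (closure_mono hAH hHK hcl)
      refine ih H hlt (top_le_iff.1 (hA ▸ Subgroup.normalClosure_mono hAH))
        (fun he => hY (top_le_iff.1 (he ▸ sSup_le_sSup hsub))) U M hU.1 hM hHU ((le_sSup hHA).trans hYM)
    refine atMostOne hA fun g U V hU hV => ?_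
    have h1 := hU.translate g⁻¹
    have h2 := hV.translate g⁻¹
    rw [cj_inv_cj] at h1 h2
    exact cj_injective g⁻¹ ((hown _ h1).trans (hown _ h2).symm)

/-- Let G be a finite group and A a proper subgroup of G whose normal closure is G. Let Y be the join of all proper subgroups H of G that contain A and are generated by their own conjugates of A (the normal closure of A in H is H). Then either Y = G, or A is contained in exactly one maximal subgroup of G. -/
theorem result {G : Type*} [Group G] [Finite G] (A : Subgroup G) (hA : Subgroup.normalClosure (A : Set G) = ⊤) (hAG : A ≠ ⊤) :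
    sSup {H : Subgroup G | A ≤ H ∧ H ≠ ⊤ ∧ Subgroup.normalClosure ((A.subgroupOf H : Subgroup ↥H) : Set ↥H) = ⊤} = ⊤ ∨
      ∃! M : Subgroup G, IsCoatom M ∧ A ≤ M := by
  by_cases hY : sSup (sset A) = ⊤
  · exact Or.inl hY
  right
  obtain ⟨M, hM, hAM⟩ := (eq_top_or_exists_le_coatom (A)).resolve_left hAG
  exact ⟨M, ⟨hM, hAM⟩, fun V hV => unique_overgroup A hA hY V M hV.1 hM hV.2 hAM⟩

end Cfsg.Agent.S3947
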