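import Cfsg.Statements.S3927
import Cfsg.Agent.S3947
import Mathlib

set_option autoImplicit false
open Cfsg

namespace Cfsg.Agent.S3927

open Cfsg.Agent

universe u

/-- Iterated conjugates of `a` generate with `a` when its normal closure is everything. -/
theorem gen : ∀ (N : ℕ) (X : Type u) [Group X] [Finite X], Nat.card X ≤ N → ∀ a : X,
    Subgroup.normalClosure (Subgroup.zpowers a : Set X) = ⊤ → ∀ n : ℕ, ∀ M : Subgroup X, a ∈ M →
      (∀ g : X, (fun y : X => y * a * y⁻¹)^[n] (g * a * g⁻¹) ∈ M) → M = ⊤ := by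
  intro N
  induction N with
  | zero => intro X _ _ hN; exact absurd hN (Nat.not_le.2 Nat.card_pos)
  | succ N ih =>
    intro X _ _ hN a hA n M₀ ha₀ hM₀
    by_contra hne
    obtain ⟨M, hM, hle⟩ := (eq_top_or_exists_le_coatom M₀).resolve_left hne
    have ha : a ∈ M := hle ha₀
    have hsub : ∀ H ∈ S3947.sset (Subgroup.zpowers a), H ≤ M := by
      rintro H ⟨haH, hHt, hcl⟩
      have hlt : Nat.card ↥H ≤ N := by
        have : Nat.card ↥H < Nat.card X := by
          refine lt_of_le_of_ne (Subgroup.card_le_card_group H) fun he => hHt ?_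
          exact Subgroup.eq_top_of_card_eq H he
        omega
      let a' : ↥H := ⟨a, haH (Subgroup.mem_zpowers a)⟩
      have hz : (Subgroup.zpowers a).subgroupOf H = Subgroup.zpowers a' := by
        ext x
        simp only [Subgroup.mem_subgroupOf, Subgroup.mem_zpowers_iff, Subtype.ext_iff, Subgroup.coe_zpow, a']
      rw [hz] at hcl
      have h1 := ih ↥H hlt a' hcl n (M.subgroupOf H) ha fun g => by
        have hsemi : ∀ y : ↥H, ((y * a' * y⁻¹ : ↥H) : X) = (y : X) * a * (y : X)⁻¹ := fun y => rfl
        have e := (Function.Semiconj.iterate_right (f := ((↑) : ↥H → X))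
          (ga := fun y : ↥H => y * a' * y⁻¹) (gb := fun y : X => y * a * y⁻¹) hsemi n) (g * a' * g⁻¹)
        show ((fun y : ↥H => y * a' * y⁻¹)^[n] (g * a' * g⁻¹) : X) ∈ M
        rw [e]
        exact hle (hM₀ (g : X))
      exact Subgroup.subgroupOf_eq_top.1 h1
    have hY : sSup (S3947.sset (Subgroup.zpowers a)) ≠ ⊤ := fun he =>
      hM.1 (top_le_iff.1 (he ▸ sSup_le hsub))
    have huniq := S3947.unique_overgroup (Subgroup.zpowers a) hA hY
    have hn : ¬ M.Normal := by
      intro hn
      haveI := hn
      exact hM.1 (top_le_iff.1 (hA ▸ Subgroup.normalClosure_le_normal (SetLike.coe_subset_coe.2 (Subgroup.zpowers_le.2 ha))))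
    have hNM : Subgroup.normalizer (M : Set X) = M := by
      rcases hM.le_iff.1 (Subgroup.le_normalizer : M ≤ Subgroup.normalizer (M : Set X)) with ht | he
      · exact absurd (Subgroup.normalizer_eq_top_iff.1 ht) hn
      · exact he
    have hstep : ∀ y : X, y ∉ M → y * a * y⁻¹ ∉ M := by
      intro y hy hy'
      apply hy
      have hMy : IsCoatom (S3947.cj y⁻¹ M) := S3947.coatom_cj _ hM
      have haMy : a ∈ S3947.cj y⁻¹ M := by
        rw [S3947.mem_cj]; simpa [mul_assoc] using hy'
      have he := huniq _ M hMy hM (Subgroup.zpowers_le.2 haMy) (Subgroup.zpowers_le.2 ha)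
      rw [← hNM]
      have h2 : y⁻¹ ∈ Subgroup.normalizer (M : Set X) := by
        rw [← LEBasic.map_conj_eq_iff_mem_normalizer]
        exact he
      simpa using inv_mem h2
    obtain ⟨g, hg⟩ : ∃ g : X, g * a * g⁻¹ ∉ M := by
      by_contra hh
      push Not at hh
      refine hM.1 (top_le_iff.1 (hA ▸ (Subgroup.closure_le M).2 ?_))
      intro x hx
      obtain ⟨b, hb, hbx⟩ := Group.mem_conjugatesOfSet_iff.1 hx
      obtain ⟨c, rfl⟩ := isConj_iff.1 hbx
      obtain ⟨i, rfl⟩ := hb
      show c * a ^ i * c⁻¹ ∈ M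
      rw [← conj_zpow]
      exact M.zpow_mem (hh c) i
    have hiter : ∀ j : ℕ, (fun y : X => y * a * y⁻¹)^[j] (g * a * g⁻¹) ∉ M := by
      intro j
      induction j with
      | zero => exact hg
      | succ j ihj => rw [Function.iterate_succ_apply']; exact hstep _ ihj
    exact hiter n (hle (hM₀ g))

/-- Let G be a finite group and α an automorphism of G with [G, α] = G, that is, the elements g·α(g)⁻¹ generate G. Then for every k ≥ 1 the iterated commutators [g, α, …, α] with k entries α — the values of the k-th iterate of the map c ↦ c·α(c)⁻¹ — also generate G. -/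
theorem result {G : Type*} [Group G] [Finite G] (α : MulAut G) (hG : Subgroup.closure (Set.range (fun c : G => c * (α c)⁻¹)) = ⊤) (k : ℕ) (hk : 1 ≤ k) :
    Subgroup.closure (Set.range ((fun c : G => c * (α c)⁻¹)^[k])) = ⊤ := by
  classical
  obtain ⟨n, rfl⟩ : ∃ n, k = n + 1 := ⟨k - 1, by omega⟩
  let φ : ↥(Subgroup.zpowers α) →* MulAut G := (Subgroup.zpowers α).subtype
  haveI : Finite (MulAut G) := Finite.of_injective (fun e => (e : G → G)) DFunLike.coe_injective
  haveI : Finite (G ⋊[φ] ↥(Subgroup.zpowers α)) := Finite.of_equiv _ SemidirectProduct.equivProd.symm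
  set F := fun c : G => c * (α c)⁻¹ with hF
  set H := Subgroup.closure (Set.range F^[n + 1]) with hH
  set a : G ⋊[φ] ↥(Subgroup.zpowers α) := SemidirectProduct.inr ⟨α, Subgroup.mem_zpowers α⟩ with ha
  have hinlc : ∀ c : G, SemidirectProduct.inl c * a * (SemidirectProduct.inl c)⁻¹ =
      (SemidirectProduct.inl (F c) * a : G ⋊[φ] ↥(Subgroup.zpowers α)) := by
    intro c
    ext <;> simp [ha, hF, φ, map_inv]
  have hconj : ∀ x : G ⋊[φ] ↥(Subgroup.zpowers α), x * a * x⁻¹ = SemidirectProduct.inl (F x.left) * a := by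
    intro x
    conv_lhs => rw [← SemidirectProduct.inl_left_mul_inr_right x]
    rw [← hinlc]
    have hc : SemidirectProduct.inr x.right * a = a * SemidirectProduct.inr (φ := φ) x.right := by
      rw [ha, ← map_mul, ← map_mul, mul_comm']
    rw [mul_assoc (SemidirectProduct.inl x.left), hc]
    group
  have hFa : ∀ c : G, F (α c) = α (F c) := fun c => by simp [hF]
  have hFiter : ∀ (j : ℕ) (c : G), F^[j] (α c) = α (F^[j] c) := by
    intro j c
    induction j generalizing c with
    | zero => rfl
    | succ j ihj => rw [Function.iterate_succ_apply, hFa, ihj, ← Function.iterate_succ_apply]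
  have hHmap : ∀ j : ↥(Subgroup.zpowers α), ∀ c ∈ H, φ j c ∈ H := by
    have h1 : ∀ c ∈ H, α c ∈ H := by
      intro c hc
      have : H ≤ H.comap α.toMonoidHom := by
        rw [hH, Subgroup.closure_le]
        rintro _ ⟨d, rfl⟩
        exact Subgroup.subset_closure ⟨α d, hFiter _ d⟩
      exact this hc
    have hst : α ∈ Submonoid.powers α := Submonoid.mem_powers α
    rintro ⟨j, hj⟩ c hc
    obtain ⟨i, rfl⟩ := mem_powers_iff_mem_zpowers.2 hj
    show (α ^ i) c ∈ H
    induction i with
    | zero => simpa using hc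
    | succ i ihi => rw [pow_succ', MulAut.mul_apply]; exact h1 _ (ihi (Subgroup.pow_mem _ (Subgroup.mem_zpowers α) i))
  let P : Subgroup (G ⋊[φ] ↥(Subgroup.zpowers α)) :=
    { carrier := {x | x.left ∈ H}
      one_mem' := by simp
      mul_mem' := fun {x y} hx hy => by
        show (x * y).left ∈ H
        rw [SemidirectProduct.mul_left]; exact mul_mem hx (hHmap _ _ hy)
      inv_mem' := fun {x} hx => by
        show x⁻¹.left ∈ H
        rw [SemidirectProduct.inv_left]; exact hHmap _ _ (inv_mem hx) }
  have hcl : Subgroup.normalClosure (Subgroup.zpowers a : Set (G ⋊[φ] ↥(Subgroup.zpowers α))) = ⊤ := by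
    set K := Subgroup.normalClosure (Subgroup.zpowers a : Set (G ⋊[φ] ↥(Subgroup.zpowers α))) with hK
    have haK : a ∈ K := Subgroup.subset_normalClosure (Subgroup.mem_zpowers a)
    have hl : ∀ c : G, SemidirectProduct.inl c ∈ K := by
      have : (⊤ : Subgroup G) ≤ K.comap SemidirectProduct.inl := by
        rw [← hG, Subgroup.closure_le]
        rintro _ ⟨c, rfl⟩
        show SemidirectProduct.inl (F c) ∈ K
        have h1 := (inferInstance : K.Normal).conj_mem a haK (SemidirectProduct.inl c)
        rw [hinlc] at h1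
        simpa using K.mul_mem h1 (K.inv_mem haK)
      exact fun c => this (Subgroup.mem_top c)
    rw [Subgroup.eq_top_iff']
    intro x
    rw [← SemidirectProduct.inl_left_mul_inr_right x]
    refine K.mul_mem (hl _) ?_
    obtain ⟨i, hi⟩ := x.right.2
    have : x.right = (⟨α, Subgroup.mem_zpowers α⟩ : ↥(Subgroup.zpowers α)) ^ i := Subtype.ext (by simpa using hi.symm)
    rw [this, map_zpow]
    exact K.zpow_mem haK i
  have hiter : ∀ (j : ℕ) (c : G), (fun y : G ⋊[φ] ↥(Subgroup.zpowers α) => y * a * y⁻¹)^[j]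
      (SemidirectProduct.inl c * a) = SemidirectProduct.inl (F^[j] c) * a := by
    intro j c
    induction j with
    | zero => rfl
    | succ j ihj =>
      rw [Function.iterate_succ_apply', ihj, Function.iterate_succ_apply']
      show _ * a * _⁻¹ = _
      rw [hconj]
      simp [ha]
  have htop := gen _ _ le_rfl a hcl n P (by show a.left ∈ H; simp [ha]) fun g => by
    rw [hconj g, hiter]
    show (SemidirectProduct.inl (F^[n] (F g.left)) * a).left ∈ H
    rw [← Function.iterate_succ_apply]
    simp only [ha, SemidirectProduct.mul_left, SemidirectProduct.left_inl, SemidirectProduct.left_inr, map_one, mul_one]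
    exact Subgroup.subset_closure (k := Set.range F^[n + 1]) ⟨g.left, rfl⟩
  rw [Subgroup.eq_top_iff']
  intro c
  have h1 : SemidirectProduct.inl c ∈ P := by rw [htop]; exact Subgroup.mem_top _
  simpa using (show (SemidirectProduct.inl (φ := φ) c).left ∈ H from h1)

end Cfsg.Agent.S3927
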