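import Cfsg.Statements.S3928
import Cfsg.Agent.S3927
import Cfsg.Agent.Lib.Involutions.BaerSuzuki
import Cfsg.Agent.Lib.LocalEven.Wielandt
import Cfsg.Agent.Lib.Solvable.Structure
import Cfsg.Agent.Lib.Solvable.Basic
import Cfsg.Agent.Lib.Transfer.Basic
import Mathlib

set_option autoImplicit false
open Cfsg

namespace Cfsg.Agent.S3928

open Cfsg.Agent
open scoped commutatorElement Nat

universe u

variable {G : Type u} [Group G] [Finite G]

/-- The map `c ↦ c α(c)⁻¹`. -/
def phi (α : MulAut G) (c : G) : G := c * (α c)⁻¹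

/-- An involutive automorphism with `[G, α] = G`. -/
structure Good (α : MulAut G) : Prop where
  inv : ∀ g, α (α g) = g
  gen : Subgroup.closure (Set.range (phi α)) = ⊤

/-- The inverted elements of odd order. -/
def E (α : MulAut G) : Set G := {g | Odd (orderOf g) ∧ α g = g⁻¹}

/-- The fixed points. -/
def Cfix (α : MulAut G) : Subgroup G := α.toMonoidHom.eqLocus (MonoidHom.id G)

omit [Finite G] in
lemma mem_Cfix {α : MulAut G} {x : G} : x ∈ Cfix α ↔ α x = x := Iff.rfl

omit [Finite G] in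
lemma one_mem_E (α : MulAut G) : (1 : G) ∈ E α := ⟨by simp, by simp⟩

omit [Finite G] in
lemma phi_inverted {α : MulAut G} (hinv : ∀ g, α (α g) = g) (c : G) : α (phi α c) = (phi α c)⁻¹ := by
  simp [phi, hinv]

omit [Finite G] in
lemma phi_iterate {α : MulAut G} {x : G} (hx : α x = x⁻¹) (n : ℕ) : (phi α)^[n] x = x ^ 2 ^ n := by
  induction n generalizing x with
  | zero => simp
  | succ n ih =>
    have h1 : phi α x = x ^ 2 := by rw [phi, hx, inv_inv, sq]
    rw [Function.iterate_succ_apply, h1, ih (by rw [map_pow, hx, inv_pow]), ← pow_mul, ← pow_succ']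

lemma odd_pow (x : G) {n : ℕ} (hn : orderOf x ≤ n) : Odd (orderOf (x ^ 2 ^ n)) := by
  obtain ⟨a, b, hb, hab⟩ := Nat.exists_eq_two_pow_mul_odd (n := orderOf x) (orderOf_pos x).ne'
  refine Odd.of_dvd_nat hb (orderOf_dvd_of_pow_eq_one ?_)
  have ha : a ≤ n := by
    have h1 : a < 2 ^ a := Nat.lt_two_pow_self
    have h2 : 2 ^ a ≤ orderOf x := hab ▸ Nat.le_mul_of_pos_right _ hb.pos
    omega
  have e : 2 ^ n * b = orderOf x * 2 ^ (n - a) := by
    rw [hab, mul_right_comm, ← pow_add, Nat.add_sub_cancel' ha]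
  rw [← pow_mul, e, pow_mul, pow_orderOf_eq_one, one_pow]

lemma pow_mem_E {α : MulAut G} {x : G} (hx : α x = x⁻¹) : x ^ 2 ^ Nat.card G ∈ E α :=
  ⟨odd_pow x (Nat.le_of_dvd Nat.card_pos (orderOf_dvd_natCard x)), by rw [map_pow, hx, inv_pow]⟩

lemma iterate_mem_E {α : MulAut G} (hinv : ∀ g, α (α g) = g) (c : G) :
    (phi α)^[Nat.card G + 1] c ∈ E α := by
  rw [Function.iterate_succ_apply, phi_iterate (phi_inverted hinv c)]
  exact pow_mem_E (phi_inverted hinv c)

lemma Good.closure_E {α : MulAut G} (h : Good α) : Subgroup.closure (E α) = ⊤ := by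
  rw [eq_top_iff, ← S3927.result α h.gen (Nat.card G + 1) (Nat.le_add_left 1 _)]
  refine Subgroup.closure_mono ?_
  rintro _ ⟨c, rfl⟩
  exact iterate_mem_E h.inv c

lemma Good.mem_center {α : MulAut G} (h : Good α) {x : G} (hx : ∀ e ∈ E α, e * x = x * e) :
    x ∈ Subgroup.center G := by
  rw [Subgroup.mem_center_iff]
  intro g
  have hle : Subgroup.closure (E α) ≤ Subgroup.centralizer ({x} : Set G) :=
    (Subgroup.closure_le _).2 fun e he => Subgroup.mem_centralizer_singleton_iff.2 (hx e he)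
  rw [h.closure_E] at hle
  exact Subgroup.mem_centralizer_singleton_iff.1 (hle (Subgroup.mem_top g))

lemma exists_sqrt {α : MulAut G} {e : G} (he : e ∈ E α) : ∃ f, f * f = e ∧ α f = f⁻¹ := by
  obtain ⟨⟨k, hk⟩, hi⟩ := he
  refine ⟨e ^ (k + 1), ?_, by rw [map_pow, hi, inv_pow]⟩
  rw [← pow_add, show k + 1 + (k + 1) = orderOf e + 1 by omega, pow_succ, pow_orderOf_eq_one, one_mul]

lemma orderOf_le_ncard {α : MulAut G} {e : G} (he : e ∈ E α) : orderOf e ≤ (E α).ncard := by
  have h1 : (Subgroup.zpowers e : Set G) ⊆ E α := by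
    rintro _ ⟨i, rfl⟩
    exact ⟨Odd.of_dvd_nat he.1 (orderOf_dvd_of_mem_zpowers ⟨i, rfl⟩), by rw [map_zpow, he.2, inv_zpow]⟩
  have h2 := Set.ncard_le_ncard h1 (Set.toFinite _)
  rwa [← Nat.card_coe_set_eq, SetLike.coe_sort_coe, Nat.card_zpowers] at h2

/-- The automorphism of an invariant subgroup. -/
def ra (α : MulAut G) (hinv : ∀ g, α (α g) = g) (N : Subgroup G) (hN : ∀ x ∈ N, α x ∈ N) : MulAut ↥N where
  toFun x := ⟨α x, hN x x.2⟩
  invFun x := ⟨α x, hN x x.2⟩
  left_inv x := Subtype.ext (hinv x)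
  right_inv x := Subtype.ext (hinv x)
  map_mul' x y := Subtype.ext (map_mul α (x : G) y)

/-- The automorphism of an invariant quotient. -/
def qa (α : MulAut G) (hinv : ∀ g, α (α g) = g) (N : Subgroup G) [N.Normal] (hN : ∀ x ∈ N, α x ∈ N) :
    MulAut (G ⧸ N) where
  toFun := QuotientGroup.map N N α.toMonoidHom (fun x hx => hN x hx)
  invFun := QuotientGroup.map N N α.toMonoidHom (fun x hx => hN x hx)
  left_inv x := by
    induction x using QuotientGroup.induction_on with
    | _ g => simp [hinv]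
  right_inv x := by
    induction x using QuotientGroup.induction_on with
    | _ g => simp [hinv]
  map_mul' x y := map_mul (QuotientGroup.map N N α.toMonoidHom (fun x hx => hN x hx)) x y

section quot
variable {α : MulAut G} (h : Good α) (N : Subgroup G) [N.Normal] (hN : ∀ x ∈ N, α x ∈ N)

omit [Finite G] in
lemma qa_mk (x : G) : qa α h.inv N hN (QuotientGroup.mk' N x) = QuotientGroup.mk' N (α x) := rfl

omit [Finite G] in
lemma phi_mk (x : G) : phi (qa α h.inv N hN) (QuotientGroup.mk' N x) = QuotientGroup.mk' N (phi α x) := by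
  rw [phi, phi, qa_mk h N hN, map_mul, map_inv]

omit [Finite G] in
lemma good_qa : Good (qa α h.inv N hN) := by
  refine ⟨fun x => (qa α h.inv N hN).left_inv x, ?_⟩
  rw [eq_top_iff, ← Subgroup.map_top_of_surjective _ (QuotientGroup.mk'_surjective N), ← h.gen,
    MonoidHom.map_closure]
  refine Subgroup.closure_mono ?_
  rintro _ ⟨_, ⟨c, rfl⟩, rfl⟩
  exact ⟨QuotientGroup.mk' N c, phi_mk h N hN c⟩

lemma E_qa : E (qa α h.inv N hN) = QuotientGroup.mk' N '' E α := by
  apply Set.Subset.antisymm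
  · rintro x ⟨hxo, hxi⟩
    set n := Nat.card G with hn
    have hco : (2 ^ (n + 1)).Coprime (orderOf x) := Nat.Coprime.pow_left _ hxo.coprime_two_left
    obtain ⟨t, ht⟩ := exists_pow_eq_self_of_coprime hco
    obtain ⟨g, hg⟩ := QuotientGroup.mk'_surjective N (x ^ t)
    refine ⟨_, iterate_mem_E h.inv g, ?_⟩
    rw [Function.iterate_succ_apply, phi_iterate (phi_inverted h.inv g), map_pow, ← phi_mk h N hN, hg, phi,
      map_pow, hxi, inv_pow, inv_inv, ← pow_add, ← pow_mul]
    refine Eq.trans ?_ ht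
    rw [← pow_mul, ← hn]
    congr 1
    ring
  · rintro _ ⟨e, he, rfl⟩
    exact ⟨Odd.of_dvd_nat he.1 (orderOf_map_dvd _ e), by rw [qa_mk h N hN, he.2, map_inv]⟩

lemma ncard_qa_le : (E (qa α h.inv N hN)).ncard ≤ (E α).ncard := by
  rw [E_qa h N hN]
  exact Set.ncard_image_le (Set.toFinite _)

lemma ncard_qa_lt {e : G} (he : e ∈ E α) (he1 : e ≠ 1) (heN : e ∈ N) :
    (E (qa α h.inv N hN)).ncard < (E α).ncard := by
  have h1 : E (qa α h.inv N hN) = QuotientGroup.mk' N '' (E α \ {e}) := by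
    rw [E_qa h N hN]
    refine Set.Subset.antisymm ?_ (Set.image_mono Set.diff_subset)
    rintro _ ⟨x, hx, rfl⟩
    by_cases hxe : x = e
    · refine ⟨1, ⟨one_mem_E α, fun hh => he1 hh.symm⟩, ?_⟩
      rw [hxe, map_one]
      exact ((QuotientGroup.eq_one_iff e).2 heN).symm
    · exact ⟨x, ⟨hx, hxe⟩, rfl⟩
  rw [h1]
  exact lt_of_le_of_lt (Set.ncard_image_le (Set.toFinite _))
    (Set.ncard_lt_ncard (Set.sdiff_singleton_ssubset.2 he) (Set.toFinite _))

end quot

/-- The fixed points are small modulo the centre. -/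
lemma relIndex_Cfix {α : MulAut G} (h : Good α) {m : ℕ} (hm : (E α).ncard ≤ m) :
    (Subgroup.center G).relIndex (Cfix α) ≤ m ! := by
  classical
  have hpres : ∀ c : ↥(Cfix α), ∀ x : G, x ∈ E α ↔ (MulAut.conj (c : G)).toEquiv x ∈ E α := by
    intro c x
    have hc : α (c : G) = c := c.2
    show x ∈ E α ↔ MulAut.conj (c : G) x ∈ E α
    simp only [E, Set.mem_setOf_eq, MulEquiv.orderOf_eq]
    refine and_congr Iff.rfl ?_
    simp only [MulAut.conj_apply, map_mul, map_inv, hc, mul_inv_rev, inv_inv]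
    refine ⟨fun hx => by rw [hx, mul_assoc], fun hx => ?_⟩
    exact mul_left_cancel (mul_right_cancel (hx.trans (mul_assoc _ _ _).symm))
  let Φ : ↥(Cfix α) →* Equiv.Perm ↥(E α) :=
    { toFun := fun c => (MulAut.conj (c : G)).toEquiv.subtypeEquiv (hpres c)
      map_one' := by ext x; simp
      map_mul' := fun a b => by ext x; simp [mul_assoc] }
  have hker : Φ.ker ≤ (Subgroup.center G).subgroupOf (Cfix α) := by
    intro c hc
    refine h.mem_center fun e he => ?_
    have h1 : (c : G) * e * (c : G)⁻¹ = e :=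
      congrArg Subtype.val (Equiv.Perm.ext_iff.1 (MonoidHom.mem_ker.1 hc) ⟨e, he⟩)
    exact (mul_inv_eq_iff_eq_mul.1 h1).symm
  refine (Nat.le_of_dvd (Nat.pos_of_ne_zero Subgroup.index_ne_zero_of_finite) (Subgroup.index_dvd_of_le hker)).trans ?_
  rw [Subgroup.index_ker]
  refine (Subgroup.card_le_card_group _).trans ?_
  rw [Nat.card_perm, Nat.card_coe_set_eq]
  exact Nat.factorial_le hm

/-- An invariant normal abelian `2`-subgroup is small modulo the centre. -/
lemma abelian_bound {α : MulAut G} (h : Good α) {m : ℕ} (hm : (E α).ncard ≤ m) {A : Subgroup G} [A.Normal]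
    (hAα : ∀ x ∈ A, α x ∈ A) (hA2 : IsPGroup 2 A) (hab : ∀ x ∈ A, ∀ y ∈ A, x * y = y * x) :
    (Subgroup.center G).relIndex A ≤ (m !) ^ (m + 1) := by
  classical
  set Z := Subgroup.center G with hZ
  let t : ↥A →* ↥(Cfix α) :=
    { toFun := fun x => ⟨(x : G) * α x, by
        rw [mem_Cfix, map_mul, h.inv]; exact hab _ (hAα _ x.2) _ x.2⟩
      map_one' := Subtype.ext (by simp)
      map_mul' := fun x y => Subtype.ext (by
        show (x : G) * y * α ((x : G) * y) = x * α x * (y * α y)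
        rw [map_mul, mul_assoc, ← mul_assoc (y : G) (α x), hab _ y.2 _ (hAα _ x.2), mul_assoc, ← mul_assoc]) }
  set I : Subgroup G := ((Z.subgroupOf (Cfix α)).comap t).map A.subtype with hI
  have hIA : I ≤ A := Subgroup.map_subtype_le _
  have hIi : I.relIndex A ≤ m ! := by
    rw [Subgroup.relIndex, hI, Subgroup.subgroupOf, Subgroup.comap_map_eq_self_of_injective A.subtype_injective,
      Subgroup.index_comap]
    refine le_trans (Nat.le_of_dvd (Nat.pos_of_ne_zero Subgroup.index_ne_zero_of_finite)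
      (Subgroup.relIndex_dvd_index_of_normal _ _)) (relIndex_Cfix h hm)
  have hmemI : ∀ x ∈ I, x ∈ A ∧ x * α x ∈ Z := by
    rintro _ ⟨x, hx, rfl⟩
    exact ⟨x.2, hx⟩
  choose f hf using fun e : ↥(E α) => exists_sqrt e.2
  set J := I ⊓ ⨅ e : ↥(E α), I.map (MulAut.conj (f e)).toMonoidHom with hJ
  have hJZ : J ≤ Z := by
    intro x hx
    refine h.mem_center fun e he => ?_
    obtain ⟨hxA, hw₁⟩ := hmemI x hx.1
    obtain ⟨y, hy, hyx⟩ := Subgroup.mem_iInf.1 hx.2 ⟨e, he⟩
    obtain ⟨hyA, hw₂⟩ := hmemI y hy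
    set g := f ⟨e, he⟩ with hg
    obtain ⟨hgg, hgi⟩ : g * g = e ∧ α g = g⁻¹ := hf ⟨e, he⟩
    have hyx' : g * y * g⁻¹ = x := hyx
    set w₁ := x * α x with hw₁d
    set w₂ := y * α y with hw₂d
    set z := w₁⁻¹ * w₂ with hz
    have hzZ : z ∈ Z := Z.mul_mem (Z.inv_mem hw₁) hw₂
    have hzA : z ∈ A := A.mul_mem (A.inv_mem (A.mul_mem hxA (hAα x hxA))) (A.mul_mem hyA (hAα y hyA))
    have e1 : x * (e * α x * e⁻¹) = w₂ := by
      have hax : α x = g⁻¹ * α y * g := by rw [← hyx', map_mul, map_mul, map_inv, hgi, inv_inv]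
      rw [hax, ← hgg, ← hyx']
      calc g * y * g⁻¹ * (g * g * (g⁻¹ * α y * g) * (g * g)⁻¹) = g * w₂ * g⁻¹ := by rw [hw₂d]; group
        _ = w₂ := by rw [(Subgroup.mem_center_iff.1 hw₂ g), mul_inv_cancel_right]
    have e2 : e * x⁻¹ * e⁻¹ = x⁻¹ * z := by
      have ha : α x = x⁻¹ * w₁ := by rw [hw₁d]; group
      rw [ha] at e1
      have h2 : e * (x⁻¹ * w₁) * e⁻¹ = x⁻¹ * w₂ := eq_inv_mul_iff_mul_eq.2 e1
      calc e * x⁻¹ * e⁻¹ = e * (x⁻¹ * w₁) * (w₁⁻¹ * e⁻¹) := by group
        _ = e * (x⁻¹ * w₁) * (e⁻¹ * w₁⁻¹) := by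
            rw [← Subgroup.mem_center_iff.1 (Z.inv_mem hw₁) e⁻¹]
        _ = x⁻¹ * (w₂ * w₁⁻¹) := by rw [← mul_assoc, h2, mul_assoc]
        _ = x⁻¹ * z := by rw [hz, Subgroup.mem_center_iff.1 (Z.inv_mem hw₁) w₂]
    have e3 : ∀ k : ℕ, e ^ k * x⁻¹ * (e ^ k)⁻¹ = x⁻¹ * z ^ k := by
      intro k
      induction k with
      | zero => simp
      | succ k ihk =>
        calc e ^ (k + 1) * x⁻¹ * (e ^ (k + 1))⁻¹ = e * (e ^ k * x⁻¹ * (e ^ k)⁻¹) * e⁻¹ := by
              rw [pow_succ']; group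
          _ = e * x⁻¹ * (z ^ k * e⁻¹) := by rw [ihk]; group
          _ = e * x⁻¹ * (e⁻¹ * z ^ k) := by rw [Subgroup.mem_center_iff.1 (Z.pow_mem hzZ k) e⁻¹]
          _ = x⁻¹ * z ^ (k + 1) := by rw [← mul_assoc, e2, pow_succ']; group
    have hz1 : z = 1 := by
      have h4 := e3 (orderOf e)
      rw [pow_orderOf_eq_one, one_mul, inv_one, mul_one, left_eq_mul] at h4
      obtain ⟨i, hi⟩ := hA2 ⟨z, hzA⟩
      have hi' : z ^ 2 ^ i = 1 := congrArg Subtype.val hi
      refine orderOf_eq_one_iff.1 (Nat.eq_one_of_dvd_coprimes ?_ (orderOf_dvd_of_pow_eq_one hi')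
        (orderOf_dvd_of_pow_eq_one h4))
      exact Nat.Coprime.pow_left _ he.1.coprime_two_left
    rw [hz1, mul_one, mul_inv_eq_iff_eq_mul] at e2
    simpa using (show Commute e x⁻¹ from e2).inv_right.eq
  refine (Subgroup.relIndex_le_of_le_left hJZ Subgroup.index_ne_zero_of_finite).trans ?_
  refine Subgroup.relIndex_inf_le.trans ?_
  rw [pow_succ']
  refine Nat.mul_le_mul hIi ?_
  haveI : Fintype ↥(E α) := Fintype.ofFinite _
  refine (Subgroup.relIndex_iInf_le _).trans ?_
  refine (Finset.prod_le_pow_card _ _ (m !) fun e _ => ?_).trans ?_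
  · have hmapA : A.map (MulAut.conj (f e)).toMonoidHom = A := by
      refine Subgroup.eq_of_le_of_card_ge ?_ (Subgroup.card_map_of_injective (MulAut.conj (f e)).injective).ge
      rintro _ ⟨a, ha, rfl⟩
      exact (inferInstance : A.Normal).conj_mem a ha _
    conv_lhs => rw [← hmapA]
    rw [Subgroup.relIndex_map_map_of_injective _ _ (MulAut.conj (f e)).injective]
    exact hIi
  · refine Nat.pow_le_pow_right (Nat.factorial_pos m) ?_
    rw [Finset.card_univ, ← Nat.card_eq_fintype_card, Nat.card_coe_set_eq]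
    exact hm

/-- Schur: bounded central index gives bounded order. -/
lemma schur_bound (m B : ℕ) : ∃ B' : ℕ, ∀ (G : Type u) [Group G] [Finite G] (α : MulAut G), Good α →
    (E α).ncard ≤ m → (Subgroup.center G).index ≤ B → Nat.card G ≤ B' := by
  classical
  refine ⟨(Finset.range (B * B + 1)).sup Subgroup.cardCommutatorBound * (m !) ^ m, ?_⟩
  intro G _ _ α h hm hB
  have hK : Nat.card (commutatorSet G) ≤ B * B := by
    let Ψ : (G ⧸ Subgroup.center G) × (G ⧸ Subgroup.center G) → commutatorSet G := fun q =>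
      ⟨⁅q.1.out, q.2.out⁆, q.1.out, q.2.out, rfl⟩
    have hΨ : Function.Surjective Ψ := by
      rintro ⟨_, a, b, rfl⟩
      refine ⟨(QuotientGroup.mk a, QuotientGroup.mk b), Subtype.ext ?_⟩
      obtain ⟨z, hz⟩ := QuotientGroup.mk_out_eq_mul (Subgroup.center G) a
      obtain ⟨w, hw⟩ := QuotientGroup.mk_out_eq_mul (Subgroup.center G) b
      show ⁅(QuotientGroup.mk a : G ⧸ Subgroup.center G).out, (QuotientGroup.mk b : G ⧸ Subgroup.center G).out⁆ = ⁅a, b⁆
      rw [hz, hw]
      simp only [commutatorElement_def]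
      have hz' := Subgroup.mem_center_iff.1 z.2
      have hw' := Subgroup.mem_center_iff.1 w.2
      calc a * (z : G) * (b * w) * (a * z)⁻¹ * (b * w)⁻¹
          = a * b * ((z : G) * w) * (a * z)⁻¹ * (b * w)⁻¹ := by rw [← mul_assoc, mul_assoc a, ← hz' b]; group
        _ = a * b * ((w : G) * (z : G)) * (z : G)⁻¹ * (a⁻¹ * (w : G)⁻¹) * b⁻¹ := by rw [hw' (z : G)]; group
        _ = a * b * ((w : G) * (z : G)) * (z : G)⁻¹ * ((w : G)⁻¹ * a⁻¹) * b⁻¹ := by
            rw [Subgroup.mem_center_iff.1 (inv_mem w.2) a⁻¹]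
        _ = a * b * a⁻¹ * b⁻¹ := by group
    refine (Nat.card_le_card_of_surjective Ψ hΨ).trans ?_
    rw [Nat.card_prod, ← Subgroup.index_eq_card]
    exact Nat.mul_le_mul hB hB
  have hA : Nat.card (Abelianization G) ≤ (m !) ^ m := by
    haveI : Finite (Abelianization G) := inferInstanceAs (Finite (G ⧸ commutator G))
    set S := (Set.toFinite (E α)).toFinset.image (Abelianization.of : G →* Abelianization G) with hS
    have hStop : Subgroup.closure (S : Set (Abelianization G)) = ⊤ := by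
      rw [hS, Finset.coe_image, Set.Finite.coe_toFinset, ← MonoidHom.map_closure, h.closure_E,
        Subgroup.map_top_of_surjective (Abelianization.of : G →* Abelianization G) (QuotientGroup.mk'_surjective (commutator G))]
    have hpow : ∀ g : Abelianization G, g ^ (m !) = 1 := by
      have : (⊤ : Subgroup (Abelianization G)) ≤ (powMonoidHom (m !)).ker := by
        rw [← hStop, Subgroup.closure_le]
        intro g hg
        obtain ⟨e, he, rfl⟩ := Finset.mem_image.1 hg
        rw [Set.Finite.mem_toFinset] at he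
        show Abelianization.of e ^ (m !) = 1
        rw [← map_pow, orderOf_dvd_iff_pow_eq_one.1 (Nat.dvd_factorial (orderOf_pos e)
          ((orderOf_le_ncard he).trans hm)), map_one]
      exact fun g => this (Subgroup.mem_top g)
    refine (Nat.le_of_dvd (pow_pos (Nat.factorial_pos m) _) (card_dvd_exponent_pow_rank' _ hpow)).trans ?_
    refine Nat.pow_le_pow_right (Nat.factorial_pos m) ((Group.rank_le hStop).trans ?_)
    refine Finset.card_image_le.trans ?_
    rw [← Set.ncard_eq_toFinset_card]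
    exact hm
  have hc := Subgroup.card_eq_card_quotient_mul_card_subgroup (commutator G)
  rw [hc, mul_comm]
  refine Nat.mul_le_mul ((Subgroup.card_commutator_le_of_finite_commutatorSet G).trans ?_) hA
  exact Finset.le_sup (Finset.mem_range.2 (by omega))

/-- A `2`-subgroup meeting the centre trivially is bounded. -/
lemma two_bound {α : MulAut G} (h : Good α) {m : ℕ} (hm : (E α).ncard ≤ m) {Q : Subgroup G} [Q.Normal]
    (hQα : ∀ x ∈ Q, α x ∈ Q) (hQ2 : IsPGroup 2 Q) (hQZ : Q ⊓ Subgroup.center G = ⊥) :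
    Nat.card Q ≤ (m !) ^ (m + 1) *
      (((m !) ^ (m + 1)) ^ (m + 1)) ^ (((m !) ^ (m + 1)) ^ (m + 1)) := by
  classical
  set K := (m !) ^ (m + 1) with hK
  have hsmall : ∀ A : Subgroup G, A.Normal → (∀ x ∈ A, α x ∈ A) → A ≤ Q →
      (∀ x ∈ A, ∀ y ∈ A, x * y = y * x) → Nat.card A ≤ K := by
    intro A hAn hAα hAQ hab
    haveI := hAn
    have h1 := abelian_bound h hm hAα (hQ2.to_le hAQ) hab
    rwa [← Subgroup.inf_relIndex_right, inf_comm, le_bot_iff.1 ((inf_le_inf_right _ hAQ).trans hQZ.le),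
      Subgroup.relIndex_bot_left] at h1
  obtain ⟨A, ⟨hAn, hAα, hAQ, hab⟩, hmax⟩ := (Set.toFinite {A : Subgroup G | A.Normal ∧ (∀ x ∈ A, α x ∈ A) ∧
      A ≤ Q ∧ ∀ x ∈ A, ∀ y ∈ A, x * y = y * x}).exists_maximal
    ⟨⊥, inferInstance, fun x hx => by rw [Subgroup.mem_bot.1 hx, map_one]; exact one_mem _, bot_le,
      fun x hx y hy => by rw [Subgroup.mem_bot.1 hx, Subgroup.mem_bot.1 hy]⟩
  haveI := hAn
  have hAK : Nat.card A ≤ K := hsmall A hAn hAα hAQ hab
  set f := QuotientGroup.mk' A with hf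
  haveI hQfn : (Q.map f).Normal := Subgroup.Normal.map inferInstance f (QuotientGroup.mk'_surjective A)
  set U := Q ⊓ Subgroup.centralizer (A : Set G) ⊓ (Subgroup.centralizer ((Q.map f : Subgroup (G ⧸ A)) : Set (G ⧸ A))).comap f
    with hU
  haveI hUn : U.Normal := inferInstance
  have hUmem : ∀ {x : G}, x ∈ U ↔ (x ∈ Q ∧ (∀ a ∈ A, a * x = x * a)) ∧ ∀ q ∈ Q, f q * f x = f x * f q := by
    intro x
    rw [hU, Subgroup.mem_inf, Subgroup.mem_inf, Subgroup.mem_centralizer_iff, Subgroup.mem_comap,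
      Subgroup.mem_centralizer_iff]
    refine and_congr Iff.rfl ⟨fun hh q hq => hh _ ⟨q, hq, rfl⟩, fun hh w hw => ?_⟩
    obtain ⟨q, hq, rfl⟩ := hw
    exact hh q hq
  have hfα : ∀ x y : G, f x = f y → f (α x) = f (α y) := by
    intro x y hxy
    rw [hf, QuotientGroup.mk'_apply, QuotientGroup.mk'_apply, QuotientGroup.eq] at hxy ⊢
    rw [← map_inv, ← map_mul]
    exact hAα _ hxy
  have hUα : ∀ x ∈ U, α x ∈ U := by
    intro x hx
    rw [hUmem] at hx ⊢
    refine ⟨⟨hQα x hx.1.1, fun a ha => ?_⟩, fun q hq => ?_⟩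
    · have := congrArg α (hx.1.2 (α a) (hAα a ha))
      rwa [map_mul, map_mul, h.inv] at this
    · have h2 := hx.2 (α q) (hQα q hq)
      rw [← map_mul, ← map_mul] at h2
      have := hfα _ _ h2
      simp only [map_mul, h.inv] at this
      exact this
  have hUQ : U ≤ Q := fun x hx => (hUmem.1 hx).1.1
  have hAU : A ≤ U := fun a ha => hUmem.2 ⟨⟨hAQ ha, fun b hb => hab b hb a ha⟩, fun q _ => by
    rw [hf, QuotientGroup.mk'_apply A a, (QuotientGroup.eq_one_iff a).2 ha, mul_one, one_mul]⟩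
  set D := Q ⊓ Subgroup.centralizer (U : Set G) with hD
  haveI : D.Normal := inferInstance
  have hDα : ∀ x ∈ D, α x ∈ D := by
    intro x hx
    refine ⟨hQα x hx.1, Subgroup.mem_centralizer_iff.2 fun u hu => ?_⟩
    have := congrArg α (Subgroup.mem_centralizer_iff.1 hx.2 (α u) (hUα u hu))
    rwa [map_mul, map_mul, h.inv] at this
  have hDA : D ≤ A := by
    by_contra hDA
    haveI : Fact (Nat.Prime 2) := ⟨Nat.prime_two⟩
    haveI : Group.IsNilpotent ↥(Q.map f) := (hQ2.map f).isNilpotent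
    haveI : ((D.map f).subgroupOf (Q.map f)).Normal :=
      (Subgroup.Normal.map inferInstance f (QuotientGroup.mk'_surjective A)).subgroupOf _
    have hne : (D.map f).subgroupOf (Q.map f) ≠ ⊥ := by
      rw [Ne, Subgroup.subgroupOf_eq_bot, disjoint_iff, inf_eq_left.2 (Subgroup.map_mono inf_le_left),
        Subgroup.map_eq_bot_iff, QuotientGroup.ker_mk']
      exact hDA
    obtain ⟨w, hw, hw1⟩ := (Subgroup.bot_or_exists_ne_one _).resolve_left
      (SolvStruct.inf_center_ne_bot (N := (D.map f).subgroupOf (Q.map f)) hne)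
    obtain ⟨x, hxD, hxw⟩ := hw.1
    have hxU : x ∈ U := hUmem.2 ⟨⟨hxD.1, fun a ha => Subgroup.mem_centralizer_iff.1 hxD.2 a (hAU ha)⟩,
      fun q hq => by
        have h3 := congrArg Subtype.val (Subgroup.mem_center_iff.1 hw.2 ⟨f q, Subgroup.mem_map_of_mem f hq⟩)
        simp only [Subgroup.coe_mul] at h3
        rwa [show (w : G ⧸ A) = f x from hxw.symm] at h3⟩
    have hle : U ⊓ Subgroup.centralizer (U : Set G) ≤ A := by
      refine hmax ⟨inferInstance, fun y hy => ⟨hUα y hy.1, ?_⟩, inf_le_left.trans hUQ,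
        fun y hy y' hy' => Subgroup.mem_centralizer_iff.1 hy'.2 y hy.1⟩ ?_
      · exact (hDα y ⟨hUQ hy.1, hy.2⟩).2
      · exact le_inf hAU fun a ha => Subgroup.mem_centralizer_iff.2 fun u hu => ((hUmem.1 hu).1.2 a ha).symm
    apply hw1
    refine Subtype.ext ?_
    rw [show (w : G ⧸ A) = f x from hxw.symm]
    exact (QuotientGroup.eq_one_iff x).2 (hle ⟨hxU, hxD.2⟩)
  -- the size of `U`
  have hgq := good_qa h A hAα
  haveI : (U.map f).Normal := Subgroup.Normal.map inferInstance f (QuotientGroup.mk'_surjective A)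
  have hU1 : (Subgroup.center (G ⧸ A)).relIndex (U.map f) ≤ K := by
    refine abelian_bound hgq ((ncard_qa_le h A hAα).trans hm) ?_ ((hQ2.to_le hUQ).map f) ?_
    · rintro _ ⟨x, hx, rfl⟩
      exact ⟨α x, hUα x hx, rfl⟩
    · rintro _ ⟨x, hx, rfl⟩ _ ⟨y, hy, rfl⟩
      exact (hUmem.1 hy).2 x (hUQ hx)
  set U1 := U ⊓ (Subgroup.center (G ⧸ A)).comap f with hU1d
  have hU1c : Nat.card U1 ≤ K ^ m := by
    have hcomm : ∀ x ∈ U1, ∀ e : G, x * e * x⁻¹ * e⁻¹ ∈ A := by
      intro x hx e
      have h3 := Subgroup.mem_center_iff.1 hx.2 (f e)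
      rw [← QuotientGroup.eq_one_iff, ← QuotientGroup.mk'_apply A, ← hf, map_mul, map_mul, map_mul, map_inv, map_inv,
        ← h3]
      group
    let Λ : ↥U1 → (↥(E α) → ↥A) := fun x e => ⟨_, hcomm x x.2 e⟩
    have hΛ : Function.Injective Λ := by
      intro x y hxy
      have h4 : (y : G)⁻¹ * x ∈ Q ⊓ Subgroup.center G := by
        refine ⟨Q.mul_mem (Q.inv_mem (hUQ y.2.1)) (hUQ x.2.1), h.mem_center fun e he => ?_⟩
        have h5 : (x : G) * e * (x : G)⁻¹ * e⁻¹ = y * e * (y : G)⁻¹ * e⁻¹ :=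
          congrArg Subtype.val (congrFun hxy ⟨e, he⟩)
        rw [mul_left_inj] at h5
        calc e * ((y : G)⁻¹ * x) = (y : G)⁻¹ * (y * e * (y : G)⁻¹) * x := by group
          _ = (y : G)⁻¹ * (x * e * (x : G)⁻¹) * x := by rw [h5]
          _ = (y : G)⁻¹ * x * e := by group
      rw [hQZ, Subgroup.mem_bot, inv_mul_eq_one] at h4
      exact Subtype.ext h4.symm
    refine (Nat.card_le_card_of_injective Λ hΛ).trans ?_
    rw [Nat.card_fun, Nat.card_coe_set_eq]
    exact (Nat.pow_le_pow_left hAK _).trans (Nat.pow_le_pow_right (pow_pos (Nat.factorial_pos m) _) hm)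
  have hUc : Nat.card U ≤ K ^ (m + 1) := by
    rw [← Subgroup.relIndex_comap, ← Subgroup.inf_relIndex_left, ← hU1d] at hU1
    rw [← (U1.subgroupOf U).card_mul_index, pow_succ]
    refine Nat.mul_le_mul (le_of_eq_of_le ?_ hU1c) hU1
    exact Nat.card_congr (Subgroup.subgroupOfEquivOfLe inf_le_left).toEquiv
  -- the action on `U`
  let Θ : ↥Q → (↥U → ↥U) := fun q u => MulAut.conjNormal (q : G) u
  have hQle : Nat.card Q ≤ Nat.card A * Nat.card (↥U → ↥U) := by
    let s : (↥U → ↥U) → ↥Q := fun w => if hw : ∃ q, Θ q = w then hw.choose else 1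
    have hs : ∀ q, Θ (s (Θ q)) = Θ q := fun q => by
      simp only [s, dif_pos (⟨q, rfl⟩ : ∃ q', Θ q' = Θ q)]
      exact (⟨q, rfl⟩ : ∃ q', Θ q' = Θ q).choose_spec
    have hmem : ∀ q : ↥Q, ((s (Θ q) : G))⁻¹ * q ∈ A := by
      intro q
      refine hDA ⟨Q.mul_mem (Q.inv_mem (s (Θ q)).2) q.2, Subgroup.mem_centralizer_iff.2 fun u hu => ?_⟩
      have h6 : (s (Θ q) : G) * u * (s (Θ q) : G)⁻¹ = q * u * (q : G)⁻¹ := by
        have := congrArg Subtype.val (congrFun (hs q) ⟨u, hu⟩)
        simpa [Θ, MulAut.conjNormal_apply] using this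
      calc u * ((s (Θ q) : G)⁻¹ * q) = (s (Θ q) : G)⁻¹ * ((s (Θ q) : G) * u * (s (Θ q) : G)⁻¹) * q := by group
        _ = (s (Θ q) : G)⁻¹ * (q * u * (q : G)⁻¹) * q := by rw [h6]
        _ = (s (Θ q) : G)⁻¹ * q * u := by group
    rw [← Nat.card_prod]
    refine Nat.card_le_card_of_injective (fun q => ((⟨_, hmem q⟩ : ↥A), Θ q)) fun q q' hqq => ?_
    obtain ⟨h7, h8⟩ := Prod.ext_iff.1 hqq
    simp only [Subtype.ext_iff] at h7
    rw [show Θ q = Θ q' from h8] at h7
    exact Subtype.ext (mul_left_cancel h7)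
  refine hQle.trans (Nat.mul_le_mul hAK ?_)
  rw [Nat.card_fun]
  exact (Nat.pow_le_pow_left hUc _).trans (Nat.pow_le_pow_right (pow_pos (pow_pos (Nat.factorial_pos m) _) _) hUc)

/-- A bounded index normal `2`-subgroup gives bounded central index. -/
lemma center_index_bound {α : MulAut G} (h : Good α) {m B : ℕ} (hm : (E α).ncard ≤ m) {Q : Subgroup G} [Q.Normal]
    (hQα : ∀ x ∈ Q, α x ∈ Q) (hQ2 : IsPGroup 2 Q) (hQB : Q.index ≤ B) :
    (Subgroup.center G).index ≤ (m !) ^ (m + 1) *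
      (((m !) ^ (m + 1)) ^ (m + 1)) ^ (((m !) ^ (m + 1)) ^ (m + 1)) * B := by
  classical
  set Z := Subgroup.center G with hZ
  set W := Q ⊓ Z with hW
  have hWα : ∀ x ∈ W, α x ∈ W := fun x hx => ⟨hQα x hx.1, by
    show α x ∈ Subgroup.center G
    rw [Subgroup.mem_center_iff]
    intro g
    rw [← h.inv g, ← map_mul, ← map_mul, Subgroup.mem_center_iff.1 hx.2]⟩
  set f := QuotientGroup.mk' W with hf
  haveI : (Q.map f).Normal := Subgroup.Normal.map inferInstance f (QuotientGroup.mk'_surjective W)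
  have hQZ : Q.map f ⊓ Subgroup.center (G ⧸ W) = ⊥ := by
    rw [eq_bot_iff]
    rintro _ ⟨⟨x, hx, rfl⟩, hc⟩
    rw [Subgroup.mem_bot]
    refine (QuotientGroup.eq_one_iff x).2 ⟨hx, h.mem_center fun e he => ?_⟩
    have h1 := Subgroup.mem_center_iff.1 hc (f e)
    set z := x⁻¹ * (e * x * e⁻¹) with hz
    have hzW : z ∈ W := by
      rw [← QuotientGroup.eq_one_iff, ← QuotientGroup.mk'_apply W, ← hf, hz]
      simp only [map_mul, map_inv]
      rw [h1]; group
    have e2 : e * x * e⁻¹ = x * z := by rw [hz]; group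
    have e3 : ∀ k : ℕ, e ^ k * x * (e ^ k)⁻¹ = x * z ^ k := by
      intro k
      induction k with
      | zero => simp
      | succ k ihk =>
        calc e ^ (k + 1) * x * (e ^ (k + 1))⁻¹ = e * (e ^ k * x * (e ^ k)⁻¹) * e⁻¹ := by rw [pow_succ']; group
          _ = e * x * (z ^ k * e⁻¹) := by rw [ihk]; group
          _ = e * x * (e⁻¹ * z ^ k) := by rw [Subgroup.mem_center_iff.1 (Z.pow_mem hzW.2 k) e⁻¹]
          _ = x * z ^ (k + 1) := by rw [← mul_assoc, e2, pow_succ']; group
    have h4 := e3 (orderOf e)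
    rw [pow_orderOf_eq_one, one_mul, inv_one, mul_one, left_eq_mul] at h4
    obtain ⟨i, hi⟩ := hQ2 ⟨z, hzW.1⟩
    have hi' : z ^ 2 ^ i = 1 := congrArg Subtype.val hi
    have hz1 : z = 1 := orderOf_eq_one_iff.1 (Nat.eq_one_of_dvd_coprimes
      (Nat.Coprime.pow_left _ he.1.coprime_two_left) (orderOf_dvd_of_pow_eq_one hi') (orderOf_dvd_of_pow_eq_one h4))
    rw [hz1, mul_one, mul_inv_eq_iff_eq_mul] at e2
    exact e2
  have hb := two_bound (good_qa h W hWα) ((ncard_qa_le h W hWα).trans hm) (Q := Q.map f)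
    (by rintro _ ⟨x, hx, rfl⟩; exact ⟨α x, hQα x hx, rfl⟩) (hQ2.map f) hQZ
  refine (Nat.le_of_dvd (Nat.pos_of_ne_zero Subgroup.index_ne_zero_of_finite)
    (Subgroup.index_dvd_of_le (inf_le_right : W ≤ Z))).trans ?_
  rw [Subgroup.index_eq_card W, ← (Q.map f).card_mul_index]
  refine Nat.mul_le_mul hb ?_
  rwa [Subgroup.index_map_eq _ (QuotientGroup.mk'_surjective W) (by rw [QuotientGroup.ker_mk']; exact inf_le_left)]

/-- Brauer–Fowler counting. -/
lemma exists_small_index [Nontrivial G] (α : MulAut G) (hinv : ∀ g, α (α g) = g) :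
    ∃ x : G, x ≠ 1 ∧ (Subgroup.centralizer ({x} : Set G)).index ≤ 2 * Nat.card (Cfix α) ^ 2 := by
  classical
  haveI : Fintype G := Fintype.ofFinite G
  obtain ⟨x₀, hx₀⟩ := exists_ne (1 : G)
  obtain ⟨x, hx, hmax⟩ := Set.exists_max_image {x : G | x ≠ 1}
    (fun x => Nat.card (Subgroup.centralizer ({x} : Set G))) (Set.toFinite _) ⟨x₀, hx₀⟩
  refine ⟨x, hx, ?_⟩
  set M := Nat.card (Subgroup.centralizer ({x} : Set G)) with hM
  set c := Nat.card (Cfix α) with hc
  set I := Finset.univ.image (phi α) with hI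
  have h1 : Nat.card G ≤ I.card * c := by
    have hmem : ∀ g : G, (Function.invFun (phi α) (phi α g))⁻¹ * g ∈ Cfix α := by
      intro g
      set s := Function.invFun (phi α) (phi α g) with hs
      have h2 : phi α s = phi α g := Function.invFun_eq ⟨g, rfl⟩
      rw [mem_Cfix, map_mul, map_inv]
      unfold phi at h2
      calc (α s)⁻¹ * α g = s⁻¹ * (s * (α s)⁻¹) * α g := by group
        _ = s⁻¹ * g := by rw [h2]; group
    rw [hc, ← Nat.card_eq_finsetCard, ← Nat.card_prod]
    refine Nat.card_le_card_of_injective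
      (fun g => ((⟨phi α g, Finset.mem_image_of_mem _ (Finset.mem_univ g)⟩ : ↥I), (⟨_, hmem g⟩ : ↥(Cfix α)))) ?_
    intro g g' hgg
    obtain ⟨h2, h3⟩ := Prod.ext_iff.1 hgg
    simp only [Subtype.ext_iff] at h2 h3
    rw [h2] at h3
    exact mul_left_cancel h3
  have hIinv : ∀ u ∈ I, α u = u⁻¹ := by
    intro u hu
    obtain ⟨g, -, rfl⟩ := Finset.mem_image.1 hu
    exact phi_inverted hinv g
  have hfib : ∀ y : G, y ≠ 1 → ((I ×ˢ I).filter (fun p => p.1 * p.2 = y)).card ≤ M := by
    intro y hy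
    rcases ((I ×ˢ I).filter (fun p => p.1 * p.2 = y)).eq_empty_or_nonempty with he | ⟨p₀, hp₀⟩
    · rw [he, Finset.card_empty]; exact Nat.zero_le _
    obtain ⟨hp₀I, hp₀y⟩ := Finset.mem_filter.1 hp₀
    rw [Finset.mem_product] at hp₀I
    have key : ∀ p ∈ (I ×ˢ I).filter (fun p => p.1 * p.2 = y), p.1 * p₀.1⁻¹ ∈ Subgroup.centralizer ({y} : Set G) := by
      intro p hp
      obtain ⟨hpI, hpy⟩ := Finset.mem_filter.1 hp
      rw [Finset.mem_product] at hpI
      have a1 : α y = p.1⁻¹ * y⁻¹ * p.1 := by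
        rw [← hpy, map_mul, hIinv _ hpI.1, hIinv _ hpI.2]; group
      have a2 : α y = p₀.1⁻¹ * y⁻¹ * p₀.1 := by
        rw [← hp₀y, map_mul, hIinv _ hp₀I.1, hIinv _ hp₀I.2]; group
      rw [Subgroup.mem_centralizer_singleton_iff]
      have a3 : p.1⁻¹ * y * p.1 = p₀.1⁻¹ * y * p₀.1 := by
        have := congrArg (fun w => w⁻¹) (a1.symm.trans a2)
        simpa [mul_assoc] using this
      calc p.1 * p₀.1⁻¹ * y = p.1 * (p₀.1⁻¹ * y * p₀.1) * p₀.1⁻¹ := by group
        _ = p.1 * (p.1⁻¹ * y * p.1) * p₀.1⁻¹ := by rw [a3]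
        _ = y * (p.1 * p₀.1⁻¹) := by group
    refine le_trans ?_ (hmax y hy)
    rw [← Nat.card_eq_finsetCard]
    refine Nat.card_le_card_of_injective (fun p => (⟨_, key p.1 p.2⟩ : ↥(Subgroup.centralizer ({y} : Set G)))) ?_
    intro p q hpq
    simp only [Subtype.ext_iff, mul_left_inj] at hpq
    refine Subtype.ext (Prod.ext hpq ?_)
    have h3 := (Finset.mem_filter.1 p.2).2.trans (Finset.mem_filter.1 q.2).2.symm
    rw [hpq] at h3
    exact mul_left_cancel h3
  have hfib1 : ((I ×ˢ I).filter (fun p => p.1 * p.2 = 1)).card ≤ Nat.card G := by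
    refine le_trans (Finset.card_le_card_of_injOn Prod.fst (fun p _ => Finset.mem_univ _) ?_)
      (le_of_eq ((Finset.card_univ).trans Nat.card_eq_fintype_card.symm))
    intro p hp q hq hpq
    simp only [Finset.coe_filter, Set.mem_setOf_eq] at hp hq
    refine Prod.ext hpq (mul_left_cancel (a := p.1) ?_)
    rw [hp.2, hpq, hq.2]
  have hsum : I.card * I.card ≤ Nat.card G + Nat.card G * M := by
    rw [← Finset.card_product, Finset.card_eq_sum_card_fiberwise (s := I ×ˢ I) (f := fun p => p.1 * p.2)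
      (t := Finset.univ) (fun p _ => Finset.mem_univ _), ← Finset.add_sum_erase _ _ (Finset.mem_univ (1 : G))]
    refine Nat.add_le_add hfib1 ((Finset.sum_le_card_nsmul _ _ M fun y hy => hfib y (Finset.ne_of_mem_erase hy)).trans ?_)
    rw [smul_eq_mul, Nat.card_eq_fintype_card, ← Finset.card_univ]
    exact Nat.mul_le_mul_right _ (Finset.card_le_card (Finset.erase_subset _ _))
  have hn : Nat.card G ≤ c ^ 2 * (1 + M) := by
    refine Nat.le_of_mul_le_mul_left ?_ (Nat.card_pos (α := G))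
    calc Nat.card G * Nat.card G ≤ (I.card * c) * (I.card * c) := Nat.mul_le_mul h1 h1
      _ = c ^ 2 * (I.card * I.card) := by ring
      _ ≤ c ^ 2 * (Nat.card G + Nat.card G * M) := Nat.mul_le_mul_left _ hsum
      _ = Nat.card G * (c ^ 2 * (1 + M)) := by ring
  have hMpos : 0 < M := Nat.card_pos
  refine Nat.le_of_mul_le_mul_left ?_ hMpos
  rw [hM, Subgroup.card_mul_index, ← hM]
  calc Nat.card G ≤ c ^ 2 * (1 + M) := hn
    _ ≤ c ^ 2 * (2 * M) := Nat.mul_le_mul_left _ (by omega)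
    _ = M * (2 * c ^ 2) := by ring

/-- A minimal invariant normal subgroup containing an inverted element of odd order is bounded. -/
lemma minimal_bound {α : MulAut G} (h : Good α) {m : ℕ} (hm : (E α).ncard ≤ m) {N : Subgroup G} [N.Normal]
    (hNα : ∀ x ∈ N, α x ∈ N)
    (hmin : ∀ K : Subgroup G, K.Normal → (∀ x ∈ K, α x ∈ K) → K ≤ N → K = ⊥ ∨ K = N)
    {e : G} (he : e ∈ E α) (he1 : e ≠ 1) (heN : e ∈ N) :
    Nat.card N ≤ m + m ! * m + ((2 * (m !) ^ 2) ! + 1) ^ (2 * m !) := by
  classical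
  by_cases hNZ : N ⊓ Subgroup.center G = ⊥
  swap
  · refine le_trans ?_ (Nat.le_add_right_of_le (Nat.le_add_right _ _))
    have hNc : N ≤ Subgroup.center G := by
      refine inf_eq_left.1 ((hmin (N ⊓ Subgroup.center G) inferInstance (fun x hx => ⟨hNα x hx.1, ?_⟩) inf_le_left).resolve_left hNZ)
      show α x ∈ Subgroup.center G
      rw [Subgroup.mem_center_iff]
      intro g
      rw [← h.inv g, ← map_mul, ← map_mul, Subgroup.mem_center_iff.1 hx.2]
    let I : Subgroup G :=
      { carrier := {x | x ∈ N ∧ Odd (orderOf x) ∧ α x = x⁻¹}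
        one_mem' := ⟨one_mem N, by simp, by simp⟩
        mul_mem' := fun {x y} hx hy => by
          have hc : Commute x y := Subgroup.mem_center_iff.1 (hNc hy.1) x
          refine ⟨N.mul_mem hx.1 hy.1, Odd.of_dvd_nat (hx.2.1.mul hy.2.1) hc.orderOf_mul_dvd_mul_orderOf, ?_⟩
          rw [map_mul, hx.2.2, hy.2.2, mul_inv_rev]
          exact hc.inv_inv.eq
        inv_mem' := fun {x} hx => ⟨N.inv_mem hx.1, by rw [orderOf_inv]; exact hx.2.1, by rw [map_inv, hx.2.2]⟩ }
    haveI : I.Normal := ⟨fun x hx g => by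
      rw [Subgroup.mem_center_iff.1 (hNc hx.1) g, mul_inv_cancel_right]; exact hx⟩
    have hI : I = N := (hmin I inferInstance (fun x hx => by rw [hx.2.2]; exact I.inv_mem hx) fun x hx => hx.1).resolve_left
      fun hb => he1 (Subgroup.mem_bot.1 (hb ▸ (show e ∈ I from ⟨heN, he.1, he.2⟩)))
    have hsub : (N : Set G) ⊆ E α := by
      intro x hx
      have hx' : x ∈ I := hI.symm ▸ hx
      exact ⟨hx'.2.1, hx'.2.2⟩
    have := Set.ncard_le_ncard hsub (Set.toFinite _)
    rw [← Nat.card_coe_set_eq, SetLike.coe_sort_coe] at this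
    exact this.trans hm
  have hC : Nat.card ↥(N ⊓ Cfix α) ≤ m ! := by
    refine le_trans ?_ (relIndex_Cfix h hm)
    rw [Subgroup.relIndex, Subgroup.index_eq_card]
    refine Nat.card_le_card_of_injective (fun x => QuotientGroup.mk (⟨x, x.2.2⟩ : ↥(Cfix α))) ?_
    intro x y hxy
    have h0 : (⟨x, x.2.2⟩ : ↥(Cfix α))⁻¹ * ⟨y, y.2.2⟩ ∈ (Subgroup.center G).subgroupOf (Cfix α) :=
      QuotientGroup.eq.1 hxy
    have h1 : ((x : G))⁻¹ * y ∈ N ⊓ Subgroup.center G :=
      ⟨N.mul_mem (N.inv_mem x.2.1) y.2.1, h0⟩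
    rw [hNZ, Subgroup.mem_bot, inv_mul_eq_one] at h1
    exact Subtype.ext h1
  by_cases hab : ∀ x ∈ N, ∀ y ∈ N, x * y = y * x
  · refine le_trans ?_ (Nat.le_add_right_of_le (Nat.le_add_left _ _))
    let T : Subgroup G :=
      { carrier := {x | x ∈ N ∧ x * x = 1}
        one_mem' := ⟨one_mem N, one_mul 1⟩
        mul_mem' := fun {x y} hx hy => ⟨N.mul_mem hx.1 hy.1, by
          calc x * y * (x * y) = x * (y * x) * y := by group
            _ = x * (x * y) * y := by rw [hab y hy.1 x hx.1]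
            _ = (x * x) * (y * y) := by group
            _ = 1 := by rw [hx.2, hy.2, one_mul]⟩
        inv_mem' := fun {x} hx => ⟨N.inv_mem hx.1, by rw [← mul_inv_rev, hx.2, inv_one]⟩ }
    haveI : T.Normal := ⟨fun x hx g => ⟨(inferInstance : N.Normal).conj_mem x hx.1 g, by
      calc g * x * g⁻¹ * (g * x * g⁻¹) = g * (x * x) * g⁻¹ := by group
        _ = 1 := by rw [hx.2]; group⟩⟩
    have hT : T = ⊥ := (hmin T inferInstance (fun x hx => ⟨hNα x hx.1, by rw [← map_mul, hx.2, map_one]⟩)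
      fun x hx => hx.1).resolve_right fun ht => he1 (by
        have h1 : e ∈ T := ht.symm ▸ heN
        have h2 : orderOf e ∣ 2 := orderOf_dvd_of_pow_eq_one (by rw [sq]; exact h1.2)
        exact orderOf_eq_one_iff.1 ((Nat.dvd_prime Nat.prime_two).1 h2 |>.resolve_right
          fun h3 => absurd he.1 (by rw [h3]; decide)))
    have hodd : ∀ x ∈ N, Odd (orderOf x) := by
      intro x hx
      by_contra hev
      rw [Nat.not_odd_iff_even, even_iff_two_dvd] at hev
      obtain ⟨k, hk⟩ := hev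
      have hk' : x ^ k ∈ T := ⟨N.pow_mem hx k, by rw [← pow_add, ← two_mul, ← hk, pow_orderOf_eq_one]⟩
      rw [hT, Subgroup.mem_bot] at hk'
      have hpos := orderOf_pos x
      have := Nat.le_of_dvd (by omega) (orderOf_dvd_of_pow_eq_one hk')
      omega
    let t : ↥N →* ↥(N ⊓ Cfix α) :=
      { toFun := fun x => ⟨(x : G) * α x, N.mul_mem x.2 (hNα _ x.2), by
          show α ((x : G) * α x) = x * α x
          rw [map_mul, h.inv]; exact hab _ (hNα _ x.2) _ x.2⟩
        map_one' := Subtype.ext (by simp)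
        map_mul' := fun x y => Subtype.ext (by
          show (x : G) * y * α ((x : G) * y) = x * α x * (y * α y)
          rw [map_mul, mul_assoc, ← mul_assoc (y : G) (α x), hab _ y.2 _ (hNα _ x.2), mul_assoc, ← mul_assoc]) }
    rw [← t.ker.card_mul_index, Subgroup.index_ker, mul_comm]
    refine Nat.mul_le_mul ((Subgroup.card_le_card_group _).trans hC) (le_trans ?_ hm)
    rw [← Nat.card_coe_set_eq]
    refine Nat.card_le_card_of_injective (fun x => (⟨((x : ↥N) : G), hodd _ (x : ↥N).2, ?_⟩ : ↥(E α))) ?_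
    · exact eq_inv_of_mul_eq_one_right (congrArg Subtype.val (MonoidHom.mem_ker.1 x.2))
    · intro x y hxy
      simp only [Subtype.ext_iff] at hxy
      exact Subtype.ext (Subtype.ext hxy)
  refine le_trans ?_ (Nat.le_add_left _ _)
  -- a nonabelian one
  set β := ra α h.inv N hNα with hβ
  have hβinv : ∀ x, β (β x) = x := fun x => Subtype.ext (h.inv x)
  have hc : Nat.card (Cfix β) ≤ m ! := by
    refine le_trans ?_ hC
    refine Nat.card_le_card_of_injective
      (fun x => (⟨((x : ↥N) : G), (x : ↥N).2, congrArg Subtype.val x.2⟩ : ↥(N ⊓ Cfix α))) ?_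
    intro x y hxy
    simp only [Subtype.ext_iff] at hxy
    exact Subtype.ext (Subtype.ext hxy)
  -- subgroups of `N` invariant under all of `G` and `α` are trivial
  have hinvar : ∀ L : Subgroup ↥N, (∀ g : G, ∀ x ∈ L, MulAut.conjNormal g x ∈ L) → (∀ x ∈ L, β x ∈ L) →
      L = ⊥ ∨ L = ⊤ := by
    intro L hL1 hL2
    haveI : (L.map N.subtype).Normal := ⟨by
      rintro _ ⟨x, hx, rfl⟩ g
      exact ⟨_, hL1 g x hx, MulAut.conjNormal_apply g x⟩⟩
    rcases hmin (L.map N.subtype) inferInstance (by rintro _ ⟨x, hx, rfl⟩; exact ⟨β x, hL2 x hx, rfl⟩)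
      (Subgroup.map_subtype_le L) with hb | ht
    · left
      rwa [Subgroup.map_eq_bot_iff_of_injective _ N.subtype_injective] at hb
    · right
      rw [← Subgroup.comap_map_eq_self_of_injective N.subtype_injective L, ht]
      exact Subgroup.subgroupOf_self N
  have hZ : Subgroup.center ↥N = ⊥ := by
    refine (hinvar _ (fun g x hx => ?_) (fun x hx => ?_)).resolve_right fun ht => hab fun x hx y hy => ?_
    · rw [Subgroup.mem_center_iff] at hx ⊢
      intro v
      rw [← (MulAut.conjNormal (H := N) g).apply_symm_apply v, ← map_mul, ← map_mul, hx]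
    · rw [Subgroup.mem_center_iff] at hx ⊢
      intro v
      rw [← β.apply_symm_apply v, ← map_mul, ← map_mul, hx]
    · have h1 : (⟨y, hy⟩ : ↥N) ∈ Subgroup.center ↥N := ht ▸ Subgroup.mem_top _
      exact congrArg Subtype.val (Subgroup.mem_center_iff.1 h1 ⟨x, hx⟩)
  haveI : Nontrivial ↥N := ⟨⟨e, heN⟩, 1, fun hh => he1 (congrArg Subtype.val hh)⟩
  obtain ⟨x₁, hx₁, hidx⟩ := exists_small_index β hβinv
  set K := (2 * (m !) ^ 2) ! + 1 with hK
  -- the intersection of the normal subgroups of small index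
  set L₀ : Subgroup ↥N := sInf {M : Subgroup ↥N | M.Normal ∧ M.index ≤ K} with hL₀
  have hL₀inv : ∀ γ : MulAut ↥N, ∀ x ∈ L₀, γ x ∈ L₀ := by
    intro γ x hx
    rw [hL₀, Subgroup.mem_sInf] at hx ⊢
    intro M hM
    refine hx (M.comap γ.toMonoidHom) ⟨hM.1.comap _, ?_⟩
    rw [Subgroup.index_comap_of_surjective _ γ.surjective]
    exact hM.2
  have hL₀ : L₀ = ⊥ := by
    refine (hinvar L₀ (fun g x hx => hL₀inv _ x hx) (fun x hx => hL₀inv _ x hx)).resolve_right fun ht => ?_
    set C := (Subgroup.centralizer ({x₁} : Set ↥N)).normalCore with hCd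
    have h1 : C.index ≤ K := by
      refine le_trans ?_ (Nat.le_succ_of_le (Nat.factorial_le (hidx.trans
        (Nat.mul_le_mul_left 2 (Nat.pow_le_pow_left hc 2)))))
      rw [hCd, Subgroup.normalCore_eq_ker, Subgroup.index_ker]
      refine (Subgroup.card_le_card_group _).trans (le_of_eq ?_)
      rw [Nat.card_perm, Subgroup.index_eq_card]
    have h2 : C = ⊤ := top_le_iff.1 (ht ▸ sInf_le ⟨Subgroup.normalCore_normal _, h1⟩)
    apply hx₁
    rw [← Subgroup.mem_bot, ← hZ, Subgroup.mem_center_iff]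
    intro v
    exact Subgroup.mem_centralizer_singleton_iff.1 (Subgroup.normalCore_le _ (h2 ▸ Subgroup.mem_top v : v ∈ C))
  -- minimal normal subgroups of `N`
  set 𝒮 : Set (Subgroup ↥N) := {S | S.Normal ∧ S ≠ ⊥ ∧ ∀ T : Subgroup ↥N, T.Normal → T ≤ S → T = ⊥ ∨ T = S} with h𝒮
  have h𝒮map : ∀ γ : MulAut ↥N, ∀ S ∈ 𝒮, S.map γ.toMonoidHom ∈ 𝒮 := by
    rintro γ S ⟨hS1, hS2, hS3⟩
    refine ⟨hS1.map _ γ.surjective, by rwa [Ne, Subgroup.map_eq_bot_iff_of_injective _ γ.injective], fun T hT hTS => ?_⟩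
    have h1 : T.comap γ.toMonoidHom ≤ S := by
      intro x hx
      obtain ⟨y, hy, hyx⟩ := hTS hx
      exact γ.injective hyx ▸ hy
    rcases hS3 _ (hT.comap _) h1 with hb | hs
    · left; rw [← Subgroup.map_comap_eq_self_of_surjective (f := γ.toMonoidHom) γ.surjective T]
      exact (congrArg _ hb).trans (Subgroup.map_bot _)
    · right; rw [← Subgroup.map_comap_eq_self_of_surjective (f := γ.toMonoidHom) γ.surjective T]
      exact congrArg _ hs
  have hinvS : ∀ γ : MulAut ↥N, ∀ x ∈ sSup 𝒮, γ x ∈ sSup 𝒮 := by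
    intro γ x hx
    have h1 : sSup 𝒮 ≤ (sSup 𝒮).comap γ.toMonoidHom :=
      sSup_le fun S hS => Subgroup.map_le_iff_le_comap.1 (le_sSup (h𝒮map γ S hS))
    exact h1 hx
  have hsup : sSup 𝒮 = ⊤ := by
    refine (hinvar _ (fun g x hx => hinvS _ x hx) (fun x hx => hinvS _ x hx)).resolve_left fun hb => ?_
    obtain ⟨S, hS1, hS2, -, hS3⟩ := LEWielandt.exists_minimal_normal (N := (⊤ : Subgroup ↥N)) inferInstance top_ne_bot
    exact hS2 (le_bot_iff.1 (hb ▸ le_sSup ⟨hS1, hS2, hS3⟩))
  have hScard : ∀ S ∈ 𝒮, Nat.card S ≤ K := by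
    rintro S ⟨hS1, hS2, hS3⟩
    obtain ⟨M, ⟨hM1, hM2⟩, hSM⟩ : ∃ M ∈ {M : Subgroup ↥N | M.Normal ∧ M.index ≤ K}, ¬ S ≤ M := by
      by_contra hh
      push Not at hh
      exact hS2 (le_bot_iff.1 (hL₀ ▸ le_sInf hh))
    haveI := hM1
    haveI := hS1
    have hinf : S ⊓ M = ⊥ := (hS3 _ inferInstance inf_le_left).resolve_right fun hh => hSM (hh ▸ inf_le_right)
    refine le_trans ?_ hM2
    rw [Subgroup.index_eq_card]
    refine Nat.card_le_card_of_injective (fun s => QuotientGroup.mk (s : ↥N)) fun s s' hss => ?_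
    have h1 : (s : ↥N)⁻¹ * s' ∈ S ⊓ M := ⟨S.mul_mem (S.inv_mem s.2) s'.2, QuotientGroup.eq.1 hss⟩
    rw [hinf, Subgroup.mem_bot, inv_mul_eq_one] at h1
    exact Subtype.ext h1
  have hcommS : ∀ S ∈ 𝒮, ∀ T ∈ 𝒮, S ≠ T → ∀ s ∈ S, ∀ t ∈ T, Commute s t := by
    intro S hS T hT hne s hs t ht
    haveI := hS.1
    haveI := hT.1
    refine Subgroup.commute_of_normal_of_disjoint S T hS.1 hT.1 ?_ s t hs ht
    rw [disjoint_iff]
    refine (hS.2.2 (S ⊓ T) inferInstance inf_le_left).resolve_right fun hh => hne ?_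
    exact ((hT.2.2 S hS.1 (hh ▸ inf_le_right)).resolve_left hS.2.1)
  have hbS : ∀ S : Subgroup ↥N, (S.map β.toMonoidHom).map β.toMonoidHom = S := by
    intro S
    rw [Subgroup.map_map]
    conv_rhs => rw [← Subgroup.map_id S]
    congr 1
    exact MonoidHom.ext hβinv
  -- a nontrivial fixed point from each minimal normal subgroup
  have hfix : ∀ S ∈ 𝒮, ∃ w : ↥N, w ≠ 1 ∧ β w = w ∧ w ∈ S ⊔ S.map β.toMonoidHom := by
    intro S hS
    obtain ⟨s, hs, hs1⟩ := (Subgroup.bot_or_exists_ne_one S).resolve_left hS.2.1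
    by_cases he' : S.map β.toMonoidHom = S
    · by_contra hh
      push Not at hh
      apply hS.2.1
      have hmem : ∀ x : ↥S, β x ∈ S := fun x => he'.le ⟨x, x.2, rfl⟩
      let γ : ↥S →* ↥S :=
        { toFun := fun x => ⟨β x, hmem x⟩
          map_one' := Subtype.ext (map_one β)
          map_mul' := fun x y => Subtype.ext (map_mul β (x : ↥N) y) }
      have hγ : MonoidHom.FixedPointFree γ := by
        intro x hx
        by_contra hx1
        exact hh (x : ↥N) (fun h' => hx1 (Subtype.ext h')) (congrArg Subtype.val hx) (Subgroup.mem_sup_left x.2)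
      have hcomm := hγ.commute_all_of_involutive (fun x => Subtype.ext (hβinv x))
      rw [eq_bot_iff]
      intro x hx
      rw [← hZ, Subgroup.mem_center_iff]
      intro v
      have hv : v ∈ Subgroup.centralizer ({x} : Set ↥N) := by
        have : sSup 𝒮 ≤ Subgroup.centralizer ({x} : Set ↥N) := sSup_le fun T hT t ht => by
          rw [Subgroup.mem_centralizer_singleton_iff]
          by_cases hTS : T = S
          · subst hTS
            exact congrArg Subtype.val (hcomm ⟨t, ht⟩ ⟨x, hx⟩).eq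
          · exact (hcommS T hT S hS hTS t ht x hx).eq
        exact this (hsup ▸ Subgroup.mem_top v)
      exact Subgroup.mem_centralizer_singleton_iff.1 hv
    · have hc' : Commute s (β s) := hcommS S hS _ (h𝒮map β S hS) (Ne.symm he') s hs _ ⟨s, hs, rfl⟩
      refine ⟨s * β s, fun hh => hs1 ?_, by rw [map_mul, hβinv]; exact hc'.symm.eq, Subgroup.mul_mem_sup hs ⟨s, hs, rfl⟩⟩
      have h1 : s ∈ S ⊓ S.map β.toMonoidHom :=
        ⟨hs, by rw [eq_inv_of_mul_eq_one_left hh]; exact Subgroup.inv_mem _ ⟨s, hs, rfl⟩⟩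
      haveI := hS.1
      haveI := (h𝒮map β S hS).1
      rw [(hS.2.2 _ inferInstance inf_le_left).resolve_right fun h' => he' ?_, Subgroup.mem_bot] at h1
      · exact h1
      · exact ((h𝒮map β S hS).2.2 S hS.1 (h'.ge.trans inf_le_right)).resolve_left hS.2.1 |>.symm
  have hcount : 𝒮.ncard ≤ 2 * m ! := by
    haveI : Fintype ↥N := Fintype.ofFinite _
    let w : Subgroup ↥N → ↥N := fun S => if hS : S ∈ 𝒮 then (hfix S hS).choose else 1
    have hw : ∀ S ∈ 𝒮, w S ≠ 1 ∧ β (w S) = w S ∧ w S ∈ S ⊔ S.map β.toMonoidHom := fun S hS => by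
      simp only [w, dif_pos hS]; exact (hfix S hS).choose_spec
    have hpair : ∀ S ∈ 𝒮, ∀ T ∈ 𝒮, w S = w T → T = S ∨ T = S.map β.toMonoidHom := by
      intro S hS T hT hST
      by_contra hh
      push Not at hh
      apply (hw S hS).1
      rw [← Subgroup.mem_bot, ← hZ, Subgroup.mem_center_iff]
      intro v
      have key : ∀ X ∈ 𝒮, ∀ U ∈ 𝒮, U ≠ X → U ≠ X.map β.toMonoidHom →
          ∀ u ∈ U, ∀ y ∈ X ⊔ X.map β.toMonoidHom, Commute u y := by
        intro X hX U hU h1 h2 u hu y hy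
        have : X ⊔ X.map β.toMonoidHom ≤ Subgroup.centralizer ({u} : Set ↥N) := by
          refine sup_le (fun z hz => ?_) (fun z hz => ?_)
          · exact Subgroup.mem_centralizer_singleton_iff.2 (hcommS U hU X hX h1 u hu z hz).symm.eq
          · exact Subgroup.mem_centralizer_singleton_iff.2 (hcommS U hU _ (h𝒮map β X hX) h2 u hu z hz).symm.eq
        exact (Subgroup.mem_centralizer_singleton_iff.1 (this hy)).symm
      have hv : v ∈ Subgroup.centralizer ({w S} : Set ↥N) := by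
        have : sSup 𝒮 ≤ Subgroup.centralizer ({w S} : Set ↥N) := sSup_le fun U hU u hu => by
          rw [Subgroup.mem_centralizer_singleton_iff]
          by_cases hUS : U = S ∨ U = S.map β.toMonoidHom
          · refine hST ▸ (key T hT U hU ?_ ?_ u hu _ (hw T hT).2.2).eq
            · rintro rfl
              exact hUS.elim hh.1 hh.2
            · intro hU'
              rcases hUS with h1 | h1
              · apply hh.2
                rw [← h1, hU', hbS]
              · apply hh.1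
                rw [← hbS T, ← hU', h1, hbS]
          · push Not at hUS
            exact (key S hS U hU hUS.1 hUS.2 u hu _ (hw S hS).2.2).eq
        exact this (hsup ▸ Subgroup.mem_top v)
      exact Subgroup.mem_centralizer_singleton_iff.1 hv
    rw [Set.ncard_eq_toFinset_card 𝒮 (Set.toFinite _)]
    refine le_trans (Finset.card_le_mul_card_image (f := w) _ 2 ?_) (Nat.mul_le_mul_left 2 (le_trans ?_ hc))
    · intro y hy
      obtain ⟨S, hS, rfl⟩ := Finset.mem_image.1 hy
      rw [Set.Finite.mem_toFinset] at hS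
      refine le_trans (Finset.card_le_card (t := {S, S.map β.toMonoidHom}) ?_) Finset.card_le_two
      intro T hT
      rw [Finset.mem_filter, Set.Finite.mem_toFinset] at hT
      rcases hpair S hS T hT.1 hT.2.symm with h1 | h1 <;> simp [h1]
    · rw [← Nat.card_eq_finsetCard]
      refine Nat.card_le_card_of_injective (fun y => (⟨y.1, ?_⟩ : ↥(Cfix β))) fun y y' hyy => ?_
      · obtain ⟨S, hS, hSy⟩ := Finset.mem_image.1 y.2
        rw [Set.Finite.mem_toFinset] at hS
        exact hSy ▸ (hw S hS).2.1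
      · simp only [Subtype.mk.injEq] at hyy
        exact Subtype.ext hyy
  have hprod : ∀ T : Finset (Subgroup ↥N), (∀ S ∈ T, S ∈ 𝒮) → (T.sup id).Normal ∧ Nat.card ↥(T.sup id) ≤ K ^ T.card := by
    intro T
    induction T using Finset.induction with
    | empty => intro _; exact ⟨by simpa using (inferInstance : (⊥ : Subgroup ↥N).Normal), by simp⟩
    | insert S T hST ih =>
      intro hmem
      obtain ⟨h1, h2⟩ := ih fun U hU => hmem U (Finset.mem_insert_of_mem hU)
      haveI := (hmem S (Finset.mem_insert_self S T)).1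
      haveI := h1
      rw [Finset.sup_insert, id_eq, Finset.card_insert_of_notMem hST, pow_succ']
      refine ⟨inferInstance, ?_⟩
      have h3 := SolvBasic.card_sup_mul_card_inf (Subgroup.le_normalizer_of_normal : T.sup id ≤ Subgroup.normalizer (S : Set ↥N))
      refine le_trans ?_ (Nat.mul_le_mul (hScard S (hmem S (Finset.mem_insert_self S T))) h2)
      rw [← h3]
      exact Nat.le_mul_of_pos_right _ Nat.card_pos
  obtain ⟨-, h4⟩ := hprod (Set.toFinite 𝒮).toFinset (fun S hS => (Set.Finite.mem_toFinset _).1 hS)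
  rw [Finset.sup_id_eq_sSup, Set.Finite.coe_toFinset, hsup, Subgroup.card_top,
    ← Set.ncard_eq_toFinset_card] at h4
  exact h4.trans (Nat.pow_le_pow_right (Nat.succ_pos _) hcount)

/-- The main induction. -/
theorem main (m : ℕ) : ∃ B : ℕ, ∀ (G : Type u) [Group G] [Finite G] (α : MulAut G), Good α →
    (E α).ncard ≤ m → Nat.card G ≤ B := by
  classical
  induction m with
  | zero =>
    refine ⟨0, fun G _ _ α _ hm => absurd hm ?_⟩
    rw [Nat.le_zero, Set.ncard_eq_zero (Set.toFinite _)]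
    exact fun he => by simpa [he] using one_mem_E α
  | succ m ih =>
    obtain ⟨B₀, hB₀⟩ := ih
    set Bq := ((m + 1) + (m + 1) ! * (m + 1) + ((2 * ((m + 1) !) ^ 2) ! + 1) ^ (2 * (m + 1) !)) * B₀ + 1 with hBq
    obtain ⟨B₂, hB₂⟩ := schur_bound.{u} (m + 1) Bq
    obtain ⟨B₄, hB₄⟩ := schur_bound.{u} (m + 1) (((m + 1) !) ^ (m + 1 + 1) *
      ((((m + 1) !) ^ (m + 1 + 1)) ^ (m + 1 + 1)) ^ ((((m + 1) !) ^ (m + 1 + 1)) ^ (m + 1 + 1)) * B₂)
    refine ⟨B₄, fun G _ _ α h hm => ?_⟩
    obtain ⟨R, ⟨hRn, hRα, hRE⟩, hRmax⟩ := (Set.toFinite {R : Subgroup G | R.Normal ∧ (∀ x ∈ R, α x ∈ R) ∧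
        ∀ e ∈ E α, e ∈ R → e = 1}).exists_maximal
      ⟨⊥, inferInstance, fun x hx => by rw [Subgroup.mem_bot.1 hx, map_one]; exact one_mem _,
        fun e _ he => Subgroup.mem_bot.1 he⟩
    haveI := hRn
    have hR : R.index ≤ Bq := by
      have hq := good_qa h R hRα
      have hqm := (ncard_qa_le h R hRα).trans hm
      rw [Subgroup.index_eq_card]
      by_cases htriv : Nat.card (G ⧸ R) = 1
      · rw [htriv]; exact Nat.succ_pos _
      obtain ⟨N, ⟨hNn, hNα, hN1⟩, hNmin⟩ := (Set.toFinite {N : Subgroup (G ⧸ R) | N.Normal ∧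
          (∀ x ∈ N, qa α h.inv R hRα x ∈ N) ∧ N ≠ ⊥}).exists_minimal
        ⟨⊤, inferInstance, fun _ _ => Subgroup.mem_top _, fun hb => htriv (by
          rw [← Subgroup.card_top, hb, Subgroup.card_bot])⟩
      haveI := hNn
      set f := QuotientGroup.mk' R with hf
      obtain ⟨e, he, he1, heN⟩ : ∃ e ∈ E α, f e ≠ 1 ∧ f e ∈ N := by
        by_contra hh
        push Not at hh
        apply hN1
        have h1 : N.comap f ≤ R := by
          refine hRmax ⟨inferInstance, fun x hx => hNα _ hx, fun e he heN => hRE e he ?_⟩ (QuotientGroup.le_comap_mk' R N)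
          exact (QuotientGroup.eq_one_iff e).1 (by_contra fun hne => hh e he hne heN)
        rw [← Subgroup.map_comap_eq_self_of_surjective (QuotientGroup.mk'_surjective R) N, eq_bot_iff,
          ← QuotientGroup.map_mk'_self R]
        exact Subgroup.map_mono h1
      have heq : f e ∈ E (qa α h.inv R hRα) := by rw [E_qa h R hRα]; exact ⟨e, he, rfl⟩
      have hNc := minimal_bound hq hqm hNα (fun K hK hKα hKN => by
        by_cases hK1 : K = ⊥
        · exact Or.inl hK1
        · exact Or.inr (le_antisymm hKN (hNmin ⟨hK, hKα, hK1⟩ hKN))) heq he1 heN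
      have hlt := ncard_qa_lt hq N hNα heq he1 heN
      have hB := hB₀ ((G ⧸ R) ⧸ N) _ (good_qa hq N hNα) (by omega)
      rw [← N.card_mul_index, Subgroup.index_eq_card, hBq]
      exact (Nat.mul_le_mul hNc hB).trans (Nat.le_succ _)
    -- `α` acts on `R` through `2`-elements
    set Q := Cfsg.pCore 2 G with hQ
    haveI : Fact (Nat.Prime 2) := ⟨Nat.prime_two⟩
    haveI hQc : Q.Characteristic := PBasic.pCore_characteristic 2 G
    have hQα : ∀ x ∈ Q, α x ∈ Q := fun x hx =>
      (Subgroup.characteristic_iff_map_le.1 hQc α) ⟨x, hx, rfl⟩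
    have hRQ : ∀ r ∈ R, phi α r ∈ Q := by
      set β := ra α h.inv R hRα with hβ
      let ψh : ↥(Subgroup.zpowers β) →* MulAut ↥R := (Subgroup.zpowers β).subtype
      haveI : Finite (MulAut ↥R) := Finite.of_injective (fun e => (e : ↥R → ↥R)) DFunLike.coe_injective
      haveI : Finite (↥R ⋊[ψh] ↥(Subgroup.zpowers β)) := Finite.of_equiv _ SemidirectProduct.equivProd.symm
      set b : ↥(Subgroup.zpowers β) := ⟨β, Subgroup.mem_zpowers β⟩ with hb
      set a : ↥R ⋊[ψh] ↥(Subgroup.zpowers β) := SemidirectProduct.inr b with ha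
      have hb2 : b * b = 1 := Subtype.ext (MulEquiv.ext fun x => Subtype.ext (h.inv x))
      have ha2 : a * a = 1 := by rw [ha, ← map_mul, hb2, map_one]
      have hlc : ∀ c : ↥R, SemidirectProduct.inl c * a * (SemidirectProduct.inl c)⁻¹ =
          (SemidirectProduct.inl (phi β c) * a : ↥R ⋊[ψh] ↥(Subgroup.zpowers β)) := by
        intro c
        ext <;> simp [ha, hb, phi, ψh, map_inv]
      have hX : IsPGroup 2 ↥(Subgroup.zpowers a) := by
        refine fun x => ⟨1, Subtype.ext ?_⟩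
        obtain ⟨i, hi⟩ := Subgroup.mem_zpowers_iff.1 x.2
        show (x : ↥R ⋊[ψh] ↥(Subgroup.zpowers β)) ^ 2 ^ 1 = 1
        rw [pow_one, ← hi, ← zpow_natCast, ← zpow_mul, mul_comm, zpow_mul, zpow_natCast, sq, ha2, one_zpow]
      have hphi : ∀ c : ↥R, ∃ i, phi β c ^ 2 ^ i = 1 := by
        intro c
        refine ⟨Nat.card G, Subtype.ext ?_⟩
        have h1 : α ((phi β c : ↥R) : G) = ((phi β c : ↥R) : G)⁻¹ :=
          congrArg Subtype.val (phi_inverted (α := β) (fun x => Subtype.ext (h.inv x)) c)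
        exact hRE _ (pow_mem_E h1) (R.pow_mem (phi β c).2 _)
      obtain ⟨Nb, hNbn, hNb2, hNba⟩ := BaerSuzuki.baerSuzuki (p := 2) (Subgroup.zpowers a) hX fun g => by
        have hconj : g * a * g⁻¹ = SemidirectProduct.inl (phi β g.left) * a := by
          conv_lhs => rw [← SemidirectProduct.inl_left_mul_inr_right g]
          rw [← hlc]
          have hc : SemidirectProduct.inr g.right * a = a * (SemidirectProduct.inr g.right : ↥R ⋊[ψh] ↥(Subgroup.zpowers β)) := by
            rw [ha, ← map_mul, ← map_mul, mul_comm']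
          rw [mul_assoc (SemidirectProduct.inl g.left), hc]
          group
        set u : ↥R ⋊[ψh] ↥(Subgroup.zpowers β) := SemidirectProduct.inl (phi β g.left) with hu
        have hau : a * u * a⁻¹ = u⁻¹ := by
          rw [hu, ha, ← map_inv SemidirectProduct.inr, ← SemidirectProduct.inl_aut, ← map_inv]
          congr 1
          exact phi_inverted (α := β) (fun x => Subtype.ext (h.inv x)) g.left
        have hnorm : Subgroup.zpowers a ≤ Subgroup.normalizer (Subgroup.zpowers u : Set _) := by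
          rw [Subgroup.zpowers_le, Subgroup.mem_normalizer_iff]
          have hcz : ∀ i : ℤ, a * u ^ i * a⁻¹ = (u ^ i)⁻¹ := fun i => by rw [← conj_zpow, hau, inv_zpow]
          intro w
          constructor
          · rintro ⟨i, rfl⟩
            rw [show a * (fun i : ℤ => u ^ i) i * a⁻¹ = (u ^ i)⁻¹ from hcz i]
            exact inv_mem (zpow_mem (Subgroup.mem_zpowers u) i)
          · rintro ⟨i, hi⟩
            refine ⟨-i, ?_⟩
            show u ^ (-i) = w
            rw [zpow_neg, ← hcz, show u ^ i = a * w * a⁻¹ from hi]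
            have hai : a⁻¹ = a := inv_eq_of_mul_eq_one_right ha2
            rw [hai, ← mul_assoc, ← mul_assoc, ha2, one_mul, mul_assoc, ha2, mul_one]
        have hU : IsPGroup 2 ↥(Subgroup.zpowers u) := by
          obtain ⟨i, hi⟩ := hphi g.left
          have hu' : u ^ 2 ^ i = 1 := by rw [hu, ← map_pow, hi, map_one]
          refine fun x => ⟨i, Subtype.ext ?_⟩
          obtain ⟨j, hj⟩ := Subgroup.mem_zpowers_iff.1 x.2
          show (x : ↥R ⋊[ψh] ↥(Subgroup.zpowers β)) ^ 2 ^ i = 1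
          rw [← hj, ← zpow_natCast, ← zpow_mul, mul_comm, zpow_mul, zpow_natCast, hu', one_zpow]
        refine (IsPGroup.to_sup_of_normal_right' hX hU hnorm).to_le (sup_le le_sup_left ?_)
        rw [Subgroup.map_le_iff_le_comap, Subgroup.zpowers_le, Subgroup.mem_comap]
        show g * a * g⁻¹ ∈ _
        rw [hconj]
        exact Subgroup.mul_mem _ (Subgroup.mem_sup_right (Subgroup.mem_zpowers u))
          (Subgroup.mem_sup_left (Subgroup.mem_zpowers a))
      haveI := hNbn
      intro r hr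
      have h1 : (SemidirectProduct.inl (phi β ⟨r, hr⟩) : ↥R ⋊[ψh] ↥(Subgroup.zpowers β)) ∈ Nb := by
        have haN : a ∈ Nb := hNba (Subgroup.mem_zpowers a)
        have h2 := hNbn.conj_mem a haN (SemidirectProduct.inl ⟨r, hr⟩)
        rw [hlc] at h2
        simpa using Nb.mul_mem h2 (Nb.inv_mem haN)
      have h3 : phi β ⟨r, hr⟩ ∈ Cfsg.pCore 2 ↥R :=
        PBasic.le_pCore (hNbn.comap _) (hNb2.comap_of_injective _ SemidirectProduct.inl_injective) h1
      haveI : (Cfsg.pCore 2 ↥R).Characteristic := PBasic.pCore_characteristic 2 ↥R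
      haveI : ((Cfsg.pCore 2 ↥R).map R.subtype).Normal := inferInstance
      exact PBasic.le_pCore (p := 2) (N := (Cfsg.pCore 2 ↥R).map R.subtype) inferInstance
        ((PBasic.pCore_isPGroup 2 ↥R).map _) ⟨_, h3, rfl⟩
    -- so `R` is central modulo `Q`
    set f := QuotientGroup.mk' Q with hf
    have hq := good_qa h Q hQα
    have hcen : R.map f ≤ Subgroup.center (G ⧸ Q) := by
      rintro _ ⟨r, hr, rfl⟩
      have hfix : ∀ s ∈ R, f (α s) = f s := by
        intro s hs
        have := (QuotientGroup.eq_one_iff (N := Q) _).2 (hRQ s hs)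
        rw [← QuotientGroup.mk'_apply Q, ← hf, phi, map_mul, map_inv, mul_inv_eq_one] at this
        exact this.symm
      refine hq.mem_center fun e he => ?_
      have hle : Subgroup.closure (Set.range (phi α)) ≤ (Subgroup.centralizer ({f r} : Set (G ⧸ Q))).comap f := by
        rw [Subgroup.closure_le]
        rintro _ ⟨g, rfl⟩
        show f (phi α g) ∈ Subgroup.centralizer ({f r} : Set (G ⧸ Q))
        rw [Subgroup.mem_centralizer_singleton_iff, phi, map_mul, map_inv]
        have h2 := hfix (g⁻¹ * r * g) (by simpa using hRn.conj_mem r hr g⁻¹)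
        simp only [map_mul, map_inv, hfix r hr] at h2
        calc f g * (f (α g))⁻¹ * f r = f g * ((f (α g))⁻¹ * f r * f (α g)) * (f (α g))⁻¹ := by group
          _ = f g * ((f g)⁻¹ * f r * f g) * (f (α g))⁻¹ := by rw [h2]
          _ = f r * (f g * (f (α g))⁻¹) := by group
      rw [h.gen] at hle
      obtain ⟨e', rfl⟩ := QuotientGroup.mk'_surjective Q e
      exact Subgroup.mem_centralizer_singleton_iff.1 (hle (Subgroup.mem_top e'))
    have hZB : (Subgroup.center (G ⧸ Q)).index ≤ Bq := by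
      refine le_trans ?_ hR
      refine (Nat.le_of_dvd (Nat.pos_of_ne_zero Subgroup.index_ne_zero_of_finite)
        (Subgroup.index_dvd_of_le hcen)).trans ?_
      exact Nat.le_of_dvd (Nat.pos_of_ne_zero Subgroup.index_ne_zero_of_finite)
        (Subgroup.index_map_dvd _ (QuotientGroup.mk'_surjective Q))
    have hQi : Q.index ≤ B₂ := by
      rw [Subgroup.index_eq_card]
      exact hB₂ _ _ hq ((ncard_qa_le h Q hQα).trans hm) hZB
    exact hB₄ G α h hm (center_index_bound h hm hQα (PBasic.pCore_isPGroup 2 G) hQi)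

/-- There is a function f such that for every non-trivial finite group G and every automorphism α of G of order 2 with [G, α] = G (the elements g·α(g)⁻¹ generate G), the order of G is at most f(m), where m is the number of elements of odd order inverted by α. -/
theorem result : ∃ f : ℕ → ℕ, ∀ (G : Type) [Group G] [Finite G] [Nontrivial G] (α : MulAut G), orderOf α = 2 →
    Subgroup.closure (Set.range (fun c : G => c * (α c)⁻¹)) = ⊤ →
      Nat.card G ≤ f (Nat.card {g : G // Odd (orderOf g) ∧ α g = g⁻¹}) := by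
  classical
  choose B hB using main.{0}
  refine ⟨B, fun G _ _ _ α hα hG => hB _ G α ⟨fun g => ?_, hG⟩ (le_of_eq (Nat.card_coe_set_eq _).symm)⟩
  have h1 : α * α = 1 := by rw [← sq, ← hα, pow_orderOf_eq_one]
  exact congrArg (fun e : MulAut G => e g) h1

end Cfsg.Agent.S3928
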