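import Cfsg.Statements.S3933
import Cfsg.Agent.Lib.Char.Burnside
import Cfsg.Agent.Lib.FiniteGroup.FittingPow
import Mathlib
-- import your own Cfsg.Agent.* helpers here

set_option autoImplicit false
open Cfsg

namespace Cfsg.Agent.S3933

universe u

variable {G : Type*} [Group G] [Finite G]

theorem exists_mul_of_coprime_index (H K : Subgroup G) (h : H.index.Coprime K.index) (g : G) :
    ∃ k ∈ K, ∃ x ∈ H, g = k * x := by
  classical
  have h1 : H.index ∣ (H ⊓ K).index := Subgroup.index_dvd_of_le inf_le_left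
  have h2 : K.index ∣ (H ⊓ K).index := Subgroup.index_dvd_of_le inf_le_right
  have h3 : (H ⊓ K).index ≤ H.index * K.index := Subgroup.index_inf_le
  have h4 : 0 < (H ⊓ K).index := Nat.pos_of_ne_zero Subgroup.FiniteIndex.index_ne_zero
  have h5 : (H ⊓ K).index = H.index * K.index :=
    le_antisymm h3 (Nat.le_of_dvd h4 (h.mul_dvd_of_dvd_of_dvd h1 h2))
  have h6 : H.relIndex K = H.index := by
    have := Subgroup.relIndex_mul_index (inf_le_right : H ⊓ K ≤ K)
    rw [Subgroup.inf_relIndex_right, h5] at this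
    exact Nat.eq_of_mul_eq_mul_right (Nat.pos_of_ne_zero Subgroup.FiniteIndex.index_ne_zero) this
  let f : K ⧸ H.subgroupOf K → G ⧸ H := Quotient.map' (fun k => (k : G)) fun a b hab => by
    rw [QuotientGroup.leftRel_apply] at hab ⊢
    exact hab
  have hf : Function.Injective f := by
    rintro ⟨a⟩ ⟨b⟩ he
    exact Quotient.sound' (QuotientGroup.leftRel_apply.2
      (QuotientGroup.leftRel_apply.1 (Quotient.exact' he) : (a : G)⁻¹ * b ∈ H))
  have hb : Function.Bijective f := (Nat.bijective_iff_injective_and_card f).2 ⟨hf, h6⟩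
  obtain ⟨⟨k⟩, hk⟩ := hb.2 (QuotientGroup.mk g)
  refine ⟨k, k.2, (k : G)⁻¹ * g, QuotientGroup.leftRel_apply.1 (Quotient.exact' hk), by group⟩

theorem normalClosure_le_of_factor {P K : Subgroup G} (hP : P ≤ K)
    (h : K.index.Coprime (Subgroup.normalizer (P : Set G)).index) :
    Subgroup.normalClosure (P : Set G) ≤ K := by
  rw [Subgroup.normalClosure, Subgroup.closure_le]
  intro y hy
  obtain ⟨x, hx, hc⟩ := Group.mem_conjugatesOfSet_iff.mp hy
  obtain ⟨g, rfl⟩ := isConj_iff.mp hc
  obtain ⟨k, hk, n, hn, rfl⟩ := exists_mul_of_coprime_index _ K h.symm g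
  rw [show k * n * x * (k * n)⁻¹ = k * (n * x * n⁻¹) * k⁻¹ by group]
  exact mul_mem (mul_mem hk (hP ((Subgroup.mem_normalizer_iff.1 hn x).1 hx))) (inv_mem hk)

theorem exists_sylow_le {p : ℕ} [Fact p.Prime] (H : Subgroup G) (h : ¬ p ∣ H.index) :
    ∃ P : Sylow p G, (P : Subgroup G) ≤ H := by
  obtain ⟨T⟩ : Nonempty (Sylow p H) := inferInstance
  have hi : ¬ p ∣ ((T : Subgroup H).map H.subtype).index := by
    rw [Subgroup.index_map_subtype, (Fact.out : p.Prime).dvd_mul]
    exact not_or.2 ⟨T.not_dvd_index, h⟩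
  exact ⟨(T.2.map H.subtype).toSylow hi, Subgroup.map_subtype_le _⟩

theorem card_sylow_normal_dvd (N : Subgroup G) [N.Normal] (r : ℕ) [Fact r.Prime] :
    Nat.card (Sylow r N) ∣ Nat.card (Sylow r G) := by
  obtain ⟨Q⟩ : Nonempty (Sylow r N) := inferInstance
  obtain ⟨P, hP⟩ := (Q.2.map N.subtype).exists_le_sylow
  have hQ : (Q : Subgroup N) = (P : Subgroup G).subgroupOf N :=
    (Q.is_maximal' (P.2.comap_of_injective _ N.subtype_injective)
      (Subgroup.map_le_iff_le_comap.1 hP)).symm
  set M := Subgroup.normalizer (((P : Subgroup G) ⊓ N : Subgroup G) : Set G) with hM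
  have hPM : Subgroup.normalizer ((P : Subgroup G) : Set G) ≤ M := by
    intro g hg
    rw [hM, Subgroup.mem_normalizer_iff]
    intro x
    constructor
    · rintro ⟨hx, hxN⟩
      exact ⟨(Subgroup.mem_normalizer_iff.1 hg x).1 hx, Subgroup.Normal.conj_mem inferInstance x hxN g⟩
    · rintro ⟨hx, hxN⟩
      refine ⟨(Subgroup.mem_normalizer_iff.1 hg x).2 hx, ?_⟩
      have := Subgroup.Normal.conj_mem (inferInstance : N.Normal) _ hxN g⁻¹
      simpa [mul_assoc] using this
  have h1 : M.subgroupOf N ≤ Subgroup.normalizer ((Q : Subgroup N) : Set N) := by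
    intro g hg
    rw [Subgroup.mem_normalizer_iff]
    intro x
    rw [hQ, Subgroup.mem_subgroupOf, Subgroup.mem_subgroupOf]
    have h2 := Subgroup.mem_normalizer_iff.1 (Subgroup.mem_subgroupOf.1 hg) (x : G)
    simp only [Subgroup.mem_inf, SetLike.coe_mem, and_true] at h2
    simpa using h2.trans ⟨fun h => h.1, fun h => ⟨h, by
      exact mul_mem (mul_mem g.2 x.2) (inv_mem g.2)⟩⟩
  rw [Q.card_eq_index_normalizer, P.card_eq_index_normalizer]
  exact ((Subgroup.index_dvd_of_le h1).trans
    (FiniteGroup.relIndex_dvd_index_of_normal_right M N)).trans (Subgroup.index_dvd_of_le hPM)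

theorem card_sylow_quotient_dvd (N : Subgroup G) [N.Normal] (r : ℕ) [Fact r.Prime] :
    Nat.card (Sylow r (G ⧸ N)) ∣ Nat.card (Sylow r G) := by
  obtain ⟨P⟩ : Nonempty (Sylow r G) := inferInstance
  rw [(P.mapSurjective (QuotientGroup.mk'_surjective N)).card_eq_index_normalizer,
    P.card_eq_index_normalizer]
  refine dvd_trans (Subgroup.index_dvd_of_le ?_)
    (Subgroup.index_map_dvd _ (QuotientGroup.mk'_surjective N))
  exact Subgroup.le_normalizer_map _

theorem main : ∀ (n : ℕ) (G : Type u) [Group G] [Finite G], Nat.card G ≤ n →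
    (∀ (r : ℕ) [Fact r.Prime], Nat.card (Sylow r G) = 1 ∨ IsPrimePow (Nat.card (Sylow r G))) →
    Group.IsSolvable G := by
  intro n
  induction n with
  | zero =>
    intro G _ _ hn
    exact absurd (Nat.card_pos (α := G)) (by omega)
  | succ n ih =>
    intro G _ _ hn h
    classical
    by_contra hns
    have hdesc : ∀ {a b : ℕ}, a ∣ b → (b = 1 ∨ IsPrimePow b) → (a = 1 ∨ IsPrimePow a) := by
      intro a b hab hb
      rcases hb with rfl | hb
      · exact Or.inl (Nat.dvd_one.1 hab)
      · by_cases ha : a = 1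
        · exact Or.inl ha
        · exact Or.inr (hb.dvd hab ha)
    have hsimple : ∀ N : Subgroup G, N.Normal → N = ⊥ ∨ N = ⊤ := by
      intro N hN
      by_contra hcon
      push Not at hcon
      obtain ⟨hNb, hNt⟩ := hcon
      have hlt : Nat.card N < Nat.card G := by
        rcases lt_or_eq_of_le (Nat.le_of_dvd Nat.card_pos N.card_subgroup_dvd_card) with h | h
        · exact h
        · exact absurd ((Subgroup.card_eq_iff_eq_top N).1 h) hNt
      haveI : Group.IsSolvable N :=
        ih N (by omega) fun r _ => hdesc (card_sylow_normal_dvd N r) (h r)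
      have hlt' : Nat.card (G ⧸ N) < Nat.card G := by
        have h1 := Subgroup.card_eq_card_quotient_mul_card_subgroup N
        have h2 : 1 < Nat.card N := (Subgroup.one_lt_card_iff_ne_bot N).2 hNb
        have h3 : 0 < Nat.card (G ⧸ N) := Nat.card_pos
        nlinarith
      haveI : Group.IsSolvable (G ⧸ N) :=
        ih (G ⧸ N) (by omega) fun r _ => hdesc (card_sylow_quotient_dvd N r) (h r)
      exact hns (Group.isSolvable_of_ker_le_range N.subtype (QuotientGroup.mk' N) (by simp))
    -- no Sylow subgroup is normal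
    have hnn : ∀ (p : ℕ) [Fact p.Prime], p ∣ Nat.card G → ∀ P : Sylow p G,
        Subgroup.normalizer ((P : Subgroup G) : Set G) ≠ ⊤ := by
      intro p _ hp P ht
      have hPn := Subgroup.normalizer_eq_top_iff.1 ht
      rcases hsimple _ hPn with hb | hb
      · have := P.dvd_card_of_dvd_card hp
        rw [hb, Subgroup.card_bot] at this
        exact (Fact.out : p.Prime).not_dvd_one this
      · haveI : Group.IsNilpotent (⊤ : Subgroup G) := hb ▸ P.2.isNilpotent
        haveI : Group.IsSolvable (⊤ : Subgroup G) := inferInstance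
        exact hns (Group.isSolvable_of_surjective (f := (⊤ : Subgroup G).subtype)
          fun g => ⟨⟨g, Subgroup.mem_top g⟩, rfl⟩)
    have hpow : ∀ (p : ℕ) [Fact p.Prime], p ∣ Nat.card G → ∃ q b : ℕ, q.Prime ∧ 0 < b ∧ q ≠ p ∧
        q ∣ Nat.card G ∧
        ∀ P : Sylow p G, (Subgroup.normalizer ((P : Subgroup G) : Set G)).index = q ^ b := by
      intro p _ hp
      obtain ⟨P₀⟩ : Nonempty (Sylow p G) := inferInstance
      rcases h p with h1 | h1
      · rw [P₀.card_eq_index_normalizer] at h1
        exact absurd (Subgroup.index_eq_one.1 h1) (hnn p hp P₀)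
      · obtain ⟨q, b, hq, hb, he⟩ := h1
        refine ⟨q, b, hq.nat_prime, hb, ?_, ?_, fun P => ?_⟩
        · rintro rfl
          refine P₀.not_dvd_index ((dvd_pow_self q hb.ne').trans ?_)
          rw [he, P₀.card_eq_index_normalizer]
          exact Subgroup.index_dvd_of_le Subgroup.le_normalizer
        · refine (dvd_pow_self q hb.ne').trans ?_
          rw [he, P₀.card_eq_index_normalizer]
          exact Subgroup.index_dvd_card _
        · exact P.card_eq_index_normalizer.symm.trans he.symm
    have hclo : ∀ (p : ℕ) [Fact p.Prime], p ∣ Nat.card G → ∀ (P : Sylow p G) (K : Subgroup G),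
        (P : Subgroup G) ≤ K → K ≠ ⊤ →
        ¬ K.index.Coprime (Subgroup.normalizer ((P : Subgroup G) : Set G)).index := by
      intro p _ hp P K hPK hK hco
      have hle := normalClosure_le_of_factor hPK hco
      rcases hsimple _ Subgroup.normalClosure_normal with hb | hb
      · have h1 : (P : Subgroup G) = ⊥ :=
          le_bot_iff.1 (hb ▸ Subgroup.le_normalClosure)
        have := P.dvd_card_of_dvd_card hp
        rw [h1, Subgroup.card_bot] at this
        exact (Fact.out : p.Prime).not_dvd_one this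
      · exact hK (eq_top_iff.2 (hb ▸ hle))
    -- the pairing
    have hpair : ∀ (p : ℕ) [Fact p.Prime], p ∣ Nat.card G → ∀ (q b : ℕ) [Fact q.Prime], 0 < b →
        q ≠ p → q ∣ Nat.card G →
        (∀ P : Sylow p G, (Subgroup.normalizer ((P : Subgroup G) : Set G)).index = q ^ b) →
        ∀ (w c : ℕ), w.Prime →
        (∀ Q : Sylow q G, (Subgroup.normalizer ((Q : Subgroup G) : Set G)).index = w ^ c) →
        w = p := by
      intro p _ hp q b _ hb hqp hq hP w c hw hQ
      by_contra hwp
      obtain ⟨Q⟩ : Nonempty (Sylow q G) := inferInstance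
      obtain ⟨P, hPQ⟩ := exists_sylow_le (p := p) (Subgroup.normalizer ((Q : Subgroup G) : Set G))
        (by
          rw [hQ Q]
          exact fun hd => hwp ((Nat.prime_dvd_prime_iff_eq (Fact.out : p.Prime) hw).1
            ((Fact.out : p.Prime).dvd_of_dvd_pow hd)).symm)
      refine hclo p hp P ((P : Subgroup G) ⊔ (Q : Subgroup G)) le_sup_left ?_ ?_
      · intro ht
        exact hnn q hq Q (eq_top_iff.2 (ht ▸ sup_le hPQ Subgroup.le_normalizer))
      · rw [hP P]
        refine Nat.Coprime.pow_right b (Nat.Coprime.symm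
          ((Fact.out : q.Prime).coprime_iff_not_dvd.2 fun hd => Q.not_dvd_index ?_))
        exact hd.trans (Subgroup.index_dvd_of_le le_sup_right)
    -- three primes
    have h1 : Nat.card G ≠ 1 := fun h1 => by
      haveI := (Nat.card_eq_one_iff_unique.1 h1).1
      exact hns (Group.isSolvable_of_comm fun a b => Subsingleton.elim _ _)
    obtain ⟨p, hp, hpG⟩ := Nat.exists_prime_and_dvd h1
    haveI := Fact.mk hp
    obtain ⟨q, b, hq, hb, hqp, hqG, hP⟩ := hpow p hpG
    haveI := Fact.mk hq
    obtain ⟨r, hr, hrG, hrp, hrq⟩ : ∃ r : ℕ, r.Prime ∧ r ∣ Nat.card G ∧ r ≠ p ∧ r ≠ q := by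
      by_contra hcon
      push Not at hcon
      refine hns (Cfsg.Agent.Char.isSolvable_of_card_pq p q hp hq (Nat.card G) G rfl ?_)
      refine ⟨(Nat.card G).factorization p, (ordCompl[p] (Nat.card G)).primeFactorsList.length, ?_⟩
      have hall : ∀ {d : ℕ}, d.Prime → d ∣ ordCompl[p] (Nat.card G) → d = q := fun {d} hd hdd =>
        hcon d hd (hdd.trans (Nat.ordCompl_dvd _ _)) fun he =>
          Nat.not_dvd_ordCompl hp Nat.card_pos.ne' (he ▸ hdd)
      conv_lhs => rw [← Nat.ordProj_mul_ordCompl_eq_self (Nat.card G) p]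
      congr 1
      exact Nat.eq_prime_pow_of_unique_prime_dvd
        (Nat.ordCompl_pos p Nat.card_pos.ne').ne' hall
    haveI := Fact.mk hr
    obtain ⟨s, d, hs, hd, hsr, hsG, hR⟩ := hpow r hrG
    haveI := Fact.mk hs
    obtain ⟨w, c, hw, hc, -, -, hQ⟩ := hpow q hqG
    have hwp : w = p := hpair p hpG q b hb hqp hqG hP w c hw hQ
    obtain ⟨v, e, hv, he, -, -, hS⟩ := hpow s hsG
    have hvr : v = r := hpair r hrG s d hd hsr hsG hR v e hv hS
    obtain ⟨P₀⟩ : Nonempty (Sylow p G) := inferInstance
    obtain ⟨Q₀⟩ : Nonempty (Sylow q G) := inferInstance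
    have hsp : s ≠ p := by
      rintro rfl
      have := (hS P₀).symm.trans (hP P₀)
      exact hrq (hvr ▸ (Nat.prime_dvd_prime_iff_eq hv hq).1
        (hv.dvd_of_dvd_pow ((dvd_pow_self v he.ne').trans (dvd_of_eq this))))
    have hsq : s ≠ q := by
      rintro rfl
      have := (hS Q₀).symm.trans (hQ Q₀)
      exact hrp (hvr ▸ hwp ▸ (Nat.prime_dvd_prime_iff_eq hv hw).1
        (hv.dvd_of_dvd_pow ((dvd_pow_self v he.ne').trans (dvd_of_eq this))))
    obtain ⟨R⟩ : Nonempty (Sylow r G) := inferInstance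
    obtain ⟨P, hPR⟩ := exists_sylow_le (p := p) (Subgroup.normalizer ((R : Subgroup G) : Set G))
      (by
        rw [hR R]
        exact fun hd => hsp ((Nat.prime_dvd_prime_iff_eq hp hs).1 (hp.dvd_of_dvd_pow hd)).symm)
    refine hclo p hpG P _ hPR (hnn r hrG R) ?_
    rw [hR R, hP P]
    exact Nat.Coprime.pow _ _ ((Nat.coprime_primes hs hq).2 hsq)

/-- If for every prime r the number of Sylow r-subgroups of the finite group G is a prime power or 1, then G is solvable. -/
theorem result {G : Type*} [Group G] [Finite G] (h : ∀ (r : ℕ) [Fact r.Prime], Nat.card (Sylow r G) = 1 ∨ IsPrimePow (Nat.card (Sylow r G))) :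
    Group.IsSolvable G :=
  main (Nat.card G) G le_rfl h

end Cfsg.Agent.S3933
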