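import Cfsg.Statements.S3941
import Mathlib

set_option autoImplicit false
open Cfsg

namespace Cfsg.Agent.S3941

open Equiv Equiv.Perm

lemma swap_identity {α : Type*} [DecidableEq α] (a b c d : α) (hab : a ≠ b) (hac : a ≠ c) (had : a ≠ d)
    (hbc : b ≠ c) (hbd : b ≠ d) (hcd : c ≠ d) :
    (swap a b * swap b c) * (swap a b * swap b d) = swap a c * swap b d ∧
      (swap a c * swap b d) ^ 2 = 1 := by
  constructor
  · rw [mul_swap_eq_swap_mul (swap a b) b c, swap_apply_right,
      swap_apply_of_ne_of_ne hac.symm hbc.symm, mul_assoc, ← mul_assoc (swap a b) (swap a b),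
      swap_mul_self, one_mul]
  · rw [pow_two, mul_assoc, ← mul_assoc (swap b d), mul_swap_eq_swap_mul (swap b d) a c,
      swap_apply_of_ne_of_ne hab had, swap_apply_of_ne_of_ne hbc.symm hcd,
      mul_assoc, swap_mul_self, mul_one, swap_mul_self]

/-- In a group with a normal Sylow `p`-subgroup the product of two elements of order `p` has
`p`-power order. -/
lemma exists_orderOf_mul {H : Type*} [Group H] [Finite H] {p : ℕ} [Fact p.Prime]
    (hH : Cfsg.IsPClosed p H) (a b : H) (ha : orderOf a = p) (hb : orderOf b = p) :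
    ∃ k, orderOf (a * b) = p ^ k := by
  obtain ⟨P⟩ : Nonempty (Sylow p H) := inferInstance
  haveI := Sylow.unique_of_normal P (hH P)
  have hin : ∀ x : H, orderOf x = p → x ∈ (P : Subgroup H) := fun x hx => by
    obtain ⟨Q, hQ⟩ := (IsPGroup.of_card (p := p) (n := 1) (G := Subgroup.zpowers x)
      (by rw [Nat.card_zpowers, hx, pow_one])).exists_le_sylow
    rw [Subsingleton.elim P Q]
    exact hQ (Subgroup.mem_zpowers x)
  obtain ⟨k, hk⟩ := IsPGroup.iff_orderOf.1 P.isPGroup' ⟨a * b, mul_mem (hin a ha) (hin b hb)⟩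
  exact ⟨k, by rwa [Subgroup.orderOf_mk] at hk⟩

/-- Let n ≥ 5 and p an odd prime with p ≤ n, and suppose that every proper subgroup of the alternating group of degree n whose order is divisible by p has a normal Sylow p-subgroup. Then n = p. -/
theorem result (n p : ℕ) (hn : 5 ≤ n) [Fact p.Prime] (hp : p ≠ 2) (hpn : p ≤ n)
    (h : ∀ H : Subgroup ↥(alternatingGroup (Fin n)), H ≠ ⊤ → p ∣ Nat.card ↥H → Cfsg.IsPClosed p ↥H) : n = p := by
  by_contra hne
  have hlt : p < n := lt_of_le_of_ne hpn (Ne.symm hne)
  have hp3 : 3 ≤ p := by have := (Fact.out : p.Prime).two_le; omega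
  let last : Fin n := ⟨n - 1, by omega⟩
  let H : Subgroup (alternatingGroup (Fin n)) :=
    { carrier := {g | (g : Perm (Fin n)) last = last}
      one_mem' := rfl
      mul_mem' := fun {g h} hg hh => by
        show (g : Perm (Fin n)) ((h : Perm (Fin n)) last) = last
        rw [hh, hg]
      inv_mem' := fun {g} hg => by
        show (g : Perm (Fin n))⁻¹ last = last
        rw [Perm.inv_eq_iff_eq]; exact hg.symm }
  let e : ∀ i : ℕ, i < 4 → Fin n := fun i hi => ⟨i, by omega⟩
  have hmem : ∀ g : Perm (Fin n), Perm.sign g = 1 → g ∈ alternatingGroup (Fin n) := fun g hg =>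
    Perm.mem_alternatingGroup.2 hg
  have htop : H ≠ ⊤ := by
    intro hH
    have h3 : IsThreeCycle (swap last (e 0 (by omega)) * swap last (e 1 (by omega))) :=
      isThreeCycle_swap_mul_swap_same (by simp [last, e, Fin.ext_iff]; omega)
        (by simp [last, e, Fin.ext_iff]; omega) (by simp [e, Fin.ext_iff])
    have h4 : (⟨_, hmem _ h3.sign⟩ : alternatingGroup (Fin n)) ∈ H := hH ▸ Subgroup.mem_top _
    have h5 : (swap last (e 0 (by omega)) * swap last (e 1 (by omega))) last = last := h4
    rw [Perm.mul_apply, swap_apply_left, swap_apply_of_ne_of_ne] at h5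
    all_goals simp [last, e, Fin.ext_iff] at * <;> omega
  have hin : ∀ g : Perm (Fin n), Perm.sign g = 1 → g last = last → ∃ x : H, orderOf x = orderOf g ∧
      ((x : alternatingGroup (Fin n)) : Perm (Fin n)) = g := fun g hs hg =>
    ⟨⟨⟨g, hmem g hs⟩, hg⟩, by rw [← Subgroup.orderOf_coe, ← Subgroup.orderOf_coe], rfl⟩
  let c : Perm (Fin n) := Fin.cycleRange ⟨p - 1, by omega⟩
  have hc2 : Even (p - 1) := by
    have := (Fact.out : p.Prime).odd_of_ne_two hp
    obtain ⟨d, rfl⟩ := this
    exact ⟨d, by omega⟩
  have hcs : Perm.sign c = 1 := by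
    rw [Fin.sign_cycleRange, hc2.neg_one_pow]
  have hclast : c last = last := Fin.cycleRange_of_gt (by simp [last, Fin.lt_def]; omega)
  haveI : NeZero n := ⟨by omega⟩
  have hco : orderOf c = p := by
    rw [← Perm.lcm_cycleType, Fin.cycleType_cycleRange]
    · simp; omega
    · simp [Fin.ext_iff]; omega
  have hcard : p ∣ Nat.card H := by
    obtain ⟨x, hx, -⟩ := hin c hcs hclast
    rw [← hco, ← hx]
    exact orderOf_dvd_natCard x
  have hclosed := h H htop hcard
  have key : ∀ a b : Perm (Fin n), Perm.sign a = 1 → Perm.sign b = 1 → a last = last → b last = last →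
      orderOf a = p → orderOf b = p → ∃ k, orderOf (a * b) = p ^ k := by
    intro a b sa sb la lb oa ob
    obtain ⟨x, hx, rfl⟩ := hin a sa la
    obtain ⟨y, hy, rfl⟩ := hin b sb lb
    obtain ⟨k, hk⟩ := exists_orderOf_mul hclosed x y (hx.trans oa) (hy.trans ob)
    refine ⟨k, ?_⟩
    rw [← Subgroup.coe_mul, Subgroup.orderOf_coe, ← Subgroup.coe_mul, Subgroup.orderOf_coe, hk]
  have hne' : ∀ i j (hi : i < 4) (hj : j < 4), i ≠ j → e i hi ≠ e j hj := fun i j _ _ hij h' =>
    hij (congrArg Fin.val h')
  rcases eq_or_lt_of_le hp3 with rfl | hp5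
  · -- two three-cycles whose product is an involution
    have hfix : ∀ i j (hi : i < 4) (hj : j < 4), swap (e i hi) (e j hj) last = last := fun i j hi hj =>
      swap_apply_of_ne_of_ne (by simp [last, e, Fin.ext_iff]; omega) (by simp [last, e, Fin.ext_iff]; omega)
    let u := swap (e 0 (by omega)) (e 1 (by omega)) * swap (e 1 (by omega)) (e 2 (by omega))
    let v := swap (e 0 (by omega)) (e 1 (by omega)) * swap (e 1 (by omega)) (e 3 (by omega))
    have hu : IsThreeCycle u := by
      have := isThreeCycle_swap_mul_swap_same (hne' 1 0 (by omega) (by omega) (by omega))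
        (hne' 1 2 (by omega) (by omega) (by omega)) (hne' 0 2 (by omega) (by omega) (by omega))
      simpa [u, swap_comm] using this
    have hv : IsThreeCycle v := by
      have := isThreeCycle_swap_mul_swap_same (hne' 1 0 (by omega) (by omega) (by omega))
        (hne' 1 3 (by omega) (by omega) (by omega)) (hne' 0 3 (by omega) (by omega) (by omega))
      simpa [v, swap_comm] using this
    obtain ⟨k, hk⟩ := key u v hu.sign hv.sign
      (by simp only [u, Perm.mul_apply, hfix]) (by simp only [v, Perm.mul_apply, hfix])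
      hu.orderOf hv.orderOf
    have hid := swap_identity (e 0 (by omega)) (e 1 (by omega)) (e 2 (by omega)) (e 3 (by omega))
      (hne' 0 1 (by omega) (by omega) (by omega)) (hne' 0 2 (by omega) (by omega) (by omega)) (hne' 0 3 (by omega) (by omega) (by omega)) (hne' 1 2 (by omega) (by omega) (by omega)) (hne' 1 3 (by omega) (by omega) (by omega)) (hne' 2 3 (by omega) (by omega) (by omega))
    have huv : u * v = swap (e 0 (by omega)) (e 2 (by omega)) * swap (e 1 (by omega)) (e 3 (by omega)) := hid.1
    have h2 : (u * v) ^ 2 = 1 := by rw [huv]; exact hid.2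
    have h21 : u * v ≠ 1 := by
      intro h1
      have := congrArg (· (e 0 (by omega))) (huv.symm.trans h1)
      simp [swap_apply_def, e, Fin.ext_iff] at this
    rw [orderOf_eq_prime h2 h21] at hk
    rcases k with _ | k
    · simp at hk
    · rw [pow_succ] at hk
      have : 3 ∣ 2 := hk ▸ dvd_mul_left 3 _
      omega
  · -- a commutator of a `p`-cycle and a transposition is a three-cycle
    set s := swap (e 0 (by omega)) (e 1 (by omega)) with hs
    have hss : s * s = 1 := swap_mul_self _ _
    have hsl : s last = last := by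
      rw [hs, swap_apply_of_ne_of_ne] <;> simp [last, e, Fin.ext_iff] <;> omega
    have hb1 : Perm.sign (s * c⁻¹ * s) = 1 := by
      simp [hcs]
    obtain ⟨k, hk⟩ := key c (s * c⁻¹ * s) hcs hb1 hclast
      (by simp only [Perm.mul_apply, hsl]; rw [show c⁻¹ last = last from Perm.inv_eq_iff_eq.2 hclast.symm, hsl])
      hco (by
        rw [show s * c⁻¹ * s = MulAut.conj s c⁻¹ by simp [hs, swap_inv], MulEquiv.orderOf_eq,
          orderOf_inv, hco])
    have h01 : c (e 0 (by omega)) = e 1 (by omega) := by
      apply Fin.ext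
      rw [Fin.coe_cycleRange_of_lt (by simp [e, Fin.lt_def]; omega)]
    have h12 : c (e 1 (by omega)) = e 2 (by omega) := by
      apply Fin.ext
      rw [Fin.coe_cycleRange_of_lt (by simp [e, Fin.lt_def]; omega)]
    have hcsc : c * (s * c⁻¹ * s) = swap (e 1 (by omega)) (e 2 (by omega)) * swap (e 1 (by omega)) (e 0 (by omega)) := by
      rw [← mul_assoc, ← mul_assoc, hs, mul_swap_eq_swap_mul c (e 0 (by omega)) (e 1 (by omega)), h01, h12,
        mul_inv_cancel_right, swap_comm (e 0 (by omega)) (e 1 (by omega))]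
    have h3 : IsThreeCycle (c * (s * c⁻¹ * s)) := hcsc ▸ isThreeCycle_swap_mul_swap_same
      (hne' 1 2 (by omega) (by omega) (by omega)) (hne' 1 0 (by omega) (by omega) (by omega))
      (hne' 2 0 (by omega) (by omega) (by omega))
    rw [h3.orderOf] at hk
    rcases k with _ | k
    · simp at hk
    · have : p ∣ 3 := hk ▸ dvd_pow_self p (by omega)
      have := Nat.le_of_dvd (by omega) this
      omega

end Cfsg.Agent.S3941
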