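import Cfsg.Statements.S3946
import Cfsg.Agent.Lib.FiniteGroup.Kegel

set_option autoImplicit false
open Cfsg

namespace Cfsg.Agent.S3946

/-- Call an automorphism α of order n of a group G splitting when x · α(x) · α²(x) ⋯ α^(n−1)(x) = 1 for every x ∈ G. A finite group admitting a splitting automorphism of prime order is nilpotent (this contains the case of a fixed-point-free automorphism of prime order). -/
theorem result {G : Type*} [Group G] [Finite G] (α : MulAut G) (hp : (orderOf α).Prime)
    (hsplit : ∀ x : G, (((List.range (orderOf α)).map (fun i : ℕ => (α ^ i) x)).prod = 1)) : Group.IsNilpotent G := by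
  classical
  haveI : Fact (orderOf α).Prime := ⟨hp⟩
  set p := orderOf α with hpdef
  let φ : Subgroup.zpowers α →* MulAut G := (Subgroup.zpowers α).subtype
  let a₀ : Subgroup.zpowers α := ⟨α, Subgroup.mem_zpowers α⟩
  haveI : Finite (G ⋊[φ] Subgroup.zpowers α) := Finite.of_equiv _ SemidirectProduct.equivProd.symm
  have hpow : ∀ (g : G) (n : ℕ), ((⟨g, a₀⟩ : G ⋊[φ] Subgroup.zpowers α) ^ n).left =
      ((List.range n).map (fun i : ℕ => (α ^ i) g)).prod ∧
      ((⟨g, a₀⟩ : G ⋊[φ] Subgroup.zpowers α) ^ n).right = a₀ ^ n := by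
    intro g n
    induction n with
    | zero => simp
    | succ n ih =>
      rw [pow_succ, SemidirectProduct.mul_left, SemidirectProduct.mul_right, ih.1, ih.2,
        List.prod_range_succ, pow_succ a₀]
      exact ⟨rfl, rfl⟩
  have hap : a₀ ^ p = 1 := Subtype.ext (pow_orderOf_eq_one α)
  have hone : ∀ g : G, (⟨g, a₀⟩ : G ⋊[φ] Subgroup.zpowers α) ^ p = 1 := fun g =>
    SemidirectProduct.ext ((hpow g p).1.trans (hsplit g)) ((hpow g p).2.trans hap)
  have hcard : Nat.card (Subgroup.zpowers α) = p := Nat.card_zpowers α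
  have hout : ∀ y : G ⋊[φ] Subgroup.zpowers α,
      y ∉ (SemidirectProduct.inl : G →* G ⋊[φ] Subgroup.zpowers α).range → y ^ p = 1 := by
    intro y hy
    obtain ⟨i, hi⟩ : ∃ i : ℕ, α ^ i = (y.right : MulAut G) := by
      have hm := y.right.2
      rwa [← mem_powers_iff_mem_zpowers, Submonoid.mem_powers_iff] at hm
    have hright : y.right = a₀ ^ i := Subtype.ext hi.symm
    have hpi : ¬ p ∣ i := by
      intro hd
      obtain ⟨k, rfl⟩ := hd
      refine hy ⟨y.left, SemidirectProduct.ext rfl ?_⟩
      rw [hright, pow_mul, hap, one_pow]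
      rfl
    obtain ⟨j, -, hj⟩ := Nat.exists_mul_mod_eq_one_of_coprime
      (Nat.Coprime.symm ((Nat.Prime.coprime_iff_not_dvd hp).2 hpi)) hp.one_lt
    let f : G → G := fun g => ((⟨g, a₀⟩ : G ⋊[φ] Subgroup.zpowers α) ^ i).left
    have hf : Function.Injective f := by
      intro g g' h
      have h1 : (⟨g, a₀⟩ : G ⋊[φ] Subgroup.zpowers α) ^ i = ⟨g', a₀⟩ ^ i :=
        SemidirectProduct.ext h ((hpow g i).2.trans (hpow g' i).2.symm)
      have h2 := congrArg (fun z => z ^ j) h1
      simp only [← pow_mul] at h2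
      rw [pow_eq_pow_mod (i * j) (hone g), pow_eq_pow_mod (i * j) (hone g'), hj, pow_one, pow_one] at h2
      exact congrArg SemidirectProduct.left h2
    obtain ⟨g, hg⟩ := (Finite.injective_iff_surjective.1 hf) y.left
    have hy' : y = (⟨g, a₀⟩ : G ⋊[φ] Subgroup.zpowers α) ^ i :=
      SemidirectProduct.ext hg.symm (hright.trans (hpow g i).2.symm)
    rw [hy', ← pow_mul, mul_comm, pow_mul, hone g, one_pow]
  haveI : (SemidirectProduct.inl : G →* G ⋊[φ] Subgroup.zpowers α).range.Normal := by
    rw [SemidirectProduct.range_inl_eq_ker_rightHom]; exact MonoidHom.normal_ker _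
  have hidx : (SemidirectProduct.inl : G →* G ⋊[φ] Subgroup.zpowers α).range.index = p := by
    rw [SemidirectProduct.range_inl_eq_ker_rightHom, Subgroup.index_ker,
      MonoidHom.range_eq_top.2 SemidirectProduct.rightHom_surjective,
      Nat.card_congr (Subgroup.topEquiv).toEquiv, hcard]
  haveI := KegelHughes.isNilpotent_of_outside _ hp hidx hout
  exact KegelHughes.isNilpotent_of_injective'
    (f := (MonoidHom.ofInjective (SemidirectProduct.inl_injective (φ := φ))).toMonoidHom) (MulEquiv.injective _)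

end Cfsg.Agent.S3946
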