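import Cfsg.Statements.S3949


set_option autoImplicit false
open Cfsg

namespace Cfsg.Agent.S3949

/-- Let G be a finite group and α an automorphism of G of order 2 such that the elements g·α(g)⁻¹ generate G. Let j be a positive integer such that 2^j divides the order of no element inverted by α. Then the set of values of the j-th iterate of the map c ↦ c·α(c)⁻¹ is exactly the set of elements of odd order inverted by α. -/
theorem result {G : Type*} [Group G] [Finite G] (α : MulAut G) (hα : orderOf α = 2) (hG : Subgroup.closure (Set.range (fun c : G => c * (α c)⁻¹)) = ⊤)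
    (j : ℕ) (hj : ∀ g : G, α g = g⁻¹ → ¬ 2 ^ j ∣ orderOf g) :
    Set.range ((fun c : G => c * (α c)⁻¹)^[j]) = {g : G | Odd (orderOf g) ∧ α g = g⁻¹} := by
  have h2 : ∀ g, α (α g) = g := fun g => by
    have h := pow_orderOf_eq_one α
    rw [hα] at h
    exact DFunLike.congr_fun h g
  have hinv : ∀ c, α (c * (α c)⁻¹) = (c * (α c)⁻¹)⁻¹ := fun c => by
    rw [map_mul, map_inv, h2, mul_inv_rev, inv_inv]
  have hsq : ∀ g, α g = g⁻¹ → ∀ k, ((fun c : G => c * (α c)⁻¹)^[k]) g = g ^ 2 ^ k := by
    intro g hg k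
    induction k with
    | zero => simp
    | succ k ih =>
      rw [Function.iterate_succ_apply', ih]
      show g ^ 2 ^ k * (α (g ^ 2 ^ k))⁻¹ = _
      rw [map_pow, hg, inv_pow, inv_inv, ← pow_add]
      congr 1; ring
  have hj0 : 1 ≤ j := by
    by_contra h
    exact hj 1 (by simp) (by simp [show j = 0 by omega])
  obtain ⟨i, rfl⟩ : ∃ i, j = i + 1 := ⟨j - 1, by omega⟩
  ext g
  constructor
  · rintro ⟨c, rfl⟩
    rw [Function.iterate_succ_apply, hsq _ (hinv c)]
    refine ⟨?_, by rw [map_pow, hinv, inv_pow]⟩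
    set y := c * (α c)⁻¹
    obtain ⟨t, m, hm, ho⟩ := Nat.exists_eq_two_pow_mul_odd (orderOf_pos y).ne'
    have ht : t ≤ i := by
      by_contra h
      exact hj y (hinv c) (ho ▸ Dvd.dvd.mul_right (pow_dvd_pow 2 (by omega)) m)
    refine hm.of_dvd_nat (orderOf_dvd_of_pow_eq_one ?_)
    rw [← pow_mul, ← orderOf_dvd_iff_pow_eq_one, ho]
    exact Nat.mul_dvd_mul_right (pow_dvd_pow 2 ht) m
  · rintro ⟨hodd, hg⟩
    have hcop : (2 ^ (i + 1)).Coprime (orderOf g) :=
      Nat.Coprime.pow_left _ (Nat.coprime_two_left.2 hodd)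
    obtain ⟨k, hk⟩ := exists_pow_eq_self_of_coprime hcop
    refine ⟨g ^ k, ?_⟩
    rw [hsq _ (by rw [map_pow, hg, inv_pow]) (i + 1), ← pow_mul, mul_comm, pow_mul]
    exact hk

end Cfsg.Agent.S3949
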