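import Cfsg.Statements.S3950
import Cfsg.Agent.Lib.Schur.Extra

set_option autoImplicit false
open Cfsg

namespace Cfsg.Agent.S3950

set_option linter.style.haveILetI false
open scoped commutatorElement

/-- A non-cyclic finite abelian group maps onto `C_p × C_p`. -/
lemma exists_two_forms {G : Type*} [CommGroup G] [Finite G] (hnc : ¬ IsCyclic G) :
    ∃ (p : ℕ) (_ : p.Prime) (f g : G →* Multiplicative (ZMod p)) (a b : G),
      f a = Multiplicative.ofAdd 1 ∧ g a = 1 ∧ g b = Multiplicative.ofAdd 1 := by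
  classical
  obtain ⟨ι, _, n, hn, ⟨e⟩⟩ := CommGroup.equiv_prod_multiplicative_zmod_of_finite G
  by_cases h : ∃ i j, i ≠ j ∧ ¬ (n i).Coprime (n j)
  · obtain ⟨i, j, hij, hcop⟩ := h
    obtain ⟨p, hp, hpi, hpj⟩ := Nat.Prime.not_coprime_iff_dvd.1 hcop
    let pr : ∀ k, p ∣ n k → (G →* Multiplicative (ZMod p)) := fun k hk =>
      ((ZMod.castHom hk (ZMod p)).toAddMonoidHom.toMultiplicative.comp
        (Pi.evalMonoidHom (fun l => Multiplicative (ZMod (n l))) k)).comp e.toMonoidHom
    refine ⟨p, hp, pr i hpi, pr j hpj, e.symm (Pi.mulSingle i (Multiplicative.ofAdd 1)),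
      e.symm (Pi.mulSingle j (Multiplicative.ofAdd 1)), ?_, ?_, ?_⟩
    · show Multiplicative.ofAdd (ZMod.castHom hpi (ZMod p)
        ((e (e.symm (Pi.mulSingle i (Multiplicative.ofAdd 1)))) i).toAdd) = _
      rw [MulEquiv.apply_symm_apply, Pi.mulSingle_eq_same, toAdd_ofAdd, map_one]
    · show Multiplicative.ofAdd (ZMod.castHom hpj (ZMod p)
        ((e (e.symm (Pi.mulSingle i (Multiplicative.ofAdd 1)))) j).toAdd) = _
      rw [MulEquiv.apply_symm_apply, Pi.mulSingle_eq_of_ne hij.symm, toAdd_one, map_zero, ofAdd_zero]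
    · show Multiplicative.ofAdd (ZMod.castHom hpj (ZMod p)
        ((e (e.symm (Pi.mulSingle j (Multiplicative.ofAdd 1)))) j).toAdd) = _
      rw [MulEquiv.apply_symm_apply, Pi.mulSingle_eq_same, toAdd_ofAdd, map_one]
  · push Not at h
    haveI : ∀ i, NeZero (n i) := fun i => ⟨by have := hn i; omega⟩
    refine absurd ?_ hnc
    rw [e.isCyclic]
    let y : (i : ι) → Multiplicative (ZMod (n i)) := fun _ => Multiplicative.ofAdd 1
    have hd : ∀ i, n i ∣ orderOf y := fun i => by
      have h1 := orderOf_map_dvd (Pi.evalMonoidHom (fun l => Multiplicative (ZMod (n l))) i) y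
      rwa [show Pi.evalMonoidHom (fun l => Multiplicative (ZMod (n l))) i y =
        Multiplicative.ofAdd 1 from rfl, orderOf_ofAdd_eq_addOrderOf, ZMod.addOrderOf_one] at h1
    apply isCyclic_of_orderOf_eq_card y
    refine Nat.dvd_antisymm (orderOf_dvd_natCard y) ?_
    rw [Nat.card_pi]
    simp only [Nat.card_eq_fintype_card, Fintype.card_multiplicative, ZMod.card]
    exact Finset.prod_dvd_of_isRelPrime (fun i _ j _ hij => Nat.coprime_iff_isRelPrime.1 (h i j hij))
      (fun i _ => hd i)

/-- A finite abelian group has trivial Schur multiplier if and only if it is cyclic. -/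
theorem result {G : Type*} [CommGroup G] [Finite G] : Cfsg.HasCyclicSchurMultiplier G 1 ↔ IsCyclic G := by
  constructor
  · intro h
    by_contra hnc
    obtain ⟨p, hp, f, g, a, b, hfa, hga, hgb⟩ := exists_two_forms hnc
    haveI := Fact.mk hp
    let β : Additive (Multiplicative (ZMod p)) →+ Additive (Multiplicative (ZMod p)) →+ ZMod p :=
      AddMonoidHom.mk' (fun a => AddMonoidHom.mk' (fun b => a.toMul.toAdd * b.toMul.toAdd)
        (fun x y => by simp [mul_add]))
        (fun x y => by ext b; simp [add_mul])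
    let H := Schur.BilExt β
    let q : G →* Multiplicative (ZMod p) × Multiplicative (ZMod p) := f.prod g
    let π := Schur.BilExt.proj β
    have hbot := Schur.inf_commutator_eq_bot h (Schur.pbFst q π)
      (Schur.pbFst_surjective q π (Schur.BilExt.proj_surjective β))
      (Schur.ker_pbFst_le_center q π (Schur.BilExt.ker_proj_le_center β))
    let x : Schur.pullback q π := ⟨(a, ⟨f a, g a, 0⟩), rfl⟩
    let y : Schur.pullback q π := ⟨(b, ⟨f b, g b, 0⟩), rfl⟩
    have hxy : ⁅x, y⁆ ∈ (Schur.pbFst q π).ker ⊓ commutator (Schur.pullback q π) := by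
      refine ⟨?_, Subgroup.commutator_mem_commutator (Subgroup.mem_top _) (Subgroup.mem_top _)⟩
      show Schur.pbFst q π ⁅x, y⁆ = 1
      rw [map_commutatorElement,
        commutatorElement_eq_one_iff_mul_comm]
      exact mul_comm _ _
    rw [hbot, Subgroup.mem_bot] at hxy
    have h2 : ((⁅x, y⁆ : Schur.pullback q π) : G × H).2.cen = 0 := by rw [hxy]; rfl
    simp only [commutatorElement_def, Subgroup.coe_mul, Subgroup.coe_inv, Prod.snd_mul,
      Prod.snd_inv, x, y, H, Schur.BilExt.mul_cen, Schur.BilExt.mul_fst, Schur.BilExt.mul_snd,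
      Schur.BilExt.inv_cen, Schur.BilExt.inv_fst, Schur.BilExt.inv_snd, hfa, hga, hgb] at h2
    simp [β] at h2
  · intro hcyc
    refine Schur.hasCyclicSchurMultiplier_one_of fun X _ ξ hs hc => ?_
    obtain ⟨t, ht⟩ := hcyc.exists_generator
    obtain ⟨x, hx⟩ := hs t
    have hgen : Subgroup.closure {ξ x, ξ x} = ⊤ := by
      rw [Set.pair_eq_singleton, ← Subgroup.zpowers_eq_closure, hx, eq_top_iff]
      exact fun g _ => ht g
    have hle := Schur.commutator_le_of_pair ξ hc x x hgen ⊥ (by simp [commutatorElement_self])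
    exact le_bot_iff.1 (inf_le_right.trans hle)

end Cfsg.Agent.S3950
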