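import Cfsg.Statements.S3951
import Cfsg.Agent.Lib.Schur.Extra

set_option autoImplicit false
open Cfsg

namespace Cfsg.Agent.S3951

open scoped commutatorElement

lemma closure_pair_eq_top (m n : ℕ) [NeZero m] [NeZero n] :
    Subgroup.closure {Multiplicative.ofAdd ((1, 0) : ZMod m × ZMod n),
      Multiplicative.ofAdd ((0, 1) : ZMod m × ZMod n)} = ⊤ := by
  refine eq_top_iff.2 fun g _ => ?_
  have h : g = Multiplicative.ofAdd (g.toAdd.1.val • ((1, 0) : ZMod m × ZMod n)) *
      Multiplicative.ofAdd (g.toAdd.2.val • ((0, 1) : ZMod m × ZMod n)) := by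
    apply Multiplicative.toAdd.injective
    refine Prod.ext ?_ ?_
    · simp only [toAdd_mul, toAdd_ofAdd, Prod.fst_add, nsmul_eq_mul]; simp
    · simp only [toAdd_mul, toAdd_ofAdd, Prod.snd_add, nsmul_eq_mul]; simp
  rw [h, ofAdd_nsmul, ofAdd_nsmul]
  refine Subgroup.mul_mem _ (Subgroup.pow_mem _ ?_ _) (Subgroup.pow_mem _ ?_ _)
  · exact Subgroup.subset_closure (Set.mem_insert _ _)
  · exact Subgroup.subset_closure (Set.mem_insert_of_mem _ rfl)

/-- For positive integers `m` and `n` with `n` dividing `m`, the Schur multiplier of the abelian group `ZMod m × ZMod n` (written multiplicatively) is cyclic of order `n`. In particular the elementary abelian group of order `p ^ 2` has multiplier of order `p`. -/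
theorem result (m n : ℕ) [NeZero m] [NeZero n] (hnm : n ∣ m) : Cfsg.HasCyclicSchurMultiplier (Multiplicative (ZMod m × ZMod n)) n := by
  let β : Additive (Multiplicative (ZMod m)) →+ Additive (Multiplicative (ZMod n)) →+ ZMod n :=
    AddMonoidHom.mk' (fun a => AddMonoidHom.mk' (fun b => ZMod.castHom hnm (ZMod n) a.toMul.toAdd * b.toMul.toAdd)
      (fun x y => by simp [mul_add]))
      (fun x y => by ext b; simp [ZMod.cast_add hnm, add_mul])
  let e : Multiplicative (ZMod m × ZMod n) ≃* (Multiplicative (ZMod m)) × (Multiplicative (ZMod n)) := MulEquiv.prodMultiplicative _ _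
  let ξ₀ : Schur.BilExt β →* Multiplicative (ZMod m × ZMod n) :=
    e.symm.toMonoidHom.comp (Schur.BilExt.proj β)
  have hξker : ξ₀.ker = (Schur.BilExt.proj β).ker := by
    ext x
    simp only [ξ₀, MonoidHom.mem_ker, MonoidHom.coe_comp, MulEquiv.coe_toMonoidHom,
      Function.comp_apply, EmbeddingLike.map_eq_one_iff]
  have hs₀ : Function.Surjective ξ₀ := e.symm.surjective.comp (Schur.BilExt.proj_surjective β)
  have hc₀ : ξ₀.ker ≤ Subgroup.center _ := hξker ▸ Schur.BilExt.ker_proj_le_center β
  have hlow : n ≤ Nat.card (Schur.Multiplier (Multiplicative (ZMod m × ZMod n))) := by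
    have hdvd := Schur.card_dvd_card_multiplier ξ₀ hs₀ hc₀
    refine le_trans ?_ (Nat.le_of_dvd Nat.card_pos hdvd)
    have hgen : AddSubgroup.closure (Set.range fun p : (Multiplicative (ZMod m)) × (Multiplicative (ZMod n)) =>
        β (Additive.ofMul p.1) (Additive.ofMul p.2)) = ⊤ := by
      rw [eq_top_iff]
      rintro t -
      refine AddSubgroup.subset_closure ⟨(Multiplicative.ofAdd 1, Multiplicative.ofAdd t), ?_⟩
      show ZMod.castHom hnm (ZMod n) 1 * t = t
      rw [map_one, one_mul]
    have hrange := Schur.BilExt.range_cenHom_le β hgen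
    rw [← hξker] at hrange
    calc n = Nat.card (Schur.BilExt.cenHom β).range := by
          rw [← Nat.card_congr (MonoidHom.ofInjective (Schur.BilExt.cenHom_injective β)).toEquiv]
          simp
      _ ≤ _ := by
          haveI : Finite ↥(ξ₀.ker ⊓ commutator (Schur.BilExt β)) :=
            Nat.finite_of_card_ne_zero (ne_zero_of_dvd_ne_zero Nat.card_pos.ne' hdvd)
          exact Subgroup.card_le_of_le hrange
  let E := Schur.StdCover (Multiplicative (ZMod m × ZMod n))
  let σ := Schur.stdHom (Multiplicative (ZMod m × ZMod n))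
  have hcen := Schur.stdHom_ker_le_center (Multiplicative (ZMod m × ZMod n))
  obtain ⟨a, ha⟩ := Schur.stdHom_surjective _ (Multiplicative.ofAdd ((1, 0) : ZMod m × ZMod n))
  obtain ⟨b, hb⟩ := Schur.stdHom_surjective _ (Multiplicative.ofAdd ((0, 1) : ZMod m × ZMod n))
  have hgen : Subgroup.closure {σ a, σ b} = ⊤ := by
    rw [show σ a = _ from ha, show σ b = _ from hb]
    exact closure_pair_eq_top m n
  have hc_ker : ⁅a, b⁆ ∈ σ.ker := by
    rw [MonoidHom.mem_ker, map_commutatorElement, commutatorElement_eq_one_iff_mul_comm]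
    exact mul_comm _ _
  haveI : (Subgroup.zpowers ⁅a, b⁆).Normal :=
    Schur.normal_of_le_center (Subgroup.zpowers_le.2 (hcen hc_ker))
  have hle := Schur.commutator_le_of_pair σ hcen a b hgen _ (Subgroup.mem_zpowers ⁅a, b⁆)
  have hc' : ∀ k : ℕ, a * b ^ k * a⁻¹ = ⁅a, b⁆ ^ k * b ^ k := fun k => by
    rw [← conj_pow, show a * b * a⁻¹ = ⁅a, b⁆ * b by rw [commutatorElement_def]; group]
    exact Commute.mul_pow (Subgroup.mem_center_iff.1 (hcen hc_ker) b).symm k
  have hbn : b ^ n ∈ σ.ker := by
    rw [MonoidHom.mem_ker, map_pow, show σ b = _ from hb]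
    apply Multiplicative.toAdd.injective
    simp [Prod.ext_iff]
  have hcn : ⁅a, b⁆ ^ n = 1 := by
    have h1 := hc' n
    rw [Subgroup.mem_center_iff.1 (hcen hbn) a, mul_inv_cancel_right] at h1
    exact right_eq_mul.1 h1
  have hMle : Schur.Multiplier (Multiplicative (ZMod m × ZMod n)) ≤ Subgroup.zpowers ⁅a, b⁆ :=
    inf_le_right.trans hle
  haveI : IsCyclic (Schur.Multiplier (Multiplicative (ZMod m × ZMod n))) :=
    Subgroup.isCyclic_of_le hMle
  rw [Schur.hasCyclicSchurMultiplier_iff]
  refine ⟨inferInstance, le_antisymm ?_ hlow⟩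
  have hfin : Finite (Subgroup.zpowers ⁅a, b⁆) := Nat.finite_of_card_ne_zero (by
    rw [Nat.card_zpowers, orderOf_ne_zero_iff]
    exact isOfFinOrder_iff_pow_eq_one.2 ⟨n, Nat.pos_of_ne_zero (NeZero.ne n), hcn⟩)
  refine (Subgroup.card_le_of_le hMle).trans ?_
  rw [Nat.card_zpowers]
  exact orderOf_le_of_pow_eq_one (Nat.pos_of_ne_zero (NeZero.ne n)) hcn

end Cfsg.Agent.S3951
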