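import Cfsg.Statements.S3952
import Cfsg.Agent.Lib.Schur.Basic
import Cfsg.Agent.Lib.Char.Complete
import Cfsg.Agent.Lib.Char.Integral

set_option autoImplicit false
open Cfsg

namespace Cfsg.Agent.S3952

open scoped commutatorElement

/-- An irreducible character has a central character on central elements of the commutator, of
order dividing the degree. -/
lemma exists_central_hom {Γ : Type*} [Group Γ] [Finite Γ] {Z : Subgroup Γ}
    (hc : Z ≤ Subgroup.center Γ) (hd : Z ≤ commutator Γ) {χ : Γ → ℂ}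
    (hχ : Cfsg.IsIrrCharacter Γ χ) :
    ∃ (d : ℕ) (ω : Z →* ℂˣ), χ 1 = d ∧ (∀ z : Z, χ z = (ω z : ℂ) * d) ∧ ω ^ d = 1 := by
  obtain ⟨n, ρ, hirr, rfl⟩ := hχ
  haveI := hirr
  have hs : ∀ z : Z, ∃ c : ℂ, ρ z = c • LinearMap.id := fun z =>
    Char.schur_scalar ρ (ρ z) (fun g x => by
      rw [← Module.End.mul_apply, ← Module.End.mul_apply, ← map_mul, ← map_mul,
        Subgroup.mem_center_iff.1 (hc z.2) g])
  choose c hc' using hs
  have hn : n ≠ 0 := by
    rintro rfl
    haveI := Char.nontrivial_of_irreducible ρ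
    exact not_subsingleton (Fin 0 → ℂ) inferInstance
  haveI : NeZero n := ⟨hn⟩
  have happ : ∀ (z : Z), ρ z (fun _ => (1 : ℂ)) 0 = c z := fun z => by
    rw [hc']; simp
  have hmul : ∀ a b : Z, c (a * b) = c a * c b := fun a b => by
    rw [← happ, Subgroup.coe_mul, map_mul, hc' a, hc' b]
    simp [mul_comm]
  have h1 : c 1 = 1 := by
    rw [← happ]; simp
  let ωm : Z →* ℂ := { toFun := c, map_one' := h1, map_mul' := hmul }
  refine ⟨n, ωm.toHomUnits, by simp [Representation.character], fun z => ?_, ?_⟩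
  · show ρ.character z = c z * n
    simp [Representation.character, hc']
  · refine MonoidHom.ext fun z => Units.ext ?_
    show (((ωm.toHomUnits z) ^ n : ℂˣ) : ℂ) = 1
    rw [Units.val_pow_eq_pow_val]
    show c z ^ n = 1
    let D : Γ →* ℂˣ := (LinearMap.det.comp ρ).toHomUnits
    have hD : D z = 1 := Abelianization.commutator_subset_ker D (hd z.2)
    have hD' : LinearMap.det (ρ z) = 1 := congrArg Units.val hD
    rw [hc', LinearMap.det_smul, LinearMap.det_id, mul_one] at hD'
    simpa using hD'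

/-- If `A` is the Schur multiplier of the finite group `Q`, then the square of the exponent of `A` divides the order of `Q`. -/
theorem result {Q : Type*} [Group Q] [Finite Q] {A : Type*} [CommGroup A] (hA : Cfsg.HasSchurMultiplier Q A) : Monoid.exponent A ^ 2 ∣ Nat.card Q := by
  classical
  obtain ⟨Γ, _, _, σ, hσ, ⟨e⟩⟩ := hA.1
  haveI : Finite A := Schur.finite_multiplier_type hA
  haveI := Fintype.ofFinite Γ
  haveI := Fintype.ofFinite σ.ker
  letI : CommGroup σ.ker :=
    { (inferInstance : Group σ.ker) with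
      mul_comm := fun a b => Subtype.ext (Subgroup.mem_center_iff.1 (hσ.2.1 b.2) a) }
  obtain ⟨eD⟩ := CommGroup.monoidHom_mulEquiv_of_hasEnoughRootsOfUnity σ.ker ℂ
  obtain ⟨z₀, hz₀⟩ := Monoid.exists_orderOf_eq_exponent
    (Monoid.ExponentExists.of_finite (G := σ.ker))
  let lam : σ.ker →* ℂˣ := eD.symm z₀
  have hlam : orderOf lam = Monoid.exponent A := by
    rw [show lam = eD.symm.toMonoidHom z₀ from rfl,
      orderOf_injective eD.symm.toMonoidHom eD.symm.injective z₀, hz₀,
      Monoid.exponent_eq_of_mulEquiv e]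
  choose d ω hd1 hdz hdω using fun χ : Cfsg.IrrCharacter Γ =>
    exists_central_hom hσ.2.1 hσ.2.2 χ.2
  let μ : σ.ker →* ℂˣ := lam⁻¹
  let S : ℂ := ∑ z : σ.ker, (μ z : ℂ) * (Representation.leftRegular ℂ Γ).character z
  have hS1 : S = Nat.card Γ := by
    simp only [S, Char.character_leftRegular]
    rw [Finset.sum_eq_single 1]
    · simp
    · intro z _ hz
      rw [if_neg (fun h : (z : Γ) = 1 => hz (Subtype.ext h)), mul_zero]
    · simp
  have hS2 : S = ∑ χ : Cfsg.IrrCharacter Γ,
      if ω χ = lam then ((d χ : ℂ) ^ 2 * Nat.card σ.ker) else 0 := by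
    simp only [S, Char.leftRegular_eq_sum, Finset.sum_apply, Pi.smul_apply, smul_eq_mul,
      Finset.mul_sum]
    rw [Finset.sum_comm]
    refine Finset.sum_congr rfl fun χ _ => ?_
    have h3 : ∀ z : σ.ker, (μ z : ℂ) * ((χ : Γ → ℂ) 1 * (χ : Γ → ℂ) z) =
        (d χ : ℂ) ^ 2 * (((μ * ω χ) z : ℂˣ) : ℂ) := fun z => by
      rw [hd1, hdz, MonoidHom.mul_apply, Units.val_mul]; ring
    rw [Finset.sum_congr rfl (fun z _ => h3 z), ← Finset.mul_sum]
    split_ifs with h
    · rw [h, show μ * lam = 1 from inv_mul_cancel lam]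
      simp [Nat.card_eq_fintype_card]
    · have hne : (Units.coeHom ℂ).comp (μ * ω χ) ≠ 1 := by
        intro h'
        apply h
        have h4 : μ * ω χ = 1 := MonoidHom.ext fun z => Units.ext (DFunLike.congr_fun h' z)
        exact (inv_mul_eq_one.1 h4).symm
      have h5 : ∑ z : σ.ker, (((μ * ω χ) z : ℂˣ) : ℂ) = 0 := sum_hom_units_eq_zero _ hne
      rw [h5, mul_zero]
  have hdvd : ∀ χ : Cfsg.IrrCharacter Γ, ω χ = lam → Monoid.exponent A ∣ d χ := fun χ h => by
    rw [← hlam, ← h]
    exact orderOf_dvd_of_pow_eq_one (hdω χ)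
  have hnat : Nat.card Γ = ∑ χ : Cfsg.IrrCharacter Γ,
      if ω χ = lam then d χ ^ 2 * Nat.card σ.ker else 0 := by
    apply Nat.cast_injective (R := ℂ)
    rw [← hS1, hS2, Nat.cast_sum]
    refine Finset.sum_congr rfl fun χ _ => ?_
    split_ifs <;> simp
  have hcard : Nat.card Γ = Nat.card σ.ker * Nat.card Q := by
    rw [← Subgroup.card_mul_index σ.ker, Subgroup.index_ker,
      MonoidHom.range_eq_top.2 hσ.1, Subgroup.card_top]
  have hmain : Monoid.exponent A ^ 2 * Nat.card σ.ker ∣ Nat.card Q * Nat.card σ.ker := by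
    rw [mul_comm (Nat.card Q), ← hcard, hnat]
    refine Finset.dvd_sum fun χ _ => ?_
    split_ifs with h
    · exact Nat.mul_dvd_mul_right (pow_dvd_pow_of_dvd (hdvd χ h) 2) _
    · exact dvd_zero _
  exact Nat.dvd_of_mul_dvd_mul_right Nat.card_pos hmain

end Cfsg.Agent.S3952
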