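import Cfsg.Statements.S3953
import Cfsg.Agent.Lib.Schur.Transfer

set_option autoImplicit false
open Cfsg

namespace Cfsg.Agent.S3953

/-- Let `P` be a Sylow `p`-subgroup of the finite group `G`, let `A` be the Schur multiplier of `G` and `B` that of `P`. Then the `p`-primary component of `A` is isomorphic to a direct factor of `B`: there are subgroups `C` and `D` of `B` meeting trivially and generating `B`, with `C` isomorphic to the `p`-primary component of `A`. -/
theorem result {G : Type*} [Group G] [Finite G] (p : ℕ) [Fact p.Prime] (P : Sylow p G) {A B : Type*} [CommGroup A] [CommGroup B] (hA : Cfsg.HasSchurMultiplier G A) (hB : Cfsg.HasSchurMultiplier P B) : ∃ C D : Subgroup B, C ⊓ D = ⊥ ∧ C ⊔ D = ⊤ ∧ Nonempty (CommGroup.primaryComponent A p ≃* C) := by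
  haveI := Schur.finite_multiplier_type hA
  obtain ⟨eA⟩ := Schur.multiplierEquiv hA
  obtain ⟨eB'⟩ := Schur.multiplierEquiv hB
  haveI : ((P : Subgroup G).comap (Schur.stdPres G)).FiniteIndex := ⟨by
    rw [Subgroup.index_comap_of_surjective _ (Schur.stdPres_surjective G)]
    exact Subgroup.FiniteIndex.index_ne_zero⟩
  let πP := Schur.subPres (Schur.stdPres G) (P : Subgroup G)
  obtain ⟨eP⟩ := Schur.multEquiv_multiplier πP
    (Schur.subPres_surjective _ _ (Schur.stdPres_surjective G))
  let eB : Schur.mult πP ≃* B := eP.trans eB'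
  let res : B →* A := eA.toMonoidHom.comp
    ((Schur.multIncl (Schur.stdPres G) (P : Subgroup G)).comp eB.symm.toMonoidHom)
  let tr : A →* B := eB.toMonoidHom.comp
    ((Schur.multTransfer (Schur.stdPres G) (P : Subgroup G)).comp eA.symm.toMonoidHom)
  have hres : ∀ a, res (tr a) = a ^ (P : Subgroup G).index := fun a => by
    show eA (Schur.multIncl _ _ (eB.symm (eB (Schur.multTransfer _ _ (eA.symm a))))) = _
    rw [eB.symm_apply_apply, Schur.multIncl_multTransfer _ _ (Schur.stdPres_surjective G),
      map_pow, eA.apply_symm_apply]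
  obtain ⟨k, hk⟩ := IsPGroup.iff_card.1 P.isPGroup'
  have hBp : ∀ b : B, res b ∈ CommGroup.primaryComponent A p := fun b => by
    have h1 : b ^ p ^ k = 1 := by
      rw [← eB'.apply_symm_apply b, ← map_pow, ← hk, Schur.pow_card_eq_one, map_one]
    obtain ⟨j, -, hj⟩ := (Nat.dvd_prime_pow Fact.out).1
      (orderOf_dvd_of_pow_eq_one (show res b ^ p ^ k = 1 by rw [← map_pow, h1, map_one]))
    exact ⟨j, by rw [← hj, pow_orderOf_eq_one]⟩
  let q : B →* CommGroup.primaryComponent A p := res.codRestrict _ hBp
  let s : CommGroup.primaryComponent A p →* B := tr.comp (Subgroup.subtype _)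
  have hbij : Function.Bijective (q ∘ s) := by
    have hfun : (q ∘ s) = fun a => a ^ (P : Subgroup G).index :=
      funext fun a => Subtype.ext (hres a)
    rw [hfun]
    refine Finite.injective_iff_bijective.1 fun a b hab => ?_
    have hp : IsPGroup p (CommGroup.primaryComponent A p) := CommGroup.primaryComponent.isPGroup
    exact hp.powEquiv (((Fact.out : p.Prime).coprime_iff_not_dvd).2 P.not_dvd_index) |>.injective hab
  refine ⟨s.range, q.ker, ?_, ?_, ⟨MonoidHom.ofInjective hbij.1.of_comp⟩⟩
  · rw [eq_bot_iff]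
    rintro _ ⟨⟨a, rfl⟩, hb⟩
    have : a = 1 := hbij.1 ((show q (s a) = 1 from hb).trans (by simp))
    simp [this]
  · rw [eq_top_iff]
    intro b _
    obtain ⟨a, ha⟩ := hbij.2 (q b)
    rw [show b = s a * ((s a)⁻¹ * b) by group]
    refine Subgroup.mul_mem_sup ⟨a, rfl⟩ ?_
    rw [MonoidHom.mem_ker, map_mul, map_inv, show q (s a) = q b from ha, inv_mul_cancel]

end Cfsg.Agent.S3953
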