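import Cfsg.Statements.S3954
import Cfsg.Agent.Lib.Schur.Transfer

set_option autoImplicit false
open Cfsg

namespace Cfsg.Agent.S3954

/-- Let `U` be a subgroup of index `m` in the finite group `G`, let `A` be the Schur multiplier of `G` and `B` that of `U`. Then the subgroup of `m`-th powers of `A` is isomorphic to a subgroup of `B`. -/
theorem result {G : Type*} [Group G] [Finite G] (U : Subgroup G) {A B : Type*} [CommGroup A] [CommGroup B] (hA : Cfsg.HasSchurMultiplier G A) (hB : Cfsg.HasSchurMultiplier U B) : ∃ C : Subgroup B, Nonempty ((powMonoidHom U.index : A →* A).range ≃* C) := by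
  haveI := Schur.finite_multiplier_type hA
  haveI := Schur.finite_multiplier_type hB
  obtain ⟨eA⟩ := Schur.multiplierEquiv hA
  obtain ⟨eB'⟩ := Schur.multiplierEquiv hB
  haveI : (U.comap (Schur.stdPres G)).FiniteIndex := ⟨by
    rw [Subgroup.index_comap_of_surjective _ (Schur.stdPres_surjective G)]
    exact Subgroup.FiniteIndex.index_ne_zero⟩
  let πU := Schur.subPres (Schur.stdPres G) U
  obtain ⟨eP⟩ := Schur.multEquiv_multiplier πU
    (Schur.subPres_surjective _ _ (Schur.stdPres_surjective G))
  let eB : Schur.mult πU ≃* B := eP.trans eB'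
  let res : B →* A := eA.toMonoidHom.comp
    ((Schur.multIncl (Schur.stdPres G) U).comp eB.symm.toMonoidHom)
  let tr : A →* B := eB.toMonoidHom.comp
    ((Schur.multTransfer (Schur.stdPres G) U).comp eA.symm.toMonoidHom)
  have hres : ∀ a, res (tr a) = a ^ U.index := fun a => by
    show eA (Schur.multIncl _ _ (eB.symm (eB (Schur.multTransfer _ _ (eA.symm a))))) = _
    rw [eB.symm_apply_apply, Schur.multIncl_multTransfer _ _ (Schur.stdPres_surjective G),
      map_pow, eA.apply_symm_apply]
  let r : tr.range →* (powMonoidHom U.index : A →* A).range :=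
    (res.comp tr.range.subtype).codRestrict _ (by rintro ⟨_, a, rfl⟩; exact ⟨a, (hres a).symm⟩)
  have hr : Function.Surjective r := by
    rintro ⟨_, a, rfl⟩
    exact ⟨⟨tr a, a, rfl⟩, Subtype.ext (hres a)⟩
  obtain ⟨g, hg⟩ := Schur.exists_injective_of_surjective r hr
  exact ⟨(tr.range.subtype.comp g).range,
    ⟨MonoidHom.ofInjective (Subtype.val_injective.comp hg)⟩⟩

end Cfsg.Agent.S3954
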