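import Cfsg.Statements.S3955
import Cfsg.Agent.Lib.Schur.Lift

set_option autoImplicit false
open Cfsg

namespace Cfsg.Agent.S3955

/-- Let `Q` be a finite group with Schur multiplier `A`, and let `σ : Γ →* Q` be a finite stem extension whose kernel is isomorphic to `A` (a Schur covering group of `Q`). Then every homomorphism `γ` from `Q` to the quotient of `GL n ℂ` by its centre lifts along `σ`: there is a homomorphism `ρ : Γ →* GL n ℂ` which, followed by the quotient map, equals `γ ∘ σ`. -/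
theorem result {Q : Type*} [Group Q] [Finite Q] {A : Type*} [CommGroup A] (hA : Cfsg.HasSchurMultiplier Q A) {Γ : Type*} [Group Γ] [Finite Γ] (σ : Γ →* Q) (hσ : Cfsg.IsStemExtension σ) (hk : Nonempty (σ.ker ≃* A)) (n : ℕ) (γ : Q →* (GL (Fin n) ℂ ⧸ Subgroup.center (GL (Fin n) ℂ))) : ∃ ρ : Γ →* GL (Fin n) ℂ, (QuotientGroup.mk' (Subgroup.center (GL (Fin n) ℂ))).comp ρ = γ.comp σ := by
  rcases eq_or_ne n 0 with rfl | hn
  · refine ⟨1, MonoidHom.ext fun x => ?_⟩
    obtain ⟨y, hy⟩ := QuotientGroup.mk'_surjective (Subgroup.center (GL (Fin 0) ℂ)) (γ (σ x))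
    rw [MonoidHom.comp_apply, MonoidHom.comp_apply, ← hy, Subsingleton.elim y ((1 : Γ →* GL (Fin 0) ℂ) x)]
  haveI : NeZero n := ⟨hn⟩
  haveI := Schur.finite_multiplier_type hA
  obtain ⟨η, hη⟩ := Schur.exists_lift (Schur.stdPres Q) (MonoidHom.id Q) σ hσ.1 hσ.2.1
  rw [MonoidHom.id_comp] at hη
  have hηs : Function.Surjective η :=
    Schur.surjective_lift_stem _ σ η (Schur.stdPres_surjective Q) hσ.2.1 hσ.2.2 hη
  have hkle : η.ker ≤ (Schur.stdHom Q).ker := fun e he => by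
    show Schur.stdHom Q e = 1
    rw [show Schur.stdHom Q = σ.comp η from hη.symm, MonoidHom.comp_apply, MonoidHom.mem_ker.1 he,
      map_one]
  have hmap := Schur.map_mult _ σ η (Schur.stdPres_surjective Q) hσ.2.1 hη
  have hcard : Nat.card (Schur.Multiplier Q) = Nat.card σ.ker := by
    obtain ⟨e₁⟩ := Schur.multiplierEquiv hA
    obtain ⟨e₂⟩ := hk
    rw [Nat.card_congr e₁.toEquiv, Nat.card_congr e₂.toEquiv]
  have hinj : η.ker ⊓ commutator (Schur.StdCover Q) = ⊥ := by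
    let f : Schur.Multiplier Q →* σ.ker := (η.comp (Schur.Multiplier Q).subtype).codRestrict _
      (fun m => (hmap.le ⟨m, m.2, rfl⟩).1)
    have hf : Function.Surjective f := fun k => by
      obtain ⟨e, he, hek⟩ := hmap.ge ⟨k.2, hσ.2.2 k.2⟩
      exact ⟨⟨e, he⟩, Subtype.ext hek⟩
    have hfi := (Function.Surjective.bijective_of_nat_card_le hf hcard.le).1
    rw [eq_bot_iff]
    rintro e ⟨he1, he2⟩
    have h1 : (⟨e, hkle he1, he2⟩ : Schur.Multiplier Q) = 1 :=
      hfi (Subtype.ext ((show η e = 1 from he1).trans (map_one η).symm))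
    exact congrArg Subtype.val h1
  have hmk : Function.Surjective (QuotientGroup.mk' (Subgroup.center (GL (Fin n) ℂ))) :=
    QuotientGroup.mk'_surjective _
  obtain ⟨ρ₀, hρ₀⟩ := Schur.exists_lift (Schur.stdPres Q) γ _ hmk
    (le_of_eq (QuotientGroup.ker_mk' _))
  obtain ⟨ρ₁, hρ₁, hdiff⟩ := Schur.exists_twist ρ₀ η.ker hkle hinj (fun l hl => by
    refine (QuotientGroup.eq_one_iff (ρ₀ l)).1 ?_
    exact (DFunLike.congr_fun hρ₀ l).trans (by rw [MonoidHom.comp_apply,
      show Schur.coverHom (Schur.stdPres Q) l = 1 from hkle hl, map_one]))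
  refine ⟨η.liftOfSurjective hηs ⟨ρ₁, fun l hl => hρ₁ l hl⟩, MonoidHom.ext fun x => ?_⟩
  obtain ⟨e, rfl⟩ := hηs x
  rw [MonoidHom.comp_apply, MonoidHom.comp_apply,
    MonoidHom.liftOfRightInverse_comp_apply]
  have h1 : (ρ₁ e : GL (Fin n) ℂ ⧸ Subgroup.center (GL (Fin n) ℂ)) = (ρ₀ e : GL (Fin n) ℂ ⧸ _) :=
    (QuotientGroup.eq.2 (hdiff e)).symm
  rw [show σ (η e) = Schur.stdHom Q e from DFunLike.congr_fun hη e]
  exact h1.trans (DFunLike.congr_fun hρ₀ e)

end Cfsg.Agent.S3955
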