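import Cfsg.Statements.S3956
import Cfsg.Agent.Lib.Schur.Lift

set_option autoImplicit false
universe u v
open Cfsg

namespace Cfsg.Agent.S3956

/-- Let `σ : Γ →* Q` be a finite stem extension of the finite group `Q` such that every homomorphism from `Q` to the quotient of `GL n ℂ` by its centre, for every `n`, lifts along `σ` to a homomorphism `Γ →* GL n ℂ`. Then `σ` is a Schur covering group of `Q`: for every finite stem extension `τ : Δ →* Q` with `Δ` in the same universe as `Q`, the kernel of `τ` is a homomorphic image of the kernel of `σ`. -/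
theorem result {Q : Type u} [Group Q] [Finite Q] {Γ : Type v} [Group Γ] [Finite Γ] (σ : Γ →* Q) (hσ : Cfsg.IsStemExtension σ) (hlift : ∀ (n : ℕ) (γ : Q →* (GL (Fin n) ℂ ⧸ Subgroup.center (GL (Fin n) ℂ))), ∃ ρ : Γ →* GL (Fin n) ℂ, (QuotientGroup.mk' (Subgroup.center (GL (Fin n) ℂ))).comp ρ = γ.comp σ) (Δ : Type u) [Group Δ] [Finite Δ] (τ : Δ →* Q) (hτ : Cfsg.IsStemExtension τ) : ∃ π : σ.ker →* τ.ker, Function.Surjective π := by
  classical
  letI : CommGroup τ.ker :=
    { (inferInstance : Group τ.ker) with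
      mul_comm := fun a b => Subtype.ext (Subgroup.mem_center_iff.1 (hτ.2.1 b.2) a) }
  obtain ⟨η, hη⟩ := Schur.exists_lift (Schur.stdPres Q) (MonoidHom.id Q) σ hσ.1 hσ.2.1
  obtain ⟨η', hη'⟩ := Schur.exists_lift (Schur.stdPres Q) (MonoidHom.id Q) τ hτ.1 hτ.2.1
  rw [MonoidHom.id_comp] at hη hη'
  have hmap := Schur.map_mult _ σ η (Schur.stdPres_surjective Q) hσ.2.1 hη
  have hmap' := Schur.map_mult _ τ η' (Schur.stdPres_surjective Q) hτ.2.1 hη'
  let f : Schur.Multiplier Q →* σ.ker := (η.comp (Schur.Multiplier Q).subtype).codRestrict _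
    (fun m => (hmap.le ⟨m, m.2, rfl⟩).1)
  let f' : Schur.Multiplier Q →* τ.ker := (η'.comp (Schur.Multiplier Q).subtype).codRestrict _
    (fun m => (hmap'.le ⟨m, m.2, rfl⟩).1)
  have hf : Function.Surjective f := fun k => by
    obtain ⟨e, he, hek⟩ := hmap.ge ⟨k.2, hσ.2.2 k.2⟩
    exact ⟨⟨e, he⟩, Subtype.ext hek⟩
  have hf' : Function.Surjective f' := fun k => by
    obtain ⟨e, he, hek⟩ := hmap'.ge ⟨k.2, hτ.2.2 k.2⟩
    exact ⟨⟨e, he⟩, Subtype.ext hek⟩
  have hker : f.ker ≤ f'.ker := by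
    intro m hm
    by_contra hne
    obtain ⟨lam, hlam⟩ := CommGroup.exists_apply_ne_one_of_hasEnoughRootsOfUnity τ.ker ℂ
      (a := f' m) hne
    obtain ⟨ρ', hρ'⟩ := Schur.exists_monomial_rep τ hτ.1 hτ.2.1 lam
    let q := QuotientGroup.mk' (Subgroup.center (GL (Fin (Nat.card Q)) ℂ))
    have hq : τ.ker ≤ (q.comp ρ').ker := fun z hz => by
      rw [MonoidHom.mem_ker, MonoidHom.comp_apply, hρ' ⟨z, hz⟩]
      refine (QuotientGroup.eq_one_iff _).2 ?_
      rw [Matrix.GeneralLinearGroup.center_eq_range_scalar]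
      exact ⟨_, rfl⟩
    let γ := τ.liftOfSurjective hτ.1 ⟨q.comp ρ', hq⟩
    have hγ : ∀ d, γ (τ d) = q (ρ' d) := fun d =>
      MonoidHom.liftOfRightInverse_comp_apply _ _ _ ⟨q.comp ρ', hq⟩ d
    obtain ⟨ρ, hρ⟩ := hlift _ γ
    have hcomp : q.comp (ρ.comp η) = q.comp (ρ'.comp η') := by
      refine MonoidHom.ext fun e => ?_
      show q (ρ (η e)) = q (ρ' (η' e))
      rw [← hγ, show q (ρ (η e)) = γ (σ (η e)) from DFunLike.congr_fun hρ (η e),
        show σ (η e) = Schur.stdHom Q e from DFunLike.congr_fun hη e,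
        show τ (η' e) = Schur.stdHom Q e from DFunLike.congr_fun hη' e]
    have h1 : ρ (η m) = ρ' (η' m) :=
      Schur.eq_on_commutator q (le_of_eq (QuotientGroup.ker_mk' _)) (ρ.comp η) (ρ'.comp η') hcomp
        m m.2.2
    rw [show η m = 1 from congrArg Subtype.val hm, map_one,
      show η' (m : Schur.StdCover Q) = ((f' m : τ.ker) : Δ) from rfl, hρ'] at h1
    haveI : NeZero (Nat.card Q) := ⟨Nat.card_pos.ne'⟩
    exact hlam (Schur.scalar_injective (h1.symm.trans (map_one _).symm))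
  exact ⟨f.liftOfSurjective hf ⟨f', hker⟩, fun k => by
    obtain ⟨m, rfl⟩ := hf' k
    exact ⟨f m, MonoidHom.liftOfRightInverse_comp_apply _ _ _ ⟨f', hker⟩ m⟩⟩

end Cfsg.Agent.S3956
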