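import Cfsg.Statements.S3957
import Cfsg.Agent.Lib.Schur.Lift

set_option autoImplicit false
universe u v
open Cfsg

namespace Cfsg.Agent.S3957

/-- Let `Q` be a finite group with Schur multiplier `A` and let `τ : Δ →* Q` be a finite stem extension, `Δ` in the universe of `Q`. Then there is a finite stem extension `σ : Γ →* Q` with kernel isomorphic to `A` (a Schur covering group) and a surjective homomorphism `β : Γ →* Δ` with `τ ∘ β = σ`. -/
theorem result {Q : Type u} [Group Q] [Finite Q] {A : Type v} [CommGroup A] (hA : Cfsg.HasSchurMultiplier Q A) {Δ : Type u} [Group Δ] [Finite Δ] (τ : Δ →* Q) (hτ : Cfsg.IsStemExtension τ) : ∃ (Γ : Type u) (_ : Group Γ) (_ : Finite Γ) (σ : Γ →* Q), Cfsg.IsStemExtension σ ∧ Nonempty (σ.ker ≃* A) ∧ ∃ β : Γ →* Δ, Function.Surjective β ∧ τ.comp β = σ := by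
  obtain ⟨η, hη⟩ := Schur.exists_lift (Schur.stdPres Q) (MonoidHom.id Q) τ hτ.1 hτ.2.1
  rw [MonoidHom.id_comp] at hη
  have hηs : Function.Surjective η :=
    Schur.surjective_lift_stem _ τ η (Schur.stdPres_surjective Q) hτ.2.1 hτ.2.2 hη
  have hmap := Schur.map_mult _ τ η (Schur.stdPres_surjective Q) hτ.2.1 hη
  have hsup : Schur.Multiplier Q ⊔ (Schur.stdHom Q).ker ⊓ η.ker = (Schur.stdHom Q).ker := by
    refine le_antisymm (sup_le (Schur.mult_le_ker _) inf_le_left) fun z hz => ?_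
    have h1 : η z ∈ τ.ker := (DFunLike.congr_fun hη z).trans hz
    obtain ⟨m, hm, hmz⟩ := hmap.ge ⟨h1, hτ.2.2 h1⟩
    rw [show z = m * (m⁻¹ * z) by group]
    refine Subgroup.mul_mem_sup hm ⟨?_, ?_⟩
    · exact Subgroup.mul_mem _ (Subgroup.inv_mem _ (Schur.mult_le_ker _ hm)) hz
    · show η (m⁻¹ * z) = 1
      rw [map_mul, map_inv, hmz, inv_mul_cancel]
  obtain ⟨L, hL, hinf, hsup'⟩ := Schur.exists_complement Q _ inf_le_left hsup
  have hLk : L ≤ (Schur.stdHom Q).ker := hL.trans inf_le_left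
  haveI := Schur.normal_of_le_center (hLk.trans (Schur.stdHom_ker_le_center Q))
  obtain ⟨h1, h2, ⟨e⟩⟩ := Schur.stem_of_complement Q L hLk hinf hsup'
  obtain ⟨eA⟩ := Schur.multiplierEquiv hA
  refine ⟨Schur.StdCover Q ⧸ L, inferInstance, h2, _, h1, ⟨e.symm.trans eA⟩,
    QuotientGroup.lift L η (hL.trans inf_le_right), ?_, ?_⟩
  · intro d
    obtain ⟨x, rfl⟩ := hηs d
    exact ⟨QuotientGroup.mk x, rfl⟩
  · refine QuotientGroup.monoidHom_ext _ ?_
    exact hη

end Cfsg.Agent.S3957
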