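import Cfsg.Statements.S3958
import Cfsg.Agent.Lib.Schur.Extra

set_option autoImplicit false
universe u v
open Cfsg

namespace Cfsg.Agent.S3958

/-- Let `σ : Γ →* Q` be a finite stem extension of the finite group `Q` with `Γ` of trivial Schur multiplier. Then `σ` is a Schur covering group of `Q`: for every finite stem extension `τ : Δ →* Q` with `Δ` in the same universe as `Q`, the kernel of `τ` is a homomorphic image of the kernel of `σ`. -/
theorem result {Q : Type u} [Group Q] [Finite Q] {Γ : Type v} [Group Γ] [Finite Γ] (σ : Γ →* Q) (hσ : Cfsg.IsStemExtension σ) (hΓ : Cfsg.HasCyclicSchurMultiplier Γ 1) (Δ : Type u) [Group Δ] [Finite Δ] (τ : Δ →* Q) (hτ : Cfsg.IsStemExtension τ) : ∃ π : σ.ker →* τ.ker, Function.Surjective π := by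
  obtain ⟨η, hη, hrange⟩ := Schur.exists_commutator_lift σ τ hΓ hτ.1 hτ.2.1
  let θ : σ.ker →* τ.ker :=
    ((Schur.pbSnd σ τ).comp (η.comp (Subgroup.inclusion hσ.2.2))).codRestrict _ (fun k => by
      show τ (Schur.pbSnd σ τ (η (Subgroup.inclusion hσ.2.2 k))) = 1
      rw [← Schur.pb_comm, hη]
      exact k.2)
  refine ⟨θ, fun d => ?_⟩
  have h1 : (d : Δ) ∈ (commutator (Schur.pullback σ τ)).map (Schur.pbSnd σ τ) := by
    rw [commutator_def, Subgroup.map_commutator,
      Subgroup.map_top_of_surjective _ (Schur.pbSnd_surjective σ τ hσ.1)]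
    exact hτ.2.2 d.2
  rw [← hrange] at h1
  obtain ⟨_, ⟨c, rfl⟩, hcd⟩ := h1
  have hc : (c : Γ) ∈ σ.ker := by
    show σ (c : Γ) = 1
    rw [← hη c, Schur.pb_comm, hcd]
    exact d.2
  exact ⟨⟨c, hc⟩, Subtype.ext hcd⟩

end Cfsg.Agent.S3958
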