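import Cfsg.Statements.S3959
import Cfsg.Agent.Lib.Schur.Extra

set_option autoImplicit false
universe u v w
open Cfsg

namespace Cfsg.Agent.S3959

open scoped commutatorElement TensorProduct

universe a b

/-- Curried pairing between two commutative groups as a bi-additive map. -/
lemma addPairing {A : Type*} {B : Type*} {M : Type*} [CommGroup A] [CommGroup B] [CommGroup M]
    (P : A →* B →* M) : ∃ f : Additive A →+ Additive B →+ Additive M,
      ∀ x y, f (Additive.ofMul x) (Additive.ofMul y) = Additive.ofMul (P x y) :=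
  ⟨AddMonoidHom.mk' (fun x => (P x.toMul).toAdditive) (fun x y => by ext z; simp),
    fun _ _ => rfl⟩

/-- The commutator pairing between two lifts over the two factors of a direct product. -/
lemma exists_pairing {E₁ E₂ E : Type*} [Group E₁] [Group E₂] [Group E] {Q₁ : Type a} {Q₂ : Type b}
    [Group Q₁] [Group Q₂] (π₁ : E₁ →* Q₁) (π₂ : E₂ →* Q₂) (π : E →* Q₁ × Q₂)
    (h₁ : Function.Surjective π₁) (h₂ : Function.Surjective π₂)
    (hc : π.ker ≤ Subgroup.center E) (ι₁ : E₁ →* E) (ι₂ : E₂ →* E)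
    (hι₁ : π.comp ι₁ = (MonoidHom.inl Q₁ Q₂).comp π₁)
    (hι₂ : π.comp ι₂ = (MonoidHom.inr Q₁ Q₂).comp π₂) {M : Type*} [CommGroup M] (i : M →* E)
    (hi : Function.Injective i) (hM : π.ker ⊓ commutator E ≤ i.range) :
    ∃ P : Abelianization Q₁ →* Abelianization Q₂ →* M, ∀ x y,
      i (P (Abelianization.of (π₁ x)) (Abelianization.of (π₂ y))) = ⁅ι₁ x, ι₂ y⁆ := by
  have hk : ∀ x y, ⁅ι₁ x, ι₂ y⁆ ∈ π.ker ⊓ commutator E := fun x y => by
    refine ⟨?_, Subgroup.commutator_mem_commutator (Subgroup.mem_top _) (Subgroup.mem_top _)⟩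
    show π ⁅ι₁ x, ι₂ y⁆ = 1
    rw [map_commutatorElement, show π (ι₁ x) = (π₁ x, 1) from DFunLike.congr_fun hι₁ x,
      show π (ι₂ y) = (1, π₂ y) from DFunLike.congr_fun hι₂ y,
      commutatorElement_eq_one_iff_mul_comm]
    simp
  have hcen : ∀ x y g, g * ⁅ι₁ x, ι₂ y⁆ = ⁅ι₁ x, ι₂ y⁆ * g := fun x y g =>
    Subgroup.mem_center_iff.1 (hc (hk x y).1) g
  have hex : ∀ x y, ∃ m, i m = ⁅ι₁ x, ι₂ y⁆ := fun x y => hM (hk x y)
  choose c hc' using hex
  have hr : ∀ x y y', c x (y * y') = c x y * c x y' := fun x y y' => by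
    apply hi
    rw [map_mul i, hc', hc', hc', map_mul]
    calc ⁅ι₁ x, ι₂ y * ι₂ y'⁆ = ⁅ι₁ x, ι₂ y⁆ * (ι₂ y * ⁅ι₁ x, ι₂ y'⁆) * (ι₂ y)⁻¹ := by
          simp only [commutatorElement_def]; group
      _ = _ := by rw [hcen x y' (ι₂ y)]; group
  have hl : ∀ x x' y, c (x * x') y = c x y * c x' y := fun x x' y => by
    apply hi
    rw [map_mul i, hc', hc', hc', map_mul]
    calc ⁅ι₁ x * ι₁ x', ι₂ y⁆ = (ι₁ x * ⁅ι₁ x', ι₂ y⁆) * (ι₁ x)⁻¹ * ⁅ι₁ x, ι₂ y⁆ := by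
          simp only [commutatorElement_def]; group
      _ = ⁅ι₁ x', ι₂ y⁆ * ⁅ι₁ x, ι₂ y⁆ := by rw [hcen x' y (ι₁ x)]; group
      _ = _ := by rw [hcen x y ⁅ι₁ x', ι₂ y⁆]
  have hz₂ : ∀ x y, π₂ y = 1 → c x y = 1 := fun x y hy => by
    have hy' : ι₂ y ∈ Subgroup.center E := hc (by
      show π (ι₂ y) = 1
      rw [show π (ι₂ y) = (1, π₂ y) from DFunLike.congr_fun hι₂ y, hy]; rfl)
    have h : ⁅ι₁ x, ι₂ y⁆ = 1 :=
      commutatorElement_eq_one_iff_mul_comm.2 (Subgroup.mem_center_iff.1 hy' _)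
    exact hi (by rw [hc', h, map_one])
  have hz₁ : ∀ x y, π₁ x = 1 → c x y = 1 := fun x y hx => by
    have hx' : ι₁ x ∈ Subgroup.center E := hc (by
      show π (ι₁ x) = 1
      rw [show π (ι₁ x) = (π₁ x, 1) from DFunLike.congr_fun hι₁ x, hx]; rfl)
    have h : ⁅ι₁ x, ι₂ y⁆ = 1 :=
      commutatorElement_eq_one_iff_mul_comm.2 (Subgroup.mem_center_iff.1 hx' _).symm
    exact hi (by rw [hc', h, map_one])
  let R : E₁ → Abelianization Q₂ →* M := fun x => Abelianization.lift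
    (π₂.liftOfSurjective h₂ ⟨MonoidHom.mk' (c x) (hr x), fun y hy => hz₂ x y hy⟩)
  have hR : ∀ x y, R x (Abelianization.of (π₂ y)) = c x y := fun x y => by
    simp only [R, Abelianization.lift_apply_of]
    exact MonoidHom.liftOfRightInverse_comp_apply _ _ _ _ y
  have hext : ∀ (f g : Abelianization Q₂ →* M),
      (∀ y, f (Abelianization.of (π₂ y)) = g (Abelianization.of (π₂ y))) → f = g := fun f g h =>
    Abelianization.hom_ext _ _ (MonoidHom.ext fun q => by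
      obtain ⟨y, rfl⟩ := h₂ q
      exact h y)
  let R' : E₁ →* (Abelianization Q₂ →* M) := MonoidHom.mk' R (fun x x' =>
    hext _ _ fun y => by rw [MonoidHom.mul_apply, hR, hR, hR, hl])
  have hker : π₁.ker ≤ R'.ker := fun x hx => hext _ _ fun y => by
    show R x _ = 1
    rw [hR, hz₁ x y hx]
  refine ⟨Abelianization.lift (π₁.liftOfSurjective h₁ ⟨R', hker⟩), fun x y => ?_⟩
  rw [Abelianization.lift_apply_of,
    show π₁.liftOfSurjective h₁ ⟨R', hker⟩ (π₁ x) = R' x from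
      MonoidHom.liftOfRightInverse_comp_apply _ _ _ _ x]
  show i (R x (Abelianization.of (π₂ y))) = _
  rw [hR, hc']

/-- Let `Q₁` and `Q₂` be finite groups with Schur multipliers `A` and `B`. Then the Schur multiplier of `Q₁ × Q₂` is isomorphic to `A × B × (Q₁ᵃᵇ ⊗ Q₂ᵃᵇ)`, the last factor being the tensor product over the integers of the commutator quotients, written multiplicatively. -/
theorem result {Q₁ : Type u} {Q₂ : Type v} [Group Q₁] [Group Q₂] [Finite Q₁] [Finite Q₂] {A B : Type w} [CommGroup A] [CommGroup B] (hA : Cfsg.HasSchurMultiplier Q₁ A) (hB : Cfsg.HasSchurMultiplier Q₂ B) : Cfsg.HasSchurMultiplier (Q₁ × Q₂) (A × B × Multiplicative (TensorProduct ℤ (Additive (Abelianization Q₁)) (Additive (Abelianization Q₂)))) := by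
  classical
  haveI := Schur.finite_multiplier_type hA
  haveI := Schur.finite_multiplier_type hB
  rw [Schur.hasSchurMultiplier_iff]
  obtain ⟨Γ₁, _, _, σ₁, hσ₁, ⟨e₁⟩⟩ := hA.1
  obtain ⟨Γ₂, _, _, σ₂, hσ₂, ⟨e₂⟩⟩ := hB.1
  obtain ⟨eA⟩ := Schur.multiplierEquiv hA
  obtain ⟨eB⟩ := Schur.multiplierEquiv hB
  let T := TensorProduct ℤ (Additive (Abelianization Q₁)) (Additive (Abelianization Q₂))
  -- upper bound
  let π := Schur.stdHom (Q₁ × Q₂)
  have hc := Schur.stdHom_ker_le_center (Q₁ × Q₂)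
  obtain ⟨ι₁, hι₁⟩ := Schur.exists_lift (Schur.stdPres Q₁) (MonoidHom.inl Q₁ Q₂) π
    (Schur.stdHom_surjective _) hc
  obtain ⟨ι₂, hι₂⟩ := Schur.exists_lift (Schur.stdPres Q₂) (MonoidHom.inr Q₁ Q₂) π
    (Schur.stdHom_surjective _) hc
  obtain ⟨P, hP⟩ := exists_pairing (Schur.stdHom Q₁) (Schur.stdHom Q₂) π
    (Schur.stdHom_surjective _) (Schur.stdHom_surjective _) hc ι₁ ι₂ hι₁ hι₂
    (Schur.Multiplier (Q₁ × Q₂)).subtype Subtype.val_injective
    (fun z hz => ⟨⟨z, hz⟩, rfl⟩)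
  obtain ⟨f, hf⟩ := addPairing P
  let L : T →+ Additive (Schur.Multiplier (Q₁ × Q₂)) := TensorProduct.liftAddHom f (fun r m n => by
    rw [map_zsmul, map_zsmul, AddMonoidHom.smul_apply])
  let k : Multiplicative T →* Schur.StdCover (Q₁ × Q₂) :=
    (Schur.Multiplier (Q₁ × Q₂)).subtype.comp (AddMonoidHom.toMultiplicativeLeft L)
  have hkP : ∀ x y, ⁅ι₁ x, ι₂ y⁆ ∈ k.range := fun x y =>
    ⟨Multiplicative.ofAdd (Additive.ofMul (Abelianization.of (Schur.stdHom Q₁ x)) ⊗ₜ[ℤ]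
        Additive.ofMul (Abelianization.of (Schur.stdHom Q₂ y))), by
      rw [← hP]
      show ((L (_ ⊗ₜ[ℤ] _)).toMul : Schur.Multiplier (Q₁ × Q₂)).1 = _
      show (Additive.toMul (TensorProduct.liftAddHom f _ (_ ⊗ₜ[ℤ] _))).1 = _
      rw [TensorProduct.liftAddHom_tmul, hf]; rfl⟩
  have hkc : ∀ t g, g * k t = k t * g := fun t g =>
    Subgroup.mem_center_iff.1 (Schur.mult_le_center _
      ((AddMonoidHom.toMultiplicativeLeft L) t : Schur.Multiplier (Q₁ × Q₂)).2) g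
  have hswap : ∀ x y, ∃ t, ι₂ y * ι₁ x = ι₁ x * ι₂ y * k t := fun x y => by
    obtain ⟨t, ht⟩ := hkP x⁻¹ y⁻¹
    refine ⟨t⁻¹, ?_⟩
    rw [map_inv k t, ht, commutatorElement_def, map_inv, map_inv]
    group
  have hcomm₁ : ∀ c ∈ commutator (Schur.StdCover Q₁), ∀ y, Commute (ι₁ c) (ι₂ y) := fun c hc' y => by
    have h0 : (Abelianization.of (Schur.stdHom Q₁ c) : Abelianization Q₁) = 1 :=
      (Abelianization.commutator_subset_ker (Abelianization.of.comp (Schur.stdHom Q₁))) hc'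
    have h1 := hP c y
    rw [h0, map_one, MonoidHom.one_apply] at h1
    exact commutatorElement_eq_one_iff_mul_comm.1 (h1.symm.trans rfl)
  have hcomm₂ : ∀ c ∈ commutator (Schur.StdCover Q₂), ∀ x, Commute (ι₁ x) (ι₂ c) := fun c hc' x => by
    have h0 : (Abelianization.of (Schur.stdHom Q₂ c) : Abelianization Q₂) = 1 :=
      (Abelianization.commutator_subset_ker (Abelianization.of.comp (Schur.stdHom Q₂))) hc'
    have h1 := hP x c
    rw [h0, map_one] at h1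
    exact commutatorElement_eq_one_iff_mul_comm.1 (h1.symm.trans rfl)
  let g₁₂ := (ι₁.comp (commutator (Schur.StdCover Q₁)).subtype).noncommCoprod
    (ι₂.comp (commutator (Schur.StdCover Q₂)).subtype) (fun c d => hcomm₁ c c.2 d)
  let Ψ := g₁₂.noncommCoprod k (fun c t => (hkc t (g₁₂ c)))
  have hΨ : commutator (Schur.StdCover (Q₁ × Q₂)) ≤ Ψ.range := by
    refine le_of_eq_of_le (commutator_def _) ?_
    rw [Subgroup.commutator_le]
    intro u _ v _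
    have hdec : ∀ u : Schur.StdCover (Q₁ × Q₂), ∃ x y, (ι₁ x * ι₂ y)⁻¹ * u ∈ Subgroup.center _ := by
      intro u
      obtain ⟨x, hx⟩ := Schur.stdHom_surjective Q₁ (π u).1
      obtain ⟨y, hy⟩ := Schur.stdHom_surjective Q₂ (π u).2
      refine ⟨x, y, hc ?_⟩
      rw [MonoidHom.mem_ker, map_mul, map_inv, map_mul, show π (ι₁ x) = (Schur.stdHom Q₁ x, 1) from
        DFunLike.congr_fun hι₁ x, show π (ι₂ y) = (1, Schur.stdHom Q₂ y) from
        DFunLike.congr_fun hι₂ y, hx, hy]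
      simp [π]
    obtain ⟨x, y, hu⟩ := hdec u
    obtain ⟨x', y', hv⟩ := hdec v
    have h := Schur.commutator_mul_central (ι₁ x * ι₂ y) (ι₁ x' * ι₂ y') _ _ hu hv
    rw [mul_inv_cancel_left, mul_inv_cancel_left] at h
    rw [h]
    obtain ⟨t, ht⟩ := hswap x' y
    obtain ⟨t', ht'⟩ := hswap x y'
    refine ⟨((⟨⁅x, x'⁆, Subgroup.commutator_mem_commutator (Subgroup.mem_top _) (Subgroup.mem_top _)⟩,
      ⟨⁅y, y'⁆, Subgroup.commutator_mem_commutator (Subgroup.mem_top _) (Subgroup.mem_top _)⟩),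
      t * t'⁻¹), ?_⟩
    show ι₁ ⁅x, x'⁆ * ι₂ ⁅y, y'⁆ * k (t * t'⁻¹) = _
    have hyc := hcomm₂ ⁅y, y'⁆ (Subgroup.commutator_mem_commutator (Subgroup.mem_top _)
      (Subgroup.mem_top _))
    rw [map_mul, map_inv, map_commutatorElement, map_commutatorElement]
    rw [commutatorElement_def (ι₁ x * ι₂ y)]
    have hyc' : Commute (ι₁ x' * ι₁ x)⁻¹ ⁅ι₂ y, ι₂ y'⁆ := by
      rw [← map_commutatorElement, ← map_mul, ← map_inv]
      exact hyc _
    have hcc : Commute (k t') (ι₁ x' * ι₁ x)⁻¹ := (hkc t' _).symm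
    symm
    calc ι₁ x * ι₂ y * (ι₁ x' * ι₂ y') * (ι₁ x * ι₂ y)⁻¹ * (ι₁ x' * ι₂ y')⁻¹
        = ι₁ x * (ι₂ y * ι₁ x') * ι₂ y' * (ι₁ x' * (ι₂ y' * ι₁ x) * ι₂ y)⁻¹ := by group
      _ = ι₁ x * (ι₁ x' * ι₂ y * k t) * ι₂ y' *
            (ι₁ x' * (ι₁ x * ι₂ y' * k t') * ι₂ y)⁻¹ := by rw [ht, ht']
      _ = ι₁ x * ι₁ x' * ι₂ y * (k t * ι₂ y') * ((ι₂ y)⁻¹ * (k t')⁻¹) * (ι₂ y')⁻¹ *
            (ι₁ x' * ι₁ x)⁻¹ := by group
      _ = ι₁ x * ι₁ x' * ι₂ y * (ι₂ y' * k t) * ((k t')⁻¹ * (ι₂ y)⁻¹) * (ι₂ y')⁻¹ *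
            (ι₁ x' * ι₁ x)⁻¹ := by rw [hkc t (ι₂ y'), ← map_inv k, hkc t'⁻¹ (ι₂ y)⁻¹]
      _ = ι₁ x * ι₁ x' * ι₂ y * ι₂ y' * (k (t * t'⁻¹) * ((ι₂ y)⁻¹ * (ι₂ y')⁻¹ *
            (ι₁ x' * ι₁ x)⁻¹)) := by rw [map_mul, map_inv]; group
      _ = ι₁ x * ι₁ x' * ⁅ι₂ y, ι₂ y'⁆ * (ι₁ x' * ι₁ x)⁻¹ * k (t * t'⁻¹) := by
            rw [← hkc, commutatorElement_def]; group
      _ = ι₁ x * ι₁ x' * ((ι₁ x' * ι₁ x)⁻¹ * ⁅ι₂ y, ι₂ y'⁆) * k (t * t'⁻¹) := by
            rw [hyc'.eq]; group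
      _ = _ := by rw [map_mul, map_inv, commutatorElement_def (ι₁ x)]; group
  let Φ : (Schur.Multiplier Q₁ × Schur.Multiplier Q₂) × Multiplicative T →*
      Schur.StdCover (Q₁ × Q₂) := Ψ.comp (MonoidHom.prodMap (MonoidHom.prodMap
        (Subgroup.inclusion inf_le_right) (Subgroup.inclusion inf_le_right))
        (MonoidHom.id (Multiplicative T)))
  have hπk : ∀ t, π (k t) = 1 := fun t =>
    Schur.mult_le_ker _ ((AddMonoidHom.toMultiplicativeLeft L) t : Schur.Multiplier (Q₁ × Q₂)).2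
  have hΦ : Schur.Multiplier (Q₁ × Q₂) ≤ Φ.range := by
    intro m hm
    obtain ⟨⟨⟨c, d⟩, t⟩, hcdt⟩ := hΨ hm.2
    have h0 : π m = 1 := hm.1
    rw [← hcdt] at h0
    have h1 : π (ι₁ (c : Schur.StdCover Q₁) * ι₂ (d : Schur.StdCover Q₂) * k t) = (1 : Q₁ × Q₂) := h0
    rw [map_mul, map_mul, hπk, mul_one, show π (ι₁ (c : Schur.StdCover Q₁)) = (Schur.stdHom Q₁ c, 1) from
      DFunLike.congr_fun hι₁ (c : Schur.StdCover Q₁),
      show π (ι₂ (d : Schur.StdCover Q₂)) = (1, Schur.stdHom Q₂ d) from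
      DFunLike.congr_fun hι₂ (d : Schur.StdCover Q₂), Prod.mk_mul_mk, Prod.mk_eq_one, mul_one, one_mul] at h1
    exact ⟨((⟨c, h1.1, c.2⟩, ⟨d, h1.2, d.2⟩), t), hcdt⟩
  -- lower bound
  let j₁ : Additive Γ₁ →+ Additive (Abelianization Q₁) := (Abelianization.of.comp σ₁).toAdditive
  let j₂ : Additive Γ₂ →+ Additive (Abelianization Q₂) := (Abelianization.of.comp σ₂).toAdditive
  let β : Additive Γ₁ →+ Additive Γ₂ →+ T :=
    AddMonoidHom.mk' (fun x => AddMonoidHom.mk' (fun y => j₁ x ⊗ₜ[ℤ] j₂ y)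
      (fun y y' => by rw [map_add, TensorProduct.tmul_add]))
      (fun x x' => AddMonoidHom.ext fun y => by
        show j₁ (x + x') ⊗ₜ[ℤ] j₂ y = _
        rw [map_add, TensorProduct.add_tmul]; rfl)
  let ξ : Schur.BilExt β →* Q₁ × Q₂ := (MonoidHom.prodMap σ₁ σ₂).comp (Schur.BilExt.proj β)
  have hgen : AddSubgroup.closure (Set.range fun p : Γ₁ × Γ₂ =>
      β (Additive.ofMul p.1) (Additive.ofMul p.2)) = ⊤ := by
    rw [eq_top_iff]
    intro t _
    induction t using TensorProduct.induction_on with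
    | zero => exact zero_mem _
    | tmul u v =>
      obtain ⟨u', hu'⟩ := QuotientGroup.mk_surjective u.toMul
      obtain ⟨v', hv'⟩ := QuotientGroup.mk_surjective v.toMul
      obtain ⟨x, rfl⟩ := hσ₁.1 u'
      obtain ⟨y, rfl⟩ := hσ₂.1 v'
      refine AddSubgroup.subset_closure ⟨(x, y), ?_⟩
      show j₁ (Additive.ofMul x) ⊗ₜ[ℤ] j₂ (Additive.ofMul y) = _
      rw [← ofMul_toMul u, ← ofMul_toMul v, ← hu', ← hv']
      rfl
    | add u v hu hv => exact add_mem (hu trivial) (hv trivial)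
  have hβ₁ : ∀ x y, σ₁ x = 1 → β (Additive.ofMul x) (Additive.ofMul y) = 0 := fun x y h => by
    show j₁ (Additive.ofMul x) ⊗ₜ[ℤ] _ = 0
    rw [show j₁ (Additive.ofMul x) = Additive.ofMul (Abelianization.of (σ₁ x)) from rfl, h, map_one,
      ofMul_one, TensorProduct.zero_tmul]
  have hβ₂ : ∀ x y, σ₂ y = 1 → β (Additive.ofMul x) (Additive.ofMul y) = 0 := fun x y h => by
    show _ ⊗ₜ[ℤ] j₂ (Additive.ofMul y) = 0
    rw [show j₂ (Additive.ofMul y) = Additive.ofMul (Abelianization.of (σ₂ y)) from rfl, h, map_one,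
      ofMul_one, TensorProduct.tmul_zero]
  have hξk : ∀ z, z ∈ ξ.ker ↔ σ₁ z.fst = 1 ∧ σ₂ z.snd = 1 := fun z => by
    rw [MonoidHom.mem_ker]; exact Prod.ext_iff
  have hξc : ξ.ker ≤ Subgroup.center _ := fun z hz => by
    obtain ⟨h1, h2⟩ := (hξk z).1 hz
    rw [Subgroup.mem_center_iff]
    intro g
    ext
    · exact Subgroup.mem_center_iff.1 (hσ₁.2.1 h1) _
    · exact Subgroup.mem_center_iff.1 (hσ₂.2.1 h2) _
    · simp [hβ₁ _ _ h1, hβ₂ _ _ h2, add_comm]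
  let i₁ : Γ₁ →* Schur.BilExt β := MonoidHom.mk' (fun x => ⟨x, 1, 0⟩) (fun x y => by ext <;> simp)
  let i₂ : Γ₂ →* Schur.BilExt β := MonoidHom.mk' (fun x => ⟨1, x, 0⟩) (fun x y => by ext <;> simp)
  have hξd : ξ.ker ≤ commutator (Schur.BilExt β) := fun z hz => by
    obtain ⟨h1, h2⟩ := (hξk z).1 hz
    have hz' : z = i₁ z.fst * i₂ z.snd * Schur.BilExt.cenHom β (Multiplicative.ofAdd z.cen) := by
      ext <;> simp [i₁, i₂, Schur.BilExt.cenHom, hβ₁ _ _ h1]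
    rw [hz']
    refine Subgroup.mul_mem _ (Subgroup.mul_mem _ ?_ ?_)
      (Schur.BilExt.range_cenHom_le β hgen ⟨_, rfl⟩).2
    · have := Subgroup.mem_map_of_mem i₁ (hσ₁.2.2 h1)
      rw [commutator_def, Subgroup.map_commutator] at this
      exact Subgroup.commutator_mono le_top le_top this
    · have := Subgroup.mem_map_of_mem i₂ (hσ₂.2.2 h2)
      rw [commutator_def, Subgroup.map_commutator] at this
      exact Subgroup.commutator_mono le_top le_top this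
  have hξs : Function.Surjective ξ := fun q => by
    obtain ⟨x, hx⟩ := hσ₁.1 q.1
    obtain ⟨y, hy⟩ := hσ₂.1 q.2
    exact ⟨⟨x, y, 0⟩, Prod.ext hx hy⟩
  obtain ⟨θ, hθ⟩ := Schur.exists_surj_of_stem (Schur.stdPres (Q₁ × Q₂))
    (Schur.stdPres_surjective _) ξ ⟨hξs, hξc, hξd⟩
  let κ : ξ.ker →* A × B × Multiplicative T := MonoidHom.mk'
    (fun z => (e₁ ⟨z.1.fst, ((hξk z).1 z.2).1⟩, e₂ ⟨z.1.snd, ((hξk z).1 z.2).2⟩,
      Multiplicative.ofAdd z.1.cen))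
    (fun z w => by
      refine Prod.ext ?_ (Prod.ext ?_ ?_)
      · exact (congrArg e₁ (Subtype.ext rfl)).trans (map_mul e₁ ⟨z.1.fst, ((hξk z).1 z.2).1⟩
          ⟨w.1.fst, ((hξk w).1 w.2).1⟩)
      · exact (congrArg e₂ (Subtype.ext rfl)).trans (map_mul e₂ ⟨z.1.snd, ((hξk z).1 z.2).2⟩
          ⟨w.1.snd, ((hξk w).1 w.2).2⟩)
      · show Multiplicative.ofAdd (z.1.cen + w.1.cen + β _ _) = _
        rw [hβ₁ _ _ ((hξk z).1 z.2).1, add_zero]; rfl)
  have hκ : Function.Surjective κ := by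
    rintro ⟨u, v, w⟩
    refine ⟨⟨⟨(e₁.symm u : Γ₁), (e₂.symm v : Γ₂), w.toAdd⟩,
      (hξk _).2 ⟨(e₁.symm u).2, (e₂.symm v).2⟩⟩, ?_⟩
    exact Prod.ext (e₁.apply_symm_apply u) (Prod.ext (e₂.apply_symm_apply v) rfl)
  let Φ' : A × B × Multiplicative T → Schur.StdCover (Q₁ × Q₂) :=
    fun x => Φ ((eA.symm x.1, eB.symm x.2.1), x.2.2)
  have hsurj' : (Schur.Multiplier (Q₁ × Q₂) : Set _) ⊆ Set.range Φ' := fun m hm => by
    obtain ⟨⟨⟨c, d⟩, t⟩, h⟩ := hΦ hm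
    exact ⟨(eA c, eB d, t), by simpa [Φ'] using h⟩
  haveI : Finite (A × B × Multiplicative T) := Finite.of_surjective _ (hκ.comp hθ)
  have hle : Nat.card (Schur.Multiplier (Q₁ × Q₂)) ≤ Nat.card (A × B × Multiplicative T) := by
    rw [show Nat.card (Schur.Multiplier (Q₁ × Q₂)) =
      (Schur.Multiplier (Q₁ × Q₂) : Set (Schur.StdCover (Q₁ × Q₂))).ncard from Nat.card_coe_set_eq _]
    refine (Set.ncard_le_ncard hsurj' (Set.finite_range _)).trans ?_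
    rw [← Nat.card_coe_set_eq]
    exact Nat.card_le_card_of_surjective _ Set.rangeFactorization_surjective
  exact ⟨MulEquiv.ofBijective (κ.comp θ)
    ((Function.Surjective.bijective_of_nat_card_le (hκ.comp hθ)) hle)⟩

end Cfsg.Agent.S3959
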