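import Cfsg.Statements.S3960
import Cfsg.Agent.Lib.Schur.Extra

set_option autoImplicit false
universe u
open Cfsg

namespace Cfsg.Agent.S3960

/-- A finite perfect group `Q` has a universal central extension: a finite perfect group `G` in the universe of `Q` and a surjective homomorphism `π : G →* Q` with central kernel such that for every group `X` in that universe and every surjective homomorphism `ξ : X →* Q` with central kernel there is exactly one homomorphism `η : G →* X` with `ξ ∘ η = π`. -/
theorem result {Q : Type u} [Group Q] [Finite Q] (hQ : Group.IsPerfect Q) : ∃ (G : Type u) (_ : Group G) (_ : Finite G) (π : G →* Q), Group.IsPerfect G ∧ Function.Surjective π ∧ π.ker ≤ Subgroup.center G ∧ ∀ (X : Type u) [Group X] (ξ : X →* Q), Function.Surjective ξ → ξ.ker ≤ Subgroup.center X → ∃! η : G →* X, ξ.comp η = π := by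
  have hc := Schur.stdHom_ker_le_center Q
  have hs := Schur.stdHom_surjective Q
  haveI := Schur.finite_commutator (Schur.stdHom Q) hc
  let π : commutator (Schur.StdCover Q) →* Q :=
    (Schur.stdHom Q).comp (commutator (Schur.StdCover Q)).subtype
  have hmap : (commutator (Schur.StdCover Q)).map (Schur.stdHom Q) = ⊤ := by
    rw [commutator_def, Subgroup.map_commutator, Subgroup.map_top_of_surjective _ hs,
      ← commutator_def, hQ.commutator_eq_top]
  have hπs : Function.Surjective π := fun q => by
    obtain ⟨e, he, rfl⟩ := (hmap.symm ▸ Subgroup.mem_top q :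
      q ∈ (commutator (Schur.StdCover Q)).map (Schur.stdHom Q))
    exact ⟨⟨e, he⟩, rfl⟩
  have hperf : Group.IsPerfect (commutator (Schur.StdCover Q)) := by
    constructor
    apply Subgroup.map_injective (Subgroup.subtype_injective _)
    rw [commutator_def ↥(commutator (Schur.StdCover Q)), Subgroup.map_commutator,
      ← MonoidHom.range_eq_map, Subgroup.range_subtype]
    refine le_antisymm (Subgroup.commutator_mono le_top le_top) ?_
    refine le_of_eq_of_le (commutator_def _) ?_
    rw [Subgroup.commutator_le]
    intro x _ y _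
    obtain ⟨x', hx'⟩ := hπs (Schur.stdHom Q x)
    obtain ⟨y', hy'⟩ := hπs (Schur.stdHom Q y)
    have hx : (x' : Schur.StdCover Q)⁻¹ * x ∈ Subgroup.center _ := hc (by
      rw [MonoidHom.mem_ker, map_mul, map_inv,
        show Schur.stdHom Q x' = Schur.stdHom Q x from hx', inv_mul_cancel])
    have hy : (y' : Schur.StdCover Q)⁻¹ * y ∈ Subgroup.center _ := hc (by
      rw [MonoidHom.mem_ker, map_mul, map_inv,
        show Schur.stdHom Q y' = Schur.stdHom Q y from hy', inv_mul_cancel])
    have h := Schur.commutator_mul_central (x' : Schur.StdCover Q) y' _ _ hx hy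
    rw [mul_inv_cancel_left, mul_inv_cancel_left] at h
    rw [h]
    exact Subgroup.commutator_mem_commutator x'.2 y'.2
  refine ⟨commutator (Schur.StdCover Q), inferInstance, inferInstance, π, hperf, hπs, ?_, ?_⟩
  · intro z hz
    rw [Subgroup.mem_center_iff]
    intro g
    exact Subtype.ext (Subgroup.mem_center_iff.1 (hc (show (z : Schur.StdCover Q) ∈ (Schur.stdHom Q).ker from hz)) g)
  · intro X _ ξ hξ hξc
    obtain ⟨η, hη⟩ := Schur.exists_lift (Schur.stdPres Q) (MonoidHom.id Q) ξ hξ hξc
    rw [MonoidHom.id_comp] at hη
    have he : ξ.comp (η.comp (commutator (Schur.StdCover Q)).subtype) = π := by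
      rw [← MonoidHom.comp_assoc, hη]
    refine ⟨η.comp (commutator (Schur.StdCover Q)).subtype, he, fun η' hη' => ?_⟩
    ext c
    exact Schur.eq_on_commutator ξ hξc η' _ (hη'.trans he.symm) c
      (hperf.commutator_eq_top ▸ Subgroup.mem_top _)

end Cfsg.Agent.S3960
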