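import Cfsg.Statements.S3962


set_option autoImplicit false
open Cfsg

namespace Cfsg.Agent.S3962

/-- Let `G` be a perfect group and `π : G →* Q` a surjective homomorphism whose kernel is central. Then `π` maps the centre of `G` onto the centre of `Q`. Taking `π` to be the map to `G ⧸ Z(G)` shows that the central quotient of a perfect group has trivial centre. -/
theorem result {G Q : Type*} [Group G] [Group Q] (hG : Group.IsPerfect G) (π : G →* Q) (hπ : Function.Surjective π) (hker : π.ker ≤ Subgroup.center G) : (Subgroup.center G).map π = Subgroup.center Q := by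
  refine le_antisymm ?_ ?_
  · rintro _ ⟨z, hz, rfl⟩
    rw [Subgroup.mem_center_iff]
    intro q
    obtain ⟨g, rfl⟩ := hπ q
    rw [← map_mul, ← map_mul, Subgroup.mem_center_iff.1 hz g]
  · have hK : ⁅(Subgroup.center Q).comap π, (⊤ : Subgroup G)⁆ ≤ Subgroup.center G := by
      refine le_trans ?_ hker
      rw [Subgroup.commutator_le]
      intro k hk g _
      rw [MonoidHom.mem_ker, map_commutatorElement, commutatorElement_eq_one_iff_mul_comm]
      exact (Subgroup.mem_center_iff.1 hk (π g)).symm
    have h1 : ⁅⁅(⊤ : Subgroup G), (Subgroup.center Q).comap π⁆, (⊤ : Subgroup G)⁆ = ⊥ := by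
      rw [Subgroup.commutator_comm ⊤, Subgroup.commutator_eq_bot_iff_le_centralizer]
      rw [Subgroup.coe_top, Subgroup.centralizer_univ]
      exact hK
    have h2 : ⁅⁅(Subgroup.center Q).comap π, (⊤ : Subgroup G)⁆, (⊤ : Subgroup G)⁆ = ⊥ := by
      rw [Subgroup.commutator_comm ((Subgroup.center Q).comap π)]; exact h1
    have h3 : ⁅⁅(⊤ : Subgroup G), (⊤ : Subgroup G)⁆, (Subgroup.center Q).comap π⁆ = ⊥ :=
      Subgroup.commutator_commutator_eq_bot_of_rotate h1 h2
    rw [← commutator_def, hG.commutator_eq_top, Subgroup.commutator_eq_bot_iff_le_centralizer] at h3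
    intro q hq
    obtain ⟨g, rfl⟩ := hπ q
    refine ⟨g, ?_, rfl⟩
    show g ∈ Subgroup.center G
    rw [Subgroup.mem_center_iff]
    intro x
    exact (Subgroup.mem_centralizer_iff.1 (h3 (Subgroup.mem_top x)) g hq).symm

end Cfsg.Agent.S3962
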