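import Cfsg.Statements.S3966
import Mathlib.GroupTheory.SpecificGroups.Quaternion
import Mathlib.GroupTheory.SpecificGroups.Dihedral
import Mathlib.Tactic.LinearCombination
import Mathlib.GroupTheory.Commutator.Basic

set_option autoImplicit false
set_option linter.style.haveILetI false

set_option autoImplicit false
open Cfsg

namespace Cfsg.Agent.S3966

/-- For even `n ≥ 2` the dicyclic group of order `4 n` is a stem extension of the dihedral group of order `2 n` with kernel of order `2`: there is a surjective homomorphism `QuaternionGroup n →* DihedralGroup n` whose kernel is central, lies in the commutator subgroup and has two elements. Together with the order of the multiplier this exhibits the dicyclic group as a Schur covering group of the dihedral group. -/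
theorem result (n : ℕ) [NeZero n] (hn : Even n) : ∃ σ : QuaternionGroup n →* DihedralGroup n, Cfsg.IsStemExtension σ ∧ Nat.card σ.ker = 2 := by
  have hd : n ∣ 2 * n := dvd_mul_left n 2
  set c : ZMod (2 * n) →+* ZMod n := ZMod.castHom hd (ZMod n) with hc
  let f : QuaternionGroup n → DihedralGroup n := fun g => match g with
    | QuaternionGroup.a i => DihedralGroup.r (c i)
    | QuaternionGroup.xa i => DihedralGroup.sr (c i)
  have hn0 : ((n : ℕ) : ZMod n) = 0 := ZMod.natCast_self n
  let σ : QuaternionGroup n →* DihedralGroup n := MonoidHom.mk' f (by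
    rintro (i | i) (j | j) <;>
      simp [f, QuaternionGroup.a_mul_a, QuaternionGroup.a_mul_xa, QuaternionGroup.xa_mul_a,
        QuaternionGroup.xa_mul_xa, DihedralGroup.r_mul_r, DihedralGroup.r_mul_sr, DihedralGroup.sr_mul_r,
        DihedralGroup.sr_mul_sr, map_add, map_sub, map_natCast])
  have hzero : ∀ i : ZMod (2 * n), c i = 0 → i = 0 ∨ i = (n : ZMod (2 * n)) := by
    intro i hi
    obtain ⟨k, hk, rfl⟩ : ∃ k, k < 2 * n ∧ (k : ZMod (2 * n)) = i :=
      ⟨i.val, ZMod.val_lt i, ZMod.natCast_zmod_val i⟩
    rw [map_natCast, ZMod.natCast_eq_zero_iff] at hi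
    obtain ⟨j, rfl⟩ := hi
    have hj : j < 2 := by
      by_contra hge
      have : n * 2 ≤ n * j := Nat.mul_le_mul_left n (by omega)
      omega
    interval_cases j
    · left; simp
    · right; simp
  have hker : ∀ g, g ∈ σ.ker ↔ g = QuaternionGroup.a 0 ∨ g = QuaternionGroup.a (n : ZMod (2 * n)) := by
    intro g
    rw [MonoidHom.mem_ker]
    constructor
    · rcases g with i | i
      · intro h
        have h' : DihedralGroup.r (c i) = DihedralGroup.r 0 := h
        rcases hzero i (DihedralGroup.r.inj h') with rfl | rfl
        · exact Or.inl rfl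
        · exact Or.inr rfl
      · intro h
        have h' : DihedralGroup.sr (c i) = DihedralGroup.r 0 := h
        exact absurd h' (by intro e; cases e)
    · rintro (rfl | rfl)
      · show DihedralGroup.r (c 0) = DihedralGroup.r 0
        rw [map_zero]
      · show DihedralGroup.r (c (n : ZMod (2 * n))) = DihedralGroup.r 0
        rw [map_natCast, hn0]
  have hnn : (n : ZMod (2 * n)) + n = 0 := by
    rw [← Nat.cast_add, ← two_mul, ZMod.natCast_self]
  refine ⟨σ, ⟨?_, ?_, ?_⟩, ?_⟩
  · rintro (i | i)
    · obtain ⟨j, rfl⟩ := ZMod.castHom_surjective hd i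
      exact ⟨QuaternionGroup.a j, rfl⟩
    · obtain ⟨j, rfl⟩ := ZMod.castHom_surjective hd i
      exact ⟨QuaternionGroup.xa j, rfl⟩
  · intro g hg
    rw [Subgroup.mem_center_iff]
    rcases (hker g).1 hg with rfl | rfl
    · intro h; rw [← QuaternionGroup.one_def, one_mul, mul_one]
    · rintro (i | i)
      · rw [QuaternionGroup.a_mul_a, QuaternionGroup.a_mul_a, add_comm]
      · rw [QuaternionGroup.xa_mul_a, QuaternionGroup.a_mul_xa]
        congr 1
        linear_combination hnn
  · intro g hg
    rcases (hker g).1 hg with rfl | rfl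
    · rw [← QuaternionGroup.one_def]; exact Subgroup.one_mem _
    · obtain ⟨k, hk⟩ := hn
      open scoped commutatorElement in
      have h1 : ⁅QuaternionGroup.xa (0 : ZMod (2 * n)), QuaternionGroup.a (k : ZMod (2 * n))⁆ =
          QuaternionGroup.a (n : ZMod (2 * n)) := by
        rw [commutatorElement_def,
          show (QuaternionGroup.xa (0 : ZMod (2 * n)))⁻¹ = QuaternionGroup.xa ((n : ZMod (2 * n)) + 0) from rfl,
          show (QuaternionGroup.a (k : ZMod (2 * n)))⁻¹ = QuaternionGroup.a (-(k : ZMod (2 * n))) from rfl,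
          QuaternionGroup.xa_mul_a, QuaternionGroup.xa_mul_xa, QuaternionGroup.a_mul_a]
        congr 1
        have hk' : (n : ZMod (2 * n)) = k + k := by exact_mod_cast congrArg (fun m : ℕ => (m : ZMod (2 * n))) hk
        linear_combination hk'
      rw [← h1, commutator_def]
      exact Subgroup.commutator_mem_commutator (Subgroup.mem_top _) (Subgroup.mem_top _)
  · rw [Nat.card_eq_two_iff]
    have hne : QuaternionGroup.a (0 : ZMod (2 * n)) ≠ QuaternionGroup.a (n : ZMod (2 * n)) := by
      intro h
      have h' := (QuaternionGroup.a.inj h).symm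
      rw [ZMod.natCast_eq_zero_iff] at h'
      have := Nat.le_of_dvd (NeZero.pos n) h'
      have := NeZero.pos n
      omega
    refine ⟨⟨_, (hker _).2 (Or.inl rfl)⟩, ⟨_, (hker _).2 (Or.inr rfl)⟩, fun h => hne (Subtype.mk.inj h), ?_⟩
    rw [Set.eq_univ_iff_forall]
    rintro ⟨g, hg⟩
    rcases (hker g).1 hg with rfl | rfl
    · exact Or.inl rfl
    · exact Or.inr rfl

end Cfsg.Agent.S3966
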