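import Cfsg.Statements.S3968
import Mathlib
import Cfsg.Agent.Lib.Char.Integral
import Cfsg.Agent.Lib.Char.Invariants

set_option autoImplicit false
set_option linter.style.haveILetI false

namespace Cfsg.Agent.S3968

open Cfsg.Agent
open Module

universe u

/-- A representation of degree at most `p` of a `p`-group is commutative or has scalar centre. -/
lemma commute_or_scalar {P : Type u} [Group P] [Finite P] {p : ℕ} [hp : Fact p.Prime]
    (hP : IsPGroup p P) (V : Type) [AddCommGroup V] [Module ℂ V] [FiniteDimensional ℂ V]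
    (σ : Representation ℂ P V) : finrank ℂ V ≤ p →
      (∀ x y v, σ x (σ y v) = σ y (σ x v)) ∨
      (finrank ℂ V = p ∧ ∀ z ∈ Subgroup.center P, ∃ c : ℂ, ∀ v, σ z v = c • v) := by
  revert σ
  intro σ
  refine Char.rep_induction (P := fun V _ _ _ σ => finrank ℂ V ≤ p →
      (∀ x y v, σ x (σ y v) = σ y (σ x v)) ∨
      (finrank ℂ V = p ∧ ∀ z ∈ Subgroup.center P, ∃ c : ℂ, ∀ v, σ z v = c • v)) ?_ ?_ ?_ V σ
  · intro V _ _ _ _ σ _
    exact Or.inl fun x y v => Subsingleton.elim _ _
  · intro V _ _ _ σ hirr hle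
    obtain ⟨k, hk⟩ := IsPGroup.iff_card.1 hP
    have hd := Char.degree_dvd_card (Char.isIrrCharacter_of_rep σ) (Representation.char_one σ)
    rw [hk] at hd
    obtain ⟨i, -, hi⟩ := (Nat.dvd_prime_pow hp.out).1 hd
    rcases Nat.eq_zero_or_pos i with rfl | hi0
    · left
      intro x y v
      obtain ⟨v₀, hv₀⟩ := finrank_eq_one_iff'.1 (hi.trans (pow_zero p))
      obtain ⟨a, ha⟩ := hv₀.2 (σ x v₀)
      obtain ⟨b, hb⟩ := hv₀.2 (σ y v₀)
      obtain ⟨c, rfl⟩ := hv₀.2 v
      simp only [map_smul, ← ha, ← hb, smul_comm a b]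
    · right
      refine ⟨le_antisymm hle ?_, fun z hz => ?_⟩
      · rw [hi]; exact Nat.le_self_pow hi0.ne' p
      · obtain ⟨c, hc⟩ := Char.schur_scalar σ (σ z) (fun g x => by
          rw [← Module.End.mul_apply, ← map_mul, ← Subgroup.mem_center_iff.1 hz g, map_mul,
            Module.End.mul_apply])
        exact ⟨c, fun v => by rw [hc]; rfl⟩
  · intro V _ _ _ σ a b hab iha ihb hle
    have hfr := Submodule.finrank_add_eq_of_isCompl (Char.isCompl_toSubmodule hab)
    have key : ∀ (T : V →ₗ[ℂ] V), (∀ x ∈ a.toSubmodule, T x = 0) → (∀ x ∈ b.toSubmodule, T x = 0) →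
        T = 0 := fun T ha hb => Char.eq_zero_of_split hab ha hb
    rcases iha (by omega) with ha | ⟨har, ha⟩
    · rcases ihb (by omega) with hb | ⟨hbr, hb⟩
      · left
        intro x y v
        have := key (σ x * σ y - σ y * σ x)
          (fun w hw => sub_eq_zero.2 (congrArg Subtype.val (ha x y ⟨w, hw⟩)))
          (fun w hw => sub_eq_zero.2 (congrArg Subtype.val (hb x y ⟨w, hw⟩)))
        exact sub_eq_zero.1 (LinearMap.congr_fun this v)
      · right
        refine ⟨by omega, fun z hz => ?_⟩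
        obtain ⟨c, hc⟩ := hb z hz
        refine ⟨c, fun v => sub_eq_zero.1 (LinearMap.congr_fun (key (σ z - c • LinearMap.id) ?_ ?_) v)⟩
        · intro w hw
          have : a.toSubmodule = ⊥ := Submodule.finrank_eq_zero.1 (by omega)
          rw [this, Submodule.mem_bot] at hw
          rw [hw, map_zero]
        · intro w hw
          exact sub_eq_zero.2 (congrArg Subtype.val (hc ⟨w, hw⟩))
    · right
      refine ⟨by omega, fun z hz => ?_⟩
      obtain ⟨c, hc⟩ := ha z hz
      refine ⟨c, fun v => sub_eq_zero.1 (LinearMap.congr_fun (key (σ z - c • LinearMap.id) ?_ ?_) v)⟩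
      · intro w hw
        exact sub_eq_zero.2 (congrArg Subtype.val (hc ⟨w, hw⟩))
      · intro w hw
        have : b.toSubmodule = ⊥ := Submodule.finrank_eq_zero.1 (by omega)
        rw [this, Submodule.mem_bot] at hw
        rw [hw, map_zero]

theorem center_ne_bot {G : Type u} [Group G] [Finite G] (p : ℕ) (hp : p.Prime)
    (χ : Cfsg.IrrCharacter G) (hdeg : χ.1 1 = p) (hfaith : ∀ g : G, χ.1 g = χ.1 1 → g = 1)
    (hdiv : p ^ 2 ∣ Nat.card G) : Subgroup.center G ≠ ⊥ := by
  classical
  haveI := Fact.mk hp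
  intro hZ
  obtain ⟨n, ρ, hρ, hρχ⟩ := χ.2
  haveI := hρ
  have hn : finrank ℂ (Fin n → ℂ) = p := by
    have := congrFun hρχ 1
    rw [Representation.char_one, hdeg] at this
    exact_mod_cast this
  have hinj : Function.Injective ρ := by
    rw [← MonoidHom.ker_eq_bot_iff, eq_bot_iff]
    intro g hg
    rw [MonoidHom.mem_ker] at hg
    refine Subgroup.mem_bot.2 (hfaith g ?_)
    rw [← hρχ, Representation.character, Representation.character, hg, map_one ρ]
  have hzero : ∀ g : G, g ≠ 1 → ¬ p ∣ (Subgroup.centralizer ({g} : Set G)).index →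
      ρ.character g = 0 := by
    intro g hg hnd
    rcases Char.eq_zero_or_norm_eq ρ g (by rw [hn]; exact hp.coprime_iff_not_dvd.2 hnd) with h | h
    · exact h
    · exfalso
      obtain ⟨ω, hω⟩ := (Char.norm_char_eq_iff ρ g).1 h
      refine hg (Subgroup.mem_bot.1 (hZ ▸ Subgroup.mem_center_iff.2 fun y => hinj ?_))
      rw [map_mul, map_mul, hω, mul_smul_comm, smul_mul_assoc, ← Module.End.one_eq_id, mul_one, one_mul]
  obtain ⟨P⟩ := (inferInstance : Nonempty (Sylow p G))
  have hPp : p ^ 2 ∣ Nat.card (P : Subgroup G) := P.pow_dvd_card_of_pow_dvd_card hdiv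
  haveI hPnt : Nontrivial (P : Subgroup G) := Finite.one_lt_card_iff_nontrivial.1
    (lt_of_lt_of_le (Nat.one_lt_pow two_ne_zero hp.one_lt) (Nat.le_of_dvd Nat.card_pos hPp))
  set σ : Representation ℂ (P : Subgroup G) (Fin n → ℂ) := ρ.comp (P : Subgroup G).subtype with hσ
  have hzeroP : ∀ x : (P : Subgroup G), x ∈ Subgroup.center (P : Subgroup G) → x ≠ 1 →
      ρ.character (x : G) = 0 := by
    intro x hx hx1
    refine hzero _ (fun h => hx1 (Subtype.ext h)) fun hd => P.not_dvd_index (hd.trans ?_)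
    refine Subgroup.index_dvd_of_le fun y hy => Subgroup.mem_centralizer_singleton_iff.2 ?_
    exact congrArg Subtype.val (Subgroup.mem_center_iff.1 hx ⟨y, hy⟩)
  haveI := P.isPGroup'.center_nontrivial
  have hcomm : ∀ x y : (P : Subgroup G), x * y = y * x := by
    rcases commute_or_scalar P.isPGroup' (Fin n → ℂ) σ hn.le with h | ⟨-, h⟩
    · intro x y
      refine Subtype.ext (hinj ?_)
      rw [Subgroup.coe_mul, Subgroup.coe_mul, map_mul, map_mul]
      exact LinearMap.ext fun v => h x y v
    · exfalso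
      obtain ⟨z, hz⟩ := exists_ne (1 : Subgroup.center (P : Subgroup G))
      obtain ⟨c, hc⟩ := h z z.2
      have h0 := hzeroP z z.2 (fun e => hz (Subtype.ext e))
      have h1 : ‖ρ.character ((z : (P : Subgroup G)) : G)‖ = (finrank ℂ (Fin n → ℂ) : ℝ) :=
        (Char.norm_char_eq_iff ρ _).2 ⟨c, LinearMap.ext fun v => hc v⟩
      rw [h0, norm_zero, hn] at h1
      exact hp.ne_zero (by exact_mod_cast h1.symm)
  haveI := Fintype.ofFinite (P : Subgroup G)
  have hsum := Char.sum_char_eq_finrank_invariants σ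
  rw [Finset.sum_eq_single 1 (fun x _ hx => show σ.character x = 0 from hzeroP x (Subgroup.mem_center_iff.2 fun y => hcomm y x) hx)
    (fun h => absurd (Finset.mem_univ _) h)] at hsum
  have h1 : σ.character 1 = (p : ℂ) := by rw [Representation.char_one, hn]
  rw [h1, inv_mul_eq_div] at hsum
  have hd : Nat.card (P : Subgroup G) ∣ p := by
    refine Char.dvd_of_isIntegral_div Nat.card_pos.ne' ?_
    rw [hsum]
    exact isIntegral_algebraMap (R := ℤ) (A := ℂ) (x := (finrank ℂ σ.invariants : ℤ))
  have := Nat.le_of_dvd hp.pos (hPp.trans hd)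
  nlinarith [hp.two_le]

end Cfsg.Agent.S3968


set_option autoImplicit false
open Cfsg

namespace Cfsg.Agent.S3968

/-- Let `p` be a prime and `G` a finite group with a faithful irreducible complex character of degree `p` (so `G` is an irreducible linear group in `p` variables). If `p ^ 2` divides the order of `G`, then the centre of `G` is nontrivial. -/
theorem result {G : Type*} [Group G] [Finite G] (p : ℕ) (hp : p.Prime) (χ : Cfsg.IrrCharacter G) (hdeg : χ.1 1 = p) (hfaith : ∀ g : G, χ.1 g = χ.1 1 → g = 1) (hdiv : p ^ 2 ∣ Nat.card G) : Subgroup.center G ≠ ⊥ := by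
  exact S3968.center_ne_bot p hp χ hdeg hfaith hdiv

end Cfsg.Agent.S3968
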