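import Cfsg.Statements.S3971
import Cfsg.Agent.Lib.Transfer.Fusion
import Cfsg.Agent.Lib.Transfer.PGroup
import Cfsg.Agent.Lib.Solvable.Coprime
import Cfsg.Agent.Lib.CharP.AxB

set_option autoImplicit false
set_option linter.style.haveILetI false

set_option autoImplicit false
open Cfsg
open scoped Pointwise

namespace Cfsg.Agent.S3971

/-- Let `G` be a finite group of order `2 ^ a * n` with `n` odd and not divisible by `3`, and suppose `G` has an element of order `2 ^ (a - 1)` (so a Sylow `2`-subgroup has a cyclic subgroup of index at most `2`). Then `G` has a normal subgroup of order `n`. -/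
theorem result {G : Type*} [Group G] [Finite G] (a n : ℕ) (hG : Nat.card G = 2 ^ a * n) (hn : Odd n) (h3 : ¬ 3 ∣ n) (hx : ∃ x : G, orderOf x = 2 ^ (a - 1)) : ∃ N : Subgroup G, N.Normal ∧ Nat.card N = n := by
  classical
  obtain ⟨x, hxo⟩ := hx
  haveI : Fact (2 : ℕ).Prime := ⟨Nat.prime_two⟩
  have hfac : (Nat.card G).factorization 2 = a := by
    rw [hG, Nat.factorization_mul (by positivity) (by rintro rfl; exact absurd hn (by decide)),
      Nat.factorization_pow]
    simp [Nat.Prime.factorization_self Nat.prime_two, Nat.factorization_eq_zero_of_not_dvd hn.not_two_dvd_nat]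
  obtain ⟨S, hS⟩ := (IsPGroup.of_card (p := 2) (n := a - 1) (G := Subgroup.zpowers x)
    (by rw [Nat.card_zpowers, hxo])).exists_le_sylow
  have hnpc : Cfsg.HasNormalPComplement 2 G := by
    apply Fusion.hasNormalPComplement_of_frobenius
    intro D hD g hg hgo
    obtain ⟨P, hP⟩ := hD.exists_le_sylow
    obtain ⟨t, ht⟩ := MulAction.exists_smul_eq G S P
    set z := t * x * t⁻¹ with hz
    have hzP : z ∈ (P : Subgroup G) := by
      rw [← ht, Sylow.coe_subgroup_smul]
      exact ⟨x, hS (Subgroup.mem_zpowers x), rfl⟩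
    -- the cyclic subgroup of index at most two
    set Z : Subgroup D := (Subgroup.zpowers z).subgroupOf D with hZ
    have hZc : IsCyclic Z := by
      have hinj : Function.Injective (fun u : Z => (⟨((u : D) : G), Subgroup.mem_subgroupOf.1 u.2⟩ : Subgroup.zpowers z)) :=
        fun u v h => Subtype.ext (Subtype.ext (congrArg (fun w : Subgroup.zpowers z => (w : G)) h))
      exact isCyclic_of_injective
        (MonoidHom.mk' (fun u : Z => (⟨((u : D) : G), Subgroup.mem_subgroupOf.1 u.2⟩ : Subgroup.zpowers z))
          (fun u v => rfl)) hinj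
    have hZi : Z.index ≤ 2 := by
      refine le_trans (Subgroup.relIndex_le_of_le_right hP ?_) ?_
      · exact Subgroup.index_ne_zero_of_finite
      have h1 : Nat.card ((Subgroup.zpowers z).subgroupOf (P : Subgroup G)) = 2 ^ (a - 1) := by
        rw [Nat.card_congr (Subgroup.subgroupOfEquivOfLe (Subgroup.zpowers_le.2 hzP)).toEquiv,
          Nat.card_zpowers, hz]
        rw [show t * x * t⁻¹ = (MulAut.conj t) x from rfl, MulEquiv.orderOf_eq, hxo]
      have h2 := ((Subgroup.zpowers z).subgroupOf (P : Subgroup G)).card_mul_index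
      rw [h1, P.card_eq_multiplicity, hfac] at h2
      show ((Subgroup.zpowers z).subgroupOf (P : Subgroup G)).index ≤ 2
      by_contra hlt
      push Not at hlt
      have h3 : 2 ^ (a - 1) * 3 ≤ 2 ^ a := h2 ▸ Nat.mul_le_mul_left _ hlt
      rcases Nat.eq_zero_or_pos a with ha | ha
      · simp [ha] at h3
      · obtain ⟨b, rfl⟩ := Nat.exists_eq_succ_of_ne_zero ha.ne'
        simp [pow_succ] at h3
    obtain ⟨w, hw⟩ := hZc.exists_generator
    set F := frattini D with hF
    haveI : F.Normal := inferInstance
    -- the Frattini quotient has at most four elements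
    have hQ : Nat.card (D ⧸ F) ≤ 4 := by
      set W := Subgroup.zpowers (QuotientGroup.mk' F (w : D)) with hW
      have h1 : Nat.card W ≤ 2 := by
        rw [hW, Nat.card_zpowers]
        refine Nat.le_of_dvd two_pos (orderOf_dvd_of_pow_eq_one ?_)
        rw [← map_pow, QuotientGroup.mk'_apply, QuotientGroup.eq_one_iff]
        exact PGroupBasics.pow_mem_frattini hD _
      have h2 : W.index ≤ 2 := by
        refine le_trans (Nat.le_of_dvd (Nat.pos_of_ne_zero Subgroup.index_ne_zero_of_finite) ?_) hZi
        refine (Subgroup.index_dvd_of_le ?_).trans (Subgroup.index_map_dvd Z (QuotientGroup.mk'_surjective F))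
        rintro _ ⟨u, hu, rfl⟩
        obtain ⟨k, hk⟩ := hw ⟨u, hu⟩
        refine ⟨k, ?_⟩
        change QuotientGroup.mk' F (w : D) ^ k = _
        rw [← map_zpow]
        exact congrArg _ (by rw [← Subgroup.coe_zpow]; exact congrArg Subtype.val hk)
      calc Nat.card (D ⧸ F) = Nat.card W * W.index := (Subgroup.card_mul_index W).symm
        _ ≤ 2 * 2 := Nat.mul_le_mul h1 h2
    set σ : MulAut D := Subgroup.normalizerMonoidHom D ⟨g, hg⟩ with hσ
    have hσv : ∀ d : D, ((σ d : D) : G) = g * d * g⁻¹ := fun d => rfl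
    let f : D ⧸ F ≃* D ⧸ F := QuotientGroup.congr F F σ (Subgroup.characteristic_iff_map_eq.1 inferInstance σ)
    have hiter : ∀ (k : ℕ) (d : D), (f^[k]) (d : D ⧸ F) = ((σ ^ k) d : D ⧸ F) := by
      intro k d
      induction k with
      | zero => rfl
      | succ k ih => rw [Function.iterate_succ_apply', ih, pow_succ']; rfl
    set m := orderOf g with hm
    have hσm : σ ^ m = 1 := by
      rw [hσ, ← map_pow, show (⟨g, hg⟩ : Subgroup.normalizer (D : Set G)) ^ m = 1 from
        Subtype.ext (by rw [SubgroupClass.coe_pow]; exact pow_orderOf_eq_one g), map_one]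
    let e : Equiv.Perm (D ⧸ F) := f.toEquiv
    have he : e = 1 := by
      rw [← orderOf_eq_one_iff]
      have h1 : orderOf e ∣ m := orderOf_dvd_of_pow_eq_one (by
        apply Equiv.ext
        intro q
        obtain ⟨d, rfl⟩ := QuotientGroup.mk'_surjective F q
        rw [Equiv.Perm.coe_pow]
        show (f^[m]) (d : D ⧸ F) = (d : D ⧸ F)
        rw [hiter, hσm]; rfl)
      haveI := Fintype.ofFinite (D ⧸ F)
      have h2 : orderOf e ∣ 24 := by
        refine orderOf_dvd_natCard e |>.trans ?_
        rw [Nat.card_perm]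
        exact Nat.factorial_dvd_factorial (n := 4) hQ
      have h3 : ¬ 3 ∣ m := fun h => by
        have h4 : 3 ∣ 2 ^ a * n := hG ▸ h.trans (orderOf_dvd_natCard g)
        rcases Nat.prime_three.dvd_mul.1 h4 with h5 | h5
        · exact absurd (Nat.prime_three.dvd_of_dvd_pow h5) (by norm_num)
        · exact h3 h5
      have h4 : Nat.Coprime m 24 := by
        rw [show (24 : ℕ) = 2 ^ 3 * 3 by norm_num]
        exact Nat.Coprime.mul_right (hgo.pow_right 3) (Nat.prime_three.coprime_iff_not_dvd.2 h3).symm
      exact Nat.eq_one_of_dvd_coprimes h4 h1 h2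
    have hA : Subgroup.zpowers g ≤ Subgroup.normalizer (D : Set G) := Subgroup.zpowers_le.2 hg
    obtain ⟨j, hj⟩ := IsPGroup.iff_card.1 hD
    have hcop : (Nat.card (Subgroup.zpowers g)).Coprime (Nat.card D) := by
      rw [Nat.card_zpowers, hj]; exact hgo.pow_right j
    haveI : Group.IsNilpotent D := hD.isNilpotent
    have htop : (Subgroup.centralizer ({g} : Set G)).subgroupOf D = ⊤ := by
      refine frattini_nongenerating (eq_top_iff.2 fun d _ => ?_)
      set N := F.map D.subtype with hN
      have hNn : D ≤ Subgroup.normalizer (N : Set G) := AxB.le_normalizer_map_subtype inferInstance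
      have hfixq : ∀ d : D, (σ d : D ⧸ F) = (d : D ⧸ F) := fun d => by
        have := Equiv.congr_fun he (d : D ⧸ F)
        exact this
      have hNA : Subgroup.zpowers g ≤ Subgroup.normalizer (N : Set G) := by
        rw [Subgroup.zpowers_le, SolvBasic.mem_normalizer_iff_conjSmul]
        refine Subgroup.eq_of_le_of_card_ge ?_ (by rw [SolvBasic.card_conjSmul])
        intro u hu
        rw [SolvBasic.mem_conjSmul] at hu
        obtain ⟨v, hv, hvu⟩ := hu
        have hvu' : (v : G) = g⁻¹ * u * g := hvu
        refine ⟨σ v, (Subgroup.characteristic_iff_map_eq.1 (inferInstance : F.Characteristic) σ).le ⟨v, hv, rfl⟩, ?_⟩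
        show ((σ v : D) : G) = u
        rw [hσv, hvu']
        group
      have hsolv : Group.IsSolvable (Subgroup.zpowers g) ∨ Group.IsSolvable D :=
        Or.inr inferInstance
      obtain ⟨c, hc, hkc⟩ := CoprimeAct.exists_mem_centralizer hA hcop hsolv (Subgroup.map_subtype_le F)
        hNn hNA d.2 (fun y hy => by
          obtain ⟨k, rfl⟩ := hy
          have hk : ∀ k : ℤ, ((σ ^ k) d : D ⧸ F) = (d : D ⧸ F) := by
            intro k
            induction k using Int.induction_on with
            | zero => rfl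
            | succ i ih => rw [add_comm, zpow_one_add]; show (σ ((σ ^ (i : ℤ)) d) : D ⧸ F) = _; rw [hfixq, ih]
            | pred i ih =>
              have h := hfixq ((σ ^ (-(i : ℤ) - 1)) d)
              rw [show σ ((σ ^ (-(i : ℤ) - 1)) d) = (σ ^ (-(i : ℤ))) d by
                rw [← MulAut.mul_apply, ← zpow_one_add]; congr 2; omega, ih] at h
              exact h.symm
          have h1 := QuotientGroup.eq.1 (hk k).symm
          refine ⟨(σ ^ k) d * d⁻¹, ?_, ?_⟩
          · have h3 : d * (d⁻¹ * (σ ^ k) d) * d⁻¹ = (σ ^ k) d * d⁻¹ := by group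
            rw [SetLike.mem_coe, ← h3]
            exact (inferInstance : F.Normal).conj_mem _ h1 d
          · have h2 : σ ^ k = Subgroup.normalizerMonoidHom D (⟨g, hg⟩ ^ k) := by rw [map_zpow, hσ]
            rw [h2]
            rfl)
      have hc' : (⟨c, hc.1⟩ : D) ∈ (Subgroup.centralizer ({g} : Set G)).subgroupOf D := by
        rw [Subgroup.mem_subgroupOf, Subgroup.mem_centralizer_singleton_iff]
        exact (Subgroup.mem_centralizer_iff.1 hc.2 g (Subgroup.mem_zpowers g)).symm
      obtain ⟨u, hu, huc⟩ := hkc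
      have hd : d = (⟨c, hc.1⟩ : D) * u⁻¹ := by
        apply Subtype.ext
        show (d : G) = c * (u : G)⁻¹
        rw [show (u : G) = (d : G)⁻¹ * c from huc]
        group
      rw [hd]
      exact mul_mem (Subgroup.mem_sup_left hc') (Subgroup.mem_sup_right (inv_mem hu))
    rw [Subgroup.mem_centralizer_iff]
    intro d hd
    exact Subgroup.mem_centralizer_singleton_iff.1 (Subgroup.mem_subgroupOf.1 (htop.ge (Subgroup.mem_top ⟨d, hd⟩)))
  obtain ⟨P, N, hN, hc⟩ := hnpc
  refine ⟨N, hN, ?_⟩
  have h1 := hc.card_mul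
  rw [P.card_eq_multiplicity, hfac, hG, mul_comm (2 ^ a)] at h1
  exact Nat.eq_of_mul_eq_mul_right (by positivity) h1

end Cfsg.Agent.S3971
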