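import Cfsg.Statements.S3973
import Cfsg.Agent.Lib.Schur.Transfer

set_option autoImplicit false
set_option linter.style.haveILetI false

namespace Cfsg.Agent.S3973

open scoped commutatorElement

/-- The exponent vector on the cover of a presentation. -/
lemma exists_expVec {n : ℕ} {Q : Type*} [Group Q] (π : FreeGroup (Fin n) →* Q) :
    ∃ ε : Schur.Cover π →* Multiplicative (Fin n → ℤ),
      ε.ker = commutator (Schur.Cover π) ∧
      ∀ i, ε (QuotientGroup.mk (FreeGroup.of i)) = Multiplicative.ofAdd (Pi.single i (1 : ℤ)) := by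
  classical
  let ε : Schur.Cover π →* Multiplicative (Fin n → ℤ) :=
    QuotientGroup.lift _ (FreeGroup.lift fun i => Multiplicative.ofAdd (Pi.single i (1 : ℤ))) (by
      rw [Subgroup.commutator_le]
      intro a _ b _
      rw [MonoidHom.mem_ker, map_commutatorElement, commutatorElement_eq_one_iff_mul_comm]
      exact mul_comm _ _)
  have hε : ∀ i, ε (QuotientGroup.mk (FreeGroup.of i)) =
      Multiplicative.ofAdd (Pi.single i (1 : ℤ)) := fun i => by
    simp only [ε, QuotientGroup.lift_mk, FreeGroup.lift_apply_of]
  refine ⟨ε, le_antisymm ?_ (Abelianization.commutator_subset_ker _), hε⟩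
  let g : Fin n → Abelianization (Schur.Cover π) := fun i =>
    Abelianization.of (QuotientGroup.mk (FreeGroup.of i))
  let ι : Multiplicative (Fin n → ℤ) →* Abelianization (Schur.Cover π) :=
    { toFun := fun v => ∏ i, g i ^ (v.toAdd i)
      map_one' := by simp
      map_mul' := fun a b => by simp [zpow_add, Finset.prod_mul_distrib] }
  have hcomp : ι.comp ε = Abelianization.of := by
    refine QuotientGroup.monoidHom_ext _ (FreeGroup.ext_hom _ _ fun i => ?_)
    show ι (ε (QuotientGroup.mk (FreeGroup.of i))) = _
    rw [hε]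
    show ∏ x, g x ^ ((Pi.single i (1 : ℤ) : Fin n → ℤ) x) = g i
    rw [Finset.prod_eq_single i]
    · simp
    · intro x _ hx; simp [hx]
    · simp
  intro e he
  have : Abelianization.of e = 1 := by
    rw [← hcomp, MonoidHom.comp_apply, MonoidHom.mem_ker.1 he, map_one]
  rwa [← MonoidHom.mem_ker, Abelianization.ker_of] at this

end Cfsg.Agent.S3973


set_option autoImplicit false
open Cfsg

namespace Cfsg.Agent.S3973

/-- If a finite group is presented by `n` generators and a finite set of `r` relators, then its Schur multiplier can be generated by `r - n` elements. In particular a finite group with a presentation having as many relators as generators has trivial Schur multiplier. -/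
theorem result (n : ℕ) (rels : Finset (FreeGroup (Fin n))) [Finite (PresentedGroup (rels : Set (FreeGroup (Fin n))))] {A : Type*} [CommGroup A] [Finite A] (hA : Cfsg.HasSchurMultiplier (PresentedGroup (rels : Set (FreeGroup (Fin n)))) A) : Group.rank A ≤ rels.card - n := by
  classical
  set π := PresentedGroup.mk (rels : Set (FreeGroup (Fin n))) with hπdef
  have hπ : Function.Surjective π := PresentedGroup.mk_surjective _
  obtain ⟨ε, hεker, hε⟩ := exists_expVec π
  obtain ⟨e1⟩ := Schur.multEquiv_multiplier π hπ
  obtain ⟨e2⟩ := Schur.multiplierEquiv hA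
  set K := (Schur.coverHom π).ker with hK
  letI : CommGroup K :=
    { (inferInstance : Group K) with
      mul_comm := fun a b => Subtype.ext
        (Subgroup.mem_center_iff.1 (Schur.ker_coverHom_le_center π b.2) a) }
  have hkerπ : π.ker = Subgroup.normalClosure (rels : Set (FreeGroup (Fin n))) :=
    QuotientGroup.ker_mk' _
  let gK : rels → K := fun x => ⟨QuotientGroup.mk (x : FreeGroup (Fin n)), by
    show π x = 1
    rw [← MonoidHom.mem_ker, hkerπ]
    exact Subgroup.subset_normalClosure x.2⟩
  -- the relators generate the central kernel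
  have hgen : ∀ k : K, k ∈ Subgroup.closure (Set.range gK) := by
    intro k
    obtain ⟨x, hx⟩ := QuotientGroup.mk'_surjective (Schur.rel π) (k : Schur.Cover π)
    let C := (Subgroup.closure (Set.range gK)).map K.subtype
    haveI : C.Normal := Schur.normal_of_le_center
      ((Subgroup.map_subtype_le _).trans (Schur.ker_coverHom_le_center π))
    have hle : π.ker ≤ C.comap (QuotientGroup.mk' (Schur.rel π)) :=
      le_of_eq_of_le hkerπ (Subgroup.normalClosure_le_normal fun y hy =>
        ⟨gK ⟨y, hy⟩, Subgroup.subset_closure ⟨⟨y, hy⟩, rfl⟩, rfl⟩)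
    have hxk : x ∈ π.ker := by
      have := k.2
      rw [← hx] at this
      exact this
    obtain ⟨k', hk', hkk⟩ := hle hxk
    have : k' = k := Subtype.ext (hkk.trans hx)
    rwa [← this]
  let gA : rels → Additive K := fun x => Additive.ofMul (gK x)
  let φ : (rels → ℤ) →ₗ[ℤ] Additive K := Fintype.linearCombination ℤ gA
  have hφ : Function.Surjective φ := by
    rw [← LinearMap.range_eq_top, Fintype.range_linearCombination, eq_top_iff]
    intro a _
    have h := hgen a.toMul
    rw [← Submodule.mem_toAddSubgroup, Submodule.span_int_eq_addSubgroupClosure]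
    have h2 : a ∈ Subgroup.toAddSubgroup (Subgroup.closure (Set.range gK)) := h
    rw [Subgroup.toAddSubgroup_closure] at h2
    exact h2
  let fK : Additive K →ₗ[ℤ] (Fin n → ℤ) :=
    (MonoidHom.toAdditiveLeft (ε.comp K.subtype)).toIntLinearMap
  set Φ : (rels → ℤ) →ₗ[ℤ] (Fin n → ℤ) := fK.comp φ with hΦ
  -- the exponent vectors of the relations have full rank
  haveI := Schur.finite_mult_of_finite π
  set N := Nat.card (PresentedGroup (rels : Set (FreeGroup (Fin n)))) with hN
  have hN0 : (N : ℤ) ≠ 0 := by
    rw [hN]; exact_mod_cast Nat.card_pos.ne'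
  have hsingle : ∀ i, (N : ℤ) • (Pi.single i (1 : ℤ) : Fin n → ℤ) ∈ LinearMap.range Φ := by
    intro i
    have hmem : (QuotientGroup.mk (FreeGroup.of i ^ N) : Schur.Cover π) ∈ K := by
      show π (FreeGroup.of i ^ N) = 1
      rw [map_pow, hN]
      exact pow_card_eq_one'
    obtain ⟨v, hv⟩ := hφ (Additive.ofMul (⟨_, hmem⟩ : K))
    refine ⟨v, ?_⟩
    rw [hΦ, LinearMap.comp_apply, hv]
    show (ε (QuotientGroup.mk (FreeGroup.of i ^ N))).toAdd = _
    rw [QuotientGroup.mk_pow, map_pow, hε, toAdd_pow, toAdd_ofAdd, natCast_zsmul]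
  have hrange : n ≤ Module.finrank ℤ (LinearMap.range Φ) := by
    have hall : ∀ v : Fin n → ℤ, (N : ℤ) • v ∈ LinearMap.range Φ := by
      intro v
      rw [pi_eq_sum_univ' v, Finset.smul_sum]
      refine Submodule.sum_mem _ fun i _ => ?_
      rw [smul_comm]
      exact Submodule.smul_mem _ _ (hsingle i)
    let j : (Fin n → ℤ) →ₗ[ℤ] LinearMap.range Φ :=
      LinearMap.codRestrict _ ((N : ℤ) • LinearMap.id) hall
    have hj : Function.Injective j := fun a b h =>
      smul_right_injective _ hN0 (congrArg Subtype.val h)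
    have := LinearMap.finrank_le_finrank_of_injective hj
    rwa [Module.finrank_pi, Fintype.card_fin] at this
  have hrn := Submodule.finrank_quotient_add_finrank (LinearMap.ker Φ)
  rw [(LinearMap.quotKerEquivRange Φ).finrank_eq, Module.finrank_pi, Fintype.card_coe] at hrn
  obtain ⟨d, b⟩ := Submodule.basisOfPid (Pi.basisFun ℤ rels) (LinearMap.ker Φ)
  have hd : d ≤ rels.card - n := by
    have := Module.finrank_eq_card_basis b
    rw [Fintype.card_fin] at this
    omega
  -- the kernel of the exponent map goes onto the multiplier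
  have hmem : ∀ v : LinearMap.ker Φ, ((φ (v : rels → ℤ)).toMul : Schur.Cover π) ∈ Schur.mult π := by
    intro v
    refine ⟨(φ (v : rels → ℤ)).toMul.2, ?_⟩
    show _ ∈ commutator _
    rw [← hεker, MonoidHom.mem_ker]
    exact Multiplicative.toAdd.injective (LinearMap.mem_ker.1 v.2)
  let θ : LinearMap.ker Φ →+ Additive A :=
    (MonoidHom.toAdditive (e1.trans e2).toMonoidHom).comp
      { toFun := fun v => Additive.ofMul (⟨_, hmem v⟩ : Schur.mult π)
        map_zero' := Additive.toMul.injective (Subtype.ext (by simp))
        map_add' := fun x y => Additive.toMul.injective (Subtype.ext (by simp)) }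
  have hθ : Function.Surjective θ := by
    intro a
    obtain ⟨m, hm⟩ := (e1.trans e2).surjective a.toMul
    obtain ⟨v, hv⟩ := hφ (Additive.ofMul (⟨(m : Schur.Cover π), m.2.1⟩ : K))
    have hvk : v ∈ LinearMap.ker Φ := by
      rw [LinearMap.mem_ker, hΦ, LinearMap.comp_apply, hv]
      have h2 : ε (m : Schur.Cover π) = 1 := by
        rw [← MonoidHom.mem_ker, hεker]; exact m.2.2
      show (ε (m : Schur.Cover π)).toAdd = 0
      rw [h2]; rfl
    refine ⟨⟨v, hvk⟩, Additive.toMul.injective ?_⟩
    show (e1.trans e2) ⟨_, hmem ⟨v, hvk⟩⟩ = a.toMul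
    rw [← hm]
    congr 1
    apply Subtype.ext
    show ((φ v).toMul : Schur.Cover π) = m
    rw [hv]; rfl
  let S : Finset A := Finset.univ.image fun i : Fin d => (θ (b i)).toMul
  have hS : Subgroup.closure (S : Set A) = ⊤ := by
    rw [eq_top_iff]
    intro a _
    obtain ⟨v, hv⟩ := hθ (Additive.ofMul a)
    have h : θ v ∈ Subgroup.toAddSubgroup (Subgroup.closure (S : Set A)) := by
      rw [← b.sum_repr v, map_sum]
      refine AddSubgroup.sum_mem _ fun i _ => ?_
      rw [map_zsmul]
      refine AddSubgroup.zsmul_mem _ ?_ _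
      show (θ (b i)).toMul ∈ Subgroup.closure (S : Set A)
      exact Subgroup.subset_closure (Finset.mem_coe.2 (Finset.mem_image.2 ⟨i, Finset.mem_univ _, rfl⟩))
    rw [hv] at h
    exact h
  calc Group.rank A ≤ S.card := Group.rank_le hS
    _ ≤ Fintype.card (Fin d) := Finset.card_image_le
    _ ≤ rels.card - n := by rw [Fintype.card_fin]; exact hd

end Cfsg.Agent.S3973
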