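import Cfsg.Statements.S3977
import Cfsg.Agent.Lib.FGStruct.SubgroupCount
import Cfsg.Agent.Lib.FGStruct.AbelianCyclic

set_option autoImplicit false
set_option linter.style.haveILetI false

set_option autoImplicit false
open Cfsg

namespace Cfsg.Agent.S3977

/-- Let `p` be a prime and `G` a group of order `p ^ m` which has exactly one subgroup of order `p ^ s`, where `1 ≤ s < m`, and where `s ≥ 2` if `p = 2`. Then `G` is cyclic. (For `p = 2` and `s = 1` the generalized quaternion groups also occur; that case is the classical criterion for a unique involution.) -/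
theorem result {G : Type*} [Group G] [Finite G] (p m s : ℕ) (hp : p.Prime) (hG : Nat.card G = p ^ m) (hs : 1 ≤ s) (hsm : s < m) (h2 : p ≠ 2 ∨ 2 ≤ s) (huniq : ∀ H K : Subgroup G, Nat.card H = p ^ s → Nat.card K = p ^ s → H = K) : IsCyclic G := by
  classical
  haveI := Fact.mk hp
  have hP : IsPGroup p G := IsPGroup.of_card hG
  obtain ⟨H, hH⟩ := Sylow.exists_subgroup_card_pow_prime p (hG ▸ Nat.pow_dvd_pow p hsm.le)
  have hsub : ∀ (K : Subgroup G), Nat.card K ≤ p ^ s → K ≤ H := by
    intro K hK
    obtain ⟨i, hi⟩ := IsPGroup.iff_card.1 (hP.to_subgroup K)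
    have his : i ≤ s := (Nat.pow_le_pow_iff_right hp.one_lt).1 (hi ▸ hK)
    obtain ⟨L, hL, hKL⟩ := Sylow.exists_subgroup_card_pow_prime_le p (hG ▸ Nat.pow_dvd_pow p hsm.le) K hi his
    exact huniq L H hL hH ▸ hKL
  have hout : ∃ x : G, x ∉ H := by
    by_contra hne
    simp only [not_exists, not_not] at hne
    have h' : p ^ m = p ^ s := by
      rw [← hG, ← hH, (Subgroup.eq_top_iff' H).2 hne, Subgroup.card_top]
    exact absurd (Nat.pow_right_injective hp.two_le h') (by omega)
  obtain ⟨x, hx⟩ := hout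
  have hHcyc : IsCyclic H := by
    obtain ⟨j, hj⟩ := IsPGroup.iff_orderOf.1 hP x
    have hjs : s < j := by
      by_contra hle
      refine hx (hsub (Subgroup.zpowers x) ?_ (Subgroup.mem_zpowers x))
      rw [Nat.card_zpowers, hj]
      exact Nat.pow_le_pow_right hp.pos (by omega)
    have hdiv : p ^ s ∣ Nat.card (Subgroup.zpowers x) := by
      rw [Nat.card_zpowers, hj]; exact Nat.pow_dvd_pow p hjs.le
    obtain ⟨K, hK⟩ := Sylow.exists_subgroup_card_pow_prime p hdiv
    have hK' : Nat.card (K.map (Subgroup.zpowers x).subtype) = p ^ s := by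
      rw [Subgroup.card_map_of_injective (Subgroup.zpowers x).subtype_injective, hK]
    have hle : H ≤ Subgroup.zpowers x := by
      rw [← huniq _ H hK' hH]
      exact Subgroup.map_subtype_le K
    exact isCyclic_of_injective (Subgroup.inclusion hle) (Subgroup.inclusion_injective hle)
  have hmemH : ∀ y : G, orderOf y ≤ p ^ s → y ∈ H := fun y hy =>
    hsub (Subgroup.zpowers y) (by rw [Nat.card_zpowers]; exact hy) (Subgroup.mem_zpowers y)
  have hps : p ≤ p ^ s := Nat.le_self_pow (by omega) p
  have hfew : Nat.card {y : G // y ^ p = 1} ≤ p := by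
    haveI := Fintype.ofFinite H
    refine le_trans (Nat.card_le_card_of_injective (β := {z : H // z ^ p = 1})
      (fun y => ⟨⟨y.1, hmemH y.1 ((Nat.le_of_dvd hp.pos (orderOf_dvd_of_pow_eq_one y.2)).trans hps)⟩,
        Subtype.ext (by simpa using y.2)⟩) ?_) ?_
    · intro a b h
      exact Subtype.ext (congrArg (fun z : {z : H // z ^ p = 1} => (z.1 : G)) h)
    · rw [Nat.card_eq_fintype_card, Fintype.card_subtype]
      exact IsCyclic.card_pow_eq_one_le hp.pos
  have hab : Cfsg.Agent.AbCyc.AbCyclic G := by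
    intro A hA
    refine Cfsg.Agent.SubgroupCount.isCyclic_of_card_le hp (hP.to_subgroup A) (fun a b => mul_comm' a b) ?_
    refine le_trans (Nat.card_le_card_of_injective (β := {y : G // y ^ p = 1})
      (fun a => ⟨(a.1 : G), by simpa using congrArg Subtype.val a.2⟩) ?_) hfew
    intro a b h
    exact Subtype.ext (Subtype.ext (Subtype.mk.inj h))
  rcases Cfsg.Agent.AbCyc.structure_of_pGroup hab hP with h | ⟨hp2, A, hAn, hAc, hAi, hA4, hA, -⟩
  · exact h
  · exfalso
    have hs2 : 2 ≤ s := h2.resolve_left (not_not_intro hp2)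
    obtain ⟨z, hz⟩ : ∃ z : G, z ∉ A := by
      by_contra hne
      simp only [not_exists, not_not] at hne
      rw [(Subgroup.eq_top_iff' A).2 hne, Subgroup.index_top] at hAi
      omega
    have hzH : z ∈ H := hmemH z (by
      rw [hA z hz, hp2]; exact le_trans (by norm_num) (Nat.pow_le_pow_right (by norm_num) hs2))
    obtain ⟨i, hi⟩ := IsPGroup.iff_card.1 (hP.to_subgroup A)
    have hi2 : 2 ≤ i := by
      rw [hi, hp2] at hA4
      exact (Nat.pow_le_pow_iff_right (by norm_num : 1 < 2)).1 (by simpa using hA4)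
    have h4A : 4 ∣ Nat.card A := by
      rw [hi, hp2]; exact dvd_trans (by norm_num) (Nat.pow_dvd_pow 2 hi2)
    obtain ⟨w, hw⟩ := IsCyclic.exists_ofOrder_eq_natCard (α := A)
    have hwo : orderOf (w ^ (Nat.card A / 4)) = 4 := by
      rw [orderOf_pow_of_dvd ?_ ?_, hw, Nat.div_div_self h4A Nat.card_pos.ne']
      · exact (Nat.div_pos (by omega) (by norm_num)).ne'
      · rw [hw]; exact Nat.div_dvd_of_dvd h4A
    set a : G := ((w ^ (Nat.card A / 4) : A) : G) with ha
    have hao : orderOf a = 4 := by rw [ha, Subgroup.orderOf_coe, hwo]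
    have haH : a ∈ H := hmemH a (by
      rw [hao, hp2]; exact le_trans (by norm_num) (Nat.pow_le_pow_right (by norm_num) hs2))
    refine hz ?_
    haveI := Fintype.ofFinite H
    have h1 : ∀ y : H, orderOf (y : G) = 4 → y ∈ Subgroup.zpowers (⟨a, haH⟩ : H) := by
      intro y hy
      have he : Finset.univ.filter (fun t : H => t ∈ Subgroup.zpowers (⟨a, haH⟩ : H)) =
          Finset.univ.filter (fun t : H => t ^ 4 = 1) := by
        refine Finset.eq_of_subset_of_card_le (fun t ht => Finset.mem_filter.2 ⟨Finset.mem_univ _, ?_⟩) ?_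
        · obtain ⟨k, rfl⟩ := Subgroup.mem_zpowers_iff.1 (Finset.mem_filter.1 ht).2
          rw [← zpow_natCast, ← zpow_mul, mul_comm, zpow_mul, zpow_natCast,
            show (⟨a, haH⟩ : H) ^ 4 = 1 from Subtype.ext (by simpa [hao] using pow_orderOf_eq_one a),
            one_zpow]
        · refine (IsCyclic.card_pow_eq_one_le (by norm_num)).trans ?_
          rw [← Fintype.card_subtype, ← Nat.card_eq_fintype_card]
          show 4 ≤ Nat.card (Subgroup.zpowers (⟨a, haH⟩ : H))
          rw [Nat.card_zpowers, Subgroup.orderOf_mk, hao]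
      have hy' : y ∈ Finset.univ.filter (fun t : H => t ^ 4 = 1) :=
        Finset.mem_filter.2 ⟨Finset.mem_univ _, Subtype.ext (by simpa [hy] using pow_orderOf_eq_one (y : G))⟩
      rw [← he] at hy'
      exact (Finset.mem_filter.1 hy').2
    obtain ⟨k, hk⟩ := Subgroup.mem_zpowers_iff.1 (h1 ⟨z, hzH⟩ (hA z hz))
    rw [← show a ^ k = z from congrArg Subtype.val hk]
    exact zpow_mem (Subtype.coe_prop _) k

end Cfsg.Agent.S3977
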