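import Cfsg.Statements.S3978
import Cfsg.Agent.Lib.Schur.Lift

set_option autoImplicit false
set_option linter.style.haveILetI false

set_option autoImplicit false
open Cfsg

namespace Cfsg.Agent.S3978

/-- A finite group `Q` has trivial Schur multiplier if and only if, for every `n`, every homomorphism from `Q` to the projective general linear group (the quotient of `GL n ℂ` by its centre) lifts to a homomorphism into `GL n ℂ`. -/
theorem result {Q : Type*} [Group Q] [Finite Q] : Cfsg.HasCyclicSchurMultiplier Q 1 ↔ ∀ (n : ℕ) (γ : Q →* (GL (Fin n) ℂ ⧸ Subgroup.center (GL (Fin n) ℂ))), ∃ ρ : Q →* GL (Fin n) ℂ, (QuotientGroup.mk' (Subgroup.center (GL (Fin n) ℂ))).comp ρ = γ := by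
  constructor
  · intro h n γ
    rcases Nat.eq_zero_or_pos n with rfl | hn
    · exact ⟨1, MonoidHom.ext fun q => Subsingleton.elim _ _⟩
    haveI : NeZero n := ⟨hn.ne'⟩
    have hker : (QuotientGroup.mk' (Subgroup.center (GL (Fin n) ℂ))).ker =
        Subgroup.center (GL (Fin n) ℂ) := QuotientGroup.ker_mk' _
    obtain ⟨η, hη⟩ := Schur.exists_lift (Schur.stdPres Q) γ
      (QuotientGroup.mk' (Subgroup.center (GL (Fin n) ℂ))) (QuotientGroup.mk'_surjective _)
      hker.le
    have hscal : ∀ l ∈ (Schur.stdHom Q).ker, η l ∈ Subgroup.center (GL (Fin n) ℂ) := by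
      intro l hl
      rw [← hker]
      have := DFunLike.congr_fun hη l
      simp only [MonoidHom.coe_comp, Function.comp_apply] at this
      rw [MonoidHom.mem_ker, this, MonoidHom.mem_ker.1 hl, map_one]
    obtain ⟨ρ', hρ1, hρ2⟩ := Schur.exists_twist η (Schur.stdHom Q).ker le_rfl
      (Schur.hasCyclicSchurMultiplier_one_iff_bot.1 h) hscal
    refine ⟨MonoidHom.liftOfSurjective (Schur.stdHom Q) (Schur.stdHom_surjective Q)
      ⟨ρ', fun l hl => hρ1 l hl⟩, MonoidHom.ext fun q => ?_⟩
    obtain ⟨e, rfl⟩ := Schur.stdHom_surjective Q q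
    rw [MonoidHom.comp_apply, MonoidHom.liftOfRightInverse_comp_apply]
    have h1 : (QuotientGroup.mk' (Subgroup.center (GL (Fin n) ℂ))) (η e) = γ (Schur.stdHom Q e) :=
      DFunLike.congr_fun hη e
    rw [← h1]
    exact (QuotientGroup.eq.2 (hρ2 e)).symm
  · intro h
    rw [Schur.hasCyclicSchurMultiplier_one_iff_bot, eq_bot_iff]
    intro m hm
    rw [Subgroup.mem_bot]
    by_contra hne
    letI : CommGroup (Schur.stdHom Q).ker :=
      { (inferInstance : Group (Schur.stdHom Q).ker) with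
        mul_comm := fun a b => Subtype.ext
          (Subgroup.mem_center_iff.1 (Schur.stdHom_ker_le_center Q b.2) a) }
    obtain ⟨χ, hχ⟩ := CommGroup.exists_apply_ne_one_of_hasEnoughRootsOfUnity
      (Schur.Multiplier Q) ℂ (a := ⟨m, hm⟩) (fun h' => hne (congrArg Subtype.val h'))
    obtain ⟨lam, hlam⟩ := Schur.exists_extend_units
      (Subgroup.inclusion (Schur.mult_le_ker (Schur.stdPres Q)))
      (Subgroup.inclusion_injective _) χ
    obtain ⟨ρ, hρ⟩ := Schur.exists_monomial_rep (Schur.stdHom Q) (Schur.stdHom_surjective Q)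
      (Schur.stdHom_ker_le_center Q) lam
    haveI : NeZero (Nat.card Q) := ⟨Nat.card_pos.ne'⟩
    have hker : (QuotientGroup.mk' (Subgroup.center (GL (Fin (Nat.card Q)) ℂ))).ker =
        Subgroup.center (GL (Fin (Nat.card Q)) ℂ) := QuotientGroup.ker_mk' _
    have hk : (Schur.stdHom Q).ker ≤
        ((QuotientGroup.mk' (Subgroup.center (GL (Fin (Nat.card Q)) ℂ))).comp ρ).ker := by
      intro z hz
      rw [MonoidHom.mem_ker, MonoidHom.comp_apply, ← MonoidHom.mem_ker, hker, hρ ⟨z, hz⟩,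
        Matrix.GeneralLinearGroup.center_eq_range_scalar]
      exact ⟨_, rfl⟩
    obtain ⟨ρ₀, hρ₀⟩ := h (Nat.card Q) (MonoidHom.liftOfSurjective (Schur.stdHom Q)
      (Schur.stdHom_surjective Q) ⟨_, hk⟩)
    have hcomp : (QuotientGroup.mk' (Subgroup.center (GL (Fin (Nat.card Q)) ℂ))).comp ρ =
        (QuotientGroup.mk' (Subgroup.center (GL (Fin (Nat.card Q)) ℂ))).comp (ρ₀.comp (Schur.stdHom Q)) := by
      rw [← MonoidHom.comp_assoc, hρ₀]
      exact MonoidHom.ext fun e => (MonoidHom.liftOfRightInverse_comp_apply _ _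
        (Function.rightInverse_surjInv (Schur.stdHom_surjective Q)) ⟨_, hk⟩ e).symm
    have h2 : ρ m = (ρ₀.comp (Schur.stdHom Q)) m :=
      Schur.eq_on_commutator (QuotientGroup.mk' (Subgroup.center (GL (Fin (Nat.card Q)) ℂ))) hker.le ρ
        (ρ₀.comp (Schur.stdHom Q)) hcomp m hm.2
    have h3 : Schur.stdHom Q m = 1 := MonoidHom.mem_ker.1 hm.1
    rw [MonoidHom.comp_apply, h3, map_one, hρ ⟨m, hm.1⟩] at h2
    have h4 : lam ⟨m, hm.1⟩ = 1 := Schur.scalar_injective (by rw [h2, map_one])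
    apply hχ
    rw [← h4, ← hlam]
    rfl

end Cfsg.Agent.S3978
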