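import Cfsg.Statements.S3980
import Cfsg.Agent.S3959

set_option autoImplicit false
set_option linter.style.haveILetI false

set_option autoImplicit false
universe u v w
open Cfsg

namespace Cfsg.Agent.S3980

/-- Let `Q₁` and `Q₂` be finite groups whose commutator quotients have coprime orders, with Schur multipliers `A` and `B`. Then the Schur multiplier of `Q₁ × Q₂` is isomorphic to `A × B`. -/
theorem result {Q₁ : Type u} {Q₂ : Type v} [Group Q₁] [Group Q₂] [Finite Q₁] [Finite Q₂] {A B : Type w} [CommGroup A] [CommGroup B] (hA : Cfsg.HasSchurMultiplier Q₁ A) (hB : Cfsg.HasSchurMultiplier Q₂ B) (hcop : Nat.Coprime (Nat.card (Abelianization Q₁)) (Nat.card (Abelianization Q₂))) : Cfsg.HasSchurMultiplier (Q₁ × Q₂) (A × B) := by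
  haveI : Subsingleton (TensorProduct ℤ (Additive (Abelianization Q₁))
      (Additive (Abelianization Q₂))) := by
    refine ⟨fun x y => ?_⟩
    suffices h : ∀ z : TensorProduct ℤ (Additive (Abelianization Q₁))
        (Additive (Abelianization Q₂)), z = 0 by rw [h x, h y]
    intro z
    induction z using TensorProduct.induction_on with
    | zero => rfl
    | add x y hx hy => rw [hx, hy, add_zero]
    | tmul a b =>
      obtain ⟨s, t, hst⟩ : ∃ s t : ℤ,
          s * (Nat.card (Abelianization Q₁) : ℤ) + t * (Nat.card (Abelianization Q₂) : ℤ) = 1 :=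
        Int.isCoprime_iff_gcd_eq_one.2 hcop
      have ha : (Nat.card (Abelianization Q₁) : ℤ) • a = 0 := by
        rw [natCast_zsmul]
        exact addOrderOf_dvd_iff_nsmul_eq_zero.1 (addOrderOf_dvd_natCard a)
      have hb : (Nat.card (Abelianization Q₂) : ℤ) • b = 0 := by
        rw [natCast_zsmul]
        exact addOrderOf_dvd_iff_nsmul_eq_zero.1 (addOrderOf_dvd_natCard b)
      calc TensorProduct.tmul ℤ a b
          = (1 : ℤ) • TensorProduct.tmul ℤ a b := (one_smul _ _).symm
        _ = (s * (Nat.card (Abelianization Q₁) : ℤ)) • TensorProduct.tmul ℤ a b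
            + (t * (Nat.card (Abelianization Q₂) : ℤ)) • TensorProduct.tmul ℤ a b := by
              rw [← hst, add_smul]
        _ = 0 := by
              rw [mul_smul, mul_smul, TensorProduct.smul_tmul', ha, TensorProduct.zero_tmul,
                smul_zero, zero_add, ← TensorProduct.tmul_smul, hb, TensorProduct.tmul_zero,
                smul_zero]
  haveI : Unique (Multiplicative (TensorProduct ℤ (Additive (Abelianization Q₁))
      (Additive (Abelianization Q₂)))) :=
    { default := 1
      uniq := fun a => Multiplicative.toAdd.injective (Subsingleton.elim _ _) }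
  exact Schur.hasSchurMultiplier_congr (S3959.result hA hB)
    ((MulEquiv.refl A).prodCongr MulEquiv.prodUnique)

end Cfsg.Agent.S3980
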