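import Cfsg.Statements.S3982
import Cfsg.Agent.Lib.Solvable.Coprime
import Cfsg.Agent.Lib.Solvable.SchurZassenhaus
import Mathlib.GroupTheory.Nilpotent

set_option autoImplicit false
set_option linter.style.haveILetI false

set_option autoImplicit false
open Cfsg

open scoped Pointwise

namespace Cfsg.Agent.S3982

/-- Let p be an odd prime and G a finite group of even order divisible by p in which the centralizer of every non-identity p-element has odd order. If some nontrivial p-subgroup of G has a normalizer of even order, then the normalizer of every Sylow p-subgroup of G has even order. -/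
theorem result {G : Type*} [Group G] [Finite G] (p : ℕ) [Fact p.Prime] (hp2 : p ≠ 2) (hpG : p ∣ Nat.card G) (h2G : 2 ∣ Nat.card G) (hC : ∀ g : G, g ≠ 1 → (∃ k : ℕ, orderOf g = p ^ k) → Odd (Nat.card ↥(Subgroup.centralizer ({g} : Set G)))) (Q : Subgroup G) (hQ : IsPGroup p ↥Q) (hQ1 : Q ≠ ⊥) (hev : Even (Nat.card ↥(Subgroup.normalizer (Q : Set G)))) (P : Sylow p G) : Even (Nat.card ↥(Subgroup.normalizer ((P : Subgroup G) : Set G))) := by
  classical
  have hp : p.Prime := Fact.out
  haveI : Fact (Nat.Prime 2) := ⟨Nat.prime_two⟩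
  obtain ⟨⟨y, hyN⟩, hy'⟩ := exists_prime_orderOf_dvd_card' (G := Subgroup.normalizer (Q : Set G)) 2
    (even_iff_two_dvd.1 hev)
  have hy : orderOf y = 2 := (Subgroup.orderOf_mk y hyN).symm.trans hy'
  have hyy : y * y = 1 := by rw [← sq, ← hy, pow_orderOf_eq_one]
  obtain ⟨R, hQR, ⟨hRp, hRy⟩, hmax⟩ := Finite.exists_le_maximal
    (p := fun R : Subgroup G => IsPGroup p R ∧ y ∈ Subgroup.normalizer (R : Set G)) (a := Q) ⟨hQ, hyN⟩
  have hR1 : R ≠ ⊥ := fun h => hQ1 (le_bot_iff.1 (h ▸ hQR))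
  -- `y` centralises no non-trivial `p`-element
  have hfree : ∀ r ∈ R, y * r * y⁻¹ = r → r = 1 := by
    intro r hr he
    by_contra hr1
    obtain ⟨k, hk⟩ := IsPGroup.iff_orderOf.1 hRp ⟨r, hr⟩
    rw [Subgroup.orderOf_mk] at hk
    have hyC : y ∈ Subgroup.centralizer ({r} : Set G) := by
      rw [Subgroup.mem_centralizer_iff]
      intro z hz
      rw [Set.mem_singleton_iff.1 hz]
      exact (mul_inv_eq_iff_eq_mul.1 he).symm
    have h2 := Subgroup.orderOf_dvd_natCard _ hyC
    rw [hy] at h2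
    exact (Nat.not_even_iff_odd.2 (hC r hr1 ⟨k, hk⟩)) (even_iff_two_dvd.2 h2)
  have hinv : ∀ r ∈ R, y * r * y⁻¹ = r⁻¹ := by
    have hc : ∀ r ∈ R, y * r * y⁻¹ ∈ R := fun r hr => (Subgroup.mem_normalizer_iff.1 hRy r).1 hr
    have hinj : Function.Injective (fun r : R => (⟨(r : G)⁻¹ * (y * r * y⁻¹),
        R.mul_mem (R.inv_mem r.2) (hc r r.2)⟩ : R)) := by
      intro a b hab
      have hab' : (a : G)⁻¹ * (y * a * y⁻¹) = (b : G)⁻¹ * (y * b * y⁻¹) := congrArg Subtype.val hab
      refine Subtype.ext ?_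
      have h1 : (b : G) * (a : G)⁻¹ = 1 := by
        refine hfree _ (R.mul_mem b.2 (R.inv_mem a.2)) ?_
        calc y * ((b : G) * (a : G)⁻¹) * y⁻¹
            = (b : G) * ((b : G)⁻¹ * (y * b * y⁻¹)) * (y * (a : G)⁻¹ * y⁻¹) := by group
          _ = (b : G) * ((a : G)⁻¹ * (y * a * y⁻¹)) * (y * (a : G)⁻¹ * y⁻¹) := by rw [hab']
          _ = (b : G) * (a : G)⁻¹ := by group
      exact (mul_inv_eq_one.1 h1).symm
    intro r hr
    obtain ⟨a, ha⟩ := Finite.surjective_of_injective hinj ⟨r, hr⟩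
    have ha' : (a : G)⁻¹ * (y * a * y⁻¹) = r := congrArg Subtype.val ha
    rw [← ha', show y * ((a : G)⁻¹ * (y * a * y⁻¹)) * y⁻¹ =
      (y * (a : G)⁻¹ * y⁻¹) * ((y * y) * a * (y * y)⁻¹) by group, hyy]
    group
  set N := Subgroup.normalizer (R : Set G) with hNdef
  set C := Subgroup.centralizer (R : Set G) with hCdef
  have hCodd : Odd (Nat.card C) := by
    obtain ⟨r, hr, hr1⟩ := (Subgroup.bot_or_exists_ne_one R).resolve_left hR1
    obtain ⟨k, hk⟩ := IsPGroup.iff_orderOf.1 hRp ⟨r, hr⟩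
    rw [Subgroup.orderOf_mk] at hk
    exact (hC r hr1 ⟨k, hk⟩).of_dvd_nat
      (Subgroup.card_dvd_of_le (Subgroup.centralizer_le (Set.singleton_subset_iff.2 hr)))
  have hC2 : ¬ 2 ∣ Nat.card C := fun h => Nat.not_even_iff_odd.2 hCodd (even_iff_two_dvd.2 h)
  have hCN : C ≤ N := Subgroup.centralizer_le_normalizer _
  have hNC : N ≤ Subgroup.normalizer (C : Set G) := by
    intro g hg
    rw [Subgroup.mem_normalizer_iff]
    intro c
    rw [Subgroup.mem_centralizer_iff, Subgroup.mem_centralizer_iff]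
    constructor
    · intro hc r hr
      have hr' : g⁻¹ * r * g ∈ R := by
        have := (Subgroup.mem_normalizer_iff.1 (N.inv_mem hg) r).1 hr
        simpa using this
      calc r * (g * c * g⁻¹) = g * ((g⁻¹ * r * g) * c) * g⁻¹ := by group
        _ = g * (c * (g⁻¹ * r * g)) * g⁻¹ := by rw [hc _ hr']
        _ = g * c * g⁻¹ * r := by group
    · intro hc r hr
      have hr' : g * r * g⁻¹ ∈ R := (Subgroup.mem_normalizer_iff.1 hg r).1 hr
      calc r * c = g⁻¹ * ((g * r * g⁻¹) * (g * c * g⁻¹)) * g := by group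
        _ = g⁻¹ * ((g * c * g⁻¹) * (g * r * g⁻¹)) * g := by rw [hc _ hr']
        _ = c * r := by group
  have hyC' : Subgroup.zpowers y ≤ Subgroup.normalizer (C : Set G) := Subgroup.zpowers_le.2 (hNC hRy)
  -- every `p`-element of `N` centralises `R`
  have hpC : ∀ g ∈ N, (∃ k : ℕ, g ^ p ^ k = 1) → g ∈ C := by
    rintro g hgN ⟨k, hk⟩
    have hcop : (Nat.card (Subgroup.zpowers y)).Coprime (Nat.card C) := by
      rw [Nat.card_zpowers, hy]
      exact Nat.prime_two.coprime_iff_not_dvd.2 hC2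
    have hmem : g * y * g⁻¹ * y⁻¹ ∈ C := by
      rw [Subgroup.mem_centralizer_iff]
      intro r hr
      have hr' : g⁻¹ * r * g ∈ R := by
        have := (Subgroup.mem_normalizer_iff.1 (N.inv_mem hgN) r).1 hr
        simpa using this
      set c := g * y * g⁻¹ * y⁻¹
      have e : c * r * c⁻¹ = r := by
        calc c * r * c⁻¹ = g * (y * (g⁻¹ * (y⁻¹ * r * y⁻¹⁻¹) * g) * y⁻¹) * g⁻¹ := by
              simp only [c]; group
          _ = g * (y * (g⁻¹ * r⁻¹ * g) * y⁻¹) * g⁻¹ := by
              rw [show y⁻¹ * r * y⁻¹⁻¹ = r⁻¹ by rw [inv_eq_of_mul_eq_one_right hyy]; exact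
                (by rw [inv_eq_of_mul_eq_one_right hyy]; have := hinv r hr;
                    rwa [inv_eq_of_mul_eq_one_right hyy] at this)]
          _ = g * (g⁻¹ * r⁻¹ * g)⁻¹ * g⁻¹ := by
              rw [hinv _ (by simpa [mul_assoc] using R.inv_mem hr')]
          _ = r := by group
      exact (mul_inv_eq_iff_eq_mul.1 e).symm
    have hsup : g * y * g⁻¹ ∈ C ⊔ Subgroup.zpowers y := by
      rw [show g * y * g⁻¹ = g * y * g⁻¹ * y⁻¹ * y by group]
      exact Subgroup.mul_mem_sup hmem (Subgroup.mem_zpowers y)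
    obtain ⟨c, hc, hcA⟩ := Cfsg.Agent.SchurZ.conj_in (A := Subgroup.zpowers y) (K := C)
      (B := Subgroup.zpowers (g * y * g⁻¹)) hyC' hcop
      (Or.inl (Group.isSolvable_of_comm fun a b => mul_comm' a b))
      (by rw [Subgroup.zpowers_le]; exact hsup)
      (by rw [Nat.card_zpowers, Nat.card_zpowers, show g * y * g⁻¹ = MulAut.conj g y from rfl,
        MulEquiv.orderOf_eq])
    -- `d = c⁻¹ g` centralises `y`
    set d := c⁻¹ * g with hd
    have hdy : d * y * d⁻¹ = y := by
      have h1 : g * y * g⁻¹ ∈ MulAut.conj c • Subgroup.zpowers y := by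
        rw [hcA]; exact Subgroup.mem_zpowers _
      rw [Subgroup.mem_pointwise_smul_iff_inv_smul_mem] at h1
      have h2 : d * y * d⁻¹ ∈ Subgroup.zpowers y := by
        rw [hd]; simpa [MulAut.smul_def, mul_assoc] using h1
      obtain ⟨i, hi⟩ := Subgroup.mem_zpowers_iff.1 h2
      have hy2 : y ^ (2 : ℤ) = 1 := by rw [zpow_two, hyy]
      rcases Int.even_or_odd' i with ⟨j, rfl | rfl⟩
      · exfalso
        rw [zpow_mul, hy2, one_zpow] at hi
        have := conj_eq_one_iff.1 hi.symm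
        rw [this, orderOf_one] at hy
        exact absurd hy (by norm_num)
      · rw [zpow_add, zpow_mul, hy2, one_zpow, one_mul, zpow_one] at hi
        exact hi.symm
    -- the order of `d` is prime to `p`
    have hdp : ¬ p ∣ orderOf d := by
      intro hd'
      set e := d ^ (orderOf d / p)
      have he : orderOf e = p := by
        rw [orderOf_pow_of_dvd (Nat.div_pos (Nat.le_of_dvd (orderOf_pos d) hd') hp.pos).ne'
          (Nat.div_dvd_of_dvd hd'), Nat.div_div_self hd' (orderOf_pos d).ne']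
      have he1 : e ≠ 1 := fun h => hp.ne_one (by rw [← he, h, orderOf_one])
      have hye : y ∈ Subgroup.centralizer ({e} : Set G) := by
        rw [Subgroup.mem_centralizer_iff]
        intro z hz
        rw [Set.mem_singleton_iff.1 hz]
        exact ((show Commute d y from mul_inv_eq_iff_eq_mul.1 hdy).pow_left _).eq
      have h2 := Subgroup.orderOf_dvd_natCard _ hye
      rw [hy] at h2
      exact (Nat.not_even_iff_odd.2 (hC e he1 ⟨1, by rw [he, pow_one]⟩)) (even_iff_two_dvd.2 h2)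
    -- modulo `C`, `g` and `d` agree
    haveI hn : (C.subgroupOf N).Normal := Subgroup.normal_subgroupOf_of_le_normalizer hNC
    set π := QuotientGroup.mk' (C.subgroupOf N)
    have hdN : d ∈ N := N.mul_mem (N.inv_mem (hCN hc)) hgN
    have hsame : π ⟨g, hgN⟩ = π ⟨d, hdN⟩ := by
      symm
      refine QuotientGroup.eq.2 ?_
      show d⁻¹ * g ∈ C
      rw [hd, show (c⁻¹ * g)⁻¹ * g = g⁻¹ * c * g by group]
      have := (Subgroup.mem_normalizer_iff.1 (hNC (N.inv_mem hgN)) c).1 hc
      simpa using this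
    have h1 : π ⟨g, hgN⟩ ^ p ^ k = 1 := by
      rw [← map_pow, show (⟨g, hgN⟩ : N) ^ p ^ k = 1 from Subtype.ext (by simpa using hk), map_one]
    have h2 : π ⟨g, hgN⟩ ^ orderOf d = 1 := by
      rw [hsame, ← map_pow,
        show (⟨d, hdN⟩ : N) ^ orderOf d = 1 from Subtype.ext (by simpa using pow_orderOf_eq_one d), map_one]
    have h3 := pow_gcd_eq_one.2 ⟨h1, h2⟩
    rw [Nat.Coprime.gcd_eq_one ((hp.coprime_iff_not_dvd.2 hdp).pow_left k), pow_one] at h3
    exact (QuotientGroup.eq_one_iff (N := C.subgroupOf N) _).1 h3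
  have hRC : R ≤ C := fun r hr => hpC r (Subgroup.le_normalizer hr) (by
    obtain ⟨k, hk⟩ := hRp ⟨r, hr⟩; exact ⟨k, by simpa using congrArg Subtype.val hk⟩)
  obtain ⟨T, hRT, hTy⟩ := Cfsg.Agent.CoprimeAct.exists_invariant_sylow_ge (A := Subgroup.zpowers y) (K := C)
    hyC' (by rw [Nat.card_zpowers, hy]; exact Nat.prime_two.coprime_iff_not_dvd.2 hC2)
    (Or.inl (Group.isSolvable_of_comm fun a b => mul_comm' a b)) hRC hRp (Subgroup.zpowers_le.2 hRy)
  have hTR : (T : Subgroup C).map C.subtype = R :=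
    le_antisymm (hmax ⟨T.isPGroup'.map _, hTy (Subgroup.mem_zpowers y)⟩ hRT) hRT
  -- `R` is a Sylow subgroup
  obtain ⟨S, hS⟩ := hRp.exists_le_sylow
  have hRS : R = (S : Subgroup G) := by
    by_contra hne
    haveI : Group.IsNilpotent (S : Subgroup G) := S.isPGroup'.isNilpotent
    have hlt : R.subgroupOf (S : Subgroup G) < ⊤ := lt_top_iff_ne_top.2 fun h =>
      hne (le_antisymm hS (Subgroup.subgroupOf_eq_top.1 h))
    obtain ⟨⟨g, hgS⟩, hgN', hgR⟩ :=
      SetLike.exists_of_lt (Group.normalizerCondition_of_isNilpotent _ hlt)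
    refine hgR ?_
    have hgN : g ∈ N := by
      rw [Subgroup.mem_normalizer_iff] at hgN' ⊢
      intro r
      constructor
      · intro hr; exact (hgN' ⟨r, hS hr⟩).1 hr
      · intro hr
        have hrS : r ∈ (S : Subgroup G) := by
          have := Subgroup.mul_mem _ (Subgroup.mul_mem _ (Subgroup.inv_mem _ hgS) (hS hr)) hgS
          simpa [mul_assoc] using this
        exact (hgN' ⟨r, hrS⟩).2 hr
    obtain ⟨k, hk⟩ := S.isPGroup' ⟨g, hgS⟩
    have hk' : g ^ p ^ k = 1 := by simpa using congrArg Subtype.val hk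
    have hgC : g ∈ C := hpC g hgN ⟨k, hk'⟩
    show g ∈ R
    -- `R` is a normal Sylow subgroup of `C`
    haveI hTn : (T : Subgroup C).Normal := by
      refine ⟨fun t ht c => ?_⟩
      have h1 : (t : G) ∈ R := hTR ▸ Subgroup.mem_map_of_mem _ ht
      have h2 : ((c * t * c⁻¹ : C) : G) ∈ (T : Subgroup C).map C.subtype := by
        rw [hTR]
        exact (Subgroup.mem_normalizer_iff.1 (hCN c.2) _).1 h1
      obtain ⟨t', ht', e⟩ := h2
      exact (Subtype.ext e : t' = c * t * c⁻¹) ▸ ht'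
    have hgp : IsPGroup p (Subgroup.zpowers (⟨g, hgC⟩ : C)) := IsPGroup.of_card_dvd_pow (n := k) (by
      rw [Nat.card_zpowers, Subgroup.orderOf_mk]; exact orderOf_dvd_of_pow_eq_one hk')
    obtain ⟨T', hT'⟩ := hgp.exists_le_sylow
    rw [show T' = T from (Subsingleton.elim (h := @Unique.instSubsingleton _ (Sylow.unique_of_normal T hTn)) T' T)] at hT'
    exact hTR ▸ Subgroup.mem_map_of_mem C.subtype (hT' (Subgroup.mem_zpowers _))
  obtain ⟨c, hc⟩ := MulAction.exists_smul_eq G S P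
  have hyS : y ∈ Subgroup.normalizer ((S : Subgroup G) : Set G) := hRS ▸ hRy
  have hyP : c * y * c⁻¹ ∈ Subgroup.normalizer ((P : Subgroup G) : Set G) := by
    rw [← hc, Sylow.coe_subgroup_smul, Subgroup.mem_normalizer_iff]
    intro w
    rw [Subgroup.mem_pointwise_smul_iff_inv_smul_mem, Subgroup.mem_pointwise_smul_iff_inv_smul_mem]
    simp only [MulAut.smul_def, MulAut.inv_apply, MulAut.conj_symm_apply]
    rw [Subgroup.mem_normalizer_iff.1 hyS]
    simp [mul_assoc]
  rw [even_iff_two_dvd]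
  have hord : orderOf (c * y * c⁻¹) = 2 := by
    rw [show c * y * c⁻¹ = MulAut.conj c y from rfl, MulEquiv.orderOf_eq, hy]
  rw [← hord]
  exact Subgroup.orderOf_dvd_natCard _ hyP

end Cfsg.Agent.S3982
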