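import Cfsg.Statements.S3983
import Cfsg.Agent.Lib.FGStruct.SylowTI

set_option autoImplicit false
set_option linter.style.haveILetI false

set_option autoImplicit false
open scoped Pointwise
open Cfsg

open scoped Pointwise

namespace Cfsg.Agent.S3983

/-- Let P be a Sylow p-subgroup of the finite group G that meets each conjugate g P g⁻¹ with g outside N_G(P) trivially, and let U be a subgroup of G of order divisible by p. Then a Sylow p-subgroup Q of U has the same property inside U: Q meets each conjugate u Q u⁻¹ with u ∈ U outside N_U(Q) trivially. -/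
theorem result {G : Type*} [Group G] [Finite G] (p : ℕ) [Fact p.Prime] (P : Sylow p G) (hTI : ∀ g : G, g ∉ Subgroup.normalizer ((P : Subgroup G) : Set G) → (P : Subgroup G) ⊓ (MulAut.conj g • (P : Subgroup G)) = ⊥) (U : Subgroup G) (hU : p ∣ Nat.card ↥U) (Q : Sylow p ↥U) : ∀ u : ↥U, u ∉ Subgroup.normalizer ((Q : Subgroup ↥U) : Set ↥U) → (Q : Subgroup ↥U) ⊓ (MulAut.conj u • (Q : Subgroup ↥U)) = ⊥ := by
  intro u hu
  rw [Subgroup.eq_bot_iff_forall]
  intro w hw
  by_contra hw1
  obtain ⟨hwQ, hwu⟩ := Subgroup.mem_inf.1 hw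
  rw [Subgroup.mem_pointwise_smul_iff_inv_smul_mem] at hwu
  obtain ⟨P₁, hP₁⟩ := (Q.isPGroup'.map U.subtype).exists_le_sylow
  have hle : ∀ z : U, z ∈ (Q : Subgroup U) → (z : G) ∈ (P₁ : Subgroup G) := fun z hz =>
    hP₁ (Subgroup.mem_map_of_mem U.subtype hz)
  have hQeq : (P₁ : Subgroup G).subgroupOf U = (Q : Subgroup U) :=
    Q.is_maximal' (P₁.isPGroup'.comap_of_injective U.subtype U.subtype_injective) fun z hz => hle z hz
  have hun : (u : G) ∈ Subgroup.normalizer ((P₁ : Subgroup G) : Set G) := by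
    refine Cfsg.Agent.SylowTI.mem_normalizer P hTI P₁ (v := (u : G)⁻¹ * w * u) ?_ ?_ ?_
    · have := hle _ hwu
      simpa [MulAut.smul_def, mul_assoc] using this
    · intro h
      refine hw1 (Subtype.ext ?_)
      calc (w : G) = u * ((u : G)⁻¹ * w * u) * (u : G)⁻¹ := by group
        _ = 1 := by rw [h]; group
    · simpa [mul_assoc] using hle w hwQ
  refine hu ?_
  rw [Subgroup.mem_normalizer_iff]
  intro z
  rw [← hQeq, Subgroup.mem_subgroupOf, Subgroup.mem_subgroupOf, Subgroup.mem_normalizer_iff.1 hun]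
  simp

end Cfsg.Agent.S3983
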