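import Cfsg.Statements.S3984
import Cfsg.Agent.Lib.FGStruct.SylowTI
import Cfsg.Agent.Lib.Solvable.SchurZassenhaus
import Mathlib.Data.Int.GCD

set_option autoImplicit false
set_option linter.style.haveILetI false

set_option autoImplicit false
open scoped Pointwise
open Cfsg

open scoped Pointwise

namespace Cfsg.Agent.S3984

/-- Let P be a Sylow p-subgroup of the finite group G that meets each conjugate g P g⁻¹ with g outside N_G(P) trivially, and let N be a normal subgroup of G of order prime to p. Then every Sylow p-subgroup Q of G ⧸ N meets each conjugate x Q x⁻¹ with x outside its normalizer trivially. -/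
theorem result {G : Type*} [Group G] [Finite G] (p : ℕ) [Fact p.Prime] (P : Sylow p G) (hTI : ∀ g : G, g ∉ Subgroup.normalizer ((P : Subgroup G) : Set G) → (P : Subgroup G) ⊓ (MulAut.conj g • (P : Subgroup G)) = ⊥) (N : Subgroup G) [N.Normal] (hN : (Nat.card ↥N).Coprime p) (Q : Sylow p (G ⧸ N)) : ∀ x : G ⧸ N, x ∉ Subgroup.normalizer ((Q : Subgroup (G ⧸ N)) : Set (G ⧸ N)) → (Q : Subgroup (G ⧸ N)) ⊓ (MulAut.conj x • (Q : Subgroup (G ⧸ N))) = ⊥ := by
  classical
  intro x hx
  rw [Subgroup.eq_bot_iff_forall]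
  intro z hz
  by_contra hz1
  obtain ⟨hzQ, hzx⟩ := Subgroup.mem_inf.1 hz
  rw [Subgroup.mem_pointwise_smul_iff_inv_smul_mem] at hzx
  obtain ⟨P₁, hP₁⟩ := Sylow.mapSurjective_surjective (QuotientGroup.mk'_surjective N) p Q
  have hQ : (Q : Subgroup (G ⧸ N)) = (P₁ : Subgroup G).map (QuotientGroup.mk' N) := by rw [← hP₁]; rfl
  obtain ⟨a, rfl⟩ := QuotientGroup.mk'_surjective N x
  rw [hQ] at hzQ hzx
  obtain ⟨w, hw, hwz⟩ := hzQ
  obtain ⟨w', hw', hwz'⟩ := hzx
  have hwz'' : QuotientGroup.mk' N w' = (QuotientGroup.mk' N a)⁻¹ * z * QuotientGroup.mk' N a := by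
    rw [hwz']; simp [MulAut.smul_def]
  -- orders are preserved on `P₁`
  have hord : ∀ v ∈ (P₁ : Subgroup G), orderOf v = orderOf (QuotientGroup.mk' N v) := by
    intro v hv
    refine Nat.dvd_antisymm (orderOf_dvd_of_pow_eq_one ?_) (orderOf_map_dvd _ v)
    have hmem : v ^ orderOf (QuotientGroup.mk' N v) ∈ N := by
      rw [← QuotientGroup.eq_one_iff]
      show QuotientGroup.mk' N (v ^ orderOf (QuotientGroup.mk' N v)) = 1
      rw [map_pow, pow_orderOf_eq_one]
    obtain ⟨i, hi⟩ := P₁.isPGroup' ⟨_, Subgroup.pow_mem _ hv (orderOf (QuotientGroup.mk' N v))⟩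
    have hi' := congrArg Subtype.val hi
    simp only [Subgroup.coe_pow, Subgroup.coe_one] at hi'
    have h1 : (v ^ orderOf (QuotientGroup.mk' N v)) ^ Nat.card N = 1 := by
      have := pow_card_eq_one' (G := N) (x := ⟨_, hmem⟩)
      exact congrArg Subtype.val this
    have h2 := pow_gcd_eq_one.2 ⟨h1, hi'⟩
    rwa [Nat.Coprime.gcd_eq_one (hN.pow_right i), pow_one] at h2
  set v := a * w' * a⁻¹ with hvdef
  have hvz : QuotientGroup.mk' N v = z := by
    rw [hvdef, map_mul, map_mul, map_inv, hwz'']; group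
  have hov : orderOf v = orderOf w := by
    rw [hvdef, show a * w' * a⁻¹ = MulAut.conj a w' from rfl, MulEquiv.orderOf_eq, hord w' hw', hord w hw,
      hwz'', hwz, show (QuotientGroup.mk' N a)⁻¹ * z * QuotientGroup.mk' N a =
        MulAut.conj (QuotientGroup.mk' N a)⁻¹ z by simp, MulEquiv.orderOf_eq]
  have hAK : Subgroup.zpowers w ≤ Subgroup.normalizer (N : Set G) := by
    rw [Subgroup.normalizer_eq_top]; exact le_top
  have hcop : (Nat.card (Subgroup.zpowers w)).Coprime (Nat.card N) := by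
    obtain ⟨i, hi⟩ := IsPGroup.iff_orderOf.1 P₁.isPGroup' ⟨w, hw⟩
    rw [Nat.card_zpowers, show orderOf w = p ^ i by rw [← hi, Subgroup.orderOf_mk]]
    exact (hN.pow_right i).symm
  have hvsup : v ∈ N ⊔ Subgroup.zpowers w := by
    have h1 : v * w⁻¹ ∈ N := by
      rw [← QuotientGroup.eq_one_iff]
      show QuotientGroup.mk' N (v * w⁻¹) = 1
      rw [map_mul, map_inv, hvz, hwz, mul_inv_cancel]
    rw [show v = v * w⁻¹ * w by group]
    exact Subgroup.mul_mem_sup h1 (Subgroup.mem_zpowers w)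
  obtain ⟨k, hk, hkA⟩ := Cfsg.Agent.SchurZ.conj_in (A := Subgroup.zpowers w) (K := N)
    (B := Subgroup.zpowers v) hAK hcop (Or.inl (Group.isSolvable_of_comm fun a b => mul_comm' a b))
    (by rw [Subgroup.zpowers_le]; exact hvsup) (by rw [Nat.card_zpowers, Nat.card_zpowers, hov])
  have hmem : k⁻¹ * v * k ∈ (P₁ : Subgroup G) := by
    have h1 : v ∈ MulAut.conj k • Subgroup.zpowers w := by rw [hkA]; exact Subgroup.mem_zpowers v
    rw [Subgroup.mem_pointwise_smul_iff_inv_smul_mem] at h1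
    exact Subgroup.zpowers_le.2 hw (by simpa [MulAut.smul_def, mul_assoc] using h1)
  have hNP : k⁻¹ * a ∈ Subgroup.normalizer ((P₁ : Subgroup G) : Set G) := by
    refine Cfsg.Agent.SylowTI.mem_normalizer P hTI P₁ hw' ?_ ?_
    · intro h
      refine hz1 ?_
      rw [h, map_one] at hwz''
      calc z = QuotientGroup.mk' N a * ((QuotientGroup.mk' N a)⁻¹ * z * QuotientGroup.mk' N a) *
            (QuotientGroup.mk' N a)⁻¹ := by group
        _ = 1 := by rw [← hwz'']; group
    · rw [show k⁻¹ * a * w' * (k⁻¹ * a)⁻¹ = k⁻¹ * v * k by rw [hvdef]; group]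
      exact hmem
  refine hx ?_
  rw [hQ]
  have h2 := Subgroup.le_normalizer_map (QuotientGroup.mk' N) (Subgroup.mem_map_of_mem _ hNP)
  rwa [map_mul, map_inv, show QuotientGroup.mk' N k = 1 from (QuotientGroup.eq_one_iff k).2 hk, inv_one,
    one_mul] at h2

end Cfsg.Agent.S3984
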