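import Cfsg.Statements.S3985
import Cfsg.Agent.Lib.FGStruct.SylowTI
import Cfsg.Agent.Lib.Transfer.Basic
import Mathlib.NumberTheory.Basic
import Mathlib.RingTheory.Int.Basic

set_option autoImplicit false
set_option linter.style.haveILetI false

set_option autoImplicit false
open scoped Pointwise
open Cfsg

open scoped Pointwise

namespace Cfsg.Agent.S3985

/-- Let P be a cyclic Sylow p-subgroup of the finite group G. Then P meets each conjugate g P g⁻¹ with g outside N_G(P) trivially if and only if P is weakly self-centralizing: C_G(x) = C_G(P) for every non-identity x ∈ P. -/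
theorem result {G : Type*} [Group G] [Finite G] (p : ℕ) [Fact p.Prime] (P : Sylow p G) (hcyc : IsCyclic ↥(P : Subgroup G)) : (∀ g : G, g ∉ Subgroup.normalizer ((P : Subgroup G) : Set G) → (P : Subgroup G) ⊓ (MulAut.conj g • (P : Subgroup G)) = ⊥) ↔ ∀ x : G, x ∈ (P : Subgroup G) → x ≠ 1 → Subgroup.centralizer ({x} : Set G) = Subgroup.centralizer ((P : Subgroup G) : Set G) := by
  classical
  have hp : p.Prime := Fact.out
  haveI := hcyc
  have hab : ∀ a ∈ (P : Subgroup G), ∀ b ∈ (P : Subgroup G), a * b = b * a := fun a ha b hb => by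
    haveI : IsMulCommutative (P : Subgroup G) := hcyc.commutative
    exact setLike_mul_comm ha hb
  have hPC : (P : Subgroup G) ≤ Subgroup.centralizer ((P : Subgroup G) : Set G) := fun a ha =>
    Subgroup.mem_centralizer_iff.2 fun b hb => hab b hb a ha
  constructor
  · intro hTI x hxP hx1
    refine le_antisymm (fun g hg => ?_) ?_
    · have hgx : x * g = g * x := Subgroup.mem_centralizer_iff.1 hg x rfl
      have hgN : g ∈ Subgroup.normalizer ((P : Subgroup G) : Set G) :=
        Cfsg.Agent.SylowTI.mem_normalizer P hTI P hxP hx1 (by rw [← hgx, mul_inv_cancel_right]; exact hxP)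
      -- split off the `p`-part
      obtain ⟨a, b, hab', ha, hb, ⟨ka, hka⟩, hbo⟩ := Cfsg.Agent.PBasic.exists_pPart_mul (p := p) g
      have haN : a ∈ Subgroup.normalizer ((P : Subgroup G) : Set G) := Subgroup.zpowers_le.2 hgN ha
      have hbN : b ∈ Subgroup.normalizer ((P : Subgroup G) : Set G) := Subgroup.zpowers_le.2 hgN hb
      have haP : a ∈ (P : Subgroup G) := by
        have hpa : IsPGroup p (Subgroup.zpowers a) := IsPGroup.of_card (n := ka) (by rw [Nat.card_zpowers, hka])
        have hsup : IsPGroup p ↥(Subgroup.zpowers a ⊔ (P : Subgroup G)) :=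
          hpa.to_sup_of_normal_right' P.isPGroup' (Subgroup.zpowers_le.2 haN)
        rw [← P.is_maximal' hsup le_sup_right]
        exact Subgroup.mem_sup_left (Subgroup.mem_zpowers _)
      have hbx : b * x = x * b := by
        obtain ⟨i, rfl⟩ := Subgroup.mem_zpowers_iff.1 hb
        exact ((show Commute g x from hgx.symm).zpow_left i).eq
      obtain ⟨⟨u, huP⟩, hu⟩ := IsCyclic.exists_generator (α := (P : Subgroup G))
      obtain ⟨i, hi⟩ := Subgroup.mem_zpowers_iff.1 (hu ⟨b * u * b⁻¹, (Subgroup.mem_normalizer_iff.1 hbN u).1 huP⟩)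
      obtain ⟨j, hj⟩ := Subgroup.mem_zpowers_iff.1 (hu ⟨x, hxP⟩)
      have hi' : u ^ i = b * u * b⁻¹ := congrArg Subtype.val hi
      have hj' : u ^ j = x := congrArg Subtype.val hj
      obtain ⟨m, hm⟩ := IsPGroup.iff_orderOf.1 P.isPGroup' ⟨u, huP⟩
      rw [Subgroup.orderOf_mk] at hm
      have h1 : u ^ (j * (i - 1)) = 1 := by
        have hbxb : b * x * b⁻¹ = x := by rw [hbx, mul_inv_cancel_right]
        rw [← hj', ← conj_zpow, ← hi', ← zpow_mul] at hbxb
        rw [mul_sub, mul_one, zpow_sub, mul_comm j i, hbxb, mul_inv_cancel]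
      have hd : (p : ℤ) ∣ i - 1 := by
        have h2 : (p : ℤ) ^ m ∣ j * (i - 1) := by
          have := orderOf_dvd_iff_zpow_eq_one.2 h1
          rw [hm] at this
          exact_mod_cast this
        by_contra hnd
        have hcop : IsCoprime ((p : ℤ) ^ m) (i - 1) :=
          (((Nat.prime_iff_prime_int.1 hp).coprime_iff_not_dvd).2 hnd).pow_left
        have h3 : (p : ℤ) ^ m ∣ j := hcop.dvd_of_dvd_mul_right h2
        refine hx1 ?_
        rw [← hj', ← orderOf_dvd_iff_zpow_eq_one, hm]
        exact_mod_cast h3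
      have hpow : ∀ k : ℕ, b ^ k * u * (b ^ k)⁻¹ = u ^ (i ^ k) := by
        intro k
        induction k with
        | zero => simp
        | succ k ih =>
          rw [pow_succ' b, mul_inv_rev, show b * b ^ k * u * ((b ^ k)⁻¹ * b⁻¹) =
            b * (b ^ k * u * (b ^ k)⁻¹) * b⁻¹ by group, ih, ← conj_zpow, ← hi', ← zpow_mul, pow_succ']
      have h4 : u ^ (i ^ p ^ m) = u := by
        have h5 : (p : ℤ) ^ (m + 1) ∣ i ^ p ^ m - 1 ^ p ^ m := dvd_sub_pow_of_dvd_sub (by simpa using hd) m
        rw [one_pow] at h5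
        have h6 : ((orderOf u : ℕ) : ℤ) ∣ i ^ p ^ m - 1 := by
          rw [hm]; push_cast
          exact (pow_dvd_pow (p : ℤ) (Nat.le_succ m)).trans h5
        have h7 : u ^ (i ^ p ^ m - 1) = 1 := orderOf_dvd_iff_zpow_eq_one.1 h6
        rw [zpow_sub, zpow_one, mul_inv_eq_one] at h7
        exact h7
      have hbu : Commute b u := by
        have h8 := hpow (p ^ m)
        rw [h4] at h8
        have h9 : Commute (b ^ p ^ m) u := mul_inv_eq_iff_eq_mul.1 h8
        obtain ⟨l, hl⟩ := exists_pow_eq_self_of_coprime (x := b) (n := p ^ m) (hbo.pow_right m).symm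
        rw [← hl]
        exact h9.pow_left l
      rw [Subgroup.mem_centralizer_iff]
      intro z hz
      obtain ⟨l, hl⟩ := Subgroup.mem_zpowers_iff.1 (hu ⟨z, hz⟩)
      have hl' : u ^ l = z := congrArg Subtype.val hl
      rw [← hab', ← mul_assoc, hab z hz a haP, mul_assoc, ← hl', ← (hbu.zpow_right l).eq, mul_assoc]
    · exact Subgroup.centralizer_le (Set.singleton_subset_iff.2 hxP)
  · intro hC g hg
    rw [Subgroup.eq_bot_iff_forall]
    intro x hx
    by_contra hx1
    obtain ⟨hxP, hxg⟩ := Subgroup.mem_inf.1 hx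
    rw [Subgroup.mem_pointwise_smul_iff_inv_smul_mem] at hxg
    refine hg ?_
    have hle : (MulAut.conj g • (P : Subgroup G)) ≤ Subgroup.centralizer ((P : Subgroup G) : Set G) := by
      rw [← hC x hxP hx1]
      intro w hw
      rw [Subgroup.mem_pointwise_smul_iff_inv_smul_mem] at hw
      have h1 : (g⁻¹ * x * g) * (g⁻¹ * w * g) = (g⁻¹ * w * g) * (g⁻¹ * x * g) := by
        refine hab _ ?_ _ ?_
        · simpa [MulAut.smul_def, mul_assoc] using hxg
        · simpa [MulAut.smul_def, mul_assoc] using hw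
      rw [Subgroup.mem_centralizer_iff]
      intro z hz
      rw [Set.mem_singleton_iff.1 hz]
      calc x * w = g * ((g⁻¹ * x * g) * (g⁻¹ * w * g)) * g⁻¹ := by group
        _ = g * ((g⁻¹ * w * g) * (g⁻¹ * x * g)) * g⁻¹ := by rw [h1]
        _ = w * x := by group
    have hQp : IsPGroup p ↥(MulAut.conj g • (P : Subgroup G)) :=
      P.isPGroup'.of_equiv (Subgroup.equivSMul (MulAut.conj g) (P : Subgroup G))
    have hsup : IsPGroup p ↥((MulAut.conj g • (P : Subgroup G)) ⊔ (P : Subgroup G)) :=
      hQp.to_sup_of_normal_right' P.isPGroup' (hle.trans (Subgroup.centralizer_le_normalizer _))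
    have hle2 : (MulAut.conj g • (P : Subgroup G)) ≤ (P : Subgroup G) := by
      conv_rhs => rw [← P.is_maximal' hsup le_sup_right]
      exact le_sup_left
    have heq : (MulAut.conj g • (P : Subgroup G)) = (P : Subgroup G) :=
      Subgroup.eq_of_le_of_card_ge hle2
        (Nat.card_congr (Subgroup.equivSMul (MulAut.conj g) (P : Subgroup G)).toEquiv).le
    rw [Subgroup.mem_normalizer_iff]
    intro w
    conv_rhs => rw [← heq, Subgroup.mem_pointwise_smul_iff_inv_smul_mem]
    simp [MulAut.smul_def, mul_assoc]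

end Cfsg.Agent.S3985
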