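import Cfsg.Statements.S3986
import Cfsg.Agent.Lib.Solvable.Fitting
import Mathlib.GroupTheory.SchurZassenhaus
import Mathlib.Data.Int.GCD

set_option autoImplicit false
set_option linter.style.haveILetI false

set_option autoImplicit false
open Cfsg

namespace Cfsg.Agent.S3986

/-- Let p be a prime and G a finite group. Then some Sylow p-subgroup of G is a direct factor of G (it is normal and has a normal complement) if and only if every element of p-power order commutes with every element whose order is a power of a prime other than p. -/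
theorem result {G : Type*} [Group G] [Finite G] (p : ℕ) [Fact p.Prime] : (∃ (P : Sylow p G) (K : Subgroup G), (P : Subgroup G).Normal ∧ K.Normal ∧ (P : Subgroup G) ⊓ K = ⊥ ∧ (P : Subgroup G) ⊔ K = ⊤) ↔ ∀ x y : G, (∃ a : ℕ, orderOf x = p ^ a) → (∃ q b : ℕ, q.Prime ∧ q ≠ p ∧ orderOf y = q ^ b) → x * y = y * x := by
  classical
  have hp : p.Prime := Fact.out
  constructor
  · rintro ⟨P, K, hPn, hKn, hPK, hsup⟩ x y ⟨a, ha⟩ ⟨q, b, hq, hqp, hb⟩
    have hdis : Disjoint (P : Subgroup G) K := disjoint_iff.2 hPK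
    have hxP : x ∈ (P : Subgroup G) := by
      obtain ⟨R, hR⟩ := (IsPGroup.of_card (n := a) (by rw [Nat.card_zpowers, ha]) :
        IsPGroup p (Subgroup.zpowers x)).exists_le_sylow
      rw [show P = R from Subsingleton.elim (h := @Unique.instSubsingleton _ (Sylow.unique_of_normal P hPn)) P R]
      exact hR (Subgroup.mem_zpowers x)
    obtain ⟨u, hu, k, hk, hy⟩ := Subgroup.mem_sup_of_normal_left.1 (hsup ▸ Subgroup.mem_top y)
    have huk : Commute u k := Subgroup.commute_of_normal_of_disjoint _ _ hPn hKn hdis u k hu hk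
    have hpow : y ^ q ^ b = 1 := hb ▸ pow_orderOf_eq_one y
    rw [← hy, huk.mul_pow] at hpow
    have hu1 : u ^ q ^ b = 1 := by
      refine (Subgroup.disjoint_def.1 hdis) (pow_mem hu _) ?_
      rw [eq_inv_of_mul_eq_one_left hpow]
      exact K.inv_mem (pow_mem hk _)
    have hu2 : u = 1 := by
      obtain ⟨i, hi⟩ := P.isPGroup' ⟨u, hu⟩
      have hi' : u ^ p ^ i = 1 := by simpa using congrArg Subtype.val hi
      have h := pow_gcd_eq_one.2 ⟨hu1, hi'⟩
      rwa [Nat.Coprime.gcd_eq_one (((Nat.coprime_primes hq hp).2 hqp).pow b i), pow_one] at h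
    rw [← hy, hu2, one_mul]
    exact Subgroup.commute_of_normal_of_disjoint _ _ hPn hKn hdis x k hxP hk
  · intro h
    obtain ⟨P⟩ : Nonempty (Sylow p G) := inferInstance
    have hcent : ∀ (q : ℕ) [Fact q.Prime], q ≠ p → ∀ (y : G) (j : ℕ), y ^ q ^ j = 1 →
        y ∈ Subgroup.centralizer ((P : Subgroup G) : Set G) := by
      intro q hq hqp y j hy
      rw [Subgroup.mem_centralizer_iff]
      intro x hx
      obtain ⟨i, hi⟩ := IsPGroup.iff_orderOf.1 P.isPGroup' ⟨x, hx⟩
      obtain ⟨b, -, hb⟩ := (Nat.dvd_prime_pow hq.out).1 (orderOf_dvd_of_pow_eq_one hy)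
      exact h x y ⟨i, by rw [← hi, Subgroup.orderOf_mk]⟩ ⟨q, b, hq.out, hqp, hb⟩
    have hPn : (P : Subgroup G).Normal := by
      rw [← Subgroup.normalizer_eq_top_iff]
      refine Cfsg.Agent.FittingCores.eq_top_of_forall_sylow_le fun q hq => ?_
      haveI := Fact.mk hq
      by_cases hqp : q = p
      · subst hqp; exact ⟨P, Subgroup.le_normalizer⟩
      · obtain ⟨S⟩ : Nonempty (Sylow q G) := inferInstance
        refine ⟨S, fun y hy => Subgroup.centralizer_le_normalizer _ ?_⟩
        obtain ⟨j, hj⟩ := S.isPGroup' ⟨y, hy⟩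
        exact hcent q hqp y j (by simpa using congrArg Subtype.val hj)
    haveI := hPn
    have hcopP : Nat.Coprime (Nat.card (P : Subgroup G)) (P : Subgroup G).index := by
      obtain ⟨n, hn⟩ := IsPGroup.iff_card.1 P.isPGroup'
      rw [hn]
      exact (hp.coprime_iff_not_dvd.2 (Sylow.not_dvd_index P)).pow_left _
    obtain ⟨K, hK⟩ := Subgroup.exists_right_complement'_of_coprime hcopP
    have hKc : K ≤ Subgroup.centralizer ((P : Subgroup G) : Set G) := by
      rw [← Subgroup.subgroupOf_eq_top]
      refine Cfsg.Agent.FittingCores.eq_top_of_forall_sylow_le fun q hq => ?_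
      haveI := Fact.mk hq
      obtain ⟨S⟩ : Nonempty (Sylow q K) := inferInstance
      refine ⟨S, fun y hy => ?_⟩
      rw [Subgroup.mem_subgroupOf]
      obtain ⟨j, hj⟩ := S.isPGroup' ⟨y, hy⟩
      have hj' : (y : G) ^ q ^ j = 1 := by simpa [Subtype.ext_iff] using hj
      by_cases hqp : q = p
      · subst hqp
        have hy1 : (y : G) = 1 := by
          have h1 : (y : G) ^ Nat.card K = 1 := by
            rw [← Subgroup.coe_pow, pow_card_eq_one', Subgroup.coe_one]
          have h2 := pow_gcd_eq_one.2 ⟨hj', h1⟩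
          rwa [← hK.symm.index_eq_card,
            Nat.Coprime.gcd_eq_one ((hp.coprime_iff_not_dvd.2 (Sylow.not_dvd_index P)).pow_left j),
            pow_one] at h2
        rw [hy1]; exact one_mem _
      · exact hcent q hqp _ j hj'
    refine ⟨P, K, hPn, ?_, hK.disjoint.eq_bot, hK.sup_eq_top⟩
    rw [← Subgroup.normalizer_eq_top_iff, eq_top_iff, ← hK.sup_eq_top]
    refine sup_le (fun x hx => Subgroup.centralizer_le_normalizer _ ?_) Subgroup.le_normalizer
    rw [Subgroup.mem_centralizer_iff]
    intro k hk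
    exact (Subgroup.mem_centralizer_iff.1 (hKc hk) x hx).symm

end Cfsg.Agent.S3986
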