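import Cfsg.Statements.S3987
import Cfsg.Agent.S3986
import Mathlib.GroupTheory.Index

set_option autoImplicit false
set_option linter.style.haveILetI false

set_option autoImplicit false
open Cfsg

namespace Cfsg.Agent.S3987

/-- Let p be a prime and G a finite group. Then some Sylow p-subgroup of G is a direct factor of G (normal with a normal complement) if and only if for every element x of p-power order and every element y whose order is a power of a prime other than p, the conjugacy class of x y has as many elements as the product of the sizes of the classes of x and of y. -/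
theorem result {G : Type*} [Group G] [Finite G] (p : ℕ) [Fact p.Prime] : (∃ (P : Sylow p G) (K : Subgroup G), (P : Subgroup G).Normal ∧ K.Normal ∧ (P : Subgroup G) ⊓ K = ⊥ ∧ (P : Subgroup G) ⊔ K = ⊤) ↔ ∀ x y : G, (∃ a : ℕ, orderOf x = p ^ a) → (∃ q b : ℕ, q.Prime ∧ q ≠ p ∧ orderOf y = q ^ b) → (Subgroup.centralizer ({x * y} : Set G)).index = (Subgroup.centralizer ({x} : Set G)).index * (Subgroup.centralizer ({y} : Set G)).index := by
  classical
  constructor
  · rintro ⟨P, K, hPn, hKn, hPK, hsup⟩ x y hx hy
    have hdis : Disjoint (P : Subgroup G) K := disjoint_iff.2 hPK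
    have hcomm : x * y = y * x := ((Cfsg.Agent.S3986.result p).1 ⟨P, K, hPn, hKn, hPK, hsup⟩) x y hx hy
    obtain ⟨a, ha⟩ := hx
    obtain ⟨q, b, hq, hqp, hb⟩ := hy
    have hxP : x ∈ (P : Subgroup G) := by
      obtain ⟨R, hR⟩ := (IsPGroup.of_card (n := a) (by rw [Nat.card_zpowers, ha]) :
        IsPGroup p (Subgroup.zpowers x)).exists_le_sylow
      rw [show P = R from Subsingleton.elim (h := @Unique.instSubsingleton _ (Sylow.unique_of_normal P hPn)) P R]
      exact hR (Subgroup.mem_zpowers x)
    set Cx := Subgroup.centralizer ({x} : Set G)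
    set Cy := Subgroup.centralizer ({y} : Set G)
    have hmem : ∀ c g : G, g ∈ Subgroup.centralizer ({c} : Set G) ↔ c * g = g * c := fun c g => by
      simp [Subgroup.mem_centralizer_iff]
    -- centraliser of the product
    have hxy : Subgroup.centralizer ({x * y} : Set G) = Cx ⊓ Cy := by
      ext g
      rw [Subgroup.mem_inf, hmem, hmem, hmem]
      constructor
      · intro hg
        have hc : Commute g (x * y) := hg.symm
        have hord : Nat.Coprime (orderOf x) (orderOf y) := by
          rw [ha, hb]; exact ((Nat.coprime_primes (Fact.out : p.Prime) hq).2 (Ne.symm hqp)).pow a b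
        have hx1 : Commute g x := by
          obtain ⟨m, hm⟩ := exists_pow_eq_self_of_coprime (x := x) (n := orderOf y) hord.symm
          rw [← hm]
          refine Commute.pow_right ?_ m
          have he : x ^ orderOf y = (x * y) ^ orderOf y := by
            rw [(show Commute x y from hcomm).mul_pow, pow_orderOf_eq_one, mul_one]
          rw [he]; exact hc.pow_right _
        refine ⟨hx1.eq.symm, ?_⟩
        have h2 := hc
        have h3 : Commute g (x⁻¹ * (x * y)) := hx1.inv_right.mul_right h2
        rw [inv_mul_cancel_left] at h3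
        exact h3.eq.symm
      · rintro ⟨h1, h2⟩
        exact ((show Commute g x from h1.symm).mul_right (show Commute g y from h2.symm)).eq.symm
    rw [hxy]
    have hKx : K ≤ Cx := fun k hk => (hmem x k).2
      (Subgroup.commute_of_normal_of_disjoint _ _ hPn hKn hdis x k hxP hk)
    have hPy : (P : Subgroup G) ≤ Cy := fun u hu => (hmem y u).2 (by
      obtain ⟨i, hi⟩ := IsPGroup.iff_orderOf.1 P.isPGroup' ⟨u, hu⟩
      exact ((Cfsg.Agent.S3986.result p).1 ⟨P, K, hPn, hKn, hPK, hsup⟩ u y
        ⟨i, by rw [← hi, Subgroup.orderOf_mk]⟩ ⟨q, b, hq, hqp, hb⟩).symm)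
    have htop : ∀ g : G, ∃ u ∈ Cy, ∃ k ∈ Cx, g = u * k := fun g => by
      obtain ⟨u, hu, k, hk, rfl⟩ := Subgroup.mem_sup_of_normal_left.1 (hsup ▸ Subgroup.mem_top g)
      exact ⟨u, hPy hu, k, hKx hk, rfl⟩
    -- `[G : Cx] = [Cy : Cx ⊓ Cy]`
    have h2 := Subgroup.relIndex_mul_index (inf_le_right : Cx ⊓ Cy ≤ Cy)
    rw [Subgroup.inf_relIndex_right] at h2
    rw [← h2]
    congr 1
    refine le_antisymm ?_ ?_
    · rw [← Subgroup.relIndex_top_right]
      exact Subgroup.relIndex_le_of_le_right le_top (by rw [Subgroup.relIndex_top_right]; exact Subgroup.index_ne_zero_of_finite)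
    · let f : Cy ⧸ Cx.subgroupOf Cy → G ⧸ Cx := Quotient.map' (fun u : Cy => (u : G)) (fun u v huv => by
        rw [QuotientGroup.leftRel_apply] at huv ⊢
        exact huv)
      refine Nat.card_le_card_of_surjective f fun c => ?_
      induction c using Quotient.inductionOn'
      rename_i g
      obtain ⟨u, hu, k, hk, rfl⟩ := htop g
      refine ⟨Quotient.mk'' ⟨u, hu⟩, Quotient.sound' (QuotientGroup.leftRel_apply.2 ?_)⟩
      rw [inv_mul_cancel_left]; exact hk
  · intro h
    refine (Cfsg.Agent.S3986.result p).2 fun x y hx hy => ?_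
    set Cx := Subgroup.centralizer ({x} : Set G)
    set Cy := Subgroup.centralizer ({y} : Set G)
    set C := Subgroup.centralizer ({x * y} : Set G)
    have hle : Cx ⊓ Cy ≤ C := by
      intro g hg
      obtain ⟨h1, h2⟩ := Subgroup.mem_inf.1 hg
      have h1' := Subgroup.mem_centralizer_iff.1 h1 x rfl
      have h2' := Subgroup.mem_centralizer_iff.1 h2 y rfl
      rw [Subgroup.mem_centralizer_iff]
      intro z hz
      rw [Set.mem_singleton_iff.1 hz, mul_assoc, h2', ← mul_assoc, h1', mul_assoc]
    have heq : Cx ⊓ Cy = C := by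
      refine Subgroup.eq_of_le_of_card_ge hle ?_
      have h1 := (Cx ⊓ Cy).card_mul_index
      have h2 := C.card_mul_index
      have h3 : (Cx ⊓ Cy).index ≤ C.index := (Subgroup.index_inf_le).trans (le_of_eq (h x y hx hy).symm)
      have h4 : 0 < (Cx ⊓ Cy).index := Nat.pos_of_ne_zero Subgroup.index_ne_zero_of_finite
      exact Nat.le_of_mul_le_mul_right ((Nat.mul_le_mul_left _ h3).trans (le_of_eq (h2.trans h1.symm))) h4
    have hmem : x * y ∈ Cx ⊓ Cy := by
      rw [heq, Subgroup.mem_centralizer_iff]
      intro z hz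
      rw [Set.mem_singleton_iff.1 hz]
    have h5 := Subgroup.mem_centralizer_iff.1 (Subgroup.mem_inf.1 hmem).1 x rfl
    rw [mul_assoc] at h5
    exact mul_left_cancel h5

end Cfsg.Agent.S3987
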