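import Cfsg.Statements.S3994
import Cfsg.Agent.Lib.FGStruct.Counting

set_option autoImplicit false
set_option linter.style.haveILetI false

set_option autoImplicit false
open Cfsg

namespace Cfsg.Agent.S3994

/-- Let G be a finite group and n a positive integer. The number of elements of G whose order is divisible by n is either 0 or divisible by the largest divisor of the order of G that is coprime to n. -/
theorem result {G : Type*} [Group G] [Finite G] (n : ℕ) (hn : 0 < n) :
    Nat.card {g : G // n ∣ orderOf g} = 0 ∨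
      (Nat.card G / Nat.gcd (Nat.card G) (n ^ Nat.card G)) ∣ Nat.card {g : G // n ∣ orderOf g} := by
  right
  have hG : Nat.card G ≠ 0 := Nat.card_pos.ne'
  have hd := Nat.gcd_dvd_left (Nat.card G) (n ^ Nat.card G)
  have h := Cfsg.Agent.Counting.dvd_card_dvd_orderOf n hn (Nat.card G) dvd_rfl
    (Nat.card G / Nat.gcd (Nat.card G) (n ^ Nat.card G)) (Nat.div_dvd_of_dvd hd) ?_
  · refine dvd_trans h (dvd_of_eq (Nat.card_congr (Equiv.subtypeEquivRight fun g => ?_)))
    simp [pow_card_eq_one']
  refine Nat.coprime_of_dvd fun p hp h1 h2 => ?_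
  -- the `p`-part of `|G|` is absorbed by `n ^ |G|`
  have hv : p ^ (Nat.card G).factorization p ∣ Nat.gcd (Nat.card G) (n ^ Nat.card G) := by
    refine Nat.dvd_gcd (Nat.ordProj_dvd _ _) ?_
    exact (Nat.pow_dvd_pow p (Nat.factorization_lt p hG).le).trans (pow_dvd_pow_of_dvd h2 _)
  have hbad : p ^ ((Nat.card G).factorization p + 1) ∣ Nat.card G := by
    calc p ^ ((Nat.card G).factorization p + 1) = p ^ (Nat.card G).factorization p * p := pow_succ _ _
      _ ∣ Nat.gcd (Nat.card G) (n ^ Nat.card G) * (Nat.card G / Nat.gcd (Nat.card G) (n ^ Nat.card G)) :=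
          Nat.mul_dvd_mul hv h1
      _ = Nat.card G := Nat.mul_div_cancel' hd
  have := (hp.pow_dvd_iff_le_factorization hG).1 hbad
  omega

end Cfsg.Agent.S3994
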