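import Cfsg.Statements.S3997
import Cfsg.Agent.Lib.FGStruct.SylowTower
import Mathlib.GroupTheory.Nilpotent

set_option autoImplicit false
set_option linter.style.haveILetI false

set_option autoImplicit false
open Cfsg

namespace Cfsg.Agent.S3997

/-- Let G and H be finite groups with the same order type: for every m they have the same number of elements of order m. If G is nilpotent then so is H. -/
theorem result {G H : Type*} [Group G] [Finite G] [Group H] [Finite H] (hT : (∀ m : ℕ, Nat.card {g : G // orderOf g = m} = Nat.card {h : H // orderOf h = m})) (hG : Group.IsNilpotent G) :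
    Group.IsNilpotent H := by
  obtain ⟨e, he⟩ := Cfsg.Agent.SylowTower.exists_equiv_of_orderType hT
  have hcard : Nat.card G = Nat.card H := Nat.card_congr e
  have hGs := (Group.isNilpotent_of_finite_tfae.out 0 3 (a := Group.IsNilpotent G)
    (b := ∀ (p : ℕ) (_hp : Fact p.Prime) (P : Sylow p G), (↑P : Subgroup G).Normal)).1 hG
  refine (Group.isNilpotent_of_finite_tfae.out 0 3 (a := Group.IsNilpotent H)
    (b := ∀ (p : ℕ) (_hp : Fact p.Prime) (P : Sylow p H), (↑P : Subgroup H).Normal)).2 ?_
  intro p hp P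
  obtain ⟨Q⟩ : Nonempty (Sylow p G) := inferInstance
  have hQn := hGs p hp Q
  set k := (Nat.card H).factorization p with hk
  have hQc : Nat.card (Q : Subgroup G) = p ^ k := by rw [Q.card_eq_multiplicity, hcard]
  have hPc : Nat.card (P : Subgroup H) = p ^ k := P.card_eq_multiplicity
  have hsetG : {g : G | g ^ p ^ k = 1} = ((Q : Subgroup G) : Set G) := by
    ext g
    refine ⟨fun hg => ?_, fun hg => ?_⟩
    · have hpg : IsPGroup p (Subgroup.zpowers g) :=
        IsPGroup.of_card_dvd_pow (n := k) (by rw [Nat.card_zpowers]; exact orderOf_dvd_of_pow_eq_one hg)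
      obtain ⟨R, hR⟩ := hpg.exists_le_sylow
      have hu := Sylow.unique_of_normal Q hQn
      rw [show Q = R from Subsingleton.elim (h := @Unique.instSubsingleton _ hu) Q R]
      exact hR (Subgroup.mem_zpowers g)
    · have := pow_card_eq_one' (G := (Q : Subgroup G)) (x := ⟨g, hg⟩)
      rw [hQc] at this
      exact congrArg Subtype.val this
  have hiff : ∀ g : G, (e g) ^ p ^ k = 1 ↔ g ^ p ^ k = 1 := fun g => by
    rw [← orderOf_dvd_iff_pow_eq_one, he, orderOf_dvd_iff_pow_eq_one]
  have hsetH : Nat.card {h : H | h ^ p ^ k = 1} = p ^ k := by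
    refine (Nat.card_congr (e.subtypeEquiv (p := fun g => g ∈ {g : G | g ^ p ^ k = 1})
      (q := fun h => h ∈ {h : H | h ^ p ^ k = 1}) fun g => (hiff g).symm)).symm.trans ?_
    exact (Nat.card_congr (Equiv.setCongr hsetG)).trans hQc
  have hsub : ((P : Subgroup H) : Set H) ⊆ {h : H | h ^ p ^ k = 1} := fun h hh => by
    have := pow_card_eq_one' (G := (P : Subgroup H)) (x := ⟨h, hh⟩)
    rw [hPc] at this
    exact congrArg Subtype.val this
  have heq : ((P : Subgroup H) : Set H) = {h : H | h ^ p ^ k = 1} := by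
    refine Set.eq_of_subset_of_ncard_le hsub ?_ (Set.toFinite _)
    rw [← Nat.card_coe_set_eq, ← Nat.card_coe_set_eq, hsetH]
    exact hPc.ge
  refine ⟨fun h hh g => ?_⟩
  have h1 : h ^ p ^ k = 1 := by rw [← SetLike.mem_coe, heq] at hh; exact hh
  show g * h * g⁻¹ ∈ ((P : Subgroup H) : Set H)
  rw [heq, Set.mem_setOf_eq, conj_pow, h1, mul_one, mul_inv_cancel]

end Cfsg.Agent.S3997
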