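import Cfsg.Statements.S4001
import Mathlib
import Cfsg.Agent.Lib.FGStruct.FrobeniusData
import Cfsg.Agent.Lib.FGStruct.CoprimeFixBound

set_option autoImplicit false
set_option linter.style.haveILetI false

namespace Cfsg.Agent.S4001

open Cfsg.Agent
open scoped Pointwise Classical

variable {G : Type*} [Group G] [Finite G]

lemma kernel_eq {C N : Subgroup G} (hC : Cfsg.IsFrobeniusComplement C)
    (h : Cfsg.frobeniusKernel C = (N : Set G)) : FrobData.FData N C := by
  obtain ⟨N₀, hd⟩ := FrobData.exists_data hC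
  have heq : (N₀ : Set G) = Cfsg.frobeniusKernel C := by
    ext x
    constructor
    · intro hx
      by_cases hx1 : x = 1
      · exact Or.inl hx1
      refine Or.inr fun g hg => hx1 ?_
      obtain ⟨a, ha, rfl⟩ := hg
      have haN : a ∈ N₀ := by
        have := hd.normal.conj_mem _ hx g⁻¹
        simpa [MulAut.conj_apply, mul_assoc] using this
      rw [hd.eq_one_of_mem haN ha]
      exact map_one _
    · rintro (rfl | hx)
      · exact N₀.one_mem
      · rcases hd.decomp x with hK | ⟨k, -, a, ha, -, rfl⟩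
        · exact hK
        · exact absurd ⟨a, ha, rfl⟩ (hx k)
  have : N₀ = N := SetLike.coe_injective (heq.trans h)
  exact this ▸ hd

lemma exists_central_of_dvd (hn : Group.IsNilpotent G) {p : ℕ} [hp : Fact p.Prime]
    (hd : p ∣ Nat.card G) : ∃ z ∈ Subgroup.center G, orderOf z = p := by
  obtain ⟨S⟩ := (inferInstance : Nonempty (Sylow p G))
  haveI : Nontrivial (S : Subgroup G) := Finite.one_lt_card_iff_nontrivial.1
    (lt_of_lt_of_le hp.out.one_lt (Nat.le_of_dvd Nat.card_pos (S.dvd_card_of_dvd_card hd)))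
  haveI := S.isPGroup'.center_nontrivial
  obtain ⟨k, hk⟩ := IsPGroup.iff_card.1 (S.isPGroup'.to_subgroup (Subgroup.center (S : Subgroup G)))
  obtain ⟨z, hz⟩ := exists_prime_orderOf_dvd_card' (G := Subgroup.center (S : Subgroup G)) p (by
    rw [hk]; exact dvd_pow_self p (by
      rintro rfl; exact absurd (hk.trans (pow_zero p)) Finite.one_lt_card.ne'))
  refine ⟨((z : (S : Subgroup G)) : G), ?_, by rw [Subgroup.orderOf_coe, Subgroup.orderOf_coe, hz]⟩
  rw [Subgroup.mem_center_iff]
  intro g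
  haveI := hn
  -- every Sylow subgroup centralises `z`
  have htop : Subgroup.centralizer ({((z : (S : Subgroup G)) : G)} : Set G) = ⊤ := by
    refine Subgroup.eq_top_of_card_eq _ (Nat.dvd_antisymm (Subgroup.card_subgroup_dvd_card _) ?_)
    rw [Nat.dvd_iff_prime_pow_dvd_dvd]
    intro r k hr hrk
    rcases Nat.eq_zero_or_pos k with rfl | _
    · rw [pow_zero]; exact one_dvd _
    haveI := Fact.mk hr
    obtain ⟨R⟩ := (inferInstance : Nonempty (Sylow r G))
    refine (R.pow_dvd_card_of_pow_dvd_card hrk).trans (Subgroup.card_dvd_of_le fun x hx => ?_)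
    rw [Subgroup.mem_centralizer_singleton_iff]
    by_cases hrp : r = p
    · subst hrp
      haveI := Sylow.unique_of_normal S (inferInstance : (S : Subgroup G).Normal)
      rw [Subsingleton.elim R S] at hx
      exact congrArg Subtype.val (Subgroup.mem_center_iff.1 z.2 ⟨x, hx⟩)
    · refine (Subgroup.commute_of_normal_of_disjoint (R : Subgroup G) (S : Subgroup G)
        (inferInstance : (R : Subgroup G).Normal)
        (inferInstance : (S : Subgroup G).Normal) ?_ x _ hx (z : (S : Subgroup G)).2).eq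
      exact IsPGroup.disjoint_of_ne r p hrp _ _ R.isPGroup' S.isPGroup'
  exact Subgroup.mem_centralizer_singleton_iff.1 (htop.ge (Subgroup.mem_top g))

lemma cyclic_of_odd_nilpotent (hn : Group.IsNilpotent G) (hab : AbCyc.AbCyclic G)
    (hodd : ¬ 2 ∣ Nat.card G) : IsCyclic G := by
  haveI := hn
  haveI : IsZGroup G := ⟨fun p hp P => by
    haveI := Fact.mk hp
    by_cases hpd : p ∣ Nat.card G
    · rcases AbCyc.structure_of_pGroup (hab.subgroup P) P.isPGroup' with h | ⟨h2, -⟩
      · exact h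
      · exact absurd (h2 ▸ hpd) hodd
    · haveI : Subsingleton (P : Subgroup G) := by
        rw [← Finite.card_le_one_iff_subsingleton, P.card_eq_multiplicity,
          Nat.factorization_eq_zero_of_not_dvd hpd, pow_zero]
      infer_instance⟩
  infer_instance

lemma exists_orderOf_dvd_card [IsCyclic G] {d : ℕ} (hd : d ∣ Nat.card G) : ∃ g : G, orderOf g = d := by
  obtain ⟨g, hg⟩ := IsCyclic.exists_generator (α := G)
  obtain ⟨e, he⟩ := hd
  have ho := orderOf_eq_card_of_forall_mem_zpowers hg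
  have he0 : e ≠ 0 := by rintro rfl; rw [Nat.mul_zero] at he; exact Nat.card_pos.ne' he
  refine ⟨g ^ e, ?_⟩
  rw [orderOf_pow_of_dvd he0 (ho ▸ he ▸ dvd_mul_left e d), ho, he,
    Nat.mul_div_cancel _ (Nat.pos_of_ne_zero he0)]

/-- An element of a Frobenius complement cannot act fixed-point-freely when the kernel does. -/
lemma fixed_point {V : Type*} [CommGroup V] [Finite V] {Q : Type*} [Group Q] [Finite Q]
    (φ : Q →* MulAut V) (N : Subgroup Q) [N.Normal] (y : Q) {q : ℕ} (hq : q.Prime) (hy : y ^ q = 1)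
    (hN : ∀ a ∈ N, a ≠ 1 → ∀ w, φ a w = w → w = 1)
    (hyN : ∀ a ∈ N, y * a = a * y → a = 1) (hyf : ∀ i, 0 < i → i < q → ∀ a ∈ N, y ^ i * a = a * y ^ i → a = 1)
    (hN1 : N ≠ ⊥) (hyV : ∀ w, φ y w = w → w = 1) (v : V) : v ^ Nat.card N = 1 := by
  haveI := Fintype.ofFinite N
  have hTN : ∀ w : V, ∏ a : N, φ (a : Q) w = 1 := by
    intro w
    obtain ⟨⟨b, hb⟩, hb1⟩ := N.ne_bot_iff_exists_ne_one.1 hN1
    refine hN b hb (fun h => hb1 (Subtype.ext h)) _ ?_
    rw [map_prod]
    refine Fintype.prod_equiv (Equiv.mulLeft ⟨b, hb⟩) _ _ fun a => ?_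
    rw [Equiv.coe_mulLeft, Subgroup.coe_mul, map_mul, MulAut.mul_apply]
  have hTy : ∀ w : V, ∏ i ∈ Finset.range q, φ (y ^ i) w = 1 := by
    intro w
    refine hyV _ ?_
    obtain ⟨j, rfl⟩ : ∃ j, q = j + 1 := ⟨q - 1, by have := hq.one_le; omega⟩
    rw [map_prod, Finset.prod_range_succ' (fun i => φ (y ^ i) w), Finset.prod_range_succ]
    congr 1
    · refine Finset.prod_congr rfl fun i _ => ?_
      rw [pow_succ' y i, map_mul, MulAut.mul_apply]
    · rw [← MulAut.mul_apply, ← map_mul, ← pow_succ', hy, pow_zero]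
  obtain ⟨j, rfl⟩ : ∃ j, q = j + 1 := ⟨q - 1, by have := hq.one_le; omega⟩
  -- the coset of `y ^ i`, written by conjugates
  have hA : ∀ i ∈ Finset.range j, ∏ a : N, φ ((a : Q) * y ^ (i + 1) * (a : Q)⁻¹) v =
      ∏ a : N, φ ((a : Q) * y ^ (i + 1)) v := by
    intro i hi
    rw [Finset.mem_range] at hi
    refine Fintype.prod_bijective
      (fun a : N => (⟨(a : Q) * (y ^ (i + 1) * (a : Q)⁻¹ * (y ^ (i + 1))⁻¹),
        N.mul_mem a.2 (Subgroup.Normal.conj_mem inferInstance _ (N.inv_mem a.2) _)⟩ : N))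
      (Finite.injective_iff_bijective.1 fun a a' h => ?_) _ _ fun a => ?_
    · have h' : (a : Q) * (y ^ (i + 1) * (a : Q)⁻¹ * (y ^ (i + 1))⁻¹) =
          (a' : Q) * (y ^ (i + 1) * (a' : Q)⁻¹ * (y ^ (i + 1))⁻¹) := congrArg Subtype.val h
      have hc : y ^ (i + 1) * ((a' : Q)⁻¹ * a) = ((a' : Q)⁻¹ * a) * y ^ (i + 1) := by
        generalize y ^ (i + 1) = w at h' ⊢
        calc w * ((a' : Q)⁻¹ * (a : Q))
            = (a' : Q)⁻¹ * ((a' : Q) * (w * (a' : Q)⁻¹ * w⁻¹)) * w * (a : Q) := by group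
          _ = (a' : Q)⁻¹ * ((a : Q) * (w * (a : Q)⁻¹ * w⁻¹)) * w * (a : Q) := by rw [h']
          _ = ((a' : Q)⁻¹ * (a : Q)) * w := by group
      exact Subtype.ext (inv_mul_eq_one.1 (hyf (i + 1) (Nat.succ_pos i) (by omega) _
        (N.mul_mem (N.inv_mem a'.2) a.2) hc)).symm
    · congr 2
      show (a : Q) * y ^ (i + 1) * (a : Q)⁻¹ =
        (a : Q) * (y ^ (i + 1) * (a : Q)⁻¹ * (y ^ (i + 1))⁻¹) * y ^ (i + 1)
      group
  have e1 : ∏ i ∈ Finset.range (j + 1), ∏ a : N, φ ((a : Q) * y ^ i * (a : Q)⁻¹) v = 1 := by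
    rw [Finset.prod_comm]
    refine Finset.prod_eq_one fun a _ => ?_
    simp only [map_mul, MulAut.mul_apply]
    rw [← map_prod, hTy, map_one]
  have e2 : ∏ i ∈ Finset.range (j + 1), ∏ a : N, φ ((a : Q) * y ^ i) v = 1 := by
    rw [Finset.prod_comm]
    simp only [map_mul, MulAut.mul_apply]
    simp_rw [← map_prod, hTy, map_one]
    exact Finset.prod_const_one
  rw [Finset.prod_range_succ', pow_zero] at e1 e2
  simp only [mul_one, mul_inv_cancel, map_one, MulAut.one_apply] at e1 e2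
  rw [Finset.prod_congr rfl hA, Finset.prod_const, Finset.card_univ, ← Nat.card_eq_fintype_card] at e1
  rw [hTN, mul_one] at e2
  rwa [e2, one_mul] at e1

theorem main (H K : Subgroup G) [hHn : H.Normal] [hKn : K.Normal] (hlt : H < K)
    (hK : ∃ C : Subgroup ↥K, Cfsg.IsFrobeniusComplement C ∧ Cfsg.frobeniusKernel C = (H.subgroupOf K : Set ↥K))
    (hGH : ∃ C : Subgroup (G ⧸ H), Cfsg.IsFrobeniusComplement C ∧ Cfsg.frobeniusKernel C = (K.map (QuotientGroup.mk' H) : Set (G ⧸ H))) :
    Group.IsSolvable G ∧ Odd (Nat.card (↥K ⧸ H.subgroupOf K)) ∧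
      Nat.Coprime (Nat.card (↥K ⧸ H.subgroupOf K)) (Nat.card ↥H * Nat.card (G ⧸ K)) ∧ IsCyclic (G ⧸ K) ∧
      ∀ p q : ℕ, p.Prime → q.Prime → p ≠ q → p ∣ Nat.card G → q ∣ Nat.card G →
        ((∃ g : G, orderOf g = p * q) ↔ (p ∣ Nat.card (↥K ⧸ H.subgroupOf K) ↔ q ∣ Nat.card (↥K ⧸ H.subgroupOf K))) := by
  obtain ⟨C1, hC1, hk1⟩ := hK
  obtain ⟨C2, hC2, hk2⟩ := hGH
  have d1 := kernel_eq hC1 hk1
  have d2 := kernel_eq hC2 hk2
  set f := QuotientGroup.mk' H with hf
  set B := K.map f with hBdef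
  have hfs := QuotientGroup.mk'_surjective H
  -- the complement maps isomorphically onto `B`
  let g1 : C1 →* B := (f.subgroupMap K).comp C1.subtype
  have hg1inj : Function.Injective g1 := by
    rw [← MonoidHom.ker_eq_bot_iff, eq_bot_iff]
    intro x hx
    have h1 : f ((x : K) : G) = 1 := congrArg Subtype.val hx
    exact Subgroup.mem_bot.2 (Subtype.ext (d1.eq_one_of_mem ((QuotientGroup.eq_one_iff ((x : K) : G)).1 h1) x.2))
  have hcKH : Nat.card (↥K ⧸ H.subgroupOf K) = Nat.card C1 :=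
    (d1.compl.symm.index_eq_card)
  have hBC : Nat.card B = Nat.card C1 := by
    rw [← hcKH]
    refine (Nat.eq_of_mul_eq_mul_left (Nat.card_pos (α := H.subgroupOf K)) ?_).symm
    rw [← Subgroup.index_eq_card, Subgroup.card_mul_index, CoprimeFixBound.card_inf_eq_mul f K,
      QuotientGroup.ker_mk', inf_eq_left.2 hlt.le, Nat.card_congr (Subgroup.subgroupOfEquivOfLe hlt.le).toEquiv]
  have hg1 : Function.Bijective g1 :=
    (Nat.bijective_iff_injective_and_card g1).2 ⟨hg1inj, hBC.symm⟩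
  let e1 : C1 ≃* B := MulEquiv.ofBijective g1 hg1
  haveI hBn : Group.IsNilpotent B := d2.isNilpotent
  have hBab : AbCyc.AbCyclic B := by
    intro A hA
    haveI := hA
    haveI : IsMulCommutative (A.map e1.symm.toMonoidHom) := Subgroup.map_isMulCommutative A _
    have h := d1.abCyclic (A.map e1.symm.toMonoidHom) inferInstance
    exact (A.equivMapOfInjective e1.symm.toMonoidHom e1.symm.injective).symm.isCyclic.1 h
  have hodd : ¬ 2 ∣ Nat.card B := by
    intro h2
    haveI := Fact.mk Nat.prime_two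
    obtain ⟨z, hz, hzo⟩ := exists_central_of_dvd hBn h2
    obtain ⟨⟨a, ha⟩, ha1⟩ := C2.ne_bot_iff_exists_ne_one.1 d2.hne
    haveI := d2.normal
    set w : B := MulAut.conjNormal a z with hw
    have hwo : orderOf w = 2 := by rw [hw, MulEquiv.orderOf_eq, hzo]
    have hwz : w ∈ Subgroup.zpowers z := AbCyc.mem_zpowers_of_commute hBab
      (Subgroup.mem_center_iff.1 hz w).symm Nat.prime_two hzo hwo
    obtain ⟨i, hi⟩ := hwz
    have hwz' : w = z := by
      rcases Int.even_or_odd i with ⟨l, rfl⟩ | ⟨l, rfl⟩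
      · exfalso
        simp only at hi
        rw [← two_mul, zpow_mul, zpow_two, ← pow_two, ← hzo, pow_orderOf_eq_one, one_zpow] at hi
        rw [← hi, orderOf_one] at hwo
        exact absurd hwo (by norm_num)
      · rw [← hi]
        show z ^ (2 * l + 1) = z
        rw [zpow_add, zpow_mul, zpow_two, ← pow_two, ← hzo, pow_orderOf_eq_one, one_zpow, one_mul, zpow_one]
    have hc : a * (z : G ⧸ H) = (z : G ⧸ H) * a := by
      have h := congrArg Subtype.val hwz'
      rw [hw, MulAut.conjNormal_apply] at h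
      exact mul_inv_eq_iff_eq_mul.1 h
    have := d2.fpf ha (fun h => ha1 (Subtype.ext h)) z.2 hc
    rw [← Subgroup.orderOf_coe, this, orderOf_one] at hzo
    exact absurd hzo (by norm_num)
  haveI hBcyc : IsCyclic B := cyclic_of_odd_nilpotent hBn hBab hodd
  haveI hC1cyc : IsCyclic C1 := isCyclic_of_injective e1.toMonoidHom e1.injective
  haveI hC2cyc : IsCyclic C2 := by
    haveI := d2.normal
    let ψ : C2 →* MulAut B := (MulAut.conjNormal (H := B)).comp C2.subtype
    have hψ : Function.Injective ψ := by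
      rw [← MonoidHom.ker_eq_bot_iff, eq_bot_iff]
      intro x hx
      by_contra hx1
      obtain ⟨⟨b, hb⟩, hb1⟩ := B.ne_bot_iff_exists_ne_one.1 d2.kne
      have h := congrArg Subtype.val (DFunLike.congr_fun hx (⟨b, hb⟩ : B))
      have hc : (x : G ⧸ H) * b = b * (x : G ⧸ H) := mul_inv_eq_iff_eq_mul.1
        (show (x : G ⧸ H) * b * (x : G ⧸ H)⁻¹ = b by simpa [ψ, MulAut.conjNormal_apply] using h)
      exact hb1 (Subtype.ext (d2.fpf x.2 (fun e => hx1 (Subgroup.mem_bot.2 (Subtype.ext e))) hb hc))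
    have hcomm : ∀ a b : C2, a * b = b * a := fun a b => hψ (by
      rw [map_mul, map_mul]
      exact (IsCyclic.mulAutMulEquiv B).injective (by rw [map_mul, map_mul, mul_comm]))
    haveI : IsMulCommutative (⊤ : Subgroup C2) :=
      ⟨⟨fun a b => Subtype.ext (hcomm a b)⟩⟩
    have h := d2.abCyclic ⊤ inferInstance
    exact Subgroup.topEquiv.isCyclic.1 h
  -- the map from the second complement onto `G ⧸ K`
  let π : G ⧸ H →* G ⧸ K := QuotientGroup.map H K (MonoidHom.id G) (fun x hx => hlt.le hx)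
  have hπs : Function.Surjective (π.comp C2.subtype) := by
    intro y
    obtain ⟨g, rfl⟩ := QuotientGroup.mk'_surjective K y
    obtain ⟨⟨⟨k, hk⟩, c⟩, hkc⟩ := d2.compl.2 (f g)
    refine ⟨c, ?_⟩
    obtain ⟨k₀, hk₀, rfl⟩ := hk
    show π (c : G ⧸ H) = π (f g)
    rw [← hkc, map_mul, show π (f k₀) = 1 from (QuotientGroup.eq_one_iff k₀).2 hk₀, one_mul]
  haveI hGK : IsCyclic (G ⧸ K) := isCyclic_of_surjective _ hπs
  haveI hGHsol : Group.IsSolvable (G ⧸ H) :=
    d2.isSolvable_iff.2 (Group.isSolvable_of_comm fun a b => by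
      haveI : IsMulCommutative C2 := inferInstance
      exact mul_comm' a b)
  haveI hHnil : Group.IsNilpotent H := by
    haveI := d1.isNilpotent
    exact Group.nilpotent_of_mulEquiv (Subgroup.subgroupOfEquivOfLe hlt.le)
  have hGsol : Group.IsSolvable G :=
    Group.isSolvable_of_ker_le_range H.subtype f (by rw [QuotientGroup.ker_mk', Subgroup.range_subtype])
  have hcop1 : (Nat.card C1).Coprime (Nat.card H) := by
    have := d1.coprime.symm
    rwa [Nat.card_congr (Subgroup.subgroupOfEquivOfLe hlt.le).toEquiv] at this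
  have hcGK : Nat.card (G ⧸ K) ∣ Nat.card C2 := Subgroup.card_dvd_of_surjective _ hπs
  have hcop2 : (Nat.card C1).Coprime (Nat.card C2) := hBC ▸ d2.coprime
  refine ⟨hGsol, ?_, ?_, hGK, ?_⟩
  · rw [hcKH, ← hBC, ← Nat.not_even_iff_odd, even_iff_two_dvd]; exact hodd
  · rw [hcKH]
    exact hcop1.mul_right (hcop2.coprime_dvd_right hcGK)
  intro p q hp hq hpq hpG hqG
  rw [hcKH]
  haveI := Fact.mk hp
  haveI := Fact.mk hq
  have hGcard : Nat.card G = Nat.card H * (Nat.card C1 * Nat.card C2) := by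
    rw [← hBC, d2.compl.card_mul_card, ← Subgroup.card_mul_index H]
    rfl
  -- elements of the two sides do not commute
  have hcross : ∀ p q : ℕ, p.Prime → q.Prime → p ∣ Nat.card C1 → ¬ q ∣ Nat.card C1 →
      ∀ x y : G, orderOf x = p → orderOf y = q → x * y = y * x → False := by
    intro p q hp hq hpb hqb x y hxo hyo hxy
    have hpH : ¬ p ∣ Nat.card H := fun h => hp.not_dvd_one (hcop1 ▸ Nat.dvd_gcd hpb h)
    have hxH : x ∉ H := fun h => hpH (hxo ▸ Subgroup.orderOf_dvd_natCard H h)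
    have hxB : f x ∈ B := by
      rw [d2.mem_iff, hBC]
      exact (orderOf_map_dvd f x).trans (hxo ▸ hpb)
    have hxK : x ∈ K := by
      obtain ⟨k, hk, hke⟩ := hxB
      have h1 : k⁻¹ * x ∈ H := by
        rw [← QuotientGroup.eq_one_iff]
        show f (k⁻¹ * x) = 1
        rw [map_mul, map_inv, hke, inv_mul_cancel]
      simpa using K.mul_mem hk (hlt.le h1)
    have hyB : f y ∈ B := by
      rcases d2.decomp (f y) with h | ⟨k, hk, a, ha, ha1, hye⟩
      · exact h
      exfalso
      haveI := d2.normal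
      have hc : a * (k⁻¹ * f x * k) = (k⁻¹ * f x * k) * a := by
        have h : k * a * k⁻¹ * f x = f x * (k * a * k⁻¹) := by
          rw [← hye, ← map_mul, ← map_mul, hxy]
        calc a * (k⁻¹ * f x * k) = k⁻¹ * (k * a * k⁻¹ * f x) * k := by group
          _ = k⁻¹ * (f x * (k * a * k⁻¹)) * k := by rw [h]
          _ = (k⁻¹ * f x * k) * a := by group
      have h1 := d2.fpf ha ha1 (B.mul_mem (B.mul_mem (B.inv_mem hk) hxB) hk) hc
      have h2 : f x = k * 1 * k⁻¹ := by rw [← h1]; group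
      rw [mul_one, mul_inv_cancel] at h2
      exact hxH ((QuotientGroup.eq_one_iff x).1 h2)
    have hyK : y ∈ K := by
      obtain ⟨k, hk, hke⟩ := hyB
      have h1 : k⁻¹ * y ∈ H := by
        rw [← QuotientGroup.eq_one_iff]
        show f (k⁻¹ * y) = 1
        rw [map_mul, map_inv, hke, inv_mul_cancel]
      simpa using K.mul_mem hk (hlt.le h1)
    have hyH : (⟨y, hyK⟩ : K) ∈ H.subgroupOf K := by
      rcases d1.orderOf_dvd ⟨y, hyK⟩ with h | h
      · exact (d1.mem_iff _).2 h
      · rw [Subgroup.orderOf_mk, hyo] at h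
        exact absurd h hqb
    rcases d1.decomp ⟨x, hxK⟩ with h | ⟨k, hk, a, ha, ha1, hxe⟩
    · exact hxH h
    haveI := d1.normal
    have hcy : (⟨x, hxK⟩ : K) * ⟨y, hyK⟩ = ⟨y, hyK⟩ * ⟨x, hxK⟩ := Subtype.ext hxy
    have hc : a * (k⁻¹ * ⟨y, hyK⟩ * k) = (k⁻¹ * ⟨y, hyK⟩ * k) * a := by
      rw [hxe] at hcy
      calc a * (k⁻¹ * ⟨y, hyK⟩ * k) = k⁻¹ * (k * a * k⁻¹ * ⟨y, hyK⟩) * k := by group
        _ = k⁻¹ * (⟨y, hyK⟩ * (k * a * k⁻¹)) * k := by rw [hcy]
        _ = (k⁻¹ * ⟨y, hyK⟩ * k) * a := by group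
    have h1 := d1.fpf ha ha1 ((H.subgroupOf K).mul_mem ((H.subgroupOf K).mul_mem
      ((H.subgroupOf K).inv_mem hk) hyH) hk) hc
    have h2 : (⟨y, hyK⟩ : K) = k * 1 * k⁻¹ := by rw [← h1]; group
    rw [mul_one, mul_inv_cancel] at h2
    rw [show y = 1 from congrArg Subtype.val h2, orderOf_one] at hyo
    exact hq.ne_one hyo.symm
  constructor
  · rintro ⟨g, hg⟩
    have hgp : orderOf (g ^ q) = p := by
      rw [orderOf_pow_of_dvd hq.ne_zero (hg ▸ dvd_mul_left q p), hg, Nat.mul_div_cancel _ hq.pos]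
    have hgq : orderOf (g ^ p) = q := by
      rw [orderOf_pow_of_dvd hp.ne_zero (hg ▸ dvd_mul_right p q), hg, Nat.mul_div_cancel_left _ hp.pos]
    have hc := ((Commute.refl g).pow_pow q p).eq
    exact ⟨fun h => by_contra fun h' => hcross p q hp hq h h' _ _ hgp hgq hc,
      fun h => by_contra fun h' => hcross q p hq hp h h' _ _ hgq hgp hc.symm⟩
  intro hiff
  have hlift : ∀ u : G ⧸ H, ∀ d : ℕ, orderOf u = d → ∃ g : G, orderOf g = d := by
    intro u d hu
    obtain ⟨g, rfl⟩ := hfs u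
    obtain ⟨e, he⟩ := hu ▸ orderOf_map_dvd f g
    have hpos : 0 < orderOf g := orderOf_pos g
    have he0 : e ≠ 0 := by rintro rfl; omega
    exact ⟨g ^ e, by rw [orderOf_pow_of_dvd he0 (he ▸ dvd_mul_left e d), he,
      Nat.mul_div_cancel _ (Nat.pos_of_ne_zero he0)]⟩
  by_cases hpb : p ∣ Nat.card C1
  · obtain ⟨c, hc⟩ := exists_orderOf_dvd_card (G := C1)
      (((Nat.coprime_primes hp hq).2 hpq).mul_dvd_of_dvd_of_dvd hpb (hiff.1 hpb))
    exact ⟨((c : K) : G), by rw [Subgroup.orderOf_coe, Subgroup.orderOf_coe, hc]⟩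
  have hqb : ¬ q ∣ Nat.card C1 := fun h => hpb (hiff.2 h)
  -- mixed: `p` in the kernel, `q` on top
  have hmix : ∀ p q : ℕ, p.Prime → q.Prime → p ≠ q → p ∣ Nat.card H → ¬ q ∣ Nat.card H →
      q ∣ Nat.card C2 → ¬ p ∣ Nat.card C1 → ∃ g : G, orderOf g = p * q := by
    intro p q hp hq hpq hpH hqH hqC hpb
    haveI := Fact.mk hp
    haveI := Fact.mk hq
    set Z := (Subgroup.center H).map H.subtype with hZ
    haveI hZn : Z.Normal := FittingCores.normal_map_of_characteristic hHn Subgroup.centerCharacteristic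
    haveI hZc : IsMulCommutative Z := Subgroup.map_isMulCommutative _ _
    letI : CommGroup Z := { (inferInstance : Group Z) with mul_comm := fun u v => mul_comm' u v }
    let V : Subgroup Z := (powMonoidHom p : Z →* Z).ker
    haveI : V.Characteristic := Subgroup.characteristic_iff_le_comap.2 fun φ x hx => by
      show (φ x) ^ p = 1
      rw [← map_pow, show x ^ p = 1 from hx, map_one]
    let ψ : G →* MulAut V :=
      { toFun := fun g =>
          { toFun := fun v => ⟨MulAut.conjNormal g (v : Z), by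
              show (MulAut.conjNormal g (v : Z)) ^ p = 1
              rw [← map_pow, show (v : Z) ^ p = 1 from v.2, map_one]⟩
            invFun := fun v => ⟨(MulAut.conjNormal g).symm (v : Z), by
              show ((MulAut.conjNormal g).symm (v : Z)) ^ p = 1
              rw [← map_pow, show (v : Z) ^ p = 1 from v.2, map_one]⟩
            left_inv := fun v => Subtype.ext (MulEquiv.symm_apply_apply _ _)
            right_inv := fun v => Subtype.ext (MulEquiv.apply_symm_apply _ _)
            map_mul' := fun v w => Subtype.ext (map_mul (MulAut.conjNormal g) (v : Z) (w : Z)) }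
        map_one' := MulEquiv.ext fun v => Subtype.ext (by simp)
        map_mul' := fun g g' => MulEquiv.ext fun v => Subtype.ext (by simp) }
    have hψ : ∀ g (v : V), (((ψ g v : V) : Z) : G) = g * ((v : Z) : G) * g⁻¹ := fun g v =>
      MulAut.conjNormal_apply g (v : Z)
    let φ : G ⧸ H →* MulAut V := QuotientGroup.lift H ψ fun x hx => MulEquiv.ext fun v => Subtype.ext
      (Subtype.ext (by
        rw [hψ]
        obtain ⟨z, hz, hze⟩ := (v : Z).2
        show x * ((v : Z) : G) * x⁻¹ = ((v : Z) : G)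
        rw [← hze, show x * H.subtype z = H.subtype z * x from
          congrArg Subtype.val (Subgroup.mem_center_iff.1 hz ⟨x, hx⟩), mul_inv_cancel_right]))
    obtain ⟨z, hz, hzo⟩ := exists_central_of_dvd hHnil hpH
    have hzZ : (z : G) ∈ Z := ⟨z, hz, rfl⟩
    let v₀ : V := ⟨⟨(z : G), hzZ⟩, Subtype.ext (by
      show ((z : G)) ^ p = 1
      rw [← hzo, ← Subgroup.orderOf_coe, pow_orderOf_eq_one])⟩
    obtain ⟨a, ha⟩ := exists_orderOf_dvd_card (G := C2) hqC
    obtain ⟨u, hu⟩ := hfs (a : G ⧸ H)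
    have hao : orderOf (f u) = q := by rw [hu, Subgroup.orderOf_coe, ha]
    obtain ⟨e, he⟩ := hao ▸ orderOf_map_dvd f u
    have hpos : 0 < orderOf u := orderOf_pos u
    have he0 : e ≠ 0 := by rintro rfl; omega
    have huq : (u ^ q) ∈ H := by
      rw [← QuotientGroup.eq_one_iff]
      show f (u ^ q) = 1
      rw [map_pow, ← hao, pow_orderOf_eq_one]
    have hecop : e.Coprime q := by
      refine ((hq.coprime_iff_not_dvd).2 fun h => hqH ?_).symm
      have h1 : orderOf (u ^ q) = e := by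
        rw [orderOf_pow_of_dvd hq.ne_zero (he ▸ dvd_mul_right q e), he, Nat.mul_div_cancel_left _ hq.pos]
      exact h.trans (h1 ▸ Subgroup.orderOf_dvd_natCard H huq)
    set y := u ^ e with hy
    have hyo : orderOf y = q := by
      rw [hy, orderOf_pow_of_dvd he0 (he ▸ dvd_mul_left e q), he, Nat.mul_div_cancel _ (Nat.pos_of_ne_zero he0)]
    have hfy : f y = (a : G ⧸ H) ^ e := by rw [hy, map_pow, hu]
    have hay : ∀ i, 0 < i → i < q → (f y) ^ i ≠ 1 ∧ (f y) ^ i ∈ C2 := by
      intro i hi hiq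
      rw [hfy, ← pow_mul]
      refine ⟨fun h => ?_, pow_mem a.2 _⟩
      have h1 := orderOf_dvd_of_pow_eq_one h
      rw [Subgroup.orderOf_coe, ha] at h1
      rcases hq.dvd_mul.1 h1 with h2 | h2
      · exact hq.not_dvd_one (hecop ▸ Nat.dvd_gcd h2 dvd_rfl)
      · exact absurd (Nat.le_of_dvd hi h2) (by omega)
    haveI := d2.normal
    by_cases hfix : ∃ w : V, w ≠ 1 ∧ φ (f y) w = w
    · obtain ⟨w, hw1, hw⟩ := hfix
      have hwo : orderOf ((w : Z) : G) = p := by
        rw [Subgroup.orderOf_coe]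
        exact orderOf_eq_prime (show (w : Z) ^ p = 1 from w.2) fun h => hw1 (Subtype.ext h)
      have hc : Commute ((w : Z) : G) y := by
        have h := congrArg (fun t : V => ((t : Z) : G)) hw
        rw [show φ (f y) = ψ y from rfl] at h
        simp only [hψ] at h
        exact (mul_inv_eq_iff_eq_mul.1 h).symm
      refine ⟨((w : Z) : G) * y, ?_⟩
      rw [hc.orderOf_mul_eq_mul_orderOf_of_coprime (by rw [hwo, hyo]; exact (Nat.coprime_primes hp hq).2 hpq),
        hwo, hyo]
    exfalso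
    push Not at hfix
    have hvB : v₀ ^ Nat.card B = 1 := by
      refine fixed_point φ B (f y) hq (by rw [← map_pow, ← hyo, pow_orderOf_eq_one, map_one]) ?_ ?_ ?_ d2.kne
        (fun w hw => by_contra fun h => hfix w h hw) v₀
      · rintro _ ⟨k, hk, rfl⟩ hk1 w hw
        have h := congrArg (fun t : V => ((t : Z) : G)) hw
        rw [show φ (f k) = ψ k from rfl] at h
        simp only [hψ] at h
        have hwK : ((w : Z) : G) ∈ H := Subgroup.map_subtype_le _ (w : Z).2
        by_contra hw1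
        rcases d1.decomp ⟨k, hk⟩ with h' | ⟨c, hc, b, hb, hb1, hke⟩
        · exact hk1 ((QuotientGroup.eq_one_iff k).2 h')
        haveI := d1.normal
        set w' : K := ⟨((w : Z) : G), hlt.le hwK⟩
        have hcy : (⟨k, hk⟩ : K) * w' = w' * ⟨k, hk⟩ := Subtype.ext (mul_inv_eq_iff_eq_mul.1 h)
        rw [hke] at hcy
        have hcc : b * (c⁻¹ * w' * c) = (c⁻¹ * w' * c) * b := by
          calc b * (c⁻¹ * w' * c) = c⁻¹ * (c * b * c⁻¹ * w') * c := by group
            _ = c⁻¹ * (w' * (c * b * c⁻¹)) * c := by rw [hcy]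
            _ = (c⁻¹ * w' * c) * b := by group
        have h1 := d1.fpf hb hb1 ((H.subgroupOf K).mul_mem ((H.subgroupOf K).mul_mem
          ((H.subgroupOf K).inv_mem hc) (show w' ∈ H.subgroupOf K from hwK)) hc) hcc
        have h2 : w' = c * 1 * c⁻¹ := by rw [← h1]; group
        rw [mul_one, mul_inv_cancel] at h2
        refine hw1 (Subtype.ext (Subtype.ext ?_))
        have h3 : ((w : Z) : G) = 1 := congrArg (fun t : K => (t : G)) h2
        exact h3
      · intro b hb hc
        obtain ⟨h1, h2⟩ := hay 1 one_pos hq.one_lt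
        rw [pow_one] at h1 h2
        exact d2.fpf h2 h1 hb hc
      · intro i hi hiq b hb hc
        obtain ⟨h1, h2⟩ := hay i hi hiq
        exact d2.fpf h2 h1 hb hc
    have hv0 : orderOf v₀ = p := by
      rw [← Subgroup.orderOf_coe, ← Subgroup.orderOf_coe]
      show orderOf (z : G) = p
      rw [Subgroup.orderOf_coe, hzo]
    exact hpb (hBC ▸ hv0 ▸ orderOf_dvd_of_pow_eq_one hvB)
  have hside : ∀ r : ℕ, r.Prime → r ∣ Nat.card G → ¬ r ∣ Nat.card C1 → ¬ r ∣ Nat.card H → r ∣ Nat.card C2 := by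
    intro r hr hrG h1 h2
    rw [hGcard] at hrG
    rcases hr.dvd_mul.1 hrG with h | h
    · exact absurd h h2
    · exact (hr.dvd_mul.1 h).resolve_left h1
  by_cases hpH : p ∣ Nat.card H <;> by_cases hqH : q ∣ Nat.card H
  · obtain ⟨x, hx, hxo⟩ := exists_central_of_dvd hHnil hpH
    obtain ⟨y, hy⟩ := exists_prime_orderOf_dvd_card' q hqH
    refine ⟨(x : G) * (y : G), ?_⟩
    rw [← Subgroup.coe_mul, Subgroup.orderOf_coe,
      (show Commute x y from (Subgroup.mem_center_iff.1 hx y).symm).orderOf_mul_eq_mul_orderOf_of_coprime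
        (by rw [hxo, hy]; exact (Nat.coprime_primes hp hq).2 hpq), hxo, hy]
  · exact hmix p q hp hq hpq hpH hqH (hside q hq hqG hqb hqH) hpb
  · rw [mul_comm]; exact hmix q p hq hp (Ne.symm hpq) hqH hpH (hside p hp hpG hpb hpH) hqb
  · obtain ⟨c, hc⟩ := exists_orderOf_dvd_card (G := C2)
      (((Nat.coprime_primes hp hq).2 hpq).mul_dvd_of_dvd_of_dvd (hside p hp hpG hpb hpH) (hside q hq hqG hqb hqH))
    exact hlift (c : G ⧸ H) (p * q) (by rw [Subgroup.orderOf_coe, hc])

end Cfsg.Agent.S4001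


set_option autoImplicit false
open Cfsg

namespace Cfsg.Agent.S4001

/-- Let G be a 2-Frobenius group: it has normal subgroups H < K with K a Frobenius group with kernel H and G/H a Frobenius group with kernel K/H. Then G is solvable; K/H has odd order coprime to the order of H and to the order of G/K (it is the image of an odd-order Hall subgroup); G/K is cyclic; and the prime graph of G has exactly two connected components, both complete: for distinct primes p, q dividing the order of G, G has an element of order pq exactly when p and q either both divide the order of K/H or both do not. -/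
theorem result {G : Type*} [Group G] [Finite G] (H K : Subgroup G) [H.Normal] [K.Normal] (hlt : H < K)
    (hK : ∃ C : Subgroup ↥K, Cfsg.IsFrobeniusComplement C ∧ Cfsg.frobeniusKernel C = (H.subgroupOf K : Set ↥K))
    (hGH : ∃ C : Subgroup (G ⧸ H), Cfsg.IsFrobeniusComplement C ∧ Cfsg.frobeniusKernel C = (K.map (QuotientGroup.mk' H) : Set (G ⧸ H))) :
    Group.IsSolvable G ∧ Odd (Nat.card (↥K ⧸ H.subgroupOf K)) ∧
      Nat.Coprime (Nat.card (↥K ⧸ H.subgroupOf K)) (Nat.card ↥H * Nat.card (G ⧸ K)) ∧ IsCyclic (G ⧸ K) ∧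
      ∀ p q : ℕ, p.Prime → q.Prime → p ≠ q → p ∣ Nat.card G → q ∣ Nat.card G →
        ((∃ g : G, orderOf g = p * q) ↔ (p ∣ Nat.card (↥K ⧸ H.subgroupOf K) ↔ q ∣ Nat.card (↥K ⧸ H.subgroupOf K))) := by
  exact S4001.main H K hlt hK hGH

end Cfsg.Agent.S4001
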