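import Cfsg.Statements.S4003
import Mathlib
import Cfsg.Agent.Lib.FiniteGroup.CyclicPGroup
import Cfsg.Agent.Lib.OddOrder.OmegaCentral
import Cfsg.Agent.Lib.FGStruct.CoprimeFixBound
import Cfsg.Agent.Lib.FGStruct.Counting

set_option autoImplicit false
set_option linter.style.haveILetI false

namespace Cfsg.Agent.S4003

open Cfsg.Agent
open scoped Classical commutatorElement

universe u

noncomputable local instance instFintypeOfFinite {α : Type*} [Finite α] : Fintype α :=
  Fintype.ofFinite α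

variable {P : Type u} [Group P] [Finite P] {p : ℕ} [hp : Fact p.Prime]

lemma exists_normal_elem (hp2 : p ≠ 2) (hP : IsPGroup p P) (hnc : ¬ IsCyclic P) :
    ∃ E : Subgroup P, E.Normal ∧ Cfsg.IsElementaryAbelian p E ∧ Nat.card E = p ^ 2 := by
  obtain ⟨A0, hA0, hA0c⟩ := CyclicPGroup.exists_noncyclic_abelian hp2 P hP hnc
  haveI := hA0
  obtain ⟨q, F0, hq, hF0, hF0e⟩ := CoprimeAct.exists_elementary_of_not_isCyclic hA0c
  have hqp : q = p := by
    obtain ⟨k, hk⟩ := IsPGroup.iff_card.1 ((hP.to_subgroup A0).to_subgroup F0)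
    have : q ∣ p ^ k := hk ▸ hF0 ▸ dvd_pow_self q two_ne_zero
    exact (Nat.prime_dvd_prime_iff_eq hq hp.out).1 (hq.dvd_of_dvd_pow this)
  subst hqp
  set F := F0.map A0.subtype with hFdef
  have hFe : ∀ f ∈ F, f ^ q = 1 := by
    rintro _ ⟨a, ha, rfl⟩
    rw [← map_pow, show a ^ q = 1 from congrArg Subtype.val (hF0e ⟨a, ha⟩), map_one]
  obtain ⟨A, ⟨hAn, hAe⟩, hAmax⟩ :=
    (Set.toFinite {A : Subgroup P | A.Normal ∧ Cfsg.IsElementaryAbelian q A}).exists_maximal
      ⟨⊥, inferInstance, ⟨⟨⟨fun a b => Subsingleton.elim _ _⟩⟩, fun a ha => by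
        rw [Subgroup.mem_bot] at ha; rw [ha, one_pow]⟩⟩
  haveI := hAn
  have hA2 : q ^ 2 ≤ Nat.card A := by
    obtain ⟨a, ha⟩ := IsPGroup.iff_card.1 (hP.to_subgroup A)
    by_contra hlt
    push Not at hlt
    have hFA : F ≤ A := by
      intro f hf
      refine OddOrder.OmegaCen.mem_of_centralizes hp2 hP A hAe
        (fun B hBn hB hAB => le_antisymm (hAmax ⟨hBn, hB⟩ hAB) hAB) ?_ (hFe f hf)
      rw [ha] at hlt
      have ha1 : a < 2 := (Nat.pow_lt_pow_iff_right hq.one_lt).1 hlt
      have hcen : A ≤ Subgroup.center P := by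
        rcases a with _ | _ | a
        · rw [Subgroup.card_eq_one.1 (ha.trans (pow_zero q))]; exact bot_le
        · exact OddOrder.OmegaCen.le_center_of_prime_card hP (by rw [ha]; norm_num)
        · omega
      rw [Subgroup.mem_centralizer_iff]
      exact fun x hx => (Subgroup.mem_center_iff.1 (hcen hx) f).symm
    have := Subgroup.card_le_of_le hFA
    rw [hFdef, Subgroup.card_map_of_injective A0.subtype_injective, hF0] at this
    omega
  obtain ⟨B, hBn, hBA, hB⟩ := OddOrder.OmegaCen.exists_normal_card hP A hA2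
  refine ⟨B, hBn, ⟨⟨⟨fun a b => Subtype.ext ?_⟩⟩, fun b hb => hAe.2 b (hBA hb)⟩, hB⟩
  haveI := hAe.1
  have h : (a : P) * b = b * a := congrArg Subtype.val (mul_comm' (⟨a, hBA a.2⟩ : A) ⟨b, hBA b.2⟩)
  exact h

lemma mul_pow_eq (hp2 : p ≠ 2) (hP : IsPGroup p P) {E : Subgroup P} [E.Normal]
    (hE : Cfsg.IsElementaryAbelian p E) (hE2 : Nat.card E = p ^ 2) (x : P) {e : P} (he : e ∈ E) :
    (x * e) ^ p = x ^ p := by
  have hpr := hp.out
  obtain ⟨F, hFn, hFE, hF⟩ := OddOrder.OmegaCen.exists_normal_card hP E (k := 1)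
    (by rw [hE2]; exact Nat.pow_le_pow_right hpr.pos (by norm_num))
  haveI := hFn
  rw [pow_one] at hF
  have hFc := OddOrder.OmegaCen.le_center_of_prime_card hP hF
  set f := QuotientGroup.mk' F
  haveI : (E.map f).Normal := (inferInstance : E.Normal).map f (QuotientGroup.mk'_surjective F)
  have hEb : Nat.card (E.map f) = p := by
    have h := CoprimeFixBound.card_inf_eq_mul f E
    rw [QuotientGroup.ker_mk', inf_eq_left.2 hFE, hF, hE2, pow_two] at h
    exact (Nat.eq_of_mul_eq_mul_left hpr.pos h).symm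
  have hEc := OddOrder.OmegaCen.le_center_of_prime_card (hP.to_quotient F) hEb
  set u := e⁻¹ * (x⁻¹ * e * x) with hu
  have huF : u ∈ F := by
    rw [← QuotientGroup.eq_one_iff]
    show f u = 1
    rw [hu, map_mul, map_mul, map_mul, map_inv, map_inv,
      mul_assoc _ (f e) (f x), ← Subgroup.mem_center_iff.1 (hEc ⟨e, he, rfl⟩) (f x)]
    group
  have hucomm : ∀ g : P, g * u = u * g := Subgroup.mem_center_iff.1 (hFc huF)
  have hex : e * x = x * (e * u) := by rw [hu]; group
  have key : ∀ n : ℕ, (x * e) ^ n = x ^ n * (e ^ n * u ^ (n.choose 2)) := by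
    intro n
    induction n with
    | zero => simp
    | succ n ih =>
      have h1 : e ^ n * x = x * (e * u) ^ n := by
        have : ∀ n : ℕ, e ^ n * x = x * (e * u) ^ n := by
          intro n
          induction n with
          | zero => simp
          | succ n ih => rw [pow_succ, mul_assoc, hex, ← mul_assoc, ih, mul_assoc, ← pow_succ]
        exact this n
      have h2 : (e * u) ^ n = e ^ n * u ^ n := (show Commute e u from hucomm e).mul_pow n
      rw [pow_succ, ih]
      calc x ^ n * (e ^ n * u ^ n.choose 2) * (x * e)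
          = x ^ n * (e ^ n * (u ^ n.choose 2 * x) * e) := by group
        _ = x ^ n * (e ^ n * (x * u ^ n.choose 2) * e) := by
            rw [((show Commute x u from hucomm x).pow_right _).eq]
        _ = x ^ n * ((e ^ n * x) * (u ^ n.choose 2 * e)) := by group
        _ = x ^ n * (x * (e ^ n * u ^ n) * (u ^ n.choose 2 * e)) := by rw [h1, h2]
        _ = x ^ n * x * (e ^ n * (u ^ n * u ^ n.choose 2 * e)) := by group
        _ = x ^ (n + 1) * (e ^ n * (u ^ (n + 1).choose 2 * e)) := by
            rw [← pow_succ x, ← pow_add, Nat.choose_succ_succ' n 1, Nat.choose_one_right]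
        _ = x ^ (n + 1) * (e ^ (n + 1) * u ^ (n + 1).choose 2) := by
            rw [← ((show Commute e u from hucomm e).pow_right _).eq, ← mul_assoc (e ^ n), ← pow_succ]
  have huE : u ∈ E := hFE huF
  obtain ⟨k, hk⟩ : p ∣ p.choose 2 := hpr.dvd_choose_self two_ne_zero
    (lt_of_le_of_ne hpr.two_le (Ne.symm hp2))
  rw [key, hE.2 e he, one_mul, hk, pow_mul, hE.2 u huE, one_pow, mul_one]

/-- Miller: in a noncyclic `p`-group, `p` odd, elements of order `p ^ s`, `s ≥ 2`. -/
theorem pGroup_dvd (hp2 : p ≠ 2) (hP : IsPGroup p P) (hnc : ¬ IsCyclic P) {s : ℕ} (hs : 2 ≤ s) :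
    p ^ s ∣ Nat.card {x : P // orderOf x = p ^ s} := by
  have hpr := hp.out
  obtain ⟨E, hEn, hE, hE2⟩ := exists_normal_elem hp2 hP hnc
  haveI := hEn
  rw [Nat.card_eq_fintype_card, Fintype.card_subtype,
    Finset.card_eq_sum_card_image (fun x : P => Subgroup.zpowers x ⊔ E)]
  refine Finset.dvd_sum fun L hL => ?_
  obtain ⟨x, hx, rfl⟩ := Finset.mem_image.1 hL
  have hxo : orderOf x = p ^ s := (Finset.mem_filter.1 hx).2
  obtain ⟨t, rfl⟩ : ∃ t, s = t + 2 := ⟨s - 2, by omega⟩
  set L := Subgroup.zpowers x ⊔ E with hLdef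
  set M := Subgroup.zpowers (x ^ p) ⊔ E with hMdef
  have hML : M ≤ L := sup_le_sup_right (Subgroup.zpowers_le.2 (pow_mem (Subgroup.mem_zpowers x) p)) E
  have hmemM : ∀ y, y ∈ M → ∃ k : ℤ, ∃ e ∈ E, y = (x ^ p) ^ k * e := by
    intro y hy
    obtain ⟨a, ha, e, he, rfl⟩ := Subgroup.mem_sup_of_normal_right.1 hy
    obtain ⟨k, rfl⟩ := ha
    exact ⟨k, e, he, rfl⟩
  have hxM : x ∉ M := by
    intro h
    obtain ⟨k, e, he, hxe⟩ := hmemM x h
    have h1 : x ^ (1 - (p : ℤ) * k) = e := by
      rw [← zpow_natCast, ← zpow_mul] at hxe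
      conv_rhs => rw [show e = (x ^ ((p : ℤ) * k))⁻¹ * x by rw [← zpow_natCast] at *; nth_rw 2 [hxe]; group]
      rw [← zpow_neg, ← zpow_add_one]; congr 1; ring
    have h2 : x ^ ((1 - (p : ℤ) * k) * (p : ℤ)) = 1 := by
      rw [zpow_mul, h1, zpow_natCast, hE.2 e he]
    have h3 := orderOf_dvd_iff_zpow_eq_one.2 h2
    rw [hxo] at h3
    have h4 : (p : ℤ) ∣ 1 - (p : ℤ) * k := by
      have h5 : ((p : ℤ) ^ (t + 1)) * p ∣ (1 - (p : ℤ) * k) * p := by
        rw [← pow_succ]; exact_mod_cast h3
      exact (dvd_pow_self _ (Nat.succ_ne_zero t)).trans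
        ((mul_dvd_mul_iff_right (by exact_mod_cast hpr.ne_zero)).1 h5)
    have h6 : (p : ℤ) ∣ 1 := by
      have h7 := dvd_add h4 (dvd_mul_right (p : ℤ) k)
      rwa [sub_add_cancel] at h7
    exact hpr.not_dvd_one (by exact_mod_cast h6)
  have hfib : (Finset.univ.filter fun y : P => orderOf y = p ^ (t + 2)).filter
      (fun y => Subgroup.zpowers y ⊔ E = L) =
      Finset.univ.filter (fun y : P => y ∈ L ∧ y ∉ M) := by
    ext y
    simp only [Finset.mem_filter, Finset.mem_univ, true_and]
    constructor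
    · rintro ⟨hyo, hy⟩
      refine ⟨hy ▸ Subgroup.mem_sup_left (Subgroup.mem_zpowers y), fun hyM => hxM ?_⟩
      have : L ≤ M := hy ▸ sup_le (Subgroup.zpowers_le.2 hyM) le_sup_right
      exact this (Subgroup.mem_sup_left (Subgroup.mem_zpowers x))
    · rintro ⟨hyL, hyM⟩
      obtain ⟨a, ha, e, he, rfl⟩ := Subgroup.mem_sup_of_normal_right.1 hyL
      obtain ⟨i, rfl⟩ := ha
      simp only at hyM ⊢
      have hpi : ¬ (p : ℤ) ∣ i := by
        rintro ⟨j, rfl⟩
        refine hyM (Subgroup.mul_mem_sup ⟨j, ?_⟩ he)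
        simp only
        rw [← zpow_natCast, ← zpow_mul]
      have hz : orderOf (x ^ i) = p ^ (t + 2) := by
        have hdv : orderOf (x ^ i) ∣ p ^ (t + 2) := hxo ▸ orderOf_dvd_of_mem_zpowers ⟨i, rfl⟩
        refine Nat.eq_prime_pow_of_dvd_least_prime_pow hpr (fun hd => hpi ?_) hdv
        have h1 : x ^ (i * ((p : ℤ) ^ (t + 1))) = 1 := by
          rw [zpow_mul, ← Nat.cast_pow, zpow_natCast]; exact orderOf_dvd_iff_pow_eq_one.1 hd
        have h3 := orderOf_dvd_iff_zpow_eq_one.2 h1
        rw [hxo] at h3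
        have h5 : (p : ℤ) * (p : ℤ) ^ (t + 1) ∣ i * (p : ℤ) ^ (t + 1) := by
          rw [← pow_succ']; exact_mod_cast h3
        exact (mul_dvd_mul_iff_right (pow_ne_zero _ (by exact_mod_cast hpr.ne_zero))).1 h5
      have hpe := mul_pow_eq hp2 hP hE hE2 (x ^ i) he
      have hyo : orderOf (x ^ i * e) = p ^ (t + 2) := by
        have h1 : orderOf ((x ^ i * e) ^ p) = p ^ (t + 1) := by
          rw [hpe, orderOf_pow_of_dvd hpr.ne_zero (hz ▸ dvd_pow_self p (by omega)), hz, pow_succ,
            Nat.mul_div_cancel _ hpr.pos]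
        obtain ⟨k, hk⟩ := IsPGroup.iff_orderOf.1 hP (x ^ i * e)
        rcases Nat.eq_zero_or_pos k with rfl | hk0
        · rw [orderOf_eq_one_iff.1 (hk.trans (pow_zero p)), one_pow, orderOf_one] at h1
          exact absurd h1.symm (Nat.one_lt_pow (Nat.succ_ne_zero t) hpr.one_lt).ne'
        · rw [orderOf_pow_of_dvd hpr.ne_zero (hk ▸ dvd_pow_self p hk0.ne'), hk] at h1
          obtain ⟨j, rfl⟩ : ∃ j, k = j + 1 := ⟨k - 1, by omega⟩
          rw [pow_succ, Nat.mul_div_cancel _ hpr.pos] at h1
          rw [hk, Nat.pow_right_injective hpr.two_le h1]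
      refine ⟨hyo, le_antisymm (sup_le (Subgroup.zpowers_le.2 hyL) le_sup_right) (sup_le ?_ le_sup_right)⟩
      have hxi : x ^ i ∈ Subgroup.zpowers (x ^ i * e) ⊔ E := by
        have := Subgroup.mul_mem_sup (Subgroup.mem_zpowers (x ^ i * e)) (E.inv_mem he)
        rwa [mul_inv_cancel_right] at this
      refine Subgroup.zpowers_le.2 ((Subgroup.zpowers_le.2 hxi) ?_)
      have h2 : Subgroup.zpowers (x ^ i) = Subgroup.zpowers x :=
        Subgroup.eq_of_le_of_card_ge (Subgroup.zpowers_le.2 ⟨i, rfl⟩)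
          (by rw [Nat.card_zpowers, Nat.card_zpowers, hz, hxo])
      rw [h2]; exact Subgroup.mem_zpowers x
  rw [hfib]
  have hMs : p ^ (t + 2) ∣ Nat.card M := by
    obtain ⟨m, hm⟩ := IsPGroup.iff_card.1 (hP.to_subgroup M)
    rw [hm]
    refine Nat.pow_dvd_pow p ?_
    have hc : Nat.card (Subgroup.zpowers (x ^ p)) = p ^ (t + 1) := by
      rw [Nat.card_zpowers, orderOf_pow_of_dvd hpr.ne_zero (hxo ▸ dvd_pow_self p (by omega)), hxo,
        pow_succ, Nat.mul_div_cancel _ hpr.pos]
    have hlt : Subgroup.zpowers (x ^ p) < M := by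
      refine lt_of_le_of_ne le_sup_left fun heq => ?_
      have hEle : E ≤ Subgroup.zpowers (x ^ p) := heq ▸ le_sup_right
      haveI : IsCyclic E := isCyclic_of_injective (Subgroup.inclusion hEle) (Subgroup.inclusion_injective _)
      obtain ⟨g, hg⟩ := IsCyclic.exists_generator (α := E)
      have h := orderOf_eq_card_of_forall_mem_zpowers hg
      have h' : orderOf g ∣ p := orderOf_dvd_of_pow_eq_one (Subtype.ext (hE.2 g g.2))
      rw [h, hE2] at h'
      have := Nat.le_of_dvd hpr.pos h'
      nlinarith [hpr.two_le]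
    have h1 : p ^ (t + 1) < p ^ m := by
      rw [← hc, ← hm]
      exact Set.ncard_lt_ncard hlt
    exact (Nat.pow_lt_pow_iff_right hpr.one_lt).1 h1
  have hcard : (Finset.univ.filter fun y : P => y ∈ L ∧ y ∉ M).card = Nat.card L - Nat.card M := by
    rw [Nat.card_eq_fintype_card, Nat.card_eq_fintype_card, Fintype.card_subtype, Fintype.card_subtype,
      ← Finset.card_sdiff_of_subset (fun y hy => by
        simp only [Finset.mem_filter, Finset.mem_univ, true_and] at hy ⊢; exact hML hy)]
    congr 1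
    ext y
    simp [Finset.mem_sdiff]
  rw [hcard]
  exact Nat.dvd_sub (hMs.trans (Subgroup.card_dvd_of_le hML)) hMs

/-- The cyclic subgroups of order `d` count the elements of order `d`. -/
lemma card_order_eq {X : Type u} [Group X] [Finite X] (d : ℕ) :
    Nat.card {x : X // orderOf x = d} =
      Nat.card {C : Subgroup X // IsCyclic C ∧ Nat.card C = d} * Nat.totient d := by
  rw [Nat.card_eq_fintype_card, Fintype.card_subtype,
    Finset.card_eq_sum_card_fiberwise (f := fun x : X => Subgroup.zpowers x)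
      (t := Finset.univ.filter fun C : Subgroup X => IsCyclic C ∧ Nat.card C = d) (fun x hx => by
        simp only [Finset.coe_filter, Finset.mem_univ, true_and, Set.mem_setOf_eq] at hx ⊢
        exact ⟨inferInstance, (Nat.card_zpowers x).trans hx⟩)]
  rw [Nat.card_eq_fintype_card, Fintype.card_subtype]
  refine (Finset.sum_congr rfl (g := fun _ => Nat.totient d) fun C hC => ?_).trans ?_
  · show _ = Nat.totient d
    simp only [Finset.mem_filter, Finset.mem_univ, true_and] at hC
    obtain ⟨hC, hCd⟩ := hC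
    rw [← IsCyclic.card_orderOf_eq_totient (α := C) (d := d)
      (by rw [← Nat.card_eq_fintype_card, hCd])]
    symm
    refine Finset.card_bij (fun x _ => (x : X)) (fun x hx => ?_) (fun _ _ _ _ e => Subtype.ext e) ?_
    · simp only [Finset.mem_filter, Finset.mem_univ, true_and] at hx ⊢
      refine ⟨by rw [Subgroup.orderOf_coe, hx], ?_⟩
      refine Subgroup.eq_of_le_of_card_ge (Subgroup.zpowers_le.2 x.2) ?_
      rw [Nat.card_zpowers, Subgroup.orderOf_coe, hx, hCd]
    · intro y hy
      simp only [Finset.mem_filter, Finset.mem_univ, true_and] at hy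
      refine ⟨⟨y, hy.2 ▸ Subgroup.mem_zpowers y⟩, ?_, rfl⟩
      simp only [Finset.mem_filter, Finset.mem_univ, true_and, Subgroup.orderOf_mk, hy.1]
  · rw [Finset.sum_const, smul_eq_mul]

lemma sylow_case {X : Type u} [Group X] [Finite X] (hp2 : p ≠ 2) (S : Sylow p X)
    (hnc : ¬ IsCyclic (S : Subgroup X)) {s : ℕ} (hs : 2 ≤ s) :
    p ^ s ∣ Nat.card {x : X // orderOf x = p ^ s} := by
  have hpr := hp.out
  obtain ⟨t, rfl⟩ : ∃ t, s = t + 1 := ⟨s - 1, by omega⟩
  have hφ : Nat.totient (p ^ (t + 1)) = p ^ t * (p - 1) := Nat.totient_prime_pow_succ hpr t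
  rw [card_order_eq, hφ]
  suffices h : p ∣ Nat.card {C : Subgroup X // IsCyclic C ∧ Nat.card C = p ^ (t + 1)} by
    generalize Nat.card {C : Subgroup X // IsCyclic C ∧ Nat.card C = p ^ (t + 1)} = N at h ⊢
    obtain ⟨N', rfl⟩ := h
    exact ⟨N' * (p - 1), by ring⟩
  have h1 := pGroup_dvd hp2 S.isPGroup' hnc hs
  rw [card_order_eq, hφ] at h1
  have h2 : p ∣ Nat.card {C : Subgroup (S : Subgroup X) // IsCyclic C ∧ Nat.card C = p ^ (t + 1)} := by
    generalize Nat.card {C : Subgroup (S : Subgroup X) // IsCyclic C ∧ Nat.card C = p ^ (t + 1)} = N at h1 ⊢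
    rw [pow_succ, show N * (p ^ t * (p - 1)) = p ^ t * (N * (p - 1)) by ring] at h1
    have h3 := (mul_dvd_mul_iff_left (pow_ne_zero _ hpr.ne_zero)).1 h1
    refine (hpr.dvd_mul.1 h3).resolve_right fun h4 => ?_
    have h5 := hpr.two_le
    have := Nat.le_of_dvd (by omega) h4
    omega
  set T := {C : Subgroup X // IsCyclic C ∧ Nat.card C = p ^ (t + 1)}
  let act : MulAction (S : Subgroup X) T :=
    { smul := fun g C => ⟨C.1.map (MulAut.conj (g : X)).toMonoidHom,
        haveI := C.2.1
        isCyclic_of_surjective (C.1.equivMapOfInjective (MulAut.conj (g : X)).toMonoidHom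
          (MulAut.conj (g : X)).injective).toMonoidHom (MulEquiv.surjective _),
        (Subgroup.card_map_of_injective (f := (MulAut.conj (g : X)).toMonoidHom) (MulAut.conj (g : X)).injective).trans C.2.2⟩
      one_smul := fun C => Subtype.ext (by
        show C.1.map _ = C.1
        rw [Subgroup.coe_one, map_one]; exact Subgroup.map_id _)
      mul_smul := fun g h C => Subtype.ext (by
        show C.1.map _ = (C.1.map _).map _
        rw [Subgroup.map_map, Subgroup.coe_mul, map_mul]; rfl) }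
  letI := act
  have hfix : ∀ C : T, C ∈ MulAction.fixedPoints (S : Subgroup X) T → C.1 ≤ (S : Subgroup X) := by
    intro C hC
    have hSN : (S : Subgroup X) ≤ Subgroup.normalizer (C.1 : Set X) := by
      intro g hg
      have h := congrArg Subtype.val (hC ⟨g, hg⟩)
      change C.1.map (MulAut.conj g).toMonoidHom = C.1 at h
      rw [Subgroup.mem_normalizer_iff]
      intro z
      conv_rhs => rw [← h]
      rw [Subgroup.mem_map_equiv]
      simp [mul_assoc]
    have hsup : IsPGroup p ((C.1 : Subgroup X) ⊔ (S : Subgroup X) : Subgroup X) :=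
      (IsPGroup.of_card C.2.2).to_sup_of_normal_left' S.isPGroup' hSN
    exact le_sup_left.trans (S.is_maximal' hsup le_sup_right).le
  let T' := {C : T // C.1 ≤ (S : Subgroup X)}
  let act' : MulAction (S : Subgroup X) T' :=
    { smul := fun g C => ⟨g • C.1, by
        rintro _ ⟨z, hz, rfl⟩
        exact (S : Subgroup X).mul_mem ((S : Subgroup X).mul_mem g.2 (C.2 hz)) ((S : Subgroup X).inv_mem g.2)⟩
      one_smul := fun C => Subtype.ext (one_smul _ C.1)
      mul_smul := fun g h C => Subtype.ext (mul_smul g h C.1) }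
  letI := act'
  have hT' : Nat.card T' =
      Nat.card {C : Subgroup (S : Subgroup X) // IsCyclic C ∧ Nat.card C = p ^ (t + 1)} := by
    refine Nat.card_congr
      { toFun := fun C => ⟨C.1.1.subgroupOf S,
          haveI := C.1.2.1
          isCyclic_of_surjective (Subgroup.subgroupOfEquivOfLe C.2).symm.toMonoidHom (MulEquiv.surjective _),
          (Nat.card_congr (Subgroup.subgroupOfEquivOfLe C.2).toEquiv).trans C.1.2.2⟩
        invFun := fun C => ⟨⟨C.1.map (S : Subgroup X).subtype,
          haveI := C.2.1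
          isCyclic_of_surjective (C.1.equivMapOfInjective _ (S : Subgroup X).subtype_injective).toMonoidHom
            (MulEquiv.surjective _),
          (Subgroup.card_map_of_injective (S : Subgroup X).subtype_injective).trans C.2.2⟩,
          Subgroup.map_subtype_le _⟩
        left_inv := fun C => Subtype.ext (Subtype.ext (by
          show (C.1.1.subgroupOf (S : Subgroup X)).map _ = C.1.1
          rw [Subgroup.subgroupOf_map_subtype, inf_eq_left.2 C.2]))
        right_inv := fun C => Subtype.ext (Subgroup.comap_map_eq_self_of_injective (S : Subgroup X).subtype_injective _) }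
  have e1 := S.isPGroup'.card_modEq_card_fixedPoints T
  have e2 := S.isPGroup'.card_modEq_card_fixedPoints T'
  have e3 : Nat.card (MulAction.fixedPoints (S : Subgroup X) T') =
      Nat.card (MulAction.fixedPoints (S : Subgroup X) T) :=
    Nat.card_congr
      { toFun := fun C => ⟨C.1.1, fun g => congrArg Subtype.val (C.2 g)⟩
        invFun := fun C => ⟨⟨C.1, hfix C.1 C.2⟩, fun g => Subtype.ext (C.2 g)⟩
        left_inv := fun C => rfl
        right_inv := fun C => rfl }
  rw [e3, hT'] at e2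
  exact Nat.modEq_zero_iff_dvd.1 (e1.trans (e2.symm.trans (Nat.modEq_zero_iff_dvd.2 h2)))

/-- Elements of order `p ^ s * m`. -/
theorem main {G : Type u} [Group G] [Finite G] (hp2 : p ≠ 2) (S : Sylow p G)
    (hnc : ¬ IsCyclic (S : Subgroup G)) {s m : ℕ} (hs : 1 < s) (hm : Nat.Coprime p m) :
    p ^ s ∣ Nat.card {g : G // orderOf g = p ^ s * m} := by
  have hpr := hp.out
  have hcop : (p ^ s).Coprime m := hm.pow_left s
  obtain ⟨i, hi1, hi0⟩ := Nat.chineseRemainder hcop 1 0
  obtain ⟨j, hj0, hj1⟩ := Nat.chineseRemainder hcop 0 1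
  have hsplit : Nat.card {g : G // orderOf g = p ^ s * m} =
      Nat.card (Σ b : {b : G // orderOf b = m},
        {a : Subgroup.centralizer ({(b : G)} : Set G) // orderOf a = p ^ s}) := by
    have key : ∀ (a b : G), orderOf a = p ^ s → orderOf b = m → Commute a b →
        (a * b) ^ i = a ∧ (a * b) ^ j = b := by
      intro a b ha hb hc
      rw [hc.mul_pow, hc.mul_pow]
      have e : ∀ (x : G) (k l : ℕ), k ≡ l [MOD orderOf x] → x ^ k = x ^ l := fun x k l h =>
        pow_eq_pow_iff_modEq.2 h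
      rw [e a i 1 (ha ▸ hi1), e b i 0 (hb ▸ hi0), e a j 0 (ha ▸ hj0), e b j 1 (hb ▸ hj1)]
      simp
    symm
    refine Nat.card_eq_of_bijective (fun w => (⟨(w.2.1 : G) * (w.1 : G), ?_⟩ : {g : G // orderOf g = p ^ s * m})) ⟨?_, ?_⟩
    · have hc : Commute ((w.2.1 : G)) (w.1 : G) :=
        Subgroup.mem_centralizer_singleton_iff.1 w.2.1.2
      rw [hc.orderOf_mul_eq_mul_orderOf_of_coprime (by
        rw [Subgroup.orderOf_coe, w.2.2, w.1.2]; exact hcop), Subgroup.orderOf_coe, w.2.2, w.1.2]
    · rintro ⟨⟨b, hb⟩, ⟨⟨a, hac⟩, ha⟩⟩ ⟨⟨b', hb'⟩, ⟨⟨a', hac'⟩, ha'⟩⟩ h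
      have h' : a * b = a' * b' := congrArg Subtype.val h
      rw [Subgroup.orderOf_mk] at ha ha'
      obtain ⟨h1, h2⟩ := key a b ha hb (Subgroup.mem_centralizer_singleton_iff.1 hac)
      obtain ⟨h3, h4⟩ := key a' b' ha' hb' (Subgroup.mem_centralizer_singleton_iff.1 hac')
      have hbb : b = b' := by rw [← h2, h', h4]
      subst hbb
      have haa : a = a' := by rw [← h1, h', h3]
      subst haa
      rfl
    · rintro ⟨g, hg⟩
      have hm0 : m ≠ 0 := by
        rintro rfl
        rw [Nat.mul_zero] at hg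
        exact (orderOf_pos g).ne' hg
      have hga : orderOf (g ^ m) = p ^ s := by
        rw [orderOf_pow_of_dvd hm0 (hg ▸ dvd_mul_left m _), hg, Nat.mul_div_cancel _ (Nat.pos_of_ne_zero hm0)]
      have hgb : orderOf (g ^ p ^ s) = m := by
        rw [orderOf_pow_of_dvd (pow_ne_zero _ hpr.ne_zero) (hg ▸ dvd_mul_right _ m), hg,
          Nat.mul_div_cancel_left _ (pow_pos hpr.pos _)]
      have e : ∀ (k l : ℕ), k ≡ l [MOD p ^ s] → k ≡ l [MOD m] → g ^ k = g ^ l := fun k l h1 h2 =>
        pow_eq_pow_iff_modEq.2 (hg ▸ (Nat.modEq_and_modEq_iff_modEq_mul hcop).1 ⟨h1, h2⟩)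
      obtain ⟨u, hu⟩ : m ∣ i := Nat.modEq_zero_iff_dvd.1 hi0
      obtain ⟨v, hv⟩ : p ^ s ∣ j := Nat.modEq_zero_iff_dvd.1 hj0
      have hgij : g ^ i * g ^ j = g := by
        rw [← pow_add, e (i + j) 1 (by simpa using hi1.add hj0) (by simpa using hi0.add hj1), pow_one]
      have hij : orderOf (g ^ i) * orderOf (g ^ j) = p ^ s * m := by
        have hd1 : orderOf (g ^ i) ∣ p ^ s := by
          rw [hu, pow_mul, ← hga]; exact orderOf_pow_dvd u
        have hd2 : orderOf (g ^ j) ∣ m := by
          rw [hv, pow_mul, ← hgb]; exact orderOf_pow_dvd v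
        rw [← (((Commute.refl g).pow_pow i j)).orderOf_mul_eq_mul_orderOf_of_coprime
          (Nat.Coprime.coprime_dvd_left hd1 (Nat.Coprime.coprime_dvd_right hd2 hcop)), hgij, hg]
      have hd1 : orderOf (g ^ i) ∣ p ^ s := by
        rw [hu, pow_mul, ← hga]; exact orderOf_pow_dvd u
      have hd2 : orderOf (g ^ j) ∣ m := by
        rw [hv, pow_mul, ← hgb]; exact orderOf_pow_dvd v
      have h1 : orderOf (g ^ i) = p ^ s := by
        refine Nat.dvd_antisymm hd1 ?_
        exact (Nat.Coprime.coprime_dvd_right hd2 hcop).dvd_of_dvd_mul_right (hij ▸ dvd_mul_right _ m)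
      have h2 : orderOf (g ^ j) = m := by
        rw [h1] at hij
        exact Nat.eq_of_mul_eq_mul_left (pow_pos hpr.pos _) hij
      exact ⟨⟨⟨g ^ j, h2⟩, ⟨⟨g ^ i, Subgroup.mem_centralizer_singleton_iff.2 ((Commute.refl g).pow_pow i j).eq⟩,
        (Subgroup.orderOf_mk _ _).trans h1⟩⟩, Subtype.ext hgij⟩
  rw [hsplit, Nat.card_sigma, ← Finset.sum_fiberwise Finset.univ
    (fun b : {b : G // orderOf b = m} => ConjClasses.mk (b : G))]
  refine Finset.dvd_sum fun K _ => ?_
  rcases Finset.eq_empty_or_nonempty (Finset.univ.filter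
    (fun b : {b : G // orderOf b = m} => ConjClasses.mk (b : G) = K)) with he | ⟨b, hb⟩
  · rw [he, Finset.sum_empty]; exact dvd_zero _
  have hbK : ConjClasses.mk (b : G) = K := (Finset.mem_filter.1 hb).2
  subst hbK
  set c := fun b : {b : G // orderOf b = m} =>
    Nat.card {a : Subgroup.centralizer ({(b : G)} : Set G) // orderOf a = p ^ s}
  have hconst : ∀ b' ∈ Finset.univ.filter (fun b' : {b : G // orderOf b = m} =>
      ConjClasses.mk (b' : G) = ConjClasses.mk (b : G)), c b' = c b := by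
    intro b' hb'
    obtain ⟨g, hg⟩ := isConj_iff.1 (ConjClasses.mk_eq_mk_iff_isConj.1 (Finset.mem_filter.1 hb').2)
    have hmap : (Subgroup.centralizer ({(b' : G)} : Set G)).map (MulAut.conj g).toMonoidHom =
        Subgroup.centralizer ({(b : G)} : Set G) := by
      ext z
      rw [Subgroup.mem_map_equiv, Subgroup.mem_centralizer_singleton_iff,
        Subgroup.mem_centralizer_singleton_iff, MulAut.conj_symm_apply, ← hg]
      constructor
      · intro h
        calc z * (g * b' * g⁻¹) = g * ((g⁻¹ * z * g) * b') * g⁻¹ := by group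
          _ = g * (b' * (g⁻¹ * z * g)) * g⁻¹ := by rw [h]
          _ = g * b' * g⁻¹ * z := by group
      · intro h
        calc g⁻¹ * z * g * b' = g⁻¹ * (z * (g * b' * g⁻¹)) * g := by group
          _ = g⁻¹ * (g * b' * g⁻¹ * z) * g := by rw [h]
          _ = b' * (g⁻¹ * z * g) := by group
    let e1 := ((Subgroup.centralizer ({(b' : G)} : Set G)).equivMapOfInjective _
      (MulAut.conj g).injective).trans (MulEquiv.subgroupCongr hmap)
    exact Nat.card_congr (e1.toEquiv.subtypeEquiv fun a => by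
      show _ ↔ orderOf (e1 a) = _
      rw [MulEquiv.orderOf_eq])
  rw [Finset.sum_congr rfl hconst, Finset.sum_const, smul_eq_mul]
  have hcl : (Finset.univ.filter (fun b' : {b : G // orderOf b = m} =>
      ConjClasses.mk (b' : G) = ConjClasses.mk (b : G))).card =
      Nat.card (ConjClasses.mk (b : G)).carrier := by
    rw [← Fintype.card_subtype, ← Nat.card_eq_fintype_card]
    refine Nat.card_congr
      { toFun := fun x => ⟨(x.1 : G), ConjClasses.mem_carrier_iff_mk_eq.2 x.2⟩
        invFun := fun x => ⟨⟨(x : G), ?_⟩, ConjClasses.mem_carrier_iff_mk_eq.1 x.2⟩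
        left_inv := fun x => rfl
        right_inv := fun x => rfl }
    obtain ⟨g, hg⟩ := isConj_iff.1 (ConjClasses.mk_eq_mk_iff_isConj.1 (ConjClasses.mem_carrier_iff_mk_eq.1 x.2)).symm
    rw [← hg, show g * (b : G) * g⁻¹ = MulAut.conj g (b : G) from rfl, MulEquiv.orderOf_eq]
    exact b.2
  rw [hcl]
  set C := Subgroup.centralizer ({(b : G)} : Set G)
  obtain ⟨R⟩ := (inferInstance : Nonempty (Sylow p C))
  by_cases hR : IsCyclic (R : Subgroup C)
  · obtain ⟨t, rfl⟩ : ∃ t, s = t + 1 := ⟨s - 1, by omega⟩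
    have hp1 : p ∣ Nat.card (ConjClasses.mk (b : G)).carrier := by
      by_contra hnd
      have hmul := Counting.card_carrier_mul (b : G)
      have hlt : Nat.card ((R : Subgroup C).map C.subtype) = Nat.card (S : Subgroup G) := by
        rw [Subgroup.card_map_of_injective C.subtype_injective, R.card_eq_multiplicity,
          S.card_eq_multiplicity, ← hmul, Nat.factorization_mul (Nat.card_pos_iff.2
            ⟨⟨⟨_, ConjClasses.mem_carrier_mk⟩⟩, inferInstance⟩).ne' Nat.card_pos.ne',
          Finsupp.add_apply, Nat.factorization_eq_zero_of_not_dvd hnd, zero_add]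
      obtain ⟨T, hT⟩ := (R.isPGroup'.map C.subtype).exists_le_sylow
      have hTeq : (R : Subgroup C).map C.subtype = (T : Subgroup G) :=
        Subgroup.eq_of_le_of_card_ge hT (by rw [hlt, T.card_eq_multiplicity, S.card_eq_multiplicity])
      refine hnc ?_
      haveI := hR
      haveI : IsCyclic (T : Subgroup G) := hTeq ▸ isCyclic_of_surjective
        ((R : Subgroup C).equivMapOfInjective _ C.subtype_injective).toMonoidHom (MulEquiv.surjective _)
      exact isCyclic_of_surjective (Sylow.equiv T S).toMonoidHom (MulEquiv.surjective _)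
    have ht : p ^ t ∣ c b := by
      refine dvd_trans ?_ (dvd_of_eq (card_order_eq (X := C) (p ^ (t + 1))).symm)
      rw [Nat.totient_prime_pow_succ hpr]
      exact (dvd_mul_right _ _).trans (dvd_mul_left _ _)
    rw [pow_succ']
    exact mul_dvd_mul hp1 ht
  · exact (sylow_case hp2 R hR hs).trans (dvd_mul_left _ _)

end Cfsg.Agent.S4003


set_option autoImplicit false
open Cfsg

namespace Cfsg.Agent.S4003

/-- Let G be a finite group, p an odd prime dividing the order of G whose Sylow p-subgroups are not cyclic, and n = p^s·m with s > 1 and m coprime to p. Then the number of elements of G of order n is a multiple of p^s. -/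
theorem result {G : Type*} [Group G] [Finite G] (p : ℕ) [Fact p.Prime] (hodd : p ≠ 2) (hpG : p ∣ Nat.card G)
    (P : Sylow p G) (hP : ¬ IsCyclic ↥(P : Subgroup G)) (s m : ℕ) (hs : 1 < s) (hm : Nat.Coprime p m) :
    p ^ s ∣ Nat.card {g : G // orderOf g = p ^ s * m} := by
  exact S4003.main (hp := inferInstance) hodd P hP hs hm

end Cfsg.Agent.S4003
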