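import Cfsg.Statements.S4004
import Cfsg.Agent.Lib.Recog.SameOrderFrobenius
-- import your own Cfsg.Agent.* helpers here

set_option autoImplicit false
open Cfsg

namespace Cfsg.Agent.S4004

/-- Let G be a finite group of odd order in which the numbers of elements of each order that occurs (the numbers #{g : o(g) = m}, m ranging over the element orders of G) take exactly three different values. Then the order of G has at most two prime divisors; and if it has exactly two, then every Sylow subgroup of G for a prime dividing its order has prime exponent, G is a Frobenius group, and some Frobenius complement of G has prime order. -/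
theorem result {G : Type*} [Group G] [Finite G] (hodd : Odd (Nat.card G)) (h : (((fun m : ℕ => Nat.card {g : G // orderOf g = m}) '' Set.range (orderOf : G → ℕ))).ncard = 3) :
    (Nat.card G).primeFactors.card ≤ 2 ∧
      ((Nat.card G).primeFactors.card = 2 →
        (∀ (p : ℕ) [Fact p.Prime] (P : Sylow p G), p ∣ Nat.card G → Monoid.exponent ↥(P : Subgroup G) = p) ∧
        ∃ C : Subgroup G, Cfsg.IsFrobeniusComplement C ∧ (Nat.card ↥C).Prime) := by
  classical
  obtain ⟨a, b, hV⟩ := SameOrder.exists_values h
  have h2 : ¬ 2 ∣ Nat.card G := fun h2 => by rw [Nat.odd_iff] at hodd; omega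
  have h1 : SameOrder.cnt G 2 ≤ 1 := by rw [SameOrder.cnt_two_eq_zero h2]; omega
  have hge : ∀ r ∈ (Nat.card G).primeFactors, 3 ≤ r := fun r hr => by
    have := (Nat.prime_of_mem_primeFactors hr).two_le
    rcases (show r = 2 ∨ 3 ≤ r by omega) with rfl | h3
    · exact absurd (Nat.dvd_of_mem_primeFactors hr) h2
    · exact h3
  have hle : (Nat.card G).primeFactors.card ≤ 2 := by
    rw [← Finset.filter_true_of_mem hge]
    exact SameOrder.card_odd_primes_le hV h1
  refine ⟨hle, fun htwo => ?_⟩
  obtain ⟨p, q, hpq, heq⟩ := Finset.card_eq_two.1 htwo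
  have hp : p ∈ (Nat.card G).primeFactors := by rw [heq]; simp
  have hq : q ∈ (Nat.card G).primeFactors := by rw [heq]; simp
  haveI := Fact.mk (Nat.prime_of_mem_primeFactors hp)
  haveI := Fact.mk (Nat.prime_of_mem_primeFactors hq)
  have hpd := Nat.dvd_of_mem_primeFactors hp
  have hqd := Nat.dvd_of_mem_primeFactors hq
  have hord := SameOrder.orders hV hodd (hge p hp) (hge q hq) hpq hpd hqd heq.le
  refine ⟨fun r _ R hrd => ?_, SameOrder.frobenius_of_two_orders (hge p hp) (hge q hq) hpq hpd hqd
    (SameOrder.isSolvable_of_values hV) hord⟩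
  have hr : r.Prime := Fact.out
  haveI : Nontrivial ↥(R : Subgroup G) := by
    rw [← Finite.one_lt_card_iff_nontrivial, Sylow.card_eq_multiplicity]
    exact Nat.one_lt_pow (hr.factorization_pos_of_dvd Nat.card_pos.ne' hrd).ne' hr.one_lt
  refine (Monoid.exponent_eq_prime_iff hr).2 fun x hx => ?_
  obtain ⟨k, hk⟩ := IsPGroup.iff_orderOf.1 R.2 x
  rw [← Subgroup.orderOf_coe] at hk ⊢
  have hx1 : orderOf (x : G) ≠ 1 := fun e => hx (Subtype.ext (orderOf_eq_one_iff.1 e))
  rcases hord x with e | e | e
  · exact absurd e hx1
  all_goals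
    rw [e] at hk ⊢
    exact (Nat.prime_dvd_prime_iff_eq Fact.out hr).1 (Nat.Prime.dvd_of_dvd_pow Fact.out (dvd_of_eq hk))

end Cfsg.Agent.S4004
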