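import Cfsg.Statements.S4005
import Cfsg.Agent.Lib.Char.Burnside
import Cfsg.Agent.Lib.FiniteGroup.CyclicPGroup
import Cfsg.Agent.Lib.Solvable.Basic
import Mathlib.Tactic.NormNum.Prime

set_option autoImplicit false
set_option linter.style.haveILetI false

set_option autoImplicit false
open Cfsg

namespace Cfsg.Agent.S4005

/-- A finite group whose set of element orders is exactly {1, 2, 3} has either a normal elementary abelian 3-subgroup of index 2 or a normal elementary abelian 2-subgroup of index 3. -/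
theorem result {G : Type*} [Group G] [Finite G] (h : Set.range (orderOf : G → ℕ) = {k : ℕ | 1 ≤ k ∧ k ≤ 3}) :
    (∃ N : Subgroup G, N.Normal ∧ Cfsg.IsElementaryAbelian 3 N ∧ N.index = 2) ∨
      (∃ N : Subgroup G, N.Normal ∧ Cfsg.IsElementaryAbelian 2 N ∧ N.index = 3) := by
  classical
  have hmem : ∀ g : G, 1 ≤ orderOf g ∧ orderOf g ≤ 3 := fun g => by
    have hg : orderOf g ∈ Set.range (orderOf : G → ℕ) := ⟨g, rfl⟩
    rwa [h] at hg
  have hex : ∀ k : ℕ, 1 ≤ k → k ≤ 3 → ∃ g : G, orderOf g = k := fun k h1 h2 => by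
    have hk : k ∈ Set.range (orderOf : G → ℕ) := by rw [h]; exact ⟨h1, h2⟩
    exact hk
  have h2 : Fact (Nat.Prime 2) := ⟨Nat.prime_two⟩
  have h3 : Fact (Nat.Prime 3) := ⟨Nat.prime_three⟩
  obtain ⟨g2, hg2⟩ := hex 2 (by norm_num) (by norm_num)
  obtain ⟨g3, hg3⟩ := hex 3 (by norm_num) (by norm_num)
  -- elements of coprime order never commute
  have h6 : ∀ x y : G, orderOf x = 2 → orderOf y = 3 → x * y ≠ y * x := by
    intro x y hx hy hxy
    have hc : Nat.Coprime (orderOf x) (orderOf y) := by rw [hx, hy]; norm_num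
    have hm := (show Commute x y from hxy).orderOf_mul_eq_mul_orderOf_of_coprime hc
    have := (hmem (x * y)).2
    rw [hm, hx, hy] at this
    omega
  -- elements of a `q`-subgroup have order dividing `q`
  have hexp : ∀ q : ℕ, q = 2 ∨ q = 3 → ∀ (R : Subgroup G), IsPGroup q R → ∀ x ∈ R, x ^ q = 1 := by
    intro q hq R hR x hx
    obtain ⟨k, hk⟩ := hR ⟨x, hx⟩
    have hk' : x ^ q ^ k = 1 := by simpa using congrArg Subtype.val hk
    have hle := hmem x
    rw [← orderOf_dvd_iff_pow_eq_one] at hk' ⊢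
    have hqp : q.Prime := by rcases hq with rfl | rfl <;> norm_num
    obtain ⟨i, -, hi⟩ := (Nat.dvd_prime_pow hqp).1 hk'
    rcases i with _ | _ | i
    · rw [hi, pow_zero]; exact one_dvd q
    · rw [hi, pow_one]
    · exfalso
      rw [show i + 1 + 1 = i + 2 from rfl] at hi
      have h4 : 2 ^ 2 ≤ q ^ (i + 2) :=
        (Nat.pow_le_pow_left hqp.two_le 2).trans (Nat.pow_le_pow_right hqp.pos (by omega))
      omega
  have hord : ∀ q : ℕ, q = 2 ∨ q = 3 → ∀ (R : Subgroup G), IsPGroup q R → ∀ x ∈ R, x ≠ 1 →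
      orderOf x = q := by
    intro q hq R hR x hx hx1
    have hqp : q.Prime := by rcases hq with rfl | rfl <;> norm_num
    haveI := Fact.mk hqp
    exact orderOf_eq_prime (hexp q hq R hR x hx) hx1
  -- the order is `2 ^ a * 3 ^ b`
  have hprimes : ∀ q : ℕ, q.Prime → q ∣ Nat.card G → q = 2 ∨ q = 3 := by
    intro q hq hqG
    haveI := Fact.mk hq
    obtain ⟨g, hg⟩ := exists_prime_orderOf_dvd_card' (G := G) q hqG
    have := (hmem g).2
    have := hq.two_le
    omega
  obtain ⟨a, r, hr, hn⟩ := Nat.exists_eq_pow_mul_and_not_dvd (Nat.card_pos (α := G)).ne' 2 (by norm_num)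
  have hr0 : r ≠ 0 := fun h0 => hr (h0 ▸ dvd_zero 2)
  obtain ⟨b, w, hw, hrw⟩ := Nat.exists_eq_pow_mul_and_not_dvd hr0 3 (by norm_num)
  have hw1 : w = 1 := by
    by_contra hne
    obtain ⟨q, hq, hqw⟩ := Nat.exists_prime_and_dvd hne
    rcases hprimes q hq (by rw [hn, hrw]; exact (hqw.mul_left _).mul_left _) with rfl | rfl
    · exact hr (hrw ▸ hqw.mul_left _)
    · exact hw hqw
  subst hw1
  rw [mul_one] at hrw
  subst hrw
  haveI : Group.IsSolvable G :=
    Cfsg.Agent.Char.isSolvable_of_card_pq 2 3 Nat.prime_two Nat.prime_three _ G rfl ⟨a, b, hn⟩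
  haveI : Nontrivial G := ⟨⟨g2, 1, fun h1 => by simp [h1] at hg2⟩⟩
  obtain ⟨N, p, hp, hNn, hN1, -, hNc, hNexp, hNp, -⟩ :=
    Cfsg.Agent.SolvBasic.exists_minimal_normal_abelian (N := (⊤ : Subgroup G)) inferInstance top_ne_bot
  obtain ⟨n, hn0, hn1⟩ : ∃ n ∈ N, n ≠ 1 := by
    by_contra hne
    push_neg at hne
    exact hN1 ((Subgroup.eq_bot_iff_forall N).2 hne)
  have hon : orderOf n = p := by
    haveI := Fact.mk hp
    exact orderOf_eq_prime (hNexp n hn0) hn1
  have hp23 : p = 2 ∨ p = 3 := hprimes p hp (hon ▸ orderOf_dvd_natCard n)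
  rcases hp23 with rfl | rfl
  · -- `N` is a 2-group
    refine Or.inr ?_
    set C := Subgroup.centralizer (N : Set G) with hC
    have hCn : C.Normal := inferInstance
    have hC2 : IsPGroup 2 C := by
      intro c
      refine ⟨1, Subtype.ext ?_⟩
      have hc := hmem (c : G)
      have hne3 : orderOf (c : G) ≠ 3 := fun h' =>
        h6 n c hon h' (Subgroup.mem_centralizer_iff.1 c.2 n hn0)
      have h12 : orderOf (c : G) ∣ 2 := by
        rcases (by omega : orderOf (c : G) = 1 ∨ orderOf (c : G) = 2) with h' | h' <;> rw [h'] <;> norm_num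
      simpa using orderOf_dvd_iff_pow_eq_one.1 h12
    obtain ⟨P, hCP⟩ := hC2.exists_le_sylow
    obtain ⟨P', hNP⟩ := hNp.exists_le_sylow
    obtain ⟨y, hy⟩ := MulAction.exists_smul_eq G P' P
    have hNP' : N ≤ P := by
      intro x hx
      rw [← hy, Sylow.coe_subgroup_smul, Subgroup.mem_pointwise_smul_iff_inv_smul_mem]
      refine hNP ?_
      simpa [MulAut.smul_def] using hNn.conj_mem x hx y⁻¹
    have hPab : ∀ x ∈ (P : Subgroup G), ∀ z ∈ (P : Subgroup G), x * z = z * x := by
      intro x hx z hz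
      have e : ∀ w ∈ (P : Subgroup G), w⁻¹ = w := fun w hw => by
        rw [inv_eq_iff_mul_eq_one, ← sq]; exact hexp 2 (Or.inl rfl) _ P.isPGroup' w hw
      rw [← e (x * z) (mul_mem hx hz), mul_inv_rev, e x hx, e z hz]
    have hPC : (P : Subgroup G) = C :=
      le_antisymm (fun x hx => Subgroup.mem_centralizer_iff.2 fun z hz => hPab z (hNP' hz) x hx) hCP
    refine ⟨P, hPC ▸ hCn, ⟨.of_setLike_mul_comm hPab, hexp 2 (Or.inl rfl) _ P.isPGroup'⟩, ?_⟩
    obtain ⟨Q⟩ : Nonempty (Sylow 3 G) := inferInstance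
    have hQcyc : IsCyclic (Q : Subgroup G) := by
      refine Cfsg.Agent.CyclicPGroup.isCyclic_of_fixedPointFree (K := N) (by norm_num) Q.isPGroup' ?_ ?_ hN1 ?_
      · rw [Subgroup.normalizer_eq_top]; exact le_top
      · obtain ⟨i, hi⟩ := IsPGroup.iff_card.1 Q.isPGroup'
        obtain ⟨i', hi'⟩ := IsPGroup.iff_card.1 hNp
        rw [hi, hi']
        exact Nat.Coprime.pow _ _ (by norm_num)
      · intro x hx hx1 k hk hk1 hxk
        refine h6 k x ?_ (hord 3 (Or.inr rfl) _ Q.isPGroup' x hx hx1) hxk.symm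
        exact orderOf_eq_prime (hNexp k hk) hk1
    obtain ⟨q, hq⟩ := IsCyclic.exists_ofOrder_eq_natCard (α := (Q : Subgroup G))
    have hQle : Nat.card (Q : Subgroup G) ≤ 3 := by
      rw [← hq, ← Subgroup.orderOf_coe]; exact (hmem _).2
    have hfac : (Nat.card G).factorization 3 = b := by
      rw [hn, Nat.factorization_mul (by positivity) (by positivity), Nat.factorization_pow,
        Nat.factorization_pow, Nat.prime_two.factorization, Nat.prime_three.factorization]
      simp
    have hfac2 : (Nat.card G).factorization 2 = a := by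
      rw [hn, Nat.factorization_mul (by positivity) (by positivity), Nat.factorization_pow,
        Nat.factorization_pow, Nat.prime_two.factorization, Nat.prime_three.factorization]
      simp
    rw [Q.card_eq_multiplicity, hfac] at hQle
    have hb : b = 1 := by
      have hb0 : b ≠ 0 := fun h0 => by
        have h3G : 3 ∣ 2 ^ a * 3 ^ b := hn ▸ hg3 ▸ orderOf_dvd_natCard g3
        rw [h0, pow_zero, mul_one] at h3G
        exact absurd (Nat.Prime.dvd_of_dvd_pow Nat.prime_three h3G) (by norm_num)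
      by_contra hb1
      have : 3 ^ 2 ≤ 3 ^ b := Nat.pow_le_pow_right (by norm_num) (by omega)
      omega
    have hmul := (P : Subgroup G).card_mul_index
    rw [P.card_eq_multiplicity, hfac2, hn, hb, pow_one] at hmul
    exact Nat.eq_of_mul_eq_mul_left (by positivity) hmul
  · -- `N` is a 3-group
    refine Or.inl ?_
    obtain ⟨Q⟩ : Nonempty (Sylow 2 G) := inferInstance
    have hinv : ∀ x ∈ (Q : Subgroup G), x ≠ 1 → ∀ m ∈ N, x * m * x⁻¹ = m⁻¹ := by
      intro x hx hx1 m hm
      have hm' := hNn.conj_mem m hm x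
      have hxx : x * x = 1 := by rw [← sq]; exact hexp 2 (Or.inl rfl) _ Q.isPGroup' x hx
      have hxi : x⁻¹ = x := inv_eq_of_mul_eq_one_right hxx
      set d := m * (x * m * x⁻¹) with hd
      have hd1 : d = 1 := by
        by_contra hd1
        refine h6 x d (hord 2 (Or.inl rfl) _ Q.isPGroup' x hx hx1)
          (orderOf_eq_prime (hNexp d (mul_mem hm hm')) hd1) ?_
        rw [hd]
        calc x * (m * (x * m * x⁻¹)) = (x * m * x⁻¹) * (x * x * m) * x⁻¹ := by group
          _ = (x * m * x⁻¹) * m * x⁻¹ := by rw [hxx, one_mul]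
          _ = m * (x * m * x⁻¹) * x⁻¹ := by rw [setLike_mul_comm hm' hm]
          _ = m * (x * m * x⁻¹) * x := by rw [hxi]
      exact eq_inv_of_mul_eq_one_right hd1
    have huniq : ∀ x ∈ (Q : Subgroup G), x ≠ 1 → ∀ z ∈ (Q : Subgroup G), z ≠ 1 → x = z := by
      intro x hx hx1 z hz hz1
      by_contra hne
      have hxz : z⁻¹ * x ≠ 1 := fun h' => hne (inv_mul_eq_one.1 h').symm
      refine h6 (z⁻¹ * x) n (hord 2 (Or.inl rfl) _ Q.isPGroup' _ (mul_mem (inv_mem hz) hx) hxz) hon ?_
      have e1 := hinv x hx hx1 n hn0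
      have e2 := hinv z hz hz1 n hn0
      calc z⁻¹ * x * n = z⁻¹ * (x * n * x⁻¹) * x := by group
        _ = z⁻¹ * (z * n * z⁻¹) * x := by rw [e1, e2]
        _ = n * (z⁻¹ * x) := by group
    have hQle : Nat.card (Q : Subgroup G) ≤ 2 := by
      by_contra hlt
      push_neg at hlt
      haveI := Fintype.ofFinite (Q : Subgroup G)
      rw [Nat.card_eq_fintype_card] at hlt
      obtain ⟨x, y, z, hxy, hxz, hyz⟩ := (Fintype.two_lt_card_iff).1 hlt
      have key : ∀ u w : (Q : Subgroup G), u ≠ 1 → w ≠ 1 → u = w := fun u w hu hw =>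
        Subtype.ext (huniq u u.2 (fun h' => hu (Subtype.ext h')) w w.2 (fun h' => hw (Subtype.ext h')))
      by_cases hx : x = 1
      · exact hyz (key y z (fun h' => hxy (hx.trans h'.symm)) (fun h' => hxz (hx.trans h'.symm)))
      · by_cases hy : y = 1
        · exact hxz (key x z hx (fun h' => hyz (hy.trans h'.symm)))
        · exact hxy (key x y hx hy)
    have hfac : (Nat.card G).factorization 2 = a := by
      rw [hn, Nat.factorization_mul (by positivity) (by positivity), Nat.factorization_pow,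
        Nat.factorization_pow, Nat.prime_two.factorization, Nat.prime_three.factorization]
      simp
    have hfac3 : (Nat.card G).factorization 3 = b := by
      rw [hn, Nat.factorization_mul (by positivity) (by positivity), Nat.factorization_pow,
        Nat.factorization_pow, Nat.prime_two.factorization, Nat.prime_three.factorization]
      simp
    rw [Q.card_eq_multiplicity, hfac] at hQle
    have ha : a = 1 := by
      have ha0 : a ≠ 0 := fun h0 => by
        have h2G : 2 ∣ 2 ^ a * 3 ^ b := hn ▸ hg2 ▸ orderOf_dvd_natCard g2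
        rw [h0, pow_zero, one_mul] at h2G
        exact absurd (Nat.Prime.dvd_of_dvd_pow Nat.prime_two h2G) (by norm_num)
      by_contra ha1
      have : 2 ^ 2 ≤ 2 ^ a := Nat.pow_le_pow_right (by norm_num) (by omega)
      omega
    obtain ⟨P⟩ : Nonempty (Sylow 3 G) := inferInstance
    have hidx : (P : Subgroup G).index = 2 := by
      have hmul := (P : Subgroup G).card_mul_index
      rw [P.card_eq_multiplicity, hfac3, hn, ha, pow_one, mul_comm 2] at hmul
      exact Nat.eq_of_mul_eq_mul_left (by positivity) hmul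
    have hPn := Subgroup.normal_of_index_eq_two hidx
    have hg22 : g2 * g2 = 1 := by rw [← sq, ← hg2, pow_orderOf_eq_one]
    have hginv : ∀ x ∈ (P : Subgroup G), g2 * x * g2⁻¹ = x⁻¹ := by
      have hinj : Function.Injective (fun x : (P : Subgroup G) =>
          (⟨(x : G)⁻¹ * (g2 * x * g2⁻¹), mul_mem (inv_mem x.2) (hPn.conj_mem x x.2 g2)⟩ : (P : Subgroup G))) := by
        intro x y hxy
        have hxy' : (x : G)⁻¹ * (g2 * x * g2⁻¹) = (y : G)⁻¹ * (g2 * y * g2⁻¹) := congrArg Subtype.val hxy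
        by_contra hne
        have hd : (y : G) * (x : G)⁻¹ ≠ 1 := fun h' => hne (Subtype.ext (mul_inv_eq_one.1 h').symm)
        refine h6 g2 ((y : G) * (x : G)⁻¹) hg2
          (hord 3 (Or.inr rfl) _ P.isPGroup' _ (mul_mem y.2 (inv_mem x.2)) hd) ?_
        calc g2 * ((y : G) * (x : G)⁻¹)
            = (y : G) * ((y : G)⁻¹ * (g2 * y * g2⁻¹)) * g2 * (x : G)⁻¹ := by group
          _ = (y : G) * ((x : G)⁻¹ * (g2 * x * g2⁻¹)) * g2 * (x : G)⁻¹ := by rw [hxy']
          _ = (y : G) * (x : G)⁻¹ * g2 := by group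
      intro z hz
      obtain ⟨x, hx⟩ := Finite.surjective_of_injective hinj ⟨z, hz⟩
      have hx' : (x : G)⁻¹ * (g2 * x * g2⁻¹) = z := congrArg Subtype.val hx
      rw [← hx', show g2 * ((x : G)⁻¹ * (g2 * x * g2⁻¹)) * g2⁻¹ =
        g2 * (x : G)⁻¹ * g2⁻¹ * (g2 * g2 * x * (g2 * g2)⁻¹) by group, hg22]
      group
    refine ⟨P, hPn, ⟨.of_setLike_mul_comm fun x hx z hz => ?_, hexp 3 (Or.inr rfl) _ P.isPGroup'⟩, hidx⟩
    have h1 := hginv (x * z) (mul_mem hx hz)
    rw [show g2 * (x * z) * g2⁻¹ = g2 * x * g2⁻¹ * (g2 * z * g2⁻¹) by group, hginv x hx, hginv z hz,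
      mul_inv_rev] at h1
    calc x * z = (z⁻¹ * x⁻¹)⁻¹ := by group
      _ = (x⁻¹ * z⁻¹)⁻¹ := by rw [h1]
      _ = z * x := by group

end Cfsg.Agent.S4005
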