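import Cfsg.Statements.S4009
import Cfsg.Agent.Lib.DerivedLength.Basic

set_option autoImplicit false
open Cfsg

namespace Cfsg.Agent.S4009

/-- Let P be a finite p-group of order p^n whose derived length is exactly k + 1 (the k-th derived subgroup is nontrivial and the (k+1)-st is trivial). Then n ≥ 2^k + 2k − 2. -/
theorem result {P : Type*} [Group P] [Finite P] (p : ℕ) [Fact p.Prime] (n k : ℕ) (hcard : Nat.card P = p ^ n) (hk : derivedSeries P k ≠ ⊥) (hk' : derivedSeries P (k + 1) = ⊥) : 2 ^ k + 2 * k ≤ n + 2 := by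
  classical
  have hG : IsPGroup p P := IsPGroup.of_card hcard
  have hne : ∀ j < k, ⁅derivedSeries P j, derivedSeries P j⁆ ≠ ⊥ := by
    intro j hj h
    apply hk
    rw [eq_bot_iff]
    exact (derivedSeries_antitone P (show j + 1 ≤ k by omega)).trans_eq h
  have hW : ∀ j, derivedSeries P j ≤ DerivedLength.L P (2 ^ j - 1) := by
    intro j
    induction j with
    | zero => exact le_of_eq rfl
    | succ j ih =>
      refine (Subgroup.commutator_mono ih ih).trans ((DerivedLength.lcs_mul _ _).trans ?_)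
      refine (⊤ : Subgroup P).lowerCentralSeries_antitone ?_
      have := Nat.one_le_two_pow (n := j)
      rw [pow_succ]
      omega
  have main : ∀ j ≤ k, ∃ t : ℕ, p ^ t ∣ (derivedSeries P j).index ∧
      (2 ^ j + 2 * j ≤ t + 1 ∨
        (2 ^ j + 2 * j ≤ t + 2 ∧ DerivedLength.Cyc (derivedSeries P j)) ∨
        (2 ^ j + 2 * j ≤ t + 3 ∧ derivedSeries P j ≤ DerivedLength.L P (2 ^ j))) := by
    intro j
    induction j with
    | zero => intro _; exact ⟨0, by simp, Or.inl (by simp)⟩
    | succ j ih =>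
      intro hj
      obtain ⟨t, ht, hs⟩ := ih (by omega)
      haveI := derivedSeries_normal P j
      have hnj := hne j (by omega)
      have hle : derivedSeries P (j + 1) ≤ derivedSeries P j := derivedSeries_antitone P (Nat.le_succ j)
      have hmul : ∀ e, p ^ e ∣ (⁅derivedSeries P j, derivedSeries P j⁆).relIndex (derivedSeries P j) →
          p ^ (e + t) ∣ (derivedSeries P (j + 1)).index := by
        intro e he
        rw [← Subgroup.relIndex_mul_index hle, pow_add]
        exact Nat.mul_dvd_mul he ht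
      have h1 := Nat.one_le_two_pow (n := j)
      have h2 : 2 ^ (j + 1) = 2 * 2 ^ j := by rw [pow_succ]; ring
      obtain ⟨hb, hc⟩ := DerivedLength.section_bound hG (hW j) hnj
      have hshift : DerivedLength.Cyc (derivedSeries P j) →
          derivedSeries P (j + 1) ≤ DerivedLength.L P (2 ^ (j + 1)) := fun hcy =>
        (DerivedLength.cyc_step (hW j) hcy).2.trans
          ((⊤ : Subgroup P).lowerCentralSeries_antitone (by omega))
      rcases hs with hA | ⟨hB, hcy⟩ | ⟨hC, hd⟩
      · rcases hc with hcy | h3 | hcy'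
        · exact ⟨_, hmul _ hb, Or.inr (Or.inr ⟨by omega, hshift hcy⟩)⟩
        · exact ⟨_, hmul _ h3, Or.inl (by omega)⟩
        · exact ⟨_, hmul _ hb, Or.inr (Or.inl ⟨by omega, hcy'⟩)⟩
      · exact ⟨_, hmul _ hb, Or.inr (Or.inr ⟨by omega, hshift hcy⟩)⟩
      · refine ⟨_, hmul _ (DerivedLength.section_bound hG hd hnj).1, Or.inr (Or.inr ⟨by omega, ?_⟩)⟩
        exact (Subgroup.commutator_mono hd hd).trans ((DerivedLength.lcs_mul _ _).trans
          ((⊤ : Subgroup P).lowerCentralSeries_antitone (by omega)))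
  obtain ⟨t, ht, hs⟩ := main k le_rfl
  have hp : p.Prime := Fact.out
  have hlast : p ∣ Nat.card (derivedSeries P k) := by
    obtain ⟨i, hi⟩ := IsPGroup.iff_card.1 (hG.to_subgroup (derivedSeries P k))
    rw [hi]
    refine dvd_pow_self p fun h0 => hk (Subgroup.card_eq_one.1 ?_)
    rw [hi, h0, pow_zero]
  have hd : p ^ (1 + t) ∣ p ^ n := by
    rw [← hcard, ← (derivedSeries P k).card_mul_index, pow_add, pow_one]
    exact Nat.mul_dvd_mul hlast ht
  have := (Nat.pow_dvd_pow_iff_le_right hp.one_lt).1 hd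
  rcases hs with h | ⟨h, -⟩ | ⟨h, -⟩ <;> omega

end Cfsg.Agent.S4009
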