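import Cfsg.Statements.S4013
import Cfsg.Agent.Lib.FGStruct.Counting
import Cfsg.Agent.Lib.Transfer.Basic

set_option autoImplicit false
set_option linter.style.haveILetI false

set_option autoImplicit false
open Cfsg

namespace Cfsg.Agent.S4013

/-- Let G be a finite p-group (p prime) and N < M normal subgroups of G such that for some g ∈ M ∖ N the conjugacy class of g is exactly M ∖ N. Then p = 2 and N has index 2 in M. -/
theorem result {G : Type*} [Group G] [Finite G] (p : ℕ) [Fact p.Prime] (hG : IsPGroup p G) (N M : Subgroup G) [N.Normal] [M.Normal] (hNM : N < M) (g : G) (hgM : g ∈ M) (hgN : g ∉ N) (hcl : {h : G | IsConj g h} = (M : Set G) \ (N : Set G)) : p = 2 ∧ N.relIndex M = 2 := by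
  classical
  have hp : p.Prime := Fact.out
  obtain ⟨a, ha⟩ : ∃ a, (ConjClasses.mk g).carrier.ncard = p ^ a := by
    obtain ⟨n, hn⟩ := IsPGroup.iff_card.1 hG
    have hd : (ConjClasses.mk g).carrier.ncard ∣ p ^ n := by
      rw [← hn, ← Nat.card_coe_set_eq, ← Cfsg.Agent.Counting.card_carrier_mul g]
      exact dvd_mul_right _ _
    obtain ⟨a, -, ha⟩ := (Nat.dvd_prime_pow hp).1 hd
    exact ⟨a, ha⟩
  have hset : (ConjClasses.mk g).carrier = (M : Set G) \ (N : Set G) := by
    rw [← hcl]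
    ext h
    rw [ConjClasses.mem_carrier_iff_mk_eq, ConjClasses.mk_eq_mk_iff_isConj]
    exact isConj_comm
  rw [hset, Set.ncard_diff (fun x hx => hNM.le hx) (Set.toFinite _), ← Nat.card_coe_set_eq,
    ← Nat.card_coe_set_eq] at ha
  have hmul : Nat.card N * N.relIndex M = Nat.card M := Cfsg.Agent.PBasic.card_mul_relIndex hNM.le
  obtain ⟨j, hj⟩ := IsPGroup.iff_card.1 (hG.to_subgroup N)
  obtain ⟨i, hi⟩ : ∃ i, N.relIndex M = p ^ i := by
    obtain ⟨l, hl⟩ := IsPGroup.iff_card.1 (hG.to_subgroup M)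
    obtain ⟨i, -, hi⟩ := (Nat.dvd_prime_pow hp).1 (hl ▸ Dvd.intro_left _ hmul)
    exact ⟨i, hi⟩
  have hi0 : i ≠ 0 := fun h => by
    rw [h, pow_zero, Subgroup.relIndex_eq_one] at hi
    exact absurd hi (not_le_of_gt hNM)
  change Nat.card M - Nat.card N = p ^ a at ha
  rw [← hmul, hj, hi, ← Nat.mul_sub_one] at ha
  have hd : p ^ i - 1 ∣ p ^ a := Dvd.intro_left _ ha
  obtain ⟨b, -, hb⟩ := (Nat.dvd_prime_pow hp).1 hd
  have h2 := hp.two_le
  have hge : p ≤ p ^ i := Nat.le_self_pow hi0 p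
  rcases Nat.eq_zero_or_pos b with rfl | hb0
  · rw [pow_zero] at hb
    have hpi : p ^ i = 2 := by omega
    have hp2 : p = 2 := by omega
    exact ⟨hp2, hi.trans hpi⟩
  · exfalso
    have h3 : p ∣ p ^ i := dvd_pow_self p hi0
    have h4 : p ∣ p ^ i - 1 := hb ▸ dvd_pow_self p hb0.ne'
    have := Nat.dvd_sub h3 h4
    rw [show p ^ i - (p ^ i - 1) = 1 by omega] at this
    exact hp.not_dvd_one this

end Cfsg.Agent.S4013
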