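import Cfsg.Statements.S4016
import Mathlib
import Cfsg.Agent.S0082
import Cfsg.Agent.S0182
import Cfsg.Agent.Lib.CharP.AxB
import Cfsg.Agent.Lib.Transfer.Abelian
import Cfsg.Agent.Lib.FGStruct.AbelianSylow

set_option autoImplicit false
set_option linter.style.haveILetI false

namespace Cfsg.Agent.S4016

open scoped Pointwise commutatorElement

universe u

variable {G : Type u} [Group G] [Finite G] {p : ℕ} [hp : Fact p.Prime]

omit [Finite G] in
/-- A `p'`-element normalizing a cyclic `p`-subgroup either centralizes it or fixes only the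
identity, in which case its commutators exhaust the subgroup. -/
theorem cyclic_action [Finite G] (P : Subgroup G) (hc : IsCyclic P) (hP : IsPGroup p P) {k : G}
    (hk : k ∈ Subgroup.normalizer (P : Set G)) (hko : (orderOf k).Coprime p) :
    (∀ w ∈ P, k * w = w * k) ∨
      ((∀ w ∈ P, k * w = w * k → w = 1) ∧ ∀ w ∈ P, ∃ v ∈ P, k * v * k⁻¹ * v⁻¹ = w) := by
  haveI := hc
  let φ : P →* P :=
    { toFun := fun w => ⟨k * w * k⁻¹ * (w : G)⁻¹,
        P.mul_mem ((Subgroup.mem_normalizer_iff.1 hk w).1 w.2) (P.inv_mem w.2)⟩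
      map_one' := Subtype.ext (by simp)
      map_mul' := fun a b => by
        have h1 := mul_comm' (⟨k * a * k⁻¹, (Subgroup.mem_normalizer_iff.1 hk a).1 a.2⟩ : P)
        have h2 : (a : G)⁻¹ * (k * b * k⁻¹ * (b : G)⁻¹) = (k * b * k⁻¹ * (b : G)⁻¹) * (a : G)⁻¹ :=
          congrArg Subtype.val (mul_comm' (a⁻¹ : P) ⟨k * b * k⁻¹ * (b : G)⁻¹,
            P.mul_mem ((Subgroup.mem_normalizer_iff.1 hk b).1 b.2) (P.inv_mem b.2)⟩)
        apply Subtype.ext
        show k * ((a : G) * b) * k⁻¹ * ((a : G) * b)⁻¹ =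
          (k * a * k⁻¹ * (a : G)⁻¹) * (k * b * k⁻¹ * (b : G)⁻¹)
        rw [mul_assoc (k * (a : G) * k⁻¹) (a : G)⁻¹, h2]
        group }
  have hφ : ∀ w : P, φ w = 1 ↔ k * (w : G) = w * k := fun w => by
    rw [← Subtype.coe_inj]
    show k * w * k⁻¹ * (w : G)⁻¹ = 1 ↔ _
    rw [mul_inv_eq_one, mul_inv_eq_iff_eq_mul]
  have hcop : ∀ w ∈ φ.range, φ w = 1 → w = 1 := by
    rintro w ⟨v, rfl⟩ h
    have hw : k * (φ v : G) = φ v * k := (hφ _).1 h
    have hv : k * v * k⁻¹ = (φ v : G) * v := by
      show _ = k * v * k⁻¹ * (v : G)⁻¹ * v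
      group
    have hj : ∀ j : ℕ, k ^ j * v * (k ^ j)⁻¹ = (φ v : G) ^ j * v := by
      intro j
      induction j with
      | zero => simp
      | succ j ih =>
        calc k ^ (j + 1) * v * (k ^ (j + 1))⁻¹ = k * (k ^ j * v * (k ^ j)⁻¹) * k⁻¹ := by
              rw [pow_succ']; group
          _ = k * ((φ v : G) ^ j * v) * k⁻¹ := by rw [ih]
          _ = (k * (φ v : G) ^ j) * (v * k⁻¹) := by group
          _ = ((φ v : G) ^ j * k) * (v * k⁻¹) := by rw [(Commute.pow_right hw j).eq]
          _ = (φ v : G) ^ j * (k * v * k⁻¹) := by group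
          _ = _ := by rw [hv, ← mul_assoc, ← pow_succ]
    have h1 := hj (orderOf k)
    rw [pow_orderOf_eq_one, one_mul, inv_one, mul_one] at h1
    have h2 : orderOf (φ v : G) ∣ orderOf k :=
      orderOf_dvd_of_pow_eq_one (mul_right_cancel (h1.symm.trans (one_mul (v : G)).symm))
    exact Subtype.ext (PBasic.eq_one_of_isPGroup_of_coprime hP (φ v).2
      (hko.coprime_dvd_left h2))
  rcases S0082.eq_bot_or_eq_bot hP φ.ker φ.range
    (eq_bot_iff.2 fun w hw => Subgroup.mem_bot.2 (hcop w hw.2 hw.1)) with h | h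
  · right
    refine ⟨fun w hw hkw => ?_, fun w hw => ?_⟩
    · have : (⟨w, hw⟩ : P) ∈ φ.ker := (hφ _).2 hkw
      rw [h, Subgroup.mem_bot] at this
      exact congrArg Subtype.val this
    · obtain ⟨v, hv⟩ := Finite.surjective_of_injective (φ.ker_eq_bot_iff.1 h) ⟨w, hw⟩
      exact ⟨v, v.2, congrArg Subtype.val hv⟩
  · left
    intro w hw
    have : φ ⟨w, hw⟩ ∈ φ.range := ⟨_, rfl⟩
    rw [h, Subgroup.mem_bot] at this
    exact (hφ _).1 this

omit [Finite G] hp in
theorem comm_of_abelian {H : Subgroup G} (h : IsMulCommutative H) {a b : G} (ha : a ∈ H)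
    (hb : b ∈ H) : a * b = b * a := by
  haveI := h
  exact congrArg Subtype.val (mul_comm' (⟨a, ha⟩ : H) ⟨b, hb⟩)

theorem card_sup_dvd_normalizer {H K : Subgroup G} (h : H ≤ Subgroup.normalizer (K : Set G)) :
    Nat.card (H ⊔ K : Subgroup G) ∣ Nat.card H * Nat.card K := by
  set N := Subgroup.normalizer (K : Set G)
  haveI : (K.subgroupOf N).Normal := Subgroup.normal_in_normalizer
  have hK : K ≤ N := Subgroup.le_normalizer
  have := AxB.card_sup_dvd (H.subgroupOf N) (K.subgroupOf N)
  rwa [← Subgroup.subgroupOf_sup h hK, Nat.card_congr (Subgroup.subgroupOfEquivOfLe (sup_le h hK)).toEquiv,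
    Nat.card_congr (Subgroup.subgroupOfEquivOfLe h).toEquiv,
    Nat.card_congr (Subgroup.subgroupOfEquivOfLe hK).toEquiv] at this

/-- The hypotheses on a hypothetical simple counterexample. -/
structure Ctx (G : Type u) [Group G] (p : ℕ) : Prop where
  hab : ∀ H : Subgroup G, ¬ p ∣ Nat.card H → IsMulCommutative H
  hcyc : ∀ P : Sylow p G, IsCyclic P
  hsub : ∀ H : Subgroup G, H ≠ ⊤ → Cfsg.HasNormalPComplement p H ∨
    ∀ S : Sylow p H, (S : Subgroup H).Normal
  hsimple : ∀ N : Subgroup G, N.Normal → N = ⊥ ∨ N = ⊤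
  hnab : ¬ ∀ a b : G, a * b = b * a
  hnn : ∀ P : Sylow p G, ¬ (P : Subgroup G).Normal
  hact : ∀ P : Sylow p G, ∃ k ∈ Subgroup.normalizer (P : Set G), (orderOf k).Coprime p ∧
    ¬ ∀ w ∈ P, k * w = w * k

variable (X : Ctx G p)
include X

theorem centralizer_ne_top {x : G} (hx : x ≠ 1) :
    Subgroup.centralizer ({x} : Set G) ≠ ⊤ := by
  intro h
  rcases X.hsimple (Subgroup.center G) inferInstance with hz | hz
  · exact hx ((Subgroup.eq_bot_iff_forall _).1 hz x (Subgroup.mem_center_iff.2 fun g =>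
      (Subgroup.mem_centralizer_singleton_iff.1 (h ▸ Subgroup.mem_top g))))
  · exact X.hnab fun a b => Subgroup.mem_center_iff.1 (hz ▸ Subgroup.mem_top b) a

/-- The `p'`-elements of a proper subgroup commute, or its Sylow `p`-subgroup is normal. -/
theorem dichotomy {H : Subgroup G} (hH : H ≠ ⊤) :
    (∃ M : Subgroup G, M ≤ H ∧ ¬ p ∣ Nat.card M ∧ H ≤ Subgroup.normalizer (M : Set G) ∧
        ∀ a ∈ H, (orderOf a).Coprime p → a ∈ M) ∨
      ∀ P : Sylow p G, (P : Subgroup G) ≤ H → H ≤ Subgroup.normalizer (P : Set G) := by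
  rcases X.hsub H hH with h | h
  · left
    refine ⟨(Cfsg.pResidual p H).map H.subtype, Subgroup.map_subtype_le _, ?_, ?_, ?_⟩
    · rw [Subgroup.card_map_of_injective H.subtype_injective, ← hp.out.coprime_iff_not_dvd,
        Nat.coprime_comm]
      exact PBasic.hasNormalPComplement_iff_pResidual.1 h
    · intro a ha
      rw [Subgroup.mem_set_normalizer_iff]
      have hN := PBasic.pResidual_normal_inst p H
      intro x
      constructor
      · rintro ⟨y, hy, rfl⟩
        exact ⟨⟨a, ha⟩ * y * ⟨a, ha⟩⁻¹, hN.conj_mem _ hy _, rfl⟩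
      · rintro ⟨y, hy, hyx⟩
        refine ⟨⟨a, ha⟩⁻¹ * y * ⟨a, ha⟩⁻¹⁻¹, hN.conj_mem _ hy _, ?_⟩
        show a⁻¹ * (y : G) * a⁻¹⁻¹ = x
        rw [show (y : G) = a * x * a⁻¹ from hyx]
        group
    · exact fun a ha hao =>
        ⟨⟨a, ha⟩, PBasic.mem_pResidual (by rwa [Subgroup.orderOf_mk]), rfl⟩
  · right
    intro P hPH
    haveI : ((P : Subgroup G).subgroupOf H).Normal := by
      have := h (P.subtype hPH)
      rwa [Sylow.coe_subtype] at this
    exact Subgroup.le_normalizer_of_normal_subgroupOf hPH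

/-- Two Sylow subgroups with a common nontrivial element are equal. -/
theorem sylow_unique {u : G} (hu : u ≠ 1) {P₁ P₂ : Sylow p G} (h1 : u ∈ P₁) (h2 : u ∈ P₂) :
    P₁ = P₂ := by
  set R := Subgroup.zpowers u with hR
  set N := Subgroup.normalizer (R : Set G) with hN
  have key : ∀ P : Sylow p G, u ∈ P → (P : Subgroup G) ≤ N ∧ N ≤ Subgroup.normalizer (P : Set G) := by
    intro P hP
    haveI := X.hcyc P
    have hPN : (P : Subgroup G) ≤ N := by
      intro a ha
      rw [hN, Subgroup.mem_set_normalizer_iff]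
      intro w
      have hRP : R ≤ (P : Subgroup G) := Subgroup.zpowers_le.2 hP
      constructor
      · intro hw
        rw [comm_of_abelian inferInstance ha (hRP hw), mul_inv_cancel_right]
        exact hw
      · intro hw
        have hwP : w ∈ (P : Subgroup G) := by
          have := (P : Subgroup G).mul_mem ((P : Subgroup G).mul_mem
            ((P : Subgroup G).inv_mem ha) (hRP hw)) ha
          simpa [mul_assoc] using this
        rwa [comm_of_abelian inferInstance ha hwP, mul_inv_cancel_right] at hw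
    refine ⟨hPN, ?_⟩
    have hNne : N ≠ ⊤ := by
      intro h
      rcases X.hsimple R (Subgroup.normalizer_eq_top_iff.1 h) with h' | h'
      · exact hu (Subgroup.mem_bot.1 (h' ▸ Subgroup.mem_zpowers u))
      · refine X.hnn P ?_
        rw [eq_top_iff.2 (h' ▸ Subgroup.zpowers_le.2 hP : (⊤ : Subgroup G) ≤ P)]
        infer_instance
    obtain ⟨k, hk, hko, hkc⟩ := X.hact P
    have hkN : k ∈ N := by
      rw [hN, Subgroup.mem_set_normalizer_iff]
      obtain ⟨a, ha⟩ : ∃ a : ℤ, k * u * k⁻¹ = u ^ a := by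
        have hkm : k * u * k⁻¹ ∈ (P : Subgroup G) := (Subgroup.mem_normalizer_iff.1 hk u).1 hP
        let e : (P : Subgroup G) →* (P : Subgroup G) :=
          { toFun := fun w => ⟨k * w * k⁻¹, (Subgroup.mem_normalizer_iff.1 hk w).1 w.2⟩
            map_one' := Subtype.ext (by simp)
            map_mul' := fun a b => Subtype.ext (by simp [mul_assoc]) }
        obtain ⟨a, ha⟩ := MonoidHom.map_cyclic e
        exact ⟨a, congrArg Subtype.val (ha ⟨u, hP⟩)⟩
      have hle : R.map (MulAut.conj k).toMonoidHom ≤ R := by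
        rw [hR, MonoidHom.map_zpowers]
        exact Subgroup.zpowers_le.2 ⟨a, ha.symm⟩
      have heq := Subgroup.eq_of_le_of_card_ge hle
        (Subgroup.card_map_of_injective (MulAut.conj k).injective).ge
      intro w
      constructor
      · exact fun hw => heq ▸ ⟨w, hw, rfl⟩
      · intro hw
        obtain ⟨y, hy, hyw⟩ := heq.ge hw
        exact (MulAut.conj k).injective hyw ▸ hy
    rcases dichotomy X hNne with ⟨M, hMN, hMp, hMn, hM⟩ | h
    · exfalso
      apply hkc
      intro w hw
      have hkM := hM k hkN hko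
      have hc1 : k * w * k⁻¹ * w⁻¹ ∈ M := by
        have := M.mul_mem hkM ((Subgroup.mem_normalizer_iff.1 (hMn (hPN hw)) _).1 (M.inv_mem hkM))
        rwa [show k * (w * k⁻¹ * w⁻¹) = k * w * k⁻¹ * w⁻¹ by group] at this
      have hc2 : k * w * k⁻¹ * w⁻¹ ∈ (P : Subgroup G) :=
        mul_mem ((Subgroup.mem_normalizer_iff.1 hk w).1 hw) (inv_mem hw)
      have := PBasic.eq_one_of_isPGroup_of_coprime P.isPGroup' hc2
        (PBasic.coprime_orderOf_of_mem
          (Nat.coprime_comm.1 (hp.out.coprime_iff_not_dvd.2 hMp)) hc1)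
      rwa [mul_inv_eq_one, mul_inv_eq_iff_eq_mul] at this
    · exact h P hPN
  have h21 : (P₂ : Subgroup G) ≤ Subgroup.normalizer (P₁ : Set G) :=
    (key P₂ h2).1.trans (key P₁ h1).2
  exact (Sylow.ext ((P₁.is_maximal' (P₂.isPGroup'.to_sup_of_normal_right' P₁.isPGroup' h21)
    le_sup_right) ▸ le_sup_left |> fun h => Subgroup.eq_of_le_of_card_ge h
      (by rw [P₁.card_eq_multiplicity, P₂.card_eq_multiplicity]))).symm

theorem sylow_of_elem {u : G} (hu : ∃ n, orderOf u = p ^ n) : ∃ P : Sylow p G, u ∈ P := by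
  obtain ⟨n, hn⟩ := hu
  obtain ⟨P, hP⟩ := (IsPGroup.of_card (p := p) (n := n)
    (by rw [Nat.card_zpowers, hn]) : IsPGroup p (Subgroup.zpowers u)).exists_le_sylow
  exact ⟨P, hP (Subgroup.mem_zpowers u)⟩

theorem conj_sylow {u g : G} (hu : u ≠ 1) {P : Sylow p G} (hP : u ∈ P) (h : g * u * g⁻¹ ∈ P) :
    g ∈ Subgroup.normalizer (P : Set G) := by
  rw [← Sylow.smul_eq_iff_mem_normalizer]
  refine (sylow_unique X ?_ h ?_).symm
  · simpa using hu
  · rw [← SetLike.mem_coe, Sylow.coe_smul]
    exact ⟨u, hP, rfl⟩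

theorem comm_normalizes {u x : G} (hu : u ≠ 1) {P : Sylow p G} (hP : u ∈ P)
    (hx : x * u = u * x) : x ∈ Subgroup.normalizer (P : Set G) :=
  conj_sylow X hu hP (by rwa [hx, mul_inv_cancel_right])

theorem centralizes {u x : G} (hu : u ≠ 1) {P : Sylow p G} (hP : u ∈ P)
    (hxo : (orderOf x).Coprime p) (hx : x * u = u * x) : ∀ w ∈ P, x * w = w * x := by
  rcases cyclic_action (P : Subgroup G) (X.hcyc P) P.isPGroup' (comm_normalizes X hu hP hx) hxo
    with h | ⟨h, -⟩
  · exact h
  · exact absurd (h u hP hx) hu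

theorem mem_sylow_of_normalizes {v : G} (hv : ∃ n, orderOf v = p ^ n) {P : Sylow p G}
    (h : v ∈ Subgroup.normalizer (P : Set G)) : v ∈ P := by
  obtain ⟨n, hn⟩ := hv
  have hz : IsPGroup p (Subgroup.zpowers v) := IsPGroup.of_card (n := n) (by rw [Nat.card_zpowers, hn])
  exact (P.is_maximal' (hz.to_sup_of_normal_right' P.isPGroup' (Subgroup.zpowers_le.2 h))
    le_sup_right).le (le_sup_left (α := Subgroup G) (Subgroup.mem_zpowers v))

/-- A nontrivial element of an abelian Sylow subgroup is moved by its normalizer, indeed by a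
`p`-element of it. -/
theorem exists_mover {q : ℕ} [hq : Fact q.Prime] (hqp : q ≠ p) (Q : Sylow q G) {x : G}
    (hxQ : x ∈ Q) (hx : x ≠ 1) :
    ∃ v ∈ Subgroup.normalizer (Q : Set G), (∃ n, orderOf v = p ^ n) ∧ v * x ≠ x * v := by
  have hQab : IsMulCommutative Q := X.hab _ fun hd => by
    obtain ⟨k, hk⟩ := IsPGroup.iff_card.1 Q.isPGroup'
    rw [hk] at hd
    exact hqp ((Nat.prime_dvd_prime_iff_eq hp.out hq.out).1 (hp.out.dvd_of_dvd_pow hd)).symm
  -- the transfer into `Q` is trivial
  have hN : ¬ ∀ g ∈ Subgroup.normalizer (Q : Set G), g * x = x * g := by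
    intro hfix
    letI : CommGroup Q :=
      { (inferInstance : Group Q) with mul_comm := fun a b => by haveI := hQab; exact mul_comm' a b }
    have key : ∀ (k : ℕ) (g₀ : G), g₀⁻¹ * x ^ k * g₀ ∈ (Q : Subgroup G) →
        g₀⁻¹ * x ^ k * g₀ = x ^ k := by
      intro k g₀ hg
      obtain ⟨v, hv, he⟩ := AbelianSylow.fusion_normalizer Q hQab (x ^ k)
        ((Q : Subgroup G).pow_mem hxQ k) g₀⁻¹ (by rwa [inv_inv])
      rw [inv_inv] at he
      rw [← he, (Commute.pow_right (hfix v hv) k).eq, mul_inv_cancel_right]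
    set V := MonoidHom.transfer (MonoidHom.id Q) with hV
    have hVx := MonoidHom.transfer_eq_pow (MonoidHom.id Q) x key
    rw [← hV] at hVx
    rcases X.hsimple V.ker inferInstance with h | h
    · exact X.hnab fun a b => (V.ker_eq_bot_iff.1 h) (by rw [map_mul, map_mul, mul_comm])
    · have h1 : V x = 1 := (MonoidHom.mem_ker).1 (h ▸ Subgroup.mem_top x)
      rw [hVx, MonoidHom.id_apply, ← Subtype.coe_inj] at h1
      have h2 : orderOf x ∣ (Q : Subgroup G).index := orderOf_dvd_of_pow_eq_one h1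
      have h3 : orderOf x ∣ Nat.card Q := Subgroup.orderOf_dvd_natCard (s := (Q : Subgroup G)) hxQ
      exact hx (orderOf_eq_one_iff.1 (Nat.eq_one_of_dvd_coprimes Q.card_coprime_index h3 h2))
  push Not at hN
  obtain ⟨g, hg, hgx⟩ := hN
  obtain ⟨a, b, hab', ha, hb, hao, hbo⟩ := PBasic.exists_pPart_mul (p := p) g
  have haN := Subgroup.zpowers_le.2 hg ha
  have hbN := Subgroup.zpowers_le.2 hg hb
  refine ⟨a, haN, hao, fun hax => hgx ?_⟩
  -- a `p'`-element normalizing `Q` centralizes it
  have hbx : b * x = x * b := by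
    have hzb : (Nat.card (Subgroup.zpowers b)).Coprime p := by rwa [Nat.card_zpowers]
    have hle : Subgroup.zpowers b ≤ Subgroup.normalizer (Q : Set G) := Subgroup.zpowers_le.2 hbN
    have hT : (Nat.card ↥(Subgroup.zpowers b ⊔ (Q : Subgroup G))).Coprime p := by
      refine Nat.Coprime.coprime_dvd_left (card_sup_dvd_normalizer hle) ?_
      refine hzb.mul_left ?_
      obtain ⟨k, hk⟩ := IsPGroup.iff_card.1 Q.isPGroup'
      rw [hk]
      exact ((Nat.coprime_primes hq.out hp.out).2 hqp).pow_left k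
    exact comm_of_abelian (X.hab _ (hp.out.coprime_iff_not_dvd.1 hT.symm))
      (le_sup_left (α := Subgroup G) (Subgroup.mem_zpowers b))
      (le_sup_right (α := Subgroup G) hxQ)
  rw [← hab', mul_assoc, hbx, ← mul_assoc, hax, mul_assoc]

/-- The centralizer of a bad element lies in the normalizer of the Sylow subgroup it centralizes. -/
theorem bad_centralizer {q : ℕ} [hq : Fact q.Prime] (hqp : q ≠ p) (Q : Sylow q G) {x : G}
    (hxQ : x ∈ Q) (hx : x ≠ 1) {P : Sylow p G} (hxP : ∀ w ∈ P, x * w = w * x) :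
    Subgroup.centralizer ({x} : Set G) ≤ Subgroup.normalizer (P : Set G) := by
  set H := Subgroup.centralizer ({x} : Set G) with hH
  have hPH : (P : Subgroup G) ≤ H := fun w hw =>
    Subgroup.mem_centralizer_singleton_iff.2 (hxP w hw).symm
  rcases dichotomy X (centralizer_ne_top X hx) with ⟨M, hMH, hMp, hMn, hM⟩ | h
  · exfalso
    have hQM : (Q : Subgroup G) ≤ M := by
      intro y hy
      have hQab : IsMulCommutative Q := X.hab _ fun hd => by
        obtain ⟨k, hk⟩ := IsPGroup.iff_card.1 Q.isPGroup'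
        rw [hk] at hd
        exact hqp ((Nat.prime_dvd_prime_iff_eq hp.out hq.out).1 (hp.out.dvd_of_dvd_pow hd)).symm
      refine hM y (Subgroup.mem_centralizer_singleton_iff.2 (comm_of_abelian hQab hy hxQ)) ?_
      obtain ⟨k, hk⟩ := IsPGroup.iff_card.1 Q.isPGroup'
      exact (((Nat.coprime_primes hq.out hp.out).2 hqp).pow_left k).coprime_dvd_left
        (hk ▸ Subgroup.orderOf_dvd_natCard (s := (Q : Subgroup G)) hy)
    have hPQ : (P : Subgroup G) ≤ Subgroup.normalizer (Q : Set G) := by
      intro z hz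
      set Q' := (Q : Subgroup G).map (MulAut.conj z).toMonoidHom with hQ'
      have hQ'M : Q' ≤ M := by
        rintro _ ⟨y, hy, rfl⟩
        exact (Subgroup.mem_normalizer_iff.1 (hMn (hPH hz)) y).1 (hQM hy)
      have hMab := X.hab M hMp
      have hle : Q' ≤ Subgroup.normalizer (Q : Set G) := by
        intro a ha
        rw [Subgroup.mem_set_normalizer_iff]
        intro w
        constructor
        · intro hw
          rw [comm_of_abelian hMab (hQ'M ha) (hQM hw), mul_inv_cancel_right]
          exact hw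
        · intro hw
          have hwM : w ∈ M := by
            have := M.mul_mem (M.mul_mem (M.inv_mem (hQ'M ha)) (hQM hw)) (hQ'M ha)
            simpa [mul_assoc] using this
          rwa [comm_of_abelian hMab (hQ'M ha) hwM, mul_inv_cancel_right] at hw
      have h1 : Q' ≤ (Q : Subgroup G) := le_sup_left.trans
        (Q.is_maximal' ((Q.isPGroup'.map _).to_sup_of_normal_right' Q.isPGroup' hle) le_sup_right).le
      have h2 := Subgroup.eq_of_le_of_card_ge h1
        (Subgroup.card_map_of_injective (MulAut.conj z).injective).ge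
      rw [Subgroup.mem_set_normalizer_iff]
      intro w
      constructor
      · exact fun hw => h2.le ⟨w, hw, rfl⟩
      · intro hw
        obtain ⟨y, hy, hyw⟩ := h2.ge hw
        exact (MulAut.conj z).injective hyw ▸ hy
    obtain ⟨v, hv, hvo, hvx⟩ := exists_mover X hqp Q hxQ hx
    set N := Subgroup.normalizer (Q : Set G) with hN
    obtain ⟨a, ha, w, hw, haw⟩ := AbelianSylow.exists_mul_sylow_pResidual (P.subtype hPQ) ⟨v, hv⟩
    have hfix : Cfsg.pResidual p N ≤ H.comap N.subtype := by
      rw [Cfsg.pResidual, Subgroup.closure_le]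
      intro y hy
      have hle : Subgroup.zpowers (y : G) ≤ N := Subgroup.zpowers_le.2 y.2
      refine Subgroup.mem_centralizer_singleton_iff.2 ?_
      have hT : (Nat.card ↥(Subgroup.zpowers (y : G) ⊔ (Q : Subgroup G))).Coprime p := by
        refine Nat.Coprime.coprime_dvd_left (card_sup_dvd_normalizer hle) ?_
        refine Nat.Coprime.mul_left (by rw [Nat.card_zpowers, Subgroup.orderOf_coe]; exact hy) ?_
        obtain ⟨k, hk⟩ := IsPGroup.iff_card.1 Q.isPGroup'
        rw [hk]
        exact ((Nat.coprime_primes hq.out hp.out).2 hqp).pow_left k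
      exact comm_of_abelian (X.hab _ (hp.out.coprime_iff_not_dvd.1 hT.symm))
        (le_sup_left (α := Subgroup G) (Subgroup.mem_zpowers (y : G)))
        (le_sup_right (α := Subgroup G) hxQ)
    apply hvx
    have hv' : (a : G) * w = v := congrArg Subtype.val haw
    exact Subgroup.mem_centralizer_singleton_iff.1
      (hv' ▸ H.mul_mem (hPH ha) (hfix hw))
  · exact h P hPH

omit X in
theorem card_mulAut_cyclic_dvd {P : Subgroup G} (hc : IsCyclic P) (hP : IsPGroup p P) :
    ∃ a, Nat.card (MulAut P) ∣ p ^ a * (p - 1) := by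
  obtain ⟨n, hn⟩ := IsPGroup.iff_card.1 hP
  haveI := hc
  rw [IsCyclic.card_mulAut, hn]
  rcases n with - | n
  · exact ⟨0, by simp⟩
  · exact ⟨n, by rw [Nat.totient_prime_pow_succ hp.out]⟩

/-- Bad elements force `p = 3` and Klein Sylow 2-subgroups. -/
theorem bad_q {q : ℕ} [hq : Fact q.Prime] (hqp : q ≠ p) (hp2 : p ≠ 2) (Q : Sylow q G) {x : G}
    (hxQ : x ∈ Q) (hx : x ≠ 1) {P : Sylow p G} (hxP : ∀ w ∈ P, x * w = w * x) :
    q = 2 ∧ p = 3 ∧ Nat.card Q = 4 ∧ orderOf x = 2 ∧
      ∃ v ∈ Subgroup.normalizer (Q : Set G), ∀ y ∈ Q, y ≠ 1 →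
        y = x ∨ y = v * x * v⁻¹ ∨ y = v * (v * x * v⁻¹) * v⁻¹ := by
  haveI := Fact.mk hp.out
  have hQab : IsMulCommutative Q := X.hab _ fun hd => by
    obtain ⟨k, hk⟩ := IsPGroup.iff_card.1 Q.isPGroup'
    rw [hk] at hd
    exact hqp ((Nat.prime_dvd_prime_iff_eq hp.out hq.out).1 (hp.out.dvd_of_dvd_pow hd)).symm
  obtain ⟨v, hv, hvo, hvx⟩ := exists_mover X hqp Q hxQ hx
  set y := v * x * v⁻¹ with hy
  have hyQ : y ∈ (Q : Subgroup G) := (Subgroup.mem_normalizer_iff.1 hv x).1 hxQ
  set P' := v • P with hP'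
  have hmemP' : ∀ w, w ∈ P' ↔ ∃ z ∈ P, v * z * v⁻¹ = w := fun w => by
    rw [← SetLike.mem_coe, hP', Sylow.coe_smul]
    exact Iff.rfl
  have hyP : ∀ w ∈ P', y * w = w * y := by
    intro w hw
    obtain ⟨z, hz, rfl⟩ := (hmemP' w).1 hw
    rw [hy]
    calc v * x * v⁻¹ * (v * z * v⁻¹) = v * (x * z) * v⁻¹ := by group
      _ = v * (z * x) * v⁻¹ := by rw [hxP z hz]
      _ = _ := by group
  have hne : P' ≠ P := by
    intro h
    exact hvx (hxP v (mem_sylow_of_normalizes X hvo (Sylow.smul_eq_iff_mem_normalizer.1 h))).symm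
  have hCx := bad_centralizer X hqp Q hxQ hx hxP
  have hQN : (Q : Subgroup G) ≤ Subgroup.normalizer (P : Set G) := fun z hz =>
    hCx (Subgroup.mem_centralizer_singleton_iff.2 (comm_of_abelian hQab hz hxQ))
  set R := (Q : Subgroup G) ⊓ Subgroup.centralizer (P : Set G) with hR
  have hxR : x ∈ R := ⟨hxQ, fun w hw => (hxP w hw).symm⟩
  -- the action on `P`
  let f : Q →* MulAut (P : Subgroup G) :=
    (P : Subgroup G).normalizerMonoidHom.comp (Subgroup.inclusion hQN)
  have hfker : ∀ z : Q, f z = 1 ↔ (z : G) ∈ R := by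
    intro z
    show Subgroup.inclusion hQN z ∈ (P : Subgroup G).normalizerMonoidHom.ker ↔ _
    rw [Subgroup.normalizerMonoidHom_ker]
    exact ⟨fun h => ⟨z.2, h⟩, fun h => h.2⟩
  haveI := X.hcyc P
  haveI := X.hcyc P'
  have hautcyc : ∀ P₀ : Sylow p G, IsCyclic (MulAut (P₀ : Subgroup G)) := by
    intro P₀
    haveI := X.hcyc P₀
    obtain ⟨n, hn⟩ := IsPGroup.iff_card.1 P₀.isPGroup'
    haveI : IsCyclic (ZMod (Nat.card (P₀ : Subgroup G)))ˣ := by
      rw [hn]; exact ZMod.isCyclic_units_of_prime_pow p hp.out hp2 n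
    exact isCyclic_of_surjective _
      (IsCyclic.mulAutMulEquiv (P₀ : Subgroup G)).symm.surjective
  haveI := hautcyc P
  haveI := hautcyc P'
  have hqdvd : ∀ {A : Type u} [Group A] [Finite A], IsPGroup q A → Nat.card A ∣ Nat.card (MulAut (P : Subgroup G)) →
      Nat.card A ∣ p - 1 := by
    intro A _ _ hA hd
    obtain ⟨a, ha⟩ := card_mulAut_cyclic_dvd (X.hcyc P) P.isPGroup'
    obtain ⟨j, hj⟩ := IsPGroup.iff_card.1 hA
    rw [hj] at hd ⊢
    exact (((Nat.coprime_primes hq.out hp.out).2 hqp).pow j a).dvd_of_dvd_mul_left (hd.trans ha)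
  have hcardP : Nat.card (MulAut (P' : Subgroup G)) = Nat.card (MulAut (P : Subgroup G)) := by
    rw [IsCyclic.card_mulAut, IsCyclic.card_mulAut, Sylow.card_eq_multiplicity,
      Sylow.card_eq_multiplicity]
  -- `R` acts faithfully on `P'`
  have hRN' : R ≤ Subgroup.normalizer (P' : Set G) := fun z hz =>
    bad_centralizer X hqp Q hyQ (by rwa [hy, Ne, conj_eq_one_iff]) hyP
      (Subgroup.mem_centralizer_singleton_iff.2 (comm_of_abelian hQab hz.1 hyQ))
  let g : R →* MulAut (P' : Subgroup G) :=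
    (P' : Subgroup G).normalizerMonoidHom.comp (Subgroup.inclusion hRN')
  have hg : Function.Injective g := by
    rw [← MonoidHom.ker_eq_bot_iff, Subgroup.eq_bot_iff_forall]
    rintro ⟨z, hz⟩ hgz
    have hz' : Subgroup.inclusion hRN' ⟨z, hz⟩ ∈ (P' : Subgroup G).normalizerMonoidHom.ker := hgz
    rw [Subgroup.normalizerMonoidHom_ker] at hz'
    by_contra hz1
    have hz0 : z ≠ 1 := fun h => hz1 (Subtype.ext h)
    have hle : (P' : Subgroup G) ≤ Subgroup.normalizer (P : Set G) := fun w hw =>
      bad_centralizer X hqp Q hz.1 hz0 (fun w' hw' => (hz.2 w' hw').symm)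
        (Subgroup.mem_centralizer_singleton_iff.2 (hz' w hw))
    exact hne (Sylow.ext (Subgroup.eq_of_le_of_card_ge
      (le_sup_left.trans (P.is_maximal' (P'.isPGroup'.to_sup_of_normal_right' P.isPGroup' hle)
        le_sup_right).le)
      (by rw [P.card_eq_multiplicity, P'.card_eq_multiplicity])))
  have hRq : IsPGroup q R := Q.isPGroup'.to_le inf_le_left
  have hRd : Nat.card R ∣ p - 1 :=
    hqdvd hRq (hcardP ▸ Subgroup.card_dvd_of_injective g hg)
  haveI : IsCyclic R := isCyclic_of_injective g hg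
  have hfd : Nat.card f.range ∣ p - 1 :=
    hqdvd (Q.isPGroup'.of_surjective f.rangeRestrict f.rangeRestrict_surjective)
      (Subgroup.card_subgroup_dvd_card _)
  have hqR : q ∣ Nat.card R := by
    obtain ⟨j, hj⟩ := IsPGroup.iff_orderOf.1 hRq ⟨x, hxR⟩
    rw [Subgroup.orderOf_mk] at hj
    rcases Nat.eq_zero_or_pos j with h0 | h0
    · exact absurd (orderOf_eq_one_iff.1 (by rw [hj, h0, pow_zero])) hx
    · exact ((dvd_pow_self q h0.ne').trans (dvd_of_eq hj.symm)).trans
        (Subgroup.orderOf_dvd_natCard R hxR)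
  have hqp1 : q ∣ p - 1 := hqR.trans hRd
  have hqlt : q < p := by
    have := Nat.le_of_dvd (by have := hp.out.two_le; omega) hqp1
    omega
  -- `Q` has rank at most two
  obtain ⟨⟨r, hr⟩, hrgen⟩ := IsCyclic.exists_generator (α := R)
  obtain ⟨⟨_, ⟨t, rfl⟩⟩, htgen⟩ := IsCyclic.exists_generator (α := f.range)
  have hrank : Group.rank Q ≤ 2 := by
    classical
    refine le_trans (Group.rank_le (S := {(⟨r, hr.1⟩ : Q), t}) ?_) Finset.card_le_two
    rw [eq_top_iff]
    intro z _
    obtain ⟨i, hi⟩ := htgen ⟨f z, z, rfl⟩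
    have hi' : f t ^ i = f z := congrArg Subtype.val hi
    have h1 : f (z * (t ^ i)⁻¹) = 1 := by rw [map_mul, map_inv, map_zpow, hi', mul_inv_cancel]
    obtain ⟨j, hj⟩ := hrgen ⟨_, (hfker _).1 h1⟩
    have hj' : r ^ j = (z : G) * ((t : G) ^ i)⁻¹ := congrArg Subtype.val hj
    have : z = (⟨r, hr.1⟩ : Q) ^ j * t ^ i := by
      apply Subtype.ext
      show (z : G) = r ^ j * (t : G) ^ i
      rw [hj', inv_mul_cancel_right]
    rw [this]
    refine mul_mem (Subgroup.zpow_mem _ (Subgroup.subset_closure ?_) j)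
      (Subgroup.zpow_mem _ (Subgroup.subset_closure ?_) i)
    · simp
    · simp
  haveI := hQab
  obtain ⟨n, hn⟩ := hvo
  have hdiv : ¬ ∀ i : ℕ, 1 ≤ i → i ≤ 2 → ¬ p ∣ q ^ i - 1 := fun h =>
    hvx ((AbSylow.mem_centralizer_of_not_dvd hq.out hp.out hqp Q.isPGroup' hrank h hv
      (j := n) (by rw [← hn, pow_orderOf_eq_one])) x hxQ).symm
  have h23 : q = 2 ∧ p = 3 := by
    push Not at hdiv
    obtain ⟨i, hi1, hi2, hd⟩ := hdiv
    have hq2 := hq.out.two_le
    interval_cases i
    · rw [pow_one] at hd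
      exact absurd (Nat.le_of_dvd (by omega) hd) (by omega)
    · have h' : q ^ 2 - 1 = (q - 1) * (q + 1) := by
        rw [Nat.mul_comm, ← Nat.sq_sub_sq q 1, one_pow]
      rw [h'] at hd
      rcases hp.out.dvd_mul.1 hd with hd' | hd'
      · exact absurd (Nat.le_of_dvd (by omega) hd') (by omega)
      · have hqe : q + 1 = p := by
          have := Nat.le_of_dvd (by omega) hd'
          omega
        rcases hq.out.eq_two_or_odd with h2 | h2
        · omega
        · rcases hp.out.eq_two_or_odd with h3 | h3 <;> omega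
  obtain ⟨rfl, rfl⟩ := h23
  -- `Q` is a four-group
  have hQ4 : Nat.card Q ∣ 4 := by
    have h1 : Nat.card f.ker ∣ Nat.card R := Subgroup.card_dvd_of_injective
      (⟨⟨fun z => ⟨((z : Q) : G), (hfker _).1 z.2⟩, rfl⟩, fun _ _ => rfl⟩ : f.ker →* R)
      (fun a b h => Subtype.ext (Subtype.ext (congrArg (fun w : R => (w : G)) h)))
    rw [← Subgroup.card_mul_index f.ker, Subgroup.index_ker]
    exact Nat.mul_dvd_mul (h1.trans hRd) hfd
  set z := v * y * v⁻¹ with hz
  have hzQ : z ∈ (Q : Subgroup G) := (Subgroup.mem_normalizer_iff.1 hv y).1 hyQ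
  have hxy : y ≠ x := fun h => hvx (mul_inv_eq_iff_eq_mul.1 h)
  have hy1 : y ≠ 1 := by rwa [hy, Ne, conj_eq_one_iff]
  have hz1 : z ≠ 1 := by rwa [hz, Ne, conj_eq_one_iff]
  have hzy : z ≠ y := fun h => hxy ((MulAut.conj v).injective (show v * y * v⁻¹ = v * x * v⁻¹ from h))
  have hzx : z ≠ x := by
    intro h
    apply hvx
    have h2 : Commute (v ^ 2) x := by
      show v ^ 2 * x = x * v ^ 2
      calc v ^ 2 * x = v * (v * x) := by rw [pow_two, mul_assoc]
        _ = v * (y * v) := by rw [hy, inv_mul_cancel_right]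
        _ = (z * v) * v := by rw [hz]; group
        _ = x * v ^ 2 := by rw [h, pow_two, mul_assoc]
    have hmem : v ∈ Subgroup.zpowers (v ^ 2) := by
      rw [mem_zpowers_pow_iff, hn, Nat.gcd_comm]
      exact Nat.Coprime.pow_left n (by norm_num : Nat.Coprime 3 2)
    obtain ⟨j, hj⟩ := hmem
    have := h2.zpow_left j
    rw [show (v ^ 2) ^ j = v from hj] at this
    exact this.eq
  haveI : Fintype Q := Fintype.ofFinite _
  classical
  have hcard4 : Fintype.card Q = 4 ∧ ∀ w : Q,
      w ∈ ({1, ⟨x, hxQ⟩, ⟨y, hyQ⟩, ⟨z, hzQ⟩} : Finset Q) := by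
    have hc : ({1, ⟨x, hxQ⟩, ⟨y, hyQ⟩, ⟨z, hzQ⟩} : Finset Q).card = 4 := by
      rw [Finset.card_eq_succ]
      refine ⟨1, {⟨x, hxQ⟩, ⟨y, hyQ⟩, ⟨z, hzQ⟩}, ?_, rfl, ?_⟩
      · simp [Subtype.ext_iff, hx.symm, hy1.symm, hz1.symm]
      · rw [Finset.card_eq_three]
        exact ⟨_, _, _, by simp [Ne.symm hxy], by simp [Ne.symm hzx], by simp [Ne.symm hzy], rfl⟩
    have h1 := Finset.card_le_univ ({1, ⟨x, hxQ⟩, ⟨y, hyQ⟩, ⟨z, hzQ⟩} : Finset Q)
    have h2 : Fintype.card Q ≤ 4 := by
      rw [← Nat.card_eq_fintype_card]; exact Nat.le_of_dvd (by norm_num) hQ4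
    have h3 : Fintype.card Q = 4 := by omega
    exact ⟨h3, fun w => by rw [(Finset.eq_univ_of_card _ (hc.trans h3.symm))]; exact Finset.mem_univ w⟩
  have hQc : Nat.card Q = 4 := by rw [Nat.card_eq_fintype_card, hcard4.1]
  have hall : ∀ w ∈ (Q : Subgroup G), w ≠ 1 → w = x ∨ w = y ∨ w = z := by
    intro w hw hw1
    have := hcard4.2 ⟨w, hw⟩
    simp only [Finset.mem_insert, Finset.mem_singleton, Subtype.ext_iff] at this
    rcases this with h | h
    · exact absurd h hw1
    · exact h
  have hox : orderOf x = 2 := by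
    obtain ⟨w, hw⟩ := exists_prime_orderOf_dvd_card' (G := Q) 2 (by rw [hQc]; norm_num)
    rw [← Subgroup.orderOf_coe] at hw
    have hoy : orderOf y = orderOf x :=
      orderOf_injective (MulAut.conj v).toMonoidHom (MulAut.conj v).injective x
    have hoz : orderOf z = orderOf y :=
      orderOf_injective (MulAut.conj v).toMonoidHom (MulAut.conj v).injective y
    rcases hall w w.2 (fun h => by rw [h, orderOf_one] at hw; omega) with h | h | h <;> rw [h] at hw <;> omega
  exact ⟨rfl, rfl, hQc, hox, v, hv, hall⟩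

/-- `x` is a `p'`-element centralizing a nontrivial `p`-element. -/
def Bad (p : ℕ) (x : G) : Prop :=
  x ≠ 1 ∧ (orderOf x).Coprime p ∧ ∃ u : G, u ≠ 1 ∧ (∃ n, orderOf u = p ^ n) ∧ x * u = u * x

theorem no_bad (hp2 : p ≠ 2) (x : G) : ¬ Bad p x := by
  rintro ⟨hx, hxo, u, hu, huo, hxu⟩
  -- a bad element of prime order gives a bad involution and a four-group
  have hlift : ∀ y : G, ∀ u : G, y ≠ 1 → (orderOf y).Coprime p → u ≠ 1 → (∃ n, orderOf u = p ^ n) →
      y * u = u * y → p = 3 ∧ orderOf y = 2 ∧ ∃ (Q : Sylow 2 G), y ∈ Q ∧ Nat.card Q = 4 ∧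
        ∃ v : G, ∀ z ∈ Q, z ≠ 1 → z = y ∨ z = v * y * v⁻¹ ∨ z = v * (v * y * v⁻¹) * v⁻¹ := by
    intro y u hy hyo hu huo hyu
    obtain ⟨P, hP⟩ := sylow_of_elem X huo
    -- every prime-power part
    have hprime : ∀ q j : ℕ, q.Prime → q ^ j ∣ orderOf y → 0 < j → q = 2 ∧ j = 1 := by
      intro q j hq hd hj
      haveI := Fact.mk hq
      have hqp : q ≠ p := by
        rintro rfl
        exact hq.ne_one (Nat.eq_one_of_dvd_coprimes hyo ((dvd_pow_self _ hj.ne').trans hd) dvd_rfl)
      set y' := y ^ (orderOf y / q ^ j)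
      have hy'o : orderOf y' = q ^ j := orderOf_pow_orderOf_div (orderOf_pos y).ne' hd
      have hy'1 : y' ≠ 1 := fun h => by
        rw [h, orderOf_one] at hy'o
        exact hq.ne_one ((Nat.pow_eq_one.1 hy'o.symm).resolve_right hj.ne')
      obtain ⟨Q, hQ⟩ := (IsPGroup.of_card (p := q) (n := j)
        (by rw [Nat.card_zpowers, hy'o]) : IsPGroup q (Subgroup.zpowers y')).exists_le_sylow
      have hy'c : (orderOf y').Coprime p := by
        rw [hy'o]; exact ((Nat.coprime_primes hq hp.out).2 hqp).pow_left j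
      obtain ⟨h1, -, -, h2, -⟩ := bad_q X hqp hp2 Q (hQ (Subgroup.mem_zpowers _)) hy'1
        (centralizes X hu hP hy'c (Commute.pow_left hyu _))
      subst h1
      rw [hy'o] at h2
      exact ⟨rfl, Nat.pow_right_injective le_rfl (h2.trans (pow_one 2).symm)⟩
    have hy2 : orderOf y = 2 := by
      obtain ⟨k, hk⟩ : ∃ k, orderOf y = 2 ^ k := by
        refine ⟨_, Nat.eq_prime_pow_of_unique_prime_dvd (orderOf_pos y).ne' fun {q} hq hqd => ?_⟩
        exact (hprime q 1 hq (by rwa [pow_one]) one_pos).1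
      rcases Nat.eq_zero_or_pos k with h0 | h0
      · exact absurd (orderOf_eq_one_iff.1 (by rw [hk, h0, pow_zero])) hy
      · rw [hk, (hprime 2 k Nat.prime_two (dvd_of_eq hk.symm) h0).2, pow_one]
    obtain ⟨Q, hQ⟩ := (IsPGroup.of_card (p := 2) (n := 1)
      (by rw [Nat.card_zpowers, hy2, pow_one]) : IsPGroup 2 (Subgroup.zpowers y)).exists_le_sylow
    obtain ⟨-, h3, hQc, -, v, -, hall⟩ := bad_q X (Ne.symm hp2) hp2 Q (hQ (Subgroup.mem_zpowers _))
      hy (centralizes X hu hP hyo hyu)
    exact ⟨h3, hy2, Q, hQ (Subgroup.mem_zpowers _), hQc, v, hall⟩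
  obtain ⟨hp3, hx2, Q₀, hxQ₀, hQ₀c, v₀, hQ₀⟩ := hlift x u hx hxo hu huo hxu
  subst hp3
  have hcop : ∀ {t : G}, orderOf t = 2 → (orderOf t).Coprime 3 := fun h => by rw [h]; norm_num
  have hinv1 : ∀ {t : G}, orderOf t = 2 → t ≠ 1 := fun h h' => by rw [h', orderOf_one] at h; omega
  have hconjo : ∀ g t : G, orderOf (g * t * g⁻¹) = orderOf t := fun g t =>
    orderOf_injective (MulAut.conj g).toMonoidHom (MulAut.conj g).injective t
  -- all involutions are conjugate to `x`
  have hconj : ∀ t : G, orderOf t = 2 → ∃ g : G, g * x * g⁻¹ = t := by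
    intro t ht
    obtain ⟨Q, hQ⟩ := (IsPGroup.of_card (p := 2) (n := 1)
      (by rw [Nat.card_zpowers, ht, pow_one]) : IsPGroup 2 (Subgroup.zpowers t)).exists_le_sylow
    obtain ⟨g, hg⟩ := MulAction.exists_smul_eq G Q₀ Q
    have hm : t ∈ (g • Q₀ : Sylow 2 G) := hg ▸ hQ (Subgroup.mem_zpowers t)
    rw [← SetLike.mem_coe, Sylow.coe_smul] at hm
    obtain ⟨z, hz, rfl⟩ := hm
    rcases hQ₀ z hz (fun h => by subst h; simp at ht) with rfl | rfl | rfl
    · exact ⟨g, rfl⟩
    · exact ⟨g * v₀, by simp [mul_assoc, MulAut.smul_def]⟩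
    · exact ⟨g * v₀ * v₀, by simp [mul_assoc, MulAut.smul_def]⟩
  -- every involution centralizes a Sylow 3-subgroup
  have hbad : ∀ t : G, orderOf t = 2 → ∃ P : Sylow 3 G, ∀ w ∈ P, t * w = w * t := by
    intro t ht
    obtain ⟨g, rfl⟩ := hconj t ht
    obtain ⟨P, hP⟩ := sylow_of_elem X huo
    refine ⟨g • P, fun w hw => ?_⟩
    rw [← SetLike.mem_coe, Sylow.coe_smul] at hw
    obtain ⟨z, hz, rfl⟩ := hw
    show g * x * g⁻¹ * (g * z * g⁻¹) = g * z * g⁻¹ * (g * x * g⁻¹)
    calc g * x * g⁻¹ * (g * z * g⁻¹) = g * (x * z) * g⁻¹ := by group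
      _ = g * (z * x) * g⁻¹ := by rw [centralizes X hu hP hxo hxu z hz]
      _ = _ := by group
  have h3c : ∀ P : Sylow 3 G, ∃ w ∈ P, w ≠ (1 : G) := by
    intro P
    by_contra h
    push Not at h
    refine X.hnn P ?_
    rw [(Subgroup.eq_bot_iff_forall _).2 h]
    infer_instance
  have hcentN : ∀ t : G, orderOf t = 2 → ∀ P : Sylow 3 G, (∀ w ∈ P, t * w = w * t) →
      Subgroup.centralizer ({t} : Set G) ≤ Subgroup.normalizer (P : Set G) := by
    intro t ht P hP
    obtain ⟨Q, hQ⟩ := (IsPGroup.of_card (p := 2) (n := 1)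
      (by rw [Nat.card_zpowers, ht, pow_one]) : IsPGroup 2 (Subgroup.zpowers t)).exists_le_sylow
    exact bad_centralizer X (by norm_num) Q (hQ (Subgroup.mem_zpowers t)) (hinv1 ht) hP
  -- a product of involutions which is a `3'`-element: they commute
  have hcomm : ∀ a b : G, orderOf a = 2 → orderOf b = 2 → ¬ 3 ∣ orderOf (a * b) → a * b = b * a := by
    intro a b ha hb hd
    have ha' : a⁻¹ = a := inv_eq_of_mul_eq_one_right (by rw [← pow_two, ← ha, pow_orderOf_eq_one])
    have hb' : b⁻¹ = b := inv_eq_of_mul_eq_one_right (by rw [← pow_two, ← hb, pow_orderOf_eq_one])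
    have hle : Subgroup.zpowers a ≤ Subgroup.normalizer (Subgroup.zpowers (a * b) : Set G) := by
      rw [Subgroup.zpowers_le, Subgroup.mem_set_normalizer_iff]
      have hc : ∀ w ∈ Subgroup.zpowers (a * b), a * w * a⁻¹ ∈ Subgroup.zpowers (a * b) := by
        rintro _ ⟨i, rfl⟩
        refine ⟨-i, ?_⟩
        show (a * b) ^ (-i) = a * (a * b) ^ i * a⁻¹
        rw [← conj_zpow, zpow_neg, ← inv_zpow, mul_inv_rev, ha', hb',
          show a * (a * b) * a = b * a by rw [← mul_assoc, ← pow_two, ← ha, pow_orderOf_eq_one, one_mul]]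
      intro w
      refine ⟨hc w, fun hw => ?_⟩
      have := hc _ hw
      rwa [show a * (a * w * a⁻¹) * a⁻¹ = w by
        conv_lhs => rw [ha', show a * (a * w * a) * a = (a * a) * w * (a * a) by group,
          ← pow_two, ← ha, pow_orderOf_eq_one, one_mul, mul_one]] at this
    have hT : (Nat.card ↥(Subgroup.zpowers a ⊔ Subgroup.zpowers (a * b))).Coprime 3 := by
      refine Nat.Coprime.coprime_dvd_left (card_sup_dvd_normalizer hle) ?_
      rw [Nat.card_zpowers, Nat.card_zpowers]
      exact (hcop ha).mul_left (Nat.prime_three.coprime_iff_not_dvd.2 hd).symm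
    have := comm_of_abelian (X.hab _ (Nat.prime_three.coprime_iff_not_dvd.1 hT.symm))
      (le_sup_left (α := Subgroup G) (Subgroup.mem_zpowers a))
      (le_sup_right (α := Subgroup G) (Subgroup.mem_zpowers (a * b)))
    rw [mul_assoc a b a] at this
    exact mul_left_cancel this
  -- the involution centralizing a Sylow 3-subgroup is unique
  have huniq : ∀ P : Sylow 3 G, ∀ a b : G, orderOf a = 2 → orderOf b = 2 →
      (∀ w ∈ P, a * w = w * a) → (∀ w ∈ P, b * w = w * b) → a = b := by
    intro P a b ha hb haP hbP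
    by_contra hab
    have ha2 : a * a = 1 := by rw [← pow_two, ← ha, pow_orderOf_eq_one]
    have hb2 : b * b = 1 := by rw [← pow_two, ← hb, pow_orderOf_eq_one]
    obtain ⟨w, hw, hw1⟩ := h3c P
    by_cases hc : a * b = b * a
    · -- a four-group centralizing `P`
      obtain ⟨Q, hQ⟩ := (IsPGroup.of_card (p := 2) (n := 1)
        (by rw [Nat.card_zpowers, ha, pow_one]) : IsPGroup 2 (Subgroup.zpowers a)).exists_le_sylow
      have hle : Subgroup.zpowers b ≤ Subgroup.centralizer (Subgroup.zpowers a : Set G) := by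
        rw [Subgroup.zpowers_le]
        rintro _ ⟨i, rfl⟩
        exact (Commute.zpow_left hc i).eq
      obtain ⟨Q, hQ⟩ := ((IsPGroup.of_card (p := 2) (n := 1)
        (by rw [Nat.card_zpowers, hb, pow_one])).to_sup_of_normal_right'
          (IsPGroup.of_card (p := 2) (n := 1) (by rw [Nat.card_zpowers, ha, pow_one]))
          (hle.trans (Subgroup.centralizer_le_normalizer _)) :
          IsPGroup 2 ↥(Subgroup.zpowers b ⊔ Subgroup.zpowers a)).exists_le_sylow
      have haQ : a ∈ Q := hQ (le_sup_right (α := Subgroup G) (Subgroup.mem_zpowers a))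
      have hbQ : b ∈ Q := hQ (le_sup_left (α := Subgroup G) (Subgroup.mem_zpowers b))
      obtain ⟨-, -, hQc, -, v, hv, hall⟩ := bad_q X (by norm_num) hp2 Q haQ (hinv1 ha) haP
      obtain ⟨v', hv', hv'o, hv'a⟩ := exists_mover X (by norm_num : (2 : ℕ) ≠ 3) Q haQ (hinv1 ha)
      -- all of `Q` centralizes `P`
      have hQab : IsMulCommutative Q := X.hab _ (by rw [hQc]; norm_num)
      have hQP : ∀ z ∈ Q, ∀ w ∈ P, z * w = w * z := by
        let C : Subgroup G := Subgroup.centralizer (P : Set G) ⊓ Q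
        have haC : a ∈ C := ⟨fun w hw => (haP w hw).symm, haQ⟩
        have hbC : b ∈ C := ⟨fun w hw => (hbP w hw).symm, hbQ⟩
        have h1 : Nat.card C ∣ 4 := hQc ▸ Subgroup.card_dvd_of_le inf_le_right
        have h2 : 3 ≤ Nat.card C := by
          haveI : Fintype C := Fintype.ofFinite _
          classical
          rw [Nat.card_eq_fintype_card]
          refine le_trans (le_of_eq ?_) (Finset.card_le_univ ({1, ⟨a, haC⟩, ⟨b, hbC⟩} : Finset C))
          symm
          rw [Finset.card_eq_three]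
          exact ⟨_, _, _, by simp [Subtype.ext_iff, (hinv1 ha).symm],
            by simp [Subtype.ext_iff, (hinv1 hb).symm], by simp [hab], rfl⟩
        have h3 : C = Q := by
          refine Subgroup.eq_of_le_of_card_ge inf_le_right (hQc ▸ ?_)
          have := Nat.le_of_dvd (by norm_num) h1
          interval_cases h : Nat.card C <;> omega
        exact fun z hz w hw => ((h3 ▸ hz : z ∈ C).1 w hw).symm
      have hmem : v' * a * v'⁻¹ ∈ Q := (Subgroup.mem_normalizer_iff.1 hv' a).1 haQ
      have h' : (v' • P : Sylow 3 G) = P := by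
        have hle : ((v' • P : Sylow 3 G) : Subgroup G) ≤ Subgroup.normalizer (P : Set G) := by
          intro w hw
          refine hcentN _ (by rw [hconjo]; exact ha) P (hQP _ hmem)
            (Subgroup.mem_centralizer_singleton_iff.2 ?_)
          change w ∈ MulAut.conj v' • (P : Set G) at hw
          obtain ⟨z, hz, rfl⟩ := hw
          show v' * z * v'⁻¹ * (v' * a * v'⁻¹) = v' * a * v'⁻¹ * (v' * z * v'⁻¹)
          calc v' * z * v'⁻¹ * (v' * a * v'⁻¹) = v' * (z * a) * v'⁻¹ := by group
            _ = v' * (a * z) * v'⁻¹ := by rw [haP z hz]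
            _ = _ := by group
        exact Sylow.ext (Subgroup.eq_of_le_of_card_ge
          (le_sup_left.trans (P.is_maximal' ((v' • P).isPGroup'.to_sup_of_normal_right' P.isPGroup' hle)
            le_sup_right).le)
          (by rw [P.card_eq_multiplicity, (v' • P).card_eq_multiplicity]))
      exact hv'a (haP v' (mem_sylow_of_normalizes X hv'o (Sylow.smul_eq_iff_mem_normalizer.1 h'))).symm
    · have hd : 3 ∣ orderOf (a * b) := by
        by_contra hd
        exact hc (hcomm a b ha hb hd)
      set c := (a * b) ^ (orderOf (a * b) / 3)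
      have hco : orderOf c = 3 := orderOf_pow_orderOf_div (orderOf_pos _).ne' hd
      have hcP : c ∈ P := by
        refine mem_sylow_of_normalizes X ⟨1, by rw [hco, pow_one]⟩ (Subgroup.pow_mem _ ?_ _)
        exact comm_normalizes X hw1 hw (by
          rw [mul_assoc, hbP w hw, ← mul_assoc, haP w hw, mul_assoc])
      have h1 : a * c * a⁻¹ = c⁻¹ := by
        rw [← conj_pow, ← inv_pow, inv_eq_of_mul_eq_one_right ha2, mul_inv_rev,
          inv_eq_of_mul_eq_one_right hb2, inv_eq_of_mul_eq_one_right ha2,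
          show a * (a * b) * a = b * a by rw [← mul_assoc, ha2, one_mul]]
      rw [haP c hcP, mul_inv_cancel_right] at h1
      have h2 : orderOf c ∣ 2 := orderOf_dvd_of_pow_eq_one (by rw [pow_two]; nth_rw 1 [h1]; exact inv_mul_cancel c)
      rw [hco] at h2
      omega
  -- friendship: the commuting graph of involutions
  let I := {t : G // orderOf t = 2}
  have hcommon : ∀ a b : I, a ≠ b → ∃! s : I, (s ≠ a ∧ (s : G) * a = a * s) ∧ (s ≠ b ∧ (s : G) * b = b * s) := by
    rintro ⟨a, ha⟩ ⟨b, hb⟩ hab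
    have hab' : a ≠ b := fun h => hab (Subtype.ext h)
    have ha2 : a * a = 1 := by rw [← pow_two, ← ha, pow_orderOf_eq_one]
    have hb2 : b * b = 1 := by rw [← pow_two, ← hb, pow_orderOf_eq_one]
    by_cases hc : a * b = b * a
    · have hab2 : orderOf (a * b) = 2 := by
        refine orderOf_eq_prime ?_ fun h => hab' ?_
        · rw [pow_two]
          calc a * b * (a * b) = a * b * (b * a) := by rw [← hc]
            _ = a * (b * b) * a := by group
            _ = 1 := by rw [hb2, mul_one, ha2]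
        · rw [← mul_left_cancel_iff (a := a), ha2, h]
      refine ⟨⟨a * b, hab2⟩, ⟨⟨fun h => ?_, ?_⟩, fun h => ?_, ?_⟩, ?_⟩
      · exact hinv1 hb (mul_eq_left.1 (congrArg Subtype.val h))
      · show a * b * a = a * (a * b)
        rw [mul_assoc a b a, hc]
      · exact hinv1 ha (mul_eq_right.1 (congrArg Subtype.val h))
      · show a * b * b = b * (a * b)
        rw [← mul_assoc b a b, hc]
      · rintro ⟨s, hs⟩ ⟨⟨hsa, hsac⟩, hsb, hsbc⟩
        have hsac' : s * a = a * s := hsac
        have hsbc' : s * b = b * s := hsbc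
        have hle : Subgroup.zpowers b ≤ Subgroup.centralizer (Subgroup.zpowers a : Set G) := by
          rw [Subgroup.zpowers_le]
          rintro _ ⟨i, rfl⟩
          exact (Commute.zpow_left hc i).eq
        have hK : IsPGroup 2 ↥(Subgroup.zpowers b ⊔ Subgroup.zpowers a) :=
          (IsPGroup.of_card (p := 2) (n := 1)
            (by rw [Nat.card_zpowers, hb, pow_one])).to_sup_of_normal_right'
          (IsPGroup.of_card (p := 2) (n := 1) (by rw [Nat.card_zpowers, ha, pow_one]))
          (hle.trans (Subgroup.centralizer_le_normalizer _))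
        have hle2 : Subgroup.zpowers s ≤
            Subgroup.centralizer (↑(Subgroup.zpowers b ⊔ Subgroup.zpowers a) : Set G) := by
          rw [Subgroup.zpowers_le]
          intro w hw
          refine Subgroup.mem_centralizer_singleton_iff.1 ((sup_le (Subgroup.zpowers_le.2
            (Subgroup.mem_centralizer_singleton_iff.2 hsbc'.symm)) (Subgroup.zpowers_le.2
            (Subgroup.mem_centralizer_singleton_iff.2 hsac'.symm))) hw)
        obtain ⟨Q, hQ⟩ := ((IsPGroup.of_card (p := 2) (n := 1)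
          (by rw [Nat.card_zpowers, hs, pow_one])).to_sup_of_normal_right' hK
            (hle2.trans (Subgroup.centralizer_le_normalizer _)) :
            IsPGroup 2 ↥(Subgroup.zpowers s ⊔ _)).exists_le_sylow
        have hsQ : s ∈ Q := hQ (le_sup_left (α := Subgroup G) (Subgroup.mem_zpowers s))
        have haQ : a ∈ Q := hQ (le_sup_right (α := Subgroup G)
          (le_sup_right (α := Subgroup G) (Subgroup.mem_zpowers a)))
        have hbQ : b ∈ Q := hQ (le_sup_right (α := Subgroup G)
          (le_sup_left (α := Subgroup G) (Subgroup.mem_zpowers b)))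
        by_contra hne
        have hne' : s ≠ a * b := fun h => hne (Subtype.ext h)
        have hsa' : s ≠ a := fun h => hsa (Subtype.ext h)
        have hsb' : s ≠ b := fun h => hsb (Subtype.ext h)
        haveI : Fintype Q := Fintype.ofFinite _
        classical
        have hcard : Nat.card Q = 4 := by
          rw [Q.card_eq_multiplicity, ← Q₀.card_eq_multiplicity, hQ₀c]
        have hsub := Finset.card_le_univ
          ({1, ⟨a, haQ⟩, ⟨b, hbQ⟩, ⟨a * b, mul_mem haQ hbQ⟩, ⟨s, hsQ⟩} : Finset Q)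
        rw [← Nat.card_eq_fintype_card, hcard, Finset.card_insert_of_notMem,
          Finset.card_insert_of_notMem, Finset.card_insert_of_notMem,
          Finset.card_insert_of_notMem, Finset.card_singleton] at hsub
        · omega
        · simp [Subtype.ext_iff, Ne.symm hne']
        · simp [Subtype.ext_iff, Ne.symm hsb', hinv1 ha]
        · simp [Subtype.ext_iff, hab', Ne.symm hsa', hinv1 hb]
        · simp [Subtype.ext_iff, (hinv1 ha).symm, (hinv1 hb).symm, (hinv1 hs).symm, (hinv1 hab2).symm]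
    · have hd : 3 ∣ orderOf (a * b) := by
        by_contra hd
        exact hc (hcomm a b ha hb hd)
      set c := (a * b) ^ (orderOf (a * b) / 3) with hcdef
      have hco : orderOf c = 3 := orderOf_pow_orderOf_div (orderOf_pos _).ne' hd
      have hc1 : c ≠ 1 := fun h => by rw [h, orderOf_one] at hco; omega
      obtain ⟨P, hcP⟩ := sylow_of_elem X (u := c) ⟨1, by rw [hco, pow_one]⟩
      have h1 : a * c * a⁻¹ = c⁻¹ := by
        rw [hcdef, ← conj_pow, ← inv_pow, inv_eq_of_mul_eq_one_right ha2, mul_inv_rev,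
          inv_eq_of_mul_eq_one_right hb2, inv_eq_of_mul_eq_one_right ha2,
          show a * (a * b) * a = b * a by rw [← mul_assoc, ha2, one_mul]]
      have haN : a ∈ Subgroup.normalizer (P : Set G) :=
        conj_sylow X hc1 hcP (h1 ▸ inv_mem hcP)
      have hbN : b ∈ Subgroup.normalizer (P : Set G) := by
        refine conj_sylow X hc1 hcP ?_
        have h2 : b * c * b⁻¹ = c⁻¹ := by
          rw [hcdef, ← conj_pow, ← inv_pow, inv_eq_of_mul_eq_one_right hb2, mul_inv_rev,
            inv_eq_of_mul_eq_one_right hb2, inv_eq_of_mul_eq_one_right ha2,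
            show b * (a * b) * b = b * a * (b * b) by group, hb2, mul_one]
        exact h2 ▸ inv_mem hcP
      -- the central involution of `N(P)`
      obtain ⟨P₁, hP₁⟩ := hbad x hx2
      obtain ⟨g, hg⟩ := MulAction.exists_smul_eq G P₁ P
      set s := g * x * g⁻¹ with hsdef
      have hs : orderOf s = 2 := by rw [hsdef, hconjo, hx2]
      have hsP : ∀ w ∈ P, s * w = w * s := by
        intro w hw
        rw [← hg, ← SetLike.mem_coe, Sylow.coe_smul] at hw
        obtain ⟨z, hz, rfl⟩ := hw
        show g * x * g⁻¹ * (g * z * g⁻¹) = g * z * g⁻¹ * (g * x * g⁻¹)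
        calc g * x * g⁻¹ * (g * z * g⁻¹) = g * (x * z) * g⁻¹ := by group
          _ = g * (z * x) * g⁻¹ := by rw [hP₁ z hz]
          _ = _ := by group
      have hcen : ∀ n ∈ Subgroup.normalizer (P : Set G), n * s * n⁻¹ = s := by
        intro n hn
        refine huniq P _ _ (by rw [hconjo, hs]) hs (fun w hw => ?_) hsP
        have hw' : n⁻¹ * (w * n) ∈ P := by
          rw [← mul_assoc]
          exact (Subgroup.mem_set_normalizer_iff''.1 hn w).1 hw
        calc n * s * n⁻¹ * w = n * (s * (n⁻¹ * (w * n))) * n⁻¹ := by group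
          _ = n * ((n⁻¹ * (w * n)) * s) * n⁻¹ := by
            rw [hsP _ hw']
          _ = _ := by group
      have hsac : s * a = a * s := (mul_inv_eq_iff_eq_mul.1 (hcen a haN)).symm
      have hsbc : s * b = b * s := (mul_inv_eq_iff_eq_mul.1 (hcen b hbN)).symm
      refine ⟨⟨s, hs⟩, ⟨⟨fun h => ?_, hsac⟩, fun h => ?_, hsbc⟩, ?_⟩
      · have h' : s = a := congrArg Subtype.val h
        rw [h'] at hsbc
        exact hc hsbc
      · have h' : s = b := congrArg Subtype.val h
        rw [h'] at hsac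
        exact hc hsac.symm
      · rintro ⟨t, ht⟩ ⟨⟨-, hta⟩, -, htb⟩
        refine Subtype.ext (huniq P t s ht hs ?_ hsP)
        exact centralizes X hc1 hcP (hcop ht)
          (Commute.pow_right (Commute.mul_right hta htb) _)
  classical
  haveI : Fintype G := Fintype.ofFinite G
  haveI : Nonempty I := ⟨⟨x, hx2⟩⟩
  let nb : I → Finset I := fun a => Finset.univ.filter fun s => s ≠ a ∧ (s : G) * a = a * s
  have hreg : ∀ a b : I, (nb a).card = (nb b).card := by
    have h : ∀ a : I, (nb a).card = (nb ⟨x, hx2⟩).card := by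
      rintro ⟨a, ha⟩
      obtain ⟨g, hg⟩ := hconj a ha
      refine (Finset.card_bij (fun (s : I) _ => (⟨g * (s : G) * g⁻¹, by rw [hconjo]; exact s.2⟩ : I)) ?_ ?_ ?_).symm
      · intro s hs
        simp only [nb, Finset.mem_filter, Finset.mem_univ, true_and] at hs ⊢
        refine ⟨fun h => hs.1 (Subtype.ext ((MulAut.conj g).injective ?_)), ?_⟩
        · exact (congrArg Subtype.val h).trans hg.symm
        · show g * (s : G) * g⁻¹ * a = a * (g * s * g⁻¹)
          rw [← hg]
          calc g * (s : G) * g⁻¹ * (g * x * g⁻¹) = g * (s * x) * g⁻¹ := by group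
            _ = g * (x * s) * g⁻¹ := by rw [show (s : G) * x = x * s from hs.2]
            _ = _ := by group
      · intro s _ t _ hst
        exact Subtype.ext ((MulAut.conj g).injective (congrArg Subtype.val hst))
      · intro t ht
        simp only [nb, Finset.mem_filter, Finset.mem_univ, true_and] at ht
        refine ⟨⟨g⁻¹ * t * g⁻¹⁻¹, by rw [hconjo]; exact t.2⟩, ?_, Subtype.ext (by group)⟩
        simp only [nb, Finset.mem_filter, Finset.mem_univ, true_and]
        refine ⟨fun h => ht.1 (Subtype.ext ?_), ?_⟩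
        · have h' : g⁻¹ * (t : G) * g⁻¹⁻¹ = x := congrArg Subtype.val h
          show (t : G) = a
          rw [← hg, ← h']
          group
        · show g⁻¹ * (t : G) * g⁻¹⁻¹ * x = x * (g⁻¹ * t * g⁻¹⁻¹)
          calc g⁻¹ * (t : G) * g⁻¹⁻¹ * x = g⁻¹ * (t * (g * x * g⁻¹)) * g := by group
            _ = g⁻¹ * ((g * x * g⁻¹) * t) * g := by rw [hg, show (t : G) * a = a * t from ht.2]
            _ = _ := by group
    exact fun a b => (h a).trans (h b).symm
  set d := (nb ⟨x, hx2⟩).card with hd
  have hd3 : 3 ≤ d := by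
    obtain ⟨P, hP⟩ := hbad x hx2
    obtain ⟨w, hw, hw1⟩ := h3c P
    have hv₀ : v₀ * x * v₀⁻¹ ∈ Q₀ ∧ v₀ * x * v₀⁻¹ ≠ x := by
      have hall : ∀ z ∈ Q₀, z ≠ 1 → z = x ∨ z ≠ x := fun z _ _ => em _
      by_contra hno
      have hsub : ∀ z ∈ Q₀, z = 1 ∨ z = x := by
        intro z hz
        by_cases hz1 : z = 1
        · exact Or.inl hz1
        right
        rcases hQ₀ z hz hz1 with h | h | h
        · exact h
        · by_contra hne
          exact hno ⟨h ▸ hz, h ▸ hne⟩
        · by_contra hne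
          by_cases hy : v₀ * x * v₀⁻¹ = x
          · rw [hy] at h
            exact hne (h.trans hy)
          · refine hno ⟨?_, hy⟩
            have : z * x ∈ Q₀ := mul_mem hz hxQ₀
            rcases hQ₀ _ this (fun h1 => hne (mul_right_cancel (h1.trans
              (by rw [← pow_two, ← hx2, pow_orderOf_eq_one] : (1 : G) = x * x)))) with h' | h' | h'
            · exact absurd (mul_eq_right.1 h') hz1
            · exact h' ▸ this
            · exact absurd (mul_eq_left.1 (h'.trans h.symm)) hx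
      haveI : Fintype Q₀ := Fintype.ofFinite _
      have h4 : (Finset.univ : Finset Q₀) ⊆ {1, ⟨x, hxQ₀⟩} := by
        intro z _
        rcases hsub z z.2 with h | h
        · simp [Subtype.ext_iff, h]
        · simp [Subtype.ext_iff, h]
      have h5 := (Finset.card_le_card h4).trans Finset.card_le_two
      rw [Finset.card_univ, ← Nat.card_eq_fintype_card, hQ₀c] at h5
      omega
    set t := v₀ * x * v₀⁻¹ with ht
    have htx : t ≠ x := hv₀.2
    have hto : orderOf t = 2 := by rw [ht, hconjo, hx2]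
    have htc : t * x = x * t := comm_of_abelian (X.hab _ (by rw [hQ₀c]; norm_num)) hv₀.1 hxQ₀
    have htnP : ∀ z ∈ P, z ≠ 1 → t * z ≠ z * t := fun z hz hz1 h =>
      htx (huniq P t x hto hx2 (centralizes X hz1 hz (hcop hto) h) hP)
    have hwk : ∀ i : ℕ, (⟨w ^ i * t * (w ^ i)⁻¹, by rw [hconjo, hto]⟩ : I) ∈ nb ⟨x, hx2⟩ := by
      intro i
      simp only [nb, Finset.mem_filter, Finset.mem_univ, true_and]
      have hc : Commute x (w ^ i) := (Commute.pow_right (hP w hw) i)
      refine ⟨fun h => htx ((MulAut.conj (w ^ i)).injective ((congrArg Subtype.val h).trans ?_)), ?_⟩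
      · show x = w ^ i * x * (w ^ i)⁻¹
        rw [← hc.eq, mul_inv_cancel_right]
      · exact ((hc.mul_right (Commute.symm htc)).mul_right hc.inv_right).eq.symm
    have hinj : ∀ i j : ℕ, i < 3 → j < 3 → i < j →
        w ^ i * t * (w ^ i)⁻¹ ≠ w ^ j * t * (w ^ j)⁻¹ := by
      intro i j hi hj hij h
      obtain ⟨n, hn⟩ := IsPGroup.iff_orderOf.1 P.isPGroup' ⟨w, hw⟩
      rw [Subgroup.orderOf_mk] at hn
      have hne : w ^ (j - i) ≠ 1 := by
        intro h1
        have hdv := orderOf_dvd_of_pow_eq_one h1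
        rcases Nat.eq_zero_or_pos n with h0 | h0
        · exact hw1 (orderOf_eq_one_iff.1 (by rw [hn, h0, pow_zero]))
        · have := Nat.le_of_dvd (by omega) ((dvd_pow_self 3 h0.ne').trans (hn ▸ hdv))
          omega
      refine htnP _ (pow_mem hw _) hne ?_
      rw [show j = i + (j - i) by omega, pow_add] at h
      have h2 : t = w ^ (j - i) * t * (w ^ (j - i))⁻¹ := by
        have := congrArg (fun g => (w ^ i)⁻¹ * g * w ^ i) h
        simpa [mul_assoc] using this
      nth_rw 1 [h2]
      rw [inv_mul_cancel_right]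
    refine le_trans (le_of_eq (Finset.card_eq_three.2 ⟨_, _, _, ?_, ?_, ?_, rfl⟩).symm)
      (Finset.card_le_card (show ({⟨w ^ 0 * t * (w ^ 0)⁻¹, by rw [hconjo, hto]⟩,
        ⟨w ^ 1 * t * (w ^ 1)⁻¹, by rw [hconjo, hto]⟩,
        ⟨w ^ 2 * t * (w ^ 2)⁻¹, by rw [hconjo, hto]⟩} : Finset I) ⊆ nb ⟨x, hx2⟩ by
          simp only [Finset.insert_subset_iff, Finset.singleton_subset_iff]
          exact ⟨hwk 0, hwk 1, hwk 2⟩))
    · exact fun h => hinj 0 1 (by norm_num) (by norm_num) (by norm_num) (congrArg Subtype.val h)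
    · exact fun h => hinj 0 2 (by norm_num) (by norm_num) (by norm_num) (congrArg Subtype.val h)
    · exact fun h => hinj 1 2 (by norm_num) (by norm_num) (by norm_num) (congrArg Subtype.val h)
  -- the friendship theorem
  obtain ⟨r, hr, hrd⟩ : ∃ r : ℕ, r.Prime ∧ r ∣ d - 1 := Nat.exists_prime_and_dvd (by omega)
  haveI := Fact.mk hr
  have hd1 : (d : ZMod r) = 1 := by
    have : ((d - 1 : ℕ) : ZMod r) = 0 := (ZMod.natCast_eq_zero_iff _ _).2 hrd
    rw [show d = d - 1 + 1 by omega, Nat.cast_add, this, zero_add, Nat.cast_one]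
  let A : Matrix I I (ZMod r) := Matrix.of fun a s => if s ∈ nb a then 1 else 0
  let J : Matrix I I (ZMod r) := Matrix.of fun _ _ => 1
  have hsym : ∀ a b : I, a ∈ nb b ↔ b ∈ nb a := fun a b => by
    simp only [nb, Finset.mem_filter, Finset.mem_univ, true_and]
    exact ⟨fun h => ⟨Ne.symm h.1, h.2.symm⟩, fun h => ⟨Ne.symm h.1, h.2.symm⟩⟩
  have hA2 : A * A = J := by
    ext a b
    simp only [Matrix.mul_apply, A, J, Matrix.of_apply, ← ite_and, mul_ite, mul_one, mul_zero]
    rw [Finset.sum_boole]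
    by_cases hab : a = b
    · subst hab
      rw [show (Finset.univ.filter fun s => a ∈ nb s ∧ s ∈ nb a) = nb a by
        ext s; simp [hsym a s], hreg a ⟨x, hx2⟩]
      exact hd1
    · obtain ⟨s, ⟨hs1, hs2⟩, hs3⟩ := hcommon a b hab
      rw [show (Finset.univ.filter fun s => b ∈ nb s ∧ s ∈ nb a) = {s} by
        ext s'
        simp only [nb, Finset.mem_filter, Finset.mem_univ, true_and, Finset.mem_singleton]
        constructor
        · rintro ⟨⟨h1, h2⟩, h3⟩
          exact hs3 s' ⟨h3, Ne.symm h1, h2.symm⟩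
        · rintro rfl
          exact ⟨⟨Ne.symm hs2.1, hs2.2.symm⟩, hs1⟩]
      simp
  have hAJ : A * J = J := by
    ext a b
    simp only [Matrix.mul_apply, A, J, Matrix.of_apply, mul_one]
    rw [Finset.sum_boole, Finset.filter_univ_mem, hreg a ⟨x, hx2⟩]
    exact hd1
  have hpow : ∀ k, 2 ≤ k → A ^ k = J := by
    intro k hk
    induction k, hk using Nat.le_induction with
    | base => rw [pow_two, hA2]
    | succ k _ ih => rw [pow_succ', ih, hAJ]
  have htrA : Matrix.trace A = 0 := by
    simp [Matrix.trace, A, nb]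
  have hn0 : (Fintype.card I : ZMod r) = 0 := by
    have h := ZMod.trace_pow_card A
    rw [hpow r hr.two_le, htrA, zero_pow hr.ne_zero] at h
    simpa [Matrix.trace, J] using h
  have hJJ : J * J = J := by
    rw [← hpow 2 le_rfl, ← pow_add, hpow 2 le_rfl, hpow (2 + 2) (by norm_num)]
  have := congrFun (congrFun hJJ ⟨x, hx2⟩) ⟨x, hx2⟩
  simp [Matrix.mul_apply, J, hn0] at this

theorem contradiction_of_ctx (hp2 : p ≠ 2) : False := by
  have hnb := no_bad X hp2
  have hpp : ∀ (a b : G), a ≠ 1 → (orderOf a).Coprime p → b ≠ 1 → (∃ n, orderOf b = p ^ n) →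
      a * b ≠ b * a := fun a b ha hao hb hbo h => hnb a ⟨ha, hao, b, hb, hbo, h⟩
  have hdiv : ∀ g : G, (orderOf g).Coprime p ∨ ∃ n, orderOf g = p ^ n := by
    intro g
    obtain ⟨a, b, hab, ha, hb, hao, hbo⟩ := PBasic.exists_pPart_mul (p := p) g
    by_cases ha1 : a = 1
    · rw [← hab, ha1, one_mul]; exact Or.inl hbo
    by_cases hb1 : b = 1
    · rw [← hab, hb1, mul_one]; exact Or.inr hao
    refine absurd ?_ (hpp b a hb1 hbo ha1 hao)
    obtain ⟨i, rfl⟩ := ha
    obtain ⟨j, rfl⟩ := hb
    exact ((Commute.refl g).zpow_zpow j i).eq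
  have hCp : ∀ x : G, x ≠ 1 → (orderOf x).Coprime p →
      IsMulCommutative (Subgroup.centralizer ({x} : Set G)) := by
    intro x hx hxo
    refine X.hab _ fun hd => ?_
    obtain ⟨⟨u, hu⟩, huo⟩ := exists_prime_orderOf_dvd_card' p hd
    rw [Subgroup.orderOf_mk] at huo
    exact hpp x u hx hxo (fun h => by rw [h, orderOf_one] at huo; exact hp.out.ne_one huo.symm)
      ⟨1, by rw [huo, pow_one]⟩ (Subgroup.mem_centralizer_singleton_iff.1 hu).symm
  have hCu : ∀ u : G, u ≠ 1 → ∀ P : Sylow p G, u ∈ P → ∀ g, g * u = u * g → g ∈ P := by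
    intro u hu P hP g hg
    obtain ⟨n, hn⟩ := IsPGroup.iff_orderOf.1 P.isPGroup' ⟨u, hP⟩
    rw [Subgroup.orderOf_mk] at hn
    rcases hdiv g with hgo | hgo
    · by_cases hg1 : g = 1
      · exact hg1 ▸ one_mem _
      · exact absurd hg (hpp g u hg1 hgo hu ⟨n, hn⟩)
    · exact mem_sylow_of_normalizes X hgo (comm_normalizes X hu hP hg)
  rcases Nat.even_or_odd (Nat.card G) with heven | hodd
  swap
  · -- odd order: the CA-theorem
    have hs : Group.IsSolvable G := S0182.result hodd (by
      intro x hx a ha b hb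
      rcases hdiv x with hxo | hxo
      · exact comm_of_abelian (hCp x hx hxo) ha hb
      · obtain ⟨P, hP⟩ := sylow_of_elem X hxo
        haveI := X.hcyc P
        exact comm_of_abelian inferInstance
          (hCu x hx P hP a (Subgroup.mem_centralizer_singleton_iff.1 ha))
          (hCu x hx P hP b (Subgroup.mem_centralizer_singleton_iff.1 hb)))
    rcases X.hsimple (_root_.commutator G) inferInstance with h | h
    · refine X.hnab fun a b => ?_
      have : ⁅a, b⁆ ∈ _root_.commutator G :=
        Subgroup.commutator_mem_commutator (Subgroup.mem_top a) (Subgroup.mem_top b)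
      rw [h, Subgroup.mem_bot, commutatorElement_eq_one_iff_mul_comm] at this
      exact this
    · haveI := hs
      haveI : Nontrivial G := by
        by_contra hnt
        rw [not_nontrivial_iff_subsingleton] at hnt
        exact X.hnab fun a b => Subsingleton.elim _ _
      exact (Group.IsSolvable.commutator_lt_top_of_nontrivial G).ne h
  classical
  haveI : Fintype G := Fintype.ofFinite G
  obtain ⟨t, ht⟩ := exists_prime_orderOf_dvd_card' (G := G) 2 heven.two_dvd
  have hcop : ∀ {s : G}, orderOf s = 2 → (orderOf s).Coprime p := fun h => by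
    rw [h]; exact (Nat.coprime_primes Nat.prime_two hp.out).2 (Ne.symm hp2)
  have hinv1 : ∀ {s : G}, orderOf s = 2 → s ≠ 1 := fun h h' => by rw [h', orderOf_one] at h; omega
  have hconjo : ∀ g s : G, orderOf (g * s * g⁻¹) = orderOf s := fun g s =>
    orderOf_injective (MulAut.conj g).toMonoidHom (MulAut.conj g).injective s
  have hsq : ∀ {s : G}, orderOf s = 2 → s * s = 1 := fun h => by
    rw [← pow_two, ← h, pow_orderOf_eq_one]
  let I := {s : G // orderOf s = 2}
  -- `p` divides the number of involutions in any invariant set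
  have hfpf : ∀ (v : G), v ≠ 1 → (∃ n, orderOf v = p ^ n) → ∀ S : Set G,
      (∀ s ∈ S, orderOf s = 2) → (∀ s ∈ S, v * s * v⁻¹ ∈ S) → p ∣ Nat.card S := by
    intro v hv hvo S hS hSv
    obtain ⟨n, hn⟩ := hvo
    have hz : IsPGroup p (Subgroup.zpowers v) :=
      IsPGroup.of_card (n := n) (by rw [Nat.card_zpowers, hn])
    have hSz : ∀ h ∈ Subgroup.zpowers v, ∀ s ∈ S, h * s * h⁻¹ ∈ S := by
      intro h hh
      rw [← mem_powers_iff_mem_zpowers] at hh
      obtain ⟨k, rfl⟩ := hh
      show ∀ s ∈ S, v ^ k * s * (v ^ k)⁻¹ ∈ S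
      induction k with
      | zero => simp
      | succ k ih =>
        intro s hs
        have := hSv _ (ih s hs)
        rwa [show v * (v ^ k * s * (v ^ k)⁻¹) * v⁻¹ = v ^ (k + 1) * s * (v ^ (k + 1))⁻¹ by
          rw [pow_succ']; group] at this
    letI : MulAction (Subgroup.zpowers v) S :=
      { smul := fun h s => ⟨(h : G) * s * (h : G)⁻¹, hSz h h.2 s s.2⟩
        one_smul := fun s => Subtype.ext (by show (1 : G) * s * (1 : G)⁻¹ = s; group)
        mul_smul := fun a b s => Subtype.ext (by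
          show ((a : G) * b) * s * ((a : G) * b)⁻¹ = (a : G) * ((b : G) * s * (b : G)⁻¹) * (a : G)⁻¹
          group) }
    have hmod := hz.card_modEq_card_fixedPoints S
    have hempty : MulAction.fixedPoints (Subgroup.zpowers v) S = ∅ := by
      rw [Set.eq_empty_iff_forall_notMem]
      intro s hs
      have h1 : v * (s : G) * v⁻¹ = s :=
        congrArg Subtype.val (hs ⟨v, Subgroup.mem_zpowers v⟩)
      exact hpp s v (hinv1 (hS s s.2)) (hcop (hS s s.2)) hv ⟨n, hn⟩
        (mul_inv_eq_iff_eq_mul.1 h1).symm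
    rw [hempty] at hmod
    simpa [Nat.modEq_zero_iff_dvd] using hmod
  set A := Subgroup.centralizer ({t} : Set G) with hA
  have hAab := hCp t (hinv1 ht) (hcop ht)
  obtain ⟨Q, hQ⟩ := (IsPGroup.of_card (p := 2) (n := 1)
    (by rw [Nat.card_zpowers, ht, pow_one]) : IsPGroup 2 (Subgroup.zpowers t)).exists_le_sylow
  have htQ : t ∈ Q := hQ (Subgroup.mem_zpowers t)
  obtain ⟨v, hv, hvo, hvt⟩ := exists_mover X (Ne.symm hp2) Q htQ (hinv1 ht)
  have hv1 : v ≠ 1 := fun h => hvt (by rw [h, one_mul, mul_one])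
  -- `v` normalizes `A`
  have hvA : ∀ a ∈ A, v * a * v⁻¹ ∈ A := by
    have hQab : IsMulCommutative Q := X.hab _ fun hd => by
      obtain ⟨k, hk⟩ := IsPGroup.iff_card.1 Q.isPGroup'
      rw [hk] at hd
      exact hp2 ((Nat.prime_dvd_prime_iff_eq hp.out Nat.prime_two).1 (hp.out.dvd_of_dvd_pow hd))
    have ht'A : v * t * v⁻¹ ∈ A := Subgroup.mem_centralizer_singleton_iff.2
      (comm_of_abelian hQab ((Subgroup.mem_normalizer_iff.1 hv t).1 htQ) htQ)
    intro a ha
    refine Subgroup.mem_centralizer_singleton_iff.2 (comm_of_abelian (hCp (v * t * v⁻¹)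
      (hinv1 ((hconjo v t).trans ht)) (hcop ((hconjo v t).trans ht))) ?_ ?_)
    · refine Subgroup.mem_centralizer_singleton_iff.2 ?_
      calc v * a * v⁻¹ * (v * t * v⁻¹) = v * (a * t) * v⁻¹ := by group
        _ = v * (t * a) * v⁻¹ := by rw [Subgroup.mem_centralizer_singleton_iff.1 ha]
        _ = _ := by group
    · exact Subgroup.mem_centralizer_singleton_iff.2
        (Subgroup.mem_centralizer_singleton_iff.1 ht'A).symm
  have hm : p ∣ Nat.card {s : G | orderOf s = 2 ∧ s ∈ A} := by
    refine hfpf v hv1 hvo _ (fun s hs => hs.1) fun s hs => ⟨?_, hvA s hs.2⟩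
    rw [hconjo]; exact hs.1
  have hi : p ∣ Nat.card {s : G | orderOf s = 2} := by
    refine hfpf v hv1 hvo _ (fun s hs => hs) fun s hs => ?_
    show orderOf _ = 2
    rw [hconjo]; exact hs
  -- Sylow subgroups normalized by `t`
  have hinvert : ∀ P : Sylow p G, ∀ s : G, orderOf s = 2 → s ∈ Subgroup.normalizer (P : Set G) →
      ∀ w ∈ P, s * w * s⁻¹ = w⁻¹ := by
    intro P s hs hsN w hw
    haveI := X.hcyc P
    rcases cyclic_action (P : Subgroup G) (X.hcyc P) P.isPGroup' hsN (hcop hs) with h | ⟨h, -⟩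
    · exfalso
      by_cases hPb : ∀ z ∈ P, z = (1 : G)
      · refine X.hnn P ?_
        rw [(Subgroup.eq_bot_iff_forall _).2 hPb]
        infer_instance
      push Not at hPb
      obtain ⟨z, hz, hz1⟩ := hPb
      obtain ⟨n, hn⟩ := IsPGroup.iff_orderOf.1 P.isPGroup' ⟨z, hz⟩
      rw [Subgroup.orderOf_mk] at hn
      exact hpp s z (hinv1 hs) (hcop hs) hz1 ⟨n, hn⟩ (h z hz)
    · have hsw : s * w * s⁻¹ ∈ (P : Subgroup G) := (Subgroup.mem_normalizer_iff.1 hsN w).1 hw
      refine eq_inv_of_mul_eq_one_left (h _ (mul_mem hsw hw) ?_)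
      have hs' : s⁻¹ = s := inv_eq_of_mul_eq_one_right (hsq hs)
      have h1 : s * (s * w * s⁻¹) = w * s := by rw [hs', ← mul_assoc, ← mul_assoc, hsq hs, one_mul]
      have h2 : s * w * s⁻¹ * s = s * w := inv_mul_cancel_right _ _
      calc s * (s * w * s⁻¹ * w) = (s * (s * w * s⁻¹)) * w := by rw [mul_assoc s (s * w * s⁻¹) w]
        _ = w * (s * w) := by rw [h1, mul_assoc]
        _ = w * (s * w * s⁻¹ * s) := by rw [h2]
        _ = (w * (s * w * s⁻¹)) * s := by rw [mul_assoc w (s * w * s⁻¹) s]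
        _ = _ := by rw [comm_of_abelian (H := (P : Subgroup G)) inferInstance hw hsw]
  let F := {P : Sylow p G // t ∈ Subgroup.normalizer (P : Set G)}
  let D := Σ P : F, {w : G // w ∈ (P.1 : Subgroup G) ∧ w ≠ 1}
  have htinv : t⁻¹ = t := inv_eq_of_mul_eq_one_right (hsq ht)
  have hsplit : Nat.card {s : G | orderOf s = 2} =
      Nat.card {s : G | orderOf s = 2 ∧ s ∈ A} + Nat.card D := by
    have h1 : Nat.card {s : G | orderOf s = 2} = Nat.card {s : G | orderOf s = 2 ∧ s ∈ A} +
        Nat.card {s : G | orderOf s = 2 ∧ s ∉ A} := by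
      rw [← Nat.card_sum]
      exact Nat.card_congr (((Equiv.sumCompl fun s : {s : G | orderOf s = 2} => (s : G) ∈ A).symm).trans
        (Equiv.sumCongr (Equiv.subtypeSubtypeEquivSubtypeInter _ (fun s : G => s ∈ A))
          (Equiv.subtypeSubtypeEquivSubtypeInter _ (fun s : G => s ∉ A))))
    rw [h1]
    congr 1
    symm
    refine Nat.card_eq_of_bijective (fun d => ⟨t * d.2.1, ?_⟩) ⟨?_, ?_⟩
    · obtain ⟨⟨P, hP⟩, w, hw, hw1⟩ := d
      have hinv := hinvert P t ht hP w hw
      refine ⟨orderOf_eq_prime ?_ ?_, ?_⟩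
      · rw [pow_two, show t * w * (t * w) = (t * w * t⁻¹) * (t * t) * w by group, hinv, hsq ht,
          mul_one, inv_mul_cancel]
      · intro h
        obtain ⟨n, hn⟩ := IsPGroup.iff_orderOf.1 P.isPGroup' ⟨w, hw⟩
        have h' : t * w = 1 := h
        rw [Subgroup.orderOf_mk, ← inv_eq_of_mul_eq_one_right h', htinv, ht] at hn
        have h2 : p ∣ 2 := by
          rcases Nat.eq_zero_or_pos n with h0 | h0
          · rw [h0, pow_zero] at hn; omega
          · exact hn ▸ dvd_pow_self p h0.ne'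
        exact hp2 ((Nat.prime_dvd_prime_iff_eq hp.out Nat.prime_two).1 h2)
      · intro h
        have h1 : t * w * t = t * (t * w) := Subgroup.mem_centralizer_singleton_iff.1 h
        rw [mul_assoc] at h1
        obtain ⟨n, hn⟩ := IsPGroup.iff_orderOf.1 P.isPGroup' ⟨w, hw⟩
        rw [Subgroup.orderOf_mk] at hn
        exact hpp t w (hinv1 ht) (hcop ht) hw1 ⟨n, hn⟩ (mul_left_cancel h1).symm
    · rintro ⟨⟨P, hP⟩, w, hw, hw1⟩ ⟨⟨P', hP'⟩, w', hw', hw1'⟩ h
      have h' : w = w' := mul_left_cancel (congrArg Subtype.val h)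
      subst h'
      obtain rfl := sylow_unique X hw1 hw hw'
      rfl
    · rintro ⟨s, hs, hsA⟩
      set g := t * s with hg
      have hg1 : g ≠ 1 := by
        intro h
        apply hsA
        rw [show s = t by rw [← inv_eq_of_mul_eq_one_right h, htinv]]
        exact Subgroup.mem_centralizer_singleton_iff.2 rfl
      have hs' : s⁻¹ = s := inv_eq_of_mul_eq_one_right (hsq hs)
      have hgi : t * g * t⁻¹ = g⁻¹ := by
        rw [hg, htinv, ← mul_assoc, hsq ht, one_mul, mul_inv_rev, htinv, hs']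
      have hgp : ∃ n, orderOf g = p ^ n := by
        rcases hdiv g with hgo | hgo
        · exfalso
          apply hsA
          refine Subgroup.mem_centralizer_singleton_iff.2 ?_
          have hle : Subgroup.zpowers t ≤ Subgroup.normalizer (Subgroup.zpowers g : Set G) := by
            rw [Subgroup.zpowers_le, Subgroup.mem_set_normalizer_iff]
            have hc : ∀ w ∈ Subgroup.zpowers g, t * w * t⁻¹ ∈ Subgroup.zpowers g := by
              rintro _ ⟨i, rfl⟩
              refine ⟨-i, ?_⟩
              show g ^ (-i) = t * g ^ i * t⁻¹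
              rw [← conj_zpow, hgi, inv_zpow, zpow_neg]
            intro w
            refine ⟨hc w, fun hw => ?_⟩
            have := hc _ hw
            rwa [show t * (t * w * t⁻¹) * t⁻¹ = (t * t) * w * (t * t)⁻¹ by group, hsq ht,
              one_mul, inv_one, mul_one] at this
          have hT : (Nat.card ↥(Subgroup.zpowers t ⊔ Subgroup.zpowers g)).Coprime p := by
            refine Nat.Coprime.coprime_dvd_left (card_sup_dvd_normalizer hle) ?_
            rw [Nat.card_zpowers, Nat.card_zpowers]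
            exact (hcop ht).mul_left hgo
          have := comm_of_abelian (X.hab _ (hp.out.coprime_iff_not_dvd.1 hT.symm))
            (le_sup_left (α := Subgroup G) (Subgroup.mem_zpowers t))
            (le_sup_right (α := Subgroup G) (Subgroup.mem_zpowers g))
          rw [hg, mul_assoc t s t] at this
          exact (mul_left_cancel this).symm
        · exact hgo
      obtain ⟨P, hP⟩ := sylow_of_elem X hgp
      refine ⟨⟨⟨P, conj_sylow X hg1 hP (hgi ▸ inv_mem hP)⟩, g, hP, hg1⟩, Subtype.ext ?_⟩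
      show t * g = s
      rw [hg, ← mul_assoc, hsq ht, one_mul]
  have hpF : p ∣ Nat.card F := by
    have h1 : p ∣ Nat.card D := (Nat.dvd_add_right hm).1 (hsplit ▸ hi)
    obtain ⟨P₀⟩ : Nonempty (Sylow p G) := inferInstance
    have hfib : ∀ P : F, Nat.card {w : G // w ∈ (P.1 : Subgroup G) ∧ w ≠ 1} = Nat.card P₀ - 1 := by
      intro P
      rw [Nat.card_congr (Equiv.subtypeSubtypeEquivSubtypeInter (fun w => w ∈ (P.1 : Subgroup G))
        (fun w : G => w ≠ 1)).symm, Sylow.card_eq_multiplicity P₀, ← Sylow.card_eq_multiplicity P.1,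
        Nat.card_eq_fintype_card, Fintype.card_subtype_compl (fun w : (P.1 : Subgroup G) => (w : G) = 1),
        Nat.card_eq_fintype_card]
      congr 1
      refine Fintype.card_eq_one_iff.2 ⟨⟨1, rfl⟩, fun w => Subtype.ext (Subtype.ext w.2)⟩
    rw [Nat.card_sigma, Finset.sum_congr rfl (fun P _ => hfib P), Finset.sum_const, smul_eq_mul,
      Finset.card_univ, ← Nat.card_eq_fintype_card] at h1
    obtain ⟨n, hn⟩ := IsPGroup.iff_card.1 P₀.isPGroup'
    refine (hp.out.dvd_mul.1 h1).resolve_right fun h => ?_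
    rw [hn] at h
    rcases Nat.eq_zero_or_pos n with h0 | h0
    · refine X.hnn P₀ ?_
      rw [(Subgroup.card_eq_one (H := (P₀ : Subgroup G))).1 (by rw [hn, h0, pow_zero])]
      infer_instance
    · have h2 := Nat.dvd_sub (dvd_pow_self p h0.ne') h
      rw [Nat.sub_sub_self (Nat.one_le_pow _ _ hp.out.pos)] at h2
      exact hp.out.ne_one (Nat.dvd_one.1 h2)
  -- `A` acts transitively on `F`
  have hFm : ∀ (a : A) (P : F), t ∈ Subgroup.normalizer (((a : G) • P.1 : Sylow p G) : Set G) := by
    intro a P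
    rw [← Sylow.smul_eq_iff_mem_normalizer, smul_smul,
      ← Subgroup.mem_centralizer_singleton_iff.1 a.2, mul_smul,
      Sylow.smul_eq_iff_mem_normalizer.2 P.2]
  letI : MulAction A F :=
    { smul := fun a P => ⟨(a : G) • P.1, hFm a P⟩
      one_smul := fun P => Subtype.ext (one_smul G P.1)
      mul_smul := fun a b P => Subtype.ext (mul_smul (a : G) (b : G) P.1) }
  haveI : MulAction.IsPretransitive A F := ⟨fun P₁ P₂ => by
    obtain ⟨g, hg⟩ := MulAction.exists_smul_eq G P₁.1 P₂.1
    set s := g⁻¹ * t * g⁻¹⁻¹ with hs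
    have hso : orderOf s = 2 := by rw [hs, hconjo, ht]
    have hsN : s ∈ Subgroup.normalizer (P₁.1 : Set G) := by
      rw [← Sylow.smul_eq_iff_mem_normalizer, hs, inv_inv, mul_smul, mul_smul, hg,
        Sylow.smul_eq_iff_mem_normalizer.2 P₂.2, ← hg, inv_smul_smul]
    obtain ⟨z, hz, hz1⟩ : ∃ z ∈ P₁.1, z ≠ (1 : G) := by
      by_contra h
      push Not at h
      refine X.hnn P₁.1 ?_
      rw [(Subgroup.eq_bot_iff_forall _).2 h]
      infer_instance
    have hw : t * s ∈ (P₁.1 : Subgroup G) := hCu z hz1 P₁.1 hz _ (by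
      have h1 := hinvert P₁.1 t ht P₁.2 z⁻¹ (inv_mem hz)
      have h2 := hinvert P₁.1 s hso hsN z hz
      rw [inv_inv] at h1
      calc t * s * z = t * (s * z * s⁻¹) * s := by group
        _ = t * z⁻¹ * t⁻¹ * (t * s) := by rw [h2]; group
        _ = _ := by rw [h1])
    set w := t * s with hwdef
    have hodd : (Nat.card (P₁.1 : Subgroup G)).Coprime 2 := by
      obtain ⟨n, hn⟩ := IsPGroup.iff_card.1 P₁.1.isPGroup'
      rw [hn]
      exact ((Nat.coprime_primes hp.out Nat.prime_two).2 hp2).pow_left n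
    obtain ⟨r, hr⟩ := ((powCoprime hodd).surjective (⟨w, hw⟩ : (P₁.1 : Subgroup G)))
    have hr2 : (r : G) ^ 2 = w := congrArg Subtype.val hr
    have hrs : (r : G)⁻¹ * t * r = s := by
      have h1 := hinvert P₁.1 t ht P₁.2 r r.2
      calc (r : G)⁻¹ * t * r = (t * r * t⁻¹) * t * r := by rw [h1]
        _ = t * (r : G) ^ 2 := by rw [pow_two]; group
        _ = s := by rw [hr2, hwdef, ← mul_assoc, hsq ht, one_mul]
    refine ⟨⟨g * (r : G)⁻¹, Subgroup.mem_centralizer_singleton_iff.2 ?_⟩, Subtype.ext ?_⟩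
    · rw [hs, inv_inv] at hrs
      calc g * (r : G)⁻¹ * t = g * ((r : G)⁻¹ * t * r) * (r : G)⁻¹ := by group
        _ = _ := by rw [hrs]; group
    · show (g * (r : G)⁻¹) • P₁.1 = P₂.1
      rw [mul_smul, Sylow.smul_eq_iff_mem_normalizer.2 (Subgroup.le_normalizer (inv_mem r.2)), hg]⟩
  obtain ⟨Pt⟩ : Nonempty F := by
    by_contra h
    rw [not_nonempty_iff] at h
    haveI := h
    -- `v` fixes `t` modulo `p` otherwise
    obtain ⟨P, hP⟩ := sylow_of_elem X hvo
    haveI := X.hcyc P
    obtain ⟨k, hk, hko, hkc⟩ := X.hact P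
    have hsur : ∀ s : G, orderOf s = 2 → s * t = t * s := by
      intro s hs
      have hD : Nat.card D = 0 := by simp [D]
      rw [hD, add_zero] at hsplit
      have hsub : {s : G | orderOf s = 2 ∧ s ∈ A} = {s : G | orderOf s = 2} :=
        Set.eq_of_subset_of_ncard_le (fun s hs => hs.1)
          (by rw [← Nat.card_coe_set_eq, ← Nat.card_coe_set_eq, hsplit])
      exact Subgroup.mem_centralizer_singleton_iff.1 ((hsub.ge hs).2)
    -- then the abelian group `A` contains all involutions and is normalized by `G`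
    have hnorm : A.Normal := ⟨fun a ha g => Subgroup.mem_centralizer_singleton_iff.2 (by
      have hgt : g * t * g⁻¹ ∈ A :=
        Subgroup.mem_centralizer_singleton_iff.2 (hsur _ ((hconjo g t).trans ht))
      have hA' := hCp (g * t * g⁻¹) (hinv1 ((hconjo g t).trans ht)) (hcop ((hconjo g t).trans ht))
      refine comm_of_abelian hA' ?_ ?_
      · refine Subgroup.mem_centralizer_singleton_iff.2 ?_
        calc g * a * g⁻¹ * (g * t * g⁻¹) = g * (a * t) * g⁻¹ := by group
          _ = g * (t * a) * g⁻¹ := by rw [Subgroup.mem_centralizer_singleton_iff.1 ha]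
          _ = _ := by group
      · exact Subgroup.mem_centralizer_singleton_iff.2
          (Subgroup.mem_centralizer_singleton_iff.1 hgt).symm)⟩
    rcases X.hsimple A hnorm with h' | h'
    · exact hinv1 ht (Subgroup.mem_bot.1 (h' ▸ Subgroup.mem_centralizer_singleton_iff.2 rfl))
    · exact centralizer_ne_top X (hinv1 ht) h'
  have hFA : Nat.card F ∣ Nat.card A := by
    rw [← MulAction.index_stabilizer_of_transitive A Pt]
    exact Subgroup.index_dvd_card _
  obtain ⟨⟨u, hu⟩, huo⟩ := exists_prime_orderOf_dvd_card' p (hpF.trans hFA)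
  rw [Subgroup.orderOf_mk] at huo
  exact hpp t u (hinv1 ht) (hcop ht) (fun h => by rw [h, orderOf_one] at huo; exact hp.out.ne_one huo.symm)
    ⟨1, by rw [huo, pow_one]⟩ (Subgroup.mem_centralizer_singleton_iff.1 hu).symm

omit X

theorem main : ∀ (n : ℕ) (G : Type u) [Group G] [Finite G], Nat.card G = n →
    (∀ H : Subgroup G, ¬ p ∣ Nat.card H → IsMulCommutative H) →
    (∀ P : Sylow p G, IsCyclic P) →
    Cfsg.HasNormalPComplement p G ∨ ∀ P : Sylow p G, (P : Subgroup G).Normal := by
  intro n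
  induction n using Nat.strong_induction_on with
  | _ n ih =>
  intro G _ _ hn hab hcyc
  by_contra hcon
  rw [not_or] at hcon
  obtain ⟨hnpc, hnn⟩ := hcon
  have hnn' : ∀ P : Sylow p G, ¬ (P : Subgroup G).Normal := by
    intro P hP
    apply hnn
    intro Q
    obtain ⟨g, rfl⟩ := MulAction.exists_smul_eq G P Q
    haveI := hP
    rwa [Sylow.smul_eq_of_normal]
  have hact : ∀ P : Sylow p G, ∃ k ∈ Subgroup.normalizer (P : Set G), (orderOf k).Coprime p ∧
      ¬ ∀ w ∈ P, k * w = w * k := by
    intro P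
    by_contra h
    push Not at h
    haveI := hcyc P
    exact hnpc (AbelianSylow.hasNormalPComplement_of_abelian P inferInstance
      fun g hg hgo w hw => (h g hg hgo w hw).symm)
  have hsub : ∀ H : Subgroup G, H ≠ ⊤ → Cfsg.HasNormalPComplement p H ∨
      ∀ S : Sylow p H, (S : Subgroup H).Normal := by
    intro H hH
    refine ih (Nat.card H) (hn ▸ ?_) H rfl (fun K hK => ?_) (fun S => ?_)
    · exact (Subgroup.card_le_card_group H).lt_of_ne fun h => hH (Subgroup.card_eq_iff_eq_top H |>.1 h)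
    · have h1 := hab (K.map H.subtype) (by rwa [Subgroup.card_map_of_injective H.subtype_injective])
      exact ⟨⟨fun a b => Subtype.ext (Subtype.ext
        (comm_of_abelian h1 ⟨a, a.2, rfl⟩ ⟨b, b.2, rfl⟩))⟩⟩
    · obtain ⟨P, hP⟩ := (S.isPGroup'.map H.subtype).exists_le_sylow
      haveI := hcyc P
      exact isCyclic_of_injective
        ((Subgroup.inclusion hP).comp ((S : Subgroup H).equivMapOfInjective H.subtype
          H.subtype_injective).toMonoidHom)
        ((Subgroup.inclusion_injective hP).comp (MulEquiv.injective _))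
  obtain ⟨P⟩ : Nonempty (Sylow p G) := inferInstance
  haveI := hcyc P
  obtain ⟨k, hk, hko, hkc⟩ := hact P
  obtain ⟨hkfix, hkcomm⟩ : (∀ w ∈ P, k * w = w * k → w = 1) ∧
      ∀ w ∈ P, ∃ v ∈ P, k * v * k⁻¹ * v⁻¹ = w :=
    (cyclic_action (P : Subgroup G) (hcyc P) P.isPGroup' hk hko).resolve_left hkc
  have hp2 : p ≠ 2 := by
    intro h2
    apply hkc
    intro w hw
    obtain ⟨a, ha⟩ := card_mulAut_cyclic_dvd (hcyc P) P.isPGroup'
    have hker : (⟨k, hk⟩ : Subgroup.normalizer (P : Set G)) ∈
        (P : Subgroup G).normalizerMonoidHom.ker := by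
      rw [MonoidHom.mem_ker, ← orderOf_eq_one_iff]
      refine Nat.eq_one_of_dvd_coprimes (hko.pow_right a) ((orderOf_map_dvd _ _).trans ?_)
        ((orderOf_dvd_natCard _).trans (ha.trans (by simp [h2])))
      rw [Subgroup.orderOf_mk]
    rw [Subgroup.normalizerMonoidHom_ker] at hker
    exact (hker w hw).symm
  -- `O_{p'}(G) = 1`
  have hOp' : Cfsg.pPrimeCore p G = ⊥ := by
    by_contra hne
    set N := Cfsg.pPrimeCore p G with hN
    have hNc := PBasic.pPrimeCore_coprime p G
    have hlt : Nat.card (G ⧸ N) < n := by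
      rw [← hn, Subgroup.card_eq_card_quotient_mul_card_subgroup N]
      exact lt_mul_of_one_lt_right Nat.card_pos ((Subgroup.one_lt_card_iff_ne_bot _).2 hne)
    have hcomap : ∀ K : Subgroup (G ⧸ N), (Nat.card K).Coprime p →
        (Nat.card (K.comap (QuotientGroup.mk' N))).Coprime p := by
      intro K hK
      rw [PBasic.coprime_card_iff]
      intro x hx
      rw [Nat.coprime_comm, hp.out.coprime_iff_not_dvd]
      intro hd
      set z := x ^ (orderOf x / p)
      have hzo : orderOf z = p := orderOf_pow_orderOf_div (orderOf_pos x).ne' hd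
      have hz1 : (QuotientGroup.mk' N) z = 1 := by
        rw [← orderOf_eq_one_iff]
        refine Nat.eq_one_of_dvd_coprimes hK ?_ ((orderOf_map_dvd _ z).trans (dvd_of_eq hzo))
        rw [map_pow]
        exact Subgroup.orderOf_dvd_natCard K (K.pow_mem hx _)
      have h2 := PBasic.coprime_orderOf_of_mem hNc ((QuotientGroup.eq_one_iff z).1 hz1)
      rw [hzo, Nat.coprime_self] at h2
      exact hp.out.ne_one h2
    rcases ih _ hlt (G ⧸ N) rfl (fun K hK => by
        have h1 := hab (K.comap (QuotientGroup.mk' N)) (hp.out.coprime_iff_not_dvd.1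
          (hcomap K (Nat.coprime_comm.1 (hp.out.coprime_iff_not_dvd.2 hK))).symm)
        refine ⟨⟨fun a b => Subtype.ext ?_⟩⟩
        obtain ⟨x, hx⟩ := QuotientGroup.mk'_surjective N a
        obtain ⟨y, hy⟩ := QuotientGroup.mk'_surjective N b
        show (a : G ⧸ N) * b = b * a
        rw [← hx, ← hy, ← map_mul, ← map_mul, comm_of_abelian h1
          (show x ∈ K.comap (QuotientGroup.mk' N) by rw [Subgroup.mem_comap, hx]; exact a.2)
          (show y ∈ K.comap (QuotientGroup.mk' N) by rw [Subgroup.mem_comap, hy]; exact b.2)])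
      (fun S => by
        obtain ⟨S₀, rfl⟩ := Sylow.mapSurjective_surjective (QuotientGroup.mk'_surjective N) p S
        haveI := hcyc S₀
        rw [Sylow.coe_mapSurjective]
        exact isCyclic_of_surjective ((QuotientGroup.mk' N).subgroupMap (S₀ : Subgroup G))
          (MonoidHom.subgroupMap_surjective _ _)) with h | h
    · apply hnpc
      obtain ⟨K, hKn, hKc, j, hKi⟩ := PBasic.hasNormalPComplement_iff.1 h
      exact PBasic.hasNormalPComplement_iff.2 ⟨K.comap (QuotientGroup.mk' N), hKn.comap _,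
        hcomap K hKc, j, by rw [Subgroup.index_comap_of_surjective _ (QuotientGroup.mk'_surjective N), hKi]⟩
    · set f := QuotientGroup.mk' N with hf
      have hbar := h (P.mapSurjective (QuotientGroup.mk'_surjective N))
      rw [Sylow.coe_mapSurjective] at hbar
      set M := (P : Subgroup G) ⊔ N with hM
      haveI : M.Normal := by
        have : M = ((P : Subgroup G).map f).comap f := by
          rw [Subgroup.comap_map_eq, hf, QuotientGroup.ker_mk']
        rw [this]
        exact hbar.comap f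
      have hfr : Subgroup.normalizer (P : Set G) ⊔ M = ⊤ := by
        have := Sylow.normalizer_sup_eq_top (P.subtype (le_sup_left : (P : Subgroup G) ≤ M))
        rwa [Sylow.coe_subtype, Subgroup.map_subgroupOf_eq_of_le le_sup_left] at this
      -- `k` centralizes `N`
      have hkN : ∀ z ∈ N, k * z = z * k := by
        intro z hz
        have hzk : (Nat.card (Subgroup.zpowers k)).Coprime p := by rwa [Nat.card_zpowers]
        have h1 := hab (Subgroup.zpowers k ⊔ N)
          (hp.out.coprime_iff_not_dvd.1 (PBasic.coprime_card_sup_of_normal _ N hzk hNc).symm)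
        exact comm_of_abelian h1 (le_sup_left (α := Subgroup G) (Subgroup.mem_zpowers k))
          (le_sup_right (α := Subgroup G) hz)
      have hkC : k ∈ Subgroup.centralizer (N : Set G) := fun z hz => (hkN z hz).symm
      have hPC : (P : Subgroup G) ≤ Subgroup.centralizer (N : Set G) := by
        intro w hw
        obtain ⟨v, hv, rfl⟩ := hkcomm w hw
        rw [show k * v * k⁻¹ * v⁻¹ = k * (v * k⁻¹ * v⁻¹) by group]
        refine mul_mem hkC ?_
        have : (Subgroup.centralizer (N : Set G)).Normal := inferInstance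
        exact this.conj_mem _ (inv_mem hkC) v
      refine hnn' P (Subgroup.normalizer_eq_top_iff.1 (top_le_iff.1 (hfr.ge.trans (sup_le le_rfl
        (sup_le Subgroup.le_normalizer ?_)))))
      refine fun z hz => Subgroup.centralizer_le_normalizer _ fun w hw => ?_
      exact (hPC hw z hz).symm
  -- `O_p(G) = 1`
  have hOp : Cfsg.pCore p G = ⊥ := by
    by_contra hne
    set O := Cfsg.pCore p G with hO
    have hOP : O ≤ (P : Subgroup G) := PBasic.pCore_le_sylow P
    set C := Subgroup.centralizer (O : Set G) with hC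
    haveI : C.Normal := inferInstance
    have hPC : (P : Subgroup G) ≤ C := fun w hw z hz =>
      comm_of_abelian (H := (P : Subgroup G)) inferInstance (hOP hz) hw
    by_cases hCt : C = ⊤
    · obtain ⟨z, hz, hz1⟩ := O.bot_or_exists_ne_one.resolve_left hne
      exact hz1 (hkfix z (hOP hz) ((hCt ▸ Subgroup.mem_top k : k ∈ C) z hz).symm)
    rcases hsub C hCt with h | h
    · have h1 : Cfsg.pPrimeCore p C = ⊥ := by
        have := PBasic.map_pPrimeCore_le_of_normal (p := p) C
        rw [hOp', le_bot_iff, Subgroup.map_eq_bot_iff_of_injective _ C.subtype_injective] at this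
        exact this
      have h2 := PBasic.quotient_pPrimeCore_isPGroup h
      have h3 : IsPGroup p C :=
        h2.of_equiv ((QuotientGroup.quotientMulEquivOfEq h1).trans QuotientGroup.quotientBot)
      have h4 : C = (P : Subgroup G) := P.is_maximal' h3 hPC
      exact hnn' P (h4 ▸ inferInstance)
    · have h1 := h (P.subtype hPC)
      haveI := Sylow.characteristic_of_normal _ h1
      have h2 : (((P.subtype hPC : Sylow p C) : Subgroup C).map C.subtype).Normal := inferInstance
      rw [Sylow.coe_subtype, Subgroup.map_subgroupOf_eq_of_le hPC] at h2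
      exact hnn' P h2
  have hsimple : ∀ N : Subgroup G, N.Normal → N = ⊥ ∨ N = ⊤ := by
    intro N hN
    by_contra h
    rw [not_or] at h
    haveI := hN
    rcases hsub N h.2 with h' | h'
    · have h1 : Cfsg.pPrimeCore p N = ⊥ := by
        have := PBasic.map_pPrimeCore_le_of_normal (p := p) N
        rw [hOp', le_bot_iff, Subgroup.map_eq_bot_iff_of_injective _ N.subtype_injective] at this
        exact this
      have h2 := PBasic.quotient_pPrimeCore_isPGroup h'
      exact h.1 (le_bot_iff.1 (hOp ▸ PBasic.le_pCore hN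
        (h2.of_equiv ((QuotientGroup.quotientMulEquivOfEq h1).trans QuotientGroup.quotientBot))))
    · obtain ⟨S⟩ : Nonempty (Sylow p N) := inferInstance
      haveI := Sylow.characteristic_of_normal _ (h' S)
      have h1 : (S : Subgroup N).map N.subtype = ⊥ :=
        le_bot_iff.1 (hOp ▸ PBasic.le_pCore inferInstance (S.isPGroup'.map _))
      rw [Subgroup.map_eq_bot_iff_of_injective _ N.subtype_injective] at h1
      refine h.1 (le_bot_iff.1 (hOp' ▸ PBasic.le_pPrimeCore hN ?_))
      rw [Nat.coprime_comm, hp.out.coprime_iff_not_dvd]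
      intro hd
      exact hp.out.ne_one (Nat.dvd_one.1 ((S.dvd_card_of_dvd_card hd).trans
        (dvd_of_eq (by rw [h1, Subgroup.card_bot]))))
  refine contradiction_of_ctx
    { hab := hab, hcyc := hcyc, hsub := hsub, hsimple := hsimple, hnn := hnn', hact := hact
      hnab := fun h => hnn' P ⟨fun w hw g => by rwa [h g w, mul_inv_cancel_right]⟩ } hp2

end Cfsg.Agent.S4016


set_option autoImplicit false
open Cfsg

namespace Cfsg.Agent.S4016

/-- Let G be a finite group and p a prime such that a Sylow p-subgroup P of G is cyclic and every subgroup of G of order prime to p is abelian. Then G has a normal p-complement or P is normal in G. -/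
theorem result {G : Type*} [Group G] [Finite G] {p : ℕ}
    [Fact p.Prime] (P : Sylow p G) (hcyc : IsCyclic P)
    (hab : ∀ H : Subgroup G, ¬ p ∣ Nat.card H → IsMulCommutative H) :
    Cfsg.HasNormalPComplement p G ∨ (P : Subgroup G).Normal := by
  rcases main (Nat.card G) G rfl hab (fun Q => by
    obtain ⟨g, rfl⟩ := MulAction.exists_smul_eq G P Q
    haveI := hcyc
    exact (P.equivSMul g).isCyclic.1 hcyc) with h | h
  · exact Or.inl h
  · exact Or.inr (h P)

end Cfsg.Agent.S4016
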