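import Cfsg.Statements.S4020
import Cfsg.Agent.Lib.EqualPOrder.Exponent

set_option autoImplicit false
open Cfsg

namespace Cfsg.Agent.S4020

/-- Let G be a finite group in which, for every prime p, any two p-subgroups of the same order are conjugate. Then every Sylow subgroup of G is cyclic, elementary abelian, or a quaternion group of order 8. -/
theorem result {G : Type*} [Group G] [Finite G]
    (hD : ∀ p : ℕ, p.Prime → ∀ H K : Subgroup G, IsPGroup p H → IsPGroup p K → Nat.card H = Nat.card K →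
      ∃ g : G, K = H.map (MulAut.conj g).toMonoidHom) {p : ℕ} [Fact p.Prime] (P : Sylow p G) :
    IsCyclic P ∨ Cfsg.IsElementaryAbelian p (P : Subgroup G) ∨ Nonempty ((P : Subgroup G) ≃* QuaternionGroup 2) := by
  rcases EqualPOrder.shape (hD p Fact.out) P with hE | hc | ⟨-, hq⟩
  · refine Or.inr (Or.inl ⟨⟨⟨fun a b => ?_⟩⟩, fun a ha => ?_⟩)
    · by_cases hp2 : p = 2
      · subst hp2
        refine Subtype.ext (EqualOrder.comm_of_sq (P := (P : Subgroup G)) (fun c hc => ?_) (a : G) a.2 (b : G) b.2)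
        obtain ⟨k, hk⟩ := IsPGroup.iff_orderOf.1 P.2 ⟨c, hc⟩
        rw [Subgroup.orderOf_mk] at hk
        rw [← pow_two]; exact hE c ⟨k, hk⟩
      · exact Subtype.ext (EqualPOrder.comm_of_exp (hD p Fact.out) (hD 2 Nat.prime_two) hp2 hE P a a.2 b b.2)
    · obtain ⟨k, hk⟩ := IsPGroup.iff_orderOf.1 P.2 ⟨a, ha⟩
      rw [Subgroup.orderOf_mk] at hk
      exact hE a ⟨k, hk⟩
  · exact Or.inl hc
  · exact Or.inr (Or.inr hq)

end Cfsg.Agent.S4020
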