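import Cfsg.Statements.S4022
import Mathlib
import Cfsg.Agent.Lib.Solvable.Hall

set_option autoImplicit false
set_option linter.style.haveILetI false

namespace Cfsg.Agent.S4022

open Cfsg.Agent
open scoped Classical Pointwise

universe u

noncomputable local instance instFintypeOfFinite {α : Type*} [Finite α] : Fintype α :=
  Fintype.ofFinite α

/-- Every two `p`-subgroups of the same order are conjugate, for every prime `p`. -/
def PConj (G : Type u) [Group G] : Prop :=
  ∀ p : ℕ, p.Prime → ∀ H K : Subgroup G, IsPGroup p H → IsPGroup p K →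
    Nat.card H = Nat.card K → ∃ g : G, K = MulAut.conj g • H

lemma eq_of_card_eq_cyclic {G : Type u} [Group G] [Finite G] {C H K : Subgroup G} [IsCyclic C]
    (hH : H ≤ C) (hK : K ≤ C) (h : Nat.card H = Nat.card K) : H = K := by
  have key : ∀ L : Subgroup G, L ≤ C → Nat.card L = Nat.card H →
      (Finset.univ.filter fun x : C => (x : G) ∈ L) =
        Finset.univ.filter fun x : C => x ^ Nat.card H = 1 := by
    intro L hL hc
    refine Finset.eq_of_subset_of_card_le (fun x hx => ?_) ?_
    · simp only [Finset.mem_filter, Finset.mem_univ, true_and] at hx ⊢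
      have h1 : (⟨(x : G), hx⟩ : L) ^ Nat.card L = 1 := pow_card_eq_one'
      apply Subtype.ext
      rw [Subgroup.coe_pow, Subgroup.coe_one, ← hc]
      exact congrArg Subtype.val h1
    · refine (IsCyclic.card_pow_eq_one_le Nat.card_pos).trans (le_of_eq ?_)
      rw [← hc, ← Fintype.card_subtype, ← Nat.card_eq_fintype_card]
      exact Nat.card_congr ⟨fun x => ⟨⟨x, hL x.2⟩, x.2⟩, fun x => ⟨x.1, x.2⟩,
        fun x => rfl, fun x => rfl⟩
  have he := (key H hH rfl).trans (key K hK h.symm).symm
  ext x
  constructor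
  · intro hx
    have := (Finset.ext_iff.1 he ⟨x, hH hx⟩).1 (by simpa using hx)
    simpa using this
  · intro hx
    have := (Finset.ext_iff.1 he ⟨x, hK hx⟩).2 (by simpa using hx)
    simpa using this

lemma pConj_of_cyclic {G : Type u} [Group G] [Finite G]
    (h : ∀ p : ℕ, p.Prime → ∀ P : Sylow p G, IsCyclic P) : PConj G := by
  intro p hp H K hH hK hc
  have := Fact.mk hp
  obtain ⟨P, hP⟩ := hH.exists_le_sylow
  obtain ⟨Q, hQ⟩ := hK.exists_le_sylow
  obtain ⟨g, hg⟩ := MulAction.exists_smul_eq G P Q
  refine ⟨g, ?_⟩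
  haveI := h p hp Q
  refine eq_of_card_eq_cyclic hQ ?_ (by rw [SolvBasic.card_conjSmul, hc])
  rw [← hg]
  exact Subgroup.pointwise_smul_le_pointwise_smul_iff.2 hP

lemma exists_subgroup_card {G : Type u} [Group G] [Finite G] {p k : ℕ} [Fact p.Prime]
    (H : Subgroup G) (hk : p ^ k ∣ Nat.card H) : ∃ L : Subgroup G, L ≤ H ∧ Nat.card L = p ^ k := by
  obtain ⟨L, hL⟩ := Sylow.exists_subgroup_card_pow_prime p hk
  exact ⟨L.map H.subtype, Subgroup.map_subtype_le L,
    by rw [Subgroup.card_map_of_injective H.subtype_injective, hL]⟩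

lemma pConj_quotient {G : Type u} [Group G] [Finite G] (N : Subgroup G) [N.Normal] (hD : PConj G) :
    PConj (G ⧸ N) := by
  intro p hp H K hH hK hc
  have := Fact.mk hp
  have key : ∀ L : Subgroup (G ⧸ N), IsPGroup p L → ∃ S : Subgroup G, IsPGroup p S ∧
      S.map (QuotientGroup.mk' N) = L ∧
      Nat.card S = p ^ ((Nat.card N * Nat.card L).factorization p) := by
    intro L hL
    obtain ⟨S⟩ := (inferInstance : Nonempty (Sylow p (L.comap (QuotientGroup.mk' N))))
    set M := L.comap (QuotientGroup.mk' N)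
    refine ⟨(S : Subgroup M).map M.subtype, S.isPGroup'.map _, ?_, ?_⟩
    · set f := (QuotientGroup.mk' N).subgroupComap L
      have hf : Function.Surjective f := fun y => by
        obtain ⟨x, hx⟩ := QuotientGroup.mk'_surjective N (y : G ⧸ N)
        exact ⟨⟨x, by show QuotientGroup.mk' N x ∈ L; rw [hx]; exact y.2⟩, Subtype.ext hx⟩
      have htop : ((S.mapSurjective hf : Sylow p L) : Subgroup L) = ⊤ := by
        have hT : IsPGroup p (⊤ : Subgroup L) := hL.of_injective (⊤ : Subgroup L).subtype
          Subtype.val_injective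
        exact ((S.mapSurjective hf).is_maximal' hT le_top).symm
      rw [Sylow.coe_mapSurjective] at htop
      have h2 : ((S : Subgroup M).map f).map L.subtype =
          ((S : Subgroup M).map M.subtype).map (QuotientGroup.mk' N) := by
        rw [Subgroup.map_map, Subgroup.map_map]; rfl
      rw [← h2, htop, ← MonoidHom.range_eq_map, Subgroup.range_subtype]
    · rw [Subgroup.card_map_of_injective M.subtype_injective, S.card_eq_multiplicity,
        HallSolv.card_comap_mk]
  obtain ⟨S, hS, hSH, hSc⟩ := key H hH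
  obtain ⟨T, hT, hTK, hTc⟩ := key K hK
  obtain ⟨g, hg⟩ := hD p hp S T hS hT (by rw [hSc, hTc, hc])
  exact ⟨QuotientGroup.mk' N g, by rw [← hTK, hg, SolvBasic.map_conjSmul, hSH]⟩

theorem main (n : ℕ) : ∀ {G : Type u} [Group G] [Finite G] [Group.IsSolvable G], Nat.card G = n →
    PConj G → ∀ r : ℕ, (∀ p : ℕ, p.Prime → p ≠ r → ∀ P : Sylow p G, IsCyclic P) →
      ∀ H K : Subgroup G, Nat.card H = Nat.card K → ∃ g : G, K = MulAut.conj g • H := by
  induction n using Nat.strong_induction_on with
  | _ n ih =>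
  intro G _ _ _ hn hD r hcyc H K hHK
  subst hn
  rcases subsingleton_or_nontrivial G with hs | hnt
  · exact ⟨1, Subsingleton.elim _ _⟩
  obtain ⟨N, p, hp, hNn, hN, -, -, hNe, hNp, -⟩ :=
    SolvBasic.exists_minimal_normal_abelian (inferInstance : (⊤ : Subgroup G).Normal) top_ne_bot
  have := Fact.mk hp
  obtain ⟨a, ha⟩ := IsPGroup.iff_card.1 hNp
  have ha0 : a ≠ 0 := by
    rintro rfl
    exact hN (Subgroup.card_eq_one.1 (ha.trans (pow_zero p)))
  have hlt : Nat.card (G ⧸ N) < Nat.card G := by
    rw [← Subgroup.index_eq_card, ← N.card_mul_index]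
    exact lt_mul_left (Nat.pos_of_ne_zero Subgroup.index_ne_zero_of_finite)
      (N.one_lt_card_iff_ne_bot.2 hN)
  have hquot : ∀ H K : Subgroup (G ⧸ N), Nat.card H = Nat.card K →
      ∃ g : G ⧸ N, K = MulAut.conj g • H := by
    refine ih _ hlt rfl (pConj_quotient N hD) r fun q hq hqr Q => ?_
    have := Fact.mk hq
    obtain ⟨P⟩ := (inferInstance : Nonempty (Sylow q G))
    haveI := hcyc q hq hqr P
    have hc : IsCyclic (P.mapSurjective (QuotientGroup.mk'_surjective N) : Subgroup (G ⧸ N)) := by
      rw [Sylow.coe_mapSurjective]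
      exact isCyclic_of_surjective _ ((QuotientGroup.mk' N).subgroupMap_surjective (P : Subgroup G))
    exact isCyclic_of_surjective (Sylow.equiv (P.mapSurjective (QuotientGroup.mk'_surjective N)) Q).toMonoidHom
      (MulEquiv.surjective _)
  have huniq : ∀ L : Subgroup G, Nat.card L = p ^ a → L = N := by
    intro L hL
    obtain ⟨g, hg⟩ := hD p hp N L hNp (IsPGroup.of_card hL) (ha.trans hL.symm)
    rw [hg, Subgroup.Normal.conj_smul_eq_self]
  by_cases hdiv : p ^ a ∣ Nat.card H
  · have hcont : ∀ L : Subgroup G, Nat.card L = Nat.card H → N ≤ L := by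
      intro L hL
      obtain ⟨L', hL'L, hL'⟩ := exists_subgroup_card (p := p) (k := a) L (hL ▸ hdiv)
      exact huniq L' hL' ▸ hL'L
    have hNH := hcont H rfl
    have hNK := hcont K hHK.symm
    have e : ∀ L : Subgroup G, N ≤ L → (L.map (QuotientGroup.mk' N)).comap (QuotientGroup.mk' N) = L :=
      fun L hL => by rw [Subgroup.comap_map_eq, QuotientGroup.ker_mk', sup_eq_left.2 hL]
    have hcard : ∀ L : Subgroup G, N ≤ L →
        Nat.card N * Nat.card (L.map (QuotientGroup.mk' N)) = Nat.card L := fun L hL => by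
      rw [← HallSolv.card_comap_mk, e L hL]
    obtain ⟨g', hg'⟩ := hquot (H.map (QuotientGroup.mk' N)) (K.map (QuotientGroup.mk' N))
      (Nat.eq_of_mul_eq_mul_left Nat.card_pos ((hcard H hNH).trans (hHK.trans (hcard K hNK).symm)))
    obtain ⟨g, rfl⟩ := QuotientGroup.mk'_surjective N g'
    refine ⟨g, ?_⟩
    rw [← SolvBasic.map_conjSmul] at hg'
    rw [← e K hNK, hg', e]
    exact hcont _ (by rw [SolvBasic.card_conjSmul])
  · -- the `p`-part of the order is small
    obtain ⟨b, c, hpc, hbc⟩ := Nat.exists_eq_pow_mul_and_not_dvd (Nat.card_pos (α := H)).ne' p hp.ne_one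
    have hba : b < a := by
      by_contra h
      exact hdiv (hbc ▸ (Nat.pow_dvd_pow p (not_lt.1 h)).trans (dvd_mul_right _ _))
    have hcp : (p ^ b).Coprime c := (hp.coprime_iff_not_dvd.2 hpc).pow_left b
    by_cases hb : b = 0
    · subst hb
      rw [pow_zero, one_mul] at hbc
      have hcopN : (Nat.card N).Coprime (Nat.card H) := by
        rw [ha, hbc]; exact (hp.coprime_iff_not_dvd.2 hpc).pow_left a
      have hbot : ∀ L : Subgroup G, Nat.card L = Nat.card H → L ⊓ N = ⊥ := fun L hL =>
        (Subgroup.disjoint_of_coprime_natCard (hL ▸ hcopN.symm)).eq_bot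
      obtain ⟨g', hg'⟩ := hquot (H.map (QuotientGroup.mk' N)) (K.map (QuotientGroup.mk' N))
        (by rw [SolvBasic.card_map_mk'_of_inf_eq_bot (hbot H rfl),
          SolvBasic.card_map_mk'_of_inf_eq_bot (hbot K hHK.symm), hHK])
      obtain ⟨g, rfl⟩ := QuotientGroup.mk'_surjective N g'
      rw [← SolvBasic.map_conjSmul] at hg'
      set H' := MulAut.conj g • H with hH'
      have hH'c : Nat.card H' = Nat.card H := SolvBasic.card_conjSmul g H
      have hle : K ≤ N ⊔ H' := by
        intro x hx
        have h1 := congrArg (fun L => L.comap (QuotientGroup.mk' N)) hg'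
        simp only [Subgroup.comap_map_eq, QuotientGroup.ker_mk'] at h1
        rw [sup_comm, ← h1]
        exact Subgroup.mem_sup_left hx
      obtain ⟨x, -, hx⟩ := SchurZ.conj_in (A := H') (K := N) (B := K)
        Subgroup.le_normalizer_of_normal (hH'c ▸ hcopN.symm) (Or.inr inferInstance) hle
        (hHK.symm.trans hH'c.symm)
      exact ⟨x * g, by rw [← SolvBasic.conjSmul_conjSmul, ← hH', hx]⟩
    · have hpr : p = r := by
        by_contra hpr
        obtain ⟨P, hP⟩ := hNp.exists_le_sylow
        haveI := hcyc p hp hpr P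
        haveI : IsCyclic N := isCyclic_of_injective (Subgroup.inclusion hP) (Subgroup.inclusion_injective _)
        obtain ⟨x, hx⟩ := IsCyclic.exists_generator (α := N)
        have h1 : orderOf x = p ^ a := (orderOf_eq_card_of_forall_mem_zpowers hx).trans ha
        have h2 : p ^ a ∣ p ^ 1 := h1 ▸ orderOf_dvd_of_pow_eq_one (by
          rw [pow_one]; exact Subtype.ext (by simpa using hNe x x.2))
        have := (Nat.pow_dvd_pow_iff_le_right hp.one_lt).1 h2
        omega
      -- the `p`-Sylow of each subgroup of this order lies in `N`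
      have hpart : ∀ L : Subgroup G, Nat.card L = Nat.card H →
          IsPGroup p (L ⊓ N : Subgroup G) ∧ Nat.card (L ⊓ N : Subgroup G) = p ^ b := by
        intro L hL
        have hLN : IsPGroup p (L ⊓ N : Subgroup G) := hNp.to_le inf_le_right
        refine ⟨hLN, ?_⟩
        obtain ⟨L', hL'L, hL'⟩ := exists_subgroup_card (p := p) (k := b) L
          (by rw [hL, hbc]; exact dvd_mul_right _ _)
        obtain ⟨N', hN'N, hN'⟩ := exists_subgroup_card (p := p) (k := b) N
          (ha ▸ Nat.pow_dvd_pow p hba.le)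
        obtain ⟨g, hg⟩ := hD p hp N' L' (IsPGroup.of_card hN') (IsPGroup.of_card hL') (hN'.trans hL'.symm)
        have hL'N : L' ≤ N := by
          rw [hg, ← Subgroup.Normal.conj_smul_eq_self g N]
          exact Subgroup.pointwise_smul_le_pointwise_smul_iff.2 hN'N
        refine Nat.dvd_antisymm ?_ (hL' ▸ Subgroup.card_dvd_of_le (le_inf hL'L hL'N))
        obtain ⟨e, he⟩ := IsPGroup.iff_card.1 hLN
        have h1 : p ^ e ∣ p ^ b * c := by
          rw [← he, ← hbc, ← hL]; exact Subgroup.card_dvd_of_le inf_le_left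
        rw [he]
        exact ((hp.coprime_iff_not_dvd.2 hpc).pow_left e).dvd_of_dvd_mul_right h1
      obtain ⟨hB, hBc⟩ := hpart H rfl
      obtain ⟨hB', hB'c⟩ := hpart K hHK.symm
      obtain ⟨g, hg⟩ := hD p hp _ _ hB hB' (hBc.trans hB'c.symm)
      set H₂ := MulAut.conj g • H with hH₂
      have hH₂c : Nat.card H₂ = Nat.card H := SolvBasic.card_conjSmul g H
      set B := K ⊓ N with hBdef
      have hBH₂ : B ≤ H₂ := by
        rw [hg]; exact Subgroup.pointwise_smul_le_pointwise_smul_iff.2 inf_le_left
      have hH₂B : H₂ ⊓ N = B := by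
        rw [hg, Subgroup.smul_inf, Subgroup.Normal.conj_smul_eq_self g N]
      set M := Subgroup.normalizer (B : Set G) with hM
      have hnorm : ∀ L : Subgroup G, L ⊓ N = B → L ≤ M := by
        intro L hL x hx
        rw [hM, SolvBasic.mem_normalizer_iff_conjSmul, ← hL, Subgroup.smul_inf,
          Subgroup.Normal.conj_smul_eq_self x N,
          SolvBasic.conjSmul_eq_self_of_mem_normalizer (Subgroup.le_normalizer hx)]
      have hexists : ∀ L : Subgroup G, Nat.card L = Nat.card H → L ⊓ N = B →
          ∃ L₁ : Subgroup G, L₁ ≤ L ∧ Nat.card L₁ = c ∧ L = L₁ ⊔ B := by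
        intro L hL hLB
        obtain ⟨L₁, hL₁⟩ := HallSolv.exists_hall (G := L) (m := c) (n := p ^ b)
          (by rw [hL, hbc, mul_comm]) hcp.symm
        have hc1 : Nat.card (L₁.map L.subtype) = c := by
          rw [Subgroup.card_map_of_injective L.subtype_injective, hL₁]
        refine ⟨L₁.map L.subtype, Subgroup.map_subtype_le _, hc1, ?_⟩
        refine (Subgroup.eq_of_le_of_card_ge (sup_le (Subgroup.map_subtype_le _) (hLB ▸ inf_le_left)) ?_).symm
        rw [hL, hbc, mul_comm]
        refine Nat.le_of_dvd Nat.card_pos (hcp.symm.mul_dvd_of_dvd_of_dvd ?_ ?_)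
        · exact hc1 ▸ Subgroup.card_dvd_of_le le_sup_left
        · exact hB'c ▸ Subgroup.card_dvd_of_le le_sup_right
      obtain ⟨H₁, hH₁, hH₁c, hH₂e⟩ := hexists H₂ hH₂c hH₂B
      obtain ⟨K₁, hK₁, hK₁c, hKe⟩ := hexists K hHK.symm hBdef.symm
      have hH₁M : H₁ ≤ M := hH₁.trans (hnorm H₂ hH₂B)
      have hK₁M : K₁ ≤ M := hK₁.trans (hnorm K hBdef.symm)
      obtain ⟨bM, cM, hpcM, hM'⟩ :=
        Nat.exists_eq_pow_mul_and_not_dvd (Nat.card_pos (α := M)).ne' p hp.ne_one
      have hcop : cM.Coprime (p ^ bM) := ((hp.coprime_iff_not_dvd.2 hpcM).pow_left bM).symm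
      have hsub : ∀ L : Subgroup G, L ≤ M → Nat.card (L.subgroupOf M) = Nat.card L := fun L hL =>
        Nat.card_congr (Subgroup.subgroupOfEquivOfLe hL).toEquiv
      have hcb : c.Coprime (p ^ bM) := ((hp.coprime_iff_not_dvd.2 hpc).pow_left bM).symm
      obtain ⟨W, hW⟩ := HallSolv.exists_hall (G := M) (hM'.trans (mul_comm _ _)) hcop
      obtain ⟨x, hx⟩ := HallSolv.hall_conj_le (hM'.trans (mul_comm _ _)) hcop hW
        (K := H₁.subgroupOf M) (by rw [hsub _ hH₁M, hH₁c]; exact hcb)
      obtain ⟨y, hy⟩ := HallSolv.hall_conj_le (hM'.trans (mul_comm _ _)) hcop hW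
        (K := K₁.subgroupOf M) (by rw [hsub _ hK₁M, hK₁c]; exact hcb)
      have hWp : ¬ p ∣ Nat.card W := hW ▸ hpcM
      have hWlt : Nat.card W < Nat.card G := by
        refine lt_of_le_of_ne (Nat.le_of_dvd Nat.card_pos
          ((Subgroup.card_subgroup_dvd_card W).trans (Subgroup.card_subgroup_dvd_card M))) fun h => hWp ?_
        rw [h]
        exact ((dvd_pow_self p ha0).trans (ha ▸ dvd_rfl)).trans (Subgroup.card_subgroup_dvd_card N)
      have hWcyc : ∀ q : ℕ, q.Prime → ∀ Q : Sylow q W, IsCyclic Q := by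
        intro q hq Q
        have := Fact.mk hq
        by_cases hqr : q = r
        · have hQ : (Q : Subgroup W) = ⊥ := by
            rw [← Subgroup.card_eq_one, Q.card_eq_multiplicity,
              Nat.factorization_eq_zero_of_not_dvd (by rw [hqr, ← hpr]; exact hWp), pow_zero]
          rw [show IsCyclic Q ↔ IsCyclic (Q : Subgroup W) from Iff.rfl, hQ]
          exact isCyclic_of_subsingleton
        · set f := M.subtype.comp W.subtype
          obtain ⟨P, hP⟩ := (Q.isPGroup'.map f).exists_le_sylow
          haveI := hcyc q hq hqr P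
          haveI : IsCyclic ((Q : Subgroup W).map f) :=
            isCyclic_of_injective (Subgroup.inclusion hP) (Subgroup.inclusion_injective _)
          exact isCyclic_of_surjective ((Q : Subgroup W).equivMapOfInjective f
            (M.subtype_injective.comp W.subtype_injective)).symm.toMonoidHom (MulEquiv.surjective _)
      obtain ⟨w, hw⟩ := ih _ hWlt rfl (pConj_of_cyclic hWcyc) r
        (fun q hq _ Q => hWcyc q hq Q)
        ((MulAut.conj x • H₁.subgroupOf M).subgroupOf W) ((MulAut.conj y • K₁.subgroupOf M).subgroupOf W)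
        (by
          rw [Nat.card_congr (Subgroup.subgroupOfEquivOfLe hx).toEquiv,
            Nat.card_congr (Subgroup.subgroupOfEquivOfLe hy).toEquiv, SolvBasic.card_conjSmul,
            SolvBasic.card_conjSmul, hsub _ hH₁M, hsub _ hK₁M, hH₁c, hK₁c])
      have hw' := congrArg (Subgroup.map W.subtype) hw
      rw [Subgroup.map_subgroupOf_eq_of_le hy, SolvBasic.map_conjSmul,
        Subgroup.map_subgroupOf_eq_of_le hx] at hw'
      have hw'' := congrArg (Subgroup.map M.subtype) hw'
      rw [SolvBasic.map_conjSmul, SolvBasic.map_conjSmul, SolvBasic.map_conjSmul,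
        Subgroup.map_subgroupOf_eq_of_le hH₁M, Subgroup.map_subgroupOf_eq_of_le hK₁M,
        SolvBasic.conjSmul_conjSmul] at hw''
      set m : M := y⁻¹ * ((w : M) * x)
      have hm : MulAut.conj (m : G) • H₁ = K₁ := by
        rw [Subgroup.coe_mul, Subgroup.coe_inv, Subgroup.coe_mul, ← SolvBasic.conjSmul_conjSmul]
        exact SolvBasic.eq_conjSmul_inv hw''
      refine ⟨(m : G) * g, ?_⟩
      rw [← SolvBasic.conjSmul_conjSmul, ← hH₂, hH₂e, Subgroup.smul_sup, hm,
        SolvBasic.conjSmul_eq_self_of_mem_normalizer m.2, ← hKe]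


end Cfsg.Agent.S4022

set_option autoImplicit false
open Cfsg

namespace Cfsg.Agent.S4022

/-- Let G be a finite solvable group in which, for every prime p, any two p-subgroups of the same order are conjugate, and suppose the Sylow p-subgroups of G are cyclic for all primes p with at most one exception. Then any two subgroups of G of the same order are conjugate. -/
theorem result {G : Type*} [Group G] [Finite G]
    [Group.IsSolvable G] (hD : ∀ p : ℕ, p.Prime → ∀ H K : Subgroup G, IsPGroup p H → IsPGroup p K → Nat.card H = Nat.card K →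
      ∃ g : G, K = H.map (MulAut.conj g).toMonoidHom)
    (r : ℕ) (hcyc : ∀ p : ℕ, p.Prime → p ≠ r → ∀ P : Sylow p G, IsCyclic P) :
    ∀ H K : Subgroup G, Nat.card H = Nat.card K → ∃ g : G, K = H.map (MulAut.conj g).toMonoidHom := by
  intro H K h
  exact S4022.main (Nat.card G) rfl (fun p hp H K hH hK hc => hD p hp H K hH hK hc) r hcyc H K h

end Cfsg.Agent.S4022
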