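import Cfsg.Statements.S4023
import Mathlib
import Cfsg.Agent.Lib.Solvable.Basic
import Cfsg.Agent.Lib.Solvable.FixedPointFree

set_option autoImplicit false
set_option linter.style.haveILetI false

namespace Cfsg.Agent.S4023

open Cfsg.Agent

variable {P : Type*} [Group P] [Finite P] {p : ℕ} [hp : Fact p.Prime]

lemma extend (hexp : ∀ a : P, a ^ p = 1) (K : Subgroup P) {x : P} (hx : x ∉ K)
    (hn : ∀ k ∈ K, x * k * x⁻¹ ∈ K) :
    Nat.card (K ⊔ Subgroup.zpowers x : Subgroup P) = Nat.card K * p := by
  have hle : Subgroup.zpowers x ≤ Subgroup.normalizer (K : Set P) := by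
    rw [Subgroup.zpowers_le]
    refine Subgroup.mem_normalizer_fintype (h := fun k hk => ?_)
    exact hn k hk
  have hx1 : x ≠ 1 := fun h => hx (h ▸ one_mem K)
  have hcard : Nat.card (Subgroup.zpowers x) = p := by
    rw [Nat.card_zpowers, orderOf_eq_prime (hexp x) hx1]
  have hinf : K ⊓ Subgroup.zpowers x = ⊥ := by
    have hd : Nat.card (K ⊓ Subgroup.zpowers x : Subgroup P) ∣ p := by
      rw [← hcard]; exact Subgroup.card_dvd_of_le inf_le_right
    rcases (Nat.dvd_prime hp.out).1 hd with h | h
    · exact Subgroup.card_eq_one.1 h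
    · have := Subgroup.eq_of_le_of_card_ge
        (inf_le_right : K ⊓ Subgroup.zpowers x ≤ Subgroup.zpowers x) (by rw [h, hcard])
      exact absurd ((inf_le_left : K ⊓ Subgroup.zpowers x ≤ K) (this.symm ▸ Subgroup.mem_zpowers x)) hx
  rw [SolvBasic.card_sup_of_inf_eq_bot hle hinf, hcard]

omit [Finite P] in
lemma comm_sup {K : Subgroup P} [IsMulCommutative K] {x : P} (hx : ∀ k ∈ K, k * x = x * k) :
    IsMulCommutative (K ⊔ Subgroup.zpowers x : Subgroup P) := by
  have h1 : K ≤ Subgroup.centralizer ((K ⊔ Subgroup.zpowers x : Subgroup P) : Set P) :=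
    Subgroup.le_centralizer_iff.1 (sup_le (fun a ha => Subgroup.mem_centralizer_iff.2 fun b hb =>
      setLike_mul_comm (s := K) hb ha) (Subgroup.zpowers_le.2 (Subgroup.mem_centralizer_iff.2 hx)))
  have h2 : Subgroup.zpowers x ≤
      Subgroup.centralizer ((K ⊔ Subgroup.zpowers x : Subgroup P) : Set P) :=
    Subgroup.le_centralizer_iff.1 (sup_le (fun k hk => Subgroup.mem_centralizer_iff.2 (by
      rintro _ ⟨i, rfl⟩
      exact ((show Commute x k from (hx k hk).symm).zpow_left i).eq)) (fun a ha =>
        Subgroup.mem_centralizer_iff.2 fun b hb => setLike_mul_comm (s := Subgroup.zpowers x) hb ha))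
  exact .of_setLike_mul_comm fun a ha b hb => Subgroup.mem_centralizer_iff.1 (sup_le h1 h2 hb) a ha

lemma conclusion (hP : IsPGroup p P)
    (hiso : ∀ H K : Subgroup P, Nat.card H = Nat.card K → Nonempty (H ≃* K)) :
    IsCyclic P ∨ (IsMulCommutative P ∧ ∀ a : P, a ^ p = 1) ∨
      (p = 2 ∧ Nonempty (P ≃* QuaternionGroup 2)) ∨
      (p ≠ 2 ∧ ¬ IsMulCommutative P ∧ Nat.card P = p ^ 3 ∧ Monoid.exponent P = p) := by
  classical
  obtain ⟨n, hn⟩ := IsPGroup.iff_card.1 hP
  by_cases hexp : ∀ a : P, a ^ p = 1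
  · by_cases hc : IsMulCommutative P
    · exact Or.inr (Or.inl ⟨hc, hexp⟩)
    right; right; right
    have hp2 : p ≠ 2 := by
      rintro rfl
      refine hc ⟨⟨fun a b => ?_⟩⟩
      have hinv : ∀ u : P, u⁻¹ = u := fun u => inv_eq_of_mul_eq_one_left (by rw [← pow_two]; exact hexp u)
      rw [← hinv (a * b), mul_inv_rev, hinv a, hinv b]
    have hn3 : 3 ≤ n := by
      by_contra h
      apply hc
      interval_cases n
      · haveI : Subsingleton P := (Nat.card_eq_one_iff_unique.1 (by simpa using hn)).1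
        exact ⟨⟨fun a b => Subsingleton.elim _ _⟩⟩
      · haveI := isCyclic_of_prime_card (α := P) (by simpa using hn)
        exact ⟨⟨fun a b => IsCyclic.commGroup.mul_comm a b⟩⟩
      · exact ⟨⟨fun a b => IsPGroup.commutative_of_card_eq_prime_sq hn a b⟩⟩
    obtain rfl : n = 3 := by
      by_contra hne
      have hn4 : 4 ≤ n := by omega
      -- a second center element
      have hZ : Subgroup.center P ≠ ⊤ := fun h => hc ⟨⟨fun a b =>
        Subgroup.mem_center_iff.1 (h ▸ Subgroup.mem_top b : b ∈ Subgroup.center P) a⟩⟩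
      haveI : Nontrivial (P ⧸ Subgroup.center P) := QuotientGroup.nontrivial_iff.2 hZ
      haveI := (hP.to_quotient (Subgroup.center P)).center_nontrivial
      obtain ⟨⟨w, hw⟩, hw1⟩ := exists_ne (1 : Subgroup.center (P ⧸ Subgroup.center P))
      obtain ⟨z, rfl⟩ := QuotientGroup.mk_surjective w
      have hzZ : z ∉ Subgroup.center P := fun h => hw1 (Subtype.ext ((QuotientGroup.eq_one_iff z).2 h))
      have hcom : ∀ g : P, g * z * g⁻¹ * z⁻¹ ∈ Subgroup.center P := fun g => by
        rw [← QuotientGroup.eq_one_iff, QuotientGroup.mk_mul, QuotientGroup.mk_mul, QuotientGroup.mk_mul,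
          QuotientGroup.mk_inv, QuotientGroup.mk_inv, Subgroup.mem_center_iff.1 hw,
          mul_inv_cancel_right, mul_inv_cancel]
      obtain ⟨g, hg⟩ : ∃ g : P, g * z ≠ z * g := by
        by_contra h
        exact hzZ (Subgroup.mem_center_iff.2 fun g => not_not.1 fun h' => h ⟨g, h'⟩)
      set c := g * z * g⁻¹ * z⁻¹ with hcdef
      have hcZ : c ∈ Subgroup.center P := hcom g
      have hc1 : c ≠ 1 := fun h => hg (by
        rw [hcdef, mul_inv_eq_one] at h; exact mul_inv_eq_iff_eq_mul.1 h)
      set C := Subgroup.zpowers c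
      have hCc : Nat.card C = p := by rw [Nat.card_zpowers, orderOf_eq_prime (hexp c) hc1]
      have hCZ : C ≤ Subgroup.center P := Subgroup.zpowers_le.2 hcZ
      have hzC : z ∉ C := fun h => hzZ (hCZ h)
      have hzn : ∀ k ∈ C, z * k * z⁻¹ ∈ C := fun k hk => by
        rwa [Subgroup.mem_center_iff.1 (hCZ hk) z, mul_inv_cancel_right]
      have hH1 := extend (p := p) hexp C hzC hzn
      set H1 := C ⊔ Subgroup.zpowers z with hH1def
      haveI : IsMulCommutative C := .of_setLike_mul_comm fun a ha b _ =>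
        (Subgroup.mem_center_iff.1 (hCZ ha) b).symm
      haveI hH1c : IsMulCommutative H1 := comm_sup fun k hk => (Subgroup.mem_center_iff.1 (hCZ hk) z).symm
      have hgH : g ∉ H1 := fun h => hg
        (setLike_mul_comm (s := H1) h (Subgroup.mem_sup_right (Subgroup.mem_zpowers z)))
      have hgn : ∀ k ∈ H1, g * k * g⁻¹ ∈ H1 := by
        intro k hk
        have : H1.map (MulAut.conj g).toMonoidHom ≤ H1 := by
          rw [hH1def, Subgroup.map_sup, MonoidHom.map_zpowers, MonoidHom.map_zpowers]
          refine sup_le (Subgroup.zpowers_le.2 (Subgroup.mem_sup_left ?_)) (Subgroup.zpowers_le.2 ?_)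
          · show g * c * g⁻¹ ∈ C
            rw [Subgroup.mem_center_iff.1 hcZ g, mul_inv_cancel_right]
            exact Subgroup.mem_zpowers c
          · show g * z * g⁻¹ ∈ _
            rw [show g * z * g⁻¹ = c * z by rw [hcdef]; group]
            exact mul_mem (Subgroup.mem_sup_left (Subgroup.mem_zpowers c))
              (Subgroup.mem_sup_right (Subgroup.mem_zpowers z))
        exact this ⟨k, hk, rfl⟩
      have hH := extend (p := p) hexp H1 hgH hgn
      -- an abelian subgroup of order `p ^ 3`
      obtain ⟨A, hAc, hAcard⟩ : ∃ A : Subgroup P, IsMulCommutative A ∧ p ^ 3 ∣ Nat.card A := by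
        obtain ⟨a, ha⟩ := IsPGroup.iff_card.1 (hP.to_subgroup (Subgroup.center P))
        by_cases ha2 : 2 ≤ a
        · refine ⟨Subgroup.center P ⊔ Subgroup.zpowers z, comm_sup fun k hk =>
            (Subgroup.mem_center_iff.1 hk z).symm, ?_⟩
          rw [extend (p := p) hexp _ hzZ fun k hk => by
            rwa [Subgroup.mem_center_iff.1 hk z, mul_inv_cancel_right], ha, ← pow_succ]
          exact pow_dvd_pow p (by omega)
        · have hZC : Subgroup.center P = C := by
            refine (Subgroup.eq_of_le_of_card_ge hCZ ?_).symm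
            rw [ha, hCc]
            exact (Nat.pow_le_pow_right hp.out.pos (by omega : a ≤ 1)).trans_eq (pow_one p)
          -- the centralizer of `z` has index at most `p`
          let f : P ⧸ Subgroup.centralizer ({z} : Set P) → Subgroup.center P := fun q =>
            ⟨q.out * z * q.out⁻¹ * z⁻¹, hcom _⟩
          have hf : Function.Injective f := by
            intro q r hqr
            have h : q.out * z * q.out⁻¹ = r.out * z * r.out⁻¹ :=
              mul_right_cancel (congrArg Subtype.val hqr)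
            rw [← QuotientGroup.out_eq' q, ← QuotientGroup.out_eq' r]
            refine QuotientGroup.eq.2 (Subgroup.mem_centralizer_singleton_iff.2 ?_)
            calc q.out⁻¹ * r.out * z = q.out⁻¹ * (r.out * z * r.out⁻¹) * r.out := by group
              _ = z * (q.out⁻¹ * r.out) := by rw [← h]; group
          have hidx : (Subgroup.centralizer ({z} : Set P)).index ≤ p := by
            rw [Subgroup.index_eq_card]
            refine (Nat.card_le_card_of_injective f hf).trans_eq ?_
            rw [hZC, hCc]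
          obtain ⟨x, hxC, hxH⟩ : ∃ x ∈ Subgroup.centralizer ({z} : Set P), x ∉ H1 := by
            by_contra h
            have hle : Subgroup.centralizer ({z} : Set P) ≤ H1 := fun x hx =>
              not_not.1 fun h' => h ⟨x, hx, h'⟩
            have h1 := Nat.le_of_dvd Nat.card_pos (Subgroup.card_dvd_of_le hle)
            have h2 := (Subgroup.centralizer ({z} : Set P)).card_mul_index
            rw [hn] at h2
            rw [hH1, hCc] at h1
            have h3 : p ^ n ≤ p * p * p := h2 ▸ Nat.mul_le_mul h1 hidx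
            have h4 : p ^ 4 ≤ p ^ n := Nat.pow_le_pow_right hp.out.pos hn4
            have h5 := hp.out.two_le
            have h6 : p * p * p * 2 ≤ p ^ 4 := by
              rw [show p ^ 4 = p * p * p * p by ring]
              exact Nat.mul_le_mul_left _ h5
            have h7 : 0 < p * p * p := by positivity
            omega
          have hxk : ∀ k ∈ H1, k * x = x * k := by
            intro k hk
            have : H1 ≤ Subgroup.centralizer ({x} : Set P) := sup_le
              (fun a ha => Subgroup.mem_centralizer_singleton_iff.2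
                (Subgroup.mem_center_iff.1 (hCZ ha) x).symm)
              (Subgroup.zpowers_le.2 (Subgroup.mem_centralizer_singleton_iff.2
                (Subgroup.mem_centralizer_singleton_iff.1 hxC).symm))
            exact Subgroup.mem_centralizer_singleton_iff.1 (this hk)
          refine ⟨H1 ⊔ Subgroup.zpowers x, comm_sup hxk, ?_⟩
          rw [extend (p := p) hexp H1 hxH fun k hk => by rwa [← hxk k hk, mul_inv_cancel_right],
            hH1, hCc]
          exact dvd_of_eq (by ring)
      obtain ⟨B, hB, -⟩ := Sylow.exists_subgroup_card_pow_prime_le (G := A) p hAcard ⊥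
        (n := 0) (by rw [Subgroup.card_bot, pow_zero]) (Nat.zero_le _)
      obtain ⟨e⟩ := hiso (H1 ⊔ Subgroup.zpowers g) (B.map A.subtype) (by
        rw [hH, hH1, hCc, Subgroup.card_map_of_injective A.subtype_injective, hB]; ring)
      refine hg ?_
      let g' : (H1 ⊔ Subgroup.zpowers g : Subgroup P) := ⟨g, Subgroup.mem_sup_right (Subgroup.mem_zpowers g)⟩
      let z' : (H1 ⊔ Subgroup.zpowers g : Subgroup P) :=
        ⟨z, Subgroup.mem_sup_left (Subgroup.mem_sup_right (Subgroup.mem_zpowers z))⟩
      have : g' * z' = z' * g' := e.injective (by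
        rw [map_mul, map_mul]
        exact Subtype.ext (setLike_mul_comm (s := A) (Subgroup.map_subtype_le B (e g').2)
          (Subgroup.map_subtype_le B (e z').2)))
      exact congrArg Subtype.val this
    refine ⟨hp2, hc, hn, ?_⟩
    rcases (Nat.dvd_prime hp.out).1 (Monoid.exponent_dvd_of_forall_pow_eq_one hexp) with h | h
    · haveI := Monoid.exp_eq_one_iff.1 h
      exact absurd ⟨⟨fun a b => Subsingleton.elim _ _⟩⟩ hc
    · exact h
  push Not at hexp
  obtain ⟨a, ha⟩ := hexp
  obtain ⟨i, hi⟩ := IsPGroup.iff_orderOf.1 hP a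
  have hi2 : 2 ≤ i := by
    by_contra h
    refine ha (orderOf_dvd_iff_pow_eq_one.1 ?_)
    rw [hi]
    exact (pow_dvd_pow p (by omega : i ≤ 1)).trans (by rw [pow_one])
  set u := a ^ p ^ (i - 2) with hu
  have huo : orderOf u = p ^ 2 := by
    rw [hu, orderOf_pow_of_dvd (pow_ne_zero _ hp.out.ne_zero) (hi ▸ pow_dvd_pow p (Nat.sub_le i 2)),
      hi, Nat.pow_div (Nat.sub_le i 2) hp.out.pos]
    congr 1; omega
  have huniq : ∀ H K : Subgroup P, Nat.card H = p → Nat.card K = p → H = K := by
    haveI : Nontrivial P := ⟨a, 1, fun e => ha (by rw [e, one_pow])⟩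
    haveI := hP.center_nontrivial
    obtain ⟨z, hz⟩ := exists_prime_orderOf_dvd_card' (G := Subgroup.center P) p (by
      obtain ⟨k, hk⟩ := IsPGroup.iff_card.1 (hP.to_subgroup (Subgroup.center P))
      rcases k with _ | k
      · rw [pow_zero] at hk
        exact absurd hk (Finite.one_lt_card.ne')
      · exact hk ▸ dvd_pow_self p (Nat.succ_ne_zero k))
    set Z1 := Subgroup.zpowers (z : P) with hZ1
    have hZ1c : Nat.card Z1 = p := by rw [Nat.card_zpowers, Subgroup.orderOf_coe, hz]
    suffices h : ∀ H : Subgroup P, Nat.card H = p → H = Z1 by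
      intro H K hH hK; rw [h H hH, h K hK]
    intro H hH
    by_contra hne
    have hle : H ≤ Subgroup.normalizer (Z1 : Set P) := by
      refine le_trans (fun x _ => Subgroup.mem_centralizer_iff.2 ?_) (Subgroup.centralizer_le_normalizer _)
      rintro _ ⟨j, rfl⟩
      exact (Subgroup.mem_center_iff.1 ((Subgroup.center P).zpow_mem z.2 j) x).symm
    have hinf : Z1 ⊓ H = ⊥ := by
      have hd : Nat.card (Z1 ⊓ H : Subgroup P) ∣ p := hH ▸ Subgroup.card_dvd_of_le inf_le_right
      rcases (Nat.dvd_prime hp.out).1 hd with h | h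
      · exact Subgroup.card_eq_one.1 h
      · have h1 := Subgroup.eq_of_le_of_card_ge (inf_le_left : Z1 ⊓ H ≤ Z1) (by rw [h, hZ1c])
        have h2 := Subgroup.eq_of_le_of_card_ge (inf_le_right : Z1 ⊓ H ≤ H) (by rw [h, hH])
        exact absurd (h2.symm.trans h1) hne
    have hcard := SolvBasic.card_sup_of_inf_eq_bot hle hinf
    rw [hZ1c, hH, ← pow_two] at hcard
    obtain ⟨e⟩ := hiso (Z1 ⊔ H) (Subgroup.zpowers u) (by rw [hcard, Nat.card_zpowers, huo])
    haveI : IsCyclic (Z1 ⊔ H : Subgroup P) := isCyclic_of_surjective e.symm e.symm.surjective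
    obtain ⟨g, hg⟩ := IsCyclic.exists_ofOrder_eq_natCard (α := (Z1 ⊔ H : Subgroup P))
    obtain ⟨x, hx, y, hy, hxy⟩ := (SolvBasic.mem_sup_iff_of_le_normalizer hle).1 g.2
    have hcomm : Commute x y := by
      obtain ⟨j, rfl⟩ := hx
      exact (Subgroup.mem_center_iff.1 ((Subgroup.center P).zpow_mem z.2 j) y).symm
    have h1 : orderOf (g : P) ∣ p := orderOf_dvd_of_pow_eq_one (by
      rw [hxy, hcomm.mul_pow]
      rw [orderOf_dvd_iff_pow_eq_one.1 (hZ1c ▸ Z1.orderOf_dvd_natCard hx),
        orderOf_dvd_iff_pow_eq_one.1 (hH ▸ H.orderOf_dvd_natCard hy), one_mul])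
    rw [Subgroup.orderOf_coe, hg, hcard] at h1
    have := Nat.le_of_dvd hp.out.pos h1
    have := hp.out.two_le
    nlinarith
  rcases FpfStruct.cyclic_or_quaternion hP (FpfStruct.abCyclic_of_unique hP huniq) with h | ⟨h2, m, ⟨e⟩⟩
  · exact Or.inl h
  rcases m with _ | m
  · haveI : IsCyclic (QuaternionGroup (2 ^ 0)) := by
      rw [pow_zero]; exact QuaternionGroup.quaternionGroup_one_isCyclic
    exact Or.inl (isCyclic_of_surjective e.symm e.symm.surjective)
  rcases m with _ | m
  · exact Or.inr (Or.inr (Or.inl ⟨h2, ⟨e.trans (MulEquiv.refl _)⟩⟩))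
  exfalso
  subst h2
  haveI : NeZero (2 ^ (m + 2)) := ⟨by positivity⟩
  set A := e.symm (QuaternionGroup.a 1) with hA
  set X := e.symm (QuaternionGroup.xa 0) with hX
  have hAo : orderOf A = 2 ^ (m + 3) := by
    rw [hA, MulEquiv.orderOf_eq, QuaternionGroup.orderOf_a_one]; ring
  have hXo : orderOf X = 2 ^ 2 := by rw [hX, MulEquiv.orderOf_eq, QuaternionGroup.orderOf_xa]; norm_num
  obtain ⟨M, hM, hXM⟩ := Sylow.exists_subgroup_card_pow_prime_le (G := P) 2 (n := 2) (m := m + 3)
    (by rw [← hAo]; exact orderOf_dvd_natCard A) (Subgroup.zpowers X)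
    (by rw [Nat.card_zpowers, hXo]) (by omega)
  obtain ⟨φ⟩ := hiso M (Subgroup.zpowers A) (by rw [hM, Nat.card_zpowers, hAo])
  haveI : IsCyclic M := isCyclic_of_surjective φ.symm φ.symm.surjective
  obtain ⟨g, hg⟩ := IsCyclic.exists_ofOrder_eq_natCard (α := M)
  rw [hM, ← Subgroup.orderOf_coe, ← MulEquiv.orderOf_eq e] at hg
  obtain ⟨j, hj⟩ : ∃ j : ℤ, (g : P) ^ j = X := by
    have hmem : (⟨X, hXM (Subgroup.mem_zpowers X)⟩ : M) ∈ Subgroup.zpowers g := by
      have htop : Subgroup.zpowers g = ⊤ := Subgroup.eq_top_of_card_eq _ (by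
        rw [Nat.card_zpowers, hM, ← hg, MulEquiv.orderOf_eq, Subgroup.orderOf_coe])
      rw [htop]; exact Subgroup.mem_top _
    obtain ⟨j, hj⟩ := hmem
    exact ⟨j, congrArg Subtype.val hj⟩
  have hXe : e X = QuaternionGroup.xa 0 := e.apply_symm_apply _
  rcases hgd : e (g : P) with k | k
  · have h1 : e X ∈ Subgroup.zpowers (QuaternionGroup.a 1 : QuaternionGroup (2 ^ (m + 1 + 1))) := by
      rw [← hj, map_zpow, hgd]
      refine Subgroup.zpow_mem _ (Subgroup.mem_zpowers_iff.2 ⟨(k.val : ℤ), ?_⟩) j
      rw [zpow_natCast, QuaternionGroup.a_one_pow, ZMod.natCast_val, ZMod.cast_id]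
    obtain ⟨l, hl⟩ := h1
    rw [hXe] at hl
    change (QuaternionGroup.a 1 : QuaternionGroup (2 ^ (m + 1 + 1))) ^ l = _ at hl
    obtain ⟨t, ht⟩ : ∃ t : ℕ, (QuaternionGroup.a 1 : QuaternionGroup (2 ^ (m + 1 + 1))) ^ l =
        (QuaternionGroup.a 1) ^ t := by
      have hmem : (QuaternionGroup.a 1 : QuaternionGroup (2 ^ (m + 1 + 1))) ^ l ∈
          Submonoid.powers (QuaternionGroup.a 1 : QuaternionGroup (2 ^ (m + 1 + 1))) :=
        mem_powers_iff_mem_zpowers.2 ⟨l, rfl⟩
      obtain ⟨t, ht⟩ := hmem
      exact ⟨t, ht.symm⟩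
    rw [ht, QuaternionGroup.a_one_pow] at hl
    cases hl
  · rw [hgd, QuaternionGroup.orderOf_xa] at hg
    have h8 : 2 ^ 3 ≤ 2 ^ (m + 3) := Nat.pow_le_pow_right (by norm_num) (by omega)
    omega

end Cfsg.Agent.S4023


set_option autoImplicit false
open Cfsg

namespace Cfsg.Agent.S4023

/-- Let p be a prime and G a finite group in which any two p-subgroups of the same order are conjugate, with Sylow p-subgroup P. Then P is cyclic, or elementary abelian, or p = 2 and P is a quaternion group of order 8, or p is odd and P is non-abelian of order p³ and exponent p. -/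
theorem result {G : Type*} [Group G] [Finite G]
    {p : ℕ} [Fact p.Prime] (hC : ∀ H K : Subgroup G, IsPGroup p H → IsPGroup p K → Nat.card H = Nat.card K →
      ∃ g : G, K = H.map (MulAut.conj g).toMonoidHom) (P : Sylow p G) :
    IsCyclic P ∨ Cfsg.IsElementaryAbelian p (P : Subgroup G) ∨
      (p = 2 ∧ Nonempty ((P : Subgroup G) ≃* QuaternionGroup 2)) ∨
      (p ≠ 2 ∧ ¬ IsMulCommutative P ∧ Nat.card P = p ^ 3 ∧ Monoid.exponent P = p) := by
  have hiso : ∀ H K : Subgroup (P : Subgroup G), Nat.card H = Nat.card K → Nonempty (H ≃* K) := by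
    intro H K hc
    obtain ⟨g, hg⟩ := hC (H.map (P : Subgroup G).subtype) (K.map (P : Subgroup G).subtype)
      ((P.isPGroup'.to_subgroup H).map _) ((P.isPGroup'.to_subgroup K).map _)
      (by rw [Subgroup.card_map_of_injective (P : Subgroup G).subtype_injective,
        Subgroup.card_map_of_injective (P : Subgroup G).subtype_injective, hc])
    have e1 := H.equivMapOfInjective _ (P : Subgroup G).subtype_injective
    have e2 := K.equivMapOfInjective _ (P : Subgroup G).subtype_injective
    have e3 := (H.map (P : Subgroup G).subtype).equivMapOfInjective (MulAut.conj g).toMonoidHom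
      (MulAut.conj g).injective
    exact ⟨(e1.trans e3).trans ((MulEquiv.subgroupCongr hg.symm).trans e2.symm)⟩
  rcases conclusion P.isPGroup' hiso with h | ⟨hc, he⟩ | h | h
  · exact Or.inl h
  · exact Or.inr (Or.inl ⟨hc, fun a ha => congrArg Subtype.val (he ⟨a, ha⟩)⟩)
  · exact Or.inr (Or.inr (Or.inl h))
  · exact Or.inr (Or.inr (Or.inr h))

end Cfsg.Agent.S4023
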