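import Cfsg.Statements.S4024
import Cfsg.Agent.S4023
import Cfsg.Agent.Lib.Solvable.Fitting

set_option autoImplicit false
set_option linter.style.haveILetI false

set_option autoImplicit false
open Cfsg

namespace Cfsg.Agent.S4024

/-- Let p be an odd prime and G a finite group in which any two p-subgroups of the same order are conjugate, with Sylow p-subgroup P. If H is a normal p-solvable subgroup of G whose order is divisible by p, then P is abelian, and either P ≤ H or P is cyclic. -/
theorem result {G : Type*} [Group G] [Finite G]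
    {p : ℕ} [Fact p.Prime] (hp : p ≠ 2) (hC : ∀ H K : Subgroup G, IsPGroup p H → IsPGroup p K → Nat.card H = Nat.card K →
      ∃ g : G, K = H.map (MulAut.conj g).toMonoidHom) (P : Sylow p G)
    (H : Subgroup G) [H.Normal] (hsolv : Cfsg.IsPSolvable p H) (hdiv : p ∣ Nat.card H) :
    IsMulCommutative P ∧ ((P : Subgroup G) ≤ H ∨ IsCyclic P) := by
  classical
  haveI hK : (Cfsg.pPrimeCore p G).Normal := FittingCores.pPrimeCore_normal p
  obtain ⟨u, hu⟩ := exists_prime_orderOf_dvd_card' p hdiv
  have huo : orderOf (u : G) = p := by rw [Subgroup.orderOf_coe, hu]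
  -- every element of order `p` lies in `H`
  have hpH : ∀ a : G, orderOf a = p → a ∈ H := by
    intro a ha
    obtain ⟨g, hg⟩ := hC (Subgroup.zpowers (u : G)) (Subgroup.zpowers a)
      (IsPGroup.of_card (n := 1) (by rw [Nat.card_zpowers, huo, pow_one]))
      (IsPGroup.of_card (n := 1) (by rw [Nat.card_zpowers, ha, pow_one]))
      (by rw [Nat.card_zpowers, Nat.card_zpowers, huo, ha])
    have hle : (Subgroup.zpowers (u : G)).map (MulAut.conj g).toMonoidHom ≤ H := by
      rintro _ ⟨x, hx, rfl⟩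
      exact ‹H.Normal›.conj_mem x ((Subgroup.zpowers_le.2 u.2) hx) g
    exact hle (hg ▸ Subgroup.mem_zpowers a)
  have hexpH : (∀ a ∈ (P : Subgroup G), a ^ p = 1) → (P : Subgroup G) ≤ H := fun h a ha => by
    by_cases h1 : a = 1
    · rw [h1]; exact one_mem H
    · exact hpH a (orderOf_eq_prime (h a ha) h1)
  rcases S4023.result hC P with h | h | h | ⟨-, hna, hP3, hexp⟩
  · haveI := h
    exact ⟨⟨⟨fun a b => IsCyclic.commGroup.mul_comm a b⟩⟩, Or.inr h⟩
  · exact ⟨h.1, Or.inl (hexpH h.2)⟩
  · exact absurd h.1 hp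
  exfalso
  have hexp' : ∀ a ∈ (P : Subgroup G), a ^ p = 1 := fun a ha => by
    have h := Monoid.pow_exponent_eq_one (⟨a, ha⟩ : (P : Subgroup G))
    rw [hexp] at h
    exact congrArg Subtype.val h
  set K := Cfsg.pPrimeCore p G with hKdef
  set f := QuotientGroup.mk' K with hf
  have hKp : (Nat.card K).Coprime p := FittingCores.pPrimeCore_coprime p
  -- a nontrivial normal `p`-subgroup of the quotient
  obtain ⟨n, C, hC0, hClast, hmono, hnorm, hfac⟩ := hsolv
  have hex : ∃ i : Fin n, (Nat.card (C i.castSucc)).Coprime p ∧ ¬ (Nat.card (C i.succ)).Coprime p := by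
    by_contra hne
    have hall : ∀ i : Fin (n + 1), (Nat.card (C i)).Coprime p := by
      intro i
      induction i using Fin.induction with
      | zero => rw [hC0, Subgroup.card_bot]; exact Nat.coprime_one_left p
      | succ i ih => by_contra h; exact hne ⟨i, ih, h⟩
    have h := hall (Fin.last n)
    rw [hClast, Subgroup.card_top] at h
    exact (Nat.Prime.coprime_iff_not_dvd Fact.out).1 h.symm hdiv
  obtain ⟨i, hi, his⟩ := hex
  obtain ⟨m, hm⟩ : ∃ m : ℕ, (C i.castSucc).relIndex (C i.succ) = p ^ m := by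
    rcases hfac i with h | h
    · exact h
    · exfalso
      apply his
      have := Subgroup.relIndex_mul_relIndex ⊥ (C i.castSucc) (C i.succ) bot_le
        (hmono (Fin.castSucc_le_succ i))
      rw [Subgroup.relIndex_bot_left, Subgroup.relIndex_bot_left] at this
      rw [← this]
      exact Nat.Coprime.mul_left hi h
  set T0 := ((C i.succ).map H.subtype).map f with hT0
  have hCK : (C i.castSucc).map H.subtype ≤ K := by
    refine le_trans (Subgroup.map_mono (FittingCores.le_pPrimeCore (hnorm _) hi)) ?_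
    exact FittingCores.pPrimeCore_map_subtype_le p ‹H.Normal›
  have hT0p : IsPGroup p T0 := by
    have h1 : Nat.card T0 ∣ p ^ m := by
      rw [hT0, Subgroup.map_map, ← Subgroup.relIndex_ker, ← hm]
      refine Subgroup.relIndex_dvd_of_le_left _ fun x hx => ?_
      rw [MonoidHom.mem_ker, MonoidHom.comp_apply]
      exact (QuotientGroup.eq_one_iff _).2 (hCK ⟨x, hx, rfl⟩)
    obtain ⟨k, -, hk⟩ := (Nat.dvd_prime_pow Fact.out).1 h1
    exact IsPGroup.of_card hk
  have hT0ne : T0 ≠ ⊥ := by
    intro h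
    apply his
    rw [← Subgroup.card_map_of_injective H.subtype_injective]
    refine Nat.Coprime.coprime_dvd_left (Subgroup.card_dvd_of_le ?_) hKp
    exact (Subgroup.map_eq_bot_iff _).1 h |>.trans_eq (QuotientGroup.ker_mk' K)
  have hT0le : T0 ≤ Cfsg.pCore p (G ⧸ K) := by
    haveI : (H.map f).Normal := Subgroup.Normal.map ‹H.Normal› f (QuotientGroup.mk'_surjective K)
    have hle : T0 ≤ H.map f := Subgroup.map_mono (Subgroup.map_subtype_le _)
    have hn : (T0.subgroupOf (H.map f)).Normal := by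
      haveI := hnorm i.succ
      have h1 : ((C i.succ).map (f.subgroupMap H)).Normal :=
        Subgroup.Normal.map inferInstance _ (MonoidHom.subgroupMap_surjective f H)
      convert h1 using 1
      ext ⟨x, hx⟩
      rw [Subgroup.mem_subgroupOf]
      constructor
      · rintro ⟨y, ⟨z, hz, rfl⟩, hzx⟩
        exact ⟨z, hz, Subtype.ext hzx⟩
      · rintro ⟨z, hz, hzx⟩
        exact ⟨(z : G), ⟨z, hz, rfl⟩, congrArg Subtype.val hzx⟩
    have h2 := Subgroup.map_mono (f := (H.map f).subtype)
      (FittingCores.le_pCore hn hT0p.comap_subtype)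
    rw [Subgroup.subgroupOf_map_subtype, inf_eq_left.2 hle] at h2
    exact h2.trans (FittingCores.pCore_map_subtype_le p inferInstance)
  set T := Cfsg.pCore p (G ⧸ K) with hTdef
  haveI : T.Normal := FittingCores.pCore_normal p
  have hT : T ≠ ⊥ := fun h => hT0ne (le_bot_iff.1 (h ▸ hT0le))
  -- the image of `P`
  set Q : Sylow p (G ⧸ K) := P.mapSurjective (QuotientGroup.mk'_surjective K) with hQdef
  have hQ : (Q : Subgroup (G ⧸ K)) = (P : Subgroup G).map f := rfl
  have hTQ : T ≤ (Q : Subgroup (G ⧸ K)) := FittingCores.pCore_le_sylow Q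
  have hinj : ∀ a ∈ (P : Subgroup G), f a = 1 → a = 1 := by
    intro a ha h1
    have h2 : a ∈ K := (QuotientGroup.eq_one_iff a).1 h1
    have hd : orderOf a ∣ p := orderOf_dvd_of_pow_eq_one (hexp' a ha)
    exact orderOf_eq_one_iff.1 (Nat.eq_one_of_dvd_coprimes hKp (K.orderOf_dvd_natCard h2) hd)
  -- a normal subgroup inside the image of `P` is trivial or everything
  have hall : ∀ M : Subgroup (G ⧸ K), M.Normal → M ≠ ⊥ → M ≤ (Q : Subgroup (G ⧸ K)) →
      (Q : Subgroup (G ⧸ K)) ≤ M := by
    intro M hM hM1 hMQ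
    obtain ⟨w, hw, hw1⟩ := M.bot_or_exists_ne_one.resolve_left hM1
    obtain ⟨a, ha, rfl⟩ := hMQ hw
    rintro _ ⟨b, hb, rfl⟩
    by_cases hb1 : b = 1
    · rw [hb1, map_one]; exact one_mem M
    have ha1 : a ≠ 1 := fun h => hw1 (by rw [h, map_one])
    have hoa := orderOf_eq_prime (hexp' a ha) ha1
    have hob := orderOf_eq_prime (hexp' b hb) hb1
    obtain ⟨g, hg⟩ := hC (Subgroup.zpowers a) (Subgroup.zpowers b)
      (IsPGroup.of_card (n := 1) (by rw [Nat.card_zpowers, hoa, pow_one]))
      (IsPGroup.of_card (n := 1) (by rw [Nat.card_zpowers, hob, pow_one]))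
      (by rw [Nat.card_zpowers, Nat.card_zpowers, hoa, hob])
    have hle : ((Subgroup.zpowers a).map (MulAut.conj g).toMonoidHom).map f ≤ M := by
      rintro _ ⟨_, ⟨x, hx, rfl⟩, rfl⟩
      show f (g * x * g⁻¹) ∈ M
      rw [map_mul, map_mul, map_inv]
      refine hM.conj_mem _ ?_ _
      exact (show (Subgroup.zpowers a).map f ≤ M by
        rw [MonoidHom.map_zpowers, Subgroup.zpowers_le]; exact hw) ⟨x, hx, rfl⟩
    exact hle ⟨b, hg ▸ Subgroup.mem_zpowers b, rfl⟩
  have hTeq : T = (Q : Subgroup (G ⧸ K)) := le_antisymm hTQ (hall T inferInstance hT hTQ)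
  haveI : Nontrivial T := T.nontrivial_iff_ne_bot.2 hT
  haveI := (FittingCores.pCore_isPGroup (G := G ⧸ K) p).center_nontrivial
  have hZ : (Subgroup.center T).map T.subtype ≠ ⊥ := fun h =>
    (Subgroup.center T).nontrivial_iff_ne_bot.1 inferInstance
      ((Subgroup.map_eq_bot_iff_of_injective _ T.subtype_injective).1 h)
  have hsub := hall _ inferInstance hZ ((Subgroup.map_subtype_le _).trans hTQ)
  apply hna
  refine .of_setLike_mul_comm fun a ha b hb => ?_
  have key : f (a * b * (b * a)⁻¹) = 1 := by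
    obtain ⟨c, hc, hcb⟩ := hsub ⟨b, hb, rfl⟩
    have haT : f a ∈ T := hTeq ▸ ⟨a, ha, rfl⟩
    have h3 : f a * f b = f b * f a := by
      rw [← hcb]; exact congrArg Subtype.val (Subgroup.mem_center_iff.1 hc ⟨f a, haT⟩)
    rw [map_mul, map_inv, map_mul, map_mul, h3, mul_inv_cancel]
  exact mul_inv_eq_one.1 (hinj _ ((P : Subgroup G).mul_mem ((P : Subgroup G).mul_mem ha hb)
    ((P : Subgroup G).inv_mem ((P : Subgroup G).mul_mem hb ha))) key)

end Cfsg.Agent.S4024
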