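import Cfsg.Statements.S4025
import Cfsg.Agent.Lib.Solvable.TransLinear.AffineModel

set_option autoImplicit false
open Cfsg

namespace Cfsg.Agent.S4025

/-- Let p be a prime and G a finite group in which any two p-subgroups of the same order are conjugate, and suppose a Sylow p-subgroup P of G is elementary abelian of order pⁿ with n ≥ 3. Let N be the normalizer of P and K the largest normal subgroup of N of order prime to p, and assume N/K is solvable. Then either n = 3 and N/K embeds in the one-dimensional semi-affine group over the field with p³ elements (and for p = 2 it is isomorphic to the affine or the semi-affine group over the field with 8 elements), or n = 5, p = 2 and N/K is isomorphic to the one-dimensional semi-affine group over the field with 32 elements. -/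
theorem result {G : Type*} [Group G] [Finite G]
    {p : ℕ} [Fact p.Prime] (hC : ∀ H K : Subgroup G, IsPGroup p H → IsPGroup p K → Nat.card H = Nat.card K →
      ∃ g : G, K = H.map (MulAut.conj g).toMonoidHom) (P : Sylow p G) (n : ℕ) (hn : 3 ≤ n)
    (hel : Cfsg.IsElementaryAbelian p (P : Subgroup G)) (hcard : Nat.card P = p ^ n)
    (N : Subgroup G) (hN : N = Subgroup.normalizer ((P : Subgroup G) : Set G))
    (hsolv : Group.IsSolvable (↥N ⧸ Cfsg.pPrimeCore p ↥N)) :
    (n = 3 ∧ (∃ f : ↥N ⧸ Cfsg.pPrimeCore p ↥N →* ↥(Cfsg.semiaffineGroup (GaloisField p 3)), Function.Injective f) ∧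
      (p = 2 → Nonempty (↥N ⧸ Cfsg.pPrimeCore p ↥N ≃* Cfsg.semiaffineGroup (GaloisField 2 3)) ∨
               Nonempty (↥N ⧸ Cfsg.pPrimeCore p ↥N ≃* Cfsg.affineGroup (GaloisField 2 3)))) ∨
    (n = 5 ∧ p = 2 ∧ Nonempty (↥N ⧸ Cfsg.pPrimeCore p ↥N ≃* Cfsg.semiaffineGroup (GaloisField 2 5))) := by
  classical
  subst hN
  set N := Subgroup.normalizer ((P : Subgroup G) : Set G) with hNdef
  have hPN : (P : Subgroup G) ≤ N := Subgroup.le_normalizer
  set P₀ : Subgroup ↥N := (P : Subgroup G).subgroupOf N with hP₀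
  haveI hP₀n : P₀.Normal := Subgroup.normal_in_normalizer
  set K := Cfsg.pPrimeCore p ↥N with hK
  haveI hKn : K.Normal := Cfsg.Agent.FittingCores.pPrimeCore_normal p
  set π := QuotientGroup.mk' K with hπ
  have hπ1 : ∀ x : ↥N, π x = 1 ↔ x ∈ K := fun x => by
    rw [hπ, QuotientGroup.mk'_apply, QuotientGroup.eq_one_iff]
  have hP₀c : Nat.card P₀ = p ^ n := by
    rw [Nat.card_congr (Subgroup.subgroupOfEquivOfLe hPN).toEquiv, hcard]
  have hab : ∀ a ∈ P₀, ∀ b ∈ P₀, a * b = b * a := fun a ha b hb => Subtype.ext (by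
    haveI := hel.1
    have h := mul_comm' (⟨(a : G), ha⟩ : (P : Subgroup G)) ⟨(b : G), hb⟩
    have h' : (a : G) * (b : G) = (b : G) * (a : G) := congrArg Subtype.val h
    exact h')
  have hP₀idx : ¬ p ∣ P₀.index := by
    intro hd
    refine Sylow.not_dvd_index P (hd.trans ?_)
    exact ⟨N.index, (Subgroup.relIndex_mul_index hPN).symm⟩
  -- elements of the core meeting P
  have hKP : ∀ x ∈ K, x ∈ P₀ → x = 1 := by
    intro x hxK hxP
    have h1 : orderOf x ∣ p ^ n := hP₀c ▸ P₀.orderOf_dvd_natCard hxP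
    have hKco : (Nat.card K).Coprime p := Cfsg.Agent.FittingCores.pPrimeCore_coprime p
    have h2 : orderOf x ∣ Nat.card K := K.orderOf_dvd_natCard hxK
    rw [← orderOf_eq_one_iff, ← Nat.dvd_one]
    have := Nat.dvd_gcd h2 h1
    rwa [(hKco.pow_right n : (Nat.card K).Coprime (p ^ n))] at this
  set Pb := P₀.map π with hPb
  haveI : Pb.Normal := hP₀n.map π (QuotientGroup.mk'_surjective K)
  have hinj : ∀ a ∈ P₀, ∀ b ∈ P₀, π a = π b → a = b := fun a ha b hb h => by
    have h1 : π (a⁻¹ * b) = 1 := by rw [map_mul, map_inv, h, inv_mul_cancel]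
    exact inv_mul_eq_one.1 (hKP _ ((hπ1 _).1 h1) (P₀.mul_mem (P₀.inv_mem ha) hb))
  have hPbc : Nat.card Pb = p ^ n := by
    rw [← hP₀c]
    exact (Nat.card_congr (Equiv.ofBijective (fun a : P₀ => (⟨π a, a, a.2, rfl⟩ : Pb))
      ⟨fun a b h => Subtype.ext (hinj a a.2 b b.2 (congrArg Subtype.val h)),
        fun ⟨y, a, ha, e⟩ => ⟨⟨a, ha⟩, Subtype.ext e⟩⟩)).symm
  have hPbab : ∀ a ∈ Pb, ∀ b ∈ Pb, a * b = b * a := by
    rintro _ ⟨a, ha, rfl⟩ _ ⟨b, hb, rfl⟩
    rw [← map_mul, hab a ha b hb, map_mul]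
  have hPbexp : ∀ a ∈ Pb, a ^ p = 1 := by
    rintro _ ⟨a, ha, rfl⟩
    rw [← map_pow, show a ^ p = 1 from Subtype.ext (by simpa using hel.2 (a : G) ha), map_one]
  have hself : Subgroup.centralizer (Pb : Set (↥N ⧸ K)) ≤ Pb := by
    intro y hy
    obtain ⟨x, rfl⟩ := QuotientGroup.mk'_surjective K y
    set C := Subgroup.centralizer (P₀ : Set ↥N) with hC
    have hxC : x ∈ C := Subgroup.mem_centralizer_iff.2 fun a ha => by
      have h1 := Subgroup.mem_centralizer_iff.1 hy (π a) ⟨a, ha, rfl⟩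
      have h2 : a⁻¹ * (x * a * x⁻¹) ∈ P₀ := P₀.mul_mem (P₀.inv_mem ha) (hP₀n.conj_mem a ha x)
      have h3 : a⁻¹ * (x * a * x⁻¹) ∈ K := by
        rw [← hπ1, map_mul, map_mul, map_mul, map_inv, map_inv, ← h1, mul_inv_eq_iff_eq_mul.2 rfl, inv_mul_cancel]
      have h4 := hKP _ h3 h2
      have h5 : x * a * x⁻¹ = a := (inv_mul_eq_one.1 h4).symm
      exact (mul_inv_eq_iff_eq_mul.1 h5).symm
    have hPC : P₀ ≤ C := fun a ha => Subgroup.mem_centralizer_iff.2 fun b hb => hab b hb a ha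
    set A := P₀.subgroupOf C with hA
    have hAc : Nat.card A = p ^ n := by rw [Nat.card_congr (Subgroup.subgroupOfEquivOfLe hPC).toEquiv, hP₀c]
    have hAidx : ¬ p ∣ A.index := fun hd => hP₀idx (hd.trans ⟨C.index, (Subgroup.relIndex_mul_index hPC).symm⟩)
    obtain ⟨H, hH⟩ := Subgroup.exists_right_complement'_of_coprime (N := A)
      (by rw [hAc]; exact ((Fact.out : p.Prime).coprime_iff_not_dvd.2 hAidx).pow_left n)
    have hHc : (Nat.card H).Coprime p := by
      rw [← hH.symm.index_eq_card]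
      exact ((Fact.out : p.Prime).coprime_iff_not_dvd.2 hAidx).symm
    have hAcen : ∀ a ∈ A, ∀ c : C, a * c = c * a := fun a ha c =>
      Subtype.ext (Subgroup.mem_centralizer_iff.1 c.2 _ ha)
    -- the complement is the set of elements of order prime to p
    have hchar : ∀ c : C, (orderOf c).Coprime p → c ∈ H := by
      intro c hc
      obtain ⟨⟨a, h⟩, rfl⟩ := hH.2 c
      set m := orderOf ((a : C) * (h : C)) with hm
      have hcomm : Commute (a : C) (h : C) := hAcen a a.2 h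
      have h1 : (a : C) ^ m = ((h : C) ^ m)⁻¹ := by
        rw [eq_inv_iff_mul_eq_one, ← hcomm.mul_pow, hm, pow_orderOf_eq_one]
      have h2 : (a : C) ^ m ∈ A ⊓ H := ⟨A.pow_mem a.2 m, h1 ▸ H.inv_mem (H.pow_mem h.2 m)⟩
      rw [hH.disjoint.eq_bot, Subgroup.mem_bot] at h2
      have h3 : orderOf (a : C) ∣ m := orderOf_dvd_of_pow_eq_one h2
      have h4 : orderOf (a : C) ∣ p ^ n := hAc ▸ A.orderOf_dvd_natCard a.2
      have h5 : orderOf (a : C) = 1 := by
        have := Nat.dvd_gcd h3 h4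
        rwa [(hc.pow_right n : m.Coprime (p ^ n)), Nat.dvd_one] at this
      rw [orderOf_eq_one_iff] at h5
      show (a : C) * (h : C) ∈ H
      rw [h5, one_mul]; exact h.2
    have hCn : C.Normal := inferInstance
    have hHn : (H.map C.subtype).Normal := ⟨fun y hy g => by
      obtain ⟨h, hh, rfl⟩ := hy
      refine ⟨⟨g * (h : ↥N) * g⁻¹, hCn.conj_mem _ h.2 g⟩, hchar _ ?_, rfl⟩
      rw [← Subgroup.orderOf_coe]
      show (orderOf (g * (h : ↥N) * g⁻¹)).Coprime p
      rw [show g * (h : ↥N) * g⁻¹ = MulAut.conj g (h : ↥N) from rfl, MulEquiv.orderOf_eq, Subgroup.orderOf_coe]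
      exact hHc.coprime_dvd_left (H.orderOf_dvd_natCard hh)⟩
    have hHK : H.map C.subtype ≤ K := Cfsg.Agent.FittingCores.le_pPrimeCore hHn
      (by rwa [Subgroup.card_map_of_injective C.subtype_injective])
    obtain ⟨⟨a, h⟩, hah⟩ := hH.2 ⟨x, hxC⟩
    have hx : x = ((a : C) : ↥N) * ((h : C) : ↥N) := (congrArg Subtype.val hah).symm
    refine ⟨(a : C), a.2, ?_⟩
    have hhK : ((h : C) : ↥N) ∈ K := hHK ⟨h, h.2, rfl⟩
    rw [hx, ← hπ, map_mul π, (hπ1 _).2 hhK, mul_one]
  have htr : ∀ A B : Subgroup (↥N ⧸ K), A ≤ Pb → B ≤ Pb → Nat.card A = Nat.card B →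
      ∃ x : ↥N ⧸ K, A.map (MulAut.conj x).toMonoidHom = B := by
    intro A B hA hB hAB
    set A' := P₀ ⊓ A.comap π with hA'
    set B' := P₀ ⊓ B.comap π with hB'
    have hmap : ∀ A : Subgroup (↥N ⧸ K), A ≤ Pb → (P₀ ⊓ A.comap π).map π = A := fun A hA => by
      refine le_antisymm (by rintro _ ⟨a, ha, rfl⟩; exact ha.2) fun y hy => ?_
      obtain ⟨a, ha, rfl⟩ := hA hy
      exact ⟨a, ⟨ha, hy⟩, rfl⟩
    have hcard' : ∀ A : Subgroup (↥N ⧸ K), A ≤ Pb → Nat.card (P₀ ⊓ A.comap π : Subgroup ↥N) = Nat.card A :=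
      fun A hA => Nat.card_congr (Equiv.ofBijective
        (fun a : (P₀ ⊓ A.comap π : Subgroup ↥N) => (⟨π a, a.2.2⟩ : A))
        ⟨fun a b h => Subtype.ext (hinj a a.2.1 b b.2.1 (congrArg Subtype.val h)), fun ⟨y, hy⟩ => by
          obtain ⟨a, ha, rfl⟩ := hA hy
          exact ⟨⟨a, ha, hy⟩, rfl⟩⟩)
    set AG := A'.map N.subtype with hAG
    set BG := B'.map N.subtype with hBG
    have hAP : AG ≤ (P : Subgroup G) := by rintro _ ⟨a, ha, rfl⟩; exact ha.1
    have hBP : BG ≤ (P : Subgroup G) := by rintro _ ⟨a, ha, rfl⟩; exact ha.1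
    obtain ⟨g, hg⟩ := hC AG BG (P.isPGroup'.to_le hAP) (P.isPGroup'.to_le hBP)
      (by rw [hAG, hBG, Subgroup.card_map_of_injective N.subtype_injective,
        Subgroup.card_map_of_injective N.subtype_injective, hA', hB', hcard' A hA, hcard' B hB, hAB])
    haveI := hel.1
    have hPB : (P : Subgroup G) ≤ Subgroup.centralizer (BG : Set G) := fun u hu =>
      Subgroup.mem_centralizer_iff.2 fun b hb => by
        have := mul_comm' (⟨b, hBP hb⟩ : (P : Subgroup G)) ⟨u, hu⟩
        exact congrArg Subtype.val this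
    have hgPB : ((g • P : Sylow p G) : Subgroup G) ≤ Subgroup.centralizer (BG : Set G) := by
      rintro _ ⟨u, hu, rfl⟩
      refine Subgroup.mem_centralizer_iff.2 fun b hb => ?_
      rw [hg] at hb
      obtain ⟨a, ha, rfl⟩ := hb
      have := congrArg Subtype.val (mul_comm' (⟨a, hAP ha⟩ : (P : Subgroup G)) ⟨u, hu⟩)
      show g * a * g⁻¹ * (g * u * g⁻¹) = g * u * g⁻¹ * (g * a * g⁻¹)
      calc g * a * g⁻¹ * (g * u * g⁻¹) = g * (a * u) * g⁻¹ := by group
        _ = g * (u * a) * g⁻¹ := by rw [show a * u = u * a from this]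
        _ = _ := by group
    obtain ⟨h, hh⟩ := MulAction.exists_smul_eq (Subgroup.centralizer (BG : Set G)) ((g • P).subtype hgPB) (P.subtype hPB)
    simp_rw [Sylow.smul_subtype, Subgroup.smul_def, smul_smul] at hh
    have hm : (h : G) * g ∈ N := Sylow.smul_eq_iff_mem_normalizer.mp (Sylow.subtype_injective hh)
    refine ⟨π ⟨(h : G) * g, hm⟩, ?_⟩
    have hkey : A'.map (MulAut.conj (⟨(h : G) * g, hm⟩ : ↥N)).toMonoidHom = B' := by
      apply Subgroup.map_injective N.subtype_injective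
      rw [Subgroup.map_map, ← hBG]
      ext y
      constructor
      · rintro ⟨a, ha, rfl⟩
        have hb : g * (a : G) * g⁻¹ ∈ BG := hg ▸ ⟨(a : G), ⟨a, ha, rfl⟩, rfl⟩
        show (h : G) * g * (a : G) * ((h : G) * g)⁻¹ ∈ BG
        have hhb := Subgroup.mem_centralizer_iff.1 h.2 _ hb
        rw [show (h : G) * g * (a : G) * ((h : G) * g)⁻¹ = (h : G) * (g * (a : G) * g⁻¹) * (h : G)⁻¹ by group,
          ← hhb, mul_inv_cancel_right]
        exact hb
      · intro hy
        have hy' := hy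
        rw [hg] at hy'
        obtain ⟨_, ⟨a, ha, rfl⟩, rfl⟩ := hy'
        refine ⟨a, ha, ?_⟩
        show (h : G) * g * (a : G) * ((h : G) * g)⁻¹ = g * (a : G) * g⁻¹
        rw [show (h : G) * g * (a : G) * ((h : G) * g)⁻¹ = (h : G) * (g * (a : G) * g⁻¹) * (h : G)⁻¹ by group,
          ← Subgroup.mem_centralizer_iff.1 h.2 _ (show g * (a : G) * g⁻¹ ∈ BG from hy), mul_inv_cancel_right]
    rw [← hmap A hA, ← hmap B hB, ← hA', ← hB', ← hkey, Subgroup.map_map, Subgroup.map_map]
    congr 1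
  haveI := hsolv
  exact Cfsg.Agent.SubspaceTrans.affine_model hn Pb hPbab hPbexp hPbc (by
    rw [hPbc]
    refine ((Fact.out : p.Prime).coprime_iff_not_dvd.2 fun hd => hP₀idx (hd.trans ?_)).pow_left n
    exact Subgroup.index_map_dvd _ (QuotientGroup.mk'_surjective K)) hself htr


end Cfsg.Agent.S4025
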