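import Cfsg.Statements.S4028
import Cfsg.Agent.Lib.Transfer.Basic
import Mathlib.GroupTheory.SpecificGroups.Cyclic

set_option autoImplicit false
set_option linter.style.haveILetI false

set_option autoImplicit false
open Cfsg

namespace Cfsg.Agent.S4028

/-- Let G be a finite group with Sylow 2-subgroup P. Then N_G(⟨x⟩) = C_G(x) holds for every 2-element x of G if and only if N_P(⟨y⟩) = C_P(y) holds for every y ∈ P (computed inside P). -/
theorem result {G : Type*} [Group G] [Finite G] (P : Sylow 2 G) :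
    (∀ x : G, (∀ r : ℕ, r.Prime → r ∣ orderOf x → r = 2) →
      Subgroup.normalizer ((Subgroup.zpowers x : Subgroup G) : Set G) ≤ Subgroup.centralizer {x}) ↔
    (∀ y : ↥(P : Subgroup G), Subgroup.normalizer ((Subgroup.zpowers y : Subgroup ↥(P : Subgroup G)) : Set ↥(P : Subgroup G)) ≤
        Subgroup.centralizer {y}) := by
  classical
  haveI : Fact (Nat.Prime 2) := ⟨Nat.prime_two⟩
  constructor
  · intro h y t ht
    have h2 : ∀ r : ℕ, r.Prime → r ∣ orderOf (y : G) → r = 2 := by
      intro r hr hrd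
      obtain ⟨j, hj⟩ := IsPGroup.iff_orderOf.1 P.isPGroup' y
      rw [Subgroup.orderOf_coe, hj] at hrd
      exact (Nat.prime_dvd_prime_iff_eq hr Nat.prime_two).1 (hr.dvd_of_dvd_pow hrd)
    have ht' : (t : G) ∈ Subgroup.normalizer ((Subgroup.zpowers (y : G) : Subgroup G) : Set G) := by
      rw [Subgroup.mem_normalizer_iff]
      intro z
      have hmem : ∀ z : G, z ∈ Subgroup.zpowers (y : G) ↔
          ∃ w : (P : Subgroup G), w ∈ Subgroup.zpowers y ∧ (w : G) = z := by
        intro z
        rw [show Subgroup.zpowers (y : G) = (Subgroup.zpowers y).map (P : Subgroup G).subtype from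
          ((P : Subgroup G).subtype.map_zpowers y).symm, Subgroup.mem_map]
        rfl
      rw [hmem, hmem]
      constructor
      · rintro ⟨w, hw, rfl⟩
        exact ⟨t * w * t⁻¹, (Subgroup.mem_normalizer_iff.1 ht w).1 hw, by simp⟩
      · rintro ⟨w, hw, hwz⟩
        refine ⟨t⁻¹ * w * t, (Subgroup.mem_normalizer_iff.1 ht _).2 (by simpa [mul_assoc] using hw), ?_⟩
        simp [hwz, mul_assoc]
    have hc := Subgroup.mem_centralizer_iff.1 (h (y : G) h2 ht') (y : G) rfl
    rw [Subgroup.mem_centralizer_iff]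
    intro z hz
    rw [Set.mem_singleton_iff.1 hz]
    exact Subtype.ext hc
  · intro h x hx g hg
    set A := Subgroup.zpowers x with hA
    set k := (orderOf x).primeFactorsList.length
    have hxk : orderOf x = 2 ^ k :=
      Nat.eq_prime_pow_of_unique_prime_dvd (orderOf_pos x).ne' fun {d} hd hdx => hx d hd hdx
    haveI hAc : IsCyclic A := inferInstance
    obtain ⟨u, v, huv, hu, hv, ⟨j, hj⟩, hvo⟩ := Cfsg.Agent.PBasic.exists_pPart_mul (p := 2) g
    set NA := Subgroup.normalizer (A : Set G)
    have huN : u ∈ NA := Subgroup.zpowers_le.2 hg hu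
    have hvN : v ∈ NA := Subgroup.zpowers_le.2 hg hv
    -- the odd part centralises
    have hvc : v * x = x * v := by
      let φ : NA →* MulAut A := A.normalizerMonoidHom
      have h1 : orderOf (φ ⟨v, hvN⟩) ∣ orderOf v := by
        rw [← Subgroup.orderOf_mk v hvN]; exact orderOf_map_dvd _ _
      haveI : Finite (MulAut A) := Finite.of_injective (fun f : MulAut A => (f : A → A)) DFunLike.coe_injective
      have h2 : orderOf (φ ⟨v, hvN⟩) ∣ 2 ^ k := by
        refine (orderOf_dvd_natCard _).trans ?_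
        rw [IsCyclic.card_mulAut, hA, Nat.card_zpowers, hxk]
        rcases Nat.eq_zero_or_pos k with h0 | h0
        · simp [h0]
        · rw [Nat.totient_prime_pow Nat.prime_two h0]
          simpa using Nat.pow_dvd_pow 2 (Nat.sub_le k 1)
      have h3 : orderOf (φ ⟨v, hvN⟩) = 1 :=
        Nat.dvd_one.1 ((hvo.pow_right k) ▸ Nat.dvd_gcd h1 h2)
      have h4 := congrArg (fun f : MulAut A => ((f ⟨x, Subgroup.mem_zpowers x⟩ : A) : G))
        (orderOf_eq_one_iff.1 h3)
      have h5 : v * x * v⁻¹ = x := h4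
      exact mul_inv_eq_iff_eq_mul.1 h5
    -- the 2-part lives in a conjugate of `P` with `x`
    have huc : u * x = x * u := by
      have hxp : IsPGroup 2 A := IsPGroup.of_card (n := k) (by rw [hA, Nat.card_zpowers, hxk])
      have hup : IsPGroup 2 (Subgroup.zpowers u) := IsPGroup.of_card (n := j) (by rw [Nat.card_zpowers, hj])
      have hsup : IsPGroup 2 ↥(Subgroup.zpowers u ⊔ A) :=
        hup.to_sup_of_normal_right' hxp (Subgroup.zpowers_le.2 huN)
      obtain ⟨T, hT⟩ := hsup.exists_le_sylow
      obtain ⟨c, hc⟩ := MulAction.exists_smul_eq G P T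
      have hmem : ∀ z ∈ Subgroup.zpowers u ⊔ A, c⁻¹ * z * c ∈ (P : Subgroup G) := by
        intro z hz
        have hz' : z ∈ ((c • P : Sylow 2 G) : Subgroup G) := hc ▸ hT hz
        rw [Sylow.coe_subgroup_smul, Subgroup.mem_pointwise_smul_iff_inv_smul_mem] at hz'
        simpa [MulAut.smul_def, mul_assoc] using hz'
      set y' : (P : Subgroup G) := ⟨c⁻¹ * x * c, hmem x (Subgroup.mem_sup_right (Subgroup.mem_zpowers x))⟩
      set u' : (P : Subgroup G) := ⟨c⁻¹ * u * c, hmem u (Subgroup.mem_sup_left (Subgroup.mem_zpowers u))⟩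
      have hpw : ∀ i : ℤ, (c⁻¹ * x * c) ^ i = c⁻¹ * x ^ i * c := fun i => by
        have := map_zpow (MulAut.conj c⁻¹) x i
        simp only [MulAut.conj_apply, inv_inv] at this
        exact this.symm
      have hzp : ∀ z : (P : Subgroup G), z ∈ Subgroup.zpowers y' ↔ c * z * c⁻¹ ∈ A := by
        intro z
        rw [Subgroup.mem_zpowers_iff, hA, Subgroup.mem_zpowers_iff]
        refine exists_congr fun i => ⟨fun e => ?_, fun e => Subtype.ext ?_⟩
        · rw [← e, Subgroup.coe_zpow, hpw]; group
        · rw [Subgroup.coe_zpow, hpw, e]; group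
      have hu' : u' ∈ Subgroup.normalizer ((Subgroup.zpowers y' : Subgroup (P : Subgroup G)) : Set (P : Subgroup G)) := by
        rw [Subgroup.mem_normalizer_iff]
        intro z
        rw [hzp, hzp, Subgroup.mem_normalizer_iff.1 huN]
        have e : c * ((u' * z * u'⁻¹ : (P : Subgroup G)) : G) * c⁻¹ = u * (c * z * c⁻¹) * u⁻¹ := by
          simp only [u', Subgroup.coe_mul, Subgroup.coe_inv]; group
        rw [e]
      have h6 := congrArg Subtype.val (Subgroup.mem_centralizer_iff.1 (h y' hu') y' rfl)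
      simp only [y', u', Subgroup.coe_mul] at h6
      calc u * x = c * ((c⁻¹ * u * c) * (c⁻¹ * x * c)) * c⁻¹ := by group
        _ = c * ((c⁻¹ * x * c) * (c⁻¹ * u * c)) * c⁻¹ := by rw [h6]
        _ = x * u := by group
    rw [Subgroup.mem_centralizer_iff]
    intro z hz
    rw [Set.mem_singleton_iff.1 hz, ← huv, ← mul_assoc, ← huc, mul_assoc, ← hvc, mul_assoc]

end Cfsg.Agent.S4028
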