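import Cfsg.Statements.S4029
import Cfsg.Agent.Lib.Char.RealClasses
import Cfsg.Agent.Lib.Solvable.NilpotentFrattini
import Cfsg.Agent.Lib.Transfer.PGroup
import Mathlib.GroupTheory.FiniteAbelian.Duality
import Mathlib.Analysis.Complex.Polynomial.Basic
import Mathlib.RingTheory.RootsOfUnity.AlgebraicallyClosed

set_option autoImplicit false
set_option linter.style.haveILetI false

set_option autoImplicit false
open Cfsg
open scoped commutatorElement

namespace Cfsg.Agent.S4029

/-- Let P be a finite 2-group in which N_P(⟨y⟩) = C_P(y) for every y ∈ P. If s is the number of conjugacy classes of involutions of P, then #(P/Φ(P)) ≤ s + 1; in particular the subgroup generated by the involutions of P has order at least #(P/Φ(P)). -/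
theorem result {P : Type*} [Group P] [Finite P] (hP : IsPGroup 2 P)
    (hirr : ∀ y : P, Subgroup.normalizer ((Subgroup.zpowers y : Subgroup P) : Set P) ≤ Subgroup.centralizer {y}) :
    Nat.card (P ⧸ frattini P) ≤ Nat.card {c : ConjClasses P // ∃ y : P, ConjClasses.mk y = c ∧ orderOf y = 2} + 1 ∧
    Nat.card (P ⧸ frattini P) ≤ Nat.card (Subgroup.closure {y : P | orderOf y = 2}) := by
  classical
  haveI : Fintype P := Fintype.ofFinite P
  haveI : Fact (2 : ℕ).Prime := ⟨Nat.prime_two⟩
  haveI : Group.IsNilpotent P := hP.isNilpotent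
  haveI : Finite (ConjClasses P) := Finite.of_surjective ConjClasses.mk ConjClasses.mk_surjective
  have hD : commutator P ≤ frattini P := SolvStruct.commutator_le_frattini P
  letI : CommGroup (P ⧸ frattini P) :=
    { (inferInstance : Group (P ⧸ frattini P)) with
      mul_comm := fun a b => by
        obtain ⟨x, rfl⟩ := QuotientGroup.mk'_surjective _ a
        obtain ⟨y, rfl⟩ := QuotientGroup.mk'_surjective _ b
        rw [← commutatorElement_eq_one_iff_mul_comm, ← map_commutatorElement, QuotientGroup.mk'_apply,
          QuotientGroup.eq_one_iff]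
        exact hD (Subgroup.commutator_mem_commutator (Subgroup.mem_top x) (Subgroup.mem_top y)) }
  have hexp : ∀ x : P ⧸ frattini P, x ^ 2 = 1 := fun a => by
    obtain ⟨x, rfl⟩ := QuotientGroup.mk'_surjective _ a
    rw [← map_pow, QuotientGroup.mk'_apply, QuotientGroup.eq_one_iff]
    exact PGroupBasics.pow_mem_frattini hP x
  have h1 : Nat.card (P ⧸ frattini P) ≤ Nat.card {χ : IrrCharacter P // ∀ g, ((χ : P → ℂ) g).im = 0} := by
    haveI : NeZero (Monoid.exponent (P ⧸ frattini P)) := ⟨Monoid.exponent_ne_zero_of_finite⟩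
    rw [← CommGroup.card_monoidHom_of_hasEnoughRootsOfUnity (P ⧸ frattini P) ℂ]
    refine Nat.card_le_card_of_injective (fun f : (P ⧸ frattini P) →* ℂˣ =>
      (⟨⟨fun g => ((f.comp (QuotientGroup.mk' _)) g : ℂ), Char.isIrrCharacter_linear _⟩, fun g => ?_⟩ :
        {χ : IrrCharacter P // ∀ g, ((χ : P → ℂ) g).im = 0})) ?_
    · show ((f ((QuotientGroup.mk' (frattini P)) g) : ℂˣ) : ℂ).im = 0
      have h2 : (f ((QuotientGroup.mk' (frattini P)) g) : ℂ) ^ 2 = 1 := by
        rw [← Units.val_pow_eq_pow_val, ← map_pow, hexp, map_one, Units.val_one]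
      rcases sq_eq_one_iff.1 h2 with h | h <;> rw [h] <;> simp
    · intro f f' hff
      refine MonoidHom.ext fun q => ?_
      obtain ⟨g, rfl⟩ := QuotientGroup.mk'_surjective _ q
      exact Units.ext (congrArg (fun χ : {χ : IrrCharacter P // ∀ g, ((χ : P → ℂ) g).im = 0} =>
        (χ.1 : P → ℂ) g) hff)
  set I := {c : ConjClasses P // ∃ y : P, ConjClasses.mk y = c ∧ orderOf y = 2}
  have h2 : Nat.card {c : ConjClasses P // ∀ g, ConjClasses.mk g = c → IsConj g g⁻¹} ≤ Nat.card (Option I) := by
    refine Nat.card_le_card_of_injective (fun c : {c : ConjClasses P // ∀ g, ConjClasses.mk g = c → IsConj g g⁻¹} =>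
      if h : ∃ y : P, ConjClasses.mk y = c.1 ∧ orderOf y = 2 then some ⟨c.1, h⟩ else none) ?_
    have key : ∀ c : {c : ConjClasses P // ∀ g, ConjClasses.mk g = c → IsConj g g⁻¹},
        (¬ ∃ y : P, ConjClasses.mk y = c.1 ∧ orderOf y = 2) → c.1 = ConjClasses.mk 1 := by
      rintro ⟨c, hc⟩ hno
      obtain ⟨g, rfl⟩ := ConjClasses.mk_surjective c
      obtain ⟨h, hh⟩ := isConj_iff.1 (hc g rfl)
      have hhN : h ∈ Subgroup.normalizer ((Subgroup.zpowers g : Subgroup P) : Set P) := by
        rw [Subgroup.mem_normalizer_iff]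
        intro x
        constructor
        · rintro ⟨k, rfl⟩
          refine ⟨-k, ?_⟩
          show g ^ (-k) = h * g ^ k * h⁻¹
          rw [← conj_zpow, hh, inv_zpow, zpow_neg]
        · rintro ⟨k, hk⟩
          refine ⟨-k, ?_⟩
          show g ^ (-k) = x
          have hk' : g ^ k = h * x * h⁻¹ := hk
          have h3 : h⁻¹ * g * h = g⁻¹ := by
            have h4 : h * g⁻¹ * h⁻¹ = g := by rw [← conj_inv, hh, inv_inv]
            calc h⁻¹ * g * h = h⁻¹ * (h * g⁻¹ * h⁻¹) * h := by rw [h4]
              _ = g⁻¹ := by group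
          calc g ^ (-k) = (g⁻¹) ^ k := by rw [inv_zpow, zpow_neg]
            _ = h⁻¹ * g ^ k * h := by
              rw [← h3]
              have := conj_zpow (i := k) (a := h⁻¹) (b := g)
              simpa using this
            _ = x := by rw [hk']; group
      have hcomm := Subgroup.mem_centralizer_singleton_iff.1 (hirr g hhN)
      rw [hcomm, mul_inv_cancel_right] at hh
      have hg2 : g ^ 2 = 1 := by rw [pow_two]; exact mul_eq_one_iff_eq_inv.2 hh
      by_contra hne
      exact hno ⟨g, rfl, orderOf_eq_prime hg2 fun h1 => hne (congrArg ConjClasses.mk h1)⟩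
    intro c d hcd
    apply Subtype.ext
    by_cases hc : ∃ y : P, ConjClasses.mk y = c.1 ∧ orderOf y = 2
    · by_cases hd : ∃ y : P, ConjClasses.mk y = d.1 ∧ orderOf y = 2
      · simp only [dif_pos hc, dif_pos hd] at hcd
        have h3 := Option.some.inj hcd
        exact congrArg (fun z : {c : ConjClasses P // ∃ y : P, ConjClasses.mk y = c ∧ orderOf y = 2} => (z : ConjClasses P)) h3
      · simp only [dif_pos hc, dif_neg hd] at hcd
        exact absurd hcd (by simp)
    · by_cases hd : ∃ y : P, ConjClasses.mk y = d.1 ∧ orderOf y = 2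
      · simp only [dif_neg hc, dif_pos hd] at hcd
        exact absurd hcd (by simp)
      · rw [key c hc, key d hd]
  have hopt : Nat.card (Option I) = Nat.card I + 1 := Finite.card_option
  refine ⟨(h1.trans (RealChar.card_real.le.trans h2)).trans hopt.le, (h1.trans (RealChar.card_real.le.trans h2)).trans ?_⟩
  refine Nat.card_le_card_of_injective (fun o : Option I => (match o with
    | none => (1 : Subgroup.closure {y : P | orderOf y = 2})
    | some i => ⟨i.2.choose, Subgroup.subset_closure i.2.choose_spec.2⟩)) ?_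
  intro a b hab
  rcases a with _ | i <;> rcases b with _ | j
  · rfl
  · exfalso
    have h3 := j.2.choose_spec.2
    rw [show j.2.choose = 1 from (congrArg Subtype.val hab).symm, orderOf_one] at h3
    exact absurd h3 (by norm_num)
  · exfalso
    have h3 := i.2.choose_spec.2
    rw [show i.2.choose = 1 from congrArg Subtype.val hab, orderOf_one] at h3
    exact absurd h3 (by norm_num)
  · refine congrArg some (Subtype.ext ?_)
    rw [← i.2.choose_spec.1, ← j.2.choose_spec.1]
    exact congrArg ConjClasses.mk (congrArg Subtype.val hab)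

end Cfsg.Agent.S4029
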