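import Cfsg.Statements.S4030
import Cfsg.Agent.Lib.GoodInvol.Gate
import Cfsg.Agent.Lib.Gold1169.Main
import Cfsg.Agent.Lib.GoldCons.NoReal
import Cfsg.Agent.Lib.SEMain.Proof
import Cfsg.Agent.Lib.NoField.Consumers
import Cfsg.Agent.Lib.NoField.Result

set_option autoImplicit false
open Cfsg

namespace Cfsg.Agent.S4030

/-- Let G be a finite non-abelian simple group in which N_G(⟨x⟩) = C_G(x) for every 2-element x. Then G is isomorphic to PSL₂(q) for a prime power q ≥ 4 with q ≡ 0, 3 or 5 (mod 8), or G is simple of the order of a Suzuki group, of a Ree group in characteristic 3, or of order 175560. -/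
theorem result {G : Type*} [Group G] [Finite G] [IsSimpleGroup G] (hna : ¬ IsMulCommutative G)
    (hirr : ∀ x : G, (∀ r : ℕ, r.Prime → r ∣ orderOf x → r = 2) →
      Subgroup.normalizer ((Subgroup.zpowers x : Subgroup G) : Set G) ≤ Subgroup.centralizer {x}) :
    (∃ (F : Type) (_ : Field F) (_ : Fintype F), 4 ≤ Fintype.card F ∧
        (Fintype.card F % 8 = 0 ∨ Fintype.card F % 8 = 3 ∨ Fintype.card F % 8 = 5) ∧
        Nonempty (G ≃* Matrix.ProjectiveSpecialLinearGroup (Fin 2) F)) ∨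
    Cfsg.IsSuzuki G ∨ Cfsg.IsRee G ∨ Cfsg.IsJ1 G := by
  exact Cfsg.Agent.GoldCons.S4030_of (Cfsg.Agent.Gold1169.closedStmt_of Cfsg.Agent.GoodInvol.gate) (Cfsg.Agent.NoField.abelianList_of Cfsg.Agent.NoField.noFieldStmt) Cfsg.Agent.SEMain.stmt hna hirr

end Cfsg.Agent.S4030
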