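import Cfsg.Statements.S4032
import Cfsg.Agent.Lib.Solvable.SchurZassenhaus

set_option autoImplicit false
set_option linter.style.haveILetI false

set_option autoImplicit false
open Cfsg

open scoped Pointwise

namespace Cfsg.Agent.S4032

/-- Let π be a set of primes and G a finite group in which N_G(⟨x⟩) = C_G(x) for every π-element x. If N is a normal subgroup of G whose order is divisible by no prime of π, then G/N has the same property: N_{G/N}(⟨y⟩) = C_{G/N}(y) for every π-element y of G/N. -/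
theorem result {G : Type*} [Group G] [Finite G] (π : Set ℕ)
    (hirr : ∀ x : G, (∀ r : ℕ, r.Prime → r ∣ orderOf x → r ∈ π) →
      Subgroup.normalizer ((Subgroup.zpowers x : Subgroup G) : Set G) ≤ Subgroup.centralizer {x})
    (N : Subgroup G) [N.Normal] (hN : ∀ r : ℕ, r.Prime → r ∣ Nat.card N → r ∉ π) :
    ∀ y : G ⧸ N, (∀ r : ℕ, r.Prime → r ∣ orderOf y → r ∈ π) →
      Subgroup.normalizer ((Subgroup.zpowers y : Subgroup (G ⧸ N)) : Set (G ⧸ N)) ≤ Subgroup.centralizer {y} := by
  classical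
  intro y hy t ht
  set n := orderOf y with hn
  obtain ⟨y0, hy0⟩ := QuotientGroup.mk'_surjective N y
  have hy0n : y0 ^ n ∈ N := by
    rw [← QuotientGroup.eq_one_iff]
    show QuotientGroup.mk' N (y0 ^ n) = 1
    rw [map_pow, hy0, hn, pow_orderOf_eq_one]
  set k := orderOf (y0 ^ n) with hk
  have hkN : k ∣ Nat.card N := Subgroup.orderOf_dvd_natCard N hy0n
  have hcopN : Nat.Coprime n (Nat.card N) :=
    Nat.coprime_of_dvd fun r hr h1 h2 => hN r hr h2 (hy r hr h1)
  obtain ⟨m, hm⟩ := exists_pow_eq_self_of_coprime (x := y) (n := k)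
    (hcopN.symm.coprime_dvd_left hkN)
  set x := (y0 ^ k) ^ m with hxdef
  have hxy : QuotientGroup.mk' N x = y := by rw [hxdef, map_pow, map_pow, hy0, hm]
  have hxn : x ^ n = 1 := by
    rw [hxdef, ← pow_mul, ← pow_mul, show k * (m * n) = n * k * m by ring, pow_mul, pow_mul, hk,
      pow_orderOf_eq_one, one_pow]
  have hxπ : ∀ r : ℕ, r.Prime → r ∣ orderOf x → r ∈ π := fun r hr hrx =>
    hy r hr (hrx.trans (orderOf_dvd_of_pow_eq_one hxn))
  obtain ⟨t0, ht0⟩ := QuotientGroup.mk'_surjective N t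
  have hAK : Subgroup.zpowers x ≤ Subgroup.normalizer (N : Set G) := by
    rw [Subgroup.normalizer_eq_top]; exact le_top
  have hcop : (Nat.card (Subgroup.zpowers x)).Coprime (Nat.card N) := by
    rw [Nat.card_zpowers]
    exact hcopN.coprime_dvd_left (orderOf_dvd_of_pow_eq_one hxn)
  have htx : t0 * x * t0⁻¹ ∈ N ⊔ Subgroup.zpowers x := by
    obtain ⟨i, hi⟩ := Subgroup.mem_zpowers_iff.1
      ((Subgroup.mem_normalizer_iff.1 ht y).1 (Subgroup.mem_zpowers y))
    have h1 : t0 * x * t0⁻¹ * (x ^ i)⁻¹ ∈ N := by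
      rw [← QuotientGroup.eq_one_iff]
      show QuotientGroup.mk' N (t0 * x * t0⁻¹ * (x ^ i)⁻¹) = 1
      rw [map_mul, map_mul, map_mul, map_inv, map_inv, map_zpow, hxy, ht0, hi, mul_inv_cancel]
    rw [show t0 * x * t0⁻¹ = t0 * x * t0⁻¹ * (x ^ i)⁻¹ * x ^ i by group]
    exact Subgroup.mul_mem_sup h1 (Subgroup.zpow_mem _ (Subgroup.mem_zpowers x) i)
  obtain ⟨c, hc, hcA⟩ := Cfsg.Agent.SchurZ.conj_in (A := Subgroup.zpowers x) (K := N)
    (B := (Subgroup.zpowers x).map (MulAut.conj t0).toMonoidHom) hAK hcop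
    (Or.inl (Group.isSolvable_of_comm fun a b => mul_comm' a b))
    (by rw [MonoidHom.map_zpowers, Subgroup.zpowers_le]; exact htx)
    (Subgroup.card_map_of_injective (MulEquiv.injective _))
  have htc : c⁻¹ * t0 ∈ Subgroup.normalizer ((Subgroup.zpowers x : Subgroup G) : Set G) := by
    rw [Subgroup.mem_normalizer_iff]
    intro z
    rw [show c⁻¹ * t0 * z * (c⁻¹ * t0)⁻¹ = c⁻¹ * (t0 * z * t0⁻¹) * c by group]
    constructor
    · intro hz
      have hz' : t0 * z * t0⁻¹ ∈ MulAut.conj c • Subgroup.zpowers x := by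
        rw [hcA]; exact ⟨z, hz, rfl⟩
      rw [Subgroup.mem_pointwise_smul_iff_inv_smul_mem] at hz'
      simpa [MulAut.smul_def, mul_assoc] using hz'
    · intro hz
      have hz' : t0 * z * t0⁻¹ ∈ MulAut.conj c • Subgroup.zpowers x := by
        rw [Subgroup.mem_pointwise_smul_iff_inv_smul_mem]
        simpa [MulAut.smul_def, mul_assoc] using hz
      rw [hcA] at hz'
      obtain ⟨z', hz'', he⟩ := hz'
      have hzz : z' = z := mul_left_cancel (mul_right_cancel (show t0 * z' * t0⁻¹ = t0 * z * t0⁻¹ from he))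
      exact hzz ▸ hz''
  have hcomm := Subgroup.mem_centralizer_iff.1 (hirr x hxπ htc) x rfl
  have h2 := congrArg (QuotientGroup.mk' N) hcomm
  simp only [map_mul, map_inv] at h2
  rw [show QuotientGroup.mk' N c = 1 from
    (QuotientGroup.eq_one_iff c).2 hc, inv_one, one_mul, hxy, ht0] at h2
  rw [Subgroup.mem_centralizer_iff]
  intro z hz
  rw [Set.mem_singleton_iff.1 hz]
  exact h2

end Cfsg.Agent.S4032
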