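import Cfsg.Statements.S4034
import Cfsg.Agent.Lib.FGStruct.PComplement

set_option autoImplicit false
open Cfsg

namespace Cfsg.Agent.S4034

/-- Let G be a finite group and p a prime. Every conjugacy class of p-regular elements of G (elements of order prime to p) has p-power size if and only if G has an abelian p-complement, i.e. an abelian subgroup of order prime to p and p-power index. -/
theorem result {G : Type*} [Group G] [Finite G] {p : ℕ} (hp : p.Prime) :
    (∀ x : G, (orderOf x).Coprime p → ∃ k : ℕ, (ConjClasses.mk x).carrier.ncard = p ^ k) ↔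
    (∃ H : Subgroup G, IsMulCommutative H ∧ ¬ p ∣ Nat.card H ∧ ∃ k : ℕ, H.index = p ^ k) := by
  have hcar : ∀ x : G, (ConjClasses.mk x).carrier.ncard = (Subgroup.centralizer ({x} : Set G)).index := by
    intro x
    letI : Fintype G := Fintype.ofFinite G
    rw [← Cfsg.Agent.Char.card_classFinset, ← Set.ncard_coe_finset]
    congr 1
    ext y
    rw [ConjClasses.mem_carrier_iff_mk_eq, ConjClasses.mk_eq_mk_iff_isConj, Finset.mem_coe,
      Cfsg.Agent.Char.mem_classFinset]
    exact isConj_comm
  simp only [hcar]
  constructor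
  · intro h
    haveI : Group.IsSolvable G := Cfsg.Agent.PCompl.RegularClassPPow.isSolvable hp h
    obtain ⟨H, hH⟩ := Cfsg.Agent.PCompl.exists_isPCompl (G := G) hp
    exact ⟨H, Cfsg.Agent.PCompl.isMulCommutative_pCompl hp h H hH, hH⟩
  · rintro ⟨H, hab, hH⟩
    exact Cfsg.Agent.PCompl.regularClassPPow_of_abelian hp H hH hab

end Cfsg.Agent.S4034
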