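import Cfsg.Statements.S4036
import Mathlib.GroupTheory.PGroup
import Mathlib.Algebra.Group.Subgroup.Basic

set_option autoImplicit false
set_option linter.style.haveILetI false

set_option autoImplicit false
open Cfsg

namespace Cfsg.Agent.S4036

/-- Let P be a finite abelian p-group and K a group of automorphisms of P (a subgroup of Aut P) whose order is divisible by p. If all non-identity elements of K have the same fixed-point subgroup on P, then K has no non-trivial normal subgroup of order prime to p. -/
theorem result {P : Type*} [CommGroup P] [Finite P] {p : ℕ}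
    [Fact p.Prime] (hP : IsPGroup p P) (K : Subgroup (MulAut P)) (hK : p ∣ Nat.card K)
    (hfix : ∀ x y : MulAut P, x ∈ K → y ∈ K → x ≠ 1 → y ≠ 1 → ∀ v : P, x v = v ↔ y v = v) :
    ∀ N : Subgroup ↥K, N.Normal → ¬ p ∣ Nat.card N → N = ⊥ := by
  intro N hN hpN
  classical
  have hp : p.Prime := Fact.out
  by_contra hne
  obtain ⟨x, hx⟩ := exists_prime_orderOf_dvd_card' (G := K) p hK
  have hx1 : (x : MulAut P) ≠ 1 := by
    intro h
    have hx' : x = 1 := Subtype.ext h
    rw [hx', orderOf_one] at hx
    exact hp.ne_one hx.symm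
  haveI := Fintype.ofFinite P
  haveI : Finite (MulAut P) := Finite.of_injective (fun f : MulAut P => (f : P → P)) DFunLike.coe_injective
  haveI := Fintype.ofFinite N
  let π : P →* P :=
    { toFun := fun v => ∏ n : N, ((n : K) : MulAut P) v
      map_one' := by simp
      map_mul' := fun a b => by simp [Finset.prod_mul_distrib] }
  have hπfix : ∀ (m : N) (v : P), ((m : K) : MulAut P) (π v) = π v := by
    intro m v
    show ((m : K) : MulAut P) (∏ n : N, ((n : K) : MulAut P) v) = ∏ n : N, ((n : K) : MulAut P) v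
    rw [map_prod]
    exact Fintype.prod_equiv (Equiv.mulLeft m) _ _ fun n => rfl
  have hπN : ∀ (m : N) (v : P), π (((m : K) : MulAut P) v) = π v := by
    intro m v
    exact Fintype.prod_equiv (Equiv.mulRight m) _ _ fun n => rfl
  have hπx : ∀ v : P, π ((x : MulAut P) v) = (x : MulAut P) (π v) := by
    intro v
    show ∏ n : N, ((n : K) : MulAut P) ((x : MulAut P) v) =
      (x : MulAut P) (∏ n : N, ((n : K) : MulAut P) v)
    rw [map_prod]
    refine Fintype.prod_equiv
      { toFun := fun n : N => (⟨x⁻¹ * (n : K) * x, by simpa using hN.conj_mem _ n.2 x⁻¹⟩ : N)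
        invFun := fun n : N => (⟨x * (n : K) * x⁻¹, hN.conj_mem _ n.2 x⟩ : N)
        left_inv := fun n => Subtype.ext (by simp [mul_assoc])
        right_inv := fun n => Subtype.ext (by simp [mul_assoc]) } _ _ fun n => ?_
    show ((n : K) : MulAut P) ((x : MulAut P) v) =
      (x : MulAut P) (((x : MulAut P)⁻¹ * ((n : K) : MulAut P) * (x : MulAut P)) v)
    simp [MulAut.mul_apply]
  obtain ⟨m, hm⟩ := IsPGroup.iff_card.1 hP
  have hcopN : ∀ v : P, v ^ Nat.card N = 1 → v = 1 := by
    intro v hv
    have h1 : v ^ Nat.card P = 1 := pow_card_eq_one'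
    have h2 := pow_gcd_eq_one.2 ⟨hv, h1⟩
    rwa [hm, Nat.Coprime.gcd_eq_one ((hp.coprime_iff_not_dvd.2 hpN).symm.pow_right m), pow_one] at h2
  have hker : π.ker = ⊥ := by
    by_contra hD
    have hDp : IsPGroup p π.ker := hP.to_subgroup _
    obtain ⟨j, hj⟩ := IsPGroup.iff_card.1 hDp
    have hpD : p ∣ Nat.card π.ker := by
      rcases Nat.eq_zero_or_pos j with rfl | hj0
      · exact absurd (Subgroup.card_eq_one.1 (by rw [hj, pow_zero])) hD
      · rw [hj]; exact dvd_pow_self p hj0.ne'
    have hzp : IsPGroup p (Subgroup.zpowers (x : MulAut P)) :=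
      IsPGroup.of_card (n := 1) (by rw [Nat.card_zpowers, Subgroup.orderOf_coe, hx, pow_one])
    have hinv : ∀ h ∈ Subgroup.zpowers (x : MulAut P), ∀ v ∈ π.ker, h v ∈ π.ker := by
      have hfw : ∀ v ∈ π.ker, (x : MulAut P) v ∈ π.ker := fun v hv => by
        rw [MonoidHom.mem_ker] at hv ⊢; rw [hπx, hv, map_one]
      intro h hh
      obtain ⟨i, hi⟩ := (mem_powers_iff_mem_zpowers (x := (x : MulAut P))).2 hh
      subst hi
      induction i with
      | zero => intro v hv; simpa using hv
      | succ i ih =>
        intro v hv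
        show ((x : MulAut P) ^ (i + 1)) v ∈ π.ker
        rw [pow_succ, MulAut.mul_apply]
        exact ih (Subgroup.pow_mem _ (Subgroup.mem_zpowers _) i) _ (hfw v hv)
    letI : MulAction (Subgroup.zpowers (x : MulAut P)) π.ker :=
      { smul := fun h v => ⟨(h : MulAut P) v, hinv h h.2 v v.2⟩
        one_smul := fun v => Subtype.ext rfl
        mul_smul := fun a b v => Subtype.ext rfl }
    obtain ⟨v, hv, hv1⟩ := hzp.exists_fixed_point_of_prime_dvd_card_of_fixed_point π.ker hpD (a := 1)
      (fun h => Subtype.ext (map_one (h : MulAut P)))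
    have hxv : (x : MulAut P) v = v := congrArg Subtype.val (hv ⟨_, Subgroup.mem_zpowers _⟩)
    refine hv1 (Subtype.ext (hcopN _ ?_).symm)
    have hall : ∀ n : N, ((n : K) : MulAut P) v = v := fun n => by
      by_cases hn : ((n : K) : MulAut P) = 1
      · rw [hn]; rfl
      · exact (hfix _ _ x.2 (n : K).2 hx1 hn v).1 hxv
    calc (v : P) ^ Nat.card N = ∏ n : N, ((n : K) : MulAut P) v := by
          rw [Finset.prod_congr rfl (fun n _ => hall n), Finset.prod_const, Finset.card_univ,
            Nat.card_eq_fintype_card]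
      _ = 1 := v.2
  refine hne ((Subgroup.eq_bot_iff_forall N).2 fun n hn => Subtype.ext (MulEquiv.ext fun v => ?_))
  have h1 : π (((n : K) : MulAut P) v) = π v := hπN ⟨n, hn⟩ v
  exact (MonoidHom.ker_eq_bot_iff π).1 hker h1

end Cfsg.Agent.S4036
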