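import Cfsg.Statements.S4038
import Cfsg.Agent.Lib.NilMaxInv.Solvable

set_option autoImplicit false
open Cfsg

namespace Cfsg.Agent.S4038

/-- Let A and G be finite groups of coprime orders with A acting on G by automorphisms. Suppose G has a proper A-invariant subgroup M, maximal among proper A-invariant subgroups, which is nilpotent and whose Sylow 2-subgroups have nilpotency class at most 2. Then G is solvable. -/
theorem result {G A : Type*} [Group G] [Finite G]
    [Group A] [Finite A] (φ : A →* MulAut G) (hcop : (Nat.card A).Coprime (Nat.card G))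
    (M : Subgroup G) (hMtop : M ≠ ⊤) (hMinv : ∀ a : A, ∀ m : G, m ∈ M → φ a m ∈ M)
    (hMmax : ∀ H : Subgroup G, M ≤ H → H ≠ ⊤ → (∀ a : A, ∀ h : G, h ∈ H → φ a h ∈ H) → H = M)
    (hnil : Group.IsNilpotent M) (h2 : ∀ S : Sylow 2 ↥M, Group.nilpotencyClass ↥(S : Subgroup ↥M) ≤ 2) :
    Group.IsSolvable G := by
  refine Cfsg.Agent.NilMaxInv.solvable φ hcop M
    ⟨hMtop, fun a m hm => hMinv a m hm, fun H hMH hH hinv => hMmax H hMH hH hinv⟩ hnil fun S a ha b hb c hc => ?_
  haveI : Fact (Nat.Prime 2) := ⟨Nat.prime_two⟩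
  haveI : Group.IsNilpotent ↥(S : Subgroup ↥M) := S.isPGroup'.isNilpotent
  have h := Subgroup.upperCentralSeries_eq_top_iff_nilpotencyClass_le.2 (h2 S)
  have h1 := Subgroup.mem_upperCentralSeries_succ_iff.1 (h.ge (Subgroup.mem_top ⟨a, ha⟩)) ⟨b, hb⟩
  rw [Subgroup.upperCentralSeries_one, Subgroup.mem_center_iff] at h1
  have h3 := congrArg Subtype.val (h1 ⟨c, hc⟩)
  rw [commutatorElement_eq_one_iff_mul_comm]
  exact h3.symm

end Cfsg.Agent.S4038
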