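import Cfsg.Statements.S4043
import Cfsg.Agent.Lib.Solvable.SchurZassenhaus
import Cfsg.Agent.Lib.Solvable.Structure
import Cfsg.Agent.Lib.Transfer.Basic
import Cfsg.Agent.Lib.CharP.AxB

set_option autoImplicit false
set_option linter.style.haveILetI false

set_option autoImplicit false
open Cfsg
open scoped Pointwise

namespace Cfsg.Agent.S4043

/-- Let G be a finite group that is the semidirect product of a normal p-subgroup N by a subgroup A, and also of N by a subgroup A₁, where p is a prime and A and A₁ both have normal p-complements. If C_N(A) = C_N(A₁) = 1, then A₁ is conjugate to A by an element of N. -/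
theorem result {G : Type*} [Group G] [Finite G] {p : ℕ}
    [Fact p.Prime] (N : Subgroup G) [N.Normal] (hN : IsPGroup p N) (A A₁ : Subgroup G)
    (hA : A.IsComplement' N) (hA₁ : A₁.IsComplement' N)
    (hAp : Cfsg.HasNormalPComplement p A) (hA₁p : Cfsg.HasNormalPComplement p A₁)
    (hC : ∀ n : G, n ∈ N → (∀ a : G, a ∈ A → a * n * a⁻¹ = n) → n = 1)
    (hC₁ : ∀ n : G, n ∈ N → (∀ a : G, a ∈ A₁ → a * n * a⁻¹ = n) → n = 1) :
    ∃ n : G, n ∈ N ∧ A₁ = A.map (MulAut.conj n).toMonoidHom := by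
  classical
  have key : ∀ B : Subgroup G, B.IsComplement' N → Cfsg.HasNormalPComplement p B →
      ∃ K : Subgroup G, K ≤ B ∧ B ≤ Subgroup.normalizer (K : Set G) ∧ (Nat.card K).Coprime p ∧
        ∃ k, Nat.card B = Nat.card K * p ^ k := by
    intro B _ hBp
    obtain ⟨K, hKn, hKc, k, hk⟩ := PBasic.hasNormalPComplement_iff.1 hBp
    refine ⟨K.map B.subtype, Subgroup.map_subtype_le K, AxB.le_normalizer_map_subtype hKn, ?_, k, ?_⟩
    · rwa [Subgroup.card_map_of_injective B.subtype_injective]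
    · rw [Subgroup.card_map_of_injective B.subtype_injective, ← hk, Subgroup.card_mul_index]
  obtain ⟨K, hKA, hAK, hKc, k, hk⟩ := key A hA hAp
  obtain ⟨K₁, hKA₁, hAK₁, hKc₁, k₁, hk₁⟩ := key A₁ hA₁ hA₁p
  obtain ⟨b, hb⟩ := IsPGroup.iff_card.1 hN
  have hcop : (Nat.card K).Coprime (Nat.card N) := by rw [hb]; exact hKc.pow_right b
  have hcop₁ : (Nat.card K₁).Coprime (Nat.card N) := by rw [hb]; exact hKc₁.pow_right b
  have hcardAA : Nat.card A = Nat.card A₁ := by
    rw [← hA.index_eq_card, ← hA₁.index_eq_card]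
  have hcardKK : Nat.card K = Nat.card K₁ := by
    rw [hk, hk₁] at hcardAA
    refine Nat.dvd_antisymm ?_ ?_
    · exact (hKc.pow_right k₁).dvd_of_dvd_mul_right (hcardAA ▸ dvd_mul_right _ _)
    · exact (hKc₁.pow_right k).dvd_of_dvd_mul_right (hcardAA.symm ▸ dvd_mul_right _ _)
  have hKN : K ≤ Subgroup.normalizer (N : Set G) := by
    rw [Subgroup.normalizer_eq_top]; exact le_top
  -- `N ⊔ K` is normal with `p`-power index, so contains `K₁`
  have hNK : (N ⊔ K).Normal := by
    rw [← Subgroup.normalizer_eq_top_iff, eq_top_iff, ← hA.symm.sup_eq_top]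
    refine sup_le (le_trans le_sup_left Subgroup.le_normalizer) fun a ha => ?_
    rw [SolvBasic.mem_normalizer_iff_conjSmul, Subgroup.smul_sup,
      SolvBasic.conjSmul_eq_self_of_mem_normalizer (hAK ha),
      SolvBasic.conjSmul_eq_self_of_mem_normalizer (by rw [Subgroup.normalizer_eq_top]; trivial)]
  have hidx : ∃ j, (N ⊔ K).index = p ^ j := by
    refine ⟨k, ?_⟩
    have h1 := (N ⊔ K).card_mul_index
    rw [SchurZ.card_sup hKN hcop, ← hA.symm.card_mul, hk, mul_assoc] at h1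
    exact Nat.eq_of_mul_eq_mul_left Nat.card_pos (Nat.eq_of_mul_eq_mul_left Nat.card_pos h1)
  have hK₁le : K₁ ≤ N ⊔ K := by
    intro x hx
    obtain ⟨j, hj⟩ := hidx
    have h1 : orderOf (x : G ⧸ (N ⊔ K)) ∣ Nat.card K₁ :=
      (orderOf_map_dvd (QuotientGroup.mk' (N ⊔ K)) x).trans (Subgroup.orderOf_dvd_natCard K₁ hx)
    have h2 : orderOf (x : G ⧸ (N ⊔ K)) ∣ p ^ j := hj ▸ orderOf_dvd_natCard _
    have h3 := Nat.eq_one_of_dvd_coprimes (hKc₁.pow_right j) h1 h2
    rwa [orderOf_eq_one_iff, QuotientGroup.eq_one_iff] at h3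
  have hsolvN : Group.IsSolvable N := by
    haveI : Group.IsNilpotent N := hN.isNilpotent
    infer_instance
  obtain ⟨n, hn, hnK⟩ := SchurZ.conj_in hKN hcop (Or.inr hsolvN) hK₁le hcardKK.symm
  set A₂ := A.map (MulAut.conj n).toMonoidHom with hA₂
  refine ⟨n, hn, ?_⟩
  have hcard₂ : Nat.card A₂ = Nat.card A₁ := by
    rw [hA₂, Subgroup.card_map_of_injective (MulAut.conj n).injective, hcardAA]
  have hA₂n : A₂ ≤ Subgroup.normalizer (K₁ : Set G) := by
    rintro _ ⟨a, ha, rfl⟩
    show n * a * n⁻¹ ∈ _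
    rw [SolvBasic.mem_normalizer_iff_conjSmul, ← hnK, SolvBasic.conjSmul_conjSmul,
      show n * a * n⁻¹ * n = n * a by group, ← SolvBasic.conjSmul_conjSmul,
      SolvBasic.conjSmul_eq_self_of_mem_normalizer (hAK ha)]
  have hNA₂ : N ⊓ A₂ = ⊥ := by
    rw [eq_bot_iff]
    rintro x ⟨hxN, a, ha, rfl⟩
    have : a ∈ N := by
      have := (inferInstance : N.Normal).conj_mem _ hxN n⁻¹
      simpa [mul_assoc] using this
    have h1 : a = 1 := Subgroup.disjoint_def.1 hA.disjoint ha this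
    simp [h1]
  -- `C_N(K₁) = N ⊓ N(K₁)` is trivial
  set M := N ⊓ Subgroup.normalizer (K₁ : Set G) with hM
  have hMC : ∀ x ∈ M, ∀ a ∈ K₁, a * x = x * a := fun x hx a ha => by
    have := SchurZ.mem_centralizer_of_mem_normalizer (A := K₁) (K := N)
      (by rw [Subgroup.normalizer_eq_top]; exact le_top)
      (SchurZ.inf_eq_bot hcop₁) hx.1 hx.2
    exact Subgroup.mem_centralizer_iff.1 this a ha
  have hM1 : M = ⊥ := by
    by_contra hMne
    obtain ⟨T⟩ : Nonempty (Sylow p A₁) := inferInstance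
    set T' := (T : Subgroup A₁).map A₁.subtype with hT'
    have hT'p : IsPGroup p T' := T.isPGroup'.map _
    have hT'A : T' ≤ A₁ := Subgroup.map_subtype_le _
    have hT'n : T' ≤ Subgroup.normalizer (M : Set G) := by
      intro t ht
      rw [SolvBasic.mem_normalizer_iff_conjSmul, hM, Subgroup.smul_inf,
        SolvBasic.conjSmul_eq_self_of_mem_normalizer (by rw [Subgroup.normalizer_eq_top]; trivial),
        SolvBasic.conjSmul_eq_self_of_mem_normalizer
          (Subgroup.le_normalizer (hAK₁ (hT'A ht)))]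
    have hMp : IsPGroup p M := hN.to_le inf_le_left
    have hQ : IsPGroup p (M ⊔ T' : Subgroup G) := hMp.to_sup_of_normal_left' hT'p hT'n
    haveI : Group.IsNilpotent (M ⊔ T' : Subgroup G) := hQ.isNilpotent
    haveI : (M.subgroupOf (M ⊔ T')).Normal :=
      Subgroup.normal_subgroupOf_of_le_normalizer (sup_le Subgroup.le_normalizer hT'n)
    have hne : M.subgroupOf (M ⊔ T') ≠ ⊥ := by
      rw [Ne, Subgroup.subgroupOf_eq_bot, disjoint_iff, inf_eq_left.2 le_sup_left]
      exact hMne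
    obtain ⟨⟨z, hz⟩, ⟨hzM, hzZ⟩, hz1⟩ := (Subgroup.ne_bot_iff_exists_ne_one).1
      (SolvStruct.inf_center_ne_bot hne) |> fun ⟨x, hx⟩ => (⟨x.1, x.2, fun h => hx (Subtype.ext h)⟩ :
        ∃ x : (M ⊔ T' : Subgroup G), x ∈ M.subgroupOf (M ⊔ T') ⊓ Subgroup.center _ ∧ x ≠ 1)
    apply hz1
    refine Subtype.ext (hC₁ z (Subgroup.mem_subgroupOf.1 hzM).1 fun a ha => ?_)
    let S : Subgroup A₁ := (Subgroup.centralizer ({z} : Set G)).subgroupOf A₁
    have hS1 : Nat.card K₁ ∣ Nat.card S := by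
      rw [← Nat.card_congr (Subgroup.subgroupOfEquivOfLe hKA₁).toEquiv]
      refine Subgroup.card_dvd_of_le fun x hx => ?_
      rw [Subgroup.mem_subgroupOf, Subgroup.mem_centralizer_singleton_iff]
      exact hMC z (Subgroup.mem_subgroupOf.1 hzM) x hx
    have hS2 : (T : Subgroup A₁) ≤ S := by
      intro x hx
      rw [Subgroup.mem_subgroupOf, Subgroup.mem_centralizer_singleton_iff]
      exact congrArg Subtype.val ((Subgroup.mem_center_iff.1 hzZ)
        ⟨x, Subgroup.mem_sup_right ⟨x, hx, rfl⟩⟩)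
    have hS : S = ⊤ := by
      rw [← Subgroup.index_eq_one]
      have h1 : ¬ p ∣ S.index := fun h =>
        T.not_dvd_index (h.trans (Subgroup.index_dvd_of_le hS2))
      have h2 : S.index ∣ p ^ k₁ := by
        obtain ⟨c, hc⟩ := hS1
        have h3 := S.card_mul_index
        rw [hc, hk₁, mul_assoc] at h3
        exact ⟨c, by rw [← Nat.eq_of_mul_eq_mul_left Nat.card_pos h3, mul_comm]⟩
      obtain ⟨j, -, hj⟩ := (Nat.dvd_prime_pow (Fact.out : p.Prime)).1 h2
      rcases Nat.eq_zero_or_pos j with rfl | hj0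
      · simpa using hj
      · exact absurd (hj ▸ dvd_pow_self p hj0.ne') h1
    have := Subgroup.mem_centralizer_singleton_iff.1
      (Subgroup.mem_subgroupOf.1 (hS ▸ Subgroup.mem_top (⟨a, ha⟩ : A₁)))
    rw [this, mul_inv_cancel_right]
  -- hence the normalizer of `K₁` is `A₂`
  have hA2top : N ⊔ A₂ = ⊤ := by
    apply Subgroup.eq_top_of_card_eq
    rw [SolvBasic.card_sup_of_inf_eq_bot (by rw [Subgroup.normalizer_eq_top]; exact le_top) hNA₂,
      hcard₂, ← hA₁.symm.card_mul]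
  refine Subgroup.eq_of_le_of_card_ge ?_ hcard₂.le
  intro x hx
  have hx' : x ∈ N ⊔ A₂ := hA2top ▸ Subgroup.mem_top x
  obtain ⟨u, hu, a, ha, rfl⟩ := (SolvBasic.mem_sup_iff_of_le_normalizer
    (by rw [Subgroup.normalizer_eq_top]; exact le_top)).1 hx'
  have hu' : u ∈ M := ⟨hu, by simpa using mul_mem (hAK₁ hx) (inv_mem (hA₂n ha))⟩
  rw [hM1, Subgroup.mem_bot] at hu'
  rw [hu', one_mul]
  exact ha

end Cfsg.Agent.S4043
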