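import Cfsg.Statements.S4049
import Cfsg.Agent.Lib.FGStruct.OddNormalizer

set_option autoImplicit false
set_option linter.style.haveILetI false

set_option autoImplicit false
open Cfsg

namespace Cfsg.Agent.S4049

/-- Let G be a finite group such that N_G(H)/C_G(H) has odd order for every nontrivial subgroup H of odd order. Then the Sylow 2-subgroups of G are normal. -/
theorem result {G : Type*} [Group G] [Finite G]
    (hhom : ∀ H : Subgroup G, H ≠ ⊥ → ¬ 2 ∣ Nat.card ↥H →
        ¬ 2 ∣ (Subgroup.centralizer (H : Set G)).relIndex (Subgroup.normalizer (H : Set G))) (P : Sylow 2 G) :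
    (P : Subgroup G).Normal := by
  refine Cfsg.Agent.OddNorm.sylow_two_normal ?_ P
  intro x t hodd ht2 ht
  obtain ⟨k, hk⟩ := ht2
  by_cases hx : x = 1
  · subst hx; rw [mul_one, one_mul]
  set H := Subgroup.zpowers x
  have hH := hhom H (by simpa [H] using hx) (by
    rw [Nat.card_zpowers]
    exact fun hd => Nat.not_even_iff_odd.2 hodd (even_iff_two_dvd.2 hd))
  set N := Subgroup.normalizer (H : Set G)
  set C := Subgroup.centralizer (H : Set G)
  haveI : (C.subgroupOf N).Normal := by
    refine ⟨fun c hc g => ?_⟩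
    rw [Subgroup.mem_subgroupOf, Subgroup.mem_centralizer_iff] at hc ⊢
    intro z hz
    have hz' : (g : G)⁻¹ * z * g ∈ H := by
      have := (Subgroup.mem_normalizer_iff.1 (inv_mem g.2 : (g : G)⁻¹ ∈ N) z).1 hz
      simpa using this
    push_cast
    calc z * ((g : G) * c * (g : G)⁻¹) = g * (((g : G)⁻¹ * z * g) * c) * (g : G)⁻¹ := by group
      _ = g * ((c : G) * ((g : G)⁻¹ * z * g)) * (g : G)⁻¹ := by rw [hc _ hz']
      _ = g * c * (g : G)⁻¹ * z := by group
  have h1 : (t ^ C.relIndex N) ∈ C := by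
    have := Subgroup.pow_index_mem (C.subgroupOf N) (⟨t, ht⟩ : N)
    simpa [Subgroup.mem_subgroupOf, Subgroup.relIndex] using this
  have hco : Nat.Coprime (C.relIndex N) (orderOf t) :=
    Nat.Coprime.coprime_dvd_right (orderOf_dvd_of_pow_eq_one hk)
      (((Nat.prime_two.coprime_iff_not_dvd.2 hH)).symm.pow_right k)
  obtain ⟨m, hm⟩ := exists_pow_eq_self_of_coprime hco
  have h3 : t ∈ C := hm ▸ C.pow_mem h1 m
  exact (Subgroup.mem_centralizer_iff.1 h3 x (Subgroup.mem_zpowers x)).symm

end Cfsg.Agent.S4049
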