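import Cfsg.Statements.S4050
import Mathlib
import Cfsg.Agent.Lib.Solvable.Coprime

set_option autoImplicit false
set_option linter.style.haveILetI false

namespace Cfsg.Agent.S4050

open Cfsg.Agent

variable {G : Type*} [Group G]

/-- All primes dividing the order of `x` lie in `π`. -/
def PiEl (π : Set ℕ) (x : G) : Prop := ∀ p : ℕ, p.Prime → p ∣ orderOf x → p ∈ π

variable {π : Set ℕ}

lemma coprime_of_pi {m n : ℕ} (hm : ∀ r : ℕ, r.Prime → r ∣ m → r ∈ π)
    (hn : ∀ r : ℕ, r.Prime → r ∣ n → r ∉ π) : m.Coprime n :=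
  Nat.coprime_of_dvd fun r hr h1 h2 => hn r hr h2 (hm r hr h1)

lemma piEl_conj {x : G} (hx : PiEl π x) (g : G) : PiEl π (g * x * g⁻¹) := by
  intro p hp hd
  exact hx p hp (by rwa [show g * x * g⁻¹ = MulAut.conj g x from rfl, MulEquiv.orderOf_eq] at hd)

lemma mem_of_pow_mem {H : Subgroup G} {x : G} {a b : ℕ} (hab : a.Coprime b) (ha : x ^ a ∈ H)
    (hb : x ^ b ∈ H) : x ∈ H := by
  have h := Nat.gcd_eq_gcd_ab a b
  rw [hab.gcd_eq_one, Nat.cast_one] at h
  have : x = (x ^ a) ^ a.gcdA b * (x ^ b) ^ a.gcdB b := by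
    rw [← zpow_natCast, ← zpow_natCast, ← zpow_mul, ← zpow_mul, ← zpow_add, ← h, zpow_one]
  rw [this]
  exact H.mul_mem (H.zpow_mem ha _) (H.zpow_mem hb _)

variable [Finite G]

lemma le_of_sylow_le {X H : Subgroup G}
    (h : ∀ (p : ℕ) [Fact p.Prime], p ∣ Nat.card X → ∃ P : Sylow p X, (P : Subgroup X).map X.subtype ≤ H) :
    X ≤ H := by
  have hdvd : Nat.card X ∣ Nat.card (X ⊓ H : Subgroup G) := by
    rw [Nat.dvd_iff_prime_pow_dvd_dvd]
    intro p k hp hpk
    rcases Nat.eq_zero_or_pos k with rfl | hk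
    · rw [pow_zero]; exact one_dvd _
    haveI := Fact.mk hp
    obtain ⟨P, hP⟩ := h p ((dvd_pow_self p hk.ne').trans hpk)
    refine (P.pow_dvd_card_of_pow_dvd_card hpk).trans ?_
    rw [← Subgroup.card_map_of_injective X.subtype_injective]
    exact Subgroup.card_dvd_of_le (le_inf (Subgroup.map_subtype_le _) hP)
  have h2 : (X ⊓ H : Subgroup G) = X :=
    Subgroup.eq_of_le_of_card_ge inf_le_left (Nat.le_of_dvd Nat.card_pos hdvd)
  exact inf_eq_left.1 h2

/-- The `π`-elements of a group with a normal `π'`-subgroup centralized by all `p`-elements,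
`p ∈ π`, and with quotient a `π`-group. -/
lemma closed_of_centralized {M N : Subgroup G} (hNM : N ≤ M)
    (hnorm : M ≤ Subgroup.normalizer (N : Set G))
    (hN : ∀ r : ℕ, r.Prime → r ∣ Nat.card N → r ∉ π)
    (hrel : ∀ r : ℕ, r.Prime → r ∣ N.relIndex M → r ∈ π)
    (hcent : ∀ p ∈ π, p.Prime → ∀ x ∈ M, (∃ k, orderOf x = p ^ k) →
      x ∈ Subgroup.centralizer (N : Set G)) :
    ∃ T : Subgroup G, ∀ x, x ∈ T ↔ x ∈ M ∧ PiEl π x := by
  set C := M ⊓ Subgroup.centralizer (N : Set G) with hC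
  have hCel : ∀ x ∈ M, PiEl π x → x ∈ C := by
    intro x hx hxπ
    refine (Subgroup.zpowers_le.1 (le_of_sylow_le (X := Subgroup.zpowers x) (H := C) ?_))
    intro p hp hd
    haveI := hp
    rw [Nat.card_zpowers] at hd
    obtain ⟨P⟩ := (inferInstance : Nonempty (Sylow p (Subgroup.zpowers x)))
    refine ⟨P, ?_⟩
    rintro _ ⟨y, hy, rfl⟩
    obtain ⟨k, hk⟩ := IsPGroup.iff_orderOf.1 P.isPGroup' ⟨y, hy⟩
    have hyM : (y : G) ∈ M := Subgroup.zpowers_le.2 hx y.2
    refine ⟨hyM, hcent p (hxπ p hp.out hd) hp.out _ hyM ⟨k, ?_⟩⟩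
    rw [← hk, Subgroup.orderOf_mk]
    exact orderOf_injective _ Subtype.coe_injective y
  set Z := N.subgroupOf C with hZ
  have hZc : Z ≤ Subgroup.center C := by
    intro z hz
    rw [Subgroup.mem_center_iff]
    intro y
    exact Subtype.ext (Subgroup.mem_centralizer_iff.1 y.2.2 (z : G) hz).symm
  haveI hZn : Z.Normal := ⟨fun z hz g => by
    have h := Subgroup.mem_center_iff.1 (hZc hz) g
    rw [h, mul_inv_cancel_right]; exact hz⟩
  have hZcard : ∀ r : ℕ, r.Prime → r ∣ Nat.card Z → r ∉ π := by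
    intro r hr hd
    refine hN r hr (hd.trans ?_)
    rw [hZ, ← Subgroup.card_map_of_injective C.subtype_injective, Subgroup.subgroupOf_map_subtype]
    exact Subgroup.card_dvd_of_le inf_le_left
  have hidx : ∀ r : ℕ, r.Prime → r ∣ Z.index → r ∈ π := by
    intro r hr hd
    haveI := Fact.mk hr
    by_contra hr'
    rw [Subgroup.index_eq_card] at hd
    obtain ⟨c, hc⟩ := exists_prime_orderOf_dvd_card' r hd
    obtain ⟨c, rfl⟩ := QuotientGroup.mk'_surjective Z c
    have h1 : ((c : G)) ^ r ∈ N := by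
      have : c ^ r ∈ Z := by
        rw [← QuotientGroup.eq_one_iff, QuotientGroup.mk_pow, ← hc]
        exact pow_orderOf_eq_one _
      exact this
    have h2 : ((c : G)) ^ N.relIndex M ∈ N := by
      haveI : (N.subgroupOf M).Normal := Subgroup.normal_subgroupOf_of_le_normalizer hnorm
      exact (N.subgroupOf M).pow_index_mem ⟨c, c.2.1⟩
    have h3 : (c : G) ∈ N := mem_of_pow_mem
      ((hr.coprime_iff_not_dvd).2 fun h => hr' (hrel r hr h)) h1 h2
    have h4 : (QuotientGroup.mk' Z) c = 1 := (QuotientGroup.eq_one_iff c).2 h3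
    rw [h4, orderOf_one] at hc
    exact hr.one_lt.ne hc
  obtain ⟨T₀, hT₀⟩ := Subgroup.exists_right_complement'_of_coprime
    (coprime_of_pi hidx hZcard).symm
  have hTcard : Nat.card T₀ = Z.index := hT₀.symm.index_eq_card.symm
  refine ⟨T₀.map C.subtype, fun x => ⟨?_, ?_⟩⟩
  · rintro ⟨t, ht, rfl⟩
    refine ⟨t.2.1, fun p hp hd => hidx p hp (hd.trans ?_)⟩
    rw [← hTcard]
    show orderOf (t : G) ∣ _
    rw [Subgroup.orderOf_coe]
    exact (Subgroup.orderOf_mk t ht).symm.dvd.trans (orderOf_dvd_natCard (⟨t, ht⟩ : T₀))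
  · rintro ⟨hxM, hxπ⟩
    refine ⟨⟨x, hCel x hxM hxπ⟩, ?_, rfl⟩
    obtain ⟨⟨⟨z, hz⟩, ⟨t, ht⟩⟩, hzt⟩ := hT₀.2 (⟨x, hCel x hxM hxπ⟩ : C)
    have hzt' : z * t = (⟨x, hCel x hxM hxπ⟩ : C) := hzt
    have hcomm : Commute z t := (Subgroup.mem_center_iff.1 (hZc hz) t).symm
    have hn : z ^ (orderOf x * Nat.card T₀) = 1 := by
      have h1 : (z * t) ^ (orderOf x * Nat.card T₀) = 1 := by
        rw [hzt', pow_mul, show (⟨x, hCel x hxM hxπ⟩ : C) ^ orderOf x = 1 from
          Subtype.ext (pow_orderOf_eq_one x), one_pow]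
      have h2 : t ^ (orderOf x * Nat.card T₀) = 1 := by
        rw [mul_comm, pow_mul, show t ^ Nat.card T₀ = 1 from
          congrArg Subtype.val (pow_card_eq_one' (x := (⟨t, ht⟩ : T₀))), one_pow]
      rwa [hcomm.mul_pow, h2, mul_one] at h1
    have hz1 : z = 1 := by
      have hn' : ∀ r : ℕ, r.Prime → r ∣ orderOf x * Nat.card T₀ → r ∈ π := fun r hr h =>
        (hr.dvd_mul.1 h).elim (hxπ r hr) fun h' => hidx r hr (hTcard ▸ h')
      refine Subgroup.mem_bot.1 (mem_of_pow_mem (H := (⊥ : Subgroup C))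
        (coprime_of_pi hn' hZcard) (by rw [Subgroup.mem_bot, hn]) ?_)
      rw [Subgroup.mem_bot]
      exact congrArg Subtype.val (pow_card_eq_one' (x := (⟨z, hz⟩ : Z)))
    rw [hz1, one_mul] at hzt'
    rw [← hzt']
    exact ht

variable {p : ℕ} {Γ : Type*} [Group Γ] [Finite Γ]

lemma mul_pow_mem {R : Subgroup Γ} {r x : Γ} (hr : r ∈ R)
    (hx : x ∈ Subgroup.normalizer (R : Set Γ)) : ∀ m : ℕ, ∃ r' ∈ R, (r * x) ^ m = r' * x ^ m := by
  intro m
  induction m with
  | zero => exact ⟨1, R.one_mem, by simp⟩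
  | succ m ih =>
    obtain ⟨r', hr', h⟩ := ih
    refine ⟨r' * (x ^ m * r * (x ^ m)⁻¹), R.mul_mem hr'
      ((Subgroup.mem_normalizer_iff.1 (pow_mem hx m) r).1 hr), ?_⟩
    rw [pow_succ, h, pow_succ]
    group

/-- A `p`-element normalizing the image of a `q`-group centralizes it. -/
lemma centralizes_image (hyp : ∀ H : Subgroup G, H ≠ ⊥ →
      (∀ r : ℕ, r.Prime → r ∣ Nat.card H → r ∉ π) → ∀ r : ℕ, r.Prime →
      r ∣ (Subgroup.centralizer (H : Set G)).relIndex (Subgroup.normalizer (H : Set G)) → r ∉ π)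
    (f : G →* Γ) (hf : Function.Surjective f) {q : ℕ} (hp : p.Prime) (hq : q.Prime) (hpπ : p ∈ π)
    (hqπ : q ∉ π) {R : Subgroup Γ} (hR : IsPGroup q R) {x : Γ} (hx : ∃ k, orderOf x = p ^ k)
    (hxR : x ∈ Subgroup.normalizer (R : Set Γ)) : x ∈ Subgroup.centralizer (R : Set Γ) := by
  haveI := Fact.mk hq
  obtain ⟨x₀, rfl⟩ := hf x
  set Y := R.comap f with hY
  obtain ⟨Q⟩ := (inferInstance : Nonempty (Sylow q Y))
  set Q' := (Q : Subgroup Y).map Y.subtype with hQ'
  have hQR : Q'.map f = R := by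
    have hsurj : Function.Surjective (f.subgroupComap R) :=
      f.subgroupComap_surjective_of_surjective R hf
    have h1 := Q.mapSurjective hsurj
    have htop : ((Q.mapSurjective hsurj : Sylow q R) : Subgroup R) = ⊤ :=
      ((Q.mapSurjective hsurj).is_maximal' (hR.of_equiv Subgroup.topEquiv.symm) le_top).symm
    refine le_antisymm ?_ fun r hr => ?_
    · rintro _ ⟨_, ⟨y, _, rfl⟩, rfl⟩
      exact y.2
    · have : (⟨r, hr⟩ : R) ∈ ((Q.mapSurjective hsurj : Sylow q R) : Subgroup R) := by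
        rw [htop]; exact Subgroup.mem_top _
      obtain ⟨y, hy, hyr⟩ := this
      exact ⟨(y : G), ⟨y, hy, rfl⟩, congrArg Subtype.val hyr⟩
  by_cases hQb : Q' = ⊥
  · rw [← hQR, hQb, Subgroup.map_bot]
    intro r hr
    rw [SetLike.mem_coe, Subgroup.mem_bot] at hr
    rw [hr, one_mul, mul_one]
  obtain ⟨m₀, hm₀⟩ := IsPGroup.iff_card.1 (Q.isPGroup'.map Y.subtype)
  have hm : ∀ r : ℕ, r.Prime →
      r ∣ (Subgroup.centralizer (Q' : Set G)).relIndex (Subgroup.normalizer (Q' : Set G)) → r ∉ π :=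
    hyp Q' hQb fun r hr hd => by
      have : r = q := (Nat.prime_dvd_prime_iff_eq hr hq).1 (hr.dvd_of_dvd_pow (hm₀ ▸ hd))
      rwa [this]
  set m := (Subgroup.centralizer (Q' : Set G)).relIndex (Subgroup.normalizer (Q' : Set G))
  have hxY : x₀ ∈ Subgroup.normalizer (Y : Set G) := by
    rw [Subgroup.mem_normalizer_iff]
    intro y
    rw [hY, Subgroup.mem_comap, Subgroup.mem_comap, map_mul, map_mul, map_inv]
    exact Subgroup.mem_normalizer_iff.1 hxR (f y)
  obtain ⟨y, hy, hn⟩ : ∃ y ∈ Y, y⁻¹ * x₀ ∈ Subgroup.normalizer (Q' : Set G) := by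
    have hle : Q'.map (MulAut.conj x₀).toMonoidHom ≤ Y := by
      rintro _ ⟨_, ⟨w, _, rfl⟩, rfl⟩
      exact (Subgroup.mem_normalizer_iff.1 hxY (w : G)).1 w.2
    obtain ⟨Q₂, hQ₂⟩ := ((Q.isPGroup'.map Y.subtype).map
      (MulAut.conj x₀).toMonoidHom).comap_subtype (K := Y) |>.exists_le_sylow
    obtain ⟨u, hu⟩ := MulAction.exists_smul_eq Y Q₂ Q
    refine ⟨(u : G)⁻¹, Y.inv_mem u.2, ?_⟩
    rw [inv_inv, Subgroup.mem_normalizer_iff]
    have key : ∀ z ∈ Q', (u : G) * x₀ * z * ((u : G) * x₀)⁻¹ ∈ Q' := by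
      intro z hz
      have hzY : x₀ * z * x₀⁻¹ ∈ Q'.map (MulAut.conj x₀).toMonoidHom := ⟨z, hz, rfl⟩
      have h2 : (⟨x₀ * z * x₀⁻¹, hle hzY⟩ : Y) ∈ (Q₂ : Subgroup Y) := hQ₂ hzY
      have h3 : u * ⟨x₀ * z * x₀⁻¹, hle hzY⟩ * u⁻¹ ∈ ((u • Q₂ : Sylow q Y) : Subgroup Y) :=
        ⟨_, h2, rfl⟩
      rw [hu] at h3
      refine ⟨_, h3, ?_⟩
      show (u : G) * (x₀ * z * x₀⁻¹) * (u : G)⁻¹ = _
      group
    have heq : Q'.map (MulAut.conj ((u : G) * x₀)).toMonoidHom = Q' :=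
      Subgroup.eq_of_le_of_card_ge (by rintro _ ⟨z, hz, rfl⟩; exact key z hz)
        (Subgroup.card_map_of_injective (f := (MulAut.conj ((u : G) * x₀)).toMonoidHom)
          (MulAut.conj _).injective).ge
    generalize (u : G) * x₀ = g at heq ⊢
    intro z
    conv_rhs => rw [← heq]
    rw [Subgroup.mem_map_equiv]
    simp [mul_assoc]
  haveI : ((Subgroup.centralizer (Q' : Set G)).subgroupOf
      (Subgroup.normalizer (Q' : Set G))).Normal := Q'.normalizerMonoidHom_ker ▸ inferInstance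
  have hnm : (y⁻¹ * x₀) ^ m ∈ Subgroup.centralizer (Q' : Set G) :=
    ((Subgroup.centralizer (Q' : Set G)).subgroupOf
      (Subgroup.normalizer (Q' : Set G))).pow_index_mem ⟨_, hn⟩
  have hfm : (f y⁻¹ * f x₀) ^ m ∈ Subgroup.centralizer (R : Set Γ) := by
    rw [← map_mul, ← map_pow, ← hQR, Subgroup.mem_centralizer_iff]
    rintro _ ⟨w, hw, rfl⟩
    rw [← map_mul, ← map_mul, Subgroup.mem_centralizer_iff.1 hnm w hw]
  obtain ⟨r', hr', hr'e⟩ := mul_pow_mem (R := R) (r := f y⁻¹)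
    (by rw [map_inv]; exact R.inv_mem hy) hxR m
  rw [hr'e] at hfm
  set c := r' * f x₀ ^ m with hc
  have hcomm : Commute r'⁻¹ c := Subgroup.mem_centralizer_iff.1 hfm r'⁻¹ (R.inv_mem hr')
  have hxm : f x₀ ^ m = r'⁻¹ * c := by rw [hc]; group
  have hpow : f x₀ ^ (m * Nat.card R) ∈ Subgroup.centralizer (R : Set Γ) := by
    rw [pow_mul, hxm, hcomm.mul_pow, inv_pow,
      show r' ^ Nat.card R = 1 from congrArg Subtype.val (pow_card_eq_one' (x := (⟨r', hr'⟩ : R))),
      inv_one, one_mul]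
    exact pow_mem hfm _
  obtain ⟨k, hk⟩ := hx
  have hcop : (m * Nat.card R).Coprime (orderOf (f x₀)) := by
    rw [hk]
    refine Nat.Coprime.pow_right _ (Nat.Coprime.mul_left ?_ ?_)
    · exact (hp.coprime_iff_not_dvd.2 fun h => hm p hp h hpπ).symm
    · obtain ⟨j, hj⟩ := IsPGroup.iff_card.1 hR
      rw [hj]
      exact ((Nat.coprime_primes hq hp).2 fun h => hqπ (h ▸ hpπ)).pow_left _
  obtain ⟨j, hj⟩ := exists_pow_eq_self_of_coprime hcop
  rw [← hj]
  exact pow_mem hpow j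

/-- One step of a `π`-separable chain. -/
lemma step (hyp : ∀ H : Subgroup G, H ≠ ⊥ →
      (∀ r : ℕ, r.Prime → r ∣ Nat.card H → r ∉ π) → ∀ r : ℕ, r.Prime →
      r ∣ (Subgroup.centralizer (H : Set G)).relIndex (Subgroup.normalizer (H : Set G)) → r ∉ π)
    {N M : Subgroup G} (hN : N.Normal) (hM : M.Normal) (hNM : N ≤ M)
    (hrel : (∀ r : ℕ, r.Prime → r ∣ N.relIndex M → r ∈ π) ∨
      ∀ r : ℕ, r.Prime → r ∣ N.relIndex M → r ∉ π)
    (hK : ∃ K : Subgroup G, ∀ x, x ∈ K ↔ x ∈ N ∧ PiEl π x) :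
    ∃ K : Subgroup G, ∀ x, x ∈ K ↔ x ∈ M ∧ PiEl π x := by
  obtain ⟨K, hK⟩ := hK
  rcases hrel with hrel | hrel
  swap
  · refine ⟨K, fun x => ⟨fun h => ⟨hNM ((hK x).1 h).1, ((hK x).1 h).2⟩, fun h => (hK x).2 ⟨?_, h.2⟩⟩⟩
    haveI : (N.subgroupOf M).Normal := hN.subgroupOf M
    exact mem_of_pow_mem (coprime_of_pi h.2 hrel)
      (by rw [pow_orderOf_eq_one]; exact N.one_mem)
      ((N.subgroupOf M).pow_index_mem ⟨x, h.1⟩)
  haveI hKn : K.Normal := ⟨fun n hn g =>
    (hK _).2 ⟨hN.conj_mem n ((hK n).1 hn).1 g, piEl_conj ((hK n).1 hn).2 g⟩⟩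
  have hKN : K ≤ N := fun x hx => ((hK x).1 hx).1
  have hKπ : ∀ r : ℕ, r.Prime → r ∣ Nat.card K → r ∈ π := by
    intro r hr hd
    haveI := Fact.mk hr
    obtain ⟨k, hk⟩ := exists_prime_orderOf_dvd_card' r hd
    exact ((hK _).1 k.2).2 r hr (by rw [Subgroup.orderOf_coe, hk])
  set f := QuotientGroup.mk' K with hf
  have hfs := QuotientGroup.mk'_surjective K
  have hker : f.ker = K := QuotientGroup.ker_mk' K
  have hmem : ∀ (X : Subgroup G), K ≤ X → ∀ x, f x ∈ X.map f ↔ x ∈ X := by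
    intro X hX x
    rw [← Subgroup.mem_comap, Subgroup.comap_map_eq, hker, sup_eq_left.2 hX]
  have hNbar : ∀ r : ℕ, r.Prime → r ∣ Nat.card (N.map f) → r ∉ π := by
    intro r hr hd hrπ
    haveI := Fact.mk hr
    obtain ⟨P⟩ := (inferInstance : Nonempty (Sylow r N))
    have hdvd := (P.mapSurjective (f.subgroupMap_surjective N)).dvd_card_of_dvd_card hd
    have hbot : ((P.mapSurjective (f.subgroupMap_surjective N) : Sylow r (N.map f)) :
        Subgroup (N.map f)) = ⊥ := by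
      rw [eq_bot_iff]
      rintro _ ⟨n, hn, rfl⟩
      rw [Subgroup.mem_bot]
      obtain ⟨k, hk⟩ := IsPGroup.iff_orderOf.1 P.isPGroup' ⟨n, hn⟩
      have : (n : G) ∈ K := (hK _).2 ⟨n.2, fun s hs hsd => by
        have h1 : orderOf (n : G) = r ^ k := by
          rw [← hk, Subgroup.orderOf_coe, ← Subgroup.orderOf_mk n hn]
        rw [h1] at hsd
        rwa [(Nat.prime_dvd_prime_iff_eq hs hr).1 (hs.dvd_of_dvd_pow hsd)]⟩
      exact Subtype.ext ((QuotientGroup.eq_one_iff _).2 this)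
    rw [hbot, Subgroup.card_bot] at hdvd
    exact hr.not_dvd_one hdvd
  haveI hNbn : (N.map f).Normal := hN.map f hfs
  have hcentp : ∀ p ∈ π, p.Prime → ∀ x ∈ M.map f, (∃ k, orderOf x = p ^ k) →
      x ∈ Subgroup.centralizer ((N.map f : Subgroup (G ⧸ K)) : Set (G ⧸ K)) := by
    intro p hpπ hp x _ hxk
    set A := Subgroup.zpowers x
    have hcop : (Nat.card A).Coprime (Nat.card (N.map f)) := by
      obtain ⟨k, hk⟩ := hxk
      rw [Nat.card_zpowers, hk]
      exact Nat.Coprime.pow_left _ (hp.coprime_iff_not_dvd.2 fun h => hNbar p hp h hpπ)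
    have hAN : A ≤ Subgroup.normalizer ((N.map f : Subgroup (G ⧸ K)) : Set (G ⧸ K)) :=
      Subgroup.le_normalizer_of_normal
    have hle : N.map f ≤ Subgroup.centralizer ({x} : Set (G ⧸ K)) := by
      refine le_of_sylow_le fun q hq hqd => ?_
      haveI := hq
      obtain ⟨R, hR⟩ := CoprimeAct.exists_invariant_sylow hAN hcop
        (Or.inl (Group.isSolvable_of_comm fun a b => mul_comm' a b)) q
      refine ⟨R, fun r hr => Subgroup.mem_centralizer_singleton_iff.2 ?_⟩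
      exact Subgroup.mem_centralizer_iff.1 (centralizes_image hyp f hfs hp hq.out hpπ
        (hNbar q hq.out hqd) (R.isPGroup'.map _) hxk (hR (Subgroup.mem_zpowers x))) r hr
    rw [Subgroup.mem_centralizer_iff]
    exact fun n hn => Subgroup.mem_centralizer_singleton_iff.1 (hle hn)
  have hrel' : ∀ r : ℕ, r.Prime → r ∣ (N.map f).relIndex (M.map f) → r ∈ π := fun r hr hd =>
    hrel r hr (hd.trans (by
      rw [Subgroup.relIndex_map_map, hker, sup_eq_left.2 hKN, sup_eq_left.2 (hKN.trans hNM)]))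
  obtain ⟨T, hT⟩ := closed_of_centralized (π := π) (Subgroup.map_mono hNM)
    Subgroup.le_normalizer_of_normal hNbar hrel' hcentp
  refine ⟨T.comap f, fun x => ?_⟩
  rw [Subgroup.mem_comap, hT, hmem M (hKN.trans hNM)]
  refine and_congr_right fun _ => ⟨fun h r hr hd => ?_, fun h r hr hd => h r hr (hd.trans (orderOf_map_dvd f x))⟩
  have hxo : x ^ orderOf (f x) ∈ K := by
    refine (QuotientGroup.eq_one_iff _).1 ?_
    rw [QuotientGroup.mk_pow]
    exact pow_orderOf_eq_one _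
  have hdvd : orderOf x ∣ orderOf (f x) * Nat.card K := by
    rw [orderOf_dvd_iff_pow_eq_one, pow_mul]
    exact congrArg Subtype.val (pow_card_eq_one' (x := (⟨_, hxo⟩ : K)))
  exact (hr.dvd_mul.1 (hd.trans hdvd)).elim (h r hr) (hKπ r hr)

end Cfsg.Agent.S4050


set_option autoImplicit false
open Cfsg

namespace Cfsg.Agent.S4050

/-- Let π be a set of primes and G a finite group. The π-elements of G (elements whose order is divisible only by primes of π) form a subgroup if and only if G is π-separable (it has a chain of normal subgroups from 1 to G with each successive index divisible only by primes in π or only by primes outside π) and N_G(H)/C_G(H) is a π'-group for every nontrivial π'-subgroup H of G. -/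
theorem result {G : Type*} [Group G] [Finite G] (π : Set ℕ)
    (hπ : ∀ p ∈ π, p.Prime) :
    (∃ K : Subgroup G, ∀ x : G, x ∈ K ↔ ∀ p : ℕ, p.Prime → p ∣ orderOf x → p ∈ π) ↔
    ((∃ (n : ℕ) (H : Fin (n + 1) → Subgroup G), H 0 = ⊥ ∧ H (Fin.last n) = ⊤ ∧ Monotone H ∧ (∀ i, (H i).Normal) ∧
      ∀ i : Fin n, (∀ q : ℕ, q.Prime → q ∣ (H i.castSucc).relIndex (H i.succ) → q ∈ π) ∨
        (∀ q : ℕ, q.Prime → q ∣ (H i.castSucc).relIndex (H i.succ) → q ∉ π)) ∧
     (∀ H : Subgroup G, H ≠ ⊥ → (∀ p : ℕ, p.Prime → p ∣ Nat.card ↥H → p ∉ π) →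
        ∀ p : ℕ, p.Prime → p ∣ (Subgroup.centralizer (H : Set G)).relIndex (Subgroup.normalizer (H : Set G)) → p ∉ π)) := by
  constructor
  · rintro ⟨K, hK⟩
    have hKn : K.Normal := ⟨fun n hn g => (hK _).2 (S4050.piEl_conj ((hK n).1 hn) g)⟩
    have hKπ : ∀ r : ℕ, r.Prime → r ∣ Nat.card K → r ∈ π := by
      intro r hr hd
      haveI := Fact.mk hr
      obtain ⟨k, hk⟩ := exists_prime_orderOf_dvd_card' r hd
      exact (hK _).1 k.2 r hr (by rw [Subgroup.orderOf_coe, hk])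
    have hidx : ∀ r : ℕ, r.Prime → r ∣ K.index → r ∉ π := by
      intro r hr hd hrπ
      haveI := Fact.mk hr
      obtain ⟨P⟩ := (inferInstance : Nonempty (Sylow r G))
      refine P.not_dvd_index (hd.trans (Subgroup.index_dvd_of_le fun x hx => (hK x).2 fun s hs hsd => ?_))
      obtain ⟨k, hk⟩ := IsPGroup.iff_orderOf.1 P.isPGroup' ⟨x, hx⟩
      rw [Subgroup.orderOf_mk] at hk
      rw [hk] at hsd
      rwa [(Nat.prime_dvd_prime_iff_eq hs hr).1 (hs.dvd_of_dvd_pow hsd)]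
    refine ⟨⟨2, ![⊥, K, ⊤], rfl, rfl, ?_, ?_, ?_⟩, ?_⟩
    · refine Fin.monotone_iff_le_succ.2 fun i => ?_
      fin_cases i
      · exact bot_le
      · exact le_top
    · intro i
      fin_cases i
      · exact Subgroup.normal_bot
      · exact hKn
      · exact Subgroup.normal_top
    · intro i
      fin_cases i
      · left
        intro q hq hd
        exact hKπ q hq (by simpa [Subgroup.relIndex_bot_left] using hd)
      · right
        intro q hq hd
        exact hidx q hq (by simpa [Subgroup.relIndex_top_right] using hd)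
    · intro H _ hH p hp hd hpπ
      haveI := Fact.mk hp
      obtain ⟨P⟩ := (inferInstance : Nonempty (Sylow p (Subgroup.normalizer (H : Set G))))
      refine P.not_dvd_index (hd.trans (Subgroup.index_dvd_of_le fun x hx => ?_))
      obtain ⟨k, hk⟩ := IsPGroup.iff_orderOf.1 P.isPGroup' ⟨x, hx⟩
      rw [Subgroup.orderOf_mk, ← Subgroup.orderOf_coe] at hk
      have hxK : (x : G) ∈ K := (hK _).2 fun s hs hsd => by
        rw [hk] at hsd
        rwa [(Nat.prime_dvd_prime_iff_eq hs hp).1 (hs.dvd_of_dvd_pow hsd)]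
      rw [Subgroup.mem_subgroupOf, Subgroup.mem_centralizer_iff]
      intro h hh
      have hbot : K ⊓ H = ⊥ :=
        disjoint_iff.1 (Subgroup.disjoint_of_coprime_natCard (S4050.coprime_of_pi hKπ hH))
      have h1 : h * (x : G) * h⁻¹ * (x : G)⁻¹ ∈ K ⊓ H :=
        ⟨K.mul_mem (hKn.conj_mem _ hxK h) (K.inv_mem hxK), by
          rw [show h * (x : G) * h⁻¹ * (x : G)⁻¹ = h * ((x : G) * h⁻¹ * (x : G)⁻¹) by group]
          exact H.mul_mem hh ((Subgroup.mem_normalizer_iff.1 x.2 _).1 (H.inv_mem hh))⟩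
      rw [hbot, Subgroup.mem_bot, mul_inv_eq_one, mul_inv_eq_iff_eq_mul] at h1
      exact h1
  · rintro ⟨⟨n, H, h0, hlast, hmono, hnorm, hstep⟩, hyp⟩
    have key : ∀ i : Fin (n + 1), ∃ K : Subgroup G, ∀ x, x ∈ K ↔ x ∈ H i ∧ S4050.PiEl π x := by
      intro i
      induction i using Fin.induction with
      | zero =>
        refine ⟨⊥, fun x => ?_⟩
        rw [h0, Subgroup.mem_bot]
        refine ⟨fun h => ⟨h, fun p hp hd => ?_⟩, fun h => h.1⟩
        rw [h, orderOf_one, Nat.dvd_one] at hd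
        exact absurd hd hp.ne_one
      | succ i ih =>
        exact S4050.step hyp (hnorm _) (hnorm _) (hmono (Fin.castSucc_lt_succ (i := i)).le) (hstep i) ih
    obtain ⟨K, hK⟩ := key (Fin.last n)
    refine ⟨K, fun x => ?_⟩
    rw [hK, hlast]
    exact ⟨fun h => h.2, fun h => ⟨Subgroup.mem_top x, h⟩⟩

end Cfsg.Agent.S4050
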