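import Cfsg.Statements.S4052
import Cfsg.Agent.S0877
import Cfsg.Agent.Lib.PiHom.Fusion
-- import your own Cfsg.Agent.* helpers here

set_option autoImplicit false
open Cfsg

namespace Cfsg.Agent.S4052

/-- Let π be a set of primes and G a finite group whose maximal π-subgroups are pairwise conjugate (so Hall π-subgroups exist, any two are conjugate, and every π-subgroup lies in one of them), and suppose N_G(H)/C_G(H) is a π-group for every nontrivial π-subgroup H. If either 3 does not divide the order of G, or the π'-elements of every proper subgroup of G form a subgroup, then the π'-elements of G form a subgroup. -/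
theorem result {G : Type*} [Group G] [Finite G] (π : Set ℕ)
    (hπ : ∀ p ∈ π, p.Prime) (hD : Cfsg.IsDPiGroup π G) (hhom : (∀ H : Subgroup G, H ≠ ⊥ → (∀ p : ℕ, p.Prime → p ∣ Nat.card ↥H → p ∈ π) →
        ∀ p : ℕ, p.Prime → p ∣ (Subgroup.centralizer (H : Set G)).relIndex (Subgroup.normalizer (H : Set G)) → p ∈ π))
    (hcase : ¬ 3 ∣ Nat.card G ∨ ∀ M : Subgroup G, M ≠ ⊤ →
      ∃ L : Subgroup ↥M, ∀ x : ↥M, x ∈ L ↔ ∀ p : ℕ, p.Prime → p ∣ orderOf x → p ∉ π) :
    (∃ K : Subgroup G, ∀ x : G, x ∈ K ↔ ∀ p : ℕ, p.Prime → p ∣ orderOf x → p ∉ π) := by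
  classical
  have hbot : Cfsg.IsPiSubgroup π (⊥ : Subgroup G) := fun p hp hd => by
    rw [Subgroup.card_bot] at hd
    exact absurd (Nat.dvd_one.mp hd) hp.ne_one
  obtain ⟨H, -, hH⟩ := exists_maximal_ge_of_wellFoundedGT (Cfsg.IsPiSubgroup π) (⊥ : Subgroup G) hbot
  have hS : Cfsg.Agent.PiHom.Setup π H := by
    refine ⟨hH.prop, fun L hL => ?_, fun U hU0 hU n hn => ?_⟩
    · obtain ⟨M, hLM, hM⟩ := exists_maximal_ge_of_wellFoundedGT (Cfsg.IsPiSubgroup π) L hL
      obtain ⟨g, hg⟩ := hD H M hH hM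
      refine ⟨g⁻¹, fun l hl => ?_⟩
      obtain ⟨h, hh, e⟩ := hg ▸ hLM hl
      rw [← e]
      simpa [mul_assoc] using hh
    · refine ⟨(Subgroup.centralizer (U : Set G)).relIndex (Subgroup.normalizer (U : Set G)),
        ⟨Nat.pos_of_ne_zero Subgroup.index_ne_zero_of_finite, hhom U hU0 hU⟩, ?_⟩
      haveI : ((Subgroup.centralizer (U : Set G)).subgroupOf
          (Subgroup.normalizer (U : Set G))).Normal := by
        refine ⟨fun c hc m => ?_⟩
        rw [Subgroup.mem_subgroupOf, Subgroup.mem_centralizer_iff] at hc ⊢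
        intro u hu
        have h1 := hc _ ((Subgroup.mem_normalizer_iff.mp (inv_mem m.2) u).mp hu)
        simp only [inv_inv] at h1
        push_cast
        calc u * ((m : G) * c * (m : G)⁻¹) = (m : G) * (((m : G)⁻¹ * u * m) * c) * (m : G)⁻¹ := by
              group
          _ = (m : G) * c * (m : G)⁻¹ * u := by rw [h1]; group
      have h2 := Subgroup.pow_index_mem ((Subgroup.centralizer (U : Set G)).subgroupOf
        (Subgroup.normalizer (U : Set G))) ⟨n, hn⟩
      rw [Subgroup.mem_subgroupOf] at h2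
      exact h2
  obtain ⟨K, hKn, hKtop, hKbot⟩ := Cfsg.Agent.S0877.result H (Cfsg.Agent.PiHom.coprime_index hS)
    (fun x hx y hy hxy => Cfsg.Agent.PiHom.fus_elem hS _ x y rfl hx hy hxy) (fun E p hp _ hd => by
      obtain ⟨y, hy⟩ := hS.into E (fun q hq hqd => hS.piH q hq (hqd.trans hd))
      exact ⟨y, by rintro _ ⟨e, he, rfl⟩; exact hy e he⟩)
  haveI := hKn
  have hidx : K.index = Nat.card H := by
    rw [← Subgroup.relIndex_top_right, ← hKtop, sup_comm, Subgroup.relIndex_sup_right,
      ← Subgroup.inf_relIndex_right, hKbot, Subgroup.relIndex_bot_left]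
  have hKcard : Nat.card K = H.index := by
    have h1 := Subgroup.card_mul_index K
    have h2 := Subgroup.card_mul_index H
    rw [hidx] at h1
    exact mul_right_cancel₀ Nat.card_pos.ne' (h1.trans (h2.symm.trans (mul_comm _ _)))
  refine ⟨K, fun x => ⟨fun hx p hp hd hpπ => ?_, fun hx => ?_⟩⟩
  · have h1 : p ∣ H.index := hKcard ▸ hd.trans (Subgroup.orderOf_dvd_natCard K hx)
    have := Fact.mk hp
    obtain ⟨P, hP⟩ := Cfsg.Agent.PiHom.exists_sylow_le hS (p := p) hpπ
    exact P.not_dvd_index (h1.trans (Subgroup.index_dvd_of_le hP))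
  · have h1 : x ^ K.index ∈ K := Subgroup.pow_index_mem K x
    have hco : Nat.Coprime (orderOf x) K.index := by
      refine Nat.coprime_of_dvd' fun p hp hd hi => ?_
      exact absurd (hS.piH p hp (hidx ▸ hi)) (hx p hp hd)
    obtain ⟨m, hm⟩ := exists_pow_eq_self_of_coprime hco.symm
    exact hm ▸ pow_mem h1 m

end Cfsg.Agent.S4052
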