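import Cfsg.Statements.S4056
import Mathlib.GroupTheory.Frattini
import Mathlib.GroupTheory.Nilpotent

set_option autoImplicit false
set_option linter.style.haveILetI false

set_option autoImplicit false
open Cfsg

namespace Cfsg.Agent.S4056

open scoped commutatorElement

/-- In a finite 2-group of nilpotency class at most 2 and exponent dividing 4, the Frattini subgroup lies in the centre and is elementary abelian. -/
theorem result {P : Type*} [Group P] [Finite P] (hP : IsPGroup 2 P)
    (hcl : Group.nilpotencyClass P ≤ 2) (hexp : Monoid.exponent P ∣ 4) :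
    frattini P ≤ Subgroup.center P ∧ Cfsg.IsElementaryAbelian 2 (frattini P) := by
  haveI : Fact (Nat.Prime 2) := ⟨Nat.prime_two⟩
  haveI : Group.IsNilpotent P := hP.isNilpotent
  have hL := Subgroup.lowerCentralSeries_eq_bot_iff_nilpotencyClass_le.2 hcl
  have hcen : ∀ a b : P, ∀ y : P, y * ⁅a, b⁆ = ⁅a, b⁆ * y := by
    intro a b y
    rw [Subgroup.lowerCentralSeries_succ, Subgroup.commutator_eq_bot_iff_le_centralizer] at hL
    have h1 : ⁅a, b⁆ ∈ (⊤ : Subgroup P).lowerCentralSeries 1 := by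
      rw [Subgroup.lowerCentralSeries_succ, Subgroup.lowerCentralSeries_zero]
      exact Subgroup.commutator_mem_commutator (Subgroup.mem_top a) (Subgroup.mem_top b)
    exact Subgroup.mem_centralizer_iff.1 (hL h1) y (Subgroup.mem_top y)
  have h4 : ∀ a : P, a ^ 4 = 1 := fun a =>
    orderOf_dvd_iff_pow_eq_one.1 ((Monoid.order_dvd_exponent a).trans hexp)
  have hsq : ∀ x y : P, Commute (x ^ 2) y := by
    intro x y
    obtain ⟨c, hcdef⟩ : ∃ c, ⁅y, x⁆ = c := ⟨_, rfl⟩
    have hc : ∀ w : P, w * c = c * w := fun w => hcdef ▸ hcen y x w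
    have hyx : y * x = c * (x * y) := by rw [← hcdef, commutatorElement_def]; group
    have hyx2 : ∀ n : ℕ, y * x ^ n = c ^ n * (x ^ n * y) := by
      intro n
      induction n with
      | zero => simp
      | succ n ih =>
        calc y * x ^ (n + 1) = c ^ n * (x ^ n * (y * x)) := by
              rw [pow_succ, ← mul_assoc y, ih]; group
          _ = c ^ n * (x ^ n * (c * (x * y))) := by rw [hyx]
          _ = c ^ n * (c * (x ^ n * (x * y))) := by rw [← mul_assoc (x ^ n) c, hc, mul_assoc c]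
          _ = c ^ (n + 1) * (x ^ (n + 1) * y) := by rw [pow_succ c, pow_succ x]; group
    have hxy2 : ∀ n : ℕ, y ^ n * x ^ 2 = c ^ (2 * n) * (x ^ 2 * y ^ n) := by
      intro n
      induction n with
      | zero => simp
      | succ n ih =>
        have hc2 : Commute (c ^ (2 * n)) y := (Commute.pow_right (hc y) (2 * n)).symm
        calc y ^ (n + 1) * x ^ 2 = y * (y ^ n * x ^ 2) := by rw [pow_succ', mul_assoc]
          _ = y * c ^ (2 * n) * x ^ 2 * y ^ n := by rw [ih]; group
          _ = c ^ (2 * n) * (y * x ^ 2) * y ^ n := by rw [← hc2.eq]; group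
          _ = c ^ (2 * n) * (c ^ 2 * (x ^ 2 * y)) * y ^ n := by rw [hyx2 2]
          _ = c ^ (2 * (n + 1)) * (x ^ 2 * y ^ (n + 1)) := by
            rw [mul_add 2 n 1, mul_one, pow_add, pow_succ' y n]; group
    have hcomm : Commute (x ^ 2) (y ^ 2) := by
      show x ^ 2 * y ^ 2 = y ^ 2 * x ^ 2
      rw [hxy2 2, show c ^ (2 * 2) = 1 from h4 c, one_mul]
    have hmul : (x * y) ^ 2 = c * (x ^ 2 * y ^ 2) := by
      calc (x * y) ^ 2 = x * (y * x) * y := by rw [sq]; group
        _ = x * (c * (x * y)) * y := by rw [hyx]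
        _ = c * (x ^ 2 * y ^ 2) := by rw [← mul_assoc x c, hc, sq, sq]; group
    have hc2 : c ^ 2 = 1 := by
      have h := h4 (x * y)
      rw [show (4 : ℕ) = 2 * 2 from rfl, pow_mul, hmul,
        (show Commute c (x ^ 2 * y ^ 2) from (hc _).symm).mul_pow, hcomm.mul_pow,
        ← pow_mul, ← pow_mul, h4, h4, mul_one, mul_one] at h
      exact h
    show x ^ 2 * y = y * x ^ 2
    rw [hyx2 2, hc2, one_mul]
  set K := Subgroup.closure (Set.range fun x : P => x ^ 2) with hK
  have hKc : K ≤ Subgroup.center P := by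
    rw [hK, Subgroup.closure_le]
    rintro _ ⟨x, rfl⟩
    exact Subgroup.mem_center_iff.2 fun y => (hsq x y).eq.symm
  -- maximal subgroups separate points outside `K`
  have hΦ : frattini P ≤ K := by
    intro x hx
    by_contra hxK
    obtain ⟨M, hKM, hM⟩ := Finite.exists_le_maximal
      (p := fun M : Subgroup P => x ∉ M) (a := K) hxK
    have hMn : M.Normal := by
      have hcomm : ∀ a b : P, ⁅a, b⁆ ∈ K := fun a b => by
        have e : ⁅a, b⁆ = a ^ 2 * (a⁻¹ * b) ^ 2 * (b⁻¹) ^ 2 := by rw [commutatorElement_def, sq, sq, sq]; group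
        rw [e]
        exact K.mul_mem (K.mul_mem (Subgroup.subset_closure ⟨a, rfl⟩)
          (Subgroup.subset_closure ⟨_, rfl⟩)) (Subgroup.subset_closure ⟨_, rfl⟩)
      refine ⟨fun m hm g => ?_⟩
      rw [show g * m * g⁻¹ = ⁅g, m⁆ * m by rw [commutatorElement_def]; group]
      exact M.mul_mem (hKM (hcomm g m)) hm
    have hco : IsCoatom M := by
      refine ⟨fun h => hM.1 (h ▸ Subgroup.mem_top x), fun L hL => ?_⟩
      obtain ⟨y, hyL, hyM⟩ := SetLike.exists_of_lt hL
      have hxy : x ∈ M ⊔ Subgroup.zpowers y := by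
        by_contra hnot
        exact hyM (hM.2 hnot le_sup_left (Subgroup.mem_sup_right (Subgroup.mem_zpowers y)))
      have hxL : x ∈ L := (sup_le hL.le (Subgroup.zpowers_le.2 hyL)) hxy
      rw [eq_top_iff]
      intro w _
      by_cases hwM : w ∈ M
      · exact hL.le hwM
      · have hxw : x ∈ M ⊔ Subgroup.zpowers w := by
          by_contra hnot
          exact hwM (hM.2 hnot le_sup_left (Subgroup.mem_sup_right (Subgroup.mem_zpowers w)))
        obtain ⟨m, hm, z, hz, hmz⟩ := Subgroup.mem_sup_of_normal_left.1 hxw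
        obtain ⟨i, rfl⟩ := Subgroup.mem_zpowers_iff.1 hz
        have hw2 : w ^ (2 : ℤ) ∈ M := by
          rw [show w ^ (2 : ℤ) = w ^ 2 from zpow_natCast w 2]; exact hKM (Subgroup.subset_closure ⟨w, rfl⟩)
        rcases Int.even_or_odd' i with ⟨j, rfl | rfl⟩
        · refine absurd ?_ hM.1
          rw [← hmz, zpow_mul]
          exact M.mul_mem hm (M.zpow_mem hw2 j)
        · have e : w = ((w ^ (2 : ℤ)) ^ j)⁻¹ * (m⁻¹ * x) := by rw [← hmz, ← zpow_mul]; group
          rw [e]
          exact L.mul_mem (L.inv_mem (L.zpow_mem (hL.le hw2) j)) (L.mul_mem (L.inv_mem (hL.le hm)) hxL)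
    exact hM.1 (frattini_le_coatom hco hx)
  refine ⟨hΦ.trans hKc, .of_setLike_mul_comm fun a _ b hb =>
    Subgroup.mem_center_iff.1 (hKc (hΦ hb)) a, fun a ha => ?_⟩
  let E : Subgroup P :=
    { carrier := {z | z ∈ Subgroup.center P ∧ z ^ 2 = 1}
      one_mem' := ⟨one_mem _, one_pow 2⟩
      mul_mem' := by
        rintro u v ⟨hu, hu'⟩ ⟨hv, hv'⟩
        exact ⟨mul_mem hu hv, by
          rw [(show Commute u v from Subgroup.mem_center_iff.1 hv u).mul_pow, hu', hv', one_mul]⟩
      inv_mem' := by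
        rintro u ⟨hu, hu'⟩
        exact ⟨inv_mem hu, by rw [inv_pow, hu', inv_one]⟩ }
  have hKE : K ≤ E := by
    rw [hK, Subgroup.closure_le]
    rintro _ ⟨w, rfl⟩
    exact ⟨hKc (Subgroup.subset_closure ⟨w, rfl⟩), by rw [← pow_mul]; exact h4 w⟩
  exact (hKE (hΦ ha)).2

end Cfsg.Agent.S4056
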