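import Cfsg.Statements.S4057
import Cfsg.Agent.Lib.FGStruct.GenBound.Main

set_option autoImplicit false
open Cfsg

namespace Cfsg.Agent.S4057

/-- Let p be an odd prime and P a finite p-group in which every normal abelian subgroup can be generated by k elements. Then every subgroup of P can be generated by at most ⌊k(k+4)/4⌋ elements. -/
theorem result {P : Type*} [Group P] [Finite P] {p : ℕ} [Fact p.Prime]
    (hp : p ≠ 2) (hP : IsPGroup p P) (k : ℕ)
    (hab : ∀ A : Subgroup P, A.Normal → IsMulCommutative A → ∃ S : Finset P, S.card ≤ k ∧ Subgroup.closure (S : Set P) = A) :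
    ∀ H : Subgroup P, ∃ S : Finset P, S.card ≤ k * (k + 4) / 4 ∧ Subgroup.closure (S : Set P) = H := by
  classical
  intro H
  obtain ⟨E, -, hE⟩ := Finite.exists_le_maximal (a := (⊥ : Subgroup P))
    (p := fun A : Subgroup P => A.Normal ∧ Cfsg.IsElementaryAbelian p A)
    ⟨inferInstance, inferInstance, fun x hx => by rw [Subgroup.mem_bot.1 hx, one_pow]⟩
  obtain ⟨⟨hEn, hEe⟩, hEmax⟩ := hE
  haveI := hEn
  obtain ⟨r, hr⟩ := IsPGroup.iff_card.1 (hP.to_subgroup E)
  obtain ⟨T, hT, hTgen⟩ := hab E hEn hEe.1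
  have hrk : r ≤ k := by
    have h := Cfsg.Agent.FGStruct.GenBound.le_of_gen hEe hr
      (fun i => ((T.equivFin.symm i : T) : P)) (by
        rw [← hTgen]
        congr 1
        ext x
        exact ⟨fun ⟨i, hi⟩ => hi ▸ (T.equivFin.symm i).2, fun hx => ⟨T.equivFin ⟨x, hx⟩, by simp⟩⟩)
    omega
  obtain ⟨S, hS, hSgen⟩ := Cfsg.Agent.FGStruct.GenBound.exists_gens_subgroup hp hP E hEe
    (fun B hBn hB hEB => le_antisymm (hEmax ⟨hBn, hB⟩ hEB) hEB) hr H
  refine ⟨S, hS.trans ?_, hSgen⟩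
  have h1 : r + r * r / 4 = (r * r + r * 4) / 4 := by omega
  rw [h1]
  exact Nat.div_le_div_right (by nlinarith)

end Cfsg.Agent.S4057
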