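import Cfsg.Statements.S4059
import Cfsg.Agent.Lib.Transfer.Basic

set_option autoImplicit false
set_option linter.style.haveILetI false

set_option autoImplicit false
open Cfsg

namespace Cfsg.Agent.S4059

/-- Let G be a finite group in which every element is conjugate to its inverse. Then: every non-identity element commuting with all elements of some Sylow 2-subgroup is an involution; the centre of G is an elementary abelian 2-group; the commutator quotient G/G' is an elementary abelian 2-group; and G is generated by its 2-elements. -/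
theorem result {G : Type*} [Group G] [Finite G] (hamb : ∀ x : G, IsConj x x⁻¹) :
    (∀ (S : Sylow 2 G) (x : G), x ∈ Subgroup.centralizer ((S : Subgroup G) : Set G) → x ≠ 1 → orderOf x = 2) ∧
    (∀ z : G, z ∈ Subgroup.center G → z ^ 2 = 1) ∧
    (∀ x : G, x ^ 2 ∈ commutator G) ∧
    Subgroup.closure {x : G | ∃ k : ℕ, orderOf x = 2 ^ k} = ⊤ := by
  haveI : Fact (Nat.Prime 2) := ⟨Nat.prime_two⟩
  -- the 2-part of an inverting element inverts
  have hpart : ∀ x g : G, g * x * g⁻¹ = x⁻¹ →
      ∃ (u : G) (k : ℕ), u * x * u⁻¹ = x⁻¹ ∧ orderOf u = 2 ^ k := by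
    intro x g hg
    obtain ⟨u, v, huv, -, hv, ⟨k, hk⟩, hvo⟩ := Cfsg.Agent.PBasic.exists_pPart_mul (p := 2) g
    obtain ⟨i, hi⟩ := Subgroup.mem_zpowers_iff.1 hv
    have h2 : Commute (g * g) x := by
      show g * g * x = x * (g * g)
      have h3 : g * x⁻¹ * g⁻¹ = x := by
        have := congrArg (·⁻¹) hg
        simpa [mul_assoc] using this
      calc g * g * x = g * (g * x * g⁻¹) * g := by group
        _ = g * x⁻¹ * g := by rw [hg]
        _ = g * x⁻¹ * g⁻¹ * (g * g) := by group
        _ = x * (g * g) := by rw [h3]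
    have hv2 : Commute (v * v) x := by
      have : v * v = (g * g) ^ i := by rw [← hi, (Commute.refl g).mul_zpow]
      rw [this]; exact h2.zpow_left i
    have hvx : Commute v x := by
      obtain ⟨j, hj⟩ := exists_pow_eq_self_of_coprime (x := v) (n := 2) hvo.symm
      rw [← hj, sq]; exact hv2.pow_left j
    refine ⟨u, k, ?_, hk⟩
    rw [← hg, ← huv]
    calc u * x * u⁻¹ = u * (v * x * v⁻¹) * u⁻¹ := by rw [hvx.eq, mul_inv_cancel_right]
      _ = u * v * x * (u * v)⁻¹ := by group
  have hinv : ∀ x : G, ∃ (u : G) (k : ℕ), u * x * u⁻¹ = x⁻¹ ∧ orderOf u = 2 ^ k := by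
    intro x
    obtain ⟨g, hg⟩ := isConj_iff.1 (hamb x)
    exact hpart x g hg
  refine ⟨?_, ?_, ?_, ?_⟩
  · intro S x hxS hx1
    obtain ⟨u, k, hu, hk⟩ := hinv x
    set C := Subgroup.centralizer ({x} : Set G) with hC
    set N := Subgroup.normalizer (C : Set G) with hN
    have huN : u ∈ N := by
      rw [hN, Subgroup.mem_normalizer_iff]
      intro h
      have e : ∀ h : G, h ∈ C ↔ Commute h x := fun h => by
        rw [hC, Subgroup.mem_centralizer_iff]
        exact ⟨fun h' => (h' x rfl).symm, fun h' y hy => by rw [Set.mem_singleton_iff.1 hy]; exact h'.symm⟩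
      rw [e, e]
      have h1 : Commute h x ↔ Commute (u * h * u⁻¹) (u * x * u⁻¹) :=
        (Commute.conj_iff u).symm
      rw [h1, hu, Commute.inv_right_iff]
    have hSC : (S : Subgroup G) ≤ C := by
      intro s hs
      rw [hC, Subgroup.mem_centralizer_iff]
      intro y hy
      rw [Set.mem_singleton_iff.1 hy]
      exact (Subgroup.mem_centralizer_iff.1 hxS s hs).symm
    have hSN : (S : Subgroup G) ≤ N := hSC.trans Subgroup.le_normalizer
    have hpu : IsPGroup 2 (Subgroup.zpowers (⟨u, huN⟩ : N)) :=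
      IsPGroup.of_card (n := k) (by rw [Nat.card_zpowers, Subgroup.orderOf_mk, hk])
    obtain ⟨T, hT⟩ := hpu.exists_le_sylow
    obtain ⟨n, hn⟩ := MulAction.exists_smul_eq N (S.subtype hSN) T
    have huT : (⟨u, huN⟩ : N) ∈ ((n • S.subtype hSN : Sylow 2 N) : Subgroup N) :=
      hn ▸ hT (Subgroup.mem_zpowers _)
    rw [Sylow.coe_subgroup_smul, Subgroup.mem_pointwise_smul_iff_inv_smul_mem] at huT
    have huT' : (n : G)⁻¹ * u * (n : G) ∈ (S : Subgroup G) := by
      simpa [MulAut.smul_def, Subgroup.mem_subgroupOf, Sylow.subtype, Sylow.comapOfInjective,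
        Sylow.comapOfKerIsPGroup, mul_assoc] using huT
    have huC : u ∈ C := by
      have := (Subgroup.mem_normalizer_iff.1 n.2 _).1 (hSC huT')
      simpa [mul_assoc] using this
    have hxx : x = x⁻¹ := by
      rw [← hu, ← Subgroup.mem_centralizer_iff.1 huC x rfl, mul_inv_cancel_right]
    exact orderOf_eq_prime (by rw [sq]; nth_rw 2 [hxx]; rw [mul_inv_cancel]) hx1
  · intro z hz
    obtain ⟨g, hg⟩ := isConj_iff.1 (hamb z)
    rw [Subgroup.mem_center_iff.1 hz g, mul_inv_cancel_right] at hg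
    rw [sq]; nth_rw 2 [hg]; rw [mul_inv_cancel]
  · intro x
    obtain ⟨g, hg⟩ := isConj_iff.1 (hamb x)
    have h1 := Subgroup.commutator_mem_commutator (Subgroup.mem_top g) (Subgroup.mem_top x)
    rw [← commutator_def, commutatorElement_def, hg] at h1
    have := (commutator G).inv_mem h1
    simpa [sq] using this
  · set K := Subgroup.closure {x : G | ∃ k : ℕ, orderOf x = 2 ^ k} with hK
    have hKn : K.Normal := by
      rw [← Subgroup.normalizer_eq_top_iff, eq_top_iff]
      intro g _
      rw [Subgroup.mem_normalizer_iff]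
      have hle : ∀ g : G, K ≤ K.comap (MulAut.conj g).toMonoidHom := fun g => by
        rw [hK, Subgroup.closure_le]
        rintro x ⟨k, hk⟩
        refine Subgroup.subset_closure ⟨k, ?_⟩
        rw [show (MulAut.conj g).toMonoidHom x = MulAut.conj g x from rfl, MulEquiv.orderOf_eq, hk]
      exact fun h => ⟨fun hh => hle g hh, fun hh => by
        have := hle g⁻¹ hh
        simpa [Subgroup.mem_comap, mul_assoc] using this⟩
    rw [eq_top_iff]
    intro y _
    obtain ⟨a, v, hav, -, -, ⟨ka, hka⟩, hvo⟩ := Cfsg.Agent.PBasic.exists_pPart_mul (p := 2) y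
    have haK : a ∈ K := Subgroup.subset_closure ⟨ka, hka⟩
    obtain ⟨u, k, hu, hk⟩ := hinv v
    have huK : u ∈ K := Subgroup.subset_closure ⟨k, hk⟩
    have h1 : u * (v * u⁻¹ * v⁻¹) ∈ K := K.mul_mem huK (hKn.conj_mem _ (K.inv_mem huK) v)
    have h2 : v ^ 2 ∈ K := by
      have h3 : u * (v * u⁻¹ * v⁻¹) = (v ^ 2)⁻¹ := by
        rw [show u * (v * u⁻¹ * v⁻¹) = (u * v * u⁻¹) * v⁻¹ by group, hu, sq, mul_inv_rev]
      rw [h3] at h1
      exact (K.inv_mem_iff).1 h1
    obtain ⟨j, hj⟩ := exists_pow_eq_self_of_coprime (x := v) (n := 2) hvo.symm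
    rw [← hav]
    exact K.mul_mem haK (hj ▸ K.pow_mem h2 j)

end Cfsg.Agent.S4059
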