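import Cfsg.Statements.S4061
import Mathlib
import Cfsg.Agent.Lib.Solvable.Basic
import Cfsg.Agent.Lib.Solvable.FixedPointFree
import Cfsg.Agent.Lib.Solvable.Fitting
import Cfsg.Agent.Lib.TwoGroups.NormalFour

set_option autoImplicit false
set_option linter.style.haveILetI false

namespace Cfsg.Agent.S4061

open Cfsg
open scoped Pointwise

universe u
variable {X : Type u} [Group X] [Finite X]

/-- A nontrivial finite group in which every element is conjugate to its inverse has even order. -/
theorem even_of_real (h : ∀ x : X, IsConj x x⁻¹) [Nontrivial X] : 2 ∣ Nat.card X := by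
  by_contra hodd
  obtain ⟨x, hx⟩ := exists_ne (1 : X)
  obtain ⟨g, hg⟩ := isConj_iff.1 (h x)
  obtain ⟨k, hk⟩ : Odd (Nat.card X) := Nat.odd_iff.2 (by omega)
  have h2 : (g ^ 2) * x = x * g ^ 2 := by
    have : g * (g * x * g⁻¹) * g⁻¹ = x := by
      rw [hg, ← conj_inv, hg, inv_inv]
    calc (g ^ 2) * x = g * (g * x * g⁻¹) * g⁻¹ * g ^ 2 := by rw [pow_two]; group
      _ = x * g ^ 2 := by rw [this]
  have hgk : g = (g ^ 2) ^ (k + 1) := by
    rw [← pow_mul, show 2 * (k + 1) = Nat.card X + 1 by omega, pow_succ, pow_card_eq_one', one_mul]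
  have hc : g * x = x * g := by rw [hgk]; exact (Commute.pow_left h2 (k + 1))
  have hxx : x⁻¹ = x := by rw [← hg, hc, mul_inv_cancel_right]
  have h1 : orderOf x ∣ 2 := orderOf_dvd_of_pow_eq_one (by
    rw [pow_two]
    nth_rw 1 [← hxx]
    exact inv_mul_cancel x)
  rcases (Nat.dvd_prime Nat.prime_two).1 h1 with h' | h'
  · exact hx (orderOf_eq_one_iff.1 h')
  · exact hodd (h' ▸ orderOf_dvd_natCard x)

/-- The reduced group has a unique involution. -/
theorem unique_invol [Group.IsSolvable X] (hr : ∀ x : X, IsConj x x⁻¹) (he : 2 ∣ Nat.card X)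
    (hone : ∀ s t : X, orderOf s = 2 → orderOf t = 2 → IsConj s t)
    (hO : Cfsg.pPrimeCore 2 X = ⊥) : ∀ s t : X, orderOf s = 2 → orderOf t = 2 → s = t := by
  haveI : Fact (Nat.Prime 2) := ⟨Nat.prime_two⟩
  obtain ⟨u, hu⟩ := exists_prime_orderOf_dvd_card' 2 he
  have : Nontrivial X := ⟨u, 1, fun e => by rw [e, orderOf_one] at hu; omega⟩
  obtain ⟨Q, p, hp, hQn, hQ, -, hQc, hQe, hQp, hmin⟩ :=
    SolvBasic.exists_minimal_normal_abelian (G := X) (N := ⊤) inferInstance top_ne_bot
  have hp2 : p = 2 := by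
    by_contra hp2
    haveI := Fact.mk hp
    apply hQ
    rw [eq_bot_iff, ← hO]
    refine FittingCores.le_pPrimeCore hQn ?_
    obtain ⟨m, hm⟩ := IsPGroup.iff_card.1 hQp
    rw [hm]
    exact (Nat.coprime_primes hp Nat.prime_two).2 hp2 |>.pow_left m
  subst hp2
  have hall : ∀ s : X, orderOf s = 2 → s ∈ Q := by
    intro s hs
    obtain ⟨q, hq, hq1⟩ : ∃ q ∈ Q, q ≠ 1 := Q.bot_or_exists_ne_one.resolve_left hQ
    obtain ⟨g, hg⟩ := isConj_iff.1 (hone q s (orderOf_eq_prime (hQe q hq) hq1) hs)
    rw [← hg]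
    exact hQn.conj_mem q hq g
  set C := Subgroup.centralizer (Q : Set X) with hCdef
  have hQC : Q ≤ C := fun a ha => Subgroup.mem_centralizer_iff.2 fun b hb =>
    setLike_mul_comm (s := Q) hb ha
  by_cases hC : C = ⊤
  · intro s t hs ht
    obtain ⟨g, hg⟩ := isConj_iff.1 (hone s t hs ht)
    have hgC : g ∈ C := hC ▸ Subgroup.mem_top g
    have := Subgroup.mem_centralizer_iff.1 hgC s (hall s hs)
    rw [← hg, ← this, mul_inv_cancel_right]
  exfalso
  haveI : C.Normal := inferInstance
  have hHnt : Nontrivial (X ⧸ C) := QuotientGroup.nontrivial_iff.2 hC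
  have hH2 : 2 ∣ Nat.card (X ⧸ C) := even_of_real fun y => by
    obtain ⟨x, rfl⟩ := QuotientGroup.mk'_surjective C y
    rw [← map_inv]
    exact MonoidHom.map_isConj _ (hr x)
  haveI : Group.IsSolvable (X ⧸ C) :=
    Group.isSolvable_of_surjective (QuotientGroup.mk'_surjective C)
  obtain ⟨M, r, hr', hMn, hM, -, -, -, hMp, -⟩ :=
    SolvBasic.exists_minimal_normal_abelian (G := X ⧸ C) (N := ⊤) inferInstance top_ne_bot
  haveI := Fact.mk hr'
  set L := M.comap (QuotientGroup.mk' C) with hLdef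
  haveI : L.Normal := hMn.comap _
  have hCL : C ≤ L := fun x hx => by
    rw [hLdef, Subgroup.mem_comap, QuotientGroup.mk'_apply, (QuotientGroup.eq_one_iff x).2 hx]
    exact one_mem _
  have hLC : ¬ L ≤ C := by
    intro h
    apply hM
    rw [eq_bot_iff]
    intro y hy
    obtain ⟨x, rfl⟩ := QuotientGroup.mk'_surjective C y
    exact Subgroup.mem_bot.2 ((QuotientGroup.eq_one_iff x).2 (h hy))
  obtain ⟨WS⟩ : Nonempty (Sylow r L) := inferInstance
  set W : Subgroup X := (WS : Subgroup L).map L.subtype with hWdef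
  have hWp : IsPGroup r W := WS.isPGroup'.map _
  have hWL : W ≤ L := Subgroup.map_subtype_le _
  have hLCW : L ≤ C ⊔ W := by
    rw [← Subgroup.relIndex_eq_one]
    have h1 : (C ⊔ W).relIndex L ∣ W.relIndex L :=
      Subgroup.relIndex_dvd_of_le_left L le_sup_right
    have h2 : (C ⊔ W).relIndex L ∣ C.relIndex L :=
      Subgroup.relIndex_dvd_of_le_left L le_sup_left
    have h3 : W.relIndex L = (WS : Subgroup L).index := by
      rw [Subgroup.relIndex, hWdef, Subgroup.subgroupOf,
        Subgroup.comap_map_eq_self_of_injective L.subtype_injective]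
    have h4 : C.relIndex L = Nat.card M := by
      have := Subgroup.relIndex_ker (QuotientGroup.mk' C) (K := L)
      rw [QuotientGroup.ker_mk'] at this
      rw [this, hLdef, Subgroup.map_comap_eq_self_of_surjective (QuotientGroup.mk'_surjective C)]
    obtain ⟨m, hm⟩ := IsPGroup.iff_card.1 hMp
    have hcop : Nat.Coprime (WS : Subgroup L).index (r ^ m) :=
      Nat.Coprime.pow_right m ((hr'.coprime_iff_not_dvd).2 WS.not_dvd_index).symm
    exact Nat.eq_one_of_dvd_coprimes hcop (h3 ▸ h1) (hm ▸ h4 ▸ h2)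
  have hD : Q ⊓ Subgroup.centralizer (W : Set X) = ⊥ := by
    have heq : Q ⊓ Subgroup.centralizer (W : Set X) = Q ⊓ Subgroup.centralizer (L : Set X) := by
      refine le_antisymm (le_inf inf_le_left ?_)
        (inf_le_inf_left _ (Subgroup.centralizer_le hWL))
      intro z hz
      have hzC : C ≤ Subgroup.centralizer ({z} : Set X) := fun c hc =>
        Subgroup.mem_centralizer_singleton_iff.2
          (Subgroup.mem_centralizer_iff.1 hc z hz.1).symm
      have hzW : W ≤ Subgroup.centralizer ({z} : Set X) := fun w hw =>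
        Subgroup.mem_centralizer_singleton_iff.2
          (Subgroup.mem_centralizer_iff.1 hz.2 w hw)
      exact Subgroup.mem_centralizer_iff.2 fun l hl =>
        Subgroup.mem_centralizer_singleton_iff.1 ((hLCW.trans (sup_le hzC hzW)) hl)
    rcases hmin (Q ⊓ Subgroup.centralizer (L : Set X)) inferInstance inf_le_left with h | h
    · rw [heq, h]
    · exact absurd (Subgroup.le_centralizer_iff.1 (inf_eq_left.1 h)) hLC
  by_cases hr2 : r = 2
  · subst hr2
    have hQL : Q ≤ L := hQC.trans hCL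
    haveI : (Q.subgroupOf L).Normal := inferInstance
    have hQW : Q ≤ W := by
      have h := (hQp.comap_of_injective L.subtype L.subtype_injective :
        IsPGroup 2 (Q.subgroupOf L))
      obtain ⟨T, hT⟩ := h.exists_le_sylow
      obtain ⟨g, hg⟩ := MulAction.exists_smul_eq L T WS
      have : MulAut.conj g • (Q.subgroupOf L) ≤ (WS : Subgroup L) := by
        rw [← hg, Sylow.coe_subgroup_smul]
        exact Subgroup.pointwise_smul_le_pointwise_smul_iff.2 hT
      rw [Subgroup.Normal.conj_smul_eq_self] at this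
      intro q hq
      exact ⟨⟨q, hQL hq⟩, this (Subgroup.mem_subgroupOf.2 hq), rfl⟩
    have hne : Q.subgroupOf W ≠ ⊥ := by
      rw [Ne, Subgroup.subgroupOf_eq_bot, disjoint_iff, inf_eq_left.2 hQW]
      exact hQ
    haveI : (Q.subgroupOf W).Normal := inferInstance
    obtain ⟨z, hz, hz2, hzc⟩ := NormalFour.exists_central_mem hWp hne
    have hzD : (z : X) ∈ Q ⊓ Subgroup.centralizer (W : Set X) :=
      ⟨hz, Subgroup.mem_centralizer_iff.2 fun w hw =>
        congrArg Subtype.val (Subgroup.mem_center_iff.1 hzc ⟨w, hw⟩)⟩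
    rw [hD, Subgroup.mem_bot] at hzD
    rw [show z = 1 from Subtype.ext hzD, orderOf_one] at hz2
    omega
  · have hQW : Q ⊓ W = ⊥ := by
      rw [← disjoint_iff]
      exact IsPGroup.disjoint_of_ne 2 r (Ne.symm hr2) _ _ hQp hWp
    set N := Subgroup.normalizer (W : Set X) with hNdef
    have hF : N ⊔ L = ⊤ := Sylow.normalizer_sup_eq_top WS
    have hCN : C ⊔ N = ⊤ := by
      rw [eq_top_iff, ← hF]
      exact sup_le le_sup_right (hLCW.trans (sup_le_sup_left Subgroup.le_normalizer C))
    have hmap : N.map (QuotientGroup.mk' C) = ⊤ := by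
      have := congrArg (Subgroup.map (QuotientGroup.mk' C)) hCN
      rwa [Subgroup.map_sup, (Subgroup.map_eq_bot_iff C).2 (by rw [QuotientGroup.ker_mk']),
        bot_sup_eq, Subgroup.map_top_of_surjective _ (QuotientGroup.mk'_surjective C)] at this
    have hN2 : 2 ∣ Nat.card N := hH2.trans (by
      have := Subgroup.card_map_dvd N (QuotientGroup.mk' C)
      rwa [hmap, Subgroup.card_top] at this)
    obtain ⟨v, hv⟩ := exists_prime_orderOf_dvd_card' 2 hN2
    have hvQ : (v : X) ∈ Q := hall v (by rw [Subgroup.orderOf_coe, hv])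
    have hvD : (v : X) ∈ Q ⊓ Subgroup.centralizer (W : Set X) := by
      refine ⟨hvQ, Subgroup.mem_centralizer_iff.2 fun w hw => ?_⟩
      have h1 : (v : X) * w * (v : X)⁻¹ * w⁻¹ ∈ Q ⊓ W := by
        refine ⟨?_, W.mul_mem ((Subgroup.mem_normalizer_iff.1 v.2 w).1 hw) (W.inv_mem hw)⟩
        have := hQn.conj_mem _ (Q.inv_mem hvQ) w
        have := Q.mul_mem hvQ this
        simpa only [mul_assoc, SetLike.mem_coe, Subgroup.mem_toSubmonoid] using this
      rw [hQW, Subgroup.mem_bot, mul_inv_eq_one] at h1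
      exact (mul_inv_eq_iff_eq_mul.1 h1).symm
    rw [hD, Subgroup.mem_bot] at hvD
    have hv1 : orderOf v = 1 := orderOf_eq_one_iff.2 (Subtype.ext hvD)
    omega

end Cfsg.Agent.S4061


set_option autoImplicit false
open Cfsg

namespace Cfsg.Agent.S4061

/-- Let G be a finite solvable group of even order in which every element is conjugate to its inverse and all involutions are conjugate. Then a Sylow 2-subgroup S of G has order 2 or is a generalized quaternion group (of order at least 8). Moreover, if S has order 2, then G is the semidirect product of its largest normal subgroup of odd order O(G) by S, O(G) equals the derived subgroup of G, and the involution of S inverts every element of O(G). -/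
theorem result {G : Type*} [Group G] [Finite G] [Group.IsSolvable G]
    (hamb : ∀ x : G, IsConj x x⁻¹) (heven : 2 ∣ Nat.card G) (hone : ∀ s t : G, orderOf s = 2 → orderOf t = 2 → IsConj s t) (S : Sylow 2 G) :
    (Nat.card S = 2 ∨ ∃ n : ℕ, Nonempty ((S : Subgroup G) ≃* QuaternionGroup (2 ^ (n + 1)))) ∧
    (Nat.card S = 2 → (S : Subgroup G).IsComplement' (Cfsg.oddCore G) ∧ Cfsg.oddCore G = commutator G ∧
        ∀ t : G, t ∈ S → t ≠ 1 → ∀ x : G, x ∈ Cfsg.oddCore G → t * x * t⁻¹ = x⁻¹) := by
  classical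
  haveI : Fact (Nat.Prime 2) := ⟨Nat.prime_two⟩
  set K := Cfsg.oddCore G with hKdef
  haveI hKn : K.Normal := FittingCores.pPrimeCore_normal 2
  have hKc : (Nat.card K).Coprime 2 := FittingCores.pPrimeCore_coprime 2
  obtain ⟨k, hk⟩ : Odd (Nat.card K) := Nat.coprime_two_right.1 hKc
  set f := QuotientGroup.mk' K with hfdef
  have hf1 : ∀ x : G, f x = 1 ↔ x ∈ K := fun x => QuotientGroup.eq_one_iff x
  have hpowK : ∀ x ∈ K, x ^ Nat.card K = 1 := fun x hx => by
    exact orderOf_dvd_iff_pow_eq_one.1 (K.orderOf_dvd_natCard hx)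
  -- involutions lift
  have hlift : ∀ y : G ⧸ K, orderOf y = 2 → ∃ x : G, orderOf x = 2 ∧ f x = y := by
    intro y hy
    obtain ⟨x, rfl⟩ := QuotientGroup.mk'_surjective K y
    have hfx : f x ^ 2 = 1 := by rw [← hy]; exact pow_orderOf_eq_one _
    have hfk : f (x ^ Nat.card K) = f x := by
      rw [map_pow, hk, pow_succ, pow_mul, hfx, one_pow, one_mul]
    refine ⟨x ^ Nat.card K, orderOf_eq_prime ?_ ?_, hfk⟩
    · rw [← pow_mul, mul_comm, pow_mul]
      exact hpowK _ ((hf1 _).1 (by rw [map_pow, hfx]))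
    · intro e
      rw [e, map_one] at hfk
      rw [← hfdef, ← hfk, orderOf_one] at hy
      omega
  have hindex : Nat.card G = Nat.card K * Nat.card (G ⧸ K) := by
    rw [← Subgroup.index_eq_card, Subgroup.card_mul_index]
  haveI : Group.IsSolvable (G ⧸ K) :=
    Group.isSolvable_of_surjective (QuotientGroup.mk'_surjective K)
  have huniq : ∀ s t : G ⧸ K, orderOf s = 2 → orderOf t = 2 → s = t := by
    refine unique_invol (fun y => ?_) ?_ (fun s t hs ht => ?_) ?_
    · obtain ⟨x, rfl⟩ := QuotientGroup.mk'_surjective K y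
      rw [← map_inv]
      exact MonoidHom.map_isConj _ (hamb x)
    · exact (Nat.Coprime.dvd_mul_left hKc.symm).1 (hindex ▸ heven)
    · obtain ⟨a, ha, rfl⟩ := hlift s hs
      obtain ⟨b, hb, rfl⟩ := hlift t ht
      exact MonoidHom.map_isConj _ (hone a b ha hb)
    · exact FittingCores.pPrimeCore_quotient_eq_bot 2 K rfl
  have hSK : ∀ x ∈ (S : Subgroup G), x ∈ K → x = 1 := by
    intro x hx hxK
    obtain ⟨a, ha⟩ := IsPGroup.iff_orderOf.1 S.isPGroup' ⟨x, hx⟩
    rw [Subgroup.orderOf_mk] at ha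
    have h1 : 2 ^ a ∣ Nat.card K := ha ▸ K.orderOf_dvd_natCard hxK
    have h2 : 2 ^ a = 1 := Nat.eq_one_of_dvd_coprimes (hKc.symm.pow_left a) dvd_rfl h1
    exact orderOf_eq_one_iff.1 (ha.trans h2)
  have hSuniq : ∀ s ∈ (S : Subgroup G), ∀ t ∈ (S : Subgroup G),
      orderOf s = 2 → orderOf t = 2 → s = t := by
    intro s hs t ht hs2 ht2
    have himg : ∀ z ∈ (S : Subgroup G), orderOf z = 2 → orderOf (f z) = 2 := fun z hz hz2 =>
      orderOf_eq_prime (by rw [← map_pow, ← hz2, pow_orderOf_eq_one, map_one]) fun e => by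
        rw [hSK z hz ((hf1 z).1 e), orderOf_one] at hz2
        omega
    have h := huniq _ _ (himg s hs hs2) (himg t ht ht2)
    refine mul_inv_eq_one.1 (hSK _ ((S : Subgroup G).mul_mem hs ((S : Subgroup G).inv_mem ht))
      ((hf1 _).1 ?_))
    rw [map_mul, map_inv, h, mul_inv_cancel]
  have hab : AbCyc.AbCyclic (S : Subgroup G) := by
    intro A hA
    letI : CommGroup A := { (inferInstance : Group A) with
      mul_comm := fun a b => Subtype.ext (setLike_mul_comm (s := A) a.2 b.2) }
    refine NormalFour.isCyclic_of_sqrt_le_two (S.isPGroup'.to_subgroup A) ?_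
    have key : ∀ a b : A, a ^ 2 = 1 → b ^ 2 = 1 → a ≠ 1 → b ≠ 1 → a = b := by
      intro a b ha hb ha1 hb1
      have ha2 := orderOf_eq_prime ha ha1
      have hb2 := orderOf_eq_prime hb hb1
      exact Subtype.ext (Subtype.ext (hSuniq _ (a : (S : Subgroup G)).2 _ (b : (S : Subgroup G)).2
        (by rw [Subgroup.orderOf_coe, Subgroup.orderOf_coe]; exact ha2) (by rw [Subgroup.orderOf_coe, Subgroup.orderOf_coe]; exact hb2)))
    refine (Nat.card_le_card_of_injective (fun a : (powMonoidHom 2 : A →* A).ker => if (a : A) = 1 then (0 : Fin 2) else 1) ?_).trans_eq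
      (Nat.card_fin 2)
    rintro ⟨a, ha⟩ ⟨b, hb⟩ h
    simp only at h
    refine Subtype.ext ?_
    show a = b
    by_cases ha1 : a = 1
    · by_cases hb1 : b = 1
      · rw [ha1, hb1]
      · simp [ha1, hb1] at h
    · by_cases hb1 : b = 1
      · simp [ha1, hb1] at h
      · exact key a b ha hb ha1 hb1
  obtain ⟨u, hu⟩ := exists_prime_orderOf_dvd_card' 2 heven
  have hGnt : Nontrivial G := ⟨u, 1, fun e => by rw [e, orderOf_one] at hu; omega⟩
  have hmin : (Nat.card G).minFac = 2 := (Nat.minFac_eq_two_iff _).2 heven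
  have hS2 : 2 ∣ Nat.card (S : Subgroup G) := by
    obtain ⟨T, hT⟩ := IsPGroup.exists_le_sylow (p := 2)
      (show IsPGroup 2 (Subgroup.zpowers u) from IsPGroup.of_card (n := 1)
        (by rw [Nat.card_zpowers, hu, pow_one]))
    have := Subgroup.card_dvd_of_le hT
    rw [Nat.card_zpowers, hu] at this
    rwa [Sylow.card_eq_multiplicity] at this ⊢
  have hcyc : IsCyclic (S : Subgroup G) →
      (S : Subgroup G).IsComplement' K ∧ Nat.card S = 2 := by
    intro hc
    have hN := hc.isComplement' (P := S) hmin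
    set N := (MonoidHom.transferSylow S (hc.normalizer_le_centralizer hmin)).ker
    have hNodd : (Nat.card N).Coprime 2 := by
      rw [← hN.index_eq_card]
      exact ((Nat.prime_two.coprime_iff_not_dvd).2 S.not_dvd_index).symm
    have hNK : N ≤ K := FittingCores.le_pPrimeCore inferInstance hNodd
    have hNKcard : Nat.card K = Nat.card N := by
      refine Nat.dvd_antisymm ?_ (Subgroup.card_dvd_of_le hNK)
      have hdv : Nat.card K ∣ Nat.card N * Nat.card S :=
        hN.card_mul ▸ Subgroup.card_subgroup_dvd_card K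
      obtain ⟨a, ha⟩ := IsPGroup.iff_card.1 S.isPGroup'
      exact (Nat.Coprime.dvd_mul_right (ha ▸ hKc.pow_right a)).1 hdv
    have hKN : N = K := Subgroup.eq_of_le_of_card_ge hNK hNKcard.le
    rw [hKN] at hN
    refine ⟨hN.symm, ?_⟩
    -- exponent two
    letI : CommGroup (S : Subgroup G) := IsCyclic.commGroup
    have hg : ∀ s ∈ (S : Subgroup G), s ^ 2 = 1 := by
      intro s hs
      obtain ⟨g, hg⟩ := isConj_iff.1 (hamb s)
      obtain ⟨⟨⟨n, hn⟩, ⟨s', hs'⟩⟩, hns⟩ := hN.2 g
      simp only at hns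
      have hcomm : s' * s = s * s' :=
        congrArg Subtype.val (mul_comm (⟨s', hs'⟩ : (S : Subgroup G)) ⟨s, hs⟩)
      refine hSK _ (pow_mem hs 2) ((hf1 _).1 ?_)
      have hfg : f g = f s' := by rw [← hns, map_mul, (hf1 n).2 hn, one_mul]
      have h := congrArg f hg
      rw [map_mul, map_mul, map_inv, map_inv, hfg, ← map_mul, hcomm, map_mul,
        mul_inv_cancel_right] at h
      rw [map_pow, pow_two]
      nth_rw 2 [h]
      exact mul_inv_cancel _
    have hle : Nat.card S ≤ 2 := by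
      refine (Nat.card_le_card_of_injective
        (fun a : (S : Subgroup G) => if (a : G) = 1 then (0 : Fin 2) else 1) ?_).trans_eq
        (Nat.card_fin 2)
      rintro ⟨a, ha⟩ ⟨b, hb⟩ h
      simp only at h
      refine Subtype.ext ?_
      show a = b
      by_cases ha1 : a = 1
      · by_cases hb1 : b = 1
        · rw [ha1, hb1]
        · simp [ha1, hb1] at h
      · by_cases hb1 : b = 1
        · simp [ha1, hb1] at h
        · exact hSuniq a ha b hb (orderOf_eq_prime (hg a ha) ha1) (orderOf_eq_prime (hg b hb) hb1)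
    have := Nat.le_of_dvd Nat.card_pos hS2
    omega
  constructor
  · rcases FpfStruct.cyclic_or_quaternion S.isPGroup' hab with h | ⟨-, n, ⟨e⟩⟩
    · exact Or.inl (hcyc h).2
    · rcases n with _ | n
      · haveI : IsCyclic (QuaternionGroup (2 ^ 0)) := by
          rw [pow_zero]; exact QuaternionGroup.quaternionGroup_one_isCyclic
        exact Or.inl (hcyc (isCyclic_of_surjective e.symm e.symm.surjective)).2
      · exact Or.inr ⟨n, ⟨e⟩⟩
  intro hc2
  obtain ⟨hcompl, -⟩ := hcyc (isCyclic_of_prime_card hc2)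
  have hi2 : K.index = 2 := by rw [hcompl.index_eq_card]; exact hc2
  have hG'K : commutator G ≤ K := by
    have hq2 : Nat.card (G ⧸ K) = 2 := by rw [← Subgroup.index_eq_card]; exact hi2
    haveI : IsCyclic (G ⧸ K) := isCyclic_of_prime_card hq2
    letI : CommGroup (G ⧸ K) := IsCyclic.commGroup
    rw [commutator_def, Subgroup.commutator_le]
    intro a _ b _
    rw [← hf1, map_commutatorElement]
    exact commutatorElement_eq_one_iff_mul_comm.2 (mul_comm _ _)
  have hKG' : K ≤ commutator G := by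
    intro x hx
    have h2 : x ^ 2 ∈ commutator G := by
      have hcj := MonoidHom.map_isConj Abelianization.of (hamb x)
      rw [isConj_iff_eq, map_inv] at hcj
      rw [← Abelianization.ker_of, MonoidHom.mem_ker, map_pow, pow_two]
      nth_rw 2 [hcj]
      exact mul_inv_cancel _
    have : x = (x ^ 2) ^ (k + 1) := by
      rw [← pow_mul, show 2 * (k + 1) = Nat.card K + 1 by omega, pow_succ, hpowK x hx, one_mul]
    rw [this]
    exact pow_mem h2 _
  refine ⟨hcompl, le_antisymm hKG' hG'K, ?_⟩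
  intro t ht ht1 x hx
  have ht2 : t * t = 1 := by
    have h : orderOf t ∣ 2 := by
      have := (S : Subgroup G).orderOf_dvd_natCard ht
      rwa [hc2] at this
    rw [← pow_two]
    exact orderOf_dvd_iff_pow_eq_one.1 h
  have htinv : t⁻¹ = t := inv_eq_of_mul_eq_one_left ht2
  have htK : t ∉ K := fun h => ht1 (hSK t ht h)
  have hfpf : ∀ c ∈ K, t * c = c * t → c = 1 := by
    intro c hc htc
    obtain ⟨g, hg⟩ := isConj_iff.1 (hamb (t * c))
    have hg' : g * (t * c) * g⁻¹ = t * c⁻¹ := by
      have h2 : Commute t c⁻¹ := Commute.inv_right htc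
      rw [hg, mul_inv_rev, htinv, h2.eq]
    have htpow : t ^ Nat.card K = t := by
      rw [hk, pow_succ, pow_mul, pow_two, ht2, one_pow, one_mul]
    have hgt : g * t * g⁻¹ = t := by
      have h := congrArg (· ^ Nat.card K) hg'
      simp only [conj_pow] at h
      rwa [(show Commute t c from htc).mul_pow, (Commute.inv_right htc).mul_pow, htpow, hpowK c hc,
        inv_pow, hpowK c hc, inv_one, mul_one] at h
    have hgc : g * c * g⁻¹ = c⁻¹ := by
      have h : g * (t * c) * g⁻¹ = (g * t * g⁻¹) * (g * c * g⁻¹) := by group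
      rw [h, hgt] at hg'
      exact mul_left_cancel hg'
    obtain ⟨y, hy, hyc⟩ : ∃ y ∈ K, y * c * y⁻¹ = c⁻¹ := by
      by_cases hgK : g ∈ K
      · exact ⟨g, hgK, hgc⟩
      · refine ⟨g * t, (Subgroup.mul_mem_iff_of_index_two hi2).2 (iff_of_false hgK htK), ?_⟩
        rw [← hgc, mul_inv_rev, htinv]
        calc g * t * c * (t * g⁻¹) = g * (t * c * t) * g⁻¹ := by group
          _ = g * c * g⁻¹ := by rw [htc, mul_assoc c t t, ht2, mul_one]
    have h2 : (y ^ 2) * c = c * y ^ 2 := by
      have : y * (y * c * y⁻¹) * y⁻¹ = c := by rw [hyc, ← conj_inv, hyc, inv_inv]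
      calc (y ^ 2) * c = y * (y * c * y⁻¹) * y⁻¹ * y ^ 2 := by rw [pow_two]; group
        _ = c * y ^ 2 := by rw [this]
    have hyk : y = (y ^ 2) ^ (k + 1) := by
      rw [← pow_mul, show 2 * (k + 1) = Nat.card K + 1 by omega, pow_succ, hpowK y hy, one_mul]
    have hyc' : y * c = c * y := by rw [hyk]; exact Commute.pow_left h2 _
    rw [hyc', mul_inv_cancel_right] at hyc
    have hcc : c ^ 2 = 1 := by
      rw [pow_two]; nth_rw 1 [hyc]; exact inv_mul_cancel c
    have : c = (c ^ 2) ^ (k + 1) := by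
      rw [← pow_mul, show 2 * (k + 1) = Nat.card K + 1 by omega, pow_succ, hpowK c hc, one_mul]
    rw [this, hcc, one_pow]
  let φ : K → K := fun z =>
    ⟨(z : G)⁻¹ * (t * z * t⁻¹), K.mul_mem (K.inv_mem z.2) (hKn.conj_mem _ z.2 t)⟩
  have hφ : Function.Injective φ := by
    intro a b hab
    have h : (a : G)⁻¹ * (t * a * t⁻¹) = (b : G)⁻¹ * (t * b * t⁻¹) := congrArg Subtype.val hab
    have h' : t * ((b : G) * (a : G)⁻¹) = (b : G) * (a : G)⁻¹ * t := by
      calc t * ((b : G) * (a : G)⁻¹)
          = (b : G) * ((b : G)⁻¹ * (t * b * t⁻¹)) * (t * (a : G)⁻¹) := by group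
        _ = (b : G) * ((a : G)⁻¹ * (t * a * t⁻¹)) * (t * (a : G)⁻¹) := by rw [h]
        _ = (b : G) * (a : G)⁻¹ * t := by group
    have := hfpf _ (K.mul_mem b.2 (K.inv_mem a.2)) h'
    exact Subtype.ext (mul_inv_eq_one.1 this).symm
  obtain ⟨⟨z, hz⟩, hzx⟩ := (Finite.injective_iff_surjective.1 hφ) ⟨x, hx⟩
  have hx' : z⁻¹ * (t * z * t⁻¹) = x := congrArg Subtype.val hzx
  rw [← hx', htinv]
  calc t * (z⁻¹ * (t * z * t)) * t = t * z⁻¹ * t * z * (t * t) := by group
    _ = t * z⁻¹ * t⁻¹ * z := by rw [ht2, mul_one, htinv]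
    _ = (z⁻¹ * (t * z * t⁻¹))⁻¹ := by group
    _ = _ := by rw [htinv]

end Cfsg.Agent.S4061
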