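import Cfsg.Statements.S4062
import Mathlib
import Cfsg.Agent.Lib.Solvable.Basic
import Cfsg.Agent.Lib.Transfer.Basic

set_option autoImplicit false
set_option linter.style.haveILetI false

namespace Cfsg.Agent.S4062Aux

open Cfsg.Agent
open scoped commutatorElement

universe u

/-- All elements of the same order are conjugate. -/
def OC (G : Type*) [Group G] : Prop := ∀ x y : G, orderOf x = orderOf y → IsConj x y

lemma card_le_two_of_comm {G : Type*} [Group G] [Finite G] (h : OC G) (hc : ∀ a b : G, a * b = b * a) :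
    Nat.card G ≤ 2 := by
  classical
  haveI := Fintype.ofFinite G
  rw [Nat.card_eq_fintype_card]
  by_contra hlt
  push Not at hlt
  obtain ⟨a, b, c, -, -, -, hab, hac, hbc⟩ := Finset.two_lt_card_iff.1 (by simpa using hlt : 2 < (Finset.univ : Finset G).card)
  have heq : ∀ x y : G, orderOf x = orderOf y → x = y := by
    intro x y hxy
    obtain ⟨g, hg⟩ := isConj_iff.1 (h x y hxy)
    rw [hc g x, mul_inv_cancel_right] at hg
    exact hg
  have hsq : ∀ x : G, x ≠ 1 → orderOf x = 2 := by
    intro x hx
    refine orderOf_eq_prime ?_ hx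
    rw [pow_two]
    exact mul_eq_one_iff_eq_inv.2 (heq x x⁻¹ (orderOf_inv x).symm)
  by_cases ha : a = 1
  · subst ha
    exact hbc (heq b c (by rw [hsq b (Ne.symm hab), hsq c (Ne.symm hac)]))
  · by_cases hb : b = 1
    · subst hb
      exact hac (heq a c (by rw [hsq a ha, hsq c (Ne.symm hbc)]))
    · exact hab (heq a b (by rw [hsq a ha, hsq b hb]))

lemma OC.quotient {G : Type*} [Group G] [Finite G] (h : OC G) (N : Subgroup G) [N.Normal] {p : ℕ}
    (hp : p.Prime) (hexp : ∀ x ∈ N, x ^ p = 1) (hall : ∀ x : G, orderOf x = p → x ∈ N) : OC (G ⧸ N) := by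
  have key : ∀ v : G ⧸ N, ∃ g : G, (g : G ⧸ N) = v ∧
      orderOf g = if p ∣ orderOf v then orderOf v * p else orderOf v := by
    intro v
    obtain ⟨g, rfl⟩ := QuotientGroup.mk'_surjective N v
    set m := orderOf (g : G ⧸ N) with hm
    have hmpos : 0 < m := orderOf_pos _
    have hgm : g ^ m ∈ N := by
      rw [← QuotientGroup.eq_one_iff, QuotientGroup.mk_pow, hm, pow_orderOf_eq_one]
    have hgmp : g ^ (m * p) = 1 := by rw [pow_mul]; exact hexp _ hgm
    by_cases hpm : p ∣ m
    · refine ⟨g, rfl, ?_⟩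
      rw [QuotientGroup.mk'_apply, ← hm, if_pos hpm]
      refine Nat.dvd_antisymm (orderOf_dvd_of_pow_eq_one hgmp) ?_
      obtain ⟨c, hc⟩ : m ∣ orderOf g := orderOf_map_dvd (QuotientGroup.mk' N) g
      rw [hc]
      refine Nat.mul_dvd_mul_left m ?_
      by_contra hpc
      have hc1 : c = 1 := by
        have h1 : m * c ∣ m * p := hc ▸ orderOf_dvd_of_pow_eq_one hgmp
        rcases hp.eq_one_or_self_of_dvd c ((Nat.mul_dvd_mul_iff_left hmpos).1 h1) with h2 | h2
        · exact h2
        · exact absurd h2.symm.dvd hpc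
      rw [hc1, mul_one] at hc
      have hmem : g ^ (m / p) ∈ N := by
        refine hall _ ?_
        rw [orderOf_pow_of_dvd (Nat.div_pos (Nat.le_of_dvd hmpos hpm) hp.pos).ne'
          (hc.symm ▸ Nat.div_dvd_of_dvd hpm), hc, Nat.div_div_self hpm hmpos.ne']
      rw [← QuotientGroup.eq_one_iff, QuotientGroup.mk_pow, ← orderOf_dvd_iff_pow_eq_one, ← hm] at hmem
      exact absurd (Nat.le_of_dvd (Nat.div_pos (Nat.le_of_dvd hmpos hpm) hp.pos) hmem)
        (not_le.2 (Nat.div_lt_self hmpos hp.one_lt))
    · have hco : p.Coprime m := hp.coprime_iff_not_dvd.2 hpm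
      obtain ⟨e, he1, he2⟩ : ∃ e : ℕ, e ≡ 1 [MOD m] ∧ e ≡ 0 [MOD p] :=
        ⟨_, (Nat.chineseRemainder hco.symm 1 0).2⟩
      have hge : ((g ^ e : G) : G ⧸ N) = (g : G ⧸ N) := by
        rw [QuotientGroup.mk_pow]
        conv_rhs => rw [← pow_one (g : G ⧸ N)]
        exact pow_eq_pow_iff_modEq.2 he1
      refine ⟨g ^ e, hge, ?_⟩
      rw [QuotientGroup.mk'_apply, ← hm, if_neg hpm]
      refine Nat.dvd_antisymm (orderOf_dvd_of_pow_eq_one ?_) ?_
      · rw [← pow_mul]
        obtain ⟨d, hd⟩ := Nat.modEq_zero_iff_dvd.1 he2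
        rw [hd, show p * d * m = m * p * d by ring, pow_mul, hgmp, one_pow]
      · have := orderOf_map_dvd (QuotientGroup.mk' N) (g ^ e)
        rw [QuotientGroup.mk'_apply, hge, ← hm] at this
        exact this
  intro u v huv
  obtain ⟨a, rfl, ha⟩ := key u
  obtain ⟨b, rfl, hb⟩ := key v
  exact (QuotientGroup.mk' N).map_isConj (h a b (by rw [ha, hb, huv]))

lemma equiv_perm_three {G : Type*} [Group G] [Finite G] (h6 : Nat.card G = 6)
    (hnc : ¬ ∀ a b : G, a * b = b * a) : Nonempty (G ≃* Equiv.Perm (Fin 3)) := by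
  classical
  haveI : Fact (2 : ℕ).Prime := ⟨Nat.prime_two⟩
  obtain ⟨t, ht⟩ := exists_prime_orderOf_dvd_card' (G := G) 2 (by rw [h6]; norm_num)
  set T := Subgroup.zpowers t with hT
  have hTc : Nat.card T = 2 := by rw [hT, Nat.card_zpowers, ht]
  have hidx : T.index = 3 := by
    have := T.card_mul_index; rw [hTc, h6] at this; omega
  have hTn : ¬ T.Normal := by
    intro hn
    apply hnc
    -- `T` is central with cyclic quotient
    have hcen : T ≤ Subgroup.center G := by
      intro z hz
      rw [Subgroup.mem_center_iff]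
      intro g
      have hg := hn.conj_mem z hz g
      have hz2 : ∀ w ∈ T, w = 1 ∨ w = t := by
        intro w hw
        obtain ⟨k, rfl⟩ := hw
        rcases Int.even_or_odd' k with ⟨j, rfl | rfl⟩
        · left; show t ^ (2 * j) = 1; rw [zpow_mul, zpow_two, ← pow_two, ← ht, pow_orderOf_eq_one, one_zpow]
        · right; show t ^ (2 * j + 1) = t; rw [zpow_add, zpow_mul, zpow_two, ← pow_two, ← ht, pow_orderOf_eq_one, one_zpow, one_mul, zpow_one]
      rcases hz2 z hz with rfl | rfl
      · simp
      · rcases hz2 _ hg with h1 | h1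
        · rw [conj_eq_one_iff] at h1
          rw [h1, orderOf_one] at ht
          exact absurd ht (by norm_num)
        · exact mul_inv_eq_iff_eq_mul.1 h1
    haveI : Fact (3 : ℕ).Prime := ⟨Nat.prime_three⟩
    haveI := hn
    haveI : IsCyclic (G ⧸ T) := isCyclic_of_prime_card (p := 3) (by rw [← Subgroup.index_eq_card, hidx])
    intro a b
    obtain ⟨q, hq⟩ := IsCyclic.exists_generator (α := G ⧸ T)
    obtain ⟨c, rfl⟩ := QuotientGroup.mk'_surjective T q
    have key : ∀ x : G, ∃ (k : ℤ) (z : G), z ∈ Subgroup.center G ∧ x = c ^ k * z := by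
      intro x
      obtain ⟨k, hk⟩ := hq (x : G ⧸ T)
      refine ⟨k, (c ^ k)⁻¹ * x, hcen (QuotientGroup.eq.1 ?_), by group⟩
      rw [QuotientGroup.mk_zpow]; exact hk
    obtain ⟨k, y, hy, rfl⟩ := key a
    obtain ⟨l, w, hw, rfl⟩ := key b
    rw [Subgroup.mem_center_iff] at hy hw
    calc c ^ k * y * (c ^ l * w) = c ^ k * (y * c ^ l) * w := by group
      _ = c ^ l * c ^ k * (y * w) := by rw [← hy (c ^ l), ← zpow_add, add_comm, zpow_add]; group
      _ = c ^ l * c ^ k * (w * y) := by rw [← hy w]
      _ = c ^ l * (c ^ k * w) * y := by group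
      _ = _ := by rw [hw (c ^ k)]; group
  have hcore : T.normalCore = ⊥ := by
    have hle := T.normalCore_le
    have h2 : Nat.card T.normalCore ∣ 2 := hTc ▸ Subgroup.card_dvd_of_le hle
    rcases (Nat.dvd_prime Nat.prime_two).1 h2 with h | h
    · exact Subgroup.card_eq_one.1 h
    · exact absurd (Subgroup.eq_of_le_of_card_ge hle (by rw [h, hTc]) ▸ Subgroup.normalCore_normal T) hTn
  haveI := Fintype.ofFinite (G ⧸ T)
  have h3 : Fintype.card (G ⧸ T) = 3 := by rw [← Nat.card_eq_fintype_card, ← Subgroup.index_eq_card, hidx]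
  let φ : G →* Equiv.Perm (G ⧸ T) := MulAction.toPermHom G (G ⧸ T)
  have hinj : Function.Injective φ := by
    rw [← MonoidHom.ker_eq_bot_iff, ← hcore]
    exact (Subgroup.normalCore_eq_ker T).symm
  have hbij : Function.Bijective φ := by
    refine (Nat.bijective_iff_injective_and_card φ).2 ⟨hinj, ?_⟩
    rw [h6, Nat.card_perm, Nat.card_eq_fintype_card, h3]; rfl
  exact ⟨(MulEquiv.ofBijective φ hbij).trans (Equiv.permCongrHom (Fintype.equivFinOfCardEq h3))⟩

theorem main : ∀ (n : ℕ) (G : Type u) [Group G] [Finite G] [Group.IsSolvable G], Nat.card G = n → OC G →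
    n = 1 ∨ n = 2 ∨ Nonempty (G ≃* Equiv.Perm (Fin 3)) := by
  intro n
  induction n using Nat.strong_induction_on with
  | _ n ih =>
  intro G _ _ _ hcard h
  classical
  subst hcard
  rcases eq_or_ne (Nat.card G) 1 with h1 | h1
  · exact Or.inl h1
  haveI : Nontrivial G := Finite.one_lt_card_iff_nontrivial.1
    (lt_of_le_of_ne Nat.card_pos (Ne.symm h1))
  obtain ⟨N, p, hp, hNn, hN, -, hNc, hexp, -, hmin⟩ :=
    SolvBasic.exists_minimal_normal_abelian (G := G) (N := ⊤) inferInstance top_ne_bot
  haveI := hNn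
  obtain ⟨n₀, hn₀, hn₀1⟩ : ∃ x ∈ N, x ≠ 1 := by
    by_contra hc
    push Not at hc
    exact hN ((Subgroup.eq_bot_iff_forall N).2 hc)
  have hord : ∀ x ∈ N, x ≠ 1 → orderOf x = p := fun x hx hx1 =>
    haveI := Fact.mk hp
    orderOf_eq_prime (hexp x hx) hx1
  have hall : ∀ x : G, orderOf x = p → x ∈ N := by
    intro x hx
    obtain ⟨g, hg⟩ := isConj_iff.1 (h n₀ x (by rw [hx, hord n₀ hn₀ hn₀1]))
    rw [← hg]
    exact hNn.conj_mem _ hn₀ g
  haveI : Group.IsSolvable (G ⧸ N) :=
    Group.isSolvable_of_surjective (QuotientGroup.mk'_surjective N)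
  have hNcard : 1 < Nat.card N := Subgroup.one_lt_card_iff_ne_bot N |>.2 hN
  have hidxlt : Nat.card (G ⧸ N) < Nat.card G := by
    rw [Subgroup.card_eq_card_quotient_mul_card_subgroup N]
    exact lt_mul_of_one_lt_right Nat.card_pos hNcard
  -- the orbit of `n₀` is `N \ 1`
  set C := Subgroup.centralizer ({n₀} : Set G) with hC
  have hNC : N ≤ C := fun x hx => Subgroup.mem_centralizer_singleton_iff.2
    (congrArg Subtype.val (mul_comm' (⟨x, hx⟩ : N) ⟨n₀, hn₀⟩))
  have horb : C.index = Nat.card N - 1 := by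
    have h1 : MulAction.stabilizer (ConjAct G) n₀ = C.map ConjAct.toConjAct.toMonoidHom := by
      ext g
      rw [MulAction.mem_stabilizer_iff, ConjAct.smul_def]
      constructor
      · intro hg
        exact ⟨ConjAct.ofConjAct g, Subgroup.mem_centralizer_singleton_iff.2 (mul_inv_eq_iff_eq_mul.1 hg), rfl⟩
      · rintro ⟨c, hc, rfl⟩
        exact mul_inv_eq_iff_eq_mul.2 (Subgroup.mem_centralizer_singleton_iff.1 hc)
    have h2 : (MulAction.stabilizer (ConjAct G) n₀).index = C.index := by
      rw [h1]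
      exact Subgroup.index_map_equiv C ConjAct.toConjAct
    rw [← h2, MulAction.index_stabilizer]
    have : MulAction.orbit (ConjAct G) n₀ = (N : Set G) \ {1} := by
      ext x
      rw [MulAction.mem_orbit_iff]
      constructor
      · rintro ⟨g, rfl⟩
        rw [ConjAct.smul_def]
        refine ⟨hNn.conj_mem _ hn₀ _, fun e => hn₀1 ?_⟩
        exact conj_eq_one_iff.1 e
      · rintro ⟨hx, hx1⟩
        obtain ⟨g, hg⟩ := isConj_iff.1 (h n₀ x (by rw [hord n₀ hn₀ hn₀1, hord x hx hx1]))
        exact ⟨ConjAct.toConjAct g, by rw [ConjAct.smul_def]; exact hg⟩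
    rw [this, Set.ncard_sdiff_singleton_of_mem N.one_mem, ← Nat.card_coe_set_eq]
    rfl
  have hdvd : Nat.card N - 1 ∣ N.index := horb ▸ Subgroup.index_dvd_of_le hNC
  have hmul : Nat.card N * N.index = Nat.card G := N.card_mul_index
  rcases ih _ hidxlt (G ⧸ N) rfl (OC.quotient h N hp hexp hall) with hq | hq | he
  · -- `G = N` is abelian
    have hNtop : N = ⊤ := Subgroup.index_eq_one.1 (by rw [Subgroup.index_eq_card, hq])
    have hc : ∀ a b : G, a * b = b * a := fun a b => congrArg Subtype.val
      (mul_comm' (⟨a, hNtop ▸ Subgroup.mem_top a⟩ : N) ⟨b, hNtop ▸ Subgroup.mem_top b⟩)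
    have := card_le_two_of_comm h hc
    have := Finite.one_lt_card (α := G)
    exact Or.inr (Or.inl (by omega))
  · rw [← Subgroup.index_eq_card] at hq
    rw [hq] at hdvd hmul
    have hN23 : Nat.card N = 2 ∨ Nat.card N = 3 := by
      have := Nat.le_of_dvd two_pos hdvd
      omega
    rcases hN23 with h2 | h3
    · exfalso
      haveI : Fact (2 : ℕ).Prime := ⟨Nat.prime_two⟩
      have h4 : Nat.card G = 2 ^ 2 := by rw [← hmul, h2]; norm_num
      letI := IsPGroup.commGroupOfCardEqPrimeSq h4
      have := card_le_two_of_comm h (fun a b => mul_comm a b)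
      omega
    · refine Or.inr (Or.inr (equiv_perm_three (by rw [← hmul, h3]) fun hc => ?_))
      have := card_le_two_of_comm h hc
      omega
  · exfalso
    obtain ⟨e⟩ := he
    have hq : Nat.card (G ⧸ N) = 6 := by
      rw [Nat.card_congr e.toEquiv, Nat.card_perm, Nat.card_fin]; rfl
    rw [← Subgroup.index_eq_card] at hq
    rw [hq] at hdvd hmul
    have hcases : Nat.card N = 2 ∨ Nat.card N = 3 ∨ Nat.card N = 4 ∨ Nat.card N = 7 := by
      have h1 := Nat.le_of_dvd (by norm_num) hdvd
      have h2 : Nat.card N ≤ 7 := by omega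
      have key : ∀ c < 8, 1 < c → c - 1 ∣ 6 → c = 2 ∨ c = 3 ∨ c = 4 ∨ c = 7 := by decide
      exact key _ (by omega) hNcard hdvd
    haveI : Fact (3 : ℕ).Prime := ⟨Nat.prime_three⟩
    have hnab : ¬ ∀ a b : G ⧸ N, a * b = b * a := by
      intro hc
      have h1 : ∀ a b : Equiv.Perm (Fin 3), a * b = b * a := fun a b => by
        have := congrArg e (hc (e.symm a) (e.symm b))
        simpa using this
      exact absurd (h1 (Equiv.swap 0 1) (Equiv.swap 1 2)) (by decide)
    rcases hcases with hc2 | hc3 | hc4 | hc7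
    · -- order twelve
      have hG : Nat.card G = 12 := by rw [← hmul, hc2]
      obtain ⟨x, hx⟩ := exists_prime_orderOf_dvd_card' (G := G) 3 (by rw [hG]; norm_num)
      set X := Subgroup.zpowers x with hX
      set A := X ⊔ N with hA
      have hp2 : p = 2 := by
        have hd : p ∣ 2 := by
          rw [← hc2, ← hord n₀ hn₀ hn₀1]
          exact Subgroup.orderOf_dvd_natCard N hn₀
        exact (Nat.prime_dvd_prime_iff_eq hp Nat.prime_two).1 hd
      have hAidx : A.index = 2 := by
        have h1 : Nat.card A = 6 := by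
          have h2 := SolvBasic.card_sup_mul_card_inf (N := N) (H := X) (by rw [Subgroup.normalizer_eq_top]; exact le_top)
          have h3 : N ⊓ X = ⊥ := (Subgroup.disjoint_of_coprime_natCard (by rw [hc2, hX, Nat.card_zpowers, hx]; norm_num)).eq_bot
          rw [h3, Subgroup.card_bot, mul_one, hc2, hX, Nat.card_zpowers, hx, sup_comm] at h2
          exact h2
        have := A.card_mul_index
        rw [h1, hG] at this
        omega
      haveI : X.Normal := ⟨fun y hy g => by
        have hy' : g * y * g⁻¹ ∈ A := (Subgroup.normal_of_index_eq_two hAidx).conj_mem _ (Subgroup.mem_sup_left hy) g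
        obtain ⟨a, ha, z, hz, haz⟩ := Subgroup.mem_sup_of_normal_right.1 hy'
        have hy3 : ∀ w ∈ X, w ^ 3 = 1 := fun w hw => by
          have := pow_card_eq_one' (x := (⟨w, hw⟩ : X))
          rw [(Nat.card_zpowers x).trans hx] at this
          exact congrArg Subtype.val this
        have hzc : a * z = z * a := by
          obtain ⟨c, hc⟩ := (Nat.card_eq_two_iff' (1 : N)).1 hc2
          rcases eq_or_ne z 1 with rfl | hz1
          · simp
          · have hzz : a * z * a⁻¹ = z := by
              have hm : a * z * a⁻¹ ∈ N := hNn.conj_mem _ hz a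
              have h1 := hc.2 ⟨_, hm⟩ (fun e => hz1 (conj_eq_one_iff.1 (congrArg Subtype.val e)))
              have h2 := hc.2 ⟨z, hz⟩ (fun e => hz1 (congrArg Subtype.val e))
              exact congrArg Subtype.val (h1.trans h2.symm)
            exact mul_inv_eq_iff_eq_mul.1 hzz
        have hz1 : z = 1 := by
          have h1 : (g * y * g⁻¹) ^ 3 = 1 := by rw [conj_pow, hy3 y hy]; simp
          rw [← haz, (show Commute a z from hzc).mul_pow, hy3 a ha, one_mul, pow_succ,
            show z ^ 2 = 1 from hp2 ▸ hexp z hz, one_mul] at h1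
          exact h1
        rw [← haz, hz1, mul_one]
        exact ha⟩
      haveI : Fact (2 : ℕ).Prime := ⟨Nat.prime_two⟩
      have hq4 : Nat.card (G ⧸ X) = 2 ^ 2 := by
        have := X.card_mul_index
        rw [hX, Nat.card_zpowers, hx, hG] at this
        rw [← Subgroup.index_eq_card]
        rw [← hX] at this
        omega
      -- an element outside `A`
      obtain ⟨g, hg⟩ : ∃ g : G, g ∉ A := by
        by_contra hc
        push Not at hc
        rw [(eq_top_iff.2 fun y _ => hc y : A = ⊤), Subgroup.index_top] at hAidx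
        omega
      letI := IsPGroup.commGroupOfCardEqPrimeSq hq4
      obtain ⟨c, hc⟩ := isConj_iff.1 (h g g⁻¹ (orderOf_inv g).symm)
      have h1 := congrArg (QuotientGroup.mk' X) hc
      rw [map_mul, map_mul, map_inv, mul_comm (QuotientGroup.mk' X c), mul_inv_cancel_right, map_inv,
        ← mul_eq_one_iff_eq_inv, ← map_mul, QuotientGroup.mk'_apply, QuotientGroup.eq_one_iff] at h1
      have h3 : (g * g) ^ 3 = 1 := by
        have := pow_card_eq_one' (x := (⟨g * g, h1⟩ : X))
        rw [(Nat.card_zpowers x).trans hx] at this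
        exact congrArg Subtype.val this
      have h4 : g ^ 3 * g ^ 3 = 1 := by rw [← h3, ← pow_two g, ← pow_mul, ← pow_add]
      have h5 : g ^ 3 ∈ N := by
        rcases eq_or_ne (g ^ 3) 1 with h6 | h6
        · rw [h6]; exact one_mem _
        · exact hall _ (by rw [hp2]; exact orderOf_eq_prime (by rw [pow_two]; exact h4) h6)
      apply hg
      have h6 : g = g ^ 3 * (g * g)⁻¹ := by group
      rw [h6]
      exact mul_mem (Subgroup.mem_sup_right h5) (inv_mem (Subgroup.mem_sup_left h1))
    · -- order eighteen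
      have hG : Nat.card G = 18 := by rw [← hmul, hc3]
      have hp3 : p = 3 := by
        have hd : p ∣ 3 := by
          rw [← hc3, ← hord n₀ hn₀ hn₀1]
          exact Subgroup.orderOf_dvd_natCard N hn₀
        exact (Nat.prime_dvd_prime_iff_eq hp Nat.prime_three).1 hd
      obtain ⟨P⟩ : Nonempty (Sylow 3 G) := inferInstance
      have hPc : Nat.card (P : Subgroup G) = 9 := by
        rw [P.card_eq_multiplicity, hG, show (18 : ℕ) = 3 ^ 2 * 2 by norm_num,
          Nat.factorization_mul (by norm_num) (by norm_num), Nat.factorization_pow]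
        simp [Nat.Prime.factorization_self Nat.prime_three, Nat.Prime.factorization Nat.prime_two]
      obtain ⟨y, hyP, hyN⟩ := SetLike.not_le_iff_exists.1 (show ¬ (P : Subgroup G) ≤ N from fun hle => by
        have := Subgroup.card_le_of_le hle; omega)
      have hy9 : orderOf y = 9 := by
        have hd : orderOf y ∣ 3 ^ 2 := by
          have := Subgroup.orderOf_dvd_natCard (P : Subgroup G) hyP
          rw [hPc] at this; exact this
        obtain ⟨i, hi, hiy⟩ := (Nat.dvd_prime_pow Nat.prime_three).1 hd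
        have : i ≠ 0 := fun h0 => hyN (by
          rw [h0, pow_zero, orderOf_eq_one_iff] at hiy; rw [hiy]; exact one_mem _)
        have : i ≠ 1 := fun h0 => hyN (hall y (by rw [hiy, h0, hp3]; rfl))
        rw [hiy, show i = 2 by omega]; rfl
      set Y := Subgroup.zpowers y with hY
      have hYidx : Y.index = 2 := by
        have := Y.card_mul_index
        rw [hY, Nat.card_zpowers, hy9, hG] at this
        rw [← hY] at this
        omega
      have hcomm : ∀ g ∈ Y, g * y * g⁻¹ = y := by
        rintro g ⟨k, rfl⟩; group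
      obtain ⟨t, ht⟩ := isConj_iff.1 (h y (y ^ 2) (by rw [orderOf_pow, hy9]; rfl))
      obtain ⟨s, hs⟩ := isConj_iff.1 (h y (y ^ 4) (by rw [orderOf_pow, hy9]; rfl))
      have ne_of : ∀ a b : ℕ, a < 9 → b < 9 → a ≠ b → y ^ a ≠ y ^ b := fun a b ha hb hab he =>
        hab (pow_injOn_Iio_orderOf (by rw [hy9]; exact ha) (by rw [hy9]; exact hb) he)
      have htY : t ∉ Y := fun hm => ne_of 1 2 (by norm_num) (by norm_num) (by norm_num)
        (by rw [pow_one]; exact (hcomm t hm).symm.trans ht)
      have hsY : s ∉ Y := fun hm => ne_of 1 4 (by norm_num) (by norm_num) (by norm_num)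
        (by rw [pow_one]; exact (hcomm s hm).symm.trans hs)
      have hst : t⁻¹ * s ∈ Y := (Subgroup.mul_mem_iff_of_index_two hYidx).2 (by simp [htY, hsY])
      apply ne_of 2 4 (by norm_num) (by norm_num) (by norm_num)
      rw [← ht, ← hs, show s * y * s⁻¹ = t * ((t⁻¹ * s) * y * (t⁻¹ * s)⁻¹) * t⁻¹ by group, hcomm _ hst]
    · -- order twenty-four
      have hG : Nat.card G = 24 := by rw [← hmul, hc4]
      have hp2 : p = 2 := by
        have hd : p ∣ 2 ^ 2 := by
          rw [show (2 : ℕ) ^ 2 = 4 by norm_num, ← hc4, ← hord n₀ hn₀ hn₀1]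
          exact Subgroup.orderOf_dvd_natCard N hn₀
        exact (Nat.prime_dvd_prime_iff_eq hp Nat.prime_two).1 (hp.dvd_of_dvd_pow hd)
      haveI : Fact (2 : ℕ).Prime := ⟨Nat.prime_two⟩
      obtain ⟨x, hx⟩ := exists_prime_orderOf_dvd_card' (G := G) 3 (by rw [hG]; norm_num)
      have hxfix : ∀ z ∈ N, z ≠ 1 → z * x ≠ x * z := by
        intro z hz hz1 hcomm'
        obtain ⟨c, hc⟩ := isConj_iff.1 (h z n₀ (by rw [hord z hz hz1, hord n₀ hn₀ hn₀1]))
        have hcx : c * x * c⁻¹ ∈ C := by
          rw [hC, Subgroup.mem_centralizer_singleton_iff, ← hc]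
          calc c * x * c⁻¹ * (c * z * c⁻¹) = c * (x * z) * c⁻¹ := by group
            _ = c * (z * x) * c⁻¹ := by rw [hcomm']
            _ = _ := by group
        have h3 : 3 ∣ Nat.card C := by
          rw [← hx, ← MulEquiv.orderOf_eq (MulAut.conj c) x]
          exact Subgroup.orderOf_dvd_natCard C hcx
        have h4 := C.card_mul_index
        rw [horb, hc4, hG] at h4
        omega
      obtain ⟨g, hg⟩ := isConj_iff.1 (h x x⁻¹ (orderOf_inv x).symm)
      obtain ⟨u, v, huv, hu, hv, ⟨k, hk⟩, hvo⟩ := PBasic.exists_pPart_mul (p := 2) g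
      have hginv : ∀ m : ℕ, g ^ (2 * m) * x = x * g ^ (2 * m) := by
        intro m
        have h2 : Commute (g ^ 2) x := by
          show g ^ 2 * x = x * g ^ 2
          have h1 : g * x⁻¹ * g⁻¹ = x := by rw [← conj_inv, hg, inv_inv]
          calc g ^ 2 * x = g * (g * x * g⁻¹) * g⁻¹ * g ^ 2 := by rw [pow_two]; group
            _ = x * g ^ 2 := by rw [hg, h1]
        rw [pow_mul]
        exact (h2.pow_left m).eq
      -- an odd power of `g` is a 2-element inverting `x`
      obtain ⟨o, ho, hgo⟩ : ∃ o : ℕ, Odd o ∧ ∃ k, orderOf (g ^ o) = 2 ^ k := by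
        obtain ⟨j, o, ho, hord'⟩ := Nat.exists_eq_pow_mul_and_not_dvd (orderOf_pos g).ne' 2 (by norm_num)
        refine ⟨o, Nat.odd_iff.2 (Nat.two_dvd_ne_zero.1 ho), j, ?_⟩
        rw [orderOf_pow_of_dvd (by rintro rfl; exact ho (dvd_zero 2)) (hord' ▸ dvd_mul_left _ _), hord',
          Nat.mul_div_cancel _ (Nat.pos_of_ne_zero (by rintro rfl; exact ho (dvd_zero 2)))]
      set w := g ^ o with hw
      have hwx : w * x * w⁻¹ = x⁻¹ := by
        obtain ⟨m, rfl⟩ := ho
        rw [hw, pow_succ', mul_assoc g, hginv m]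
        calc g * (x * g ^ (2 * m)) * (g * g ^ (2 * m))⁻¹ = g * x * g⁻¹ := by
              rw [show g * g ^ (2 * m) = g ^ (2 * m) * g from ((Commute.refl g).pow_right _).eq]
              group
          _ = x⁻¹ := hg
      obtain ⟨j, hj⟩ := hgo
      have hw1 : w ≠ 1 := by
        intro e'
        rw [e', one_mul, inv_one, mul_one] at hwx
        have : x ^ 2 = 1 := by rw [pow_two]; exact mul_eq_one_iff_eq_inv.2 hwx
        have := orderOf_dvd_of_pow_eq_one this
        rw [hx] at this; norm_num at this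
      have hwN : w ∈ N := by
        rcases j with _ | _ | j
        · exact absurd (orderOf_eq_one_iff.1 (by simpa using hj)) hw1
        · exact hall w (by rw [hp2, hj]; rfl)
        · exfalso
          set z := w ^ 2 ^ (j + 1) with hz
          have hzo : orderOf z = 2 := by
            rw [hz, orderOf_pow_of_dvd (by positivity) (hj ▸ pow_dvd_pow 2 (Nat.le_succ _)), hj,
              Nat.pow_div (Nat.le_succ _) two_pos]
            norm_num
          refine hxfix z (hall z (by rw [hzo, hp2])) (fun e' => by rw [e', orderOf_one] at hzo; omega) ?_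
          rw [hz, hw, ← pow_mul, pow_succ', mul_left_comm]
          exact hginv _
      have h1 : x⁻¹ * x⁻¹ ∈ N := by
        have h2 : w * x * w⁻¹ * x⁻¹ ∈ N := by
          rw [mul_assoc w, mul_assoc w]
          exact mul_mem hwN (hNn.conj_mem _ (inv_mem hwN) x)
        rwa [hwx] at h2
      have h2 := hexp _ h1
      rw [hp2] at h2
      have h3 : x ^ 4 = 1 := by rw [← inv_inj, inv_one, ← h2]; group
      have := orderOf_dvd_of_pow_eq_one h3
      rw [hx] at this
      norm_num at this
    · -- order forty-two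
      apply hnab
      have hCN : C = N := by
        refine (Subgroup.eq_of_le_of_card_ge hNC ?_).symm
        have h4 := C.card_mul_index
        rw [horb, hc7, ← hmul, hc7] at h4
        omega
      haveI : Fact (7 : ℕ).Prime := ⟨by norm_num⟩
      haveI : IsCyclic N := isCyclic_of_prime_card (p := 7) hc7
      intro a b
      obtain ⟨a, rfl⟩ := QuotientGroup.mk'_surjective N a
      obtain ⟨b, rfl⟩ := QuotientGroup.mk'_surjective N b
      rw [← commutatorElement_eq_one_iff_mul_comm, ← map_commutatorElement, QuotientGroup.mk'_apply,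
        QuotientGroup.eq_one_iff, ← hCN, hC, Subgroup.mem_centralizer_singleton_iff]
      let θ : G →* MulAut N := MulAut.conjNormal
      have hco : θ (a * b * a⁻¹ * b⁻¹) = 1 := by
        rw [map_mul, map_mul, map_mul, map_inv, map_inv]
        obtain ⟨m, hm⟩ := MonoidHom.map_cyclic (θ a).toMonoidHom
        obtain ⟨l, hl⟩ := MonoidHom.map_cyclic (θ b).toMonoidHom
        have hab : θ a * θ b = θ b * θ a := by
          refine MulEquiv.ext fun z => ?_
          show θ a (θ b z) = θ b (θ a z)
          have e1 : ∀ z, θ a z = z ^ m := hm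
          have e2 : ∀ z, θ b z = z ^ l := hl
          rw [e1, e2, e2, e1, ← zpow_mul, ← zpow_mul, mul_comm]
        rw [hab, mul_inv_cancel_right, mul_inv_cancel]
      have h5 : a * b * a⁻¹ * b⁻¹ * n₀ * (a * b * a⁻¹ * b⁻¹)⁻¹ = n₀ := by
        have := congrArg (fun f : MulAut N => ((f ⟨n₀, hn₀⟩ : N) : G)) hco
        exact this
      rw [commutatorElement_def]
      exact mul_inv_eq_iff_eq_mul.1 h5

end Cfsg.Agent.S4062Aux


set_option autoImplicit false
open Cfsg

namespace Cfsg.Agent.S4062

/-- A finite solvable group in which any two elements of the same order are conjugate has order 1 or 2 or is isomorphic to the symmetric group of degree 3. -/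
theorem result {G : Type*} [Group G] [Finite G] [Group.IsSolvable G]
    (h : ∀ x y : G, orderOf x = orderOf y → IsConj x y) :
    Nat.card G = 1 ∨ Nat.card G = 2 ∨ Nonempty (G ≃* Equiv.Perm (Fin 3)) := by
  exact S4062Aux.main _ G rfl h

end Cfsg.Agent.S4062
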