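import Cfsg.Statements.S4064
import Cfsg.Agent.Lib.TICent.Complement

set_option autoImplicit false
set_option linter.style.haveILetI false
open Cfsg

namespace Cfsg.Agent.S4064

open Subgroup CASimple

/-- Let G be a finite group in which the centralizer of every element meets each of its conjugates by elements outside its normalizer trivially. Then G is nilpotent; or G is a Frobenius group with a complement that is cyclic or isomorphic to the direct product of a cyclic group of odd order and the quaternion group of order 8; or G is isomorphic to PSL₂(2ⁿ) for some n ≥ 2. -/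
theorem result {G : Type*} [Group G] [Finite G] (hTI : ∀ x : G, Cfsg.IsTISubset (Subgroup.centralizer ({x} : Set G) : Set G)) :
    Group.IsNilpotent G ∨
    (∃ H : Subgroup G, Cfsg.IsFrobeniusComplement H ∧
      (IsCyclic H ∨ ∃ m : ℕ, Odd m ∧ Nonempty (H ≃* Multiplicative (ZMod m) × QuaternionGroup 2))) ∨
    (∃ n : ℕ, 2 ≤ n ∧ Nonempty (G ≃* Matrix.ProjectiveSpecialLinearGroup (Fin 2) (GaloisField 2 n))) := by
  by_cases hZ : Subgroup.center G = ⊥
  swap
  · left
    obtain ⟨⟨z, hz⟩, hz1⟩ := Subgroup.ne_bot_iff_exists_ne_one.1 hZ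
    have hz1' : z ≠ 1 := fun e => hz1 (Subtype.ext e)
    refine TICent.nilpotent_of_normal_centralizers fun x g b hb => ?_
    have hzx : z ∈ C x := mem_C.2 (Subgroup.mem_center_iff.1 hz x).symm
    have hg : g ∈ N x := TICent.mem_N_of_meet hTI hzx hz1' (by
      rw [Subgroup.mem_center_iff.1 hz g, mul_inv_cancel_right]; exact hzx)
    exact mem_C.1 (conj_mem_of_mem_N hg (mem_C.2 hb.eq))
  rcases subsingleton_or_nontrivial G with hs | hs
  · left; infer_instance
  by_cases hF : ∃ H : Subgroup G, Cfsg.IsFrobeniusComplement H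
  · obtain ⟨H, hH⟩ := hF
    exact Or.inr (Or.inl ⟨H, hH, TICent.complement_structure hTI hH⟩)
  exact Or.inr (Or.inr (TICent.psl_case hTI hZ fun H hH => hF ⟨H, hH⟩))

end Cfsg.Agent.S4064
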