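import Cfsg.Statements.S4065
import Mathlib
import Cfsg.Agent.Lib.Classical.TwoByTwo

set_option autoImplicit false
set_option linter.style.haveILetI false

set_option autoImplicit false
open Cfsg

namespace Cfsg.Agent.S4065

/-- Let F be a finite field with 2ⁿ elements, n ≥ 2. In PSL₂(F) the centralizer of every element meets each of its conjugates by elements outside its normalizer trivially. -/
theorem result (n : ℕ) (hn : 2 ≤ n)
    (x : Matrix.ProjectiveSpecialLinearGroup (Fin 2) (GaloisField 2 n)) :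
    Cfsg.IsTISubset (Subgroup.centralizer ({x} : Set (Matrix.ProjectiveSpecialLinearGroup (Fin 2) (GaloisField 2 n))) :
      Set (Matrix.ProjectiveSpecialLinearGroup (Fin 2) (GaloisField 2 n))) := by
  classical
  haveI : CharP (GaloisField 2 n) 2 := inferInstance
  have hscal : ∀ a : Matrix.SpecialLinearGroup (Fin 2) (GaloisField 2 n),
      TwoByTwo.IsScalar a.1 → a = 1 := by
    intro a ha
    have hd : a.1 0 0 * a.1 1 1 - a.1 0 1 * a.1 1 0 = 1 := by rw [← Matrix.det_fin_two]; exact a.2
    rw [ha.1, ha.2.1, ← ha.2.2] at hd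
    have h1 : (a.1 0 0 - 1) ^ 2 = 0 := by
      rw [sub_pow_char, one_pow, sub_eq_zero, sq]
      simpa using hd
    have h2 : a.1 0 0 = 1 := sub_eq_zero.1 (pow_eq_zero_iff two_ne_zero |>.1 h1)
    apply Subtype.ext
    rw [TwoByTwo.isScalar_iff.1 ha, h2, one_smul]
    rfl
  have hinj : Function.Injective (QuotientGroup.mk' (Subgroup.center (Matrix.SpecialLinearGroup (Fin 2) (GaloisField 2 n)))) := by
    rw [← MonoidHom.ker_eq_bot_iff, QuotientGroup.ker_mk', eq_bot_iff]
    intro z hz
    obtain ⟨r, -, hr⟩ := Matrix.SpecialLinearGroup.mem_center_iff.1 hz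
    rw [Subgroup.mem_bot]
    apply hscal
    rw [← hr]
    simp [TwoByTwo.IsScalar]
  have hCA : ∀ u v w : Matrix.ProjectiveSpecialLinearGroup (Fin 2) (GaloisField 2 n), u ≠ 1 →
      u * v = v * u → u * w = w * u → v * w = w * v := by
    intro u v w hu huv huw
    obtain ⟨a, rfl⟩ := QuotientGroup.mk'_surjective _ u
    obtain ⟨b, rfl⟩ := QuotientGroup.mk'_surjective _ v
    obtain ⟨c, rfl⟩ := QuotientGroup.mk'_surjective _ w
    rw [← map_mul, ← map_mul] at huv huw ⊢
    have hns : ¬ TwoByTwo.IsScalar a.1 := fun h => hu (by rw [hscal a h, map_one])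
    obtain ⟨r, s, hb⟩ := TwoByTwo.commute_eq hns (congrArg Subtype.val (hinj huv))
    obtain ⟨r', s', hc⟩ := TwoByTwo.commute_eq hns (congrArg Subtype.val (hinj huw))
    congr 1
    apply Subtype.ext
    show b.1 * c.1 = c.1 * b.1
    rw [hb, hc, add_mul, mul_add, mul_add, add_mul, mul_add, mul_add]
    simp only [smul_mul_assoc, mul_smul_comm, one_mul, mul_one, smul_smul, mul_comm r, mul_comm s]
    abel
  intro g hg y hy hgy
  by_contra hy1
  apply hg
  rw [SetLike.mem_coe, Subgroup.mem_centralizer_singleton_iff] at hy hgy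
  rw [Subgroup.mem_normalizer_iff]
  intro h
  simp only [SetLike.mem_coe, Subgroup.mem_centralizer_singleton_iff]
  by_cases hx : x = 1
  · subst hx; simp
  have hgy1 : g * y * g⁻¹ ≠ 1 := fun e => hy1 (conj_eq_one_iff.1 e)
  constructor
  · intro hh
    have h1 : y * h = h * y := hCA x y h hx hy.symm hh.symm
    have h2 : (g * y * g⁻¹) * (g * h * g⁻¹) = (g * h * g⁻¹) * (g * y * g⁻¹) := by
      simp only [mul_assoc, inv_mul_cancel_left]
      rw [← mul_assoc y, h1, mul_assoc]
    exact hCA _ _ _ hgy1 h2 hgy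
  · intro hh
    have h1 : (g * y * g⁻¹) * (g * h * g⁻¹) = (g * h * g⁻¹) * (g * y * g⁻¹) :=
      hCA x _ _ hx hgy.symm hh.symm
    have h2 : y * h = h * y := by
      have := congrArg (fun z => g⁻¹ * z * g) h1
      simpa [mul_assoc] using this
    exact hCA y h x hy1 h2 hy

end Cfsg.Agent.S4065
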