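import Cfsg.Statements.S4066
import Mathlib.GroupTheory.Sylow
import Mathlib.GroupTheory.PGroup

set_option autoImplicit false
set_option linter.style.haveILetI false

set_option autoImplicit false
open Cfsg

namespace Cfsg.Agent.S4066

/-- Let G be a finite group in which the centralizer of every element meets each of its conjugates by elements outside its normalizer trivially. Then any two distinct Sylow p-subgroups of G, for any prime p, intersect trivially. -/
theorem result {G : Type*} [Group G] [Finite G] (hTI : ∀ x : G, Cfsg.IsTISubset (Subgroup.centralizer ({x} : Set G) : Set G))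
    {p : ℕ} [Fact p.Prime] (P Q : Sylow p G) (hPQ : P ≠ Q) : (P : Subgroup G) ⊓ (Q : Subgroup G) = ⊥ := by
  classical
  have hp : p.Prime := Fact.out
  by_contra hne
  obtain ⟨x, hx, hx1⟩ : ∃ x ∈ (P : Subgroup G) ⊓ (Q : Subgroup G), x ≠ 1 := by
    by_contra h
    exact hne ((Subgroup.eq_bot_iff_forall _).2 fun y hy => by
      by_contra hy1; exact h ⟨y, hy, hy1⟩)
  obtain ⟨hxP, hxQ⟩ := Subgroup.mem_inf.1 hx
  haveI hPnt : Nontrivial (P : Subgroup G) := ⟨⟨⟨x, hxP⟩, 1, fun h => hx1 (congrArg Subtype.val h)⟩⟩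
  haveI := P.isPGroup'.center_nontrivial
  obtain ⟨z', hz'⟩ := exists_ne (1 : Subgroup.center (P : Subgroup G))
  set z : G := ((z' : (P : Subgroup G)) : G) with hzdef
  have hz1 : z ≠ 1 := fun h => hz' (Subtype.ext (Subtype.ext h))
  have hzP : ∀ w ∈ (P : Subgroup G), z * w = w * z := fun w hw =>
    (congrArg Subtype.val (Subgroup.mem_center_iff.1 z'.2 ⟨w, hw⟩)).symm
  set K := Subgroup.centralizer ({z} : Set G) with hK
  have hmemC : ∀ a b : G, a ∈ Subgroup.centralizer ({b} : Set G) ↔ b * a = a * b := fun a b => by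
    simp [Subgroup.mem_centralizer_iff]
  have hPK : (P : Subgroup G) ≤ K := fun w hw => (hmemC w z).2 (hzP w hw)
  -- anything moving a nontrivial element of a centraliser into it normalises it
  have hmove : ∀ (a g y : G), y ∈ Subgroup.centralizer ({a} : Set G) → y ≠ 1 →
      g * y * g⁻¹ ∈ Subgroup.centralizer ({a} : Set G) →
      g ∈ Subgroup.normalizer (Subgroup.centralizer ({a} : Set G) : Set G) := by
    intro a g y hy hy1 hgy
    by_contra hg
    exact hy1 (hTI a g hg y hy hgy)
  -- the conjugating element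
  obtain ⟨g, hg⟩ := MulAction.exists_smul_eq G P Q
  have hQmem : ∀ w : G, w ∈ (Q : Subgroup G) ↔ g⁻¹ * w * g ∈ (P : Subgroup G) := by
    intro w
    rw [← hg, Sylow.coe_subgroup_smul, Subgroup.mem_pointwise_smul_iff_inv_smul_mem]
    simp [MulAut.smul_def, mul_assoc]
  have hgN : g ∈ Subgroup.normalizer (K : Set G) := by
    refine hmove z g (g⁻¹ * x * g) (hPK ((hQmem x).1 hxQ)) ?_ ?_
    · intro h; exact hx1 (by simpa [mul_assoc] using congrArg (fun t => g * t * g⁻¹) h)
    · simpa [mul_assoc] using hPK hxP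
  have hQK : (Q : Subgroup G) ≤ K := fun w hw => by
    have := (Subgroup.mem_normalizer_iff.1 hgN _).1 (hPK ((hQmem w).1 hw))
    simpa [mul_assoc] using this
  -- every centraliser of an element of `P` is normalised by `K`
  have hnorm : ∀ y ∈ (P : Subgroup G), ∀ k ∈ K,
      k ∈ Subgroup.normalizer (Subgroup.centralizer ({y} : Set G) : Set G) := by
    intro y hy k hk
    have hzy : z ∈ Subgroup.centralizer ({y} : Set G) := (hmemC z y).2 (hzP y hy).symm
    refine hmove y k z hzy hz1 ?_
    rw [← (hmemC k z).1 hk, mul_inv_cancel_right]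
    exact hzy
  have hinside : ∀ y ∈ (P : Subgroup G), ∀ k ∈ K, k * y * k⁻¹ ∈ (P : Subgroup G) := by
    intro y hy k hk
    let C := Subgroup.centralizer ({y} : Set G)
    let A : Subgroup G :=
      { carrier := {a | a ∈ C ∧ (∀ b ∈ C, a * b = b * a) ∧ ∃ i : ℕ, a ^ p ^ i = 1}
        one_mem' := ⟨C.one_mem, fun b _ => by rw [one_mul, mul_one], 0, one_pow _⟩
        mul_mem' := by
          rintro a b ⟨ha, hac, i, hi⟩ ⟨hb, hbc, j, hj⟩
          refine ⟨C.mul_mem ha hb, fun c hc => ?_, i + j, ?_⟩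
          · rw [mul_assoc, hbc c hc, ← mul_assoc, hac c hc, mul_assoc]
          · rw [(show Commute a b from hac b hb).mul_pow, pow_add, pow_mul, hi, one_pow, one_mul,
              mul_comm, pow_mul, hj, one_pow]
        inv_mem' := by
          rintro a ⟨ha, hac, i, hi⟩
          exact ⟨C.inv_mem ha, fun c hc => ((show Commute a c from hac c hc).inv_left).eq, i,
            by rw [inv_pow, hi, inv_one]⟩ }
    have hAK : ∀ k ∈ K, ∀ a ∈ A, k * a * k⁻¹ ∈ A := by
      rintro k hk a ⟨ha, hac, i, hi⟩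
      have hkN := Subgroup.mem_normalizer_iff.1 (hnorm y hy k hk)
      refine ⟨(hkN a).1 ha, fun b hb => ?_, i, by rw [conj_pow, hi, mul_one, mul_inv_cancel]⟩
      have hb' : k⁻¹ * b * k ∈ C := (hkN _).2 (by simpa [mul_assoc] using hb)
      calc k * a * k⁻¹ * b = k * (a * (k⁻¹ * b * k)) * k⁻¹ := by group
        _ = k * ((k⁻¹ * b * k) * a) * k⁻¹ := by rw [hac _ hb']
        _ = b * (k * a * k⁻¹) := by group
    have hAp : IsPGroup p A := fun a => by
      obtain ⟨-, -, i, hi⟩ := a.2
      exact ⟨i, Subtype.ext (by simpa using hi)⟩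
    have hPA : (P : Subgroup G) ≤ Subgroup.normalizer (A : Set G) := by
      intro w hw
      rw [Subgroup.mem_normalizer_iff]
      intro a
      refine ⟨fun ha => hAK w (hPK hw) a ha, fun ha => ?_⟩
      have := hAK w⁻¹ (K.inv_mem (hPK hw)) _ ha
      simpa [mul_assoc] using this
    have hsup : IsPGroup p ↥((P : Subgroup G) ⊔ A) := P.isPGroup'.to_sup_of_normal_right' hAp hPA
    have hyA : y ∈ A := by
      obtain ⟨i, hi⟩ := P.isPGroup' ⟨y, hy⟩
      exact ⟨(hmemC y y).2 rfl, fun b hb => (hmemC b y).1 hb, i, by simpa using congrArg Subtype.val hi⟩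
    rw [← P.is_maximal' hsup le_sup_left]
    exact Subgroup.mem_sup_right (hAK k hk y hyA)
  -- conjugate inside `K`
  obtain ⟨⟨k, hk⟩, hkQ⟩ := MulAction.exists_smul_eq K (P.subtype hPK) (Q.subtype hQK)
  refine hPQ (Sylow.ext ?_).symm
  refine Subgroup.eq_of_le_of_card_ge (fun w hw => ?_) (le_of_eq (by rw [P.card_eq_multiplicity, Q.card_eq_multiplicity]))
  have hw' : (⟨w, hQK hw⟩ : K) ∈ ((Q.subtype hQK : Sylow p K) : Subgroup K) := by
    simpa [Sylow.subtype, Sylow.comapOfInjective, Sylow.comapOfKerIsPGroup, Subgroup.mem_subgroupOf] using hw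
  rw [← hkQ, Sylow.coe_subgroup_smul, Subgroup.mem_pointwise_smul_iff_inv_smul_mem] at hw'
  have hw'' : k⁻¹ * w * k ∈ (P : Subgroup G) := by
    simpa [MulAut.smul_def, Sylow.subtype, Sylow.comapOfInjective, Sylow.comapOfKerIsPGroup, Subgroup.mem_subgroupOf, mul_assoc] using hw'
  simpa [mul_assoc] using hinside _ hw'' k hk

end Cfsg.Agent.S4066
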