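import Cfsg.Statements.S4070
import Cfsg.Agent.Lib.StabDL.OddMain

set_option autoImplicit false
open Cfsg

namespace Cfsg.Agent.S4070

open Cfsg.Agent.StabDL
open scoped commutatorElement

universe u v

private theorem lift_data {G : Type u} {V : Type v} [Group G] {p : ℕ} [Fact p.Prime] [AddCommGroup V]
    [Module (ZMod p) V] [DistribMulAction G V] [FaithfulSMul G V]
    (hcr : ∀ W : Submodule (ZMod p) V, (∀ (g : G) (w : V), w ∈ W → g • w ∈ W) →
      ∃ W' : Submodule (ZMod p) V, (∀ (g : G) (w : V), w ∈ W' → g • w ∈ W') ∧ IsCompl W W') :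
    ∃ ρ : ULift.{v} G →* Module.End (ZMod p) (ULift.{u} V), Function.Injective ρ ∧
      (∀ (g : ULift.{v} G) (x : ULift.{u} V), (ρ g x).down = g.down • x.down) ∧
      ∀ W : Submodule (ZMod p) (ULift.{u} V), (∀ g, ∀ w ∈ W, ρ g w ∈ W) →
        ∃ W' : Submodule (ZMod p) (ULift.{u} V), (∀ g, ∀ w ∈ W', ρ g w ∈ W') ∧ IsCompl W W' := by
  let e : ULift.{u} V ≃ₗ[ZMod p] V := ULift.moduleEquiv
  let ρ : ULift.{v} G →* Module.End (ZMod p) (ULift.{u} V) :=
    { toFun := fun g => AddMonoidHom.toZModLinearMap p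
        (AddMonoidHom.mk' (fun x : ULift.{u} V => ULift.up (g.down • x.down)) fun x y => by
          apply ULift.ext
          exact smul_add g.down x.down y.down)
      map_one' := LinearMap.ext fun x => ULift.ext _ _ (one_smul G x.down)
      map_mul' := fun g h => LinearMap.ext fun x => ULift.ext _ _ (mul_smul g.down h.down x.down) }
  refine ⟨ρ, fun g h hgh => ULift.ext _ _ (FaithfulSMul.eq_of_smul_eq_smul fun x : V =>
    congrArg ULift.down (LinearMap.congr_fun hgh (ULift.up x))), fun g x => rfl, fun W hW => ?_⟩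
  obtain ⟨W', hW', hc⟩ := hcr (Submodule.orderIsoMapComap e W) fun g w hw => by
    obtain ⟨x, hx, rfl⟩ := hw
    exact ⟨_, hW (ULift.up g) x hx, rfl⟩
  refine ⟨(Submodule.orderIsoMapComap e).symm W', fun g w hw => hW' g.down w.down hw, ?_⟩
  rw [(Submodule.orderIsoMapComap e).isCompl_iff, OrderIso.apply_symm_apply]
  exact hc

private theorem stab_transfer {G : Type u} {V : Type v} [Group G] {p : ℕ} [Fact p.Prime] [AddCommGroup V]
    [Module (ZMod p) V] [DistribMulAction G V] {ρ : ULift.{v} G →* Module.End (ZMod p) (ULift.{u} V)}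
    (hρ : ∀ (g : ULift.{v} G) (x : ULift.{u} V), (ρ g x).down = g.down • x.down) {n : ℕ} (x : ULift.{u} V)
    (h : DL (stab ρ x) n) : DL (MulAction.stabilizer G x.down) n :=
  h.of_injective
    (((MulEquiv.ulift : ULift.{v} G ≃* G).symm.toMonoidHom.comp (MulAction.stabilizer G x.down).subtype).codRestrict _
      fun g => (mem_stab ρ).2 (ULift.ext _ _ ((hρ _ x).trans (MulAction.mem_stabilizer_iff.1 g.2))))
    fun _ _ e => Subtype.ext (congrArg (fun z : stab ρ x => (z : ULift.{v} G).down) e)

/-- Let G be a finite solvable group acting faithfully by additive automorphisms on a finite vector space V over the field with p elements, completely reducibly (every G-invariant subspace has a G-invariant complement). Then some vector v ∈ V has stabilizer C_G(v) of derived length at most 9; and if both #G and p are odd, some vector has abelian stabilizer. -/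
theorem result {G V : Type*} [Group G] [Finite G] [Group.IsSolvable G]
    {p : ℕ} [Fact p.Prime] [AddCommGroup V] [Module (ZMod p) V] [Finite V] [DistribMulAction G V] [FaithfulSMul G V]
    (hcr : ∀ W : Submodule (ZMod p) V, (∀ (g : G) (w : V), w ∈ W → g • w ∈ W) →
      ∃ W' : Submodule (ZMod p) V, (∀ (g : G) (w : V), w ∈ W' → g • w ∈ W') ∧ IsCompl W W') :
    (∃ v : V, derivedSeries ↥(MulAction.stabilizer G v) 9 = ⊥) ∧
    (Odd (Nat.card G) → p ≠ 2 → ∃ v : V, IsMulCommutative ↥(MulAction.stabilizer G v)) := by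
  obtain ⟨ρ, hρ, hap, hcr'⟩ := lift_data (G := G) hcr
  have : Finite (ULift G) := Finite.of_equiv G Equiv.ulift.symm
  have hsol : Group.IsSolvable (ULift G) :=
    Group.isSolvable_of_surjective (f := (MulEquiv.ulift : ULift G ≃* G).symm.toMonoidHom) MulEquiv.ulift.symm.surjective
  refine ⟨?_, fun hodd hp2 => ?_⟩
  · obtain ⟨x, hx⟩ := cr_nine ρ hρ hsol hcr'
    exact ⟨x.down, stab_transfer hap x hx⟩
  · obtain ⟨x, hx⟩ := cr_odd ρ hρ hsol (by rwa [Nat.card_congr Equiv.ulift]) hp2 hcr'
    refine ⟨x.down, ⟨⟨fun a b => commutatorElement_eq_one_iff_mul_comm.1 ?_⟩⟩⟩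
    have h := stab_transfer hap x hx
    have hm : ⁅a, b⁆ ∈ derivedSeries (MulAction.stabilizer G x.down) 1 := by
      rw [derivedSeries_one, commutator_def]
      exact Subgroup.commutator_mem_commutator (Subgroup.mem_top a) (Subgroup.mem_top b)
    rwa [h, Subgroup.mem_bot] at hm

end Cfsg.Agent.S4070
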