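import Cfsg.Statements.S4071
import Mathlib
import Cfsg.Agent.Lib.Components.Fitting
import Cfsg.Agent.Lib.Solvable.NilpotentFrattini

set_option autoImplicit false
set_option linter.style.haveILetI false

namespace Cfsg.Agent.S4071

open Cfsg.Agent
open scoped commutatorElement

variable {G : Type*} [Group G] [Finite G]

lemma exists_coprime_pow {p : ℕ} (hp : p.Prime) {d : ℕ} (hd : d ≠ 0) :
    ∃ e f : ℕ, d = p ^ e * f ∧ ¬ p ∣ f := by
  obtain ⟨e, f, hf, he⟩ := Nat.exists_eq_pow_mul_and_not_dvd hd p hp.ne_one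
  exact ⟨e, f, he, hf⟩

theorem forward [Group.IsSolvable G] (hnn : ¬ Group.IsNilpotent G)
    (h : ∀ H : Subgroup G, ¬ IsMulCommutative H → Subgroup.normalizer (H : Set G) = H) :
    ∃ (x : G) (A : Subgroup G) (p : ℕ), p.Prime ∧ A.Normal ∧ IsMulCommutative A ∧
      (∃ k : ℕ, orderOf x = p ^ k) ∧ ¬ p ∣ Nat.card A ∧ (Subgroup.zpowers x).IsComplement' A ∧
      x ^ p ∈ Subgroup.center G ∧ ∀ a : G, a ∈ A → a ≠ 1 → x * a * x⁻¹ ≠ a := by
  haveI : Nontrivial G := by
    by_contra hc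
    rw [not_nontrivial_iff_subsingleton] at hc
    exact hnn inferInstance
  have hnorm : ∀ H : Subgroup G, H.Normal → H ≠ ⊤ → IsMulCommutative H := fun H hH hne => by
    by_contra hc
    exact hne (by rw [← h H hc]; exact Subgroup.normalizer_eq_top_iff.2 hH)
  have hG' : commutator G ≠ ⊤ := (Group.IsSolvable.commutator_lt_top_of_nontrivial G).ne
  obtain ⟨M, hM, hG'M⟩ : ∃ M : Subgroup G, IsCoatom M ∧ commutator G ≤ M := by
    rcases eq_top_or_exists_le_coatom (commutator G) with h1 | h1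
    · exact absurd h1 hG'
    · exact h1
  have hcoatn : ∀ M' : Subgroup G, commutator G ≤ M' → M'.Normal := fun M' hle =>
    ⟨fun n hn g => by
      have h1 : ⁅g, n⁆ ∈ M' :=
        hle (Subgroup.commutator_mem_commutator (Subgroup.mem_top g) (Subgroup.mem_top n))
      have h2 : g * n * g⁻¹ = ⁅g, n⁆ * n := by rw [commutatorElement_def, inv_mul_cancel_right]
      rw [h2]; exact mul_mem h1 hn⟩
  haveI hMn := hcoatn M hG'M
  haveI hMc := hnorm M hMn hM.1
  have huniq : ∀ M' : Subgroup G, IsCoatom M' → commutator G ≤ M' → M' = M := by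
    intro M' hM' hle
    by_contra hne
    haveI := hcoatn M' hle
    haveI := hnorm M' (hcoatn M' hle) hM'.1
    have htop : M ⊔ M' = ⊤ := by
      refine hM.2 _ (left_lt_sup.2 fun hle' => hne ?_)
      rcases hle'.eq_or_lt with he | hlt
      · exact he
      · exact absurd (hM'.2 M hlt) hM.1
    haveI : Group.IsNilpotent M := by
      letI : CommGroup M := { (inferInstance : Group M) with mul_comm := fun a b => mul_comm' a b }
      infer_instance
    haveI : Group.IsNilpotent M' := by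
      letI : CommGroup M' := { (inferInstance : Group M') with mul_comm := fun a b => mul_comm' a b }
      infer_instance
    have := Components.isNilpotent_sup M M'
    rw [htop] at this
    exact hnn ((Group.isNilpotent_congr (Subgroup.topEquiv (G := G))).1 this)
  -- the index of `M` is prime
  have hidx : M.index.Prime := by
    have hne : M.index ≠ 1 := fun h1 => hM.1 (Subgroup.index_eq_one.1 h1)
    obtain ⟨q, hq, hqd⟩ := Nat.exists_prime_and_dvd hne
    haveI := Fact.mk hq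
    obtain ⟨z, hz⟩ := exists_prime_orderOf_dvd_card' (G := G ⧸ M) q (by rwa [← Subgroup.index_eq_card])
    set L := (Subgroup.zpowers z).comap (QuotientGroup.mk' M)
    have hML : M ≤ L := fun x hx => by
      show QuotientGroup.mk' M x ∈ Subgroup.zpowers z
      rw [QuotientGroup.mk'_apply, (QuotientGroup.eq_one_iff x).2 hx]; exact one_mem _
    rcases hML.eq_or_lt with he | hlt
    · exfalso
      have h1 := QuotientGroup.map_mk'_self M
      conv_lhs at h1 => arg 2; rw [he]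
      rw [Subgroup.map_comap_eq_self_of_surjective (QuotientGroup.mk'_surjective M),
        Subgroup.zpowers_eq_bot] at h1
      rw [h1, orderOf_one] at hz
      exact hq.ne_one hz.symm
    · have h1 := congrArg (Subgroup.map (QuotientGroup.mk' M)) (hM.2 L hlt)
      rw [Subgroup.map_comap_eq_self_of_surjective (QuotientGroup.mk'_surjective M),
        Subgroup.map_top_of_surjective _ (QuotientGroup.mk'_surjective M)] at h1
      rw [Subgroup.index_eq_card, ← Subgroup.card_top (G := G ⧸ M), ← h1, Nat.card_zpowers, hz]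
      exact hq
  set p := M.index with hp
  haveI := Fact.mk hidx
  -- a `p`-element outside `M`
  obtain ⟨g, hg⟩ : ∃ g, g ∉ M := by
    by_contra hc
    push Not at hc
    exact hM.1 (eq_top_iff.2 fun g _ => hc g)
  obtain ⟨e, f, hef, hf⟩ := exists_coprime_pow hidx (orderOf_pos g).ne'
  set x := g ^ f with hx
  have hxord : orderOf x = p ^ e := by
    have hf0 : f ≠ 0 := fun h0 => hf (h0 ▸ dvd_zero p)
    rw [hx, orderOf_pow_of_dvd hf0 (hef ▸ dvd_mul_left f _), hef,
      Nat.mul_div_cancel _ (Nat.pos_of_ne_zero hf0)]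
  have hxM : x ∉ M := by
    intro hc
    apply hg
    have h1 : g ^ p ∈ M := hp ▸ Subgroup.pow_index_mem M g
    obtain ⟨a, b, hab⟩ := (Nat.prime_iff_prime_int.1 hidx).coprime_iff_not_dvd.2
      (fun hd => hf (Int.natCast_dvd_natCast.1 hd))
    have h2 : g = (g ^ p) ^ a * x ^ b := by
      rw [hx, ← zpow_natCast g p, ← zpow_natCast g f, ← zpow_mul, ← zpow_mul, ← zpow_add,
        mul_comm (p : ℤ) a, mul_comm (f : ℤ) b, hab, zpow_one]
    rw [h2]
    exact mul_mem (zpow_mem h1 a) (zpow_mem hc b)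
  have htop : commutator G ⊔ Subgroup.zpowers x = ⊤ := by
    rcases eq_top_or_exists_le_coatom (commutator G ⊔ Subgroup.zpowers x) with h1 | ⟨M', hM', hle⟩
    · exact h1
    · have := huniq M' hM' (le_sup_left.trans hle)
      exact absurd (this ▸ hle (Subgroup.mem_sup_right (Subgroup.mem_zpowers x))) hxM
  have htopM : M ⊔ Subgroup.zpowers x = ⊤ :=
    eq_top_iff.2 (htop ▸ sup_le_sup_right hG'M _)
  -- the `p'`-part of `M`
  let A : Subgroup G :=
    { carrier := {a | a ∈ M ∧ ¬ p ∣ orderOf a}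
      one_mem' := ⟨one_mem M, by rw [orderOf_one]; exact hidx.not_dvd_one⟩
      mul_mem' := fun {a b} ha hb => ⟨mul_mem ha.1 hb.1, fun hd => by
        have hc : Commute a b := setLike_mul_comm ha.1 hb.1
        rcases hidx.dvd_mul.1 (hd.trans hc.orderOf_mul_dvd_mul_orderOf) with h1 | h1
        exacts [ha.2 h1, hb.2 h1]⟩
      inv_mem' := fun {a} ha => ⟨inv_mem ha.1, by rw [orderOf_inv]; exact ha.2⟩ }
  have hAM : A ≤ M := fun a ha => ha.1
  haveI hAn : A.Normal := ⟨fun a ha g => ⟨hMn.conj_mem a ha.1 g, by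
    rw [show g * a * g⁻¹ = MulAut.conj g a from rfl, MulEquiv.orderOf_eq]; exact ha.2⟩⟩
  haveI hAc : IsMulCommutative A := .of_setLike_mul_comm fun a ha b hb => setLike_mul_comm (hAM ha) (hAM hb)
  have hpA : ¬ p ∣ Nat.card A := fun hd => by
    obtain ⟨a, ha⟩ := exists_prime_orderOf_dvd_card' p hd
    rw [← Subgroup.orderOf_coe] at ha
    exact a.2.2 (ha ▸ dvd_rfl)
  have hPq : IsPGroup p (G ⧸ A) := by
    intro z
    induction z using QuotientGroup.induction_on with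
    | H g =>
      have h1 : g ^ p ∈ M := hp ▸ Subgroup.pow_index_mem M g
      obtain ⟨e', f', hef', hf'⟩ := exists_coprime_pow hidx (orderOf_pos (g ^ p)).ne'
      refine ⟨e' + 1, ?_⟩
      rw [← QuotientGroup.mk_pow, QuotientGroup.eq_one_iff]
      rw [pow_succ', pow_mul]
      refine ⟨pow_mem h1 _, ?_⟩
      rw [orderOf_pow_of_dvd (pow_ne_zero _ hidx.ne_zero) (hef' ▸ dvd_mul_right _ f'), hef',
        Nat.mul_div_cancel_left _ (pow_pos hidx.pos _)]
      exact hf'
  have hAsup : A ⊔ Subgroup.zpowers x = ⊤ := by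
    haveI := hPq.isNilpotent
    have h1 : (commutator G).map (QuotientGroup.mk' A) ≤ frattini (G ⧸ A) := by
      refine le_trans ?_ (SolvStruct.commutator_le_frattini (G ⧸ A))
      rw [commutator_def, commutator_def, Subgroup.map_commutator]
      exact Subgroup.commutator_mono le_top le_top
    have h2 : (Subgroup.zpowers x).map (QuotientGroup.mk' A) ⊔ frattini (G ⧸ A) = ⊤ := by
      refine eq_top_iff.2 ?_
      rw [← Subgroup.map_top_of_surjective _ (QuotientGroup.mk'_surjective A), ← htop, Subgroup.map_sup,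
        sup_comm]
      exact sup_le_sup_left h1 _
    have h3 := congrArg (Subgroup.comap (QuotientGroup.mk' A)) (frattini_nongenerating h2)
    rw [Subgroup.comap_top, Subgroup.comap_map_eq, QuotientGroup.ker_mk', sup_comm] at h3
    exact h3
  have hcop : (Nat.card (Subgroup.zpowers x)).Coprime (Nat.card A) := by
    rw [Nat.card_zpowers, hxord]
    exact ((hidx.coprime_iff_not_dvd.2 hpA).pow_left e)
  have hcompl : (Subgroup.zpowers x).IsComplement' A := by
    refine Subgroup.isComplement'_of_disjoint_and_mul_eq_univ (Subgroup.disjoint_of_coprime_natCard hcop) ?_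
    rw [← Subgroup.mul_normal, sup_comm, hAsup, Subgroup.coe_top]
  have hxp : x ^ p ∈ Subgroup.center G := by
    have hxpM : x ^ p ∈ M := hp ▸ Subgroup.pow_index_mem M x
    rw [Subgroup.mem_center_iff]
    intro y
    have hy : y ∈ M ⊔ Subgroup.zpowers x := htopM ▸ Subgroup.mem_top y
    obtain ⟨m, hm, z, hz, rfl⟩ := Subgroup.mem_sup_of_normal_left.1 hy
    obtain ⟨i, rfl⟩ := hz
    have c1 : Commute m (x ^ p) := setLike_mul_comm hm hxpM
    exact (c1.mul_left ((Commute.pow_self x p).symm.zpow_left i)).eq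
  refine ⟨x, A, p, hidx, hAn, hAc, ⟨e, hxord⟩, hpA, hcompl, hxp, ?_⟩
  -- fixed-point-freeness
  have hconj : ∀ a ∈ A, x * a * x⁻¹ * a⁻¹ ∈ A := fun a ha =>
    mul_mem (hAn.conj_mem a ha x) (inv_mem ha)
  let φ : A →* A := MonoidHom.mk' (fun a => ⟨x * a * x⁻¹ * (a : G)⁻¹, hconj a a.2⟩) (fun a b => by
    refine Subtype.ext ?_
    show x * ((a : G) * b) * x⁻¹ * ((a : G) * b)⁻¹ =
      x * a * x⁻¹ * (a : G)⁻¹ * (x * b * x⁻¹ * (b : G)⁻¹)
    have c1 : (x * b * x⁻¹ : G) * (a : G)⁻¹ = (a : G)⁻¹ * (x * b * x⁻¹) :=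
      setLike_mul_comm (hAn.conj_mem (b : G) b.2 x) (inv_mem a.2)
    have c2 : (b : G)⁻¹ * (a : G)⁻¹ = (a : G)⁻¹ * (b : G)⁻¹ :=
      setLike_mul_comm (inv_mem b.2) (inv_mem a.2)
    calc x * ((a : G) * b) * x⁻¹ * ((a : G) * b)⁻¹
        = x * a * x⁻¹ * ((x * b * x⁻¹) * ((b : G)⁻¹ * (a : G)⁻¹)) := by group
      _ = x * a * x⁻¹ * (((x * b * x⁻¹) * (a : G)⁻¹) * (b : G)⁻¹) := by rw [c2]; group
      _ = _ := by rw [c1]; group)
  set R := φ.range.map A.subtype with hR
  have hRA : R ≤ A := Subgroup.map_subtype_le _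
  have hRx : ∀ r ∈ R, ∀ i : ℤ, x ^ i * r * (x ^ i)⁻¹ ∈ R := by
    rintro _ ⟨_, ⟨a, rfl⟩, rfl⟩ i
    refine ⟨φ ⟨x ^ i * a * (x ^ i)⁻¹, hAn.conj_mem _ a.2 _⟩, ⟨_, rfl⟩, ?_⟩
    show x * (x ^ i * a * (x ^ i)⁻¹) * x⁻¹ * (x ^ i * a * (x ^ i)⁻¹)⁻¹ =
      x ^ i * (x * a * x⁻¹ * (a : G)⁻¹) * (x ^ i)⁻¹
    group
  haveI hRn : R.Normal := ⟨fun r hr g => by
    have hg : g ∈ Subgroup.zpowers x ⊔ A := by rw [sup_comm, hAsup]; trivial
    obtain ⟨z, hz, a, ha, rfl⟩ := Subgroup.mem_sup_of_normal_right.1 hg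
    obtain ⟨i, rfl⟩ := hz
    have c : a * r * a⁻¹ = r := by
      rw [show a * r = r * a from setLike_mul_comm ha (hRA hr), mul_inv_cancel_right]
    rw [show x ^ i * a * r * (x ^ i * a)⁻¹ = x ^ i * (a * r * a⁻¹) * (x ^ i)⁻¹ by group, c]
    exact hRx r hr i⟩
  have hG'R : commutator G ≤ R := by
    have hgen : ∀ q : G ⧸ R, ∃ i : ℤ, ∃ a ∈ A, q = QuotientGroup.mk (x ^ i * a) := by
      intro q
      induction q using QuotientGroup.induction_on with
      | H g =>
        have hg : g ∈ Subgroup.zpowers x ⊔ A := by rw [sup_comm, hAsup]; trivial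
        obtain ⟨z, hz, a, ha, rfl⟩ := Subgroup.mem_sup_of_normal_right.1 hg
        obtain ⟨i, rfl⟩ := hz
        exact ⟨i, a, ha, rfl⟩
    have hxa : ∀ a ∈ A, Commute (QuotientGroup.mk x : G ⧸ R) (QuotientGroup.mk a) := by
      intro a ha
      have h1 : x * a * x⁻¹ * a⁻¹ ∈ R := ⟨φ ⟨a, ha⟩, ⟨_, rfl⟩, rfl⟩
      show (QuotientGroup.mk x : G ⧸ R) * QuotientGroup.mk a = QuotientGroup.mk a * QuotientGroup.mk x
      rw [← QuotientGroup.mk_mul, ← QuotientGroup.mk_mul]
      have h2 : (QuotientGroup.mk (x * a * x⁻¹ * a⁻¹) : G ⧸ R) = 1 := (QuotientGroup.eq_one_iff _).2 h1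
      have h3 : x * a = x * a * x⁻¹ * a⁻¹ * (a * x) := by group
      rw [h3, QuotientGroup.mk_mul, h2, one_mul]
    rw [commutator_def, Subgroup.commutator_le]
    intro g₁ _ g₂ _
    rw [← QuotientGroup.eq_one_iff, show (QuotientGroup.mk ⁅g₁, g₂⁆ : G ⧸ R) =
      ⁅(QuotientGroup.mk g₁ : G ⧸ R), QuotientGroup.mk g₂⁆ from map_commutatorElement (QuotientGroup.mk' R) g₁ g₂,
      commutatorElement_eq_one_iff_mul_comm]
    obtain ⟨i, a, ha, e1⟩ := hgen (QuotientGroup.mk g₁)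
    obtain ⟨j, b, hb, e2⟩ := hgen (QuotientGroup.mk g₂)
    rw [e1, e2, QuotientGroup.mk_mul, QuotientGroup.mk_mul, QuotientGroup.mk_zpow, QuotientGroup.mk_zpow]
    have cab : Commute (QuotientGroup.mk a : G ⧸ R) (QuotientGroup.mk b) :=
      (show Commute a b from setLike_mul_comm ha hb).map (QuotientGroup.mk' R)
    exact (((Commute.zpow_zpow_self _ i j).mul_right ((hxa b hb).zpow_left i)).mul_left
      (((hxa a ha).zpow_left j).symm.mul_right cab)).eq
  have hAR : A ≤ R := by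
    intro a ha
    have hG'A : A ≤ commutator G := by
      intro a ha
      have hq : IsPGroup p (G ⧸ commutator G) := by
        intro z
        induction z using QuotientGroup.induction_on with
        | H g =>
          have hg : g ∈ commutator G ⊔ Subgroup.zpowers x := htop ▸ Subgroup.mem_top g
          obtain ⟨c, hc, z, hz, rfl⟩ := Subgroup.mem_sup_of_normal_left.1 hg
          obtain ⟨i, rfl⟩ := hz
          refine ⟨e, ?_⟩
          rw [QuotientGroup.mk_mul, (QuotientGroup.eq_one_iff c).2 hc, one_mul, ← QuotientGroup.mk_pow,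
            ← zpow_natCast, ← zpow_mul, mul_comm, zpow_mul, zpow_natCast, ← hxord, pow_orderOf_eq_one,
            one_zpow, QuotientGroup.mk_one]
      obtain ⟨k, hk⟩ := IsPGroup.iff_orderOf.1 hq (QuotientGroup.mk a)
      have h1 : orderOf (QuotientGroup.mk a : G ⧸ commutator G) ∣ orderOf a :=
        orderOf_map_dvd (QuotientGroup.mk' (commutator G)) a
      rw [hk] at h1
      rcases Nat.eq_zero_or_pos k with hk0 | hk0
      · rw [hk0, pow_zero, orderOf_eq_one_iff, QuotientGroup.eq_one_iff] at hk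
        exact hk
      · exact absurd ((dvd_pow_self p hk0.ne').trans h1) ha.2
    exact hG'R (hG'A ha)
  have hsurj : Function.Surjective φ := by
    intro a
    obtain ⟨b, hb, hab⟩ := hAR a.2
    obtain ⟨c, rfl⟩ := hb
    exact ⟨c, Subtype.ext hab⟩
  have hinj : Function.Injective φ := Finite.injective_iff_surjective.2 hsurj
  intro a ha ha1 hfix
  refine ha1 (congrArg Subtype.val (hinj (a₁ := ⟨a, ha⟩) (a₂ := 1) ?_))
  rw [map_one]
  refine Subtype.ext ?_
  show x * a * x⁻¹ * a⁻¹ = 1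
  rw [hfix, mul_inv_cancel]

theorem backward {x : G} {A : Subgroup G} {p k : ℕ} (hp : p.Prime) [A.Normal] [IsMulCommutative A]
    (hx : orderOf x = p ^ k) (hc : (Subgroup.zpowers x).IsComplement' A)
    (hxp : x ^ p ∈ Subgroup.center G) (hfpf : ∀ a : G, a ∈ A → a ≠ 1 → x * a * x⁻¹ ≠ a)
    (H : Subgroup G) (hH : ¬ IsMulCommutative H) : Subgroup.normalizer (H : Set G) = H := by
  have hAn : A.Normal := inferInstance
  have hdec : ∀ g : G, ∃ i : ℤ, ∃ a ∈ A, g = x ^ i * a := by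
    intro g
    have hg : g ∈ Subgroup.zpowers x ⊔ A := hc.sup_eq_top ▸ Subgroup.mem_top g
    obtain ⟨z, hz, a, ha, rfl⟩ := Subgroup.mem_sup_of_normal_right.1 hg
    obtain ⟨i, rfl⟩ := hz
    exact ⟨i, a, ha, rfl⟩
  have hxpi : ∀ i : ℤ, x ^ ((p : ℤ) * i) ∈ Subgroup.center G := fun i => by
    rw [zpow_mul, zpow_natCast]; exact zpow_mem hxp i
  obtain ⟨h, hh, i, a, ha, hha, hpi⟩ : ∃ h ∈ H, ∃ i : ℤ, ∃ a ∈ A, h = x ^ i * a ∧ ¬ (p : ℤ) ∣ i := by
    by_contra hall
    push Not at hall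
    refine hH (.of_setLike_mul_comm fun u hu v hv => ?_)
    obtain ⟨i, a, ha, rfl⟩ := hdec u
    obtain ⟨j, b, hb, rfl⟩ := hdec v
    obtain ⟨i', rfl⟩ := hall _ hu i a ha rfl
    obtain ⟨j', rfl⟩ := hall _ hv j b hb rfl
    have c1 := Subgroup.mem_center_iff.1 (hxpi i')
    have c2 := Subgroup.mem_center_iff.1 (hxpi j')
    have cab : Commute a b := setLike_mul_comm ha hb
    exact ((Commute.mul_right (show Commute (x ^ ((p : ℤ) * i')) (x ^ ((p : ℤ) * j')) from (c1 _).symm)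
      (show Commute (x ^ ((p : ℤ) * i')) b from (c1 _).symm)).mul_left
      ((show Commute a (x ^ ((p : ℤ) * j')) from c2 a).mul_right cab)).eq
  -- a generator of a cyclic complement inside `H`
  obtain ⟨u, v, huv⟩ := (Nat.prime_iff_prime_int.1 hp).coprime_iff_not_dvd.2 hpi
  have hpow : ∃ a' ∈ A, x ^ (v * i) * a' ∈ H := by
    have h1 : h ^ v ∈ H := zpow_mem hh v
    have hq : ((h ^ v : G) : G ⧸ A) = ((x ^ (v * i) : G) : G ⧸ A) := by
      rw [hha, QuotientGroup.mk_zpow, QuotientGroup.mk_mul, (QuotientGroup.eq_one_iff a).2 ha, mul_one,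
        ← QuotientGroup.mk_zpow, ← zpow_mul, mul_comm i v]
    exact ⟨(x ^ (v * i))⁻¹ * h ^ v, QuotientGroup.eq.1 hq.symm, by rw [mul_inv_cancel_left]; exact h1⟩
  obtain ⟨a', ha', hy⟩ := hpow
  set n : ℤ := v * i with hn
  have hn1 : n = 1 - (p : ℤ) * u := by rw [hn]; linear_combination huv
  have hinjn : ∀ c ∈ A, x ^ n * c * (x ^ n)⁻¹ = c → c = 1 := by
    intro c hc' hfix
    by_contra hc1
    apply hfpf c hc' hc1
    have e : x = x ^ n * x ^ ((p : ℤ) * u) := by
      rw [← zpow_add, hn1, sub_add_cancel, zpow_one]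
    have cc := Subgroup.mem_center_iff.1 (hxpi u)
    conv_lhs => rw [e]
    rw [mul_inv_rev, mul_assoc (x ^ n) (x ^ ((p : ℤ) * u)) c, ← cc c, ← mul_assoc]
    simp only [mul_assoc, mul_inv_cancel_left]
    simpa [mul_assoc] using hfix
  let ψ : A → A := fun c => ⟨(x ^ n)⁻¹ * ((c : G) * x ^ n * (c : G)⁻¹),
    by
      have h1 : (x ^ n)⁻¹ * (c : G) * (x ^ n)⁻¹⁻¹ ∈ A := hAn.conj_mem _ c.2 _
      rw [inv_inv] at h1
      rw [show (x ^ n)⁻¹ * ((c : G) * x ^ n * (c : G)⁻¹) = (x ^ n)⁻¹ * (c : G) * x ^ n * (c : G)⁻¹ by group]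
      exact mul_mem h1 (inv_mem c.2)⟩
  have hψ : Function.Injective ψ := by
    intro c d hcd
    have h1 : (x ^ n)⁻¹ * ((c : G) * x ^ n * (c : G)⁻¹) = (x ^ n)⁻¹ * ((d : G) * x ^ n * (d : G)⁻¹) :=
      congrArg Subtype.val hcd
    have h2 := mul_left_cancel h1
    have h3 : x ^ n * ((c : G)⁻¹ * d) * (x ^ n)⁻¹ = (c : G)⁻¹ * d := by
      calc x ^ n * ((c : G)⁻¹ * d) * (x ^ n)⁻¹
          = (c : G)⁻¹ * ((c : G) * x ^ n * (c : G)⁻¹) * d * (x ^ n)⁻¹ := by group
        _ = (c : G)⁻¹ * ((d : G) * x ^ n * (d : G)⁻¹) * d * (x ^ n)⁻¹ := by rw [h2]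
        _ = _ := by group
    exact Subtype.ext (inv_mul_eq_one.1 (hinjn _ (mul_mem (inv_mem c.2) d.2) h3))
  obtain ⟨b, hb⟩ := Finite.surjective_of_injective hψ ⟨a', ha'⟩
  have hb' : (x ^ n)⁻¹ * ((b : G) * x ^ n * (b : G)⁻¹) = a' := congrArg Subtype.val hb
  set x' := (b : G) * x ^ n * (b : G)⁻¹ with hx'
  have hx'H : x' ∈ H := by
    rw [← hb', mul_inv_cancel_left] at hy; exact hy
  have hfix' : ∀ c ∈ A, x' * c * x'⁻¹ = c → c = 1 := by
    intro c hc' hf
    have hbc : (b : G)⁻¹ * c * b = c := by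
      rw [show (b : G)⁻¹ * c = c * (b : G)⁻¹ from setLike_mul_comm (inv_mem b.2) hc', inv_mul_cancel_right]
    refine hinjn c hc' ?_
    calc x ^ n * c * (x ^ n)⁻¹ = x ^ n * ((b : G)⁻¹ * c * b) * (x ^ n)⁻¹ := by rw [hbc]
      _ = (b : G)⁻¹ * (x' * c * x'⁻¹) * b := by rw [hx']; group
      _ = c := by rw [hf, hbc]
  have hgen : x ∈ Subgroup.zpowers (x ^ n) := by
    have h1 : IsCoprime ((p ^ k : ℕ) : ℤ) n := by
      rw [Nat.cast_pow]
      exact IsCoprime.pow_left ⟨u, 1, by rw [hn1]; ring⟩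
    obtain ⟨s, t, hst⟩ := h1
    refine ⟨t, ?_⟩
    show (x ^ n) ^ t = x
    have h0 : x ^ ((p ^ k : ℕ) : ℤ) = 1 := by rw [zpow_natCast, ← hx, pow_orderOf_eq_one]
    have h2 : x ^ (s * ((p ^ k : ℕ) : ℤ) + t * n) = x := by rw [hst, zpow_one]
    rw [zpow_add, mul_comm s, zpow_mul, h0, one_zpow, one_mul, mul_comm t] at h2
    rw [← zpow_mul]; exact h2
  have hdec' : ∀ g : G, ∃ i : ℤ, ∃ c ∈ A, g = x' ^ i * c := by
    intro g
    obtain ⟨j, c, hc', hg⟩ := hdec g
    obtain ⟨t, ht⟩ := hgen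
    simp only at ht
    rw [← ht, ← zpow_mul] at hg
    refine ⟨t * j, (x' ^ (t * j))⁻¹ * g, ?_, (mul_inv_cancel_left _ _).symm⟩
    rw [← QuotientGroup.eq]
    rw [hg, QuotientGroup.mk_mul, (QuotientGroup.eq_one_iff c).2 hc', mul_one, hx', QuotientGroup.mk_zpow,
      QuotientGroup.mk_mul, QuotientGroup.mk_mul, QuotientGroup.mk_inv,
      (QuotientGroup.eq_one_iff (b : G)).2 b.2, one_mul, inv_one, mul_one, ← QuotientGroup.mk_zpow, ← zpow_mul]
  refine le_antisymm (fun g hg => ?_) Subgroup.le_normalizer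
  obtain ⟨j, c, hc', rfl⟩ := hdec' g
  refine mul_mem (zpow_mem hx'H j) ?_
  have hcN : c ∈ Subgroup.normalizer (H : Set G) := by
    have := mul_mem (inv_mem (zpow_mem (Subgroup.le_normalizer hx'H) j)) hg
    rwa [inv_mul_cancel_left] at this
  have hd : x'⁻¹ * (c * x' * c⁻¹) ∈ H :=
    mul_mem (inv_mem hx'H) ((Subgroup.mem_normalizer_iff.1 hcN x').1 hx'H)
  have hmemA : ∀ z ∈ A, x'⁻¹ * (z * x' * z⁻¹) ∈ A := fun z hz => by
    have h1 : x'⁻¹ * z * x'⁻¹⁻¹ ∈ A := hAn.conj_mem _ hz _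
    rw [inv_inv] at h1
    rw [show x'⁻¹ * (z * x' * z⁻¹) = x'⁻¹ * z * x' * z⁻¹ by group]
    exact mul_mem h1 (inv_mem hz)
  have hinj' : ∀ z w : G, z ∈ A → w ∈ A → x'⁻¹ * (z * x' * z⁻¹) = x'⁻¹ * (w * x' * w⁻¹) → z = w := by
    intro z w hz hw hzw
    have h2 := mul_left_cancel hzw
    refine inv_mul_eq_one.1 (hfix' _ (mul_mem (inv_mem hz) hw) ?_)
    calc x' * (z⁻¹ * w) * x'⁻¹ = z⁻¹ * (z * x' * z⁻¹) * w * x'⁻¹ := by group
      _ = z⁻¹ * (w * x' * w⁻¹) * w * x'⁻¹ := by rw [h2]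
      _ = _ := by group
  let θ : (H ⊓ A : Subgroup G) → (H ⊓ A : Subgroup G) := fun z =>
    ⟨x'⁻¹ * ((z : G) * x' * (z : G)⁻¹),
      ⟨H.mul_mem (H.inv_mem hx'H) (H.mul_mem (H.mul_mem z.2.1 hx'H) (H.inv_mem z.2.1)), hmemA _ z.2.2⟩⟩
  have hθ : Function.Injective θ := fun z w hzw =>
    Subtype.ext (hinj' _ _ z.2.2 w.2.2 (congrArg Subtype.val hzw))
  obtain ⟨z, hz⟩ := Finite.surjective_of_injective hθ ⟨_, hd, hmemA c hc'⟩
  rw [← hinj' _ _ z.2.2 hc' (congrArg Subtype.val hz)]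
  exact z.2.1

end Cfsg.Agent.S4071


set_option autoImplicit false
open Cfsg

namespace Cfsg.Agent.S4071

/-- Let G be a finite solvable non-nilpotent group. Every non-abelian subgroup of G is self-normalizing if and only if G is a semidirect product ⟨x⟩ ⋉ A in which ⟨x⟩ is a p-group for some prime p, A is a normal abelian subgroup of order prime to p, x^p is central in G, and x acts fixed-point-freely on A (no non-identity element of A commutes with x). -/
theorem result {G : Type*} [Group G] [Finite G]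
    [Group.IsSolvable G] (hnn : ¬ Group.IsNilpotent G) :
    (∀ H : Subgroup G, ¬ IsMulCommutative H → Subgroup.normalizer (H : Set G) = H) ↔
    ∃ (x : G) (A : Subgroup G) (p : ℕ), p.Prime ∧ A.Normal ∧ IsMulCommutative A ∧ (∃ k : ℕ, orderOf x = p ^ k) ∧
      ¬ p ∣ Nat.card A ∧ (Subgroup.zpowers x).IsComplement' A ∧ x ^ p ∈ Subgroup.center G ∧
      ∀ a : G, a ∈ A → a ≠ 1 → x * a * x⁻¹ ≠ a := by
  refine ⟨S4071.forward hnn, ?_⟩
  rintro ⟨x, A, p, hp, hAn, hAc, ⟨k, hk⟩, -, hc, hxp, hf⟩ H hH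
  haveI := hAn
  haveI := hAc
  exact S4071.backward hp hk hc hxp hf H hH

end Cfsg.Agent.S4071
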