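import Cfsg.Statements.S4072
import Mathlib
import Cfsg.Agent.Lib.Transfer.PGroup
import Cfsg.Agent.Lib.Transfer.Fusion

set_option autoImplicit false
set_option linter.style.haveILetI false

namespace Cfsg.Agent.S4072

open Cfsg.Agent
open scoped commutatorElement

variable {G : Type*} [Group G]

/-- In a `p`-group all of whose proper subgroups are abelian, commutators of two elements are
central of order dividing `p`. -/
lemma commutator_central [Finite G] {p : ℕ} [hp : Fact p.Prime] (hG : IsPGroup p G)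
    (hab : ∀ H : Subgroup G, H ≠ ⊤ → IsMulCommutative H) (hna : ¬ IsMulCommutative G) (a b : G) :
    ⁅a, b⁆ ∈ Subgroup.center G ∧ ⁅a, b⁆ ^ p = 1 := by
  have key : ∀ z : G, (∀ M : Subgroup G, IsCoatom M → z ∈ M) → z ∈ Subgroup.center G := by
    intro z hz
    rw [Subgroup.mem_center_iff]
    intro y
    rcases eq_top_or_exists_le_coatom (Subgroup.zpowers y) with h | ⟨M, hM, hyM⟩
    · refine absurd ⟨⟨fun u v => ?_⟩⟩ hna
      obtain ⟨i, rfl⟩ := (h ▸ Subgroup.mem_top u : u ∈ Subgroup.zpowers y)
      obtain ⟨j, rfl⟩ := (h ▸ Subgroup.mem_top v : v ∈ Subgroup.zpowers y)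
      exact ((Commute.refl y).zpow_zpow i j).eq
    · haveI := hab M hM.1
      exact congrArg Subtype.val (mul_comm' (⟨y, hyM (Subgroup.mem_zpowers y)⟩ : M) ⟨z, hz M hM⟩)
  have hc : ⁅a, b⁆ ∈ Subgroup.center G := key _ fun M hM => by
    obtain ⟨hn, hidx⟩ := PGroupBasics.index_of_isCoatom hG hM
    haveI := hn
    haveI : IsCyclic (G ⧸ M) := isCyclic_of_prime_card (p := p) (by rw [← Subgroup.index_eq_card, hidx])
    rw [← QuotientGroup.eq_one_iff, commutatorElement_def]
    have hcomm : Commute (QuotientGroup.mk' M a) (QuotientGroup.mk' M b) := by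
      obtain ⟨g, hg⟩ := IsCyclic.exists_generator (α := G ⧸ M)
      obtain ⟨i, hi⟩ := hg (QuotientGroup.mk' M a)
      obtain ⟨j, hj⟩ := hg (QuotientGroup.mk' M b)
      rw [← hi, ← hj]
      exact (Commute.refl g).zpow_zpow i j
    show QuotientGroup.mk' M (a * b * a⁻¹ * b⁻¹) = 1
    rw [map_mul, map_mul, map_mul, hcomm.eq, map_inv, map_inv]; group
  refine ⟨hc, ?_⟩
  have hbp : b ^ p ∈ Subgroup.center G := key _ fun M hM => by
    obtain ⟨hn, hidx⟩ := PGroupBasics.index_of_isCoatom hG hM
    haveI := hn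
    rw [← hidx]
    exact M.pow_index_mem b
  rw [← PGroupBasics.commutator_pow (Subgroup.mem_center_iff.1 hc b).symm, commutatorElement_def,
    Subgroup.mem_center_iff.1 hbp a, mul_inv_cancel_right, mul_inv_cancel]

lemma commutator_eq_closure [Finite G] {p : ℕ} [hp : Fact p.Prime] (hG : IsPGroup p G)
    (hab : ∀ H : Subgroup G, H ≠ ⊤ → IsMulCommutative H) (hna : ¬ IsMulCommutative G) :
    (Nat.card (commutator G)) ≤ p := by
  obtain ⟨a, b, hne⟩ : ∃ a b : G, a * b ≠ b * a := by
    by_contra h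
    push Not at h
    exact hna ⟨⟨h⟩⟩
  set c := ⁅a, b⁆
  obtain ⟨hc, hcp⟩ := commutator_central hG hab hna a b
  have hgen : Subgroup.closure {a, b} = ⊤ := by
    by_contra h
    haveI := hab _ h
    exact hne (congrArg Subtype.val (mul_comm'
      (⟨a, Subgroup.subset_closure (Set.mem_insert a _)⟩ : Subgroup.closure {a, b})
      ⟨b, Subgroup.subset_closure (Set.mem_insert_of_mem a rfl)⟩))
  set C := Subgroup.zpowers c
  haveI hCn : C.Normal := ⟨fun x hx g => by
    have h : x ∈ Subgroup.center G := Subgroup.zpowers_le.2 hc hx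
    rw [Subgroup.mem_center_iff.1 h g, mul_inv_cancel_right]; exact hx⟩
  have hle : commutator G ≤ C := by
    refine Subgroup.Normal.quotient_commutative_iff_commutator_le.1 ?_
    have hgen' : Subgroup.closure ({QuotientGroup.mk' C a, QuotientGroup.mk' C b} : Set (G ⧸ C)) = ⊤ := by
      rw [← Set.image_pair, ← MonoidHom.map_closure, hgen,
        Subgroup.map_top_of_surjective _ (QuotientGroup.mk'_surjective C)]
    have hab' : Commute (QuotientGroup.mk' C a) (QuotientGroup.mk' C b) := by
      have h : QuotientGroup.mk' C c = 1 := (QuotientGroup.eq_one_iff c).2 (Subgroup.mem_zpowers c)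
      rw [map_commutatorElement, commutatorElement_eq_one_iff_mul_comm] at h
      exact h
    have hcomm := Subgroup.isMulCommutative_closure
      (k := ({QuotientGroup.mk' C a, QuotientGroup.mk' C b} : Set (G ⧸ C))) (by
        rintro x (rfl | rfl) y (rfl | rfl)
        exacts [rfl, hab'.eq, hab'.symm.eq, rfl])
    refine ⟨⟨fun x y => ?_⟩⟩
    exact congrArg Subtype.val (hcomm.is_comm.comm (⟨x, hgen' ▸ Subgroup.mem_top x⟩ :
      Subgroup.closure ({QuotientGroup.mk' C a, QuotientGroup.mk' C b} : Set (G ⧸ C)))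
      ⟨y, hgen' ▸ Subgroup.mem_top y⟩)
  calc Nat.card (commutator G) ≤ Nat.card C := Subgroup.card_le_of_le hle
    _ = orderOf c := Nat.card_zpowers c
    _ ≤ p := Nat.le_of_dvd hp.out.pos (orderOf_dvd_of_pow_eq_one hcp)

lemma mem_of_pow_mem' {K : Subgroup G} {x : G} {i : ℕ}
    (hi : (orderOf x).Coprime i) (hx : x ^ i ∈ K) : x ∈ K := by
  obtain ⟨j, hj⟩ := exists_pow_eq_self_of_coprime hi.symm
  rw [← hj]
  exact pow_mem hx j

theorem solvable_or_simple [Finite G]
    (hS : ∀ H : Subgroup G, ¬ IsMulCommutative H → Subgroup.normalizer (H : Set G) = H) :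
    Group.IsSolvable G ∨ IsSimpleGroup G := by
  by_contra hcon
  push Not at hcon
  obtain ⟨hns, hnsimp⟩ := hcon
  haveI hnt : Nontrivial G := by
    by_contra h
    rw [not_nontrivial_iff_subsingleton] at h
    exact hns (Group.isSolvable_of_comm fun a b => Subsingleton.elim _ _)
  have hnorm : ∀ N : Subgroup G, N.Normal → N ≠ ⊤ → IsMulCommutative N := by
    intro N hN hNt
    by_contra h
    exact hNt (by rw [← hS N h, Subgroup.normalizer_eq_top_iff]; exact hN)
  -- `G` is perfect
  have hperf : commutator G = ⊤ := by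
    by_contra h
    haveI := hnorm _ inferInstance h
    refine hns ((Group.isSolvable_def G).2 ⟨2, ?_⟩)
    show ⁅derivedSeries G 1, derivedSeries G 1⁆ = ⊥
    rw [derivedSeries_one, Subgroup.commutator_eq_bot_iff_le_centralizer]
    exact (commutator G).le_centralizer
  obtain ⟨N0, hN0n, hN0⟩ : ∃ N : Subgroup G, N.Normal ∧ N ≠ ⊥ ∧ N ≠ ⊤ := by
    by_contra h
    push Not at h
    exact hnsimp ⟨fun N hN => or_iff_not_imp_left.2 (h N hN)⟩
  obtain ⟨N, ⟨hNn, hNt, hN0le⟩, hNmax⟩ := (Set.toFinite {N : Subgroup G | N.Normal ∧ N ≠ ⊤ ∧ N0 ≤ N}).exists_maximal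
    ⟨N0, hN0n, hN0.2, le_rfl⟩
  haveI := hNn
  have hNab := hnorm N hNn hNt
  have hNb : N ≠ ⊥ := fun h => hN0.1 (le_bot_iff.1 (h ▸ hN0le))
  set f := QuotientGroup.mk' N with hf
  have hfs := QuotientGroup.mk'_surjective N
  have hker : f.ker = N := QuotientGroup.ker_mk' N
  haveI : Nontrivial (G ⧸ N) := QuotientGroup.nontrivial_iff.2 hNt
  haveI hsimp : IsSimpleGroup (G ⧸ N) := ⟨fun H hH => by
    by_cases h : H.comap f = ⊤
    · right
      rw [← Subgroup.map_comap_eq_self_of_surjective hfs H, h,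
        Subgroup.map_top_of_surjective _ hfs]
    · left
      have hle : N ≤ H.comap f := hker.symm.le.trans (f.ker_le_comap H)
      have := hNmax (y := H.comap f) ⟨hH.comap f, h, hN0le.trans hle⟩ hle
      rw [← Subgroup.map_comap_eq_self_of_surjective hfs H, le_antisymm this hle]
      exact QuotientGroup.map_mk'_self N⟩
  have hqns : ¬ Group.IsSolvable (G ⧸ N) := fun h => hns (by
    haveI : Group.IsSolvable N := Group.isSolvable_of_comm fun a b => mul_comm' a b
    exact Group.isSolvable_of_ker_le_range N.subtype f (by rw [hker, Subgroup.range_subtype]))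
  -- the image of a Sylow subgroup is not abelian unless it is trivial
  have hH : ∀ (q : ℕ) [Fact q.Prime] (Q : Sylow q G),
      IsMulCommutative (N ⊔ (Q : Subgroup G) : Subgroup G) ∨
      (¬ IsMulCommutative ((Q : Subgroup G).map f) ∧
        Subgroup.normalizer ((N ⊔ (Q : Subgroup G) : Subgroup G) : Set G) = N ⊔ (Q : Subgroup G)) := by
    intro q _ Q
    set H := N ⊔ (Q : Subgroup G) with hHdef
    by_cases h : IsMulCommutative H
    · exact Or.inl h
    refine Or.inr ⟨fun hab => ?_, hS H h⟩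
    let Qb : Sylow q (G ⧸ N) := Q.mapSurjective hfs
    have hQb : (Qb : Subgroup (G ⧸ N)) = (Q : Subgroup G).map f := rfl
    have hle : Subgroup.normalizer ((Qb : Subgroup (G ⧸ N)) : Set (G ⧸ N)) ≤
        Subgroup.centralizer ((Qb : Subgroup (G ⧸ N)) : Set (G ⧸ N)) := by
      intro y hy
      obtain ⟨g, rfl⟩ := hfs y
      have hg : g ∈ Subgroup.normalizer (H : Set G) := by
        have hcom : H = ((Q : Subgroup G).map f).comap f := by
          rw [Subgroup.comap_map_eq, hker, sup_comm]
        rw [Subgroup.mem_normalizer_iff]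
        intro x
        rw [hcom, Subgroup.mem_comap, Subgroup.mem_comap, map_mul, map_mul, map_inv, ← hQb]
        exact Subgroup.mem_normalizer_iff.1 hy (f x)
      rw [hS H h] at hg
      have h3 : f g ∈ (Q : Subgroup G).map f := by
        have h2 : f g ∈ H.map f := ⟨g, hg, rfl⟩
        rwa [hHdef, Subgroup.map_sup, hf, QuotientGroup.map_mk'_self, bot_sup_eq] at h2
      haveI := hab
      exact Subgroup.le_centralizer ((Q : Subgroup G).map f) h3
    obtain ⟨P, K, hK, hKP⟩ := Fusion.hasNormalPComplement_of_normalizer_le_centralizer Qb hle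
    rcases hK.eq_bot_or_eq_top with hKb | hKb
    · subst hKb
      rw [Subgroup.isComplement'_bot_left] at hKP
      haveI := ((P.isPGroup'.of_equiv ((MulEquiv.subgroupCongr hKP).trans Subgroup.topEquiv))).isNilpotent
      exact hqns inferInstance
    · subst hKb
      rw [Subgroup.isComplement'_top_left] at hKP
      have h1 : (Qb : Subgroup (G ⧸ N)) = ⊥ := by
        rw [← Subgroup.card_eq_one, Sylow.card_eq_multiplicity, ← Sylow.card_eq_multiplicity P, hKP,
          Subgroup.card_bot]
      rw [hQb, Subgroup.map_eq_bot_iff, hker] at h1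
      refine h ?_
      rw [hHdef, sup_eq_left.2 h1]
      exact hNab
  have hproper : ∀ (q : ℕ) [Fact q.Prime] (B L : Subgroup G), IsPGroup q B → L < B → ¬ IsMulCommutative L →
      False := by
    intro q _ B L hB hlt hL
    haveI := hB.isNilpotent
    have h1 : L.subgroupOf B < ⊤ := lt_top_iff_ne_top.2 fun h => hlt.not_ge (Subgroup.subgroupOf_eq_top.1 h)
    obtain ⟨g, hg, hgn⟩ := SetLike.exists_of_lt (normalizerCondition_of_isNilpotent _ h1)
    refine hgn ?_
    show (g : G) ∈ L
    rw [← hS L hL, Subgroup.mem_normalizer_iff]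
    intro x
    constructor
    · intro hx
      exact (Subgroup.mem_normalizer_iff.1 hg ⟨x, hlt.le hx⟩).1 hx
    · intro hx
      have hxB : x ∈ B := by
        have := B.mul_mem (B.mul_mem (B.inv_mem g.2) (hlt.le hx)) g.2
        rwa [show (g : G)⁻¹ * ((g : G) * x * (g : G)⁻¹) * g = x by group] at this
      exact (Subgroup.mem_normalizer_iff.1 hg ⟨x, hxB⟩).2 hx
  -- `N` is central
  have hcent : ∀ (q : ℕ) [Fact q.Prime] (Q : Sylow q G), (Q : Subgroup G) ≤ Subgroup.centralizer (N : Set G) := by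
    intro q _ Q x hx
    rw [Subgroup.mem_centralizer_iff]
    intro n hn
    rcases hH q Q with h | ⟨h, -⟩
    · haveI := h
      exact congrArg Subtype.val (mul_comm'
        (⟨n, Subgroup.mem_sup_left hn⟩ : (N ⊔ (Q : Subgroup G) : Subgroup G))
        ⟨x, Subgroup.mem_sup_right hx⟩)
    set L := N ⊔ Subgroup.zpowers x with hL
    by_cases hLab : IsMulCommutative L
    · exact congrArg Subtype.val (mul_comm' (⟨n, Subgroup.mem_sup_left hn⟩ : L)
        ⟨x, Subgroup.mem_sup_right (Subgroup.mem_zpowers x)⟩)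
    exfalso
    set B := (Q : Subgroup G).map f
    have hmapL : L.map f = Subgroup.zpowers (f x) := by
      rw [hL, Subgroup.map_sup, hf, QuotientGroup.map_mk'_self, bot_sup_eq, MonoidHom.map_zpowers]
    have hlt : L.map f < B := by
      refine lt_of_le_of_ne ?_ fun e => h ?_
      · rw [hmapL, Subgroup.zpowers_le]; exact ⟨x, hx, rfl⟩
      · rw [← e, hmapL]; infer_instance
    have hBp : IsPGroup q B := Q.isPGroup'.map f
    haveI := hBp.isNilpotent
    have h1 : (L.map f).subgroupOf B < ⊤ :=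
      lt_top_iff_ne_top.2 fun h => hlt.not_ge (Subgroup.subgroupOf_eq_top.1 h)
    obtain ⟨⟨y, hyB⟩, hg, hgn⟩ := SetLike.exists_of_lt (normalizerCondition_of_isNilpotent _ h1)
    obtain ⟨g, hgQ, rfl⟩ := hyB
    refine hgn ⟨g, ?_, rfl⟩
    show g ∈ L
    rw [← hS L hLab]
    have hcom : L = (L.map f).comap f := by
      rw [Subgroup.comap_map_eq, hker, sup_eq_left.2 le_sup_left]
    rw [Subgroup.mem_normalizer_iff]
    intro z
    rw [hcom, Subgroup.mem_comap, Subgroup.mem_comap, map_mul, map_mul, map_inv]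
    constructor
    · intro hz
      exact (Subgroup.mem_normalizer_iff.1 hg ⟨f z, hlt.le hz⟩).1 hz
    · intro hz
      have hzB : f z ∈ B := by
        have := B.mul_mem (B.mul_mem (B.inv_mem (show f g ∈ B from ⟨g, hgQ, rfl⟩)) (hlt.le hz))
          (show f g ∈ B from ⟨g, hgQ, rfl⟩)
        rwa [show (f g)⁻¹ * (f g * f z * (f g)⁻¹) * f g = f z by group] at this
      exact (Subgroup.mem_normalizer_iff.1 hg ⟨f z, hzB⟩).2 hz
  have hZ : N ≤ Subgroup.center G := by
    intro n hn
    have htop : Subgroup.centralizer (N : Set G) = ⊤ := by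
      refine Subgroup.eq_top_of_card_eq _ (Nat.dvd_antisymm (Subgroup.card_subgroup_dvd_card _) ?_)
      rw [Nat.dvd_iff_prime_pow_dvd_dvd]
      intro q k hq hd
      rcases Nat.eq_zero_or_pos k with rfl | _
      · rw [pow_zero]; exact one_dvd _
      haveI := Fact.mk hq
      obtain ⟨Q⟩ := (inferInstance : Nonempty (Sylow q G))
      exact (Q.pow_dvd_card_of_pow_dvd_card hd).trans (Subgroup.card_dvd_of_le (hcent q Q))
    rw [Subgroup.mem_center_iff]
    intro g
    exact (Subgroup.mem_centralizer_iff.1 (htop ▸ Subgroup.mem_top g) n hn).symm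
  -- the transfer
  obtain ⟨q, hq, hqd⟩ := Nat.exists_prime_and_dvd (n := Nat.card N)
    (fun h => hNb (Subgroup.card_eq_one.1 h))
  haveI := Fact.mk hq
  obtain ⟨Q⟩ := (inferInstance : Nonempty (Sylow q G))
  have htr : ∀ n ∈ N, n ∈ (Q : Subgroup G) →
      n ∈ (commutator (Q : Subgroup G)).map (Q : Subgroup G).subtype := by
    intro n hn hnQ
    let φ := MonoidHom.transfer (Abelianization.of : (Q : Subgroup G) →* Abelianization (Q : Subgroup G))
    have h1 : φ n = 1 := by
      have h : φ.ker = ⊤ := top_le_iff.1 (hperf ▸ Abelianization.commutator_subset_ker φ)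
      exact MonoidHom.mem_ker.1 (h ▸ Subgroup.mem_top n)
    have hnc := Subgroup.mem_center_iff.1 (hZ hn)
    rw [show φ n = _ from MonoidHom.transfer_eq_pow _ n fun k g₀ _ => by
      rw [mul_assoc, (Commute.pow_right (hnc g₀ : Commute g₀ n) k).symm.eq, inv_mul_cancel_left]] at h1
    rw [← MonoidHom.mem_ker, Abelianization.ker_of] at h1
    refine ⟨⟨n, hnQ⟩, mem_of_pow_mem' ?_ h1, rfl⟩
    obtain ⟨k, hk⟩ := IsPGroup.iff_orderOf.1 Q.isPGroup' ⟨n, hnQ⟩
    rw [hk]
    exact Nat.Coprime.pow_left _ (hq.coprime_iff_not_dvd.2 Q.not_dvd_index)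
  obtain ⟨n₀, hn₀⟩ := exists_prime_orderOf_dvd_card' q hqd
  have hn₀o : orderOf (n₀ : G) = q := (Subgroup.orderOf_coe n₀).trans hn₀
  have hn₀Q : (n₀ : G) ∈ (Q : Subgroup G) := by
    haveI : (Subgroup.zpowers (n₀ : G)).Normal := ⟨fun x hx g => by
      rw [Subgroup.mem_center_iff.1 (Subgroup.zpowers_le.2 (hZ n₀.2) hx) g, mul_inv_cancel_right]
      exact hx⟩
    exact (IsPGroup.of_card (n := 1) (by rw [Nat.card_zpowers, hn₀o, pow_one]) :
      IsPGroup q (Subgroup.zpowers (n₀ : G))).le_sylow_of_normal Q (Subgroup.mem_zpowers _)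
  have hQna : ¬ IsMulCommutative (Q : Subgroup G) := by
    intro h
    have hbot : commutator (Q : Subgroup G) = ⊥ := by
      rw [commutator_eq_bot_iff_center_eq_top, eq_top_iff]
      intro x _
      rw [Subgroup.mem_center_iff]
      exact fun y => h.is_comm.comm y x
    obtain ⟨z, hz, hze⟩ := htr _ n₀.2 hn₀Q
    rw [hbot] at hz
    rw [← hze, Subgroup.mem_bot.1 hz, map_one, orderOf_one] at hn₀o
    exact hq.one_lt.ne hn₀o
  have hNQ : N ≤ (Q : Subgroup G) := by
    rw [← hS _ hQna]
    intro n hn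
    rw [Subgroup.mem_normalizer_iff]
    intro x
    rw [← Subgroup.mem_center_iff.1 (hZ hn) x, mul_inv_cancel_right]
  set R := (commutator (Q : Subgroup G)).map (Q : Subgroup G).subtype with hR
  have hNR : N ≤ R := fun n hn => htr n hn (hNQ hn)
  have hcardR : Nat.card R ≤ q := by
    rw [hR, Subgroup.card_map_of_injective (Q : Subgroup G).subtype_injective]
    refine commutator_eq_closure Q.isPGroup' (fun L hL => ?_) hQna
    by_contra hLab
    refine hproper q (Q : Subgroup G) (L.map (Q : Subgroup G).subtype) Q.isPGroup' ?_ ?_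
    · refine lt_of_le_of_ne (Subgroup.map_subtype_le L) fun e => hL ?_
      apply Subgroup.map_injective (Q : Subgroup G).subtype_injective
      rw [e, ← MonoidHom.range_eq_map, Subgroup.range_subtype]
    · intro h
      refine hLab ⟨⟨fun x y => ?_⟩⟩
      apply (L.equivMapOfInjective _ (Q : Subgroup G).subtype_injective).injective
      rw [map_mul, map_mul]
      exact h.is_comm.comm _ _
  have hNR' : N = R := Subgroup.eq_of_le_of_card_ge hNR (hcardR.trans (Nat.le_of_dvd Nat.card_pos hqd))
  rcases hH q Q with h | ⟨h, -⟩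
  · refine hQna ⟨⟨fun x y => Subtype.ext ?_⟩⟩
    haveI := h
    have h5 : (x : G) * y = y * x := congrArg Subtype.val (mul_comm'
      (⟨x, Subgroup.mem_sup_right x.2⟩ : (N ⊔ (Q : Subgroup G) : Subgroup G))
      ⟨y, Subgroup.mem_sup_right y.2⟩)
    exact h5
  · refine h ⟨⟨?_⟩⟩
    rintro ⟨_, x, hx, rfl⟩ ⟨_, y, hy, rfl⟩
    apply Subtype.ext
    show f x * f y = f y * f x
    rw [← commutatorElement_eq_one_iff_mul_comm, ← map_commutatorElement]
    refine (QuotientGroup.eq_one_iff _).2 ?_
    rw [hNR']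
    exact ⟨⁅(⟨x, hx⟩ : (Q : Subgroup G)), ⟨y, hy⟩⁆,
      Subgroup.commutator_mem_commutator (Subgroup.mem_top _) (Subgroup.mem_top _), rfl⟩

end Cfsg.Agent.S4072


set_option autoImplicit false
open Cfsg

namespace Cfsg.Agent.S4072

/-- A finite group in which every non-abelian subgroup is self-normalizing is solvable or simple. -/
theorem result {G : Type*} [Group G] [Finite G] (hS : ∀ H : Subgroup G, ¬ IsMulCommutative H → Subgroup.normalizer (H : Set G) = H) :
    Group.IsSolvable G ∨ IsSimpleGroup G := by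
  exact S4072.solvable_or_simple hS

end Cfsg.Agent.S4072
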