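import Cfsg.Statements.S4073
import Cfsg.Agent.Lib.SelfNorm.CT
import Cfsg.Agent.Lib.SelfNorm.PSL
import Cfsg.Agent.Lib.CASimple.Main

set_option autoImplicit false
open Cfsg

namespace Cfsg.Agent.S4073

/-- Let G be a finite non-abelian simple group. Every non-abelian subgroup of G is self-normalizing if and only if G is isomorphic to PSL₂(2ⁿ) for some n ≥ 2 with 2ⁿ − 1 prime (this includes the alternating group of degree 5 as PSL₂(4)). -/
theorem result {G : Type*} [Group G] [Finite G] [IsSimpleGroup G]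
    (hna : ¬ IsMulCommutative G) :
    (∀ H : Subgroup G, ¬ IsMulCommutative H → Subgroup.normalizer (H : Set G) = H) ↔
    ∃ n : ℕ, 2 ≤ n ∧ (2 ^ n - 1).Prime ∧ Nonempty (G ≃* Matrix.ProjectiveSpecialLinearGroup (Fin 2) (GaloisField 2 n)) := by
  classical
  have hbridge : (∀ H : Subgroup G, ¬ IsMulCommutative H → Subgroup.normalizer (H : Set G) = H) ↔
      SelfNorm.SN G :=
    ⟨fun h H hH => h H fun hc => hH (SelfNorm.ab_iff.2 hc),
      fun h H hH => h H fun hc => hH (SelfNorm.ab_iff.1 hc)⟩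
  rw [hbridge]
  haveI : Fact (Nat.Prime 2) := ⟨Nat.prime_two⟩
  constructor
  · intro h
    have hnab : ¬ SelfNorm.Ab (⊤ : Subgroup G) := fun e =>
      hna ⟨⟨fun a b => e a (Subgroup.mem_top a) b (Subgroup.mem_top b)⟩⟩
    have hct : CASimple.CT G := fun x y z hx hxy hxz =>
      SelfNorm.ab_centralizer hnab h hx y (Subgroup.mem_centralizer_singleton_iff.2 hxy.symm) z
        (Subgroup.mem_centralizer_singleton_iff.2 hxz.symm)
    obtain ⟨f, hf, ⟨e⟩⟩ := CASimple.classification hna hct
    haveI : Fintype (GaloisField 2 f) := Fintype.ofFinite _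
    have hcard : Fintype.card (GaloisField 2 f) = 2 ^ f := by
      rw [← Nat.card_eq_fintype_card, GaloisField.card 2 f (by omega)]
    refine ⟨f, hf, ?_, ⟨e⟩⟩
    rw [← hcard]
    refine SelfNorm.prime_of_sn ?_
      (SelfNorm.sn_of_equiv (e.trans SelfNorm.slEquiv.symm) h)
    rw [hcard]
    exact le_trans (by norm_num) (Nat.pow_le_pow_right two_pos hf)
  · rintro ⟨n, hn, hp, ⟨e⟩⟩
    haveI : Fintype (GaloisField 2 n) := Fintype.ofFinite _
    have hcard : Fintype.card (GaloisField 2 n) = 2 ^ n := by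
      rw [← Nat.card_eq_fintype_card, GaloisField.card 2 n (by omega)]
    exact SelfNorm.sn_of_equiv (SelfNorm.slEquiv.trans e.symm)
      (SelfNorm.sn_sl (by rwa [hcard]))

end Cfsg.Agent.S4073
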