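import Cfsg.Statements.S4074
import Mathlib.GroupTheory.SpecificGroups.Dihedral
import Mathlib.Tactic.LinearCombination
import Mathlib.Data.ZMod.Basic

set_option autoImplicit false
set_option linter.style.haveILetI false

set_option autoImplicit false
open Cfsg

namespace Cfsg.Agent.S4074

/-- For n > 2, every non-abelian subgroup of the dihedral group of order 2n is self-normalizing if and only if n = 4 or n is odd. -/
theorem result (n : ℕ) (hn : 2 < n) :
    (∀ H : Subgroup (DihedralGroup n), ¬ IsMulCommutative H → Subgroup.normalizer (H : Set (DihedralGroup n)) = H) ↔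
    (n = 4 ∨ Odd n) := by
  open DihedralGroup in
  classical
  haveI : NeZero n := ⟨by omega⟩
  constructor
  · intro h
    by_contra hcon
    simp only [not_or, Nat.not_odd_iff_even] at hcon
    obtain ⟨h4, k, hk⟩ := hcon
    -- rotations and reflections with even parameter
    let c : ZMod n →+* ZMod 2 := ZMod.castHom (⟨k, by omega⟩ : 2 ∣ n) (ZMod 2)
    let H : Subgroup (DihedralGroup n) :=
      { carrier := {g | match g with
          | .r i => c i = 0
          | .sr i => c i = 0}
        one_mem' := by show c 0 = 0; exact map_zero c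
        mul_mem' := by
          rintro (i | i) (j | j) hi hj <;> simp only [Set.mem_setOf_eq, r_mul_r, r_mul_sr, sr_mul_r, sr_mul_sr] at * <;>
            simp [map_add, map_sub, hi, hj]
        inv_mem' := by
          rintro (i | i) hi <;> simp only [Set.mem_setOf_eq, inv_r, inv_sr] at * <;> simp [map_neg, hi] }
    have h2 : c 2 = 0 := (map_ofNat c 2).trans (by decide)
    have hnc : ¬ IsMulCommutative H := by
      intro hc
      have ha : (r (2 : ZMod n)) ∈ H := h2
      have hb : (sr (0 : ZMod n)) ∈ H := map_zero c
      have := setLike_mul_comm ha hb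
      rw [r_mul_sr, sr_mul_r] at this
      have e := DihedralGroup.sr.inj this
      have h4' : ((4 : ℕ) : ZMod n) = 0 := by push_cast; linear_combination -e
      rw [ZMod.natCast_eq_zero_iff] at h4'
      have := Nat.le_of_dvd (by norm_num) h4'
      omega
    have hH := h H hnc
    have hr1 : r (1 : ZMod n) ∈ Subgroup.normalizer (H : Set (DihedralGroup n)) := by
      rw [Subgroup.mem_normalizer_iff]
      rintro (i | i)
      · rw [r_mul_r, show (r (1 : ZMod n))⁻¹ = r (-1) from rfl, r_mul_r]
        show c i = 0 ↔ c (1 + i + -1) = 0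
        simp
      · rw [r_mul_sr, show (r (1 : ZMod n))⁻¹ = r (-1) from rfl, sr_mul_r]
        show c i = 0 ↔ c (i - 1 + -1) = 0
        rw [show i - 1 + -1 = i - 2 by ring, map_sub, h2, sub_zero]
    rw [hH] at hr1
    have hbad : c 1 = 0 := hr1
    rw [map_one] at hbad
    exact one_ne_zero hbad
  · intro hor H hH
    refine le_antisymm ?_ Subgroup.le_normalizer
    obtain ⟨i, hi⟩ : ∃ i : ZMod n, sr i ∈ H := by
      by_contra hno
      refine hH (.of_setLike_mul_comm fun a ha b hb => ?_)
      rcases a with a | a <;> rcases b with b | b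
      · rw [r_mul_r, r_mul_r, add_comm]
      · exact absurd ⟨b, hb⟩ hno
      · exact absurd ⟨a, ha⟩ hno
      · exact absurd ⟨a, ha⟩ hno
    have hsr : ∀ j : ZMod n, sr j ∈ H ↔ r (j - i) ∈ H := by
      intro j
      rw [← sr_mul_sr i j, Subgroup.mul_mem_cancel_left H hi]
    suffices key : ∀ k : ZMod n, r (2 * k) ∈ H → r k ∈ H by
      intro g hg
      have hrot : ∀ k : ZMod n, r k ∈ Subgroup.normalizer (H : Set (DihedralGroup n)) → r k ∈ H := by
        intro k hk
        have := (Subgroup.mem_normalizer_iff.1 hk (sr i)).1 hi
        rw [r_mul_sr, show (r k)⁻¹ = r (-k) from rfl, sr_mul_r, hsr] at this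
        refine key k ?_
        have h' := H.inv_mem this
        rwa [show (r (i - k + -k - i))⁻¹ = r (2 * k) from congrArg r (show -(i - k + -k - i) = 2 * k by ring)] at h'
      rcases g with k | k
      · exact hrot k hg
      · have h' : sr i * sr k ∈ Subgroup.normalizer (H : Set (DihedralGroup n)) :=
          Subgroup.mul_mem _ (Subgroup.le_normalizer hi) hg
        rw [sr_mul_sr] at h'
        exact (hsr k).2 (hrot _ h')
    intro k hk
    rcases hor with rfl | hodd
    · -- `n = 4`: `H` contains every rotation
      obtain ⟨d, hd, hd2⟩ : ∃ d : ZMod 4, r d ∈ H ∧ 2 * d ≠ 0 := by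
        by_contra hno
        simp only [not_exists, not_and, not_not] at hno
        refine hH (.of_setLike_mul_comm fun a ha b hb => ?_)
        have hneg : ∀ d : ZMod 4, r d ∈ H → -d = d := fun d hd => by linear_combination -(hno d hd)
        rcases a with a | a <;> rcases b with b | b
        · rw [r_mul_r, r_mul_r, add_comm]
        · rw [r_mul_sr, sr_mul_r, sub_eq_add_neg, hneg a ha]
        · rw [r_mul_sr, sr_mul_r, sub_eq_add_neg, hneg b hb]
        · rw [sr_mul_sr, sr_mul_sr]
          have := hneg (b - a) (by rw [← sr_mul_sr]; exact H.mul_mem ha hb)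
          rw [neg_sub] at this
          rw [this]
      have hall : ∀ a b : ZMod 4, 2 * a ≠ 0 → ∃ m : ℕ, (m : ZMod 4) * a = b := by
        intro a b ha
        have : ∀ a b : ZMod 4, 2 * a ≠ 0 → ∃ m : Fin 4, ((m : ℕ) : ZMod 4) * a = b := by decide
        obtain ⟨m, hm⟩ := this a b ha
        exact ⟨m, hm⟩
      obtain ⟨m, hm⟩ := hall d k hd2
      have hp : ∀ m : ℕ, r ((m : ZMod 4) * d) ∈ H := by
        intro m
        induction m with
        | zero => rw [Nat.cast_zero, zero_mul]; exact H.one_mem
        | succ m ih =>
          have := H.mul_mem ih hd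
          rw [r_mul_r] at this
          rwa [Nat.cast_succ, add_mul, one_mul]
      exact hm ▸ hp m
    · obtain ⟨m, hm⟩ := hodd
      have hp : ∀ l : ℕ, r ((l : ZMod n) * (2 * k)) ∈ H := by
        intro l
        induction l with
        | zero => rw [Nat.cast_zero, zero_mul]; exact H.one_mem
        | succ l ih =>
          have := H.mul_mem ih hk
          rw [r_mul_r] at this
          rwa [Nat.cast_succ, add_mul, one_mul]
      have h := hp (m + 1)
      rwa [show (((m + 1 : ℕ)) : ZMod n) * (2 * k) = k by
        have h0 := ZMod.natCast_self n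
        have hcast : ((n : ℕ) : ZMod n) = 2 * (m : ZMod n) + 1 := by rw [hm]; push_cast; ring
        push_cast
        linear_combination k * (h0 - hcast)] at h

end Cfsg.Agent.S4074
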