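import Cfsg.Statements.S4075
import Cfsg.Agent.Lib.Solvable.Fitting
import Mathlib.GroupTheory.Nilpotent

set_option autoImplicit false
set_option linter.style.haveILetI false

set_option autoImplicit false
open Cfsg

namespace Cfsg.Agent.S4075

/-- Let G be a finite nilpotent group. Every non-abelian subgroup of G is self-normalizing if and only if G is abelian or G is a minimal non-abelian p-group for some prime p (non-abelian of prime-power order with every proper subgroup abelian). -/
theorem result {G : Type*} [Group G] [Finite G]
    [Group.IsNilpotent G] :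
    (∀ H : Subgroup G, ¬ IsMulCommutative H → Subgroup.normalizer (H : Set G) = H) ↔
    (IsMulCommutative G ∨ (IsPrimePow (Nat.card G) ∧ ¬ IsMulCommutative G ∧ ∀ H : Subgroup G, H ≠ ⊤ → IsMulCommutative H)) := by
  classical
  constructor
  · intro h
    by_cases hab : IsMulCommutative G
    · exact Or.inl hab
    refine Or.inr ?_
    have hprop : ∀ H : Subgroup G, H ≠ ⊤ → IsMulCommutative H := by
      intro H hH
      by_contra hne
      have hlt := Group.normalizerCondition_of_isNilpotent (G := G) H (lt_top_iff_ne_top.2 hH)
      rw [h H hne] at hlt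
      exact lt_irrefl _ hlt
    refine ⟨?_, hab, hprop⟩
    by_contra hnpp
    refine hab ⟨⟨fun a b => ?_⟩⟩
    have hnormal : ∀ (q : ℕ) [Fact q.Prime] (S : Sylow q G), (S : Subgroup G).Normal := fun q _ S =>
      (Group.isNilpotent_of_finite_tfae.out 0 3 (a := Group.IsNilpotent G)
        (b := ∀ (p : ℕ) (_hp : Fact p.Prime) (P : Sylow p G), (↑P : Subgroup G).Normal)).1
        inferInstance q inferInstance S
    have hcen : Subgroup.center G = ⊤ := by
      refine Cfsg.Agent.FittingCores.eq_top_of_forall_sylow_le fun q hq => ?_
      haveI := Fact.mk hq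
      obtain ⟨S⟩ : Nonempty (Sylow q G) := inferInstance
      refine ⟨S, fun s hs => ?_⟩
      -- the centraliser of `s` contains all Sylow subgroups
      have hC : Subgroup.centralizer ({s} : Set G) = ⊤ := by
        refine Cfsg.Agent.FittingCores.eq_top_of_forall_sylow_le fun r hr => ?_
        haveI := Fact.mk hr
        by_cases hrq : r = q
        · subst hrq
          refine ⟨S, fun t ht => Subgroup.mem_centralizer_iff.2 fun w hw => ?_⟩
          rw [Set.mem_singleton_iff.1 hw]
          have hS : (S : Subgroup G) ≠ ⊤ := by
            intro htop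
            refine hnpp ?_
            obtain ⟨n, hn⟩ := IsPGroup.iff_card.1 S.isPGroup'
            rw [htop, Subgroup.card_top] at hn
            rcases Nat.eq_zero_or_pos n with rfl | hn0
            · exfalso
              haveI := (Nat.card_eq_one_iff_unique.1 (by rw [hn, pow_zero] : Nat.card G = 1)).1
              exact hab ⟨⟨fun u v => Subsingleton.elim _ _⟩⟩
            · exact ⟨r, n, hr.prime, hn0, hn.symm⟩
          haveI := hprop _ hS
          exact setLike_mul_comm hs ht
        · obtain ⟨T⟩ : Nonempty (Sylow r G) := inferInstance
          refine ⟨T, fun t ht => Subgroup.mem_centralizer_iff.2 fun w hw => ?_⟩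
          rw [Set.mem_singleton_iff.1 hw]
          exact Subgroup.commute_of_normal_of_disjoint _ _ (hnormal q S) (hnormal r T)
            (IsPGroup.disjoint_of_ne q r (Ne.symm hrq) _ _ S.isPGroup' T.isPGroup') s t hs ht
      refine Subgroup.mem_center_iff.2 fun t => ?_
      have ht := Subgroup.mem_top t
      rw [← hC] at ht
      exact (Subgroup.mem_centralizer_iff.1 ht s rfl).symm
    have hb := Subgroup.mem_top b
    rw [← hcen] at hb
    exact Subgroup.mem_center_iff.1 hb a
  · rintro (hab | ⟨-, -, hall⟩) H hH
    · haveI := hab
      exact absurd (.of_setLike_mul_comm fun a _ b _ => mul_comm' a b) hH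
    · by_cases hT : H = ⊤
      · rw [hT, eq_top_iff]; exact Subgroup.le_normalizer
      · exact absurd (hall H hT) hH

end Cfsg.Agent.S4075
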