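import Cfsg.Statements.S4079
import Cfsg.Agent.Lib.FGStruct.MetacyclicAut

set_option autoImplicit false
open Cfsg

namespace Cfsg.Agent.S4079

/-- Let p be an odd prime and L a finite metacyclic p-group with no cyclic subgroup of index p, and let a be an automorphism of L of order p. Then a moves some element of order p of L if and only if p = 3 and the semidirect product L ⋊ ⟨a⟩ (of order 3·#L) has maximal class, i.e. nilpotency class m where #L = 3^m. -/
theorem result {L : Type*} [Group L] [Finite L] {p : ℕ} [Fact p.Prime]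
    (hp : p ≠ 2) (hL : IsPGroup p L) (hmc : Cfsg.IsMetacyclic L) (hnc : ∀ C : Subgroup L, IsCyclic C → C.index ≠ p)
    (a : MulAut L) (ha : orderOf a = p) (m : ℕ) (hm : Nat.card L = p ^ m) :
    (∃ x : L, orderOf x = p ∧ a x ≠ x) ↔
    (p = 3 ∧ Group.nilpotencyClass (SemidirectProduct L ↥(Subgroup.zpowers a) (Subgroup.zpowers a).subtype) = m) := by
  classical
  set A := Subgroup.zpowers a with hA
  set S := SemidirectProduct L A A.subtype with hS
  have hAc : Nat.card A = p := by rw [hA, Nat.card_zpowers, ha]
  haveI : Finite A := inferInstance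
  haveI : Finite S := Finite.of_equiv _ SemidirectProduct.equivProd.symm
  have hSc : Nat.card S = p ^ (m + 1) := by
    rw [SemidirectProduct.card, hm, hAc, ← pow_succ]
  have hSp : IsPGroup p S := IsPGroup.of_card hSc
  set ι : L →* S := SemidirectProduct.inl with hι
  have hιi : Function.Injective ι := SemidirectProduct.inl_injective
  set H := ι.range with hH
  haveI hHn : H.Normal := by
    rw [hH, hι, SemidirectProduct.range_inl_eq_ker_rightHom]; infer_instance
  have hHc : Nat.card H = p ^ m := by
    rw [hH, ← hm]; exact (Nat.card_congr (MonoidHom.ofInjective hιi).toEquiv).symm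
  have hHi : H.index = p := by
    have h := H.card_mul_index
    rw [hHc, hSc, pow_succ] at h
    exact Nat.eq_of_mul_eq_mul_left (pow_pos (Fact.out : p.Prime).pos m) h
  set α : S := SemidirectProduct.inr (⟨a, Subgroup.mem_zpowers a⟩ : A) with hα
  have hαp : α ^ p = 1 := by
    rw [hα, ← map_pow]
    have : (⟨a, Subgroup.mem_zpowers a⟩ : A) ^ p = 1 :=
      Subtype.ext (by simp only [Subgroup.coe_pow, Subgroup.coe_one]; rw [← ha, pow_orderOf_eq_one])
    rw [this, map_one]
  have hαH : α ∉ H := by
    rw [hH, hι, SemidirectProduct.range_inl_eq_ker_rightHom, MonoidHom.mem_ker, hα, SemidirectProduct.rightHom_inr]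
    intro h
    have : a = 1 := congrArg Subtype.val h
    rw [this, orderOf_one] at ha
    exact (Fact.out : p.Prime).ne_one ha.symm
  have hconj : ∀ x : L, ι (a x) = α * ι x * α⁻¹ := fun x => by
    rw [hα, ← map_inv]; exact
    SemidirectProduct.inl_aut (φ := A.subtype) (⟨a, Subgroup.mem_zpowers a⟩ : A) x
  have hmovesiff : ∀ x : L, a x = x ↔ α * ι x = ι x * α := fun x => by
    rw [← hιi.eq_iff, hconj, mul_inv_eq_iff_eq_mul]
  have hmt : Nontrivial L := by
    by_contra hn
    rw [not_nontrivial_iff_subsingleton] at hn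
    have : a = 1 := MulEquiv.ext fun x => Subsingleton.elim _ _
    rw [this, orderOf_one] at ha
    exact (Fact.out : p.Prime).ne_one ha.symm
  have hne : H ≠ ⊥ := by
    intro h
    obtain ⟨x, hx⟩ := exists_ne (1 : L)
    refine hx (hιi ?_)
    rw [map_one]
    exact Subgroup.mem_bot.1 (h ▸ MonoidHom.mem_range.2 ⟨x, rfl⟩)
  let e : L ≃* H := MonoidHom.ofInjective hιi
  obtain ⟨E, hgood⟩ : ∃ E : Subgroup S, MetaAut.Good p H E := by
    refine MetaAut.good_of_metacyclic hp (hSp.to_subgroup H) ?_ (fun C hC hCi => ?_) hne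
    · obtain ⟨N, hN, hNc, hQ⟩ := hmc
      refine ⟨N.map e.toMonoidHom, Subgroup.Normal.map hN _ e.surjective, ?_, ?_⟩
      · exact isCyclic_of_surjective _ (Subgroup.equivMapOfInjective _ _ e.injective).surjective
      · haveI := Subgroup.Normal.map hN e.toMonoidHom e.surjective
        exact isCyclic_of_surjective _ (QuotientGroup.congr N (N.map e.toMonoidHom) e rfl).surjective
    · refine hnc (C.map e.symm.toMonoidHom)
        (isCyclic_of_surjective _ (Subgroup.equivMapOfInjective _ _ e.symm.injective).surjective) ?_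
      rw [Subgroup.index_map_of_bijective (f := e.symm.toMonoidHom) e.symm.bijective]
      exact hCi
  constructor
  · rintro ⟨x, hx, hax⟩
    have hxE : ι x ∈ E := by
      refine (hgood.omega _ (MonoidHom.mem_range.2 ⟨x, rfl⟩)).1 ?_
      rw [← map_pow, ← hx, pow_orderOf_eq_one, map_one]
    obtain ⟨h3, hC⟩ := MetaAut.forward hp hSp hHi hgood hαH hαp hxE (fun h => hax ((hmovesiff x).2 h))
    refine ⟨h3, ?_⟩
    have hm1 : 2 ≤ m + 1 := by
      have h1 := Subgroup.card_le_of_le hgood.le
      rw [hgood.card, hHc] at h1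
      have := (Nat.pow_le_pow_iff_right (Fact.out : p.Prime).one_lt).1 h1
      omega
    have h := RankTwoOdd.class_eq hSc hm1
      (RankTwoOdd.lcs_ne_bot_of_centralizer (m + 1) S hSc hm1 α hC)
    simpa using h
  · rintro ⟨h3, hcl⟩
    subst h3
    by_contra hcon
    push Not at hcon
    refine MetaAut.backward (m + 1) S hSc (by rw [hcl]; rfl) H E hHi hgood α hαH hαp fun x hx => ?_
    obtain ⟨y, rfl⟩ := MonoidHom.mem_range.1 (hgood.le hx)
    rw [← hmovesiff]
    rcases eq_or_ne y 1 with rfl | hy
    · exact map_one a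
    · refine hcon y (orderOf_eq_prime (hιi ?_) hy)
      rw [map_pow, map_one]
      exact hgood.epow hx

end Cfsg.Agent.S4079
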