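import Cfsg.Statements.S4080
import Mathlib.Algebra.Module.ZMod
import Mathlib.Data.Nat.Choose.Sum
import Mathlib.GroupTheory.Index
import Mathlib.Tactic.Linarith
import Mathlib.Tactic.Ring

set_option autoImplicit false
set_option linter.style.haveILetI false

set_option autoImplicit false
open Cfsg

namespace Cfsg.Agent.S4080

/-- Let p > 3 be a prime and L the direct product of two cyclic groups of order p². Every automorphism of L of order p fixes every element of order p of L. -/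
theorem result {p : ℕ} [Fact p.Prime] (hp : 3 < p)
    (a : MulAut (Multiplicative (ZMod (p ^ 2) × ZMod (p ^ 2)))) (ha : orderOf a = p)
    (x : Multiplicative (ZMod (p ^ 2) × ZMod (p ^ 2))) (hx : orderOf x = p) : a x = x := by
  have hp' : p.Prime := Fact.out
  let M := ZMod (p ^ 2) × ZMod (p ^ 2)
  let A : AddMonoid.End M := AddMonoidHom.mk' (fun v => (a (Multiplicative.ofAdd v)).toAdd)
    (fun u v => by rw [ofAdd_add, map_mul]; rfl)
  have hApow : ∀ (k : ℕ) (v : M), (A ^ k) v = ((a ^ k) (Multiplicative.ofAdd v)).toAdd := by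
    intro k
    induction k with
    | zero => intro v; rfl
    | succ k ih =>
      intro v
      rw [pow_succ' A k, pow_succ' a k, MulAut.mul_apply]
      show A ((A ^ k) v) = _
      rw [ih v]
      rfl
  set f : AddMonoid.End M := A - 1 with hf
  have hAf : A = f + 1 := by rw [hf, sub_add_cancel]
  have hsum : ∀ v : M, v + ∑ i ∈ Finset.Ico 1 (p + 1), (p.choose i) • (f ^ i) v = v := by
    intro v
    have h1 : (A ^ p) v = v := by rw [hApow, orderOf_dvd_iff_pow_eq_one.1 (dvd_of_eq ha)]; rfl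
    rw [hAf, (Commute.one_right f).add_pow] at h1
    simp only [one_pow, mul_one] at h1
    nth_rw 3 [← h1]
    rw [Finset.sum_range_eq_add_Ico _ (by omega : 0 < p + 1)]
    simp only [pow_zero, Nat.choose_zero_right, Nat.cast_one, mul_one]
    show _ = (1 : AddMonoid.End M) v + (∑ i ∈ Finset.Ico 1 (p + 1), f ^ i * (p.choose i : AddMonoid.End M)) v
    have happ : ∀ (s : Finset ℕ) (g : ℕ → AddMonoid.End M), (∑ i ∈ s, g i) v = ∑ i ∈ s, g i v := by
      intro s g
      induction s using Finset.induction with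
      | empty => rfl
      | @insert b s hb ih => rw [Finset.sum_insert hb, Finset.sum_insert hb, ← ih]; rfl
    rw [happ]
    refine congrArg₂ (· + ·) rfl (Finset.sum_congr rfl fun i _ => ?_)
    rw [← nsmul_eq_mul']
    rfl
  have hsum0 : ∀ v : M, ∑ i ∈ Finset.Ico 1 (p + 1), (p.choose i) • (f ^ i) v = 0 := fun v =>
    add_eq_left.1 (hsum v)
  let T : AddSubgroup M := (DistribSMul.toAddMonoidHom M p).range
  have hexp : ∀ v : M, (p ^ 2) • v = 0 := by
    have h0 : ∀ c : ZMod (p ^ 2), (p ^ 2) • c = 0 := fun c => by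
      rw [nsmul_eq_mul, ZMod.natCast_self, zero_mul]
    rintro ⟨c, d⟩
    exact Prod.ext (h0 c) (h0 d)
  have hker : ∀ v : M, p • v = 0 → ∃ w : M, p • w = v := by
    have h1 : ∀ a : ZMod (p ^ 2), (p : ZMod (p ^ 2)) * a = 0 → ∃ b, (p : ZMod (p ^ 2)) * b = a := by
      intro a h
      obtain ⟨n, rfl⟩ := ZMod.natCast_zmod_surjective a
      rw [← Nat.cast_mul, ZMod.natCast_eq_zero_iff, sq] at h
      obtain ⟨m, rfl⟩ := Nat.dvd_of_mul_dvd_mul_left hp'.pos h
      exact ⟨(m : ZMod (p ^ 2)), by push_cast; rfl⟩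
    rintro ⟨a, b⟩ h
    have h2 : p • a = 0 := congrArg Prod.fst h
    have h3 : p • b = 0 := congrArg Prod.snd h
    rw [nsmul_eq_mul] at h2 h3
    obtain ⟨a', rfl⟩ := h1 a h2
    obtain ⟨b', rfl⟩ := h1 b h3
    exact ⟨(a', b'), Prod.ext (nsmul_eq_mul p a') (nsmul_eq_mul p b')⟩
  haveI : NeZero (p ^ 2) := ⟨pow_ne_zero 2 hp'.ne_zero⟩
  haveI : Finite M := inferInstanceAs (Finite (ZMod (p ^ 2) × ZMod (p ^ 2)))
  have hTcard : Nat.card T = p ^ 2 := by
    have hk : (DistribSMul.toAddMonoidHom M p).ker = T := by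
      ext v
      constructor
      · intro hv
        obtain ⟨w, hw⟩ := hker v hv
        exact ⟨w, hw⟩
      · rintro ⟨w, rfl⟩
        show p • p • w = 0
        rw [smul_smul, ← sq, hexp]
    have h1 := (DistribSMul.toAddMonoidHom M p).ker.card_mul_index
    rw [AddSubgroup.index_ker, hk] at h1
    have h2 : Nat.card M = p ^ 2 * p ^ 2 := by
      show Nat.card (ZMod (p ^ 2) × ZMod (p ^ 2)) = _
      rw [Nat.card_prod, Nat.card_zmod]
    rw [h2] at h1
    exact Nat.mul_self_inj.1 h1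
  have hfT : ∀ (g : AddMonoid.End M) (v : M), v ∈ T → g v ∈ T := by
    rintro g v ⟨w, rfl⟩
    exact ⟨g w, (map_nsmul g p w).symm⟩
  -- `f ^ p` lands in `T`
  have hfp : ∀ v : M, (f ^ p) v ∈ T := by
    intro v
    have h := hsum0 v
    rw [Finset.sum_Ico_succ_top (by omega : 1 ≤ p), Nat.choose_self, one_smul] at h
    rw [eq_neg_of_add_eq_zero_right h]
    refine T.neg_mem (T.sum_mem fun i hi => ?_)
    obtain ⟨hi1, hi2⟩ := Finset.mem_Ico.1 hi
    obtain ⟨c, hc⟩ := hp'.dvd_choose_self (by omega : i ≠ 0) hi2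
    rw [hc, mul_smul]
    exact ⟨c • (f ^ i) v, rfl⟩
  let S : ℕ → AddSubgroup M := fun i => Nat.rec (motive := fun _ => AddSubgroup M) ⊤ (fun _ s => s.map f ⊔ T) i
  have hSsucc : ∀ i, S (i + 1) = (S i).map f ⊔ T := fun i => rfl
  have hmemS : ∀ (i : ℕ) (v : M), (f ^ i) v ∈ S i := by
    intro i
    induction i with
    | zero => exact fun v => AddSubgroup.mem_top _
    | succ i ih =>
      intro v
      rw [pow_succ' f i, hSsucc]
      exact AddSubgroup.mem_sup_left ⟨_, ih v, rfl⟩
  have hanti : ∀ i, S (i + 1) ≤ S i := by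
    intro i
    induction i with
    | zero => exact le_top
    | succ i ih => rw [hSsucc (i + 1), hSsucc i]; exact sup_le_sup_right (AddSubgroup.map_mono ih) T
  have hshape : ∀ i, S i ≤ (⊤ : AddSubgroup M).map (f ^ i) ⊔ T := by
    intro i
    induction i with
    | zero =>
      intro v _
      exact AddSubgroup.mem_sup_left ⟨v, AddSubgroup.mem_top v, rfl⟩
    | succ i ih =>
      rw [hSsucc]
      refine sup_le ?_ le_sup_right
      rintro _ ⟨v, hv, rfl⟩
      obtain ⟨y, hy, t, ht, rfl⟩ := AddSubgroup.mem_sup.1 (ih hv)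
      obtain ⟨w, -, rfl⟩ := hy
      rw [AddMonoidHom.map_add f]
      refine AddSubgroup.add_mem _ (AddSubgroup.mem_sup_left ⟨w, AddSubgroup.mem_top w, ?_⟩)
        (AddSubgroup.mem_sup_right (hfT f t ht))
      rw [pow_succ' f i]; rfl
  have hSp : S p ≤ T := (hshape p).trans (sup_le (by rintro _ ⟨v, -, rfl⟩; exact hfp v) le_rfl)
  have hstab : ∀ i, i ≤ p → S (i + 1) = S i → S i ≤ T := by
    intro i hi he
    have h' : ∀ j, S (i + j) = S i := by
      intro j
      induction j with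
      | zero => rfl
      | succ j ih => rw [← add_assoc, hSsucc, ih, ← hSsucc, he]
    have := h' (p - i)
    rw [show i + (p - i) = p by omega] at this
    rw [← this]; exact hSp
  have hTS : ∀ i, 1 ≤ i → T ≤ S i := fun i hi => by
    obtain ⟨j, rfl⟩ := Nat.exists_eq_add_of_le hi
    rw [add_comm, hSsucc]; exact le_sup_right
  have hTtop : ¬ (⊤ : AddSubgroup M) ≤ T := by
    intro h
    have h2 : Nat.card M = p ^ 2 := by
      rw [← hTcard, top_le_iff.1 h, AddSubgroup.card_top]
    rw [show Nat.card M = p ^ 2 * p ^ 2 by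
      show Nat.card (ZMod (p ^ 2) × ZMod (p ^ 2)) = _
      rw [Nat.card_prod, Nat.card_zmod]] at h2
    have h3 : 4 ≤ p ^ 2 := Nat.pow_le_pow_left hp'.two_le 2
    nlinarith
  have hcardM : Nat.card M = p ^ 4 := by
    show Nat.card (ZMod (p ^ 2) × ZMod (p ^ 2)) = _
    rw [Nat.card_prod, Nat.card_zmod]; ring
  have hS2 : S 2 ≤ T := by
    rcases Classical.em (S (1 + 1) = S 1) with h12 | h12
    · have h1 := hstab 1 (by omega) h12
      exact (hanti 1).trans h1
    have h01 : S (0 + 1) ≠ S 0 := fun e => hTtop (hstab 0 (by omega) e)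
    obtain ⟨a2, -, ha2⟩ := (Nat.dvd_prime_pow hp').1 (hcardM ▸ AddSubgroup.card_addSubgroup_dvd_card (S 2))
    obtain ⟨a1, -, ha1⟩ := (Nat.dvd_prime_pow hp').1 (hcardM ▸ AddSubgroup.card_addSubgroup_dvd_card (S 1))
    have hcS0 : Nat.card (⊤ : AddSubgroup M) = p ^ 4 := by
      rw [AddSubgroup.card_top, hcardM]
    have hl1 : a1 < 4 := by
      by_contra hge
      refine h01 (AddSubgroup.eq_of_le_of_card_ge (hanti 0) ?_)
      rw [show S (0 + 1) = S 1 from rfl, show S 0 = ⊤ from rfl, hcS0, ha1]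
      exact Nat.pow_le_pow_right hp'.pos (by omega)
    have hl2 : a2 < a1 := by
      by_contra hge
      refine h12 (AddSubgroup.eq_of_le_of_card_ge (hanti 1) ?_)
      rw [ha1, show S (1 + 1) = S 2 from rfl, ha2]
      exact Nat.pow_le_pow_right hp'.pos (by omega)
    refine le_of_eq (AddSubgroup.eq_of_le_of_card_ge (hTS 2 (by omega)) ?_).symm
    rw [hTcard, ha2]
    exact Nat.pow_le_pow_right hp'.pos (by omega)
  have hf2 : ∀ v : M, (f ^ 2) v ∈ T := fun v => hS2 (hmemS 2 v)
  have hf4 : ∀ v : M, (f ^ 4) v = 0 := by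
    intro v
    obtain ⟨w, hw⟩ := hf2 v
    obtain ⟨w', hw'⟩ := hf2 w
    show (f ^ 2 * f ^ 2) v = 0
    show (f ^ 2) ((f ^ 2) v) = 0
    rw [← hw]
    show (f ^ 2) (p • w) = 0
    rw [map_nsmul, ← hw']
    show p • p • w' = 0
    rw [smul_smul, ← sq, hexp]
  have hpf : ∀ v : M, p • f v = 0 := by
    intro v
    have h := hsum0 v
    rw [Finset.sum_eq_single 1] at h
    · simpa using h
    · intro i hi hi1
      obtain ⟨hi0, hi2⟩ := Finset.mem_Ico.1 hi
      by_cases h4 : 4 ≤ i
      · rw [show (f ^ i) v = (f ^ 4) ((f ^ (i - 4)) v) by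
          rw [show f ^ i = f ^ 4 * f ^ (i - 4) by rw [← pow_add]; congr 1; omega]; rfl, hf4, smul_zero]
      · obtain ⟨w, hw⟩ : (f ^ i) v ∈ T := by
          rw [show (f ^ i) v = (f ^ 2) ((f ^ (i - 2)) v) by
            rw [show f ^ i = f ^ 2 * f ^ (i - 2) by rw [← pow_add]; congr 1; omega]; rfl]
          exact hf2 _
        obtain ⟨c, hc⟩ := hp'.dvd_choose_self (by omega : i ≠ 0) (by omega : i < p)
        rw [← hw, hc]
        show (p * c) • p • w = 0
        rw [smul_smul, show p * c * p = c * p ^ 2 by ring, mul_smul, hexp, smul_zero]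
    · intro h1; exact absurd (Finset.mem_Ico.2 ⟨le_rfl, by omega⟩) h1
  have hxv : p • x.toAdd = 0 := by
    rw [← toAdd_pow, orderOf_dvd_iff_pow_eq_one.1 (dvd_of_eq hx), toAdd_one]
  obtain ⟨w, hw⟩ := hker x.toAdd hxv
  have h0 : f x.toAdd = 0 := by rw [← hw, map_nsmul]; exact hpf w
  have hAx : A x.toAdd = x.toAdd := by
    have h1 : A x.toAdd - x.toAdd = 0 := h0
    exact sub_eq_zero.1 h1
  exact Multiplicative.toAdd.injective hAx

end Cfsg.Agent.S4080
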