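import Cfsg.Statements.S4082
import Mathlib
import Cfsg.Agent.Lib.FGStruct.PByCyclic
import Cfsg.Agent.Lib.OddOrder.OmegaCentral

set_option autoImplicit false
set_option linter.style.haveILetI false

namespace Cfsg.Agent.S4082

open Cfsg.Agent
open scoped commutatorElement

variable {G : Type*} [Group G] [Finite G] {p : ℕ} [hp : Fact p.Prime]

lemma exists_parts (y : G) : ∃ u z : G, u ∈ Subgroup.zpowers y ∧ z ∈ Subgroup.zpowers y ∧ y = u * z ∧
    (∃ k, u ^ p ^ k = 1) ∧ ¬ p ∣ orderOf z := by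
  obtain ⟨e, f, hf, hef⟩ :=
    Nat.exists_eq_pow_mul_and_not_dvd (orderOf_pos y).ne' p hp.out.ne_one
  obtain ⟨a, b, hab⟩ : IsCoprime ((p : ℤ) ^ e) (f : ℤ) :=
    IsCoprime.pow_left ((Nat.prime_iff_prime_int.1 hp.out).coprime_iff_not_dvd.2
      (fun h => hf (Int.natCast_dvd_natCast.1 h)))
  refine ⟨y ^ (b * (f : ℤ)), y ^ (a * (p : ℤ) ^ e), ⟨_, rfl⟩, ⟨_, rfl⟩, ?_, ⟨e, ?_⟩, ?_⟩
  · rw [← zpow_add, add_comm, hab, zpow_one]
  · rw [← zpow_natCast, ← zpow_mul, mul_assoc, mul_comm b, zpow_mul,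
      show ((f : ℤ) * ((p ^ e : ℕ) : ℤ)) = ((orderOf y : ℕ) : ℤ) by rw [hef]; push_cast; ring,
      zpow_natCast, pow_orderOf_eq_one, one_zpow]
  · intro hd
    refine hf (hd.trans (orderOf_dvd_of_pow_eq_one ?_))
    rw [← zpow_natCast, ← zpow_mul, mul_assoc, mul_comm a, zpow_mul,
      show ((p : ℤ) ^ e * (f : ℤ)) = ((orderOf y : ℕ) : ℤ) by rw [hef]; push_cast; ring,
      zpow_natCast, pow_orderOf_eq_one, one_zpow]

variable (p G) in
/-- The restriction on `p`-by-cyclic subgroups. -/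
def Restr : Prop :=
  ∀ H : Subgroup G, (∀ S : Sylow p H, (S : Subgroup H).Normal) →
    (∀ (S : Sylow p H) [(S : Subgroup H).Normal], IsCyclic (H ⧸ (S : Subgroup H))) →
    IsCyclic H ∨ (∃ n : ℕ, Nonempty (H ≃* DihedralGroup (p ^ n)))

lemma apply_restr (hR : Restr G p) {S₀ : Subgroup G} (hS : IsPGroup p S₀) {z : G}
    (hz : z ∈ Subgroup.normalizer (S₀ : Set G)) (hzp : ¬ p ∣ orderOf z) :
    IsCyclic (S₀ ⊔ Subgroup.zpowers z : Subgroup G) ∨
      ∃ n : ℕ, Nonempty ((S₀ ⊔ Subgroup.zpowers z : Subgroup G) ≃* DihedralGroup (p ^ n)) := by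
  set H := S₀ ⊔ Subgroup.zpowers z
  haveI hn : (S₀.subgroupOf H).Normal :=
    (Subgroup.normal_subgroupOf_iff_le_normalizer le_sup_left).2
      (sup_le Subgroup.le_normalizer (Subgroup.zpowers_le.2 hz))
  have hzH : z ∈ H := Subgroup.mem_sup_right (Subgroup.mem_zpowers z)
  set w : H ⧸ S₀.subgroupOf H := QuotientGroup.mk ⟨z, hzH⟩
  have hgen : ∀ q : H ⧸ S₀.subgroupOf H, q ∈ Subgroup.zpowers w := by
    intro q
    induction q using QuotientGroup.induction_on with
    | H h =>
      have hh : (h : G) ∈ S₀ ⊔ Subgroup.zpowers z := h.2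
      rw [sup_comm, ← SetLike.mem_coe, Subgroup.coe_mul_of_left_le_normalizer_right _ _
        (Subgroup.zpowers_le.2 hz)] at hh
      obtain ⟨t, ht, s, hs, hts⟩ := hh
      obtain ⟨i, rfl⟩ := ht
      refine ⟨i, ?_⟩
      show w ^ i = _
      rw [show w ^ i = QuotientGroup.mk ((⟨z, hzH⟩ : H) ^ i) from (QuotientGroup.mk_zpow _ _ _).symm,
        QuotientGroup.eq, Subgroup.mem_subgroupOf]
      push_cast
      rw [← hts]
      simpa using hs
  haveI hc : IsCyclic (H ⧸ S₀.subgroupOf H) := ⟨w, hgen⟩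
  obtain ⟨h1, h2⟩ := PByCyclic.hyps_of (S₀ := S₀.subgroupOf H) (p := p)
    (hS.of_equiv (Subgroup.subgroupOfEquivOfLe le_sup_left).symm)
    (fun hd => hzp (by
      rw [Subgroup.index_eq_card, ← orderOf_eq_card_of_forall_mem_zpowers hgen] at hd
      refine hd.trans ?_
      rw [← Subgroup.orderOf_mk z hzH]
      exact orderOf_map_dvd (QuotientGroup.mk' (S₀.subgroupOf H)) ⟨z, hzH⟩)) hc
  exact hR H h1 h2

/-- An element of order prime to `p` acting non-trivially is an inverting involution. -/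
lemma inverts (hp2 : p ≠ 2) (hR : Restr G p) {S₀ : Subgroup G} (hS : IsPGroup p S₀) {z : G}
    (hz : z ∈ Subgroup.normalizer (S₀ : Set G)) (hzp : ¬ p ∣ orderOf z)
    (hne : ∃ s ∈ S₀, z * s ≠ s * z) :
    z * z = 1 ∧ (∀ s ∈ S₀, z * s * z⁻¹ = s⁻¹) ∧ ∀ s ∈ S₀, z * s = s * z → s = 1 := by
  set H := S₀ ⊔ Subgroup.zpowers z
  have hzH : z ∈ H := Subgroup.mem_sup_right (Subgroup.mem_zpowers z)
  obtain ⟨s₁, hs₁, hne⟩ := hne
  rcases apply_restr hR hS hz hzp with hc | ⟨n, ⟨e⟩⟩
  · haveI := hc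
    exact absurd (congrArg Subtype.val (mul_comm' (⟨z, hzH⟩ : H) ⟨s₁, Subgroup.mem_sup_left hs₁⟩)) hne
  · have hz1 : z ≠ 1 := fun h => hne (by rw [h, one_mul, mul_one])
    have hx : ¬ orderOf (⟨z, hzH⟩ : H) ∣ p ^ n := by
      rw [Subgroup.orderOf_mk]
      intro hd
      obtain ⟨k, -, hk⟩ := (Nat.dvd_prime_pow hp.out).1 hd
      rcases Nat.eq_zero_or_pos k with rfl | hk0
      · exact hz1 (orderOf_eq_one_iff.1 (hk.trans (pow_zero p)))
      · exact hzp (hk ▸ dvd_pow_self p hk0.ne')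
    obtain ⟨h1, h2, h3⟩ := PByCyclic.dihedral_odd_facts ((hp.out.odd_of_ne_two hp2).pow) e hx
    have hord : ∀ s (hs : s ∈ S₀), orderOf (⟨s, Subgroup.mem_sup_left hs⟩ : H) ∣ p ^ n := by
      intro s hs
      rw [Subgroup.orderOf_mk]
      obtain ⟨k, hk⟩ := IsPGroup.iff_orderOf.1 hS ⟨s, hs⟩
      rw [Subgroup.orderOf_mk] at hk
      have h4 : orderOf s ∣ Nat.card H := by
        have := orderOf_dvd_natCard (⟨s, Subgroup.mem_sup_left hs⟩ : H)
        rwa [Subgroup.orderOf_mk] at this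
      rw [Nat.card_congr e.toEquiv, DihedralGroup.nat_card, hk] at h4
      rw [hk]
      exact ((Nat.coprime_primes hp.out Nat.prime_two).2 hp2).pow_left k |>.dvd_of_dvd_mul_left h4
    refine ⟨congrArg Subtype.val h1, fun s hs => congrArg Subtype.val (h2 _ (hord s hs)), fun s hs hc => ?_⟩
    exact congrArg Subtype.val (h3 _ (hord s hs) (Subtype.ext hc))

theorem forward (hp2 : p ≠ 2) (P : Sylow p G) (hR : Restr G p) :
    IsCyclic P ∧
      (Subgroup.normalizer ((P : Subgroup G) : Set G) = Subgroup.centralizer ((P : Subgroup G) : Set G) ∨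
       ((Subgroup.centralizer ((P : Subgroup G) : Set G)).relIndex (Subgroup.normalizer ((P : Subgroup G) : Set G)) = 2 ∧
        ∀ Q : Subgroup G, Q ≤ P → Nat.card Q = p →
          IsMulCommutative ↥(Subgroup.centralizer (Q : Set G)) ∧
          ∀ x : G, x ∈ Subgroup.normalizer (Q : Set G) → x ∉ Subgroup.centralizer (Q : Set G) →
            orderOf x = 2 ∧ ∀ c : G, c ∈ Subgroup.centralizer (Q : Set G) → x * c * x⁻¹ = c⁻¹)) := by
  have hpr := hp.out
  have hPc : IsCyclic (P : Subgroup G) := by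
    have h := apply_restr hR P.isPGroup' (z := 1) (one_mem _) (by rw [orderOf_one]; exact hpr.not_dvd_one)
    rw [show Subgroup.zpowers (1 : G) = ⊥ from Subgroup.zpowers_one_eq_bot, sup_bot_eq] at h
    rcases h with h | ⟨n, ⟨e⟩⟩
    · exact h
    · exfalso
      obtain ⟨k, hk⟩ := IsPGroup.iff_card.1 P.isPGroup'
      rw [Nat.card_congr e.toEquiv, DihedralGroup.nat_card] at hk
      have h2 : 2 ∣ p ^ k := hk ▸ dvd_mul_right 2 _
      exact hp2 ((Nat.prime_dvd_prime_iff_eq Nat.prime_two hpr).1 (Nat.prime_two.dvd_of_dvd_pow h2)).symm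
  refine ⟨hPc, ?_⟩
  set N := Subgroup.normalizer ((P : Subgroup G) : Set G) with hN
  set C := Subgroup.centralizer ((P : Subgroup G) : Set G) with hC
  have hCN : C ≤ N := Subgroup.centralizer_le_normalizer _
  by_cases heq : N ≤ C
  · exact Or.inl (le_antisymm heq hCN)
  haveI := hPc
  have hPC : (P : Subgroup G) ≤ C := fun a ha => Subgroup.mem_centralizer_iff.2 fun b hb =>
    congrArg Subtype.val (mul_comm' (⟨b, hb⟩ : (P : Subgroup G)) ⟨a, ha⟩)
  -- elements of `N` outside `C` invert `P`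
  have hout : ∀ y ∈ N, y ∉ C → ∃ z : G, z ∈ N ∧ z * z = 1 ∧ (∀ s ∈ (P : Subgroup G), z * s * z⁻¹ = s⁻¹) ∧
      ∀ s ∈ (P : Subgroup G), y * s * y⁻¹ = s⁻¹ := by
    intro y hy hyC
    obtain ⟨u, z, hu, hz, huz, ⟨k, hk⟩, hzp⟩ := exists_parts (p := p) y
    have huN : u ∈ N := Subgroup.zpowers_le.2 hy hu
    have hzN : z ∈ N := Subgroup.zpowers_le.2 hy hz
    have huP : u ∈ (P : Subgroup G) := by
      have hpz : IsPGroup p (Subgroup.zpowers u) := by
        obtain ⟨j, -, hj⟩ := (Nat.dvd_prime_pow hpr).1 (orderOf_dvd_of_pow_eq_one hk)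
        exact IsPGroup.of_card ((Nat.card_zpowers u).trans hj)
      have hsup := hpz.to_sup_of_normal_right' P.isPGroup' (Subgroup.zpowers_le.2 huN)
      exact (P.is_maximal' hsup le_sup_right).le (Subgroup.mem_sup_left (Subgroup.mem_zpowers u))
    have hzC : ¬ ∀ s ∈ (P : Subgroup G), z * s = s * z := fun hall =>
      hyC (huz ▸ mul_mem (hPC huP) (Subgroup.mem_centralizer_iff.2 fun s hs => (hall s hs).symm))
    push Not at hzC
    obtain ⟨h1, h2, -⟩ := inverts hp2 hR P.isPGroup' hzN hzp hzC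
    refine ⟨z, hzN, h1, h2, fun s hs => ?_⟩
    rw [huz]
    have := Subgroup.mem_centralizer_iff.1 (hPC huP) s⁻¹ (inv_mem hs)
    calc u * z * s * (u * z)⁻¹ = u * (z * s * z⁻¹) * u⁻¹ := by group
      _ = s⁻¹ := by rw [h2 s hs, ← this, mul_inv_cancel_right]
  obtain ⟨y₀, hy₀, hy₀C⟩ := SetLike.not_le_iff_exists.1 heq
  obtain ⟨t, htN, ht2, htinv, hy₀inv⟩ := hout y₀ hy₀ hy₀C
  refine Or.inr ⟨?_, ?_⟩
  · show (C.subgroupOf N).index = 2
    rw [Subgroup.index_eq_two_iff]
    refine ⟨⟨y₀, hy₀⟩, fun b => ?_⟩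
    rw [xor_iff_not_iff, Subgroup.mem_subgroupOf, Subgroup.mem_subgroupOf, Subgroup.coe_mul]
    intro hiff
    by_cases hb : (b : G) ∈ C
    · have h1 := hiff.2 hb
      apply hy₀C
      have h2 := mul_mem (inv_mem hb) h1
      rwa [inv_mul_cancel_left] at h2
    · obtain ⟨-, -, -, -, hbinv⟩ := hout b b.2 hb
      refine hb (hiff.1 (Subgroup.mem_centralizer_iff.2 fun s hs => ?_))
      have h3 := hbinv s⁻¹ (inv_mem hs)
      rw [inv_inv] at h3
      have h4 : (b : G) * y₀ * s * ((b : G) * y₀)⁻¹ = s := by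
        calc (b : G) * y₀ * s * ((b : G) * y₀)⁻¹ = (b : G) * (y₀ * s * y₀⁻¹) * (b : G)⁻¹ := by group
          _ = s := by rw [hy₀inv s hs, h3]
      exact (mul_inv_eq_iff_eq_mul.1 h4).symm
  · intro Q hQP hQ
    set CQ := Subgroup.centralizer (Q : Set G) with hCQ
    set NQ := Subgroup.normalizer (Q : Set G) with hNQ
    have htQ : ∀ q ∈ Q, t * q * t⁻¹ = q⁻¹ := fun q hq => htinv q (hQP hq)
    have htNQ : t ∈ NQ := by
      have hti : t⁻¹ = t := inv_eq_of_mul_eq_one_right ht2
      rw [hNQ, Subgroup.mem_normalizer_iff]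
      intro q
      refine ⟨fun hq => by rw [htQ q hq]; exact inv_mem hq, fun hq => ?_⟩
      have h1 := htQ _ hq
      have h2 : t * (t * q * t⁻¹) * t⁻¹ = q := by
        rw [hti]; calc t * (t * q * t) * t = (t * t) * q * (t * t) := by group
          _ = q := by rw [ht2, one_mul, mul_one]
      rw [h2] at h1
      rw [h1]; exact inv_mem hq
    obtain ⟨q₀, hq₀, hq₀1⟩ : ∃ q ∈ Q, q ≠ 1 := by
      rcases Subgroup.bot_or_exists_ne_one Q with h | h
      · rw [h, Subgroup.card_bot] at hQ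
        exact absurd hQ.symm hpr.ne_one
      · exact h
    have hq₀2 : q₀⁻¹ ≠ q₀ := by
      intro h
      have h1 : q₀ ^ 2 = 1 := by
        rw [pow_two]; nth_rewrite 1 [← h]; exact inv_mul_cancel q₀
      have h2 : orderOf q₀ ∣ p := hQ ▸ Subgroup.orderOf_mk q₀ hq₀ ▸ orderOf_dvd_natCard (⟨q₀, hq₀⟩ : Q)
      exact hq₀1 (orderOf_eq_one_iff.1 (Nat.eq_one_of_dvd_coprimes
        ((Nat.coprime_primes Nat.prime_two hpr).2 (Ne.symm hp2)) (orderOf_dvd_of_pow_eq_one h1) h2))
    have htC : t ∉ CQ := fun h => by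
      have h1 := htQ q₀ hq₀
      rw [← Subgroup.mem_centralizer_iff.1 h q₀ hq₀, mul_inv_cancel_right] at h1
      exact hq₀2 h1.symm
    -- every element of the coset is an involution inverting `Q`
    have hinvol : ∀ y ∈ NQ, y ∉ CQ → y * y = 1 ∧ ∀ q ∈ Q, y * q * y⁻¹ = q⁻¹ := by
      intro y hy hyC
      obtain ⟨u, z, hu, hz, huz, ⟨k, hk⟩, hzp⟩ := exists_parts (p := p) y
      have huN : u ∈ NQ := Subgroup.zpowers_le.2 hy hu
      have hzN : z ∈ NQ := Subgroup.zpowers_le.2 hy hz
      have hpz : IsPGroup p (Subgroup.zpowers u) := by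
        obtain ⟨j, -, hj⟩ := (Nat.dvd_prime_pow hpr).1 (orderOf_dvd_of_pow_eq_one hk)
        exact IsPGroup.of_card ((Nat.card_zpowers u).trans hj)
      have hQp : IsPGroup p Q := IsPGroup.of_card (n := 1) (by rw [pow_one]; exact hQ)
      set S₀ := Q ⊔ Subgroup.zpowers u
      have hS : IsPGroup p S₀ := hQp.to_sup_of_normal_left' hpz (Subgroup.zpowers_le.2 huN)
      have hzu : z * u = u * z := by
        obtain ⟨i, rfl⟩ := hz
        obtain ⟨j, rfl⟩ := hu
        exact (Commute.zpow_zpow_self y i j).eq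
      have hzS : z ∈ Subgroup.normalizer (S₀ : Set G) := by
        rw [Subgroup.mem_normalizer_iff_map_conj_eq, Subgroup.map_sup,
          Subgroup.mem_normalizer_iff_map_conj_eq.1 hzN, MonoidHom.map_zpowers]
        congr 2
        show z * u * z⁻¹ = u
        rw [hzu, mul_inv_cancel_right]
      -- `u` centralizes `Q`
      have huC : u ∈ CQ := by
        haveI : (Q.subgroupOf S₀).Normal :=
          (Subgroup.normal_subgroupOf_iff_le_normalizer le_sup_left).2
            (sup_le Subgroup.le_normalizer (Subgroup.zpowers_le.2 huN))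
        have hle := OddOrder.OmegaCen.le_center_of_prime_card hS (N := Q.subgroupOf S₀)
          (by rw [Nat.card_congr (Subgroup.subgroupOfEquivOfLe le_sup_left).toEquiv]; exact hQ)
        refine Subgroup.mem_centralizer_iff.2 fun q hq => ?_
        have h1 := hle (show (⟨q, Subgroup.mem_sup_left hq⟩ : S₀) ∈ Q.subgroupOf S₀ from hq)
        exact (congrArg Subtype.val (Subgroup.mem_center_iff.1 h1
          ⟨u, Subgroup.mem_sup_right (Subgroup.mem_zpowers u)⟩)).symm
      have hzC : ¬ ∀ s ∈ Q, z * s = s * z := fun hall =>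
        hyC (huz ▸ mul_mem huC (Subgroup.mem_centralizer_iff.2 fun s hs => (hall s hs).symm))
      push Not at hzC
      obtain ⟨s, hs, hs'⟩ := hzC
      obtain ⟨h1, h2, h3⟩ := inverts hp2 hR hS hzS hzp ⟨s, Subgroup.mem_sup_left hs, hs'⟩
      have hu1 : u = 1 := h3 u (Subgroup.mem_sup_right (Subgroup.mem_zpowers u)) hzu
      rw [hu1, one_mul] at huz
      rw [huz]
      exact ⟨h1, fun q hq => h2 q (Subgroup.mem_sup_left hq)⟩
    have hinvC : ∀ y ∈ NQ, y ∉ CQ → ∀ c ∈ CQ, y * c * y⁻¹ = c⁻¹ := by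
      intro y hy hyC c hc
      have hyc : y * c ∉ CQ := fun h => hyC (by
        have := mul_mem h (inv_mem hc); rwa [mul_inv_cancel_right] at this)
      obtain ⟨h1, -⟩ := hinvol (y * c) (mul_mem hy (Subgroup.centralizer_le_normalizer _ hc)) hyc
      obtain ⟨h2, -⟩ := hinvol y hy hyC
      have hyi : y⁻¹ = y := inv_eq_of_mul_eq_one_right h2
      rw [eq_inv_iff_mul_eq_one, hyi, mul_assoc, h1]
    refine ⟨.of_setLike_mul_comm fun a ha b hb => ?_, fun y hy hyC => ⟨?_, hinvC y hy hyC⟩⟩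
    · have ha' := hinvC t htNQ htC a ha
      have hb' := hinvC t htNQ htC b hb
      have hab := hinvC t htNQ htC (a * b) (mul_mem ha hb)
      have h : (a * b)⁻¹ = a⁻¹ * b⁻¹ := by
        rw [← ha', ← hb', ← hab]; group
      calc a * b = (a⁻¹ * b⁻¹)⁻¹ := by rw [← h, inv_inv]
        _ = b * a := by group
    · obtain ⟨h1, -⟩ := hinvol y hy hyC
      exact orderOf_eq_prime (by rw [pow_two, h1]) (fun h => hyC (h ▸ one_mem _))

theorem backward (hp2 : p ≠ 2) (P : Sylow p G) [IsCyclic (P : Subgroup G)]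
    (hcase : Subgroup.normalizer ((P : Subgroup G) : Set G) = Subgroup.centralizer ((P : Subgroup G) : Set G) ∨
       ∀ Q : Subgroup G, Q ≤ P → Nat.card Q = p →
          IsMulCommutative ↥(Subgroup.centralizer (Q : Set G)) ∧
          ∀ x : G, x ∈ Subgroup.normalizer (Q : Set G) → x ∉ Subgroup.centralizer (Q : Set G) →
            orderOf x = 2 ∧ ∀ c : G, c ∈ Subgroup.centralizer (Q : Set G) → x * c * x⁻¹ = c⁻¹) :
    Restr G p := by
  have hpr := hp.out
  intro H hnorm hcyc
  obtain ⟨S⟩ := (inferInstance : Nonempty (Sylow p H))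
  haveI hSn := hnorm S
  haveI hHS := hcyc S
  set SG := (S : Subgroup H).map H.subtype with hSG
  obtain ⟨P', hP'⟩ := (S.isPGroup'.map H.subtype).exists_le_sylow
  haveI : IsCyclic (P' : Subgroup G) := isCyclic_of_surjective (Sylow.equiv P P').toMonoidHom (MulEquiv.surjective _)
  haveI : IsCyclic SG := Subgroup.isCyclic_of_le hP'
  haveI : IsCyclic (S : Subgroup H) :=
    isCyclic_of_surjective ((S : Subgroup H).equivMapOfInjective _ H.subtype_injective).symm.toMonoidHom
      (MulEquiv.surjective _)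
  have hcop : (Nat.card (S : Subgroup H)).Coprime (S : Subgroup H).index := by
    rw [S.card_eq_multiplicity]
    exact ((hpr.coprime_iff_not_dvd.2 S.not_dvd_index).pow_left _)
  have hcentral : (∀ h : H, ∀ s : H, s ∈ (S : Subgroup H) → h * s = s * h) → IsCyclic H := fun hall =>
    PByCyclic.isCyclic_of_central (S := (S : Subgroup H))
      (fun s hs => Subgroup.mem_center_iff.2 fun h => hall h s hs) hcop hHS
  by_cases hall : ∀ h : H, ∀ s : H, s ∈ (S : Subgroup H) → h * s = s * h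
  · exact Or.inl (hcentral hall)
  rcases hcase with hNC | hQprop
  · exfalso
    refine hall fun h s hs => ?_
    have hle : Subgroup.normalizer ((P : Subgroup G) : Set G) ≤ Subgroup.centralizer ((P : Subgroup G) : Set G) :=
      hNC.le
    set K := (MonoidHom.transferSylow P hle).ker
    have h1 : ((⁅h, s⁆ : H) : G) ∈ SG := by
      refine ⟨⁅h, s⁆, ?_, rfl⟩
      rw [commutatorElement_def]
      exact mul_mem (hSn.conj_mem s hs h) (inv_mem hs)
    have h2 : ((⁅h, s⁆ : H) : G) ∈ K := by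
      rw [MonoidHom.mem_ker]
      have : ((⁅h, s⁆ : H) : G) = ⁅(h : G), (s : G)⁆ := map_commutatorElement H.subtype h s
      rw [this, map_commutatorElement, commutatorElement_eq_one_iff_mul_comm]
      exact mul_comm' _ _
    have h3 := MonoidHom.ker_transferSylow_disjoint P hle SG (S.isPGroup'.map _)
    have h4 : ((⁅h, s⁆ : H) : G) = 1 := by
      rw [← Subgroup.mem_bot, ← h3.eq_bot]; exact ⟨h2, h1⟩
    exact commutatorElement_eq_one_iff_mul_comm.1 (Subtype.ext h4)
  -- the order `p` subgroup of `SG`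
  have hne : SG ≠ ⊥ := by
    intro hbot
    refine hall fun h s hs => ?_
    have h1 : (s : G) ∈ SG := ⟨s, hs, rfl⟩
    rw [hbot, Subgroup.mem_bot] at h1
    rw [show s = 1 from Subtype.ext h1, mul_one, one_mul]
  obtain ⟨k, hk⟩ := IsPGroup.iff_card.1 (S.isPGroup'.map H.subtype)
  have hk0 : k ≠ 0 := fun h0 => hne (Subgroup.card_eq_one.1 (by rw [hk, h0, pow_zero]))
  obtain ⟨r, hr⟩ := exists_prime_orderOf_dvd_card' (G := SG) p (by rw [hk]; exact dvd_pow_self p hk0)
  rw [← Subgroup.orderOf_coe] at hr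
  obtain ⟨g, hg⟩ := MulAction.exists_smul_eq G P' P
  set x := MulAut.conj g (r : G) with hx
  have hxP : x ∈ (P : Subgroup G) := by
    rw [← hg]
    exact Subgroup.smul_mem_pointwise_smul _ _ _ (hP' r.2)
  set R := Subgroup.zpowers x
  have hRc : Nat.card R = p := by rw [Nat.card_zpowers, hx, MulEquiv.orderOf_eq, hr]
  obtain ⟨hab', hinv'⟩ := hQprop R (Subgroup.zpowers_le.2 hxP) hRc
  set c := MulAut.conj g with hc
  have hmemC : ∀ y : G, y * (r : G) = (r : G) * y → c y ∈ Subgroup.centralizer (R : Set G) := by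
    intro y hy
    refine Subgroup.mem_centralizer_iff.2 ?_
    rintro _ ⟨i, rfl⟩
    have h1 : Commute x (c y) := by
      show x * c y = c y * x
      rw [hx, ← map_mul, ← map_mul, hy]
    exact (h1.zpow_left i).eq
  -- elements of `H` normalize `⟨r⟩`
  have hnormR : ∀ h : H, c (h : G) ∈ Subgroup.normalizer (R : Set G) := by
    intro h
    obtain ⟨r', hr', hr'e⟩ := r.2
    have h1 : (h : G) * (r : G) * (h : G)⁻¹ ∈ SG := ⟨h * r' * h⁻¹, hSn.conj_mem r' hr' h, by
      rw [map_mul, map_mul, map_inv, hr'e]; rfl⟩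
    have h2 : (h : G) * (r : G) * (h : G)⁻¹ ∈ Subgroup.zpowers (r : G) := by
      classical
      letI := Fintype.ofFinite SG
      by_contra hcon
      set T : Finset SG := Finset.univ.filter (fun v => v ^ p = 1)
      have hT : T.card ≤ p := IsCyclic.card_pow_eq_one_le hpr.pos
      have hr1 : (r : SG) ^ p = 1 := by
        apply Subtype.ext
        rw [Subgroup.coe_pow, ← hr, pow_orderOf_eq_one]; rfl
      have hconj1 : (⟨_, h1⟩ : SG) ^ p = 1 := by
        apply Subtype.ext
        rw [Subgroup.coe_pow, conj_pow, ← hr, pow_orderOf_eq_one, mul_one, mul_inv_cancel]; rfl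
      have hsub : insert (⟨_, h1⟩ : SG) ((Finset.range p).image fun i => r ^ i) ⊆ T := by
        intro v hv
        simp only [Finset.mem_insert, Finset.mem_image, Finset.mem_range] at hv
        simp only [T, Finset.mem_filter, Finset.mem_univ, true_and]
        rcases hv with rfl | ⟨i, -, rfl⟩
        · exact hconj1
        · rw [← pow_mul, mul_comm, pow_mul, hr1, one_pow]
      have hcard := (Finset.card_le_card hsub).trans hT
      rw [Finset.card_insert_of_notMem, Finset.card_image_of_injOn, Finset.card_range] at hcard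
      · omega
      · intro i hi j hj hij
        simp only [Finset.coe_range, Set.mem_Iio] at hi hj
        exact pow_injOn_Iio_orderOf (by rw [Set.mem_Iio, ← Subgroup.orderOf_coe, hr]; exact hi)
          (by rw [Set.mem_Iio, ← Subgroup.orderOf_coe, hr]; exact hj) hij
      · simp only [Finset.mem_image, Finset.mem_range, not_exists, not_and]
        intro i _ hi
        apply hcon
        refine ⟨(i : ℤ), ?_⟩
        show (r : G) ^ (i : ℤ) = _
        rw [zpow_natCast]
        exact congrArg Subtype.val hi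
    obtain ⟨i, hi⟩ := h2
    rw [Subgroup.mem_normalizer_iff_map_conj_eq]
    refine Subgroup.eq_of_le_of_card_ge ?_
      (Subgroup.card_map_of_injective (f := (MulAut.conj (c (h : G))).toMonoidHom) (MulAut.conj (c (h : G))).injective).ge
    rw [Subgroup.map_le_iff_le_comap, Subgroup.zpowers_le]
    refine ⟨i, ?_⟩
    show x ^ i = c (h : G) * x * (c (h : G))⁻¹
    rw [hx, ← map_zpow, ← map_inv, ← map_mul, ← map_mul]
    exact congrArg c hi
  haveI := hab'
  have hScomm : ∀ s : H, s ∈ (S : Subgroup H) → c (s : G) ∈ Subgroup.centralizer (R : Set G) :=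
    fun s hs => hmemC _ (congrArg Subtype.val (mul_comm' (⟨(s : G), ⟨s, hs, rfl⟩⟩ : SG) r))
  obtain ⟨h₀, hh₀⟩ : ∃ h : H, c (h : G) ∉ Subgroup.centralizer (R : Set G) := by
    by_contra hcon
    push Not at hcon
    refine hall fun h s hs => Subtype.ext (c.injective ?_)
    rw [Subgroup.coe_mul, Subgroup.coe_mul, map_mul, map_mul]
    exact setLike_mul_comm (hcon h) (hScomm s hs)
  obtain ⟨ho, hinv⟩ := hinv' _ (hnormR h₀) hh₀
  have hsq : h₀ * h₀ = 1 := by
    apply Subtype.ext
    rw [MulEquiv.orderOf_eq, orderOf_eq_iff two_pos] at ho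
    rw [Subgroup.coe_mul, Subgroup.coe_one, ← pow_two]; exact ho.1
  have hinvh : ∀ d : H, c (d : G) ∈ Subgroup.centralizer (R : Set G) → h₀ * d * h₀⁻¹ = d⁻¹ := fun d hd => by
    apply Subtype.ext
    apply c.injective
    rw [Subgroup.coe_mul, Subgroup.coe_mul, Subgroup.coe_inv, Subgroup.coe_inv, map_mul, map_mul, map_inv, map_inv]
    exact hinv _ hd
  have hS0 : h₀ ∉ (S : Subgroup H) := fun h => hh₀ (hScomm h₀ h)
  -- the part centralizing `⟨r⟩` is `S`
  have hdS : ∀ d : H, c (d : G) ∈ Subgroup.centralizer (R : Set G) → d ∈ (S : Subgroup H) := by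
    classical
    intro d hd
    letI := Fintype.ofFinite (H ⧸ (S : Subgroup H))
    set D : H ⧸ (S : Subgroup H) := QuotientGroup.mk d with hD
    set T : H ⧸ (S : Subgroup H) := QuotientGroup.mk h₀ with hT
    have hT2 : T ^ 2 = 1 := by rw [pow_two, hT, ← QuotientGroup.mk_mul, hsq, QuotientGroup.mk_one]
    have hTne : T ≠ 1 := fun h => hS0 ((QuotientGroup.eq_one_iff h₀).1 h)
    have hD2 : D ^ 2 = 1 := by
      have h1 : (T * D * T⁻¹ : H ⧸ (S : Subgroup H)) = D⁻¹ := by
        rw [hT, hD, ← QuotientGroup.mk_inv, ← QuotientGroup.mk_inv, ← QuotientGroup.mk_mul,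
          ← QuotientGroup.mk_mul, hinvh d hd]
      rw [mul_comm' T D, mul_inv_cancel_right] at h1
      rw [pow_two]
      nth_rewrite 2 [h1]
      exact mul_inv_cancel D
    by_contra hdn
    have hDne : D ≠ 1 := fun h => hdn ((QuotientGroup.eq_one_iff d).1 h)
    have hDT : D ≠ T := by
      intro h
      rw [hD, hT, QuotientGroup.eq] at h
      apply hh₀
      have h5 := mul_mem hd (hScomm _ h)
      rwa [Subgroup.coe_mul, Subgroup.coe_inv, map_mul, map_inv, mul_inv_cancel_left] at h5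
    have hle := IsCyclic.card_pow_eq_one_le (α := H ⧸ (S : Subgroup H)) two_pos
    have hsub : ({1, D, T} : Finset (H ⧸ (S : Subgroup H))) ⊆
        Finset.univ.filter (fun v => v ^ 2 = 1) := by
      intro v hv
      simp only [Finset.mem_insert, Finset.mem_singleton] at hv
      simp only [Finset.mem_filter, Finset.mem_univ, true_and]
      rcases hv with rfl | rfl | rfl
      exacts [one_pow 2, hD2, hT2]
    have h6 := (Finset.card_le_card hsub).trans hle
    rw [Finset.card_eq_three.2 ⟨1, D, T, hDne.symm, hTne.symm, hDT, rfl⟩] at h6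
    omega
  obtain ⟨a', ha'⟩ := IsCyclic.exists_generator (α := (S : Subgroup H))
  set a : H := (a' : H) with ha
  have hSa : ∀ s ∈ (S : Subgroup H), s ∈ Subgroup.zpowers a := fun s hs => by
    obtain ⟨i, hi⟩ := ha' ⟨s, hs⟩
    exact ⟨i, congrArg Subtype.val hi⟩
  have hsplit : ∀ h : H, h ∈ (S : Subgroup H) ∨ h₀ * h ∈ (S : Subgroup H) := by
    intro h
    by_cases hh : c (h : G) ∈ Subgroup.centralizer (R : Set G)
    · exact Or.inl (hdS h hh)
    · right
      refine hdS _ ?_
      obtain ⟨-, h7⟩ := hinv' _ (hnormR h) hh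
      refine Subgroup.mem_centralizer_iff.2 fun v hv => ?_
      have hvC : v ∈ Subgroup.centralizer (R : Set G) := by
        obtain ⟨i, rfl⟩ := hv
        refine Subgroup.mem_centralizer_iff.2 ?_
        rintro _ ⟨j, rfl⟩
        exact (Commute.zpow_zpow_self x j i).eq
      have h9 : c ((h₀ * h : H) : G) * v * (c ((h₀ * h : H) : G))⁻¹ = v := by
        rw [Subgroup.coe_mul, map_mul]
        calc c (h₀ : G) * c (h : G) * v * (c (h₀ : G) * c (h : G))⁻¹
            = c (h₀ : G) * (c (h : G) * v * (c (h : G))⁻¹) * (c (h₀ : G))⁻¹ := by group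
          _ = v := by rw [h7 v hvC, hinv v⁻¹ (inv_mem hvC), inv_inv]
      exact (mul_inv_eq_iff_eq_mul.1 h9).symm
  obtain ⟨j, hj⟩ := IsPGroup.iff_orderOf.1 S.isPGroup' a'
  have htop : (⊤ : Subgroup H) = Subgroup.closure ({a, h₀} : Set H) := by
    have haC : a ∈ Subgroup.closure ({a, h₀} : Set H) := Subgroup.subset_closure (by simp)
    have hh : h₀ ∈ Subgroup.closure ({a, h₀} : Set H) := Subgroup.subset_closure (by simp)
    refine le_antisymm (fun h _ => ?_) le_top
    rcases hsplit h with h8 | h8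
    · exact Subgroup.zpowers_le.2 haC (hSa h h8)
    · have := mul_mem (inv_mem hh) (Subgroup.zpowers_le.2 haC (hSa _ h8))
      rwa [inv_mul_cancel_left] at this
  obtain ⟨e⟩ := TwoLift.dihedral_equiv (n := p ^ j) (a := a) (g := h₀)
    (by rw [ha, Subgroup.orderOf_coe]; exact hj) hsq (hinvh a (hScomm a a'.2))
    (fun h => hS0 (Subgroup.zpowers_le.2 a'.2 h)) htop
  exact Or.inr ⟨j, ⟨Subgroup.topEquiv.symm.trans e⟩⟩

end Cfsg.Agent.S4082


set_option autoImplicit false
open Cfsg

namespace Cfsg.Agent.S4082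

/-- Let p be an odd prime and G a finite group with Sylow p-subgroup P. Say that G has restricted p-by-cyclic subgroups when every subgroup H of G whose Sylow p-subgroup is normal in H with cyclic quotient is itself cyclic or dihedral of order 2pⁿ for some n. Then G has restricted p-by-cyclic subgroups if and only if P is cyclic and one of the following holds: (1) N_G(P) = C_G(P); or (2) N_G(P)/C_G(P) has order 2 and, for the subgroup Q of order p of P, the centralizer C_G(Q) is abelian and every element of N_G(Q) outside C_G(Q) is an involution inverting every element of C_G(Q). -/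
theorem result {G : Type*} [Group G] [Finite G] {p : ℕ}
    [Fact p.Prime] (hp : p ≠ 2) (P : Sylow p G) :
    (∀ H : Subgroup G, (∀ S : Sylow p ↥H, (S : Subgroup ↥H).Normal) →
        (∀ (S : Sylow p ↥H) [(S : Subgroup ↥H).Normal], IsCyclic (↥H ⧸ (S : Subgroup ↥H))) →
        IsCyclic H ∨ (∃ n : ℕ, Nonempty (H ≃* DihedralGroup (p ^ n)))) ↔
    (IsCyclic P ∧
      (Subgroup.normalizer ((P : Subgroup G) : Set G) = Subgroup.centralizer ((P : Subgroup G) : Set G) ∨
       ((Subgroup.centralizer ((P : Subgroup G) : Set G)).relIndex (Subgroup.normalizer ((P : Subgroup G) : Set G)) = 2 ∧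
        ∀ Q : Subgroup G, Q ≤ P → Nat.card Q = p →
          IsMulCommutative ↥(Subgroup.centralizer (Q : Set G)) ∧
          ∀ x : G, x ∈ Subgroup.normalizer (Q : Set G) → x ∉ Subgroup.centralizer (Q : Set G) →
            orderOf x = 2 ∧ ∀ c : G, c ∈ Subgroup.centralizer (Q : Set G) → x * c * x⁻¹ = c⁻¹))) := by
  refine ⟨fun h => S4082.forward hp P h, ?_⟩
  rintro ⟨hc, hcase⟩
  haveI : IsCyclic (P : Subgroup G) := hc
  exact S4082.backward hp P (hcase.imp id And.right)

end Cfsg.Agent.S4082
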