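import Cfsg.Statements.S4083
import Mathlib
import Cfsg.Agent.Lib.FGStruct.PByCyclic
import Cfsg.Agent.Lib.Classical.FourGroup

set_option autoImplicit false
set_option linter.style.haveILetI false

namespace Cfsg.Agent.S4083

open Cfsg.Agent
open scoped commutatorElement

variable {G : Type*} [Group G] [Finite G]

lemma exists_parts (y : G) : ∃ u z : G, u ∈ Subgroup.zpowers y ∧ z ∈ Subgroup.zpowers y ∧ y = u * z ∧
    (∃ k, u ^ 2 ^ k = 1) ∧ ¬ 2 ∣ orderOf z := by
  obtain ⟨e, f, hf, hef⟩ :=
    Nat.exists_eq_pow_mul_and_not_dvd (orderOf_pos y).ne' 2 (by norm_num)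
  obtain ⟨a, b, hab⟩ : IsCoprime ((2 : ℤ) ^ e) (f : ℤ) :=
    IsCoprime.pow_left (Int.prime_two.coprime_iff_not_dvd.2
      (fun h => hf (Int.natCast_dvd_natCast.1 (by simpa using h))))
  refine ⟨y ^ (b * (f : ℤ)), y ^ (a * (2 : ℤ) ^ e), ⟨_, rfl⟩, ⟨_, rfl⟩, ?_, ⟨e, ?_⟩, ?_⟩
  · rw [← zpow_add, add_comm, hab, zpow_one]
  · rw [← zpow_natCast, ← zpow_mul, mul_assoc, mul_comm b, zpow_mul,
      show ((f : ℤ) * ((2 ^ e : ℕ) : ℤ)) = ((orderOf y : ℕ) : ℤ) by rw [hef]; push_cast; ring,
      zpow_natCast, pow_orderOf_eq_one, one_zpow]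
  · intro hd
    refine hf (hd.trans (orderOf_dvd_of_pow_eq_one ?_))
    rw [← zpow_natCast, ← zpow_mul, mul_assoc, mul_comm a, zpow_mul,
      show ((2 : ℤ) ^ e * (f : ℤ)) = ((orderOf y : ℕ) : ℤ) by rw [hef]; push_cast; ring,
      zpow_natCast, pow_orderOf_eq_one, one_zpow]

variable (G) in
/-- The restriction on `2`-by-cyclic subgroups. -/
def Restr : Prop :=
  ∀ H : Subgroup G, (∀ S : Sylow 2 H, (S : Subgroup H).Normal) →
    (∀ (S : Sylow 2 H) [(S : Subgroup H).Normal], IsCyclic (H ⧸ (S : Subgroup H))) →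
    IsCyclic H ∨ (∃ n : ℕ, Nonempty (H ≃* DihedralGroup (2 ^ n))) ∨ Nonempty (H ≃* alternatingGroup (Fin 4))

lemma apply_restr (hR : Restr G) {S₀ : Subgroup G} (hS : IsPGroup 2 S₀) {z : G}
    (hz : z ∈ Subgroup.normalizer (S₀ : Set G)) (hzp : ¬ 2 ∣ orderOf z) :
    IsCyclic (S₀ ⊔ Subgroup.zpowers z : Subgroup G) ∨
      (∃ n : ℕ, Nonempty ((S₀ ⊔ Subgroup.zpowers z : Subgroup G) ≃* DihedralGroup (2 ^ n))) ∨
      Nonempty ((S₀ ⊔ Subgroup.zpowers z : Subgroup G) ≃* alternatingGroup (Fin 4)) := by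
  haveI : Fact (Nat.Prime 2) := ⟨Nat.prime_two⟩
  set H := S₀ ⊔ Subgroup.zpowers z
  haveI hn : (S₀.subgroupOf H).Normal :=
    (Subgroup.normal_subgroupOf_iff_le_normalizer le_sup_left).2
      (sup_le Subgroup.le_normalizer (Subgroup.zpowers_le.2 hz))
  have hzH : z ∈ H := Subgroup.mem_sup_right (Subgroup.mem_zpowers z)
  set w : H ⧸ S₀.subgroupOf H := QuotientGroup.mk ⟨z, hzH⟩
  have hgen : ∀ q : H ⧸ S₀.subgroupOf H, q ∈ Subgroup.zpowers w := by
    intro q
    induction q using QuotientGroup.induction_on with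
    | H h =>
      have hh : (h : G) ∈ S₀ ⊔ Subgroup.zpowers z := h.2
      rw [sup_comm, ← SetLike.mem_coe, Subgroup.coe_mul_of_left_le_normalizer_right _ _
        (Subgroup.zpowers_le.2 hz)] at hh
      obtain ⟨t, ht, s, hs, hts⟩ := hh
      obtain ⟨i, rfl⟩ := ht
      refine ⟨i, ?_⟩
      show w ^ i = _
      rw [show w ^ i = QuotientGroup.mk ((⟨z, hzH⟩ : H) ^ i) from (QuotientGroup.mk_zpow _ _ _).symm,
        QuotientGroup.eq, Subgroup.mem_subgroupOf]
      push_cast
      rw [← hts]
      simpa using hs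
  haveI hc : IsCyclic (H ⧸ S₀.subgroupOf H) := ⟨w, hgen⟩
  obtain ⟨h1, h2⟩ := PByCyclic.hyps_of (S₀ := S₀.subgroupOf H) (p := 2)
    (hS.of_equiv (Subgroup.subgroupOfEquivOfLe le_sup_left).symm)
    (fun hd => hzp (by
      rw [Subgroup.index_eq_card, ← orderOf_eq_card_of_forall_mem_zpowers hgen] at hd
      refine hd.trans ?_
      rw [← Subgroup.orderOf_mk z hzH]
      exact orderOf_map_dvd (QuotientGroup.mk' (S₀.subgroupOf H)) ⟨z, hzH⟩)) hc
  exact hR H h1 h2

lemma card_alt : Nat.card (alternatingGroup (Fin 4)) = 12 := by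
  rw [nat_card_alternatingGroup, Nat.card_fin]; rfl

lemma not_cyclic_of_four {K H : Subgroup G} (hKH : K ≤ H) (hK : Nat.card K = 4) (hK2 : ∀ k ∈ K, k ^ 2 = 1) :
    ¬ IsCyclic H := by
  intro hc
  haveI := hc
  haveI : IsCyclic K := Subgroup.isCyclic_of_le hKH
  obtain ⟨g, hg⟩ := IsCyclic.exists_generator (α := K)
  have h1 := orderOf_eq_card_of_forall_mem_zpowers hg
  have h2 : orderOf g ∣ 2 := orderOf_dvd_of_pow_eq_one (Subtype.ext (hK2 g g.2))
  rw [h1, hK] at h2
  norm_num at h2

theorem forward (P : Sylow 2 G) (hR : Restr G) :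
    IsCyclic P ∨
      ((∃ n : ℕ, 1 ≤ n ∧ Nonempty ((P : Subgroup G) ≃* DihedralGroup (2 ^ n))) ∧
        ∀ K : Subgroup G, K ≤ P → Nat.card K = 4 → (∀ k ∈ K, k ^ 2 = 1) →
          Subgroup.centralizer (K : Set G) = K) := by
  haveI : Fact (Nat.Prime 2) := ⟨Nat.prime_two⟩
  have h := apply_restr hR P.isPGroup' (z := 1) (one_mem _) (by rw [orderOf_one]; norm_num)
  rw [show Subgroup.zpowers (1 : G) = ⊥ from Subgroup.zpowers_one_eq_bot, sup_bot_eq] at h
  obtain ⟨m, hm⟩ := IsPGroup.iff_card.1 P.isPGroup'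
  rcases h with hc | ⟨n, ⟨e⟩⟩ | ⟨⟨e⟩⟩
  · exact Or.inl hc
  · rcases Nat.eq_zero_or_pos n with rfl | hn
    · left
      have hc2 : Nat.card (P : Subgroup G) = 2 := by
        rw [Nat.card_congr e.toEquiv, DihedralGroup.nat_card]; norm_num
      exact isCyclic_of_prime_card hc2
    · refine Or.inr ⟨⟨n, hn, ⟨e⟩⟩, fun K hKP hK hK2 => ?_⟩
      have hKc : ∀ a ∈ K, ∀ b ∈ K, a * b = b * a := fun a ha b hb => by
        have h1 := hK2 a ha
        have h2 := hK2 b hb
        have h3 := hK2 _ (mul_mem ha hb)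
        rw [pow_two] at h1 h2 h3
        calc a * b = (a * b)⁻¹ := (inv_eq_of_mul_eq_one_right h3).symm
          _ = b⁻¹ * a⁻¹ := mul_inv_rev a b
          _ = b * a := by rw [inv_eq_of_mul_eq_one_right h1, inv_eq_of_mul_eq_one_right h2]
      refine le_antisymm (fun d hd => ?_) fun a ha =>
        Subgroup.mem_centralizer_iff.2 fun b hb => hKc b hb a ha
      obtain ⟨u, z, hu, hz, huz, ⟨k, hk⟩, hz2⟩ := exists_parts d
      have hKp : IsPGroup 2 K := IsPGroup.of_card (n := 2) (by rw [hK]; norm_num)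
      have huC : u ∈ Subgroup.centralizer (K : Set G) := Subgroup.zpowers_le.2 hd hu
      have hzC : z ∈ Subgroup.centralizer (K : Set G) := Subgroup.zpowers_le.2 hd hz
      have hz1 : z = 1 := by
        set H := K ⊔ Subgroup.zpowers z
        have hzH : z ∈ H := Subgroup.mem_sup_right (Subgroup.mem_zpowers z)
        rcases apply_restr hR hKp (Subgroup.centralizer_le_normalizer _ hzC) hz2 with
          hc | ⟨l, ⟨e'⟩⟩ | ⟨⟨e'⟩⟩
        · exact absurd hc (not_cyclic_of_four le_sup_left hK hK2)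
        · have h1 : orderOf z ∣ 2 ^ (l + 1) := by
            have := orderOf_dvd_natCard (⟨z, hzH⟩ : H)
            rwa [Subgroup.orderOf_mk, Nat.card_congr e'.toEquiv, DihedralGroup.nat_card, ← pow_succ'] at this
          exact orderOf_eq_one_iff.1 (Nat.eq_one_of_dvd_coprimes
            (((Nat.prime_two.coprime_iff_not_dvd).2 hz2).pow_left (l + 1)) h1 dvd_rfl)
        · have hzall : ∀ y ∈ H, Commute z y := by
            have hle : H ≤ Subgroup.centralizer ({z} : Set G) := by
              refine sup_le (fun a ha => Subgroup.mem_centralizer_singleton_iff.2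
                (Subgroup.mem_centralizer_iff.1 hzC a ha)) (Subgroup.zpowers_le.2 ?_)
              exact Subgroup.mem_centralizer_singleton_iff.2 rfl
            exact fun y hy => (Subgroup.mem_centralizer_singleton_iff.1 (hle hy)).symm
          have hcent : ∀ x : alternatingGroup (Fin 4), (∀ y, x * y = y * x) → x = 1 := by decide
          have h1 := hcent (e' ⟨z, hzH⟩) fun y => by
            obtain ⟨y, rfl⟩ := e'.surjective y
            rw [← map_mul, ← map_mul]
            exact congrArg e' (Subtype.ext (hzall y y.2))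
          exact congrArg Subtype.val (e'.map_eq_one_iff.1 h1)
      rw [huz, hz1, mul_one]
      have hpz : IsPGroup 2 (Subgroup.zpowers u) := by
        obtain ⟨j, -, hj⟩ := (Nat.dvd_prime_pow Nat.prime_two).1 (orderOf_dvd_of_pow_eq_one hk)
        exact IsPGroup.of_card ((Nat.card_zpowers u).trans hj)
      set L := K ⊔ Subgroup.zpowers u with hLdef
      have hL : IsPGroup 2 L := hKp.to_sup_of_normal_left' hpz
        (Subgroup.zpowers_le.2 (Subgroup.centralizer_le_normalizer _ huC))
      have hLc : ∀ a ∈ L, ∀ b ∈ L, Commute a b := by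
        have hKK : K ≤ Subgroup.centralizer (K : Set G) := fun a ha =>
          Subgroup.mem_centralizer_iff.2 fun b hb => hKc b hb a ha
        have hle : L ≤ Subgroup.centralizer (K : Set G) := sup_le hKK (Subgroup.zpowers_le.2 huC)
        have hle2 : L ≤ Subgroup.centralizer ({u} : Set G) := by
          refine sup_le (fun a ha => Subgroup.mem_centralizer_singleton_iff.2
            (Subgroup.mem_centralizer_iff.1 huC a ha)) (Subgroup.zpowers_le.2 ?_)
          exact Subgroup.mem_centralizer_singleton_iff.2 rfl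
        intro a ha b hb
        have hb' : L ≤ Subgroup.centralizer ({a} : Set G) := by
          refine sup_le (fun c hc => Subgroup.mem_centralizer_singleton_iff.2
            (Subgroup.mem_centralizer_iff.1 (hle ha) c hc)) (Subgroup.zpowers_le.2 ?_)
          exact Subgroup.mem_centralizer_singleton_iff.2
            (Subgroup.mem_centralizer_singleton_iff.1 (hle2 ha)).symm
        exact (Subgroup.mem_centralizer_singleton_iff.1 (hb' hb)).symm
      have hr := apply_restr hR hL (z := 1) (one_mem _) (by rw [orderOf_one]; norm_num)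
      rw [show Subgroup.zpowers (1 : G) = ⊥ from Subgroup.zpowers_one_eq_bot, sup_bot_eq] at hr
      have huL : u ∈ L := Subgroup.mem_sup_right (Subgroup.mem_zpowers u)
      rcases hr with hc | ⟨l, ⟨e'⟩⟩ | ⟨⟨e'⟩⟩
      · exact absurd hc (not_cyclic_of_four le_sup_left hK hK2)
      · have hl : l ≤ 1 := by
          have h2 : (DihedralGroup.r 1 : DihedralGroup (2 ^ l)) * DihedralGroup.sr 0 =
              DihedralGroup.sr 0 * DihedralGroup.r 1 := by
            apply e'.symm.injective
            rw [map_mul, map_mul]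
            exact Subtype.ext (hLc _ (SetLike.coe_mem _) _ (SetLike.coe_mem _)).eq
          rw [DihedralGroup.r_mul_sr, DihedralGroup.sr_mul_r, DihedralGroup.sr.injEq] at h2
          have h3 : ((2 : ℕ) : ZMod (2 ^ l)) = 0 := by
            push_cast
            linear_combination -h2
          rw [ZMod.natCast_eq_zero_iff] at h3
          by_contra hl
          have := Nat.le_of_dvd two_pos h3
          have : 2 ^ 2 ≤ 2 ^ l := Nat.pow_le_pow_right two_pos (by omega)
          omega
        have hcardL : Nat.card L ≤ Nat.card K := by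
          rw [Nat.card_congr e'.toEquiv, DihedralGroup.nat_card, hK]
          have : 2 ^ l ≤ 2 ^ 1 := Nat.pow_le_pow_right two_pos hl
          omega
        rw [Subgroup.eq_of_le_of_card_ge (le_sup_left : K ≤ L) hcardL]
        exact huL
      · exfalso
        obtain ⟨j, hj⟩ := IsPGroup.iff_card.1 hL
        rw [Nat.card_congr e'.toEquiv, card_alt] at hj
        have h3 : 3 ∣ 2 ^ j := hj ▸ (by norm_num)
        have := Nat.le_of_dvd two_pos (Nat.prime_three.dvd_of_dvd_pow h3)
        omega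
  · exfalso
    rw [Nat.card_congr e.toEquiv, card_alt] at hm
    have h3 : 3 ∣ 2 ^ m := hm ▸ (by norm_num)
    have := Nat.le_of_dvd two_pos (Nat.prime_three.dvd_of_dvd_pow h3)
    omega

theorem backward (P : Sylow 2 G)
    (hP : IsCyclic (P : Subgroup G) ∨
      ((∃ n : ℕ, 1 ≤ n ∧ Nonempty ((P : Subgroup G) ≃* DihedralGroup (2 ^ n))) ∧
        ∀ K : Subgroup G, K ≤ P → Nat.card K = 4 → (∀ k ∈ K, k ^ 2 = 1) →
          Subgroup.centralizer (K : Set G) = K)) :
    Restr G := by
  haveI : Fact (Nat.Prime 2) := ⟨Nat.prime_two⟩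
  intro H hnorm hcyc
  obtain ⟨S⟩ := (inferInstance : Nonempty (Sylow 2 H))
  haveI hSn := hnorm S
  haveI hHS := hcyc S
  have hcop : (Nat.card (S : Subgroup H)).Coprime (S : Subgroup H).index := by
    rw [S.card_eq_multiplicity]
    exact ((Nat.prime_two.coprime_iff_not_dvd.2 S.not_dvd_index).pow_left _)
  have hcyclic : IsCyclic (S : Subgroup H) → IsCyclic H := fun hc => by
    haveI := hc
    exact PByCyclic.isCyclic_of_central (PByCyclic.central_of_cyclic_two S.isPGroup' S.not_dvd_index) hcop hHS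
  obtain ⟨P', hP'⟩ := (S.isPGroup'.map H.subtype).exists_le_sylow
  set emb : (S : Subgroup H) →* (P : Subgroup G) :=
    ((Sylow.equiv P' P).toMonoidHom.comp (Subgroup.inclusion hP')).comp
      ((S : Subgroup H).equivMapOfInjective _ H.subtype_injective).toMonoidHom with hemb
  have hembi : Function.Injective emb :=
    ((Sylow.equiv P' P).injective.comp (Subgroup.inclusion_injective hP')).comp (MulEquiv.injective _)
  rcases hP with hc | ⟨⟨n, hn, ⟨eP⟩⟩, hK⟩
  · haveI := hc
    exact Or.inl (hcyclic (isCyclic_of_injective emb hembi))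
  set f : (S : Subgroup H) →* DihedralGroup (2 ^ n) := eP.toMonoidHom.comp emb with hf
  have hfi : Function.Injective f := eP.injective.comp hembi
  rcases PByCyclic.dihedral_two_subgroup f.range with hc | ⟨k, hk, ⟨eS'⟩⟩
  · haveI := hc
    exact Or.inl (hcyclic (isCyclic_of_injective f.rangeRestrict
      (fun a b hab => hfi (congrArg Subtype.val hab))))
  set eS : (S : Subgroup H) ≃* DihedralGroup (2 ^ k) := (MonoidHom.ofInjective hfi).trans eS'
  -- a four subgroup of `S`
  set c : ZMod (2 ^ k) := ((2 ^ (k - 1) : ℕ) : ZMod (2 ^ k)) with hcdef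
  have hc2 : c + c = 0 := by
    rw [hcdef, ← Nat.cast_add, ← two_mul, ← pow_succ', Nat.sub_add_cancel hk, ZMod.natCast_self]
  have hc0 : c ≠ 0 := by
    rw [hcdef, Ne, ZMod.natCast_eq_zero_iff]
    intro hd
    have := Nat.le_of_dvd (by positivity) hd
    have : 2 ^ (k - 1) < 2 ^ k := Nat.pow_lt_pow_right one_lt_two (by omega)
    omega
  have hneg : -c = c := neg_eq_of_add_eq_zero_left hc2
  let V : Subgroup (DihedralGroup (2 ^ k)) := FourGroup.four (DihedralGroup.r c) (DihedralGroup.sr 0)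
    (by rw [DihedralGroup.r_mul_r, hc2, DihedralGroup.one_def]) (DihedralGroup.sr_mul_self 0)
    (by rw [DihedralGroup.r_mul_sr, DihedralGroup.sr_mul_r, zero_sub, zero_add, hneg])
  have hV : IsKleinFour V := FourGroup.isKleinFour_four
    (fun h => hc0 ((DihedralGroup.r.injEq _ _).mp (h.trans DihedralGroup.one_def)))
    (fun h => nomatch (h.trans DihedralGroup.one_def)) (fun h => nomatch h)
  set ι : DihedralGroup (2 ^ k) →* G :=
    H.subtype.comp ((S : Subgroup H).subtype.comp eS.symm.toMonoidHom) with hι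
  have hιi : Function.Injective ι :=
    H.subtype_injective.comp ((S : Subgroup H).subtype_injective.comp eS.symm.injective)
  set K := V.map ι with hKdef
  have hKP' : K ≤ (P' : Subgroup G) := by
    rintro _ ⟨v, -, rfl⟩
    exact hP' ⟨_, SetLike.coe_mem (eS.symm v), rfl⟩
  have hKc : Nat.card K = 4 := by rw [hKdef, Subgroup.card_map_of_injective hιi, hV.card_four]
  have hK2 : ∀ x ∈ K, x ^ 2 = 1 := by
    rintro _ ⟨v, hv, rfl⟩
    rw [← map_pow, pow_two, FourGroup.mul_self_of_mem hV hv, map_one]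
  have hCK : Subgroup.centralizer (K : Set G) = K := by
    obtain ⟨g, hg⟩ := MulAction.exists_smul_eq G P' P
    set a := MulAut.conj g
    have h1 : K.map a.toMonoidHom ≤ (P : Subgroup G) := by
      rw [← hg]; exact Subgroup.map_mono hKP'
    have h2 := hK _ h1 (by rw [Subgroup.card_map_of_injective (f := a.toMonoidHom) a.injective, hKc]) (by
      rintro _ ⟨x, hx, rfl⟩
      rw [← map_pow, hK2 x hx, map_one])
    refine le_antisymm (fun y hy => ?_) ?_
    · have h3 : a y ∈ Subgroup.centralizer ((K.map a.toMonoidHom : Subgroup G) : Set G) := by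
        refine Subgroup.mem_centralizer_iff.2 ?_
        rintro _ ⟨x, hx, rfl⟩
        show a x * a y = a y * a x
        rw [← map_mul, ← map_mul, Subgroup.mem_centralizer_iff.1 hy x hx]
      rw [h2] at h3
      obtain ⟨x, hx, hxy⟩ := h3
      exact a.injective hxy ▸ hx
    · rintro _ ⟨v, hv, rfl⟩
      refine Subgroup.mem_centralizer_iff.2 ?_
      rintro _ ⟨w, hw, rfl⟩
      rw [← map_mul, ← map_mul, FourGroup.comm_of_mem hV hw hv]
  -- elements centralizing `S` lie in `K`
  have hcentS : ∀ z : H, (∀ s ∈ (S : Subgroup H), z * s = s * z) → (z : G) ∈ K := by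
    intro z hz
    rw [← hCK]
    refine Subgroup.mem_centralizer_iff.2 ?_
    rintro _ ⟨v, -, rfl⟩
    exact (congrArg Subtype.val (hz _ (SetLike.coe_mem (eS.symm v)))).symm
  set φ : H →* MulAut (S : Subgroup H) := MulAut.conjNormal
  have hφapply : ∀ z : H, φ z = 1 → ∀ s ∈ (S : Subgroup H), z * s = s * z := fun z hz s hs =>
    mul_inv_eq_iff_eq_mul.1 (congrArg Subtype.val (MulEquiv.congr_fun hz ⟨s, hs⟩))
  set ψ : MulAut (S : Subgroup H) →* MulAut (DihedralGroup (2 ^ k)) := (MulAut.congr eS).toMonoidHom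
  by_cases hk2 : 2 ≤ k
  · -- `H` is a `2`-group
    have hH : IsPGroup 2 H := by
      intro h
      obtain ⟨u, z, hu, hz, huz, ⟨j, hj⟩, hz2⟩ := exists_parts h
      have hodd : Odd (orderOf z) := Nat.odd_iff.2 (Nat.two_dvd_ne_zero.1 hz2)
      have h1 : ψ (φ z) = 1 := PByCyclic.dihedral_two_aut hk2 _ hodd (by
        rw [← map_pow, ← map_pow, pow_orderOf_eq_one, map_one, map_one])
      have h2 : φ z = 1 := (MulAut.congr eS).injective (h1.trans (map_one _).symm)
      have h3 := hcentS z (hφapply z h2)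
      have h4 : z = 1 := by
        have h5 : orderOf (z : G) ∣ 2 := orderOf_dvd_of_pow_eq_one (hK2 _ h3)
        rw [Subgroup.orderOf_coe] at h5
        exact orderOf_eq_one_iff.1 (Nat.eq_one_of_dvd_coprimes
          (Nat.prime_two.coprime_iff_not_dvd.2 hz2) h5 dvd_rfl)
      exact ⟨j, by rw [huz, h4, mul_one]; exact hj⟩
    have htop : (S : Subgroup H) = ⊤ := (S.is_maximal' (hH.of_injective (⊤ : Subgroup H).subtype
      Subtype.val_injective) le_top).symm
    exact Or.inr (Or.inl ⟨k, ⟨((MulEquiv.subgroupCongr htop).trans Subgroup.topEquiv).symm.trans eS⟩⟩)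
  obtain rfl : k = 1 := by omega
  by_cases hidx : (S : Subgroup H).index = 1
  · have htop : (S : Subgroup H) = ⊤ := Subgroup.index_eq_one.1 hidx
    exact Or.inr (Or.inl ⟨1, ⟨((MulEquiv.subgroupCongr htop).trans Subgroup.topEquiv).symm.trans eS⟩⟩)
  have hS4 : Nat.card (S : Subgroup H) = 4 := by
    rw [Nat.card_congr eS.toEquiv, DihedralGroup.nat_card]; norm_num
  have hKS : ∀ z : H, (z : G) ∈ K → z ∈ (S : Subgroup H) := by
    rintro z ⟨v, -, hv⟩
    have h1 : z = (eS.symm v : H) := Subtype.ext hv.symm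
    rw [h1]; exact SetLike.coe_mem _
  have h6 : ∀ h : H, h ^ 6 ∈ (S : Subgroup H) := by
    intro h
    refine hKS _ (hcentS _ (hφapply _ ((MulAut.congr eS).injective ?_)))
    show ψ (φ (h ^ 6)) = (MulAut.congr eS) 1
    rw [map_pow, map_pow, map_one]
    have hperm : ∀ σ : Equiv.Perm (DihedralGroup (2 ^ 1)), σ 1 = 1 → σ ^ 6 = 1 := by decide +kernel
    let toPerm : MulAut (DihedralGroup (2 ^ 1)) →* Equiv.Perm (DihedralGroup (2 ^ 1)) :=
      { toFun := fun α => α.toEquiv, map_one' := rfl, map_mul' := fun _ _ => rfl }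
    have hinj : Function.Injective toPerm := fun α β hab => MulEquiv.ext fun x => Equiv.congr_fun hab x
    apply hinj
    rw [map_pow, map_one]
    exact hperm _ (map_one (ψ (φ h)))
  have hidx3 : (S : Subgroup H).index = 3 := by
    obtain ⟨w, hw⟩ := IsCyclic.exists_generator (α := H ⧸ (S : Subgroup H))
    induction w using QuotientGroup.induction_on with
    | H w =>
      have h1 : (S : Subgroup H).index ∣ 6 := by
        rw [Subgroup.index_eq_card, ← orderOf_eq_card_of_forall_mem_zpowers hw]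
        exact orderOf_dvd_of_pow_eq_one (by rw [← QuotientGroup.mk_pow, (QuotientGroup.eq_one_iff _).2 (h6 w)])
      have h2 := S.not_dvd_index
      have h3 := Nat.le_of_dvd (by norm_num) h1
      interval_cases hi : (S : Subgroup H).index <;> omega
  have hH12 : Nat.card H = 12 := by rw [← (S : Subgroup H).card_mul_index, hS4, hidx3]
  have hSk : IsKleinFour (S : Subgroup H) := ⟨hS4, by
    rw [Monoid.exponent_eq_of_mulEquiv eS, DihedralGroup.exponent]; rfl⟩
  haveI : Fact (Nat.Prime 3) := ⟨Nat.prime_three⟩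
  obtain ⟨t, ht⟩ := exists_prime_orderOf_dvd_card' (G := H) 3 (by rw [hH12]; norm_num)
  refine Or.inr (Or.inr (FourGroup.equiv_alternating_four (S : Subgroup H) hSk (fun z hz => ?_) t ht hH12))
  exact hKS z (hcentS z fun s hs => (Subgroup.mem_centralizer_iff.1 hz s hs).symm)

end Cfsg.Agent.S4083


set_option autoImplicit false
open Cfsg

namespace Cfsg.Agent.S4083

/-- Let G be a finite group with Sylow 2-subgroup P. Every subgroup H of G whose Sylow 2-subgroup is normal in H with cyclic quotient is cyclic, dihedral of 2-power order, or isomorphic to the alternating group of degree 4, if and only if either P is cyclic, or P is dihedral (of order at least 4) and every elementary abelian subgroup K of order 4 of P satisfies C_G(K) = K. -/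
theorem result {G : Type*} [Group G] [Finite G] (P : Sylow 2 G) :
    (∀ H : Subgroup G, (∀ S : Sylow 2 ↥H, (S : Subgroup ↥H).Normal) →
        (∀ (S : Sylow 2 ↥H) [(S : Subgroup ↥H).Normal], IsCyclic (↥H ⧸ (S : Subgroup ↥H))) →
        IsCyclic H ∨ (∃ n : ℕ, Nonempty (H ≃* DihedralGroup (2 ^ n))) ∨ Nonempty (H ≃* alternatingGroup (Fin 4))) ↔
    (IsCyclic P ∨
      ((∃ n : ℕ, 1 ≤ n ∧ Nonempty ((P : Subgroup G) ≃* DihedralGroup (2 ^ n))) ∧
        ∀ K : Subgroup G, K ≤ P → Nat.card K = 4 → (∀ k ∈ K, k ^ 2 = 1) → Subgroup.centralizer (K : Set G) = K)) := by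
  exact ⟨fun h => S4083.forward P h, fun h => S4083.backward P h⟩

end Cfsg.Agent.S4083
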