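import Cfsg.Statements.S4084
import Mathlib.GroupTheory.Perm.Cycle.Type

set_option autoImplicit false
set_option linter.style.haveILetI false

set_option autoImplicit false
open Cfsg

namespace Cfsg.Agent.S4084

/-- Adjacency in the prime graph read off the commuting graph. -/
lemma key {K : Type*} [Group K] [Finite K] {p q : ℕ} (hp : p.Prime) (hq : q.Prime) (hpq : p ≠ q) :
    (∃ g : K, orderOf g = p * q) ↔
      ∃ S : Set K, (∀ x, x ∈ S ↔ ∀ y ∈ S, Commute x y) ∧ p ∣ Nat.card S ∧ q ∣ Nat.card S := by
  constructor
  · rintro ⟨g, hg⟩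
    obtain ⟨S, hgS, hS⟩ := Finite.exists_le_maximal
      (p := fun S : Set K => ∀ x ∈ S, ∀ y ∈ S, Commute x y) (a := {g})
      (by rintro x rfl y rfl; exact Commute.refl _)
    have hmax : ∀ x, x ∈ S ↔ ∀ y ∈ S, Commute x y := by
      refine fun x => ⟨fun hx y hy => hS.1 x hx y hy, fun hx => ?_⟩
      have hins : ∀ a ∈ insert x S, ∀ b ∈ insert x S, Commute a b := by
        rintro a (rfl | ha) b (rfl | hb)
        · exact Commute.refl _
        · exact hx b hb
        · exact (hx a ha).symm
        · exact hS.1 a ha b hb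
      exact hS.2 hins (Set.subset_insert x S) (Set.mem_insert x S)
    let A : Subgroup K := Subgroup.centralizer S
    have hA : (A : Set K) = S := by
      ext x
      show x ∈ A ↔ x ∈ S
      rw [hmax x, Subgroup.mem_centralizer_iff]
      exact ⟨fun h y hy => (h y hy).symm, fun h y hy => (h y hy).symm⟩
    have hd : p * q ∣ Nat.card S := by
      rw [← hA, ← hg]
      have hgA : g ∈ A := by rw [← SetLike.mem_coe, hA]; exact hgS rfl
      exact Subgroup.orderOf_dvd_natCard A hgA
    exact ⟨S, hmax, dvd_trans (dvd_mul_right p q) hd, dvd_trans (dvd_mul_left q p) hd⟩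
  · rintro ⟨S, hmax, hpS, hqS⟩
    let A : Subgroup K := Subgroup.centralizer S
    have hA : (A : Set K) = S := by
      ext x
      show x ∈ A ↔ x ∈ S
      rw [hmax x, Subgroup.mem_centralizer_iff]
      exact ⟨fun h y hy => (h y hy).symm, fun h y hy => (h y hy).symm⟩
    rw [← hA] at hpS hqS
    haveI := Fact.mk hp
    haveI := Fact.mk hq
    obtain ⟨x, hx⟩ := exists_prime_orderOf_dvd_card' (G := A) p hpS
    obtain ⟨y, hy⟩ := exists_prime_orderOf_dvd_card' (G := A) q hqS
    have hxy : Commute (x : K) (y : K) :=
      (hmax _).1 (hA ▸ x.2) _ (hA ▸ y.2)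
    refine ⟨(x : K) * y, ?_⟩
    rw [hxy.orderOf_mul_eq_mul_orderOf_of_coprime, Subgroup.orderOf_coe, Subgroup.orderOf_coe, hx, hy]
    rw [Subgroup.orderOf_coe, Subgroup.orderOf_coe, hx, hy]
    exact (Nat.coprime_primes hp hq).2 hpq

/-- Let G and H be finite groups whose commuting graphs are isomorphic: there is a bijection e : G → H with x, y commuting exactly when e(x), e(y) commute. Then G and H have the same prime graph: for distinct primes p, q, G has an element of order pq if and only if H does (and #G = #H, so the prime divisors agree). -/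
theorem result {G H : Type*} [Group G] [Finite G] [Group H] [Finite H] (e : G ≃ H)
    (he : ∀ x y : G, Commute x y ↔ Commute (e x) (e y))
    {p q : ℕ} (hp : p.Prime) (hq : q.Prime) (hpq : p ≠ q) :
    (∃ g : G, orderOf g = p * q) ↔ (∃ h : H, orderOf h = p * q) := by
  rw [key hp hq hpq, key hp hq hpq]
  constructor
  · rintro ⟨S, h1, h2, h3⟩
    refine ⟨e '' S, fun x => ?_, ?_, ?_⟩
    · obtain ⟨x, rfl⟩ := e.surjective x
      simp only [e.injective.mem_set_image, Set.forall_mem_image, ← he]
      exact h1 x
    · rw [Nat.card_image_of_injective e.injective]; exact h2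
    · rw [Nat.card_image_of_injective e.injective]; exact h3
  · rintro ⟨S, h1, h2, h3⟩
    refine ⟨e.symm '' S, fun x => ?_, ?_, ?_⟩
    · obtain ⟨x, rfl⟩ := e.symm.surjective x
      simp only [e.symm.injective.mem_set_image, Set.forall_mem_image, he, Equiv.apply_symm_apply]
      exact h1 x
    · rw [Nat.card_image_of_injective e.symm.injective]; exact h2
    · rw [Nat.card_image_of_injective e.symm.injective]; exact h3

end Cfsg.Agent.S4084
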