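import Cfsg.Statements.S4085
import Mathlib

set_option autoImplicit false
set_option linter.style.haveILetI false

namespace Cfsg.Agent.S4085

variable {G : Type*} [Group G] [Finite G]

/-- Adjacency in the power graph (including loops). -/
def PAdj (x y : G) : Prop := x ∈ Subgroup.zpowers y ∨ y ∈ Subgroup.zpowers x

lemma padj_refl (x : G) : PAdj x x := Or.inl (Subgroup.mem_zpowers x)

lemma padj_symm {x y : G} (h : PAdj x y) : PAdj y x := h.symm

lemma padj_one (x : G) : PAdj 1 x := Or.inl (Subgroup.one_mem _)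

/-- In a cyclic subgroup containment is divisibility of orders. -/
lemma mem_zpowers_iff_dvd {x a b : G} (ha : a ∈ Subgroup.zpowers x) (hb : b ∈ Subgroup.zpowers x) :
    a ∈ Subgroup.zpowers b ↔ orderOf a ∣ orderOf b := by
  refine ⟨fun h => ?_, fun h => ?_⟩
  · rw [← Nat.card_zpowers b]
    exact Subgroup.orderOf_dvd_natCard _ h
  · set K := Subgroup.zpowers a ⊔ Subgroup.zpowers b with hK
    have hKx : K ≤ Subgroup.zpowers x :=
      sup_le (Subgroup.zpowers_le.2 ha) (Subgroup.zpowers_le.2 hb)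
    haveI : IsCyclic K := Subgroup.isCyclic_of_le hKx
    have hexp : ∀ z ∈ K, z ^ orderOf b = 1 := by
      have hcomm : ∀ u v : G, u ∈ Subgroup.zpowers x → v ∈ Subgroup.zpowers x → Commute u v := by
        intro u v hu hv
        obtain ⟨i, rfl⟩ := hu
        obtain ⟨j, rfl⟩ := hv
        exact (Commute.refl x).zpow_zpow i j
      let S : Subgroup G :=
        { carrier := {z | z ∈ Subgroup.zpowers x ∧ z ^ orderOf b = 1}
          one_mem' := ⟨Subgroup.one_mem _, one_pow _⟩
          mul_mem' := fun {u v} hu hv => ⟨Subgroup.mul_mem _ hu.1 hv.1, by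
            rw [(hcomm u v hu.1 hv.1).mul_pow, hu.2, hv.2, one_mul]⟩
          inv_mem' := fun {u} hu => ⟨Subgroup.inv_mem _ hu.1, by rw [inv_pow, hu.2, inv_one]⟩ }
      have hle : K ≤ S := sup_le
        (Subgroup.zpowers_le.2 ⟨ha, orderOf_dvd_iff_pow_eq_one.1 h⟩)
        (Subgroup.zpowers_le.2 ⟨hb, pow_orderOf_eq_one b⟩)
      exact fun z hz => (hle hz).2
    have hcard : Nat.card K ≤ Nat.card (Subgroup.zpowers b) := by
      rw [Nat.card_zpowers]
      refine Nat.le_of_dvd (orderOf_pos b) ?_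
      rw [← IsCyclic.exponent_eq_card]
      exact Monoid.exponent_dvd_of_forall_pow_eq_one fun z => Subtype.ext (hexp z z.2)
    have hbK : Subgroup.zpowers b = K := Subgroup.eq_of_le_of_card_ge le_sup_right hcard
    rw [hbK]
    exact (le_sup_left : Subgroup.zpowers a ≤ K) (Subgroup.mem_zpowers a)

lemma padj_iff_dvd {x a b : G} (ha : a ∈ Subgroup.zpowers x) (hb : b ∈ Subgroup.zpowers x) :
    PAdj a b ↔ (orderOf a ∣ orderOf b ∨ orderOf b ∣ orderOf a) := by
  unfold PAdj
  rw [mem_zpowers_iff_dvd ha hb, mem_zpowers_iff_dvd hb ha]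

lemma exists_order {x : G} {d : ℕ} (hd : d ∣ orderOf x) :
    ∃ a ∈ Subgroup.zpowers x, orderOf a = d :=
  ⟨x ^ (orderOf x / d), Subgroup.npow_mem_zpowers _ _,
    orderOf_pow_orderOf_div (orderOf_pos x).ne' hd⟩

/-- The vertices of a cyclic group adjacent to all others are the trivial ones. -/
lemma universal_in_cyclic {x u : G} {p q : ℕ} (hp : p.Prime) (hq : q.Prime) (hpq : p ≠ q)
    (hpx : p ∣ orderOf x) (hqx : q ∣ orderOf x) (hu : u ∈ Subgroup.zpowers x)
    (h : ∀ w ∈ Subgroup.zpowers x, PAdj u w) : orderOf u = 1 ∨ orderOf u = orderOf x := by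
  by_contra hcon
  push Not at hcon
  obtain ⟨hu1, hun⟩ := hcon
  have hdvd : orderOf u ∣ orderOf x := by
    rw [← Nat.card_zpowers x]; exact Subgroup.orderOf_dvd_natCard _ hu
  have hlt : ∃ r, r.Prime ∧ r ^ ((orderOf u).factorization r + 1) ∣ orderOf x := by
    by_contra h'
    push Not at h'
    refine hun (Nat.dvd_antisymm hdvd ((Nat.factorization_le_iff_dvd (orderOf_pos x).ne'
      (orderOf_pos u).ne').1 fun r => ?_))
    by_cases hr : r.Prime
    · have h2 := h' r hr
      rw [hr.pow_dvd_iff_le_factorization (orderOf_pos x).ne'] at h2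
      omega
    · simp [Nat.factorization_eq_zero_of_not_prime _ hr]
  obtain ⟨r, hr, hrd⟩ := hlt
  obtain ⟨a, ha, hao⟩ := exists_order hrd
  have hna : ¬ r ^ ((orderOf u).factorization r + 1) ∣ orderOf u := by
    rw [hr.pow_dvd_iff_le_factorization (orderOf_pos u).ne']
    omega
  rcases (padj_iff_dvd hu ha).1 (h a ha) with h1 | h1
  · rw [hao] at h1
    obtain ⟨i, -, hi⟩ := (Nat.dvd_prime_pow hr).1 h1
    obtain ⟨s, hs, hsr, hsx⟩ : ∃ s, s.Prime ∧ s ≠ r ∧ s ∣ orderOf x := by
      rcases eq_or_ne p r with rfl | hpr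
      · exact ⟨q, hq, hpq.symm, hqx⟩
      · exact ⟨p, hp, hpr, hpx⟩
    obtain ⟨b, hb, hbo⟩ := exists_order hsx
    rcases (padj_iff_dvd hu hb).1 (h b hb) with h2 | h2
    · rw [hbo] at h2
      rcases (Nat.dvd_prime hs).1 h2 with h3 | h3
      · exact hu1 h3
      · rw [hi] at h3
        have := hs.dvd_of_dvd_pow (h3 ▸ dvd_rfl : s ∣ r ^ i)
        exact hsr ((Nat.prime_dvd_prime_iff_eq hs hr).1 this)
    · rw [hbo, hi] at h2
      exact hsr ((Nat.prime_dvd_prime_iff_eq hs hr).1 (hs.dvd_of_dvd_pow h2))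
  · rw [hao] at h1
    exact hna h1

/-- Colourings in which differently coloured inner vertices are adjacent are constant. -/
lemma colour_const {x : G} {p q : ℕ} (hp : p.Prime) (hq : q.Prime) (hpq : p ≠ q)
    (hpx : p ∣ orderOf x) (hqx : q ∣ orderOf x) (c : G → Prop)
    (hc : ∀ a ∈ Subgroup.zpowers x, ∀ b ∈ Subgroup.zpowers x, orderOf a ≠ 1 →
      orderOf a ≠ orderOf x → orderOf b ≠ 1 → orderOf b ≠ orderOf x → ¬ PAdj a b → (c a ↔ c b)) :
    ∀ a ∈ Subgroup.zpowers x, ∀ b ∈ Subgroup.zpowers x, orderOf a ≠ 1 →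
      orderOf a ≠ orderOf x → orderOf b ≠ 1 → orderOf b ≠ orderOf x → (c a ↔ c b) := by
  have hnp : ∀ r k : ℕ, r.Prime → r ^ k ≠ orderOf x := by
    intro r k hr h
    have h1 := (Nat.prime_dvd_prime_iff_eq hp hr).1 (hp.dvd_of_dvd_pow (h ▸ hpx))
    have h2 := (Nat.prime_dvd_prime_iff_eq hq hr).1 (hq.dvd_of_dvd_pow (h ▸ hqx))
    exact hpq (h1.trans h2.symm)
  have hother : ∀ r : ℕ, ∃ s, s.Prime ∧ s ≠ r ∧ s ∣ orderOf x := by
    intro r
    rcases eq_or_ne p r with rfl | hpr
    · exact ⟨q, hq, hpq.symm, hqx⟩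
    · exact ⟨p, hp, hpr, hpx⟩
  have hprime : ∀ a ∈ Subgroup.zpowers x, ∀ b ∈ Subgroup.zpowers x,
      (orderOf a).Prime → (orderOf b).Prime → orderOf a ≠ orderOf b → (c a ↔ c b) := by
    intro a ha b hb hra hrb hne
    refine hc a ha b hb hra.one_lt.ne' (fun h => ?_) hrb.one_lt.ne' (fun h => ?_) ?_
    · exact hnp _ 1 hra (by rw [pow_one, h])
    · exact hnp _ 1 hrb (by rw [pow_one, h])
    · rw [padj_iff_dvd ha hb, Nat.prime_dvd_prime_iff_eq hra hrb,
        Nat.prime_dvd_prime_iff_eq hrb hra]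
      rintro (h | h)
      · exact hne h
      · exact hne h.symm
  obtain ⟨ep, hep, hepo⟩ := exists_order hpx
  obtain ⟨eq', heq, heqo⟩ := exists_order hqx
  have hall : ∀ b ∈ Subgroup.zpowers x, (orderOf b).Prime → (c b ↔ c ep) := by
    intro b hb hrb
    rcases eq_or_ne (orderOf b) p with h | h
    · exact (hprime b hb eq' heq hrb (heqo ▸ hq) (by rw [h, heqo]; exact hpq)).trans
        (hprime eq' heq ep hep (heqo ▸ hq) (hepo ▸ hp) (by rw [heqo, hepo]; exact hpq.symm))
    · exact hprime b hb ep hep hrb (hepo ▸ hp) (hepo ▸ h)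
  have key : ∀ a ∈ Subgroup.zpowers x, orderOf a ≠ 1 → orderOf a ≠ orderOf x → (c a ↔ c ep) := by
    intro a ha ha1 han
    have hdvd : orderOf a ∣ orderOf x := by
      rw [← Nat.card_zpowers x]; exact Subgroup.orderOf_dvd_natCard _ ha
    by_cases hall' : ∀ s, s.Prime → s ∣ orderOf x → s ∣ orderOf a
    · obtain ⟨r, hr, hrd⟩ : ∃ r, r.Prime ∧ r ^ ((orderOf a).factorization r + 1) ∣ orderOf x := by
        by_contra h'
        push Not at h'
        refine han (Nat.dvd_antisymm hdvd ((Nat.factorization_le_iff_dvd (orderOf_pos x).ne'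
          (orderOf_pos a).ne').1 fun r => ?_))
        by_cases hr : r.Prime
        · have h2 := h' r hr
          rw [hr.pow_dvd_iff_le_factorization (orderOf_pos x).ne'] at h2
          omega
        · simp [Nat.factorization_eq_zero_of_not_prime _ hr]
      obtain ⟨f, hf, hfo⟩ := exists_order hrd
      obtain ⟨s, hs, hsr, hsx⟩ := hother r
      obtain ⟨es, hes, heso⟩ := exists_order hsx
      have hf1 : orderOf f ≠ 1 := by
        rw [hfo]; exact (one_lt_pow₀ hr.one_lt (by omega)).ne'
      have hfn : orderOf f ≠ orderOf x := hfo ▸ hnp r _ hr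
      have h1 : c a ↔ c f := by
        refine hc a ha f hf ha1 han hf1 hfn ?_
        rw [padj_iff_dvd ha hf, hfo]
        rintro (h | h)
        · exact hsr ((Nat.prime_dvd_prime_iff_eq hs hr).1
            (hs.dvd_of_dvd_pow ((hall' s hs hsx).trans h)))
        · rw [hr.pow_dvd_iff_le_factorization (orderOf_pos a).ne'] at h
          omega
      have h2 : c f ↔ c es := by
        refine hc f hf es hes hf1 hfn (heso ▸ hs.one_lt.ne')
          (heso ▸ (by simpa using hnp s 1 hs)) ?_
        rw [padj_iff_dvd hf hes, hfo, heso]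
        rintro (h | h)
        · exact hsr ((Nat.prime_dvd_prime_iff_eq hr hs).1
            (dvd_trans (dvd_pow_self r (by omega)) h)).symm
        · exact hsr ((Nat.prime_dvd_prime_iff_eq hs hr).1 (hs.dvd_of_dvd_pow h))
      exact h1.trans (h2.trans (hall es hes (heso ▸ hs)))
    · push Not at hall'
      obtain ⟨s, hs, hsx, hsa⟩ := hall'
      obtain ⟨es, hes, heso⟩ := exists_order hsx
      refine (hc a ha es hes ha1 han (heso ▸ hs.one_lt.ne')
        (heso ▸ (by simpa using hnp s 1 hs)) ?_).trans (hall es hes (heso ▸ hs))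
      rw [padj_iff_dvd ha hes, heso]
      rintro (h | h)
      · rcases (Nat.dvd_prime hs).1 h with h3 | h3
        · exact ha1 h3
        · exact hsa (h3 ▸ dvd_rfl)
      · exact hsa h
  exact fun a ha b hb ha1 han hb1 hbn => (key a ha ha1 han).trans (key b hb hb1 hbn).symm

/-- A vertex of a cyclic group with the neighbourhood of an element of prime order has that
order. -/
lemma order_eq_of_twin {x a b : G} {p q : ℕ} (hp : p.Prime) (hq : q.Prime) (hpq : p ≠ q)
    (hpx : p ∣ orderOf x) (hqx : q ∣ orderOf x) (ha : a ∈ Subgroup.zpowers x)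
    (hb : b ∈ Subgroup.zpowers x) (hra : (orderOf a).Prime) (hb1 : orderOf b ≠ 1)
    (h : ∀ w ∈ Subgroup.zpowers x, PAdj a w ↔ PAdj b w) : orderOf b = orderOf a := by
  set r := orderOf a with hr
  have hrx : r ∣ orderOf x := by
    rw [hr, ← Nat.card_zpowers x]; exact Subgroup.orderOf_dvd_natCard _ ha
  have hrb : r ∣ orderOf b := by
    rcases (padj_iff_dvd hb ha).1 ((h a ha).1 (padj_refl a)) with h1 | h1
    · rcases (Nat.dvd_prime hra).1 h1 with h2 | h2
      · exact absurd h2 hb1
      · exact h2 ▸ dvd_rfl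
    · exact h1
  obtain ⟨s, hs, hsr, hsx⟩ : ∃ s, s.Prime ∧ s ≠ r ∧ s ∣ orderOf x := by
    rcases eq_or_ne p r with h' | hpr
    · exact ⟨q, hq, fun e => hpq (h'.trans e.symm), hqx⟩
    · exact ⟨p, hp, hpr, hpx⟩
  have hns : ¬ s ∣ orderOf b := by
    intro h1
    obtain ⟨es, hes, heso⟩ := exists_order hsx
    have h2 : PAdj b es := (padj_iff_dvd hb hes).2 (Or.inr (heso ▸ h1))
    rcases (padj_iff_dvd ha hes).1 ((h es hes).2 h2) with h3 | h3
    · exact hsr ((Nat.prime_dvd_prime_iff_eq hra hs).1 (heso ▸ h3)).symm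
    · exact hsr ((Nat.prime_dvd_prime_iff_eq hs hra).1 (heso ▸ h3))
  obtain ⟨w, hw, hwo⟩ := exists_order
    ((Nat.coprime_primes hra hs).2 hsr.symm |>.mul_dvd_of_dvd_of_dvd hrx hsx)
  have h4 : PAdj b w := (h w hw).1 ((padj_iff_dvd ha hw).2 (Or.inl (hwo ▸ dvd_mul_right r s)))
  rcases (padj_iff_dvd hb hw).1 h4 with h5 | h5
  · rw [hwo] at h5
    exact Nat.dvd_antisymm ((((hs.coprime_iff_not_dvd).2 hns).symm).dvd_of_dvd_mul_right h5) hrb
  · rw [hwo] at h5
    exact absurd (dvd_trans (dvd_mul_left s r) h5) hns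

/-- Elements in a set closed under generators split into classes of totient size. -/
lemma dvd_card_of_closed (T : Set G) (m : ℕ) (hT : ∀ z ∈ T, ∀ z' : G,
      Subgroup.zpowers z' = Subgroup.zpowers z → z' ∈ T)
    (hm : ∀ z ∈ T, m ∣ Nat.totient (orderOf z)) : m ∣ T.ncard := by
  classical
  haveI := Fintype.ofFinite G
  rw [Set.ncard_eq_toFinset_card' T,
    Finset.card_eq_sum_card_image (fun z : G => Subgroup.zpowers z) T.toFinset]
  refine Finset.dvd_sum fun Z hZ => ?_
  obtain ⟨z, hz, rfl⟩ := Finset.mem_image.1 hZ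
  rw [Set.mem_toFinset] at hz
  have hfib : (T.toFinset.filter fun w => Subgroup.zpowers w = Subgroup.zpowers z) =
      (Finset.univ.filter fun w : Subgroup.zpowers z => orderOf w = orderOf z).map
        ⟨Subtype.val, Subtype.val_injective⟩ := by
    ext w
    simp only [Finset.mem_filter, Set.mem_toFinset, Finset.mem_map, Finset.mem_univ, true_and,
      Function.Embedding.coeFn_mk]
    constructor
    · rintro ⟨-, hw⟩
      refine ⟨⟨w, hw ▸ Subgroup.mem_zpowers w⟩, ?_, rfl⟩
      rw [Subgroup.orderOf_mk, ← Nat.card_zpowers, hw, Nat.card_zpowers]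
    · rintro ⟨w', hw', rfl⟩
      have heq : Subgroup.zpowers (w' : G) = Subgroup.zpowers z :=
        Subgroup.eq_of_le_of_card_ge (Subgroup.zpowers_le.2 w'.2) (by
          rw [Nat.card_zpowers, Nat.card_zpowers, Subgroup.orderOf_coe, hw'])
      exact ⟨hT z hz _ heq, heq⟩
  have hcard : (T.toFinset.filter fun w => Subgroup.zpowers w = Subgroup.zpowers z).card =
      Nat.totient (orderOf z) := by
    rw [hfib, Finset.card_map, IsCyclic.card_orderOf_eq_totient]
    rw [Fintype.card_zpowers]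
  rw [hcard]
  exact hm z hz

/-- An isomorphism of power graphs maps a maximal non-prime-power cyclic subgroup onto one of
the same order. -/
lemma exists_orderOf_eq {H : Type*} [Group H] [Finite H] (e : G ≃ H)
    (he : ∀ x y : G, PAdj x y ↔ PAdj (e x) (e y)) (x : G) {p q : ℕ} (hp : p.Prime) (hq : q.Prime)
    (hpq : p ≠ q) (hpx : p ∣ orderOf x) (hqx : q ∣ orderOf x)
    (hmax : ∀ y : G, x ∈ Subgroup.zpowers y → y ∈ Subgroup.zpowers x) :
    ∃ h : H, orderOf h = orderOf x := by
  classical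
  set n := orderOf x with hn
  have hnbr : ∀ w, PAdj x w → w ∈ Subgroup.zpowers x := fun w hw => by
    rcases hw with h | h
    · exact hmax w h
    · exact h
  have hadjx : ∀ w ∈ Subgroup.zpowers x, PAdj x w := fun w hw => Or.inr hw
  have hgen : ∀ u ∈ Subgroup.zpowers x, orderOf u = n → ∀ w, PAdj u w ↔ w ∈ Subgroup.zpowers x := by
    intro u hu huo w
    have hux : Subgroup.zpowers u = Subgroup.zpowers x :=
      Subgroup.eq_of_le_of_card_ge (Subgroup.zpowers_le.2 hu) (by
        rw [Nat.card_zpowers, Nat.card_zpowers, huo])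
    constructor
    · rintro (h | h)
      · have hxw : x ∈ Subgroup.zpowers w := Subgroup.zpowers_le.1 (hux ▸ Subgroup.zpowers_le.2 h)
        exact hmax w hxw
      · rwa [← hux]
    · intro hw
      exact Or.inr (hux ▸ hw)
  set u₀ := e.symm 1 with hu₀
  have hu₀univ : ∀ w, PAdj u₀ w := fun w => by
    rw [he, hu₀, Equiv.apply_symm_apply]
    exact padj_one _
  have hu₀M : u₀ ∈ Subgroup.zpowers x := hnbr u₀ (padj_symm (hu₀univ x))
  have hu₀o := universal_in_cyclic hp hq hpq hpx hqx hu₀M fun w _ => hu₀univ w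
  -- the vertices with the neighbourhood of `x`
  set C : Set G := {u | u ∈ Subgroup.zpowers x ∧ (orderOf u = 1 ∨ orderOf u = n)} \ {u₀} with hC
  have hCadj : ∀ u ∈ C, ∀ w, PAdj u w ↔ w ∈ Subgroup.zpowers x := by
    rintro u ⟨⟨hu, hu'⟩, hne⟩
    rcases hu' with hu' | hu'
    · rw [orderOf_eq_one_iff] at hu'
      subst hu'
      rcases hu₀o with h | h
      · exact absurd (orderOf_eq_one_iff.1 h).symm hne
      · intro w
        exact ⟨fun _ => ((hgen u₀ hu₀M h w).1 (hu₀univ w)), fun _ => padj_one w⟩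
    · exact hgen u hu hu'
  have hUcard : {u : G | u ∈ Subgroup.zpowers x ∧ (orderOf u = 1 ∨ orderOf u = n)}.ncard =
      Nat.totient n + 1 := by
    haveI := Fintype.ofFinite G
    have h1 : {u : G | u ∈ Subgroup.zpowers x ∧ (orderOf u = 1 ∨ orderOf u = n)} =
        insert 1 {u : G | u ∈ Subgroup.zpowers x ∧ orderOf u = n} := by
      ext u
      simp only [Set.mem_ofPred_eq, Set.mem_insert_iff]
      constructor
      · rintro ⟨hu, h | h⟩
        · exact Or.inl (orderOf_eq_one_iff.1 h)
        · exact Or.inr ⟨hu, h⟩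
      · rintro (rfl | ⟨hu, h⟩)
        · exact ⟨Subgroup.one_mem _, Or.inl orderOf_one⟩
        · exact ⟨hu, Or.inr h⟩
    have h2 : {u : G | u ∈ Subgroup.zpowers x ∧ orderOf u = n} =
        Subtype.val '' {w : Subgroup.zpowers x | orderOf w = n} := by
      ext u
      simp only [Set.mem_ofPred_eq, Set.mem_image]
      exact ⟨fun ⟨hu, h⟩ => ⟨⟨u, hu⟩, (Subgroup.orderOf_mk u hu).trans h, rfl⟩,
        fun ⟨w, hw, hwu⟩ => hwu ▸ ⟨w.2, (Subgroup.orderOf_coe w).trans hw⟩⟩
    rw [h1, Set.ncard_insert_of_notMem, h2, Set.ncard_image_of_injective _ Subtype.val_injective,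
      Set.ncard_eq_toFinset_card', Set.toFinset_ofPred, IsCyclic.card_orderOf_eq_totient]
    · rw [Fintype.card_zpowers]
    · rintro ⟨-, h⟩
      rw [orderOf_one] at h
      have : p ∣ 1 := by rw [h]; exact hpx
      exact hp.one_lt.ne' (Nat.dvd_one.1 this)
  have htot : 2 ≤ Nat.totient n := by
    have hn2 : 2 < n := by
      have h6 := Nat.le_of_dvd (orderOf_pos x)
        (((Nat.coprime_primes hp hq).2 hpq).mul_dvd_of_dvd_of_dvd hpx hqx)
      have h1 := hp.two_le
      have h2 := hq.two_le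
      have h4 : 2 * 2 ≤ p * q := Nat.mul_le_mul h1 h2
      omega
    have := (Nat.totient_pos.2 (by omega : 0 < n))
    have := Nat.totient_even hn2
    rcases this with ⟨k, hk⟩
    omega
  have hCne : C.Nonempty := by
    apply Set.nonempty_of_ncard_ne_zero
    have := Set.pred_ncard_le_ncard_sdiff_singleton
      {u : G | u ∈ Subgroup.zpowers x ∧ (orderOf u = 1 ∨ orderOf u = n)} u₀
    rw [← hC] at this
    omega
  obtain ⟨u, huC, humax⟩ := Set.exists_max_image C (fun u => orderOf (e u)) (Set.toFinite _) hCne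
  set y := e u with hy
  have hWy : ∀ w, PAdj y (e w) ↔ w ∈ Subgroup.zpowers x := fun w => by
    rw [hy, ← he]; exact hCadj u huC w
  have hU : ∀ w ∈ Subgroup.zpowers x, (orderOf w = 1 ∨ orderOf w = n) →
      e w ∈ Subgroup.zpowers y := by
    intro w hw hwo
    by_cases hw0 : w = u₀
    · rw [hw0, hu₀, Equiv.apply_symm_apply]; exact Subgroup.one_mem _
    · have hwC : w ∈ C := ⟨⟨hw, hwo⟩, hw0⟩
      rcases (hWy w).2 hw with h | h
      · have h2 : Subgroup.zpowers y = Subgroup.zpowers (e w) :=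
          Subgroup.eq_of_le_of_card_ge (Subgroup.zpowers_le.2 h) (by
            rw [Nat.card_zpowers, Nat.card_zpowers]; exact humax w hwC)
        rw [h2]; exact Subgroup.mem_zpowers _
      · exact h
  have hyW : ∀ h ∈ Subgroup.zpowers y, e.symm h ∈ Subgroup.zpowers x := fun h hh => by
    rw [← hWy, Equiv.apply_symm_apply]; exact Or.inr hh
  by_cases hcase : ∃ h ∈ Subgroup.zpowers y, orderOf (e.symm h) ≠ 1 ∧ orderOf (e.symm h) ≠ n
  · obtain ⟨h₁, hh₁, h₁1, h₁n⟩ := hcase
    refine ⟨y, ?_⟩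
    have hall : ∀ w ∈ Subgroup.zpowers x, e w ∈ Subgroup.zpowers y := by
      intro w hw
      by_cases hwo : orderOf w = 1 ∨ orderOf w = n
      · exact hU w hw hwo
      push Not at hwo
      refine (colour_const hp hq hpq hpx hqx (fun w => e w ∈ Subgroup.zpowers y) ?_ _
        (hyW _ hh₁) w hw h₁1 h₁n hwo.1 hwo.2).1 (by rwa [Equiv.apply_symm_apply])
      intro a ha b hb _ _ _ _ hnadj
      have key : ∀ a b : G, b ∈ Subgroup.zpowers x → ¬ PAdj a b → e a ∈ Subgroup.zpowers y →
          e b ∈ Subgroup.zpowers y := by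
        intro a b hb hnadj h1
        rcases (hWy b).2 hb with h2 | h2
        · refine absurd ((he a b).2 (Or.inl ?_)) hnadj
          exact (Subgroup.zpowers_le.2 h2) h1
        · exact h2
      exact ⟨key a b hb hnadj, key b a ha (fun h => hnadj (padj_symm h))⟩
    let f : Subgroup.zpowers x → Subgroup.zpowers y := fun w => ⟨e w, hall w w.2⟩
    have hf : Function.Bijective f :=
      ⟨fun a b hab => Subtype.ext (e.injective (congrArg Subtype.val hab)),
        fun b => ⟨⟨e.symm b, hyW b b.2⟩, Subtype.ext (e.apply_symm_apply b)⟩⟩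
    rw [hn, ← Nat.card_zpowers, ← Nat.card_zpowers, Nat.card_congr (Equiv.ofBijective f hf)]
  · exfalso
    push Not at hcase
    have hyset : (Subgroup.zpowers y : Set H) =
        e '' {w | w ∈ Subgroup.zpowers x ∧ (orderOf w = 1 ∨ orderOf w = n)} := by
      ext h
      constructor
      · intro hh
        exact ⟨e.symm h, ⟨hyW h hh, or_iff_not_imp_left.2 (hcase h hh)⟩, e.apply_symm_apply h⟩
      · rintro ⟨w, ⟨hw, hwo⟩, rfl⟩
        exact hU w hw hwo
    have hk : orderOf y = Nat.totient n + 1 := by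
      rw [← Nat.card_zpowers, ← SetLike.coe_sort_coe, Nat.card_coe_set_eq, hyset,
        Set.ncard_image_of_injective _ e.injective, hUcard]
    have hUadj : ∀ h ∈ Subgroup.zpowers y, ∀ h' ∈ Subgroup.zpowers y, PAdj h h' := by
      intro h hh h' hh'
      have h1 : h ∈ e '' {w | w ∈ Subgroup.zpowers x ∧ (orderOf w = 1 ∨ orderOf w = n)} :=
        hyset ▸ hh
      have h2 : h' ∈ e '' {w | w ∈ Subgroup.zpowers x ∧ (orderOf w = 1 ∨ orderOf w = n)} :=
        hyset ▸ hh'
      obtain ⟨a, ⟨ha, hao⟩, rfl⟩ := h1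
      obtain ⟨b, ⟨hb, hbo⟩, rfl⟩ := h2
      rw [← he, padj_iff_dvd ha hb]
      rcases hao with hao | hao
      · exact Or.inl (hao ▸ one_dvd _)
      · refine Or.inr ?_
        rw [hao, hn, ← Nat.card_zpowers x]
        exact Subgroup.orderOf_dvd_natCard _ hb
    obtain ⟨ℓ, hℓ, hℓy⟩ := Nat.exists_prime_and_dvd (show orderOf y ≠ 1 by omega)
    have hpow : ∀ {r : ℕ}, r.Prime → r ∣ orderOf y → r = ℓ := by
      intro r hr hry
      obtain ⟨a, ha, hao⟩ := exists_order hry
      obtain ⟨b, hb, hbo⟩ := exists_order hℓy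
      rcases (padj_iff_dvd ha hb).1 (hUadj a ha b hb) with h | h
      · rw [hao, hbo] at h; exact (Nat.prime_dvd_prime_iff_eq hr hℓ).1 h
      · rw [hao, hbo] at h; exact ((Nat.prime_dvd_prime_iff_eq hℓ hr).1 h).symm
    have hky := Nat.eq_prime_pow_of_unique_prime_dvd (orderOf_pos y).ne' hpow
    have hT : ∀ r : ℕ, r.Prime → r ∣ n → Nat.totient (orderOf y) ∣ r - 1 := by
      intro r hr hrn
      haveI := Fintype.ofFinite G
      set T : Set G := {w | w ∈ Subgroup.zpowers x ∧ orderOf w = r} with hT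
      have hTc : T.ncard = r - 1 := by
        have h2 : T = Subtype.val '' {w : Subgroup.zpowers x | orderOf w = r} := by
          ext w
          simp only [hT, Set.mem_ofPred_eq, Set.mem_image]
          exact ⟨fun ⟨hw, h⟩ => ⟨⟨w, hw⟩, (Subgroup.orderOf_mk w hw).trans h, rfl⟩,
            fun ⟨v, hv, hvw⟩ => hvw ▸ ⟨v.2, (Subgroup.orderOf_coe v).trans hv⟩⟩
        rw [h2, Set.ncard_image_of_injective _ Subtype.val_injective,
          Set.ncard_eq_toFinset_card', Set.toFinset_ofPred,
          IsCyclic.card_orderOf_eq_totient (by rw [Fintype.card_zpowers]; exact hrn),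
          Nat.totient_prime hr]
      rw [← hTc, ← Set.ncard_image_of_injective T e.injective]
      have hrn' : r ≠ n := by
        intro h
        have h1 := (Nat.prime_dvd_prime_iff_eq hp hr).1 (h ▸ hpx)
        have h2 := (Nat.prime_dvd_prime_iff_eq hq hr).1 (h ▸ hqx)
        exact hpq (h1.trans h2.symm)
      have hTy : ∀ z ∈ e '' T, z ∉ Subgroup.zpowers y := by
        rintro _ ⟨a, ⟨ha, hao⟩, rfl⟩ hz
        have := hcase _ hz
        rw [Equiv.symm_apply_apply, hao] at this
        exact hrn' (this hr.one_lt.ne')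
      refine dvd_card_of_closed _ _ ?_ fun z hz => Nat.totient_dvd_of_dvd ?_
      · intro z hz z' hz'
        have hzy := hTy z hz
        obtain ⟨a, ⟨ha, hao⟩, rfl⟩ := hz
        have hmem : z' ∈ Subgroup.zpowers (e a) ∧ e a ∈ Subgroup.zpowers z' :=
          ⟨hz' ▸ Subgroup.mem_zpowers z', hz'.symm ▸ Subgroup.mem_zpowers (e a)⟩
        have hsame : ∀ h : H, PAdj (e a) h ↔ PAdj z' h := by
          intro h
          have hiff : ∀ v : H, e a ∈ Subgroup.zpowers v ↔ z' ∈ Subgroup.zpowers v := fun v =>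
            ⟨fun h1 => Subgroup.zpowers_le.2 h1 hmem.1, fun h1 => Subgroup.zpowers_le.2 h1 hmem.2⟩
          unfold PAdj
          rw [hiff, hz']
        have ha' : e.symm z' ∈ Subgroup.zpowers x := by
          rw [← hWy, Equiv.apply_symm_apply]
          exact padj_symm ((hsame y).1 (padj_symm ((hWy a).2 ha)))
        refine ⟨e.symm z', ⟨ha', ?_⟩, e.apply_symm_apply z'⟩
        rw [← hao]
        refine order_eq_of_twin hp hq hpq hpx hqx ha ha' (hao ▸ hr) (fun h1 => hzy ?_) fun w hw => ?_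
        · have h2 := hU _ ha' (Or.inl h1)
          rw [Equiv.apply_symm_apply] at h2
          exact Subgroup.zpowers_le.2 h2 hmem.2
        · rw [he, he, Equiv.apply_symm_apply]
          exact hsame _
      · have hzy := hTy z hz
        obtain ⟨a, ⟨ha, hao⟩, rfl⟩ := hz
        rcases (hWy a).2 ha with h | h
        · rw [← Nat.card_zpowers (e a)]
          exact Subgroup.orderOf_dvd_natCard _ h
        · exact absurd h hzy
    set k := orderOf y with hkdef
    have hsq : Nat.totient k * Nat.totient k ∣ Nat.totient n := by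
      refine (Nat.mul_dvd_mul (hT p hp hpx) (hT q hq hqx)).trans ?_
      rw [← Nat.totient_prime hp, ← Nat.totient_prime hq,
        ← Nat.totient_mul ((Nat.coprime_primes hp hq).2 hpq)]
      exact Nat.totient_dvd_of_dvd
        (((Nat.coprime_primes hp hq).2 hpq).mul_dvd_of_dvd_of_dvd hpx hqx)
    rcases Nat.lt_trichotomy k.primeFactorsList.length 1 with h | h | h
    · have h0 : k.primeFactorsList.length = 0 := by omega
      rw [h0, pow_zero] at hky
      omega
    · rw [h, pow_one] at hky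
      rw [hky, Nat.totient_prime hℓ, show Nat.totient n = ℓ - 1 by omega] at hsq
      have hpos : 0 < ℓ - 1 := by omega
      have h1 := Nat.le_of_dvd hpos hsq
      have h2 : ℓ - 1 = 1 := by
        nlinarith
      omega
    · have hd : ℓ ∣ Nat.totient k := by
        rw [hky, Nat.totient_prime_pow hℓ (by omega)]
        exact dvd_mul_of_dvd_left (dvd_pow_self ℓ (by omega)) _
      have hd2 : ℓ ∣ Nat.totient n := dvd_trans (dvd_mul_of_dvd_left hd _) hsq
      have h1 : ℓ ∣ 1 := (Nat.dvd_add_right hd2).1 (hk ▸ hℓy)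
      exact hℓ.one_lt.ne' (Nat.dvd_one.1 h1)

lemma exists_order_mul {H : Type*} [Group H] [Finite H] (e : G ≃ H)
    (he : ∀ x y : G, PAdj x y ↔ PAdj (e x) (e y)) {p q : ℕ} (hp : p.Prime) (hq : q.Prime)
    (hpq : p ≠ q) (g : G) (hg : orderOf g = p * q) : ∃ h : H, orderOf h = p * q := by
  obtain ⟨x, hgx, hmax⟩ := Set.exists_max_image {y : G | g ∈ Subgroup.zpowers y}
    (fun y => orderOf y) (Set.toFinite _) ⟨g, Subgroup.mem_zpowers g⟩
  have hdvd : p * q ∣ orderOf x := by
    rw [← hg, ← Nat.card_zpowers x]; exact Subgroup.orderOf_dvd_natCard _ hgx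
  obtain ⟨h, hh⟩ := exists_orderOf_eq e he x hp hq hpq ((dvd_mul_right p q).trans hdvd)
    ((dvd_mul_left q p).trans hdvd) fun y hy => by
      have h1 : Subgroup.zpowers x = Subgroup.zpowers y :=
        Subgroup.eq_of_le_of_card_ge (Subgroup.zpowers_le.2 hy) (by
          rw [Nat.card_zpowers, Nat.card_zpowers]
          exact hmax y (Subgroup.zpowers_le.2 hy hgx))
      rw [h1]; exact Subgroup.mem_zpowers y
  exact ⟨h ^ (orderOf h / (p * q)), orderOf_pow_orderOf_div (orderOf_pos h).ne' (hh ▸ hdvd)⟩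

end Cfsg.Agent.S4085


set_option autoImplicit false
open Cfsg

namespace Cfsg.Agent.S4085

/-- Let G and H be finite groups whose power graphs are isomorphic: there is a bijection e : G → H such that, for all x, y, one of x, y is a power of the other exactly when one of e(x), e(y) is a power of the other. Then G and H have the same prime graph: for distinct primes p, q, G has an element of order pq if and only if H does. -/
theorem result {G H : Type*} [Group G] [Finite G] [Group H] [Finite H] (e : G ≃ H)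
    (he : ∀ x y : G, (x ∈ Subgroup.zpowers y ∨ y ∈ Subgroup.zpowers x) ↔
      (e x ∈ Subgroup.zpowers (e y) ∨ e y ∈ Subgroup.zpowers (e x)))
    {p q : ℕ} (hp : p.Prime) (hq : q.Prime) (hpq : p ≠ q) :
    (∃ g : G, orderOf g = p * q) ↔ (∃ h : H, orderOf h = p * q) := by
  constructor
  · rintro ⟨g, hg⟩
    exact exists_order_mul e he hp hq hpq g hg
  · rintro ⟨h, hh⟩
    refine exists_order_mul e.symm (fun x y => ?_) hp hq hpq h hh
    have h2 := he (e.symm x) (e.symm y)
    rw [Equiv.apply_symm_apply, Equiv.apply_symm_apply] at h2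
    exact h2.symm

end Cfsg.Agent.S4085
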