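import Cfsg.Statements.S4086
import Mathlib.GroupTheory.SpecificGroups.Cyclic
import Mathlib.Algebra.IsPrimePow
import Mathlib.Data.Nat.Prime.Basic

set_option autoImplicit false
set_option linter.style.haveILetI false

set_option autoImplicit false
open Cfsg

namespace Cfsg.Agent.S4086

/-- For a finite group G the following are equivalent: every non-identity element has prime-power order; whenever two elements generate a cyclic subgroup, one of them is a power of the other (the enhanced power graph of G coincides with its power graph). -/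
theorem result {G : Type*} [Group G] [Finite G] :
    (∀ g : G, g ≠ 1 → IsPrimePow (orderOf g)) ↔
    (∀ x y : G, IsCyclic ↥(Subgroup.closure ({x, y} : Set G)) → (x ∈ Subgroup.zpowers y ∨ y ∈ Subgroup.zpowers x)) := by
  classical
  constructor
  · intro h x y hcyc
    obtain ⟨⟨z, hz⟩, hgen⟩ := IsCyclic.exists_generator (α := Subgroup.closure ({x, y} : Set G))
    have hmem : ∀ w ∈ ({x, y} : Set G), w ∈ Subgroup.zpowers z := by
      intro w hw
      obtain ⟨i, hi⟩ := Subgroup.mem_zpowers_iff.1 (hgen ⟨w, Subgroup.subset_closure hw⟩)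
      exact ⟨i, congrArg Subtype.val hi⟩
    have hxz := hmem x (Set.mem_insert _ _)
    have hyz := hmem y (Set.mem_insert_of_mem _ rfl)
    by_cases hz1 : z = 1
    · rw [hz1, Subgroup.zpowers_one_eq_bot, Subgroup.mem_bot] at hxz
      exact Or.inl (hxz ▸ one_mem _)
    obtain ⟨p, n, hp, -, hpn⟩ := h z hz1
    have hp' : p.Prime := hp.nat_prime
    haveI := Fintype.ofFinite (Subgroup.zpowers z)
    -- subgroups of a cyclic group are determined by their orders
    have key : ∀ a b : G, a ∈ Subgroup.zpowers z → b ∈ Subgroup.zpowers z → orderOf a ∣ orderOf b →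
        a ∈ Subgroup.zpowers b := by
      intro a b ha hb hab
      have he : (Finset.univ.filter fun t : Subgroup.zpowers z => (t : G) ∈ Subgroup.zpowers b) =
          Finset.univ.filter fun t : Subgroup.zpowers z => t ^ orderOf b = 1 := by
        refine Finset.eq_of_subset_of_card_le (fun t ht => ?_) ?_
        · obtain ⟨i, hi⟩ := Subgroup.mem_zpowers_iff.1 (Finset.mem_filter.1 ht).2
          refine Finset.mem_filter.2 ⟨Finset.mem_univ _, Subtype.ext ?_⟩
          rw [Subgroup.coe_pow, ← hi, ← zpow_natCast, ← zpow_mul, mul_comm, zpow_mul, zpow_natCast,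
            pow_orderOf_eq_one, one_zpow, Subgroup.coe_one]
        · refine (IsCyclic.card_pow_eq_one_le (orderOf_pos b)).trans (le_of_eq ?_)
          rw [← Nat.card_zpowers, ← Fintype.card_subtype, ← Nat.card_eq_fintype_card]
          exact Nat.card_congr
            { toFun := fun t => ⟨⟨t.1, Subgroup.zpowers_le.2 hb t.2⟩, t.2⟩
              invFun := fun t => ⟨t.1.1, t.2⟩
              left_inv := fun _ => rfl
              right_inv := fun _ => rfl }
      have ha' : (⟨a, ha⟩ : Subgroup.zpowers z) ∈
          Finset.univ.filter fun t : Subgroup.zpowers z => t ^ orderOf b = 1 :=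
        Finset.mem_filter.2 ⟨Finset.mem_univ _, Subtype.ext (by
          simpa using orderOf_dvd_iff_pow_eq_one.1 hab)⟩
      rw [← he] at ha'
      exact (Finset.mem_filter.1 ha').2
    have hox := Subgroup.orderOf_dvd_natCard _ hxz
    have hoy := Subgroup.orderOf_dvd_natCard _ hyz
    rw [Nat.card_zpowers, ← hpn] at hox hoy
    obtain ⟨i, -, hi⟩ := (Nat.dvd_prime_pow hp').1 hox
    obtain ⟨j, -, hj⟩ := (Nat.dvd_prime_pow hp').1 hoy
    rcases le_total i j with hij | hij
    · exact Or.inl (key x y hxz hyz (hi ▸ hj ▸ Nat.pow_dvd_pow p hij))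
    · exact Or.inr (key y x hyz hxz (hi ▸ hj ▸ Nat.pow_dvd_pow p hij))
  · intro h g hg
    by_contra hnp
    have ho : orderOf g ≠ 1 := mt orderOf_eq_one_iff.1 hg
    obtain ⟨a, r, hr, har⟩ := Nat.exists_eq_pow_mul_and_not_dvd (orderOf_pos g).ne'
      (orderOf g).minFac (Nat.minFac_prime ho).ne_one
    set q := (orderOf g).minFac
    have hq : q.Prime := Nat.minFac_prime ho
    have ha0 : a ≠ 0 := fun h0 => hr (by
      have hq' : q ∣ orderOf g := Nat.minFac_dvd _
      rw [har, h0, pow_zero, one_mul] at hq'
      exact hq')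
    have hr1 : r ≠ 1 := fun h1 => hnp ⟨q, a, hq.prime, Nat.pos_of_ne_zero ha0, by rw [har, h1, mul_one]⟩
    have hxo : orderOf (g ^ r) = q ^ a := by
      rw [orderOf_pow_of_dvd (by intro h0; exact hr (by rw [h0]; exact dvd_zero q)) (har ▸ dvd_mul_left _ _), har,
        Nat.mul_div_cancel _ (Nat.pos_of_ne_zero fun h0 => hr (by rw [h0]; exact dvd_zero q))]
    have hyo : orderOf (g ^ q ^ a) = r := by
      rw [orderOf_pow_of_dvd (pow_ne_zero _ hq.ne_zero) (har ▸ dvd_mul_right _ _), har,
        Nat.mul_div_cancel_left _ (pow_pos hq.pos a)]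
    have hle : Subgroup.closure ({g ^ r, g ^ q ^ a} : Set G) ≤ Subgroup.zpowers g := by
      rw [Subgroup.closure_le]
      rintro _ (rfl | rfl) <;> exact Subgroup.npow_mem_zpowers _ _
    haveI : IsCyclic ↥(Subgroup.closure ({g ^ r, g ^ q ^ a} : Set G)) :=
      isCyclic_of_injective (Subgroup.inclusion hle) (Subgroup.inclusion_injective hle)
    rcases h _ _ this with h1 | h1
    · have h2 := Subgroup.orderOf_dvd_natCard _ h1
      rw [Nat.card_zpowers, hxo, hyo] at h2
      exact hr ((dvd_pow_self q ha0).trans h2)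
    · have h2 := Subgroup.orderOf_dvd_natCard _ h1
      rw [Nat.card_zpowers, hxo, hyo] at h2
      obtain ⟨i, -, hi⟩ := (Nat.dvd_prime_pow hq).1 h2
      rcases Nat.eq_zero_or_pos i with h0 | h0
      · exact hr1 (by rw [hi, h0, pow_zero])
      · exact hr (hi ▸ dvd_pow_self q h0.ne')

end Cfsg.Agent.S4086
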