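import Cfsg.Statements.S4089
import Cfsg.Agent.Lib.FGStruct.Subnormalizer

set_option autoImplicit false
set_option linter.style.haveILetI false

namespace Cfsg.Agent.S4089

open Cfsg.Agent

variable {G : Type*} [Group G] [Finite G] (p : ℕ) [Fact p.Prime]

omit [Finite G] [Fact p.Prime] in
lemma mem_normalizer_map_subtype {N : Subgroup G} {K : Subgroup N} (hK : K.Normal) {g : G}
    (hg : g ∈ N) : g ∈ Subgroup.normalizer ((K.map N.subtype : Subgroup G) : Set G) := by
  haveI : ((K.map N.subtype).subgroupOf N).Normal := by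
    rw [Subgroup.subgroupOf, Subgroup.comap_map_eq_self_of_injective (Subgroup.subtype_injective N)]
    exact hK
  exact Subgroup.le_normalizer_of_normal_subgroupOf (Subgroup.map_subtype_le K) hg

omit [Fact p.Prime] in
/-- Invariant `p`-subgroups grow to radical ones. -/
lemma exists_radical {H : Subgroup G} {g : G} (h : Subnormalizer.InSN p H g) :
    ∃ R : Subgroup G, H ≤ R ∧ (Cfsg.pCore p (Subgroup.normalizer (R : Set G))).map
      (Subgroup.normalizer (R : Set G)).subtype = R ∧ g ∈ Subgroup.normalizer (R : Set G) := by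
  obtain ⟨R₀, h0⟩ := h
  obtain ⟨R, ⟨hRp, hHR, hgR⟩, hmax⟩ := Set.Finite.exists_maximal
    (s := {R : Subgroup G | IsPGroup p R ∧ H ≤ R ∧ g ∈ Subgroup.normalizer (R : Set G)})
    (Set.toFinite _) ⟨R₀, h0⟩
  have hle : R ≤ (Cfsg.pCore p (Subgroup.normalizer (R : Set G))).map
      (Subgroup.normalizer (R : Set G)).subtype := fun x hx =>
    ⟨⟨x, Subgroup.le_normalizer hx⟩, FittingCores.le_pCore
      (N := R.subgroupOf (Subgroup.normalizer (R : Set G))) Subgroup.normal_in_normalizer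
      hRp.comap_subtype hx, rfl⟩
  refine ⟨R, hHR, le_antisymm (hmax ⟨(FittingCores.pCore_isPGroup p).map _, hHR.trans hle,
    mem_normalizer_map_subtype (FittingCores.pCore_normal p) hgR⟩ hle) hle, hgR⟩

/-- A radical subgroup containing `H` contains all common elements of the Sylow subgroups over
`H`. -/
lemma sInf_le_radical {H R : Subgroup G} (hHR : H ≤ R)
    (hR : (Cfsg.pCore p (Subgroup.normalizer (R : Set G))).map
      (Subgroup.normalizer (R : Set G)).subtype = R) :
    sInf {K : Subgroup G | ∃ Q : Sylow p G, H ≤ (Q : Subgroup G) ∧ K = (Q : Subgroup G)} ≤ R := by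
  set N := Subgroup.normalizer (R : Set G) with hN
  have hRp : IsPGroup p R := hR ▸ (FittingCores.pCore_isPGroup p).map _
  set J := sInf {K : Subgroup G | ∃ Q : Sylow p G, R ≤ (Q : Subgroup G) ∧ K = (Q : Subgroup G)}
    with hJ
  refine le_trans (sInf_le_sInf (show
    {K : Subgroup G | ∃ Q : Sylow p G, R ≤ (Q : Subgroup G) ∧ K = (Q : Subgroup G)} ⊆
      {K : Subgroup G | ∃ Q : Sylow p G, H ≤ (Q : Subgroup G) ∧ K = (Q : Subgroup G)} from
    fun K ⟨Q, hQ, hK⟩ => ⟨Q, hHR.trans hQ, hK⟩)) ?_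
  have hRJ : R ≤ J := le_sInf (by rintro K ⟨Q, hQ, rfl⟩; exact hQ)
  obtain ⟨Q₀, hQ₀⟩ := hRp.exists_le_sylow
  have hJp : IsPGroup p J := Q₀.isPGroup'.to_le (sInf_le ⟨Q₀, hQ₀, rfl⟩)
  have hJN : J ⊓ N ≤ R := by
    rw [← hR]
    intro x hx
    obtain ⟨hxJ, hxN⟩ := hx
    refine ⟨⟨x, hxN⟩, ?_, rfl⟩
    -- the intersection of all Sylow subgroups of `N` is a normal `p`-subgroup
    set T : Subgroup N := sInf (Set.range fun S : Sylow p N => (S : Subgroup N)) with hT
    have hTn : T.Normal := by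
      refine ⟨fun t ht c => ?_⟩
      rw [hT, Subgroup.mem_sInf] at ht ⊢
      rintro _ ⟨S, rfl⟩
      obtain ⟨y, hy, hyc⟩ := (show t ∈ ((c⁻¹ • S : Sylow p N) : Subgroup N) from ht _ ⟨_, rfl⟩)
      show c * t * c⁻¹ ∈ (S : Subgroup N)
      rw [← show c⁻¹ * y * c = t by simpa using hyc]
      simpa [mul_assoc] using (show y ∈ (S : Subgroup N) from hy)
    let S₀ : Sylow p N := Classical.arbitrary _
    refine FittingCores.le_pCore hTn (S₀.isPGroup'.to_le (sInf_le ⟨S₀, rfl⟩)) ?_
    rw [Subgroup.mem_sInf]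
    rintro _ ⟨S, rfl⟩
    -- `R` lies in every Sylow subgroup of `N`
    have hRS : R.subgroupOf N ≤ (S : Subgroup N) := by
      haveI : (R.subgroupOf N).Normal := Subgroup.normal_in_normalizer
      haveI : (Subgroup.comap N.subtype R).Normal := Subgroup.normal_in_normalizer
      have h1 := S.is_maximal' (IsPGroup.to_sup_of_normal_left hRp.comap_subtype S.isPGroup')
        (le_sup_right (a := R.subgroupOf N))
      exact le_sup_left.trans h1.le
    obtain ⟨Q, hQ⟩ := (S.isPGroup'.map N.subtype).exists_le_sylow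
    have hRQ : R ≤ (Q : Subgroup G) := fun y hy =>
      hQ ⟨⟨y, Subgroup.le_normalizer hy⟩, hRS (show y ∈ R from hy), rfl⟩
    have hS : ((Q : Subgroup G).subgroupOf N) = (S : Subgroup N) :=
      S.is_maximal' Q.isPGroup'.comap_subtype fun y hy => hQ ⟨y, hy, rfl⟩
    show (⟨x, hxN⟩ : N) ∈ (S : Subgroup N)
    rw [← hS]
    exact (sInf_le ⟨Q, hRQ, rfl⟩ : J ≤ (Q : Subgroup G)) hxJ
  rcases hRJ.lt_or_eq with h | h
  · exact absurd hJN (Subnormalizer.lt_inf_normalizer p hJp h).not_ge
  · exact h.ge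

end Cfsg.Agent.S4089


set_option autoImplicit false
open Cfsg

namespace Cfsg.Agent.S4089

/-- Let G be a finite group, p a prime and H a p-subgroup of G. Then the set of elements g of G such that H is subnormal in the subgroup generated by H and g is the union of the normalizers N_G(R) over the subgroups R of G containing H with R = O_p(N_G(R)); and this set does not change when H is replaced by the intersection of all Sylow p-subgroups of G containing H. -/
theorem result {G : Type*} [Group G] [Finite G] (p : ℕ) [Fact p.Prime]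
    (H : Subgroup G) (hH : IsPGroup p H) :
    {g : G | ((H).subgroupOf (H ⊔ Subgroup.zpowers g)).IsSubnormal} =
      {g : G | ∃ R : Subgroup G, H ≤ R ∧ (Cfsg.pCore p (Subgroup.normalizer (R : Set G))).map (Subgroup.normalizer (R : Set G)).subtype = R ∧ g ∈ Subgroup.normalizer (R : Set G)} ∧
    ∀ g : G, (((H).subgroupOf (H ⊔ Subgroup.zpowers g)).IsSubnormal ↔
      (((sInf {K : Subgroup G | ∃ Q : Sylow p G, H ≤ (Q : Subgroup G) ∧ K = (Q : Subgroup G)})).subgroupOf ((sInf {K : Subgroup G | ∃ Q : Sylow p G, H ≤ (Q : Subgroup G) ∧ K = (Q : Subgroup G)}) ⊔ Subgroup.zpowers g)).IsSubnormal) := by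
  set I := sInf {K : Subgroup G | ∃ Q : Sylow p G, H ≤ (Q : Subgroup G) ∧ K = (Q : Subgroup G)}
  have hHI : H ≤ I := le_sInf (by rintro K ⟨Q, hQ, rfl⟩; exact hQ)
  obtain ⟨Q₀, hQ₀⟩ := hH.exists_le_sylow
  have hI : IsPGroup p I := Q₀.isPGroup'.to_le (sInf_le ⟨Q₀, hQ₀, rfl⟩)
  have hrad : ∀ g : G, Subnormalizer.InSN p H g ↔ ∃ R : Subgroup G, H ≤ R ∧
      (Cfsg.pCore p (Subgroup.normalizer (R : Set G))).map (Subgroup.normalizer (R : Set G)).subtype = R ∧
      g ∈ Subgroup.normalizer (R : Set G) := fun g =>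
    ⟨exists_radical p, fun ⟨R, h1, h2, h3⟩ =>
      ⟨R, h2 ▸ (FittingCores.pCore_isPGroup p).map _, h1, h3⟩⟩
  refine ⟨Set.ext fun g => ?_, fun g => ?_⟩
  · show ((H).subgroupOf (H ⊔ Subgroup.zpowers g)).IsSubnormal ↔ _
    rw [Subnormalizer.isSubnormal_iff_inSN p hH g]
    exact hrad g
  · rw [Subnormalizer.isSubnormal_iff_inSN p hH g, Subnormalizer.isSubnormal_iff_inSN p hI g]
    constructor
    · intro h
      obtain ⟨R, h1, h2, h3⟩ := (hrad g).1 h
      exact ⟨R, h2 ▸ (FittingCores.pCore_isPGroup p).map _, sInf_le_radical p h1 h2, h3⟩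
    · rintro ⟨R, h1, h2, h3⟩
      exact ⟨R, h1, hHI.trans h2, h3⟩

end Cfsg.Agent.S4089
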