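import Cfsg.Statements.S4090
import Cfsg.Agent.Lib.FGStruct.ConjCount
import Cfsg.Agent.Lib.FGStruct.CoprimeFixBound

set_option autoImplicit false
set_option linter.style.haveILetI false

namespace Cfsg.Agent.S4090

open Cfsg.Agent

lemma chain_prod : ∀ {n : ℕ} (a : Fin n → ℕ) (s : Fin (n + 1) → ℕ),
    (∀ i : Fin n, s i.castSucc = a i * s i.succ) → s (Fin.last n) = 1 → s 0 = ∏ i, a i := by
  intro n
  induction n with
  | zero => intro a s _ hl; simpa using hl
  | succ n ih =>
    intro a s h hl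
    have h1 := ih (fun i => a i.succ) (fun i => s i.succ)
      (fun i => h i.succ) (by simpa [Fin.succ_last] using hl)
    have h0 := h 0
    rw [Fin.castSucc_zero] at h0
    rw [h0, Fin.prod_univ_succ]
    exact congrArg _ h1

universe u

variable {G : Type u} [Group G] [Finite G]

/-- One step of the chain. -/
lemma step {p : ℕ} [Fact p.Prime] (A B : Subgroup G) [A.Normal] [B.Normal] (hAB : A ≤ B)
    (hfac : (∃ m : ℕ, A.relIndex B = p ^ m) ∨ (A.relIndex B).Coprime p)
    {H : Subgroup G} (hH : IsPGroup p H) (P : Sylow p G) :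
    (ConjCount.cnt ((P : Subgroup G).map (QuotientGroup.mk' A)) (H.map (QuotientGroup.mk' A)) =
      (if (A.relIndex B).Coprime p then
        Nat.card {u : G // u ∈ B ∧ ∀ h ∈ H, h * u * h⁻¹ * u⁻¹ ∈ A} / Nat.card A
        else A.relIndex B) *
      ConjCount.cnt ((P : Subgroup G).map (QuotientGroup.mk' B)) (H.map (QuotientGroup.mk' B))) ∧
    Nat.card ((P : Subgroup G).map (QuotientGroup.mk' A)) =
      (if (A.relIndex B).Coprime p then 1 else A.relIndex B) *
        Nat.card ((P : Subgroup G).map (QuotientGroup.mk' B)) := by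
  set f : G ⧸ A →* G ⧸ B := QuotientGroup.map A B (MonoidHom.id G) hAB with hf
  have hfs : Function.Surjective f := by
    intro y
    obtain ⟨x, rfl⟩ := QuotientGroup.mk_surjective y
    exact ⟨QuotientGroup.mk x, rfl⟩
  have hcomp : f.comp (QuotientGroup.mk' A) = QuotientGroup.mk' B := MonoidHom.ext fun x => rfl
  have hker : f.ker = B.map (QuotientGroup.mk' A) := by
    ext y
    obtain ⟨x, rfl⟩ := QuotientGroup.mk'_surjective A y
    constructor
    · intro hy
      exact ⟨x, (QuotientGroup.eq_one_iff x).1 hy, rfl⟩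
    · rintro ⟨b, hb, hbx⟩
      rw [← hbx]
      exact (QuotientGroup.eq_one_iff b).2 hb
  have hkc : Nat.card f.ker = A.relIndex B := by
    have h1 := CoprimeFixBound.card_inf_eq_mul (QuotientGroup.mk' A) B
    rw [QuotientGroup.ker_mk', inf_eq_left.2 hAB, ← hker] at h1
    have h2 := Subgroup.relIndex_mul_relIndex ⊥ A B bot_le hAB
    rw [Subgroup.relIndex_bot_left, Subgroup.relIndex_bot_left] at h2
    exact (Nat.eq_of_mul_eq_mul_left Nat.card_pos (h2.trans h1)).symm
  let P₁ : Sylow p (G ⧸ A) := P.mapSurjective (QuotientGroup.mk'_surjective A)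
  have hP₁ : (P₁ : Subgroup (G ⧸ A)) = (P : Subgroup G).map (QuotientGroup.mk' A) := rfl
  have hmP : ((P : Subgroup G).map (QuotientGroup.mk' A)).map f =
      (P : Subgroup G).map (QuotientGroup.mk' B) := by rw [Subgroup.map_map, hcomp]
  have hmH : (H.map (QuotientGroup.mk' A)).map f = H.map (QuotientGroup.mk' B) := by
    rw [Subgroup.map_map, hcomp]
  have hPcard := CoprimeFixBound.card_inf_eq_mul f ((P : Subgroup G).map (QuotientGroup.mk' A))
  rw [hmP] at hPcard
  by_cases hc : (A.relIndex B).Coprime p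
  · have hd : f.ker ⊓ (P : Subgroup G).map (QuotientGroup.mk' A) = ⊥ := by
      obtain ⟨k, hk⟩ := IsPGroup.iff_card.1 P₁.isPGroup'
      exact disjoint_iff.1 (Subgroup.disjoint_of_coprime_natCard (by
        rw [hkc, ← hP₁, hk]; exact hc.pow_right _))
    rw [if_pos hc, if_pos hc]
    refine ⟨?_, by rw [hPcard, hd, Subgroup.card_bot]⟩
    have h1 := ConjCount.cnt_coprimeKernel f hfs (hkc ▸ hc) P₁ (hH.map (QuotientGroup.mk' A))
    rw [hP₁, hmP, hmH] at h1
    rw [h1]
    congr 1
    symm
    set S := f.ker ⊓ Subgroup.centralizer ((H.map (QuotientGroup.mk' A) : Subgroup (G ⧸ A)) : Set (G ⧸ A))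
      with hS
    have hiff : ∀ u : G, (u ∈ B ∧ ∀ h ∈ H, h * u * h⁻¹ * u⁻¹ ∈ A) ↔
        u ∈ S.comap (QuotientGroup.mk' A) := by
      intro u
      rw [Subgroup.mem_comap, hS, Subgroup.mem_inf, Subgroup.mem_centralizer_iff]
      refine and_congr ?_ ?_
      · exact (QuotientGroup.eq_one_iff (N := B) u).symm
      · constructor
        · rintro h1 _ ⟨h, hh, rfl⟩
          rw [← commutatorElement_eq_one_iff_mul_comm, ← map_commutatorElement]
          exact (QuotientGroup.eq_one_iff _).2 (h1 h hh)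
        · intro h1 h hh
          have h2 := h1 _ ⟨h, hh, rfl⟩
          rw [← commutatorElement_eq_one_iff_mul_comm, ← map_commutatorElement] at h2
          exact (QuotientGroup.eq_one_iff _).1 h2
    have hcard : Nat.card {u : G // u ∈ B ∧ ∀ h ∈ H, h * u * h⁻¹ * u⁻¹ ∈ A} =
        Nat.card (S.comap (QuotientGroup.mk' A)) := Nat.card_congr (Equiv.subtypeEquivRight hiff)
    rw [hcard, CoprimeFixBound.card_inf_eq_mul (QuotientGroup.mk' A) (S.comap (QuotientGroup.mk' A)),
      Subgroup.map_comap_eq_self_of_surjective (QuotientGroup.mk'_surjective A),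
      inf_eq_left.2 (MonoidHom.ker_le_comap _ _), QuotientGroup.ker_mk',
      Nat.mul_div_cancel_left _ Nat.card_pos]
  · obtain ⟨m, hm⟩ := hfac.resolve_right hc
    rw [if_neg hc, if_neg hc]
    have hkp : IsPGroup p f.ker := IsPGroup.of_card (hkc.trans hm)
    refine ⟨?_, by rw [hPcard, inf_eq_left.2 (hP₁ ▸ hkp.le_sylow_of_normal P₁), hkc]⟩
    have h1 := ConjCount.cnt_pKernel f hfs hkp P₁ (H.map (QuotientGroup.mk' A))
    rw [hP₁, hmP, hmH, hkc] at h1
    exact h1

end Cfsg.Agent.S4090


set_option autoImplicit false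
open scoped BigOperators
open Cfsg

namespace Cfsg.Agent.S4090

/-- Let G be a finite p-solvable group, H a p-subgroup of G and P a Sylow p-subgroup, and fix a chain of normal subgroups 1 = M₀ ≤ M₁ ≤ ⋯ ≤ Mₙ = G of G each of whose factors is a p-group or a p'-group. Then the number of elements g of G such that H is subnormal in the subgroup generated by H and g equals the order of P times the product, over the factors Mᵢ₊₁/Mᵢ of order prime to p, of the order of the centralizer of H in Mᵢ₊₁/Mᵢ (counted as the number of u ∈ Mᵢ₊₁ with [h, u] ∈ Mᵢ for all h ∈ H, divided by the order of Mᵢ). -/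
theorem result {G : Type*} [Group G] [Finite G] (p : ℕ) [Fact p.Prime]
    (hG : Cfsg.IsPSolvable p G) (H : Subgroup G) (hH : IsPGroup p H) (P : Sylow p G)
    (n : ℕ) (M : Fin (n + 1) → Subgroup G) (h0 : M 0 = ⊥) (hn : M (Fin.last n) = ⊤) (hmono : Monotone M)
    (hnormal : ∀ i, (M i).Normal)
    (hfac : ∀ i : Fin n, (∃ m : ℕ, (M i.castSucc).relIndex (M i.succ) = p ^ m) ∨ ((M i.castSucc).relIndex (M i.succ)).Coprime p) :
    Nat.card {g : G // ((H).subgroupOf (H ⊔ Subgroup.zpowers g)).IsSubnormal} =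
      Nat.card (P : Subgroup G) *
        ∏ i : Fin n, (if ((M i.castSucc).relIndex (M i.succ)).Coprime p then
          Nat.card {u : G // u ∈ M i.succ ∧ ∀ h ∈ H, h * u * h⁻¹ * u⁻¹ ∈ M i.castSucc} / Nat.card (M i.castSucc)
          else 1) := by
  haveI := hnormal
  rw [ConjCount.card_subnormalizer H hH P]
  have hst := fun i : Fin n => step (M i.castSucc) (M i.succ)
    (hmono (Fin.castSucc_lt_succ (i := i)).le) (hfac i) hH P
  set s : Fin (n + 1) → ℕ := fun i =>
    ConjCount.cnt ((P : Subgroup G).map (QuotientGroup.mk' (M i))) (H.map (QuotientGroup.mk' (M i)))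
  set s' : Fin (n + 1) → ℕ := fun i => Nat.card ((P : Subgroup G).map (QuotientGroup.mk' (M i)))
  haveI : Subsingleton (G ⧸ M (Fin.last n)) := by
    have h : (M (Fin.last n)).index = 1 := Subgroup.index_eq_one.2 hn
    exact (Nat.card_eq_one_iff_unique.1 h).1
  have e1 := chain_prod _ s (fun i => (hst i).1) (by
    refine Nat.card_eq_one_iff_unique.2 ⟨inferInstance, ⟨⟨1, fun y _ => ?_⟩⟩⟩
    rw [Subsingleton.elim y 1]; exact Subgroup.one_mem _)
  have e2 := chain_prod _ s' (fun i => (hst i).2)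
    (Nat.card_eq_one_iff_unique.2 ⟨inferInstance, inferInstance⟩)
  have hk0 : (QuotientGroup.mk' (M 0)).ker = ⊥ := by rw [QuotientGroup.ker_mk', h0]
  have e3 : ConjCount.cnt (P : Subgroup G) H = s 0 := by
    have hp0 : IsPGroup p (QuotientGroup.mk' (M 0)).ker := by rw [hk0]; exact IsPGroup.of_bot
    rw [ConjCount.cnt_pKernel (QuotientGroup.mk' (M 0)) (QuotientGroup.mk'_surjective _) hp0 P H,
      hk0, Subgroup.card_bot, one_mul]
  have e4 : Nat.card (P : Subgroup G) = s' 0 := by
    rw [CoprimeFixBound.card_inf_eq_mul (QuotientGroup.mk' (M 0)) (P : Subgroup G), hk0, bot_inf_eq,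
      Subgroup.card_bot, one_mul]
  rw [e3, e4, e1, e2, ← Finset.prod_mul_distrib]
  refine Finset.prod_congr rfl fun i _ => ?_
  split_ifs <;> simp

end Cfsg.Agent.S4090
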