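import Cfsg.Statements.S4091
import Cfsg.Agent.Lib.FGStruct.ConjCount
import Cfsg.Agent.Lib.FGStruct.CoprimeFixBound
import Cfsg.Agent.Lib.PLocal.PSolvable

set_option autoImplicit false
set_option linter.style.haveILetI false

namespace Cfsg.Agent.S4091

open Cfsg.Agent
open scoped Classical

universe u

noncomputable local instance (priority := high) instFintypeOfFinite {α : Type*} [Finite α] : Fintype α :=
  Fintype.ofFinite α

/-- The geometric mean bound for the numbers `cnt P ⟨x⟩`. -/
theorem mean_bound {p : ℕ} [Fact p.Prime] : ∀ (n : ℕ) (G : Type u) [Group G] [Finite G],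
    Nat.card G ≤ n → Cfsg.IsPSolvable p G → ∀ P : Sylow p G,
    (∏ x : (P : Subgroup G), ConjCount.cnt (P : Subgroup G) (Subgroup.zpowers (x : G))) ^ p ≤
      (Nat.card G * ConjCount.cnt (P : Subgroup G) (P : Subgroup G) ^ (p - 1)) ^
        Nat.card (P : Subgroup G) := by
  have hpr := (Fact.out : p.Prime)
  intro n
  induction n with
  | zero =>
    intro G _ _ hn _ P
    exact absurd hn (by have := Nat.card_pos (α := G); omega)
  | succ n ih =>
    intro G _ _ hn hsol P
    rcases subsingleton_or_nontrivial G with hG | hG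
    · have h1 : ∀ H : Subgroup G, ConjCount.cnt (P : Subgroup G) H = 1 := fun H =>
        Nat.card_eq_one_iff_unique.2 ⟨inferInstance, ⟨⟨1, fun y _ => by
          rw [Subsingleton.elim y 1]; exact Subgroup.one_mem _⟩⟩⟩
      simp only [h1, Finset.prod_const_one, one_pow, mul_one]
      exact Nat.one_le_pow _ _ Nat.card_pos
    -- the reduction along a quotient map
    have hred : ∀ (M : Subgroup G) [M.Normal], M ≠ ⊥ → ∀ Pb : Sylow p (G ⧸ M),
        (∏ x : (Pb : Subgroup (G ⧸ M)), ConjCount.cnt (Pb : Subgroup (G ⧸ M))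
          (Subgroup.zpowers (x : G ⧸ M))) ^ p ≤
        (Nat.card (G ⧸ M) * ConjCount.cnt (Pb : Subgroup (G ⧸ M)) (Pb : Subgroup (G ⧸ M)) ^ (p - 1)) ^
          Nat.card (Pb : Subgroup (G ⧸ M)) := by
      intro M _ hM Pb
      refine ih (G ⧸ M) ?_ (PSolvable.quotient M hsol) Pb
      have h1 := Subgroup.card_mul_index M
      have h2 : 2 ≤ Nat.card M := (Subgroup.one_lt_card_iff_ne_bot M).2 hM
      have h3 : 2 * M.index ≤ n + 1 := (Nat.mul_le_mul_right _ h2).trans (h1.le.trans hn)
      show M.index ≤ n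
      omega
    rcases PSolvable.exists_core_ne_bot hsol with hcore | hcore
    · -- a normal `p`-subgroup
      set M := Cfsg.pCore p G
      haveI : M.Normal := FittingCores.pCore_normal p
      have hMp : IsPGroup p M := FittingCores.pCore_isPGroup p
      set f := QuotientGroup.mk' M with hf
      have hfs := QuotientGroup.mk'_surjective M
      have hker : f.ker = M := QuotientGroup.ker_mk' M
      let Pb : Sylow p (G ⧸ M) := P.mapSurjective hfs
      have hPb : (Pb : Subgroup (G ⧸ M)) = (P : Subgroup G).map f := rfl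
      have hMP : M ≤ (P : Subgroup G) := hMp.le_sylow_of_normal P
      have e1 := hred M hcore Pb
      set m := Nat.card M
      have hcnt : ∀ H : Subgroup G, ConjCount.cnt (P : Subgroup G) H =
          m * ConjCount.cnt (Pb : Subgroup (G ⧸ M)) (H.map f) := fun H => by
        rw [ConjCount.cnt_pKernel f hfs (hker.symm ▸ hMp) P H, hker, hPb]
      have hcP : Nat.card (P : Subgroup G) = m * Nat.card (Pb : Subgroup (G ⧸ M)) := by
        rw [CoprimeFixBound.card_inf_eq_mul f (P : Subgroup G), hker, inf_eq_left.2 hMP, hPb]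
      have hcG : Nat.card G = m * Nat.card (G ⧸ M) := (Subgroup.card_mul_index M).symm
      let g : ↥(P : Subgroup G) → ↥(Pb : Subgroup (G ⧸ M)) := fun x => ⟨f x, ⟨x, x.2, rfl⟩⟩
      have hfib : ∀ y : ↥(Pb : Subgroup (G ⧸ M)),
          (Finset.univ.filter fun x : ↥(P : Subgroup G) => g x = y).card = m := by
        rintro ⟨y, hy⟩
        obtain ⟨x₀, hx₀, rfl⟩ := hy
        rw [← Fintype.card_subtype, ← Nat.card_eq_fintype_card]
        refine Nat.card_congr
          { toFun := fun x => ⟨x₀⁻¹ * ((x.1 : G)), QuotientGroup.eq.1 (congrArg Subtype.val x.2).symm⟩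
            invFun := fun k => ⟨⟨x₀ * (k : G), mul_mem hx₀ (hMP k.2)⟩, Subtype.ext (by
              show f (x₀ * (k : G)) = f x₀
              rw [map_mul, show f (k : G) = 1 from (QuotientGroup.eq_one_iff _).2 k.2, mul_one])⟩
            left_inv := fun x => Subtype.ext (Subtype.ext (mul_inv_cancel_left x₀ _))
            right_inv := fun k => Subtype.ext (inv_mul_cancel_left x₀ _) }
      have hprod : ∏ x : (P : Subgroup G), ConjCount.cnt (P : Subgroup G) (Subgroup.zpowers (x : G)) =
          m ^ Nat.card (P : Subgroup G) * (∏ y : (Pb : Subgroup (G ⧸ M)),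
            ConjCount.cnt (Pb : Subgroup (G ⧸ M)) (Subgroup.zpowers (y : G ⧸ M))) ^ m := by
        rw [Finset.prod_congr rfl fun (x : (P : Subgroup G)) _ => hcnt (Subgroup.zpowers (x : G)),
          Finset.prod_mul_distrib, Finset.prod_const, Finset.card_univ, ← Nat.card_eq_fintype_card]
        congr 1
        rw [← Finset.prod_pow, ← Finset.prod_fiberwise_of_maps_to (g := g) (t := Finset.univ)
          (fun x _ => Finset.mem_univ _)]
        refine Finset.prod_congr rfl fun y _ => ?_
        rw [Finset.prod_congr rfl fun (x : ↥(P : Subgroup G)) hx => show ConjCount.cnt (Pb : Subgroup (G ⧸ M))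
            ((Subgroup.zpowers (x : G)).map f) =
            ConjCount.cnt (Pb : Subgroup (G ⧸ M)) (Subgroup.zpowers (y : G ⧸ M)) by
          rw [MonoidHom.map_zpowers, ← (Finset.mem_filter.1 hx).2], Finset.prod_const, hfib]
      rw [hprod, hcnt (P : Subgroup G), ← hPb, hcP, hcG, mul_pow]
      calc (m ^ (m * Nat.card (Pb : Subgroup (G ⧸ M)))) ^ p * _
          ≤ (m ^ (m * Nat.card (Pb : Subgroup (G ⧸ M)))) ^ p *
            ((Nat.card (G ⧸ M) * ConjCount.cnt (Pb : Subgroup (G ⧸ M)) (Pb : Subgroup (G ⧸ M)) ^ (p - 1)) ^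
              Nat.card (Pb : Subgroup (G ⧸ M))) ^ m := by
            refine Nat.mul_le_mul_left _ ?_
            rw [pow_right_comm]
            exact Nat.pow_le_pow_left e1 m
        _ = _ := by
            rw [pow_right_comm m, ← pow_mul _ (Nat.card (Pb : Subgroup (G ⧸ M))) m,
              mul_comm (Nat.card (Pb : Subgroup (G ⧸ M))) m, ← mul_pow]
            congr 1
            have hmp : m ^ p = m * m ^ (p - 1) := by
              rw [← pow_succ', Nat.sub_add_cancel hpr.one_le]
            rw [hmp]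
            ring
    · -- a normal subgroup of order prime to `p`
      set M := Cfsg.pPrimeCore p G
      haveI := PBasic.pPrimeCore_characteristic p G
      have hMc : (Nat.card M).Coprime p := PBasic.pPrimeCore_coprime p G
      set f := QuotientGroup.mk' M with hf
      have hfs := QuotientGroup.mk'_surjective M
      have hker : f.ker = M := QuotientGroup.ker_mk' M
      let Pb : Sylow p (G ⧸ M) := P.mapSurjective hfs
      have hPb : (Pb : Subgroup (G ⧸ M)) = (P : Subgroup G).map f := rfl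
      have e1 := hred M hcore Pb
      obtain ⟨k, hk⟩ := IsPGroup.iff_card.1 P.isPGroup'
      have hcop : (Nat.card (P : Subgroup G)).Coprime (Nat.card M) := by
        rw [hk]; exact hMc.symm.pow_left _
      have hcnt : ∀ H : Subgroup G, IsPGroup p H → ConjCount.cnt (P : Subgroup G) H =
          Nat.card (M ⊓ Subgroup.centralizer (H : Set G) : Subgroup G) *
            ConjCount.cnt (Pb : Subgroup (G ⧸ M)) (H.map f) := fun H hH => by
        rw [ConjCount.cnt_coprimeKernel f hfs (hker.symm ▸ hMc) P hH, hker, hPb]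
      have hcP : Nat.card (Pb : Subgroup (G ⧸ M)) = Nat.card (P : Subgroup G) := by
        rw [CoprimeFixBound.card_inf_eq_mul f (P : Subgroup G), hker, hPb,
          disjoint_iff.1 (Subgroup.disjoint_of_coprime_natCard hcop.symm), Subgroup.card_bot, one_mul]
      let g : ↥(P : Subgroup G) → ↥(Pb : Subgroup (G ⧸ M)) := fun x => ⟨f x, ⟨x, x.2, rfl⟩⟩
      have hg : Function.Bijective g := by
        refine (Nat.bijective_iff_surjective_and_card g).2 ⟨?_, hcP.symm⟩
        rintro ⟨y, hy⟩
        obtain ⟨x, hx, rfl⟩ := hy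
        exact ⟨⟨x, hx⟩, rfl⟩
      have hprod : ∏ x : (P : Subgroup G), ConjCount.cnt (P : Subgroup G) (Subgroup.zpowers (x : G)) =
          (∏ x : (P : Subgroup G), Nat.card (M ⊓ Subgroup.centralizer
            (Subgroup.zpowers (x : G) : Set G) : Subgroup G)) *
          ∏ y : (Pb : Subgroup (G ⧸ M)),
            ConjCount.cnt (Pb : Subgroup (G ⧸ M)) (Subgroup.zpowers (y : G ⧸ M)) := by
        rw [Finset.prod_congr rfl fun (x : (P : Subgroup G)) _ => hcnt (Subgroup.zpowers (x : G))
          (P.isPGroup'.to_le (Subgroup.zpowers_le.2 x.2)), Finset.prod_mul_distrib]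
        congr 1
        refine Finset.prod_equiv (M := ℕ) (Equiv.ofBijective g hg) (fun _ => by simp) fun x _ => ?_
        rw [MonoidHom.map_zpowers]
        rfl
      rw [hprod, hcnt _ P.isPGroup', ← hPb, mul_pow]
      have eb : (∏ x : ↥(P : Subgroup G), Nat.card (M ⊓ Subgroup.centralizer
            (Subgroup.zpowers (x : G) : Set G) : Subgroup G)) ^ p ≤
          (Nat.card M * Nat.card (M ⊓ Subgroup.centralizer ((P : Subgroup G) : Set G) : Subgroup G) ^
            (p - 1)) ^ Nat.card (P : Subgroup G) := by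
        convert CoprimeFixBound.bound M (P : Subgroup G) P.isPGroup'
          (Subgroup.normalizer_eq_top_iff.2 (inferInstance : M.Normal) ▸ le_top) hcop using 4
      refine (Nat.mul_le_mul eb e1).trans (le_of_eq ?_)
      rw [hcP, ← mul_pow, ← Subgroup.card_mul_index M]
      congr 1
      rw [show Nat.card (G ⧸ M) = M.index from rfl, mul_pow]
      ring

variable {G : Type u} [Group G] [Finite G] {p : ℕ} [Fact p.Prime]

/-- `p`-elements counted through the Sylow subgroup. -/
lemma card_pElements (P : Sylow p G) :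
    (Nat.card {g : G // ∃ k : ℕ, orderOf g = p ^ k} : ℝ) = (Nat.card G : ℝ) *
      ∑ x : (P : Subgroup G),
        ((ConjCount.cnt (P : Subgroup G) (Subgroup.zpowers (x : G)) : ℕ) : ℝ)⁻¹ := by
  set T : G → ℕ := fun g => ConjCount.cnt (P : Subgroup G) (Subgroup.zpowers g) with hT
  have hTiff : ∀ g y : G, (Subgroup.zpowers g).map (MulAut.conj y).toMonoidHom ≤ (P : Subgroup G) ↔
      y * g * y⁻¹ ∈ (P : Subgroup G) := fun g y => by
    rw [MonoidHom.map_zpowers, Subgroup.zpowers_le]; rfl
  have hTc : ∀ g y : G, T (y * g * y⁻¹) = T g := by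
    intro g y
    refine Nat.card_congr ((Equiv.mulRight y).subtypeEquiv fun z => ?_)
    rw [hTiff, hTiff, Equiv.coe_mulRight,
      show z * y * g * (z * y)⁻¹ = z * (y * g * y⁻¹) * z⁻¹ by group]
  have hTpos : ∀ g : G, (∃ k, orderOf g = p ^ k) → 0 < T g := by
    rintro g ⟨k, hk⟩
    have hpg : IsPGroup p (Subgroup.zpowers g) := IsPGroup.of_card (by rw [Nat.card_zpowers, hk])
    obtain ⟨Q, hQ⟩ := hpg.exists_le_sylow
    obtain ⟨y, hy⟩ := MulAction.exists_smul_eq G Q P
    refine Nat.card_pos_iff.2 ⟨⟨⟨y, ?_⟩⟩, inferInstance⟩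
    rintro _ ⟨z, hz, rfl⟩
    rw [← hy]
    exact ⟨z, hQ hz, rfl⟩
  have hTp : ∀ g : G, T g ≠ 0 → ∃ k, orderOf g = p ^ k := by
    intro g hg
    obtain ⟨⟨y, hy⟩⟩ := (Nat.card_ne_zero.1 hg).1
    obtain ⟨k, hk⟩ := IsPGroup.iff_orderOf.1 P.isPGroup' ⟨_, (hTiff g y).1 hy⟩
    refine ⟨k, ?_⟩
    rw [← hk, Subgroup.orderOf_mk]
    exact (orderOf_injective (MulAut.conj y).toMonoidHom (MulAut.conj y).injective g).symm
  -- count pairs `(y, g)` with `y g y⁻¹ ∈ P`
  have h1 : (Nat.card {g : G // ∃ k : ℕ, orderOf g = p ^ k} : ℝ) =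
      ∑ g : G, (T g : ℝ) * (T g : ℝ)⁻¹ := by
    rw [Nat.card_eq_fintype_card, Fintype.card_subtype, ← Finset.sum_boole]
    refine Finset.sum_congr rfl fun g _ => ?_
    split_ifs with h
    · rw [mul_inv_cancel₀]
      exact_mod_cast (hTpos g h).ne'
    · rw [show T g = 0 from by_contra fun h' => h (hTp g h')]
      simp
  have h2 : ∀ g : G, (T g : ℝ) * (T g : ℝ)⁻¹ =
      ∑ y : G, if y * g * y⁻¹ ∈ (P : Subgroup G) then (T g : ℝ)⁻¹ else 0 := by
    intro g
    rw [← Finset.sum_filter, Finset.sum_const, nsmul_eq_mul]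
    congr 2
    rw [← Fintype.card_subtype, ← Nat.card_eq_fintype_card]
    exact Nat.card_congr (Equiv.subtypeEquivRight fun y => hTiff g y)
  rw [h1, Finset.sum_congr rfl fun g _ => h2 g, Finset.sum_comm,
    Finset.sum_congr rfl fun (y : G) _ => show
      (∑ g : G, if y * g * y⁻¹ ∈ (P : Subgroup G) then (T g : ℝ)⁻¹ else 0) =
      ∑ x : (P : Subgroup G), (T x : ℝ)⁻¹ from ?_,
    Finset.sum_const, Finset.card_univ, nsmul_eq_mul, ← Nat.card_eq_fintype_card]
  rw [← Equiv.sum_comp (MulAut.conj y).symm.toEquiv, ← Finset.sum_filter]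
  refine (Finset.sum_subtype (p := fun x => x ∈ (P : Subgroup G)) (F := instFintypeOfFinite) _ (fun x => by simp [mul_assoc]) _).trans ?_
  refine Finset.sum_congr rfl fun x _ => ?_
  show ((T ((MulAut.conj y).symm (x : G)) : ℕ) : ℝ)⁻¹ = _
  rw [MulAut.conj_symm_apply]
  have h := hTc (x : G) y⁻¹
  rw [inv_inv] at h
  rw [h]

end Cfsg.Agent.S4091


set_option autoImplicit false
open Cfsg

namespace Cfsg.Agent.S4091

/-- Let G be a finite p-solvable group, P a Sylow p-subgroup of G, u the number of p-elements of G (elements of p-power order, the identity included) and n the number of Sylow p-subgroups of G. Then u/#P ≥ n^((p−1)/p), stated as u^p ≥ #P^p · n^(p−1). -/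
theorem result {G : Type*} [Group G] [Finite G] (p : ℕ) [Fact p.Prime]
    (hG : Cfsg.IsPSolvable p G) (P : Sylow p G) :
    Nat.card (P : Subgroup G) ^ p * Nat.card (Sylow p G) ^ (p - 1) ≤ Nat.card {g : G // ∃ k : ℕ, orderOf g = p ^ k} ^ p := by
  classical
  haveI := Fintype.ofFinite (P : Subgroup G)
  have hpr := (Fact.out : p.Prime)
  set k := Nat.card (P : Subgroup G) with hk
  set N := Nat.card (Subgroup.normalizer ((P : Subgroup G) : Set G)) with hN
  set g := Nat.card G with hg
  set n := Nat.card (Sylow p G) with hn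
  set u := Nat.card {g : G // ∃ k : ℕ, orderOf g = p ^ k} with hu
  have hgn : g = n * N := by
    have h := Subgroup.card_mul_index (Subgroup.normalizer ((P : Subgroup G) : Set G))
    have f : Nat.card (Sylow p G) = (Subgroup.normalizer ((P : Subgroup G) : Set G)).index :=
      Sylow.card_eq_index_normalizer P
    rw [← f, mul_comm] at h
    exact h.symm
  have hb := mean_bound g G le_rfl hG P
  rw [ConjCount.cnt_self] at hb
  set T : ↥(P : Subgroup G) → ℕ := fun x => ConjCount.cnt (P : Subgroup G) (Subgroup.zpowers (x : G))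
  have hT0 : ∀ x, 0 < T x := fun x => Nat.card_pos_iff.2 ⟨⟨⟨1, by
    simp [Subgroup.zpowers_le]⟩⟩, inferInstance⟩
  have hu' := card_pElements P
  set S : ℝ := ∑ x : (P : Subgroup G), ((T x : ℕ) : ℝ)⁻¹ with hS
  have hS' : (u : ℝ) = (g : ℝ) * S := by
    rw [hu, hu', hS]
    congr 1
    exact Finset.sum_congr (Finset.ext fun x => by simp) fun _ _ => rfl
  have hk0 : (0 : ℝ) < k := by exact_mod_cast Nat.card_pos
  have hSnn : (0 : ℝ) ≤ S := Finset.sum_nonneg fun x _ => by positivity
  -- arithmetic and geometric means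
  have ham : ∏ x : (P : Subgroup G), ((T x : ℕ) : ℝ)⁻¹ ≤ (S / k) ^ k := by
    have h := Real.geom_mean_le_arith_mean Finset.univ (fun _ : (P : Subgroup G) => (1 : ℝ))
      (fun x => ((T x : ℕ) : ℝ)⁻¹) (fun _ _ => zero_le_one) (by simp [Fintype.card_pos])
      (fun x _ => by positivity)
    simp only [Real.rpow_one, one_mul, Finset.sum_const, Finset.card_univ, nsmul_eq_mul, mul_one,
      ← Nat.card_eq_fintype_card, ← hk, ← hS] at h
    have h' := pow_le_pow_left₀ (Real.rpow_nonneg (Finset.prod_nonneg fun x _ => by positivity) _) h k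
    rwa [Real.rpow_inv_natCast_pow (Finset.prod_nonneg fun x _ => by positivity)
      Nat.card_pos.ne'] at h'
  have hb' : ((∏ x : (P : Subgroup G), T x) : ℕ) ^ p ≤ (g * N ^ (p - 1)) ^ k := by
    refine le_trans (le_of_eq ?_) hb
    congr 1
    exact Finset.prod_congr (Finset.ext fun x => by simp) fun _ _ => rfl
  have hgN : (0 : ℝ) < (g : ℝ) * (N : ℝ) ^ (p - 1) :=
    mul_pos (by exact_mod_cast (Nat.card_pos : 0 < g))
      (pow_pos (by exact_mod_cast (Nat.card_pos : 0 < N)) _)
  have hprodpos : (0 : ℝ) < ∏ x : (P : Subgroup G), ((T x : ℕ) : ℝ) :=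
    Finset.prod_pos fun x _ => by exact_mod_cast hT0 x
  have key : ((g : ℝ) * (N : ℝ) ^ (p - 1))⁻¹ ≤ (S / k) ^ p := by
    refine le_of_pow_le_pow_left₀ (n := k) Nat.card_pos.ne' (by positivity) ?_
    calc (((g : ℝ) * (N : ℝ) ^ (p - 1))⁻¹) ^ k
        ≤ ((∏ x : (P : Subgroup G), ((T x : ℕ) : ℝ)) ^ p)⁻¹ := by
          rw [inv_pow]
          refine inv_anti₀ (pow_pos hprodpos p) ?_
          exact_mod_cast hb'
      _ = (∏ x : (P : Subgroup G), ((T x : ℕ) : ℝ)⁻¹) ^ p := by
          rw [Finset.prod_inv_distrib, inv_pow]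
      _ ≤ ((S / k) ^ k) ^ p := pow_le_pow_left₀ (Finset.prod_nonneg fun x _ => by positivity) ham p
      _ = ((S / k) ^ p) ^ k := pow_right_comm _ _ _
  suffices h : (k : ℝ) ^ p * (n : ℝ) ^ (p - 1) ≤ (u : ℝ) ^ p by exact_mod_cast h
  obtain ⟨j, hj⟩ : ∃ j, p = j + 1 := ⟨p - 1, by have := hpr.one_le; omega⟩
  have hgR : (g : ℝ) = (n : ℝ) * (N : ℝ) := by exact_mod_cast hgn
  have hN0 : (0 : ℝ) < (N : ℝ) := by exact_mod_cast (Nat.card_pos : 0 < N)
  calc (k : ℝ) ^ p * (n : ℝ) ^ (p - 1)
      = (g : ℝ) ^ p * (k : ℝ) ^ p * ((g : ℝ) * (N : ℝ) ^ (p - 1))⁻¹ := by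
        rw [hgR, hj, Nat.add_sub_cancel, mul_pow (n : ℝ), pow_succ (n : ℝ), pow_succ (N : ℝ)]
        have hn0 : (0 : ℝ) < (n : ℝ) := by exact_mod_cast (Nat.card_pos : 0 < n)
        field_simp
    _ ≤ (g : ℝ) ^ p * (k : ℝ) ^ p * (S / k) ^ p := mul_le_mul_of_nonneg_left key (by positivity)
    _ = (u : ℝ) ^ p := by
        rw [hS', mul_pow, div_pow, mul_assoc, mul_div_cancel₀ _ (pow_ne_zero _ hk0.ne')]

end Cfsg.Agent.S4091
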