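import Cfsg.Statements.S4092
import Cfsg.Agent.Lib.FGStruct.Counting

set_option autoImplicit false
set_option linter.style.haveILetI false

set_option autoImplicit false
open Cfsg

namespace Cfsg.Agent.S4092

/-- Let G be a finite group, p a prime and P a Sylow p-subgroup of G that is not normal in G. Then G has at least p·#P elements of p-power order (the identity included). -/
theorem result {G : Type*} [Group G] [Finite G] (p : ℕ) [Fact p.Prime]
    (P : Sylow p G) (hP : ¬ (P : Subgroup G).Normal) :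
    p * Nat.card (P : Subgroup G) ≤ Nat.card {g : G // ∃ k : ℕ, orderOf g = p ^ k} := by
  classical
  have hp : p.Prime := Fact.out
  haveI := Fintype.ofFinite G
  set S := {g : G // ∃ k : ℕ, orderOf g = p ^ k}
  set q := Nat.card (P : Subgroup G) with hq
  obtain ⟨a, ha⟩ := IsPGroup.iff_card.1 P.isPGroup'
  have hqv : q = p ^ (Nat.card G).factorization p := P.card_eq_multiplicity
  have hS : Nat.card S = Nat.card {g : G // g ^ q = 1} := by
    refine Nat.card_congr (Equiv.subtypeEquivRight fun g => ⟨?_, ?_⟩)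
    · rintro ⟨k, hk⟩
      rw [← orderOf_dvd_iff_pow_eq_one, hk, hqv]
      exact Nat.pow_dvd_pow p ((hp.pow_dvd_iff_le_factorization Nat.card_pos.ne').1
        (hk ▸ orderOf_dvd_natCard g))
    · intro hg
      rw [hqv] at hg
      obtain ⟨k, -, hk⟩ := (Nat.dvd_prime_pow hp).1 (orderOf_dvd_of_pow_eq_one hg)
      exact ⟨k, hk⟩
  obtain ⟨k, hk⟩ : q ∣ Nat.card S := hS ▸ Cfsg.Agent.Counting.dvd_card_pow_eq_one q
    (Subgroup.card_subgroup_dvd_card _)
  -- the nonidentity p-elements come in batches of size divisible by `p - 1`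
  have hmod : p - 1 ∣ Nat.card S - 1 := by
    have hT : Nat.card S - 1 = Nat.card {g : G // g ≠ 1 ∧ ∃ j : ℕ, orderOf g = p ^ j} := by
      rw [Nat.card_eq_fintype_card, Fintype.card_subtype, Nat.card_eq_fintype_card, Fintype.card_subtype,
        ← Finset.card_erase_of_mem (Finset.mem_filter.2 ⟨Finset.mem_univ (1 : G), 0, by simp⟩)]
      congr 1
      ext g
      simp only [Finset.mem_erase, Finset.mem_filter, Finset.mem_univ, true_and, ne_eq]
    rw [hT, Nat.card_eq_fintype_card, Fintype.card_subtype,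
      Finset.card_eq_sum_card_image (fun x : G => Subgroup.zpowers x)]
    refine Finset.dvd_sum fun C hC => ?_
    obtain ⟨x, hx, hxC⟩ := Finset.mem_image.1 hC
    obtain ⟨hx1, j, hxj⟩ := (Finset.mem_filter.1 hx).2
    have hfib : ((Finset.univ.filter (fun g : G => g ≠ 1 ∧ ∃ j : ℕ, orderOf g = p ^ j)).filter
        (fun y => Subgroup.zpowers y = C)).card =
        (Finset.univ.filter (fun y : Subgroup.zpowers x => orderOf y = orderOf x)).card := by
      symm
      refine Finset.card_bij (fun y _ => (y : G)) ?_ (fun y₁ _ y₂ _ h => Subtype.ext h) ?_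
      · intro y hy
        have hy' : orderOf (y : G) = orderOf x := by
          rw [Subgroup.orderOf_coe]; exact (Finset.mem_filter.1 hy).2
        refine Finset.mem_filter.2 ⟨Finset.mem_filter.2 ⟨Finset.mem_univ _, ?_, j, hy'.trans hxj⟩, ?_⟩
        · intro h1; rw [h1, orderOf_one] at hy'; exact hx1 (orderOf_eq_one_iff.1 hy'.symm)
        · rw [← hxC]
          exact Subgroup.eq_of_le_of_card_ge (Subgroup.zpowers_le.2 y.2)
            (by rw [Nat.card_zpowers, Nat.card_zpowers, hy'])
      · intro y hy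
        have hyx : Subgroup.zpowers y = Subgroup.zpowers x := (Finset.mem_filter.1 hy).2.trans hxC.symm
        refine ⟨⟨y, hyx ▸ Subgroup.mem_zpowers y⟩, Finset.mem_filter.2 ⟨Finset.mem_univ _, ?_⟩, rfl⟩
        rw [Subgroup.orderOf_mk, ← Nat.card_zpowers, hyx, Nat.card_zpowers]
    rw [hfib, IsCyclic.card_orderOf_eq_totient (α := Subgroup.zpowers x)
      (by rw [← Nat.card_eq_fintype_card, Nat.card_zpowers]), hxj]
    have hj : 0 < j := Nat.pos_of_ne_zero fun h0 => hx1 (orderOf_eq_one_iff.1 (by rw [hxj, h0, pow_zero]))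
    rw [Nat.totient_prime_pow hp hj]
    exact dvd_mul_left _ _
  -- `k = 1` would make `P` normal
  have hk1 : k ≠ 1 := by
    intro h1
    rw [h1, mul_one] at hk
    have hset : ((P : Subgroup G) : Set G) = {g : G | ∃ j : ℕ, orderOf g = p ^ j} := by
      refine Set.eq_of_subset_of_ncard_le (fun g hg => ?_) ?_ (Set.toFinite _)
      · obtain ⟨j, hj⟩ := IsPGroup.iff_orderOf.1 P.isPGroup' ⟨g, hg⟩
        exact ⟨j, by rw [← hj, Subgroup.orderOf_mk]⟩
      · rw [← Nat.card_coe_set_eq, ← Nat.card_coe_set_eq]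
        exact le_of_eq hk
    refine hP ⟨fun g hg c => ?_⟩
    rw [← SetLike.mem_coe, hset] at hg ⊢
    obtain ⟨j, hj⟩ := hg
    exact ⟨j, by rw [show c * g * c⁻¹ = MulAut.conj c g from rfl, MulEquiv.orderOf_eq, hj]⟩
  have hSpos : 0 < Nat.card S := Nat.card_pos_iff.2 ⟨⟨⟨1, 0, by simp⟩⟩, inferInstance⟩
  have hk0 : 0 < k := Nat.pos_of_ne_zero fun h0 => by rw [h0, mul_zero] at hk; omega
  have hp2 := hp.two_le
  have hqk : 1 ≤ q * k := hk ▸ hSpos
  have h1 : (q * k : ℕ) ≡ 1 [MOD p - 1] := ((Nat.modEq_iff_dvd' hqk).2 (hk ▸ hmod)).symm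
  have h2 : q ≡ 1 [MOD p - 1] := by
    rw [hqv]
    simpa using ((Nat.modEq_iff_dvd' (by omega : 1 ≤ p)).2 dvd_rfl).symm.pow ((Nat.card G).factorization p)
  have h3 : k ≡ 1 [MOD p - 1] := by
    have h4 := (h2.mul_right k).symm.trans h1
    rwa [one_mul] at h4
  have h5 := (Nat.modEq_iff_dvd' hk0).1 h3.symm
  have h6 := Nat.le_of_dvd (by omega) h5
  rw [hk, mul_comm p]
  exact Nat.mul_le_mul_left q (by omega)

end Cfsg.Agent.S4092
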