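import Cfsg.Statements.S4093
import Mathlib.GroupTheory.Sylow

set_option autoImplicit false
set_option linter.style.haveILetI false

set_option autoImplicit false
open scoped BigOperators
open Cfsg

open scoped Pointwise

namespace Cfsg.Agent.S4093

/-- Let G be a finite group with a normal subgroup N complementing a Sylow p-subgroup P (a normal p-complement). Then the number of elements of G of p-power order equals the sum over x ∈ P of the index of C_N(x) in N. -/
theorem result {G : Type*} [Group G] [Finite G] (p : ℕ) [Fact p.Prime]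
    (P : Sylow p G) (N : Subgroup G) [N.Normal] (hNP : N.IsComplement' (P : Subgroup G)) :
    Nat.card {g : G // ∃ k : ℕ, orderOf g = p ^ k} =
      ∑ᶠ x : (P : Subgroup G), Nat.card N / Nat.card ↥(N ⊓ Subgroup.centralizer ({(x : G)} : Set G)) := by
  classical
  haveI := Fintype.ofFinite G
  haveI := Fintype.ofFinite (P : Subgroup G)
  rw [finsum_eq_sum_of_fintype]
  set π := QuotientGroup.mk' N
  have hinj : ∀ a ∈ (P : Subgroup G), ∀ b ∈ (P : Subgroup G), π a = π b → a = b := by
    intro a ha b hb hab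
    have h1 : a⁻¹ * b ∈ N := QuotientGroup.eq.1 hab
    have h2 : a⁻¹ * b ∈ (P : Subgroup G) := mul_mem (inv_mem ha) hb
    exact inv_mul_eq_one.1 (Subgroup.disjoint_def.1 hNP.disjoint h1 h2)
  let O : ↥(P : Subgroup G) → Set G := fun x => (fun n : G => n * x * n⁻¹) '' (N : Set G)
  have hO : ∀ x : (P : Subgroup G), Nat.card (O x) =
      Nat.card N / Nat.card ↥(N ⊓ Subgroup.centralizer ({(x : G)} : Set G)) := by
    intro x
    set C := (Subgroup.centralizer ({(x : G)} : Set G)).subgroupOf N
    have hC : Nat.card ↥(N ⊓ Subgroup.centralizer ({(x : G)} : Set G)) = Nat.card C :=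
      Nat.card_congr
        { toFun := fun c => ⟨⟨c.1, c.2.1⟩, c.2.2⟩
          invFun := fun c => ⟨c.1.1, c.1.2, c.2⟩
          left_inv := fun _ => rfl
          right_inv := fun _ => rfl }
    rw [hC]
    have hb : Nat.card (N ⧸ C) = Nat.card (O x) := by
      have key : ∀ a b : N, (a : G) * x * (a : G)⁻¹ = (b : G) * x * (b : G)⁻¹ ↔ a⁻¹ * b ∈ C := by
        intro a b
        rw [Subgroup.mem_subgroupOf, Subgroup.mem_centralizer_iff]
        simp only [Set.mem_singleton_iff, forall_eq, Subgroup.coe_mul, Subgroup.coe_inv]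
        constructor
        · intro h
          calc (x : G) * ((a : G)⁻¹ * b) = (a : G)⁻¹ * ((a : G) * x * (a : G)⁻¹) * b := by group
            _ = (a : G)⁻¹ * ((b : G) * x * (b : G)⁻¹) * b := by rw [h]
            _ = (a : G)⁻¹ * b * x := by group
        · intro h
          calc (a : G) * x * (a : G)⁻¹ = (a : G) * ((x : G) * ((a : G)⁻¹ * b)) * (b : G)⁻¹ := by group
            _ = (a : G) * ((a : G)⁻¹ * b * x) * (b : G)⁻¹ := by rw [h]
            _ = (b : G) * x * (b : G)⁻¹ := by group
      refine Nat.card_congr (Equiv.ofBijective (Quotient.lift (fun n : N =>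
        (⟨(n : G) * x * (n : G)⁻¹, n, n.2, rfl⟩ : O x))
        (fun a b hab => Subtype.ext ((key a b).2 (QuotientGroup.leftRel_apply.1 hab)))) ⟨?_, ?_⟩)
      · intro a b
        induction a using Quotient.inductionOn'
        induction b using Quotient.inductionOn'
        rename_i a b
        intro h
        exact Quotient.sound' (QuotientGroup.leftRel_apply.2 ((key a b).1 (congrArg Subtype.val h)))
      · rintro ⟨-, n, hn, rfl⟩
        exact ⟨Quotient.mk'' ⟨n, hn⟩, rfl⟩
    have hNC := Subgroup.card_eq_card_quotient_mul_card_subgroup C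
    rw [← hb, hNC, Nat.mul_div_cancel _ Nat.card_pos]
  rw [← Finset.sum_congr rfl (fun x _ => hO x), ← Nat.card_sigma]
  symm
  refine Nat.card_congr (Equiv.ofBijective
    (fun w : Σ x : (P : Subgroup G), O x => (⟨(w.2 : G), ?_⟩ : {g : G // ∃ k : ℕ, orderOf g = p ^ k})) ⟨?_, ?_⟩)
  · obtain ⟨n, -, hn⟩ := w.2.2
    obtain ⟨k, hk⟩ := IsPGroup.iff_orderOf.1 P.isPGroup' w.1
    refine ⟨k, ?_⟩
    rw [← hn]
    dsimp only
    rw [show n * (w.1 : G) * n⁻¹ = MulAut.conj n (w.1 : G) from rfl, MulEquiv.orderOf_eq,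
      Subgroup.orderOf_coe, hk]
  · rintro ⟨x, a, n, hn, rfl⟩ ⟨y, b, m, hm, rfl⟩ h
    have h' : n * (x : G) * n⁻¹ = m * (y : G) * m⁻¹ := congrArg Subtype.val h
    have hxy : x = y := by
      refine Subtype.ext (hinj x x.2 y y.2 ?_)
      have := congrArg π h'
      simpa [show π n = 1 from (QuotientGroup.eq_one_iff n).2 hn,
        show π m = 1 from (QuotientGroup.eq_one_iff m).2 hm] using this
    subst hxy
    exact Sigma.ext rfl (heq_of_eq (Subtype.ext h'))
  · rintro ⟨g, k, hk⟩
    obtain ⟨T, hT⟩ := (IsPGroup.of_card (n := k) (by rw [Nat.card_zpowers, hk]) :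
      IsPGroup p (Subgroup.zpowers g)).exists_le_sylow
    obtain ⟨c, hc⟩ := MulAction.exists_smul_eq G P T
    have hg' : g ∈ ((c • P : Sylow p G) : Subgroup G) := hc ▸ hT (Subgroup.mem_zpowers g)
    rw [Sylow.coe_subgroup_smul, Subgroup.mem_pointwise_smul_iff_inv_smul_mem] at hg'
    have hg'' : c⁻¹ * g * c ∈ (P : Subgroup G) := by simpa [MulAut.smul_def, mul_assoc] using hg'
    have hc' : c ∈ N ⊔ (P : Subgroup G) := by rw [hNP.sup_eq_top]; exact Subgroup.mem_top c
    obtain ⟨n, hn, u, hu, rfl⟩ := Subgroup.mem_sup_of_normal_left.1 hc'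
    refine ⟨⟨⟨n⁻¹ * g * n, ?_⟩, g, n, hn, ?_⟩, rfl⟩
    · have := mul_mem (mul_mem hu hg'') (inv_mem hu)
      rwa [show u * ((n * u)⁻¹ * g * (n * u)) * u⁻¹ = n⁻¹ * g * n by group] at this
    · show n * (n⁻¹ * g * n) * n⁻¹ = g
      group

end Cfsg.Agent.S4093
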