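import Cfsg.Statements.S4097
import Cfsg.Agent.Lib.Char.FrobeniusKernel
import Cfsg.Agent.Lib.Components.Fitting
import Mathlib.GroupTheory.SchurZassenhaus
import Mathlib.GroupTheory.PGroup

set_option autoImplicit false
open Cfsg

namespace Cfsg.Agent.S4097

open scoped Pointwise

lemma coprime_card {Q : Type*} [Group Q] [Finite Q] {H K : Subgroup Q} [K.Normal]
    (hH : Cfsg.Agent.Char.Malnormal H) (hKH : K ⊓ H = ⊥) : Nat.Coprime (Nat.card K) (Nat.card H) := by
  refine Nat.coprime_of_dvd fun r hr hrK hrH => ?_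
  haveI := Fact.mk hr
  obtain ⟨h, hh⟩ := exists_prime_orderOf_dvd_card' (G := H) r hrH
  have hh' : orderOf (h : Q) = r := (Subgroup.orderOf_coe h).trans hh
  let P := Subgroup.zpowers (h : Q)
  have hP : IsPGroup r P := IsPGroup.of_card (n := 1) (by rw [Nat.card_zpowers, hh', pow_one])
  let act : MulAction P K := MulAction.compHom K ((MulAut.conjNormal (H := K)).comp P.subtype)
  have hfix : ∀ k : K, k ∈ MulAction.fixedPoints P K →
      (h : Q) * k * (h : Q)⁻¹ = k := fun k hk => by
    have := congrArg Subtype.val (hk ⟨h, Subgroup.mem_zpowers _⟩)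
    exact this
  obtain ⟨k, hk, hk1⟩ := hP.exists_fixed_point_of_prime_dvd_card_of_fixed_point K hrK (a := 1)
    (fun g => map_one (MulAut.conjNormal (H := K) (g : Q)))
  have hc := hfix k hk
  have hkH : (k : Q) ∈ H := by
    by_contra hkH
    have := hH k hkH h h.2 (by
      have e : (k : Q) * h * (k : Q)⁻¹ = h := by
        rw [← mul_inv_eq_iff_eq_mul.1 hc]
        group
      rw [e]; exact h.2)
    rw [this, orderOf_one] at hh'
    exact hr.ne_one hh'.symm
  exact hk1 (Subtype.ext (Subgroup.mem_bot.1 (hKH ▸ ⟨k.2, hkH⟩ : (k : Q) ∈ (⊥ : Subgroup Q))).symm)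

/-- A central extension of a solvable group is solvable. -/
lemma isSolvable_comap {G : Type*} [Group G] (S : Subgroup (G ⧸ Subgroup.center G))
    (hS : IsMulCommutative S ∨ Group.IsSolvable S) :
    Group.IsSolvable (S.comap (QuotientGroup.mk' (Subgroup.center G))) := by
  set π := QuotientGroup.mk' (Subgroup.center G)
  have hS' : Group.IsSolvable S := by
    rcases hS with h | h
    · exact isSolvable_of_comm fun a b => mul_comm' a b
    · exact h
  haveI : Group.IsSolvable (Subgroup.center G) := isSolvable_of_comm fun a b => mul_comm' a b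
  refine solvable_of_ker_le_range (Subgroup.inclusion (H := Subgroup.center G) ?_) (π.subgroupComap S) ?_
  · intro z hz
    have : π z = 1 := (QuotientGroup.eq_one_iff z).2 hz
    simp [Subgroup.mem_comap, this, S.one_mem]
  · rintro ⟨g, hg⟩ hker
    have : π g = 1 := congrArg Subtype.val hker
    exact ⟨⟨g, (QuotientGroup.eq_one_iff g).1 this⟩, rfl⟩

/-- If every proper overgroup of `A` centralises `A`, then `A` is central. -/
lemma le_center {G : Type*} [Group G] [Finite G] (A : Subgroup G)
    (hc : ∀ S : Subgroup G, A ≤ S → Group.IsSolvable S → ∀ a ∈ A, ∀ s ∈ S, a * s = s * a)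
    (hA : Group.IsSolvable A)
    (hrec : ∀ H : Subgroup G, H ≠ ⊤ → A ≤ H → H ≤ Subgroup.centralizer (A : Set G)) :
    A ≤ Subgroup.center G := by
  classical
  set M := Subgroup.centralizer (A : Set G) with hM
  have hcomm : ∀ a ∈ A, ∀ b ∈ A, a * b = b * a := hc A le_rfl hA
  have hAM : A ≤ M := fun a ha => Subgroup.mem_centralizer_iff.2 fun b hb => hcomm b hb a ha
  by_cases hMtop : M = ⊤
  · intro a ha
    rw [Subgroup.mem_center_iff]
    intro g
    exact ((Subgroup.mem_centralizer_iff.1 (show g ∈ M from hMtop ▸ Subgroup.mem_top g)) a ha).symm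
  exfalso
  -- a normal solvable overgroup would make `A` central
  have hnormsolv : ∀ (N : Subgroup G), N.Normal → A ≤ N → Group.IsSolvable N → False := by
    intro N hN hAN hNs
    haveI := hN
    haveI := hNs
    apply hMtop
    rw [eq_top_iff]
    intro g _
    rw [hM, Subgroup.mem_centralizer_iff]
    intro a ha
    haveI : Group.IsSolvable (Subgroup.zpowers g) := isSolvable_of_comm fun a b => mul_comm' a b
    exact hc (N ⊔ Subgroup.zpowers g) (hAN.trans le_sup_left)
      (Cfsg.Agent.Components.isSolvable_sup _ _ (Subgroup.le_normalizer_of_normal))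
      a ha g (Subgroup.mem_sup_right (Subgroup.mem_zpowers g))
  have hncl : ∀ N : Subgroup G, N.Normal → A ≤ N → N = ⊤ := by
    intro N hN hAN
    by_contra hNtop
    set C := Subgroup.normalClosure (A : Set G)
    have hCN : C ≤ N := Subgroup.normalClosure_le_normal (N := N) hAN
    have hCM : C ≤ M := hCN.trans (hrec N hNtop hAN)
    refine hnormsolv C inferInstance Subgroup.le_normalClosure ?_
    refine isSolvable_of_comm fun u v => Subtype.ext ?_
    have hCC : C ≤ Subgroup.centralizer (C : Set G) :=
      Subgroup.normalClosure_le_normal (N := Subgroup.centralizer (C : Set G)) fun a ha =>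
        Subgroup.mem_centralizer_iff.2 fun w hw =>
          ((Subgroup.mem_centralizer_iff.1 (hCM hw)) a ha).symm
    exact (Subgroup.mem_centralizer_iff.1 (hCC v.2)) u u.2
  set Z := Subgroup.center G with hZ
  set π := QuotientGroup.mk' Z with hπ
  have hπs : Function.Surjective π := QuotientGroup.mk'_surjective Z
  have hZM : Z ≤ M := Subgroup.center_le_centralizer _
  have hsolvnormal : ∀ N : Subgroup G, N.Normal → Group.IsSolvable N → N ≤ Z := by
    intro N hN hNs
    haveI := hN; haveI := hNs; haveI := hA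
    have hS : Group.IsSolvable ((N ⊔ A : Subgroup G)) :=
      Cfsg.Agent.Components.isSolvable_sup _ _ Subgroup.le_normalizer_of_normal
    have hN1 : Subgroup.centralizer (N : Set G) = ⊤ := hncl _ inferInstance fun a ha =>
      Subgroup.mem_centralizer_iff.2 fun n hn =>
        (hc _ le_sup_right hS a ha n (Subgroup.mem_sup_left hn)).symm
    intro n hn
    rw [hZ, Subgroup.mem_center_iff]
    intro g
    exact (Subgroup.mem_centralizer_iff.1 (show g ∈ Subgroup.centralizer (N : Set G) from
      hN1 ▸ Subgroup.mem_top g) n hn).symm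
  have hnorm : Subgroup.normalizer (M : Set G) ≤ M := by
    refine hrec _ (fun h => ?_) (hAM.trans Subgroup.le_normalizer)
    exact hMtop (hncl M (Subgroup.normalizer_eq_top_iff.1 h) hAM)
  -- `M` is malnormal modulo the centre
  set Mb := M.map π with hMb
  have hcomap : Mb.comap π = M := by
    rw [hMb, Subgroup.comap_map_eq, QuotientGroup.ker_mk', sup_eq_left.2 hZM]
  have hmal : Cfsg.Agent.Char.Malnormal Mb := by
    intro gb hgb yb hyb hgy
    obtain ⟨g, rfl⟩ := hπs gb
    obtain ⟨y, rfl⟩ := hπs yb
    have hy : y ∈ M := by rw [← hcomap]; exact hyb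
    have hgy' : g * y * g⁻¹ ∈ M := by rw [← hcomap]; simpa [Subgroup.mem_comap] using hgy
    have hg : g ∉ M := fun h => hgb (Subgroup.mem_map_of_mem π h)
    let c := (MulAut.conj g⁻¹).toMonoidHom
    have hJ : A ⊔ A.map c = ⊤ := by
      by_contra hne
      have h1 := hrec _ hne le_sup_left
      have hMg : A ≤ M.map c := by
        intro a ha
        refine ⟨g * a * g⁻¹, ?_, by simp [c, mul_assoc]⟩
        rw [SetLike.mem_coe, hM, Subgroup.mem_centralizer_iff]
        intro b hb
        have h2 : a * (g⁻¹ * b * g) = (g⁻¹ * b * g) * a :=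
          (Subgroup.mem_centralizer_iff.1 (h1 (Subgroup.mem_sup_right ⟨b, hb, by simp [c]⟩))) a ha
        have := congrArg (fun t => g * t * g⁻¹) h2
        simpa [mul_assoc] using this.symm
      have hne' : M.map c ≠ ⊤ := by
        intro h
        apply hMtop
        exact Subgroup.map_injective (MulAut.conj g⁻¹).injective
          (by rw [h, Subgroup.map_top_of_surjective c (MulAut.conj g⁻¹).surjective])
      have h3 := hrec _ hne' hMg
      apply hg
      apply hnorm
      have h4 : M.map c = M := Subgroup.eq_of_le_of_card_ge h3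
        (le_of_eq (Nat.card_congr (M.equivMapOfInjective c (MulAut.conj g⁻¹).injective).toEquiv))
      have : g⁻¹ ∈ Subgroup.normalizer (M : Set G) := by
        rw [Subgroup.mem_normalizer_iff]
        intro x
        constructor
        · intro hx
          rw [← h4]
          exact ⟨x, hx, by simp [c]⟩
        · intro hx
          rw [← h4] at hx
          obtain ⟨x', hx', he⟩ := hx
          have : x' = x := (MulAut.conj g⁻¹).injective (he.trans (by simp))
          exact this ▸ hx'
      simpa using inv_mem this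
    have hyZ : y ∈ Z := by
      rw [hZ, Subgroup.mem_center_iff]
      have hle : A ⊔ A.map c ≤ Subgroup.centralizer ({y} : Set G) := by
        refine sup_le (fun a ha => ?_) ?_
        · rw [Subgroup.mem_centralizer_iff]
          rintro _ rfl
          exact ((Subgroup.mem_centralizer_iff.1 hy) a ha).symm
        · rintro _ ⟨a, ha, rfl⟩
          rw [Subgroup.mem_centralizer_iff]
          rintro _ rfl
          have h2 := (Subgroup.mem_centralizer_iff.1 hgy') a ha
          have := congrArg (fun t => g⁻¹ * t * g) h2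
          simp only [c, MulEquiv.coe_toMonoidHom, MulAut.conj_apply, inv_inv]
          simpa [mul_assoc] using this.symm
      intro h
      exact ((Subgroup.mem_centralizer_iff.1 (hle (hJ ▸ Subgroup.mem_top h))) y rfl).symm
    exact (QuotientGroup.eq_one_iff y).2 hyZ
  obtain ⟨K, hKn, hKM, hKc, hKmem⟩ := Cfsg.Agent.Char.exists_frobenius_kernel hmal
  haveI := hKn
  have hMbtop : Mb ≠ ⊤ := fun h => hMtop (by rw [← hcomap, h, Subgroup.comap_top])
  have hKbot : K ≠ ⊥ := by
    intro h
    subst h
    exact hMbtop (Subgroup.isComplement'_bot_left.1 hKc)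
  have hKA : K.comap π ⊔ A = ⊤ := by
    by_contra hne
    have h1 := hrec _ hne le_sup_right
    apply hKbot
    rw [eq_bot_iff, ← hKM]
    refine le_inf le_rfl ?_
    rw [← Subgroup.map_comap_eq_self_of_surjective hπs K]
    exact Subgroup.map_mono (le_sup_left.trans h1)
  have hKA' : K ⊔ A.map π = ⊤ := by
    have := congrArg (Subgroup.map π) hKA
    rwa [Subgroup.map_sup, Subgroup.map_comap_eq_self_of_surjective hπs,
      Subgroup.map_top_of_surjective π hπs] at this
  have hAMb : A.map π ≤ Mb := Subgroup.map_mono hAM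
  have hAeq : A.map π = Mb := by
    refine le_antisymm hAMb fun m hm => ?_
    have hm' : m ∈ ((K : Set (G ⧸ Z)) * (A.map π : Set (G ⧸ Z))) := by
      rw [← Subgroup.normal_mul, hKA']; trivial
    obtain ⟨k, hk, a, ha, rfl⟩ := hm'
    have : k ∈ K ⊓ Mb := ⟨hk, by simpa using Mb.mul_mem hm (Mb.inv_mem (hAMb ha))⟩
    rw [hKM, Subgroup.mem_bot] at this
    simpa [this] using ha
  have hMbcomm : ∀ u ∈ Mb, ∀ v ∈ Mb, u * v = v * u := by
    rw [← hAeq]
    rintro _ ⟨a, ha, rfl⟩ _ ⟨b, hb, rfl⟩
    rw [← map_mul, ← map_mul, hcomm a ha b hb]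
  set r := (Nat.card K).minFac with hr'
  have hr : r.Prime := Nat.minFac_prime (K.one_lt_card_iff_ne_bot.2 hKbot).ne'
  haveI := Fact.mk hr
  obtain ⟨P⟩ : Nonempty (Sylow r K) := inferInstance
  set R := (P : Subgroup K).map K.subtype with hR
  have hRbot : R ≠ ⊥ := by
    intro h
    rw [hR, Subgroup.map_eq_bot_iff_of_injective _ K.subtype_injective] at h
    exact P.ne_bot_of_dvd_card (Nat.minFac_dvd _) h
  set N := Subgroup.normalizer (R : Set (G ⧸ Z)) with hN
  have hNK : N ⊔ K = ⊤ := Sylow.normalizer_sup_eq_top P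
  have hNtop : N ≠ ⊤ := by
    intro h
    haveI hRn : R.Normal := Subgroup.normalizer_eq_top_iff.1 h
    have hRs : Group.IsSolvable R := by
      haveI := (P.2.map K.subtype).isNilpotent
      infer_instance
    have hle := hsolvnormal (R.comap π) (hRn.comap π) (isSolvable_comap R (Or.inr hRs))
    apply hRbot
    rw [eq_bot_iff, ← Subgroup.map_comap_eq_self_of_surjective hπs R]
    rintro _ ⟨x, hx, rfl⟩
    exact (QuotientGroup.eq_one_iff x).2 (hle hx)
  -- a complement inside the normaliser
  have hidx : (K.subgroupOf N).index = Nat.card Mb := by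
    have h1 : K.relIndex N = K.index := by
      rw [← Subgroup.relIndex_sup_right (H := N) (K := K), hNK, Subgroup.relIndex_top_right]
    rw [← Subgroup.relIndex, h1, hKc.symm.index_eq_card]
  have hcop := coprime_card hmal hKM
  obtain ⟨B, hB⟩ := Subgroup.exists_right_complement'_of_coprime (N := K.subgroupOf N) (by
    rw [hidx]
    exact Nat.Coprime.coprime_dvd_left
      (by rw [← Subgroup.inf_subgroupOf_right, Nat.card_congr
            (Subgroup.subgroupOfEquivOfLe (inf_le_right : K ⊓ N ≤ N)).toEquiv]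
          exact Subgroup.card_dvd_of_le inf_le_left) hcop)
  set B' := B.map N.subtype with hB'
  have hB'card : Nat.card B' = Nat.card Mb := by
    rw [hB', Nat.card_congr (B.equivMapOfInjective _ N.subtype_injective).symm.toEquiv, ← hidx,
      ← hB.symm.index_eq_card]
  have hB'K : ∀ b ∈ B', b ∈ K → b = 1 := by
    rintro _ ⟨b, hb, rfl⟩ hbK
    have : b ∈ K.subgroupOf N ⊓ B := ⟨hbK, hb⟩
    rw [disjoint_iff.1 hB.disjoint, Subgroup.mem_bot] at this
    simp [this]
  have hcommB : ∀ u ∈ B', ∀ v ∈ B', u * v = v * u := by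
    intro u hu v hv
    have hK : u * v * u⁻¹ * v⁻¹ ∈ K := by
      rw [← QuotientGroup.eq_one_iff (N := K)]
      have hq : ∀ w : G ⧸ Z, ∃ m ∈ Mb, QuotientGroup.mk' K w = QuotientGroup.mk' K m := by
        intro w
        have hw : w ∈ ((K : Set (G ⧸ Z)) * (Mb : Set (G ⧸ Z))) := by
          rw [← Subgroup.normal_mul, hKc.sup_eq_top]; trivial
        obtain ⟨k, hk, m, hm, rfl⟩ := hw
        exact ⟨m, hm, by rw [map_mul, show QuotientGroup.mk' K k = 1 from (QuotientGroup.eq_one_iff k).2 hk,
          one_mul]⟩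
      obtain ⟨m₁, hm₁, e₁⟩ := hq u
      obtain ⟨m₂, hm₂, e₂⟩ := hq v
      change QuotientGroup.mk' K (u * v * u⁻¹ * v⁻¹) = 1
      simp only [map_mul, map_inv, e₁, e₂]
      rw [← map_mul, hMbcomm _ hm₁ _ hm₂, map_mul]
      group
    have := hB'K _ (B'.mul_mem (B'.mul_mem (B'.mul_mem hu hv) (B'.inv_mem hu)) (B'.inv_mem hv)) hK
    exact mul_inv_eq_one.1 (by rw [← this]; group)
  obtain ⟨b, hb, hb1⟩ : ∃ b ∈ B', b ≠ 1 := by
    refine B'.bot_or_exists_ne_one.resolve_left fun h => ?_
    rw [h, Subgroup.card_bot] at hB'card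
    apply hKbot
    by_contra
    have hMbot : Mb = ⊥ := Subgroup.card_eq_one.1 hB'card.symm
    apply hMtop
    have hAZ : A ≤ Z := fun a ha =>
      (QuotientGroup.eq_one_iff a).1 (Subgroup.mem_bot.1 (hMbot ▸ hAMb ⟨a, ha, rfl⟩))
    rw [eq_top_iff]
    intro g _
    rw [hM, Subgroup.mem_centralizer_iff]
    intro a ha
    exact (Subgroup.mem_center_iff.1 (hAZ ha) g).symm
  obtain ⟨x, hx⟩ : ∃ x, x⁻¹ * b * x ∈ Mb := by
    by_contra! h
    exact hb1 (hB'K b hb ((hKmem b).2 (Or.inr h)))
  have hbne : x⁻¹ * b * x ≠ 1 := fun h => hb1 (by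
    have := congrArg (fun w => x * w * x⁻¹) h
    simpa [mul_assoc] using this)
  set c' := (MulAut.conj x⁻¹).toMonoidHom
  have hBx : B'.map c' = Mb := by
    refine Subgroup.eq_of_le_of_card_ge ?_ (le_of_eq ?_)
    · rintro _ ⟨u, hu, rfl⟩
      by_contra hnot
      apply hbne
      refine hmal _ hnot _ hx ?_
      convert hx using 1
      simp only [c', MulEquiv.coe_toMonoidHom, MulAut.conj_apply]
      have := hcommB u hu b hb
      calc x⁻¹ * u * x⁻¹⁻¹ * (x⁻¹ * b * x) * (x⁻¹ * u * x⁻¹⁻¹)⁻¹ = x⁻¹ * (u * b) * u⁻¹ * x := by group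
        _ = x⁻¹ * b * x := by rw [this]; group
    · rw [← hB'card]
      exact (Nat.card_congr (B'.equivMapOfInjective c' (MulAut.conj x⁻¹).injective).toEquiv)
  set N' := N.map c'
  have hN'A : A ≤ N'.comap π := by
    intro a ha
    have h1 : π a ∈ B'.map c' := hBx ▸ hAMb ⟨a, ha, rfl⟩
    exact Subgroup.map_mono (Subgroup.map_subtype_le B) h1
  have hN'top : N'.comap π ≠ ⊤ := by
    intro h
    apply hNtop
    have := congrArg (Subgroup.map π) h
    rw [Subgroup.map_comap_eq_self_of_surjective hπs, Subgroup.map_top_of_surjective π hπs] at this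
    exact Subgroup.map_injective (MulAut.conj x⁻¹).injective
      (this.trans (Subgroup.map_top_of_surjective c' (MulAut.conj x⁻¹).surjective).symm)
  have hN'M : N' ≤ Mb := by
    rw [← Subgroup.map_comap_eq_self_of_surjective hπs N']
    exact Subgroup.map_mono (hrec _ hN'top hN'A)
  apply hRbot
  rw [eq_bot_iff]
  intro y hy
  have h1 : c' y ∈ K ⊓ Mb :=
    ⟨hKn.conj_mem y (Subgroup.map_subtype_le _ hy) x⁻¹, hN'M ⟨y, Subgroup.le_normalizer hy, rfl⟩⟩
  rw [hKM, Subgroup.mem_bot] at h1
  exact Subgroup.mem_bot.2 ((MulEquiv.map_eq_one_iff (MulAut.conj x⁻¹)).1 h1)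

theorem main : ∀ (n : ℕ) {G : Type*} [Group G] [Finite G] (A : Subgroup G), Nat.card G ≤ n →
    Group.IsSolvable A →
    (∀ S : Subgroup G, A ≤ S → Group.IsSolvable S → ∀ a ∈ A, ∀ s ∈ S, a * s = s * a) →
    A ≤ Subgroup.center G := by
  intro n
  induction n with
  | zero =>
    intro G _ _ A hn _ _
    have := Nat.card_pos (α := G)
    omega
  | succ n ih =>
    intro G _ _ A hn hA hc
    refine le_center A hc hA fun H hH hAH => ?_
    have hlt : Nat.card H < Nat.card G :=
      lt_of_le_of_ne (Subgroup.card_le_card_group H) fun h => hH (Subgroup.eq_top_of_card_eq H h)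
    haveI := hA
    have h := ih (A.subgroupOf H) (G := H) (by omega)
      (solvable_of_surjective (f := (Subgroup.subgroupOfEquivOfLe hAH).symm.toMonoidHom)
        (Subgroup.subgroupOfEquivOfLe hAH).symm.surjective)
      (fun S hS hSs a ha s hs => by
        haveI := hSs
        refine Subtype.ext (hc (S.map H.subtype) ?_
          (solvable_of_surjective (f := (S.equivMapOfInjective H.subtype H.subtype_injective).toMonoidHom)
            (S.equivMapOfInjective H.subtype H.subtype_injective).surjective) a ha s ⟨s, hs, rfl⟩)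
        intro a' ha'
        exact ⟨⟨a', hAH ha'⟩, hS ha', rfl⟩)
    intro g hg
    rw [Subgroup.mem_centralizer_iff]
    intro a ha
    exact congrArg Subtype.val (Subgroup.mem_center_iff.1 (h (show (⟨a, hAH ha⟩ : H) ∈ A.subgroupOf H from ha)) ⟨g, hg⟩).symm


/-- Let A be a solvable subgroup of a finite group G such that A lies in the centre of every solvable subgroup of G containing A. Then A lies in the centre of G. -/
theorem result {G : Type*} [Group G] [Finite G]
    (A : Subgroup G) (hA : Group.IsSolvable A)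
    (hc : ∀ S : Subgroup G, A ≤ S → Group.IsSolvable S → ∀ a ∈ A, ∀ s ∈ S, a * s = s * a) : A ≤ Subgroup.center G := by
  exact main (Nat.card G) A le_rfl hA hc

end Cfsg.Agent.S4097
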