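import Cfsg.Statements.S4100
import Cfsg.Agent.Lib.AltCentraliser.Alt

set_option autoImplicit false
open Cfsg

namespace Cfsg.Agent.S4100

theorem exists_surjective {G : Type*} [Group G] {m d : ℕ} (hmd : m ≤ d)
    (hinv : Cfsg.Involves (alternatingGroup (Fin d)) G) :
    ∃ (H : Subgroup G) (f : ↥H →* ↥(alternatingGroup (Fin m))), Function.Surjective f := by
  obtain ⟨K, R, hn, ⟨e⟩⟩ := hinv
  haveI := hn
  set π : ↥K →* ↥(alternatingGroup (Fin d)) := e.toMonoidHom.comp (QuotientGroup.mk' _)
  have hπ : Function.Surjective π := e.surjective.comp (QuotientGroup.mk'_surjective _)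
  set E := AltCent.altMap (Fin.castLEEmb hmd)
  set L := E.range.comap π
  set q := (MonoidHom.ofInjective (AltCent.altMap_injective (Fin.castLEEmb hmd))).symm
  have hmap : ∀ h : ↥(L.map K.subtype), π ⟨h, Subgroup.map_subtype_le L h.2⟩ ∈ E.range := by
    rintro ⟨_, k, hk, rfl⟩
    exact hk
  let f : ↥(L.map K.subtype) →* ↥E.range :=
    { toFun := fun h => ⟨π ⟨h, Subgroup.map_subtype_le L h.2⟩, hmap h⟩
      map_one' := Subtype.ext (map_one π)
      map_mul' := fun a b => Subtype.ext (map_mul π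
        ⟨a, Subgroup.map_subtype_le L a.2⟩ ⟨b, Subgroup.map_subtype_le L b.2⟩) }
  refine ⟨L.map K.subtype, q.toMonoidHom.comp f, q.surjective.comp fun y => ?_⟩
  obtain ⟨k, hk⟩ := hπ y
  exact ⟨⟨k, ⟨k, show π k ∈ E.range from hk ▸ y.2, rfl⟩⟩, Subtype.ext hk⟩

theorem exists_cover {G : Type*} [Group G] [Finite G] (p : ℕ)
    (h : ∀ x : G, x ∉ Subgroup.center G → (∃ k : ℕ, orderOf x = p ^ k) →
      Group.IsSolvable (Subgroup.centralizer ({x} : Set G)))
    {m d : ℕ} (hmd : m ≤ d) (hinv : Cfsg.Involves (alternatingGroup (Fin d)) G) :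
    ∃ H : Subgroup G, Nonempty (AltCent.Cover p ↥H ↥(alternatingGroup (Fin m))) := by
  obtain ⟨H0, f0, hf0⟩ := exists_surjective hmd hinv
  obtain ⟨H, ⟨f, hf⟩, hmin⟩ := (wellFounded_lt (α := Subgroup G)).has_min
    {H : Subgroup G | ∃ f : ↥H →* ↥(alternatingGroup (Fin m)), Function.Surjective f}
    ⟨H0, f0, hf0⟩
  refine ⟨H, ⟨⟨f, hf, ?_, (Subgroup.center G).subgroupOf H, ?_, ?_⟩⟩⟩
  · show f.ker ≤ Order.radical (Subgroup ↥H)
    refine le_iInf₂ fun M hM => ?_
    by_contra hle
    have htop : M ⊔ f.ker = ⊤ := hM.2 _ (left_lt_sup.2 hle)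
    have hlt : M.map H.subtype < H := lt_of_le_of_ne (Subgroup.map_subtype_le M) fun he => hM.1 (by
      rw [eq_top_iff]
      intro x _
      obtain ⟨z, hz, hzx⟩ := (he.ge x.2 : (x : G) ∈ M.map H.subtype)
      exact Subtype.ext hzx ▸ hz)
    refine hmin _ ⟨(f.comp M.subtype).comp
      (M.equivMapOfInjective H.subtype H.subtype_injective).symm.toMonoidHom, ?_⟩ hlt
    refine Function.Surjective.comp (g := fun z : ↥M => f z) (fun a => ?_)
      (MulEquiv.surjective _)
    obtain ⟨x, rfl⟩ := hf a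
    obtain ⟨z, hz, w, hw, rfl⟩ :=
      Subgroup.mem_sup_of_normal_right.1 (htop.symm ▸ Subgroup.mem_top x : x ∈ M ⊔ f.ker)
    exact ⟨⟨z, hz⟩, by simp [MonoidHom.mem_ker.1 hw]⟩
  · intro z hz
    rw [Subgroup.mem_center_iff]
    exact fun g => Subtype.ext (Subgroup.mem_center_iff.1 (Subgroup.mem_subgroupOf.1 hz) g)
  · intro x hx ⟨k, hk⟩
    haveI := h x (fun hc => hx (Subgroup.mem_subgroupOf.2 hc))
      ⟨k, by rw [Subgroup.orderOf_coe, hk]⟩
    exact Group.isSolvable_of_isSolvable_injective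
      (f := ((H.subtype).comp (Subgroup.centralizer ({x} : Set ↥H)).subtype).codRestrict
        (Subgroup.centralizer ({(x : G)} : Set G)) fun g => Subgroup.mem_centralizer_singleton_iff.2
          (congrArg Subtype.val (Subgroup.mem_centralizer_singleton_iff.1 g.2)))
      fun a b hab => Subtype.ext (Subtype.ext (congrArg
        (fun w : ↥(Subgroup.centralizer ({(x : G)} : Set G)) => (w : G)) hab :))

/-- Let G be a finite group and p a prime other than 3 such that the centralizer of every non-central element of p-power order is solvable. Then every alternating group of degree at least 5 involved in G (as a section) has degree at most p + 4, or at most p + 6 = 8 when p = 2. -/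
theorem result {G : Type*} [Group G] [Finite G] (p : ℕ) [Fact p.Prime] (hp3 : p ≠ 3)
    (h : ∀ x : G, x ∉ Subgroup.center G → (∃ k : ℕ, orderOf x = p ^ k) → Group.IsSolvable (Subgroup.centralizer ({x} : Set G)))
    (d : ℕ) (hd : 5 ≤ d) (hinv : Cfsg.Involves (alternatingGroup (Fin d)) G) :
    d ≤ p + 4 + (if p = 2 then 2 else 0) := by
  by_contra hlt
  push Not at hlt
  by_cases h2 : p = 2
  · subst h2
    obtain ⟨H, ⟨D⟩⟩ := exists_cover 2 h (m := 9) (d := d) (by simp at hlt; omega) hinv
    exact D.false_two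
  · have h2le := (Fact.out : p.Prime).two_le
    have h4 : p ≠ 4 := fun h4 => by
      have := (Fact.out : p.Prime)
      rw [h4] at this
      norm_num at this
    obtain ⟨H, ⟨D⟩⟩ := exists_cover p h (m := p + 5) (d := d) (by simp [h2] at hlt; omega) hinv
    exact D.false_odd (by omega)

end Cfsg.Agent.S4100
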