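import Cfsg.Statements.S4105
import Cfsg.Agent.Lib.PiClasses.Main

set_option autoImplicit false
open Cfsg

namespace Cfsg.Agent.S4105

/-- Let G be a finite group, π a set of primes with least member p, m the π-part of the order of G and k the number of conjugacy classes of G consisting of π-elements. If k > m·(p² + p − 1)/p³, then G has an abelian Hall π-subgroup (an abelian subgroup of order m). -/
theorem result {G : Type*} [Group G] [Finite G]
    (π : Set ℕ) (hπ : ∀ q ∈ π, q.Prime) (p : ℕ) (hp : p ∈ π) (hmin : ∀ q ∈ π, p ≤ q)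
    (m : ℕ) (hm : m ∣ Nat.card G) (hmπ : ∀ q : ℕ, q.Prime → q ∣ m → q ∈ π)
    (hm' : ∀ q ∈ π, ¬ q ∣ Nat.card G / m)
    (k : ℕ) (hk : k = Nat.card {C : ConjClasses G // ∀ q : ℕ, q.Prime → (∃ g : G, ConjClasses.mk g = C ∧ q ∣ orderOf g) → q ∈ π})
    (hmany : m * (p ^ 2 + p - 1) < p ^ 3 * k) :
    ∃ H : Subgroup G, Nat.card H = m ∧ IsMulCommutative H := by
  obtain ⟨π', hsub, hpπ', hpart, hcount⟩ := Cfsg.Agent.PiClasses.exists_finset π hp hm hmπ hm'
  have hk' : k = Cfsg.Agent.ManyClasses.kpi π' G := hk.trans hcount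
  have hπ' : ∀ s ∈ π', s.Prime := fun s hs => hπ s (hsub s hs)
  haveI := Fact.mk (hπ p hp)
  have hp2 := (hπ p hp).two_le
  have h1 : m * p ^ 2 ≤ m * (p ^ 2 + p - 1) := Nat.mul_le_mul_left _ (by omega)
  have h2 : p ^ 2 * m < p ^ 2 * (p * k) := by
    calc p ^ 2 * m = m * p ^ 2 := Nat.mul_comm _ _
      _ < p ^ 3 * k := h1.trans_lt hmany
      _ = _ := by ring
  obtain ⟨H, hH, -, -, hab⟩ := Cfsg.Agent.PiClasses.exists_hall π' hπ' p hpπ'
    (fun s hs => hmin s (hsub s hs)) G (by rw [hpart, ← hk']; exact Nat.lt_of_mul_lt_mul_left h2)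
  exact ⟨H, hH.trans hpart, hab fun P =>
    Cfsg.Agent.PiClasses.sylow_comm_of_many hπ' hpπ' (by rw [hpart, ← hk']; exact hmany) P⟩

end Cfsg.Agent.S4105
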