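import Cfsg.Statements.S4106
import Cfsg.Agent.Lib.FGStruct.Counting

set_option autoImplicit false
set_option linter.style.haveILetI false

set_option autoImplicit false
open Cfsg

namespace Cfsg.Agent.S4106

/-- Let G be a finite group, π a set of primes and m the π-part of the order of G. Then the number of conjugacy classes of G consisting of π-elements (elements whose order is divisible only by primes in π) is at most m. -/
theorem result {G : Type*} [Group G] [Finite G]
    (π : Set ℕ) (hπ : ∀ q ∈ π, q.Prime)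
    (m : ℕ) (hm : m ∣ Nat.card G) (hmπ : ∀ q : ℕ, q.Prime → q ∣ m → q ∈ π)
    (hm' : ∀ q ∈ π, ¬ q ∣ Nat.card G / m) :
    Nat.card {C : ConjClasses G // ∀ q : ℕ, q.Prime → (∃ g : G, ConjClasses.mk g = C ∧ q ∣ orderOf g) → q ∈ π} ≤ m := by
  classical
  haveI : Finite (ConjClasses G) := Finite.of_surjective _ ConjClasses.mk_surjective
  let S := (Nat.card G).primeFactors.filter (fun q => q ∈ π)
  have hS : ∀ q ∈ S, q.Prime := fun q hq => Nat.prime_of_mem_primeFactors (Finset.mem_filter.1 hq).1
  refine le_trans ?_ ((Cfsg.Agent.Counting.card_classes_le S hS G).trans ?_)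
  · refine Nat.card_le_card_of_injective (fun C => ⟨C.1, ?_⟩) ?_
    · obtain ⟨g, hg⟩ := ConjClasses.mk_surjective C.1
      exact ⟨g, hg, fun q hq hqg => Finset.mem_filter.2
        ⟨Nat.mem_primeFactors.2 ⟨hq, hqg.trans (orderOf_dvd_natCard g), Nat.card_pos.ne'⟩,
          C.2 q hq ⟨g, hg, hqg⟩⟩⟩
    · intro C C' h
      exact Subtype.ext (Subtype.mk.inj h)
  · have hm0 : 0 < m := Nat.pos_of_dvd_of_pos hm Nat.card_pos
    refine Nat.le_of_dvd hm0 (Finset.prod_dvd_of_isRelPrime ?_ ?_)
    · intro a ha b hb hab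
      simp only [Function.onFun]
      exact Nat.coprime_iff_isRelPrime.1 (((Nat.coprime_primes (hS a ha) (hS b hb)).2 hab).pow _ _)
    · intro q hq
      have hk : q ^ (Nat.card G).factorization q ∣ m * (Nat.card G / m) := by
        rw [Nat.mul_div_cancel' hm]; exact Nat.ordProj_dvd _ _
      exact (((hS q hq).coprime_iff_not_dvd.2 (hm' q (Finset.mem_filter.1 hq).2)).pow_left
        _).dvd_of_dvd_mul_right hk

end Cfsg.Agent.S4106
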