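import Cfsg.Statements.S4108
import Cfsg.Agent.Lib.FGStruct.FrobeniusData
import Cfsg.Agent.Lib.Transfer.Basic
import Mathlib.Tactic.Linarith

set_option autoImplicit false
set_option linter.style.haveILetI false

set_option autoImplicit false
open Cfsg

open scoped Pointwise

namespace Cfsg.Agent.S4108

/-- Let G be a finite group, p a prime and N a proper non-trivial normal p-subgroup such that for every x outside N all elements of the coset xN have the same order as x. Then every non-trivial subgroup H of G of order prime to p acts fixed-point-freely on N: NH is a Frobenius group with complement H and kernel N. -/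
theorem result {G : Type*} [Group G] [Finite G] (N : Subgroup G) [N.Normal] (hN1 : N ≠ ⊥) (hN2 : N ≠ ⊤)
    (heq : ∀ x : G, x ∉ N → ∀ n ∈ N, orderOf (x * n) = orderOf x)
    (p : ℕ) [Fact p.Prime] (hNp : IsPGroup p N) :
    ∀ H : Subgroup G, H ≠ ⊥ → (Nat.card H).Coprime p →
      Cfsg.IsFrobeniusComplement (H.subgroupOf (N ⊔ H)) ∧ Cfsg.frobeniusKernel (H.subgroupOf (N ⊔ H)) = (N.subgroupOf (N ⊔ H) : Set ↥(N ⊔ H)) := by
  intro H hH hHp
  classical
  have hp : p.Prime := Fact.out
  set U := N ⊔ H with hU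
  have hNU : N ≤ U := le_sup_left
  have hHU : H ≤ U := le_sup_right
  have hdis : N ⊓ H = ⊥ := by
    rw [Subgroup.eq_bot_iff_forall]
    intro x hx
    exact Cfsg.Agent.PBasic.eq_one_of_isPGroup_of_coprime hNp hx.1
      (Cfsg.Agent.PBasic.coprime_orderOf_of_mem hHp hx.2)
  -- elements of `H` act fixed-point-freely
  have hfpf : ∀ h ∈ H, h ≠ 1 → ∀ n ∈ N, h * n = n * h → n = 1 := by
    intro h hh hh1 n hn hc
    by_contra hn1
    have hhN : h ∉ N := fun hN => hh1 (by
      have : h ∈ N ⊓ H := ⟨hN, hh⟩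
      rwa [hdis, Subgroup.mem_bot] at this)
    obtain ⟨j, hj⟩ := IsPGroup.iff_orderOf.1 hNp ⟨n, hn⟩
    rw [Subgroup.orderOf_mk] at hj
    have h1 := (show Commute h n from hc).orderOf_mul_eq_mul_orderOf_of_coprime (by
      rw [hj]; exact (Cfsg.Agent.PBasic.coprime_orderOf_of_mem hHp hh).pow_right j)
    rw [heq h hhN n hn] at h1
    have h2 : orderOf n = 1 := by
      have := orderOf_pos h
      nlinarith
    exact hn1 (orderOf_eq_one_iff.1 h2)
  have hD : Cfsg.Agent.FrobData.FData (N.subgroupOf U) (H.subgroupOf U) := by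
    refine ⟨Subgroup.normal_subgroupOf, ?_, ?_, ?_, ?_⟩
    · refine Subgroup.isComplement'_of_disjoint_and_mul_eq_univ ?_ ?_
      · rw [disjoint_iff, Subgroup.eq_bot_iff_forall]
        intro x hx
        have : (x : G) ∈ N ⊓ H := ⟨hx.1, hx.2⟩
        rw [hdis, Subgroup.mem_bot] at this
        exact Subtype.ext this
      · rw [Set.eq_univ_iff_forall]
        intro x
        obtain ⟨n, hn, h, hh, he⟩ := Subgroup.mem_sup_of_normal_left.1 (x.2 : (x : G) ∈ N ⊔ H)
        exact ⟨⟨n, hNU hn⟩, hn, ⟨h, hHU hh⟩, hh, Subtype.ext he⟩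
    · intro g hg y hy hgy
      obtain ⟨n, hn, h, hh, he⟩ := Subgroup.mem_sup_of_normal_left.1 (g.2 : (g : G) ∈ N ⊔ H)
      have hy' : h * y * h⁻¹ ∈ H := H.mul_mem (H.mul_mem hh hy) (H.inv_mem hh)
      have hgy' : n * (h * y * h⁻¹) * n⁻¹ ∈ H := by
        have : ((g * y * g⁻¹ : U) : G) ∈ H := hgy
        simpa [← he, mul_assoc] using this
      have hcomm : n * (h * y * h⁻¹) * n⁻¹ * (h * y * h⁻¹)⁻¹ ∈ N ⊓ H :=
        ⟨by
          rw [show n * (h * y * h⁻¹) * n⁻¹ * (h * y * h⁻¹)⁻¹ =
            n * ((h * y * h⁻¹) * n⁻¹ * (h * y * h⁻¹)⁻¹) by group]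
          exact N.mul_mem hn (Subgroup.Normal.conj_mem inferInstance _ (N.inv_mem hn) _),
          H.mul_mem hgy' (H.inv_mem hy')⟩
      rw [hdis, Subgroup.mem_bot, mul_inv_eq_one] at hcomm
      by_contra hy1
      have hy1' : h * y * h⁻¹ ≠ 1 := fun e => hy1 (Subtype.ext (conj_eq_one_iff.1 e))
      have hn1 := hfpf _ hy' hy1' n hn (mul_inv_eq_iff_eq_mul.1 hcomm).symm
      refine hg ?_
      show (g : G) ∈ H
      rw [← he, hn1, one_mul]
      exact hh
    · intro h; exact hN1 (by
        rw [Subgroup.eq_bot_iff_forall]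
        intro x hx
        have := (Subgroup.eq_bot_iff_forall _).1 h ⟨x, hNU hx⟩ hx
        exact congrArg Subtype.val this)
    · intro h; exact hH (by
        rw [Subgroup.eq_bot_iff_forall]
        intro x hx
        have := (Subgroup.eq_bot_iff_forall _).1 h ⟨x, hHU hx⟩ hx
        exact congrArg Subtype.val this)
  refine ⟨hD.isFrobeniusComplement, ?_⟩
  ext x
  constructor
  · rintro (rfl | hx)
    · exact Subgroup.one_mem _
    · rcases hD.decomp x with hK | ⟨k, hk, a, ha, ha1, rfl⟩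
      · exact hK
      · exact absurd ⟨a, ha, rfl⟩ (hx k)
  · intro hx
    by_cases hx1 : x = 1
    · exact Or.inl hx1
    · refine Or.inr fun g hg => hx1 ?_
      rw [Subgroup.mem_pointwise_smul_iff_inv_smul_mem] at hg
      have h1 : g⁻¹ * x * g ∈ N.subgroupOf U := by
        simpa using hD.normal.conj_mem x hx g⁻¹
      have h2 := hD.eq_one_of_mem h1 (by simpa [MulAut.smul_def, mul_assoc] using hg)
      exact conj_eq_one_iff.1 (show g⁻¹ * x * g⁻¹⁻¹ = 1 by rw [inv_inv]; exact h2)

end Cfsg.Agent.S4108
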