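import Cfsg.Statements.S4112
import Mathlib.GroupTheory.Sylow
import Mathlib.GroupTheory.SchurZassenhaus
import Mathlib.Data.Int.GCD
import Mathlib.Tactic.Linarith

set_option autoImplicit false
set_option linter.style.haveILetI false

set_option autoImplicit false
open Cfsg

namespace Cfsg.Agent.S4112

/-- Let G be a finite group and M ≤ N non-trivial proper normal subgroups such that for every g outside N the conjugacy class of g is a union of cosets of M (equivalently gm is conjugate to g for every m ∈ M). Then (1) and (2) below are equivalent, and they imply (3): (1) every g outside N acts fixed-point-freely on M, that is C_G(x) ≤ N for every x ∈ M, x ≠ 1; (2) the index of N in G is coprime to the order of M; (3) there is a subgroup H of G with HN = G and H ∩ M = 1. -/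
theorem result {G : Type*} [Group G] [Finite G] (N M : Subgroup G) [N.Normal] [M.Normal] (hMN : M ≤ N) (hM1 : M ≠ ⊥) (hN2 : N ≠ ⊤)
    (hcam : ∀ g : G, g ∉ N → ∀ m ∈ M, ∃ x : G, x * g * x⁻¹ = g * m) :
    ((∀ x ∈ M, x ≠ 1 → Subgroup.centralizer ({x} : Set G) ≤ N) ↔ N.index.Coprime (Nat.card M)) ∧
    ((∀ x ∈ M, x ≠ 1 → Subgroup.centralizer ({x} : Set G) ≤ N) → ∃ H : Subgroup G, H ⊔ N = ⊤ ∧ H ⊓ M = ⊥) := by
  classical
  have h12 : (∀ x ∈ M, x ≠ 1 → Subgroup.centralizer ({x} : Set G) ≤ N) → N.index.Coprime (Nat.card M) := by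
    intro hfix
    refine Nat.coprime_of_dvd fun r hr hrI hrM => ?_
    haveI := Fact.mk hr
    obtain ⟨R⟩ : Nonempty (Sylow r G) := inferInstance
    have hRN : ¬ (R : Subgroup G) ≤ N := fun hle =>
      Sylow.not_dvd_index R (hrI.trans (Subgroup.index_dvd_of_le hle))
    obtain ⟨g, hgR, hgN⟩ := SetLike.not_le_iff_exists.1 hRN
    obtain ⟨i, hi⟩ := R.isPGroup' ⟨g, hgR⟩
    have hP : IsPGroup r (Subgroup.zpowers g) := IsPGroup.of_card_dvd_pow (n := i) (by
      rw [Nat.card_zpowers]
      exact orderOf_dvd_of_pow_eq_one (by simpa using congrArg Subtype.val hi))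
    letI : MulAction (Subgroup.zpowers g) M :=
      MulAction.compHom M ((MulAut.conjNormal (H := M)).comp (Subgroup.zpowers g).subtype)
    obtain ⟨x, hx, hx1⟩ := hP.exists_fixed_point_of_prime_dvd_card_of_fixed_point M hrM (a := 1)
      (fun h => map_one (MulAut.conjNormal (H := M) (h : G)))
    have hc : g * (x : G) * g⁻¹ = x := congrArg Subtype.val (hx ⟨g, Subgroup.mem_zpowers g⟩)
    refine hgN (hfix x x.2 (fun h => hx1 (Subtype.ext h.symm)) ?_)
    rw [Subgroup.mem_centralizer_iff]
    intro z hz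
    rw [Set.mem_singleton_iff.1 hz]
    exact (mul_inv_eq_iff_eq_mul.1 hc).symm
  have h21 : N.index.Coprime (Nat.card M) → ∀ x ∈ M, x ≠ 1 → Subgroup.centralizer ({x} : Set G) ≤ N := by
    intro hcop x hx hx1 g hg
    by_contra hgN
    set n := Nat.card G
    set m := Nat.card M
    set K := Nat.gcd n (m ^ n) with hK
    have hn0 : n ≠ 0 := Nat.card_pos.ne'
    have hKn : K ∣ n := Nat.gcd_dvd_left _ _
    have hKI : Nat.Coprime N.index K :=
      Nat.Coprime.coprime_dvd_right (Nat.gcd_dvd_right _ _) (hcop.pow_right n)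
    have hgI : g ^ N.index ∈ N := Subgroup.pow_index_mem N g
    have hgK : g ^ K ∉ N := by
      intro h
      refine hgN ?_
      have h1 : (QuotientGroup.mk' N g) ^ N.index = 1 := by
        rw [← map_pow]; exact (QuotientGroup.eq_one_iff _).2 hgI
      have h2 : (QuotientGroup.mk' N g) ^ K = 1 := by
        rw [← map_pow]; exact (QuotientGroup.eq_one_iff _).2 h
      have h3 := pow_gcd_eq_one.2 ⟨h1, h2⟩
      rw [hKI.gcd_eq_one, pow_one] at h3
      exact (QuotientGroup.eq_one_iff _).1 h3
    have hordK : Nat.Coprime (orderOf (g ^ K)) m := by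
      have hd : orderOf (g ^ K) ∣ n / K := orderOf_dvd_of_pow_eq_one (by
        rw [← pow_mul, Nat.mul_div_cancel' hKn]; exact pow_card_eq_one')
      refine Nat.Coprime.coprime_dvd_left hd (Nat.coprime_of_dvd fun r hr h1 h2 => ?_)
      have hv : r ^ n.factorization r ∣ K :=
        Nat.dvd_gcd (Nat.ordProj_dvd _ _)
          ((Nat.pow_dvd_pow r (Nat.factorization_lt r hn0).le).trans (pow_dvd_pow_of_dvd h2 _))
      have hbad : r ^ (n.factorization r + 1) ∣ n := by
        rw [pow_succ]
        exact (Nat.mul_dvd_mul hv h1).trans (dvd_of_eq (Nat.mul_div_cancel' hKn))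
      have := (hr.pow_dvd_iff_le_factorization hn0).1 hbad
      omega
    obtain ⟨y, hy⟩ := hcam (g ^ K) hgK x hx
    have hc : Commute (g ^ K) x :=
      ((show Commute g x from (Subgroup.mem_centralizer_iff.1 hg x rfl).symm)).pow_left K
    have h4 := hc.orderOf_mul_eq_mul_orderOf_of_coprime
      (hordK.coprime_dvd_right (Subgroup.orderOf_dvd_natCard M hx))
    rw [← hy, show y * g ^ K * y⁻¹ = MulAut.conj y (g ^ K) from rfl, MulEquiv.orderOf_eq] at h4
    have h5 : orderOf x = 1 := by
      have := orderOf_pos (g ^ K)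
      nlinarith
    exact hx1 (orderOf_eq_one_iff.1 h5)
  refine ⟨⟨h12, h21⟩, fun hfix => ?_⟩
  -- a minimal supplement of `N`
  obtain ⟨H, -, hH⟩ := Finite.exists_le_minimal (p := fun H : Subgroup G => H ⊔ N = ⊤)
    (a := (⊤ : Subgroup G)) (top_sup_eq N)
  refine ⟨H, hH.1, ?_⟩
  have hcop := h12 hfix
  set K := N.subgroupOf H with hK
  have hKfr : ∀ L : Subgroup H, L ⊔ K = ⊤ → L = ⊤ := by
    intro L hL
    have hsup : L.map H.subtype ⊔ N = ⊤ := by
      rw [eq_top_iff, ← hH.1]
      refine sup_le (fun h hh => ?_) le_sup_right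
      have h' : (⟨h, hh⟩ : H) ∈ L ⊔ K := hL ▸ Subgroup.mem_top _
      obtain ⟨l, hl, k, hk, hlk⟩ := Subgroup.mem_sup_of_normal_right.1 h'
      rw [show h = (l : G) * (k : G) from (congrArg Subtype.val hlk).symm]
      exact Subgroup.mul_mem_sup (Subgroup.mem_map_of_mem _ hl) hk
    have hle := hH.2 hsup (Subgroup.map_subtype_le L)
    rw [eq_top_iff]
    intro h _
    obtain ⟨l, hl, hlh⟩ := hle h.2
    exact (Subtype.ext hlh : l = h) ▸ hl
  have hidx : K.index ∣ N.index := by
    show N.relIndex H ∣ N.index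
    exact Subgroup.relIndex_dvd_index_of_normal N H
  rw [Subgroup.eq_bot_iff_forall]
  intro x hx
  by_contra hx1
  obtain ⟨r, hr, hrx⟩ := Nat.exists_prime_and_dvd (mt orderOf_eq_one_iff.1 hx1)
  haveI := Fact.mk hr
  have hrM : r ∣ Nat.card M := hrx.trans (Subgroup.orderOf_dvd_natCard M hx.2)
  have hrH : r ∣ Nat.card H := hrx.trans (Subgroup.orderOf_dvd_natCard H hx.1)
  have hrI : ¬ r ∣ K.index := fun h => hr.not_dvd_one (hcop ▸ Nat.dvd_gcd (h.trans hidx) hrM)
  obtain ⟨R⟩ : Nonempty (Sylow r H) := inferInstance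
  have hRK : (R : Subgroup H) ≤ K := by
    intro z hz
    obtain ⟨i, hi⟩ := R.isPGroup' ⟨z, hz⟩
    obtain ⟨j, hj⟩ := exists_pow_eq_self_of_coprime (x := z) (n := K.index)
      ((((hr.coprime_iff_not_dvd.2 hrI)).pow_left i).symm.coprime_dvd_right
        (orderOf_dvd_of_pow_eq_one (by simpa using congrArg Subtype.val hi)))
    rw [← hj]
    exact Subgroup.pow_mem _ (Subgroup.pow_index_mem K z) j
  -- `R` is normal in `H`
  have hRn : (R : Subgroup H).Normal := by
    rw [← Subgroup.normalizer_eq_top_iff]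
    refine hKfr _ ?_
    have := Sylow.normalizer_sup_eq_top (R.subtype hRK)
    rwa [show ((R.subtype hRK : Sylow r K) : Subgroup K).map K.subtype = (R : Subgroup H) from
      Subgroup.map_subgroupOf_eq_of_le hRK] at this
  haveI := hRn
  have hcopR : Nat.Coprime (Nat.card (R : Subgroup H)) (R : Subgroup H).index := by
    obtain ⟨i, hi⟩ := IsPGroup.iff_card.1 R.isPGroup'
    rw [hi]
    exact (hr.coprime_iff_not_dvd.2 (Sylow.not_dvd_index R)).pow_left _
  obtain ⟨L, hL⟩ := Subgroup.exists_left_complement'_of_coprime hcopR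
  have hLtop : L = ⊤ := hKfr L (top_le_iff.1 (hL.sup_eq_top ▸ sup_le_sup_left hRK L))
  rw [hLtop] at hL
  have hbot : (R : Subgroup H) = ⊥ := Subgroup.isComplement'_top_left.1 hL
  refine Sylow.not_dvd_index R ?_
  rw [hbot, Subgroup.index_bot]
  exact hrH

end Cfsg.Agent.S4112
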