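import Cfsg.Statements.S4113
import Mathlib.Algebra.Group.Subgroup.Pointwise

set_option autoImplicit false
set_option linter.style.haveILetI false

set_option autoImplicit false
open Cfsg

namespace Cfsg.Agent.S4113

/-- Let G be a finite group, M ≤ N non-trivial proper normal subgroups, and H a subgroup with HM = G and H ∩ M = 1. Then every element of G outside N acts fixed-point-freely on M (C_G(x) ≤ N for every x ∈ M, x ≠ 1) if and only if H ∩ gHg⁻¹ ≤ H ∩ N for every g outside H, with H proper and non-trivial and H ∩ N proper in H. -/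
theorem result {G : Type*} [Group G] [Finite G] (N M : Subgroup G) [N.Normal] [M.Normal] (hMN : M ≤ N) (hM1 : M ≠ ⊥) (hN2 : N ≠ ⊤)
    (H : Subgroup G) (hHM : H ⊔ M = ⊤) (hHM' : H ⊓ M = ⊥) :
    (∀ x ∈ M, x ≠ 1 → Subgroup.centralizer ({x} : Set G) ≤ N) ↔
      (H ≠ ⊥ ∧ H ≠ ⊤ ∧ H ⊓ N < H ∧ ∀ g : G, g ∉ H → H ⊓ H.map (MulAut.conj g).toMonoidHom ≤ N) := by
  have hdec : ∀ g : G, ∃ m ∈ M, ∃ h ∈ H, g = m * h := by
    intro g
    have hg : g ∈ M ⊔ H := by rw [sup_comm, hHM]; exact Subgroup.mem_top g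
    obtain ⟨m, hm, h, hh, rfl⟩ := Subgroup.mem_sup_of_normal_left.1 hg
    exact ⟨m, hm, h, hh, rfl⟩
  constructor
  · intro hfix
    have hMtop : M ≠ ⊤ := fun h => hN2 (top_le_iff.1 (h ▸ hMN))
    refine ⟨?_, ?_, lt_of_le_of_ne inf_le_left ?_, ?_⟩
    · intro h
      rw [h, bot_sup_eq] at hHM
      exact hMtop hHM
    · intro h
      rw [h, top_inf_eq] at hHM'
      exact hM1 hHM'
    · intro h
      refine hN2 (top_le_iff.1 ?_)
      rw [← hHM]
      exact sup_le (h ▸ inf_le_right) hMN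
    · intro g hg y hy
      obtain ⟨hyH, hyc⟩ := Subgroup.mem_inf.1 hy
      obtain ⟨z, hz, rfl⟩ := Subgroup.mem_map.1 hyc
      obtain ⟨m, hm, h, hh, rfl⟩ := hdec g
      have hm1 : m ≠ 1 := fun h1 => hg (by simpa [h1] using hh)
      simp only [MulEquiv.coe_toMonoidHom, MulAut.conj_apply] at hyH ⊢
      set k := h * z * h⁻¹ with hk
      have hkH : k ∈ H := H.mul_mem (H.mul_mem hh hz) (H.inv_mem hh)
      have he : m * h * z * (m * h)⁻¹ = m * k * m⁻¹ := by rw [hk]; group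
      rw [he] at hyH ⊢
      have h1 : m * k * m⁻¹ * k⁻¹ ∈ H ⊓ M :=
        Subgroup.mem_inf.2 ⟨H.mul_mem hyH (H.inv_mem hkH), by
          rw [mul_assoc, mul_assoc, ← mul_assoc k]
          exact M.mul_mem hm (Subgroup.Normal.conj_mem inferInstance _ (M.inv_mem hm) k)⟩
      rw [hHM', Subgroup.mem_bot, mul_inv_eq_one] at h1
      rw [h1]
      refine hfix m hm hm1 ?_
      rw [Subgroup.mem_centralizer_iff]
      intro x hx
      rw [Set.mem_singleton_iff.1 hx]
      exact mul_inv_eq_iff_eq_mul.1 h1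
  · rintro ⟨-, -, -, hint⟩ x hx hx1 g hg
    by_contra hgN
    rw [Subgroup.mem_centralizer_iff] at hg
    have hgx : x * g = g * x := hg x rfl
    obtain ⟨m0, hm0, h, hh, rfl⟩ := hdec g
    have hhN : h ∉ N := fun h' => hgN (N.mul_mem (hMN hm0) h')
    -- `h` centralizes no non-trivial element of `M`
    have hfree : ∀ m ∈ M, m * h = h * m → m = 1 := by
      intro m hm hc
      by_contra hm1
      have hmH : m ∉ H := fun h' => hm1 (Subgroup.mem_bot.1 (hHM' ▸ Subgroup.mem_inf.2 ⟨h', hm⟩))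
      refine hhN (hint m hmH (Subgroup.mem_inf.2 ⟨hh, Subgroup.mem_map.2 ⟨h, hh, ?_⟩⟩))
      simp [hc]
    have hinj : Function.Injective (fun m : M =>
        (⟨(m : G) * (h * (m : G)⁻¹ * h⁻¹), M.mul_mem m.2
          (Subgroup.Normal.conj_mem inferInstance _ (M.inv_mem m.2) h)⟩ : M)) := by
      intro a b hab
      have h' : (a : G) * (h * (a : G)⁻¹ * h⁻¹) = (b : G) * (h * (b : G)⁻¹ * h⁻¹) :=
        congrArg Subtype.val hab
      have h2 : ((b : G)⁻¹ * a) * h = h * ((b : G)⁻¹ * a) := by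
        calc ((b : G)⁻¹ * a) * h = (b : G)⁻¹ * ((a : G) * (h * (a : G)⁻¹ * h⁻¹)) * h * a := by group
          _ = (b : G)⁻¹ * ((b : G) * (h * (b : G)⁻¹ * h⁻¹)) * h * a := by rw [h']
          _ = h * ((b : G)⁻¹ * a) := by group
      exact Subtype.ext (inv_mul_eq_one.1 (hfree _ (M.mul_mem (M.inv_mem b.2) a.2) h2)).symm
    obtain ⟨m, hm⟩ := Finite.surjective_of_injective hinj ⟨m0, hm0⟩
    have hm' : (m : G) * (h * (m : G)⁻¹ * h⁻¹) = m0 := congrArg Subtype.val hm
    have hconj : m0 * h = (m : G) * h * (m : G)⁻¹ := by rw [← hm']; group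
    rw [hconj] at hgx
    refine hx1 ?_
    have h3 := hfree ((m : G)⁻¹ * x * m) (M.mul_mem (M.mul_mem (M.inv_mem m.2) hx) m.2) (by
      calc (m : G)⁻¹ * x * m * h = (m : G)⁻¹ * (x * ((m : G) * h * (m : G)⁻¹)) * m := by group
        _ = (m : G)⁻¹ * (((m : G) * h * (m : G)⁻¹) * x) * m := by rw [hgx]
        _ = h * ((m : G)⁻¹ * x * m) := by group)
    calc x = (m : G) * ((m : G)⁻¹ * x * m) * (m : G)⁻¹ := by group
      _ = 1 := by rw [h3]; group

end Cfsg.Agent.S4113
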