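import Cfsg.Statements.S4117
import Mathlib
import Cfsg.Agent.Lib.Solvable.Coprime

set_option autoImplicit false
set_option linter.style.haveILetI false

namespace Cfsg.Agent.S4117

open scoped commutatorElement
open Cfsg.Agent

variable {Γ : Type*} [Group Γ] [Finite Γ]

lemma conj_comm_on_cyclic {D : Subgroup Γ} (hD : IsCyclic D) {x y : Γ}
    (hx : x ∈ Subgroup.normalizer (D : Set Γ)) (hy : y ∈ Subgroup.normalizer (D : Set Γ))
    {d : Γ} (hd : d ∈ D) : x * (y * d * y⁻¹) * x⁻¹ = y * (x * d * x⁻¹) * y⁻¹ := by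
  obtain ⟨⟨g, hg⟩, hgen⟩ := hD.exists_generator
  have hz : ∀ e ∈ D, ∃ i : ℤ, g ^ i = e := fun e he => by
    obtain ⟨i, hi⟩ := hgen ⟨e, he⟩
    exact ⟨i, congrArg Subtype.val hi⟩
  obtain ⟨a, ha⟩ := hz _ (CoprimeAct.conj_mem_of_mem_normalizer hx hg)
  obtain ⟨b, hb⟩ := hz _ (CoprimeAct.conj_mem_of_mem_normalizer hy hg)
  obtain ⟨m, rfl⟩ := hz d hd
  simp only [← conj_zpow, ← hb, ← ha, ← zpow_mul]
  congr 1
  ring

lemma isMulCommutative_of_cyclic_central {M D : Subgroup Γ} {H : Type*} [Group H] [IsCyclic H]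
    (f : M →* H) (hker : ∀ m : M, f m = 1 → (m : Γ) ∈ D)
    (hcent : M ≤ Subgroup.centralizer (D : Set Γ)) : ∀ a b : M, a * b = b * a := by
  have h : f.ker ≤ Subgroup.center M := by
    intro m hm
    rw [Subgroup.mem_center_iff]
    intro y
    exact Subtype.ext (Subgroup.mem_centralizer_iff.1 (hcent y.2) (m : Γ) (hker m hm)).symm
  exact fun a b => (f.isMulCommutative_of_isCyclic_of_ker_le_center h).is_comm.comm a b

theorem zgroup_coprime {A K : Subgroup Γ} [IsZGroup K] (hAK : A ≤ Subgroup.normalizer (K : Set Γ))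
    (hcop : (Nat.card A).Coprime (Nat.card K)) :
    IsCyclic (⁅K, A⁆ : Subgroup Γ) ∧
      ⁅K, A⁆ ⊓ (K ⊓ Subgroup.centralizer (A : Set Γ)) = ⊥ := by
  have hsolv : Group.IsSolvable A ∨ Group.IsSolvable K := Or.inr inferInstance
  set D := ⁅K, K⁆ with hD
  have hDeq : (commutator K).map K.subtype = D := Subgroup.map_subtype_commutator K
  haveI := IsZGroup.isCyclic_commutator (G := K)
  have hDcyc : IsCyclic D := hDeq ▸ isCyclic_of_surjective
    ((commutator K).equivMapOfInjective K.subtype K.subtype_injective).toMonoidHom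
    (MulEquiv.surjective _)
  have hDK : D ≤ K := hDeq ▸ Subgroup.map_subtype_le _
  have hKD : K ≤ Subgroup.normalizer (D : Set Γ) := Subgroup.normalizer_commutator_ge_left K K
  have hAD : A ≤ Subgroup.normalizer (D : Set Γ) := by
    have key : ∀ x ∈ A, ∀ d ∈ D, x * d * x⁻¹ ∈ D := by
      intro x hx d hd
      have h1 : x * d * x⁻¹ ∈ D.map (MulAut.conj x).toMonoidHom := ⟨d, hd, rfl⟩
      rw [hD, Subgroup.map_commutator] at h1
      have h2 : K.map (MulAut.conj x).toMonoidHom ≤ K := by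
        rintro _ ⟨k, hk, rfl⟩
        exact CoprimeAct.conj_mem_of_mem_normalizer (hAK hx) hk
      exact Subgroup.commutator_mono h2 h2 h1
    intro x hx
    rw [Subgroup.mem_normalizer_iff]
    intro d
    refine ⟨key x hx d, fun h => ?_⟩
    simpa [mul_assoc] using key x⁻¹ (inv_mem hx) _ h
  set M := K ⊓ Subgroup.centralizer (D : Set Γ) with hM
  have hNM : ⁅K, A⁆ ≤ M := by
    rw [Subgroup.commutator_le]
    intro k hk a ha
    refine ⟨CoprimeAct.commutator_le_left hAK (Subgroup.commutator_mem_commutator hk ha), ?_⟩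
    show ⁅k, a⁆ ∈ Subgroup.centralizer (D : Set Γ)
    rw [Subgroup.mem_centralizer_iff]
    intro d hd
    have hcomm : ∀ x ∈ Subgroup.normalizer (D : Set Γ), ∀ y ∈ Subgroup.normalizer (D : Set Γ),
        ∀ e ∈ D, x * (y * e * y⁻¹) * x⁻¹ = y * (x * e * x⁻¹) * y⁻¹ :=
      fun x hx y hy e he => conj_comm_on_cyclic hDcyc hx hy he
    have hd' : (a * k)⁻¹ * d * (a * k) ∈ D := by
      simpa using CoprimeAct.conj_mem_of_mem_normalizer
        (inv_mem (mul_mem (hAD ha) (hKD hk))) hd
    have key := hcomm k (hKD hk) a (hAD ha) _ hd'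
    rw [commutatorElement_def]
    have h2 : a * (k * ((a * k)⁻¹ * d * (a * k)) * k⁻¹) * a⁻¹ = d := by group
    rw [h2] at key
    calc d * (k * a * k⁻¹ * a⁻¹)
        = (k * (a * ((a * k)⁻¹ * d * (a * k)) * a⁻¹) * k⁻¹) * (k * a * k⁻¹ * a⁻¹) := by rw [key]
      _ = k * a * k⁻¹ * a⁻¹ * d := by group
  have hAM : A ≤ Subgroup.normalizer (M : Set Γ) := by
    refine (le_inf hAK ?_).trans Subgroup.inf_normalizer_le_normalizer_inf
    refine hAD.trans ?_
    intro x hx
    rw [Subgroup.mem_normalizer_iff]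
    have : ∀ x ∈ Subgroup.normalizer (D : Set Γ), ∀ y ∈ Subgroup.centralizer (D : Set Γ),
        x * y * x⁻¹ ∈ Subgroup.centralizer (D : Set Γ) := by
      intro x hx y hy
      rw [Subgroup.mem_centralizer_iff]
      intro d hd
      have h := Subgroup.mem_centralizer_iff.1 hy _ (show x⁻¹ * d * x ∈ D by
        simpa using CoprimeAct.conj_mem_of_mem_normalizer (inv_mem hx) hd)
      calc d * (x * y * x⁻¹) = x * ((x⁻¹ * d * x) * y) * x⁻¹ := by group
        _ = x * (y * (x⁻¹ * d * x)) * x⁻¹ := by rw [h]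
        _ = x * y * x⁻¹ * d := by group
    intro y
    refine ⟨this x hx y, fun h => ?_⟩
    simpa [mul_assoc] using this x⁻¹ (inv_mem hx) _ h
  let f : M →* Abelianization K :=
    (Abelianization.of : K →* Abelianization K).comp (Subgroup.inclusion inf_le_left)
  have hMcomm : ∀ a b : M, a * b = b * a :=
    isMulCommutative_of_cyclic_central (D := D) f (fun m hm => by
      rw [← hDeq]
      refine ⟨Subgroup.inclusion inf_le_left m, ?_, rfl⟩
      rw [SetLike.mem_coe, ← Abelianization.ker_of K]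
      exact hm) inf_le_right
  haveI : IsMulCommutative M := ⟨⟨hMcomm⟩⟩
  haveI hZM : IsZGroup M :=
    IsZGroup.of_injective (f := Subgroup.inclusion (inf_le_left : M ≤ K))
      (Subgroup.inclusion_injective _)
  letI : CommGroup M := { (inferInstance : Group M) with mul_comm := hMcomm }
  haveI : Group.IsNilpotent M := CommGroup.isNilpotent
  haveI hMcyc : IsCyclic M := inferInstance
  have hcopM : (Nat.card A).Coprime (Nat.card M) :=
    hcop.coprime_dvd_right (Subgroup.card_dvd_of_le inf_le_left)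
  refine ⟨isCyclic_of_injective (Subgroup.inclusion hNM) (Subgroup.inclusion_injective _), ?_⟩
  rw [eq_bot_iff, ← CoprimeAct.centralizer_inf_commutator_eq_bot hAM hcopM]
  refine le_inf (le_inf (inf_le_left.trans hNM) (inf_le_right.trans inf_le_right)) ?_
  refine inf_le_left.trans ?_
  rw [← CoprimeAct.commutator_commutator hAK hcop hsolv]
  exact Subgroup.commutator_mono hNM le_rfl

omit [Finite Γ] in
/-- A normal cyclic subgroup `N` with trivial intersection with `C` in a group with cyclic Sylow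
subgroups has order prime to that of `C`. -/
lemma coprime_of_inf_eq_bot {G : Type*} [Group G] [Finite G] {N C : Subgroup G} [N.Normal]
    (hN : IsCyclic N) (hcyc : ∀ (p : ℕ) [Fact p.Prime] (P : Sylow p G), IsCyclic (P : Subgroup G))
    (hNC : N ⊓ C = ⊥) : (Nat.card C).Coprime (Nat.card N) := by
  classical
  refine Nat.coprime_of_dvd fun r hr hrC hrN => ?_
  haveI := Fact.mk hr
  obtain ⟨x, hx⟩ := exists_prime_orderOf_dvd_card' r hrC
  obtain ⟨y, hy⟩ := exists_prime_orderOf_dvd_card' r hrN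
  have uniq : ∀ (H : Subgroup G), IsCyclic H → ∀ u v : G, u ∈ H → v ∈ H → orderOf u = r →
      orderOf v = r → u ∈ Subgroup.zpowers v := by
    intro H hH u v hu hv hou hov
    haveI := Fintype.ofFinite H
    have h1 : (Finset.univ.filter fun z : H => z ^ r = 1).card ≤ r :=
      IsCyclic.card_pow_eq_one_le hr.pos
    set Z := Subgroup.zpowers (⟨v, hv⟩ : H)
    have hZ : Nat.card Z = r := by rw [Nat.card_zpowers, Subgroup.orderOf_mk, hov]
    have hsub : (Finset.univ.filter fun z : H => z ∈ Z) ⊆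
        Finset.univ.filter fun z : H => z ^ r = 1 := by
      intro z hz
      simp only [Finset.mem_filter, Finset.mem_univ, true_and] at hz ⊢
      rw [← hZ]
      exact congrArg Subtype.val (pow_card_eq_one' (x := (⟨z, hz⟩ : Z)))
    have heq := Finset.eq_of_subset_of_card_le hsub (by
      refine h1.trans (le_of_eq ?_)
      rw [← hZ, ← Fintype.card_subtype, Nat.card_eq_fintype_card])
    have hmem : (⟨u, hu⟩ : H) ∈ Z := by
      have : (⟨u, hu⟩ : H) ∈ Finset.univ.filter fun z : H => z ^ r = 1 := by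
        simp only [Finset.mem_filter, Finset.mem_univ, true_and]
        exact Subtype.ext (by simpa [← hou] using pow_orderOf_eq_one u)
      rw [← heq] at this
      exact (Finset.mem_filter.1 this).2
    obtain ⟨i, hi⟩ := hmem
    exact ⟨i, congrArg Subtype.val hi⟩
  have hxo : orderOf (x : G) = r := (Subgroup.orderOf_coe x).trans hx
  have hyo : orderOf (y : G) = r := (Subgroup.orderOf_coe y).trans hy
  have hYn : (Subgroup.zpowers (y : G)).Normal := by
    refine ⟨fun z hz g => ?_⟩
    obtain ⟨i, rfl⟩ := hz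
    rw [← conj_zpow]
    refine Subgroup.zpow_mem _ (uniq N hN _ _ (Subgroup.Normal.conj_mem inferInstance _ y.2 g) y.2 ?_ hyo) i
    rw [show g * (y : G) * g⁻¹ = MulAut.conj g (y : G) from rfl, MulEquiv.orderOf_eq, hyo]
  obtain ⟨Q, hQ⟩ := (IsPGroup.of_card (n := 1)
    (by rw [Nat.card_zpowers, hxo, pow_one]) : IsPGroup r (Subgroup.zpowers (x : G))).exists_le_sylow
  have hyQ : (y : G) ∈ (Q : Subgroup G) :=
    (IsPGroup.of_card (n := 1) (by rw [Nat.card_zpowers, hyo, pow_one]) :
      IsPGroup r (Subgroup.zpowers (y : G))).le_sylow_of_normal Q (Subgroup.mem_zpowers _)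
  have hxN : (x : G) ∈ N := (Subgroup.zpowers_le.2 y.2)
    (uniq _ (hcyc r Q) _ _ (hQ (Subgroup.mem_zpowers _)) hyQ hxo hyo)
  have h1 : (x : G) = 1 := by
    rw [← Subgroup.mem_bot, ← hNC]
    exact ⟨hxN, x.2⟩
  rw [h1, orderOf_one] at hxo
  exact hr.one_lt.ne hxo

end Cfsg.Agent.S4117


set_option autoImplicit false
open Cfsg

namespace Cfsg.Agent.S4117

/-- Let A be a finite group acting on the finite group G by automorphisms with the orders of A and G coprime, and suppose every Sylow subgroup of G is cyclic. Then the fixed-point subgroup C_G(A) is a Hall subgroup of G (its order is coprime to its index), the subgroup [G, A] generated by the elements g⁻¹·a(g) is cyclic and normal with [G, A] ∩ C_G(A) = 1 and [G, A]·C_G(A) = G. -/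
theorem result {G A : Type*} [Group G] [Finite G] [Group A] [Finite A]
    [MulDistribMulAction A G] (hcop : (Nat.card A).Coprime (Nat.card G))
    (hcyc : ∀ (p : ℕ) [Fact p.Prime] (P : Sylow p G), IsCyclic (P : Subgroup G)) :
    (Nat.card (MulAction.fixedPoints A G : Set G)).Coprime (Nat.card G / Nat.card (MulAction.fixedPoints A G : Set G)) ∧
    IsCyclic (Subgroup.closure {y : G | ∃ (a : A) (g : G), y = g⁻¹ * a • g}) ∧
    (Subgroup.closure {y : G | ∃ (a : A) (g : G), y = g⁻¹ * a • g}).Normal ∧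
    (Subgroup.closure {y : G | ∃ (a : A) (g : G), y = g⁻¹ * a • g} : Set G) ∩ MulAction.fixedPoints A G = {1} ∧
    Subgroup.closure {y : G | ∃ (a : A) (g : G), y = g⁻¹ * a • g} ⊔ Subgroup.closure (MulAction.fixedPoints A G) = ⊤ := by
  classical
  let φ : A →* MulAut G := MulDistribMulAction.toMulAut A G
  haveI : Finite (G ⋊[φ] A) := Finite.of_injective (fun w : G ⋊[φ] A => (w.left, w.right))
    fun a b h => SemidirectProduct.ext (congrArg Prod.fst h) (congrArg Prod.snd h)
  set i : G →* G ⋊[φ] A := SemidirectProduct.inl with hi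
  set j : A →* G ⋊[φ] A := SemidirectProduct.inr with hj
  have hij : ∀ (a : A) (g : G), j a * i g * (j a)⁻¹ = i (a • g) := fun a g => by
    rw [hi, hj, ← map_inv]
    exact (SemidirectProduct.inl_aut a g).symm
  set K : Subgroup (G ⋊[φ] A) := i.range with hK
  set B : Subgroup (G ⋊[φ] A) := j.range with hB
  have hKn : K.Normal := by
    rw [hK, hi, SemidirectProduct.range_inl_eq_ker_rightHom]; infer_instance
  have hBK : B ≤ Subgroup.normalizer (K : Set (G ⋊[φ] A)) := Subgroup.le_normalizer_of_normal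
  have hinj : Function.Injective i := SemidirectProduct.inl_injective
  have hcK : Nat.card K = Nat.card G := (Nat.card_congr (MonoidHom.ofInjective hinj).toEquiv).symm
  have hcB : Nat.card B = Nat.card A :=
    (Nat.card_congr (MonoidHom.ofInjective (f := j) SemidirectProduct.inr_injective).toEquiv).symm
  have hcop' : (Nat.card B).Coprime (Nat.card K) := by rwa [hcK, hcB]
  haveI : IsZGroup G := ⟨fun p hp P => by haveI := Fact.mk hp; exact hcyc p P⟩
  haveI : IsZGroup K := IsZGroup.of_injective (f := (MonoidHom.ofInjective hinj).symm.toMonoidHom)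
    (MulEquiv.injective _)
  obtain ⟨hNcyc, hNC⟩ := S4117.zgroup_coprime hBK hcop'
  set N := Subgroup.closure {y : G | ∃ (a : A) (g : G), y = g⁻¹ * a • g} with hN
  have hmap : N.map i = ⁅K, B⁆ := by
    refine le_antisymm ?_ ?_
    · rw [hN, MonoidHom.map_closure, Subgroup.closure_le]
      rintro _ ⟨_, ⟨a, g, rfl⟩, rfl⟩
      have h : i (g⁻¹ * a • g) = i g⁻¹ * j a * (i g⁻¹)⁻¹ * (j a)⁻¹ := by
        rw [map_mul, ← hij, map_inv, inv_inv]; group
      rw [SetLike.mem_coe, h]
      exact Subgroup.commutator_mem_commutator (K.mem_carrier.2 ⟨g⁻¹, rfl⟩) ⟨a, rfl⟩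
    · rw [Subgroup.commutator_le]
      rintro _ ⟨g, rfl⟩ _ ⟨a, rfl⟩
      refine ⟨g * a • g⁻¹, Subgroup.subset_closure ⟨a, g⁻¹, by rw [inv_inv]⟩, ?_⟩
      rw [commutatorElement_def, map_mul, ← hij, map_inv]; group
  let C : Subgroup G :=
    { carrier := MulAction.fixedPoints A G
      mul_mem' := fun hx hy a => by rw [smul_mul', hx a, hy a]
      one_mem' := fun a => smul_one a
      inv_mem' := fun hx a => by rw [smul_inv', hx a] }
  have hCmem : ∀ g, i g ∈ Subgroup.centralizer (B : Set (G ⋊[φ] A)) ↔ g ∈ C := by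
    intro g
    rw [Subgroup.mem_centralizer_iff]
    constructor
    · intro h a
      apply hinj
      rw [← hij, h (j a) ⟨a, rfl⟩, mul_inv_cancel_right]
    · rintro h _ ⟨a, rfl⟩
      rw [← mul_inv_eq_iff_eq_mul, hij, h a]
  have hNn : N.Normal := by
    refine ⟨fun n hn g => ?_⟩
    obtain ⟨m, hm, hme⟩ : i (g * n * g⁻¹) ∈ N.map i := by
      rw [hmap, map_mul, map_mul, map_inv]
      exact CoprimeAct.conj_mem_of_mem_normalizer
        (Subgroup.normalizer_commutator_ge_left K B ⟨g, rfl⟩) (hmap ▸ ⟨n, hn, rfl⟩)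
    exact hinj hme ▸ hm
  haveI := hNn
  have hNcyc' : IsCyclic N := by
    haveI : IsCyclic (N.map i) := hmap ▸ hNcyc
    exact isCyclic_of_injective (N.equivMapOfInjective i hinj).toMonoidHom (MulEquiv.injective _)
  have hbot : N ⊓ C = ⊥ := by
    rw [eq_bot_iff]
    rintro x ⟨hx1, hx2⟩
    rw [Subgroup.mem_bot]
    apply hinj
    rw [map_one, ← Subgroup.mem_bot, ← hNC]
    exact ⟨hmap ▸ ⟨x, hx1, rfl⟩, ⟨x, rfl⟩, (hCmem x).2 hx2⟩
  have hsup : N ⊔ C = ⊤ := by
    rw [eq_top_iff]
    intro g _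
    obtain ⟨d, hd, c, ⟨hcK', hcB'⟩, hdc⟩ := CoprimeAct.exists_commutator_mul hBK hcop'
      (Or.inr (inferInstance : Group.IsSolvable K)) (show i g ∈ K from ⟨g, rfl⟩)
    rw [← hmap] at hd
    obtain ⟨n, hn, rfl⟩ := hd
    obtain ⟨c', rfl⟩ := hcK'
    rw [← map_mul] at hdc
    rw [hinj hdc]
    exact Subgroup.mul_mem_sup hn ((hCmem c').1 hcB')
  have hcopNC : (Nat.card C).Coprime (Nat.card N) := S4117.coprime_of_inf_eq_bot hNcyc' hcyc hbot
  have hcardC : Nat.card (MulAction.fixedPoints A G : Set G) = Nat.card C := rfl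
  have hcard : Nat.card G = Nat.card N * Nat.card C := by
    have h : N.IsComplement' C := Subgroup.isComplement'_of_disjoint_and_mul_eq_univ
      (disjoint_iff.2 hbot) (by rw [← Subgroup.normal_mul, hsup, Subgroup.coe_top])
    exact h.card_mul.symm
  refine ⟨?_, hNcyc', hNn, ?_, ?_⟩
  · rw [hcardC, hcard, Nat.mul_div_cancel _ Nat.card_pos]
    exact hcopNC
  · ext x
    rw [Set.mem_inter_iff, Set.mem_singleton_iff]
    exact ⟨fun h => Subgroup.mem_bot.1 (hbot ▸ (⟨h.1, h.2⟩ : x ∈ N ⊓ C)),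
      fun h => h ▸ ⟨N.one_mem, C.one_mem⟩⟩
  · show N ⊔ Subgroup.closure (C : Set G) = ⊤
    rw [Subgroup.closure_eq, hsup]

end Cfsg.Agent.S4117
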