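import Cfsg.Statements.S4118
import Cfsg.Agent.S4115
import Cfsg.Agent.Lib.FGStruct.TISeparable
import Cfsg.Agent.Lib.FGStruct.Zassenhaus.Action
import Cfsg.Agent.Lib.FGStruct.Zassenhaus.AutSolvable
import Cfsg.Agent.Lib.Solvable.ScnCentralizer

set_option autoImplicit false
set_option linter.style.haveILetI false

open Cfsg

namespace Cfsg.Agent.S4118

open Cfsg.Agent

variable {G : Type*} [Group G] [Finite G]

/-- `H` is isomorphic to a Frobenius complement, so a non-solvable `H` has a fixed-point-free
representation. -/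
theorem fpf (H : Subgroup G) (hTI : Cfsg.IsTISubset (H : Set G)) (hnn : ¬ H.Normal)
    (hHall : (Nat.card H).Coprime (H.subgroupOf (Subgroup.normalizer (H : Set G))).index)
    (hsep : TISep.Separable H) (hns : ¬ Group.IsSolvable H) : Zassenhaus.Fpf H := by
  obtain ⟨-, -, hnle⟩ := TISep.structure_core H hTI hnn hHall hsep
  set O := TISep.core H with hO
  haveI hOn : O.Normal := TISep.core_normal H
  have hcop : (Nat.card O).Coprime (Nat.card H) := TISep.core_coprime H
  set T := O ⊔ H with hT
  have hHT : H ≤ T := le_sup_right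
  set H' := H.subgroupOf T with hH'
  let e : H' ≃* H := Subgroup.subgroupOfEquivOfLe hHT
  have hH'c : Nat.card H' = Nat.card H := Nat.card_congr e.toEquiv
  set X := Subgroup.normalizer (H' : Set T) with hX
  have hH'X : H' ≤ X := Subgroup.le_normalizer
  set K := (O.subgroupOf T).subgroupOf X with hK
  have hKc : K.IsComplement' (H'.subgroupOf X) := by
    refine Subgroup.isComplement'_of_disjoint_and_mul_eq_univ ?_ ?_
    · rw [disjoint_iff, Subgroup.eq_bot_iff_forall]
      rintro x ⟨h1, h2⟩
      have h : ((x : T) : G) ∈ O ⊓ H := ⟨h1, h2⟩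
      rw [Subgroup.inf_eq_bot_of_coprime hcop, Subgroup.mem_bot] at h
      exact Subtype.ext (Subtype.ext h)
    · refine Set.eq_univ_of_forall fun x => ?_
      obtain ⟨o, ho, h, hh, hoh⟩ := Subgroup.mem_sup_of_normal_left.1 ((x : T).2)
      let h' : T := ⟨h, hHT hh⟩
      have hh' : h' ∈ X := hH'X hh
      have hoX : (x : T) * h'⁻¹ ∈ X := mul_mem x.2 (inv_mem hh')
      refine ⟨⟨_, hoX⟩, ?_, ⟨h', hh'⟩, hh, Subtype.ext (inv_mul_cancel_right _ _)⟩
      show ((x : T) : G) * h⁻¹ ∈ O
      rw [← hoh, mul_inv_cancel_right]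
      exact ho
  have hHall' : (Nat.card H').Coprime (H'.subgroupOf X).index := by
    rw [hKc.index_eq_card, hH'c, Nat.card_congr (Equiv.refl _)]
    refine hcop.symm.coprime_dvd_right ?_
    rw [← Subgroup.card_map_of_injective X.subtype_injective,
      ← Subgroup.card_map_of_injective T.subtype_injective]
    refine Subgroup.card_dvd_of_le ?_
    rintro _ ⟨_, ⟨x, hx, rfl⟩, rfl⟩
    exact hx
  have hnn' : ¬ H'.Normal := fun hn => hnle (le_sup_left.trans
    ((Subgroup.normal_subgroupOf_iff_le_normalizer hHT).1 hn))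
  obtain ⟨F, _, _, C, hC, ⟨f⟩⟩ :=
    (S4115.result H' (TISep.isTI_subgroupOf H T hTI hHT) hHall').2 hnn' ⟨K, inferInstance, hKc⟩
  exact Zassenhaus.Fpf.of_frobeniusComplement hC (e.symm.trans f) hns

/-- If `O` and `H` are solvable, then so is `G`. -/
theorem solvable (H : Subgroup G) (hTI : Cfsg.IsTISubset (H : Set G)) (hnn : ¬ H.Normal)
    (hHall : (Nat.card H).Coprime (H.subgroupOf (Subgroup.normalizer (H : Set G))).index)
    (hsep : TISep.Separable H) [Group.IsSolvable (TISep.core H)] [Group.IsSolvable H] :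
    Group.IsSolvable G := by
  obtain ⟨htop, -, -⟩ := TISep.structure_core H hTI hnn hHall hsep
  haveI := AutSolvable.mulAut (TISep.abCyclic H hTI hnn hHall hsep)
  set O := TISep.core H with hO
  haveI hOn : O.Normal := TISep.core_normal H
  have hcop : (Nat.card O).Coprime (Nat.card H) := TISep.core_coprime H
  set N := Subgroup.normalizer (H : Set G) with hN
  set Cs := Subgroup.centralizer (H : Set G) with hCs
  have hCN : Cs ≤ N := Subgroup.centralizer_le_normalizer _
  -- the part of order prime to `|H|` of the centraliser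
  set m := (Subgroup.center Cs).index with hm
  have hm' : m.Coprime (Nat.card H) := by
    refine Nat.Coprime.coprime_dvd_left (dvd_trans (Subgroup.index_dvd_of_le
      (show H.subgroupOf Cs ≤ Subgroup.center Cs from fun z hz => Subgroup.mem_center_iff.2 fun c =>
        Subtype.ext (Subgroup.mem_centralizer_iff.1 c.2 z hz).symm)) ?_) hHall.symm
    haveI : (H.subgroupOf N).Normal := Subgroup.normal_in_normalizer
    rw [← Subgroup.relIndex, ← Subgroup.relIndex_subgroupOf (H := H) hCN]
    exact Subgroup.relIndex_dvd_index_of_normal _ _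
  set φ := MonoidHom.transferCenterPow Cs with hφ
  set K₀ := φ.ker.map Cs.subtype with hK₀
  have hmem : ∀ x : G, x ∈ K₀ ↔ x ∈ Cs ∧ x ^ m = 1 := by
    intro x
    constructor
    · rintro ⟨y, hy, rfl⟩
      exact ⟨y.2, congrArg (fun z : Cs => (z : G)) (congrArg Subtype.val (MonoidHom.mem_ker.1 hy))⟩
    · rintro ⟨h1, h2⟩
      exact ⟨⟨x, h1⟩, MonoidHom.mem_ker.2 (Subtype.ext (Subtype.ext h2)), rfl⟩
  have hK₀c : (Nat.card K₀).Coprime (Nat.card H) := by
    refine Nat.coprime_of_dvd' fun p hp h1 h2 => ?_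
    exfalso
    haveI := Fact.mk hp
    obtain ⟨x, hx⟩ := exists_prime_orderOf_dvd_card' p h1
    rw [← Subgroup.orderOf_coe] at hx
    exact hp.ne_one (Nat.eq_one_of_dvd_coprimes hm'
      (hx ▸ orderOf_dvd_of_pow_eq_one ((hmem _).1 x.2).2) h2)
  have hconj : ∀ g ∈ N, ∀ x ∈ K₀, g * x * g⁻¹ ∈ K₀ := by
    intro g hg x hx
    rw [hmem] at hx ⊢
    refine ⟨?_, by rw [conj_pow, hx.2, mul_one, mul_inv_cancel]⟩
    rw [Subgroup.mem_centralizer_iff]
    intro h hh
    have h1 : g⁻¹ * h * g ∈ H := by
      have := (Subgroup.mem_normalizer_iff.1 (inv_mem hg) h).1 hh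
      rwa [inv_inv] at this
    have h2 := Subgroup.mem_centralizer_iff.1 hx.1 _ h1
    rw [show h * (g * x * g⁻¹) = g * (g⁻¹ * h * g * x) * g⁻¹ by group, h2]
    group
  have hK₀O : K₀ ≤ O := by
    refine le_sup_left.trans (le_sSup (a := K₀ ⊔ O) ⟨?_, Nat.Coprime.coprime_dvd_left
      (AxB.card_sup_dvd K₀ O) (hK₀c.mul_left hcop)⟩)
    refine ⟨fun y hy g => ?_⟩
    obtain ⟨a, ha, n, hn, hg⟩ := Subgroup.mem_sup_of_normal_left.1
      (show g ∈ O ⊔ N from htop ▸ Subgroup.mem_top g)
    obtain ⟨o, ho, k, hk, hy'⟩ := Subgroup.mem_sup_of_normal_left.1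
      (show y ∈ O ⊔ K₀ from sup_comm O K₀ ▸ hy)
    have ha' : a ∈ K₀ ⊔ O := Subgroup.mem_sup_right ha
    rw [← hg, ← hy', show a * n * (o * k) * (a * n)⁻¹ =
      a * ((n * o * n⁻¹) * (n * k * n⁻¹)) * a⁻¹ by group]
    exact mul_mem (mul_mem ha' (mul_mem (Subgroup.mem_sup_right (hOn.conj_mem o ho n))
      (Subgroup.mem_sup_left (hconj n hn k hk)))) (inv_mem ha')
  haveI : Group.IsSolvable φ.ker := by
    haveI : Group.IsSolvable K₀ :=
      Group.isSolvable_of_isSolvable_injective (f := Subgroup.inclusion hK₀O)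
        (Subgroup.inclusion_injective hK₀O)
    exact Group.isSolvable_of_isSolvable_injective
      (f := (φ.ker.equivMapOfInjective Cs.subtype Cs.subtype_injective).toMonoidHom)
      (φ.ker.equivMapOfInjective Cs.subtype Cs.subtype_injective).injective
  haveI : Group.IsSolvable (Subgroup.center Cs) :=
    Group.isSolvable_of_comm fun a b => mul_comm' a b
  haveI : Group.IsSolvable Cs :=
    Group.isSolvable_of_ker_le_range φ.ker.subtype φ (by rw [Subgroup.range_subtype])
  haveI : Group.IsSolvable N :=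
    Group.isSolvable_of_ker_le_range (Subgroup.inclusion hCN) H.normalizerMonoidHom
      (by rw [Subgroup.normalizerMonoidHom_ker, Subgroup.inclusion_range])
  haveI : Group.IsSolvable (G ⧸ O) :=
    Group.isSolvable_of_surjective (f := (QuotientGroup.mk' O).comp N.subtype) fun q => by
      induction q using QuotientGroup.induction_on with
      | H g =>
        obtain ⟨a, ha, n, hn, hg⟩ := Subgroup.mem_sup_of_normal_left.1
          (show g ∈ O ⊔ N from htop ▸ Subgroup.mem_top g)
        refine ⟨⟨n, hn⟩, QuotientGroup.eq.2 ?_⟩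
        rw [← hg]
        show n⁻¹ * (a * n) ∈ O
        simpa [mul_assoc] using hOn.conj_mem a ha n⁻¹
  exact Group.isSolvable_of_ker_le_range O.subtype (QuotientGroup.mk' O) (by simp)

end Cfsg.Agent.S4118


set_option autoImplicit false
open Cfsg

namespace Cfsg.Agent.S4118

/-- Let G be a finite group and H a non-normal subgroup meeting each of its conjugates by elements outside N_G(H) trivially, with the order of H coprime to its index in N_G(H); let π be the set of primes dividing the order of H and suppose G is π-separable (it has a chain of normal subgroups from 1 to G each of whose factors has order divisible only by primes in π or coprime to the order of H). Let O be the largest normal subgroup of G of order coprime to the order of H. Then G = O·N_G(H), O·H is normal in G, and G is solvable if and only if O is solvable and H has no subgroup isomorphic to SL₂(5). -/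
theorem result {G : Type*} [Group G] [Finite G] (H : Subgroup G)
    (hTI : Cfsg.IsTISubset (H : Set G)) (hnn : ¬ H.Normal)
    (hHall : (Nat.card H).Coprime (H.subgroupOf (Subgroup.normalizer (H : Set G))).index)
    (hsep : ∃ (n : ℕ) (M : Fin (n + 1) → Subgroup G), M 0 = ⊥ ∧ M (Fin.last n) = ⊤ ∧ Monotone M ∧ (∀ i, (M i).Normal) ∧
      ∀ i : Fin n, (∀ q : ℕ, q.Prime → q ∣ (M i.castSucc).relIndex (M i.succ) → q ∣ Nat.card H) ∨
        ((M i.castSucc).relIndex (M i.succ)).Coprime (Nat.card H))
    (O : Subgroup G) (hO : O = sSup {K : Subgroup G | K.Normal ∧ (Nat.card K).Coprime (Nat.card H)}) :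
    O ⊔ Subgroup.normalizer (H : Set G) = ⊤ ∧ (O ⊔ H).Normal ∧
    (Group.IsSolvable G ↔ Group.IsSolvable O ∧
      ∀ K : Subgroup G, K ≤ H → ¬ Nonempty (K ≃* Matrix.SpecialLinearGroup (Fin 2) (ZMod 5))) := by
  subst hO
  obtain ⟨h1, h2, -⟩ := Cfsg.Agent.TISep.structure_core H hTI hnn hHall hsep
  refine ⟨h1, h2, ?_, ?_⟩
  · intro hG
    haveI := hG
    refine ⟨inferInstance, fun K _ => ?_⟩
    rintro ⟨e⟩
    haveI : Fact (Nat.Prime 5) := ⟨by norm_num⟩
    exact Cfsg.Agent.ScnCentralizer.sl2_not_solvable 5 le_rfl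
      (Group.isSolvable_of_surjective (f := e.toMonoidHom) e.surjective)
  · rintro ⟨hO, hno⟩
    haveI : Group.IsSolvable (Cfsg.Agent.TISep.core H) := hO
    haveI : Group.IsSolvable H := by
      by_contra hns
      obtain ⟨n, -, ⟨e⟩⟩ := (fpf H hTI hnn hHall hsep hns).exists_residual hns
      exact hno ((derivedSeries H n).map H.subtype) (Subgroup.map_subtype_le _)
        ⟨((derivedSeries H n).equivMapOfInjective H.subtype H.subtype_injective).symm.trans e⟩
    exact solvable H hTI hnn hHall hsep

end Cfsg.Agent.S4118
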