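import Cfsg.Statements.S4125
import Cfsg.Agent.Lib.FGStruct.Baer.Abelian

set_option autoImplicit false
set_option linter.style.haveILetI false

set_option autoImplicit false
open Cfsg

namespace Cfsg.Agent.S4125

/-- Let G be a finite group and q a prime dividing its order such that every element of q-power order has a conjugacy class of prime-power size. Then G is q-solvable of q-length 1: there are normal subgroups K ≤ L of G with K of order prime to q, L/K a q-group and L of index prime to q. Moreover there is a prime p such that every element of q-power order has a class of p-power size (one prime serving for all of them), and for a Sylow q-subgroup Q: if p = q then Q is normal with a normal complement (a direct factor), while if p ≠ q then Q is abelian, the product of Q with the largest normal p-subgroup O_p(G) is normal in G, and G/O_{q'}(G) is solvable, where O_{q'}(G) is the largest normal subgroup of order prime to q. -/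
theorem result {G : Type*} [Group G] [Finite G] (q : ℕ) [Fact q.Prime] (hq : q ∣ Nat.card G)
    (hBaer : ∀ x : G, (∃ k : ℕ, orderOf x = q ^ k) → ∃ (r : ℕ) (a : ℕ), r.Prime ∧ (Subgroup.centralizer ({x} : Set G)).index = r ^ a) (Q : Sylow q G) :
    (∃ K L : Subgroup G, K.Normal ∧ L.Normal ∧ K ≤ L ∧ (Nat.card K).Coprime q ∧ (∃ m : ℕ, K.relIndex L = q ^ m) ∧ L.index.Coprime q) ∧
    ∃ p : ℕ, p.Prime ∧ (∀ x : G, (∃ k : ℕ, orderOf x = q ^ k) → ∃ a : ℕ, (Subgroup.centralizer ({x} : Set G)).index = p ^ a) ∧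
      (p = q → (Q : Subgroup G).Normal ∧ ∃ N : Subgroup G, N.Normal ∧ N.IsComplement' (Q : Subgroup G)) ∧
      (p ≠ q → IsMulCommutative (Q : Subgroup G) ∧ (Cfsg.pCore p G ⊔ (Q : Subgroup G)).Normal ∧
        ∀ _h : (Cfsg.pPrimeCore q G).Normal, Group.IsSolvable (G ⧸ Cfsg.pPrimeCore q G)) := by
  haveI hKn := Cfsg.Agent.FittingCores.pPrimeCore_normal (G := G) q
  haveI hSn := Cfsg.Agent.Baer.imageSylow_normal hBaer Q
  set K := Cfsg.pPrimeCore q G with hK
  set f := QuotientGroup.mk' K with hf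
  set S : Subgroup (G ⧸ K) := ↑(Cfsg.Agent.Baer.imageSylow Q) with hS
  refine ⟨⟨K, S.comap f, hKn, hSn.comap f, fun g hg => ?_,
    Cfsg.Agent.FittingCores.pPrimeCore_coprime q, ?_, ?_⟩, ?_⟩
  · rw [Subgroup.mem_comap, hf, QuotientGroup.mk'_apply, (QuotientGroup.eq_one_iff g).2 hg]
    exact one_mem _
  · obtain ⟨n, hn⟩ := IsPGroup.iff_card.1 (Cfsg.Agent.Baer.imageSylow Q).2
    refine ⟨n, ?_⟩
    have h1 := Subgroup.relIndex_ker f (K := S.comap f)
    rw [QuotientGroup.ker_mk', Subgroup.map_comap_eq_self_of_surjective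
      (QuotientGroup.mk'_surjective K)] at h1
    rw [h1, hn]
  · rw [Subgroup.index_comap_of_surjective _ (QuotientGroup.mk'_surjective K)]
    exact ((Fact.out : q.Prime).coprime_iff_not_dvd.2
      (Cfsg.Agent.Baer.imageSylow Q).not_dvd_index).symm
  by_cases hab : ∀ x ∈ (Q : Subgroup G), ∀ y ∈ (Q : Subgroup G), x * y = y * x
  swap
  · push Not at hab
    obtain ⟨x, hx, y, hy, hxy⟩ := hab
    obtain ⟨hQn, hc⟩ := Cfsg.Agent.Baer.nonabelian_case hBaer Q hx hy (Ne.symm hxy)
    obtain ⟨hN, hall⟩ := Cfsg.Agent.Baer.split_case hBaer Q hQn hc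
    exact ⟨q, Fact.out, hall, fun _ => ⟨hQn, hN⟩, fun h => absurd rfl h⟩
  by_cases hex : ∃ x ∈ (Q : Subgroup G), ∃ (r a : ℕ), r.Prime ∧ a ≠ 0 ∧
      (Subgroup.centralizer ({x} : Set G)).index = r ^ a
  · obtain ⟨x, hx, r, a, hr, ha, hxcl⟩ := hex
    have hall : ∀ y ∈ (Q : Subgroup G), ∃ b, (Subgroup.centralizer ({y} : Set G)).index = r ^ b := by
      intro y hy
      obtain ⟨-, s, b, -, hs, hycl⟩ := Cfsg.Agent.Baer.baer_mem hBaer Q hy
      by_cases hb : b = 0
      · exact ⟨0, by rw [hycl, hb, pow_zero, pow_zero]⟩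
      · exact ⟨b, by rw [hycl, Cfsg.Agent.Baer.prime_unique_class hBaer Q hab hx hy hr hs ha hb hxcl hycl]⟩
    have hrq : r ≠ q := by
      intro hrq
      subst hrq
      have hle : (Q : Subgroup G) ≤ Subgroup.centralizer ({x} : Set G) := fun y hy =>
        Subgroup.mem_centralizer_singleton_iff.2 (hab y hy x hx)
      exact Q.not_dvd_index ((hxcl ▸ dvd_pow_self r ha).trans (Subgroup.index_dvd_of_le hle))
    refine ⟨r, hr, fun y ⟨k, hk⟩ => ?_, fun h => absurd h hrq, fun _ =>
      ⟨.of_setLike_mul_comm fun u hu v hv => hab u hu v hv,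
        Cfsg.Agent.Baer.sup_normal hBaer hr Q hall,
        fun _ => Cfsg.Agent.Baer.quotient_solvable hBaer hr Q hab hall⟩⟩
    obtain ⟨g, hg⟩ := Cfsg.Agent.Baer.exists_conj_mem Q hk
    rw [← Cfsg.Agent.Kazarin.index_centralizer_conj g y]
    exact hall _ hg
  push Not at hex
  have hcen : ∀ x ∈ (Q : Subgroup G), ∀ g : G, g * x = x * g := by
    intro x hx g
    obtain ⟨-, r, a, -, hr, hxcl⟩ := Cfsg.Agent.Baer.baer_mem hBaer Q hx
    have ha : a = 0 := by
      by_contra ha
      exact hex x hx r a hr ha hxcl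
    rw [ha, pow_zero, Subgroup.index_eq_one] at hxcl
    exact Subgroup.mem_centralizer_singleton_iff.1 (hxcl ▸ Subgroup.mem_top g)
  have hQn : (Q : Subgroup G).Normal := ⟨fun x hx g => by
    rw [hcen x hx g, mul_inv_cancel_right]; exact hx⟩
  obtain ⟨hN, hall⟩ := Cfsg.Agent.Baer.split_case hBaer Q hQn fun g _ z hz => hcen z hz g
  exact ⟨q, Fact.out, hall, fun _ => ⟨hQn, hN⟩, fun h => absurd rfl h⟩

end Cfsg.Agent.S4125
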