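import Cfsg.Statements.S4126
import Cfsg.Agent.Lib.FGStruct.PPowerClass
import Cfsg.Agent.Lib.Transfer.Fusion
import Cfsg.Agent.Lib.Solvable.Basic

set_option autoImplicit false
set_option linter.style.haveILetI false

set_option autoImplicit false
open Cfsg

namespace Cfsg.Agent.S4126

/-- Let G be a finite group and p a prime. Suppose every element of order p, and when p = 2 also every element of order 4, has a conjugacy class of p-power size. Then G has a normal p-complement. -/
theorem result {G : Type*} [Group G] [Finite G] (p : ℕ) [Fact p.Prime]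
    (h : ∀ x : G, (orderOf x = p ∨ (p = 2 ∧ orderOf x = 4)) → ∃ a : ℕ, (Subgroup.centralizer ({x} : Set G)).index = p ^ a) :
    Cfsg.HasNormalPComplement p G := by
  classical
  have hp := (Fact.out : p.Prime)
  have hmem : ∀ x : G, (orderOf x = p ∨ (p = 2 ∧ orderOf x = 4)) → x ∈ Cfsg.pCore p G := by
    intro x hx
    refine PPowerClass.mem_pCore ?_ (h x hx)
    rcases hx with hx | ⟨hp2, hx⟩
    · exact ⟨1, by rw [hx, pow_one]⟩
    · exact ⟨2, by rw [hx, hp2]; rfl⟩
  have hcen : Cfsg.pResidual p G ≤ Subgroup.centralizer (Cfsg.pCore p G : Set G) :=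
    PPowerClass.pResidual_le_centralizer_of_omega _ (PBasic.pCore_isPGroup p G) fun v _ hv => h v hv
  apply Fusion.hasNormalPComplement_of_frobenius
  intro D hD g hg hgo
  set M := D ⊔ Subgroup.zpowers g with hM
  have hgM : g ∈ M := Subgroup.mem_sup_right (Subgroup.mem_zpowers g)
  haveI : (D.subgroupOf M).Normal :=
    Subgroup.normal_subgroupOf_of_le_normalizer (sup_le Subgroup.le_normalizer (Subgroup.zpowers_le.2 hg))
  have hDM : IsPGroup p (D.subgroupOf M) := hD.comap_subtype
  have hcM := PPowerClass.pResidual_le_centralizer_of_omega (D.subgroupOf M) hDM (fun v hv ho => by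
    rw [← Subgroup.orderOf_coe] at ho
    have hgv : g * (v : G) = (v : G) * g :=
      (Subgroup.mem_centralizer_iff.1 (hcen (PBasic.mem_pResidual hgo)) (v : G) (hmem _ ho)).symm
    obtain ⟨n, hn⟩ := IsPGroup.iff_card.1 hD
    have h1 : (⟨g, hgM⟩ : M) ∈ Subgroup.centralizer ({v} : Set M) :=
      Subgroup.mem_centralizer_singleton_iff.2 (Subtype.ext hgv)
    have h2 : orderOf g ∣ Nat.card (Subgroup.centralizer ({v} : Set M)) := by
      rw [← Subgroup.orderOf_mk g hgM]
      exact Subgroup.orderOf_dvd_natCard _ h1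
    have h3 : Nat.card M ∣ p ^ n * orderOf g := by
      have h4 := SolvBasic.card_sup_mul_card_inf (N := D) (Subgroup.zpowers_le.2 hg)
      rw [hn, Nat.card_zpowers] at h4
      exact Dvd.intro _ h4
    obtain ⟨c, hc⟩ := h2
    rw [← (Subgroup.centralizer ({v} : Set M)).card_mul_index, hc, mul_assoc, mul_comm (p ^ n)] at h3
    obtain ⟨j, -, hj⟩ := (Nat.dvd_prime_pow hp).1
      ((Dvd.intro_left _ rfl).trans ((Nat.mul_dvd_mul_iff_left (orderOf_pos g)).1 h3))
    exact ⟨j, hj⟩)
  have hgr : (⟨g, hgM⟩ : M) ∈ Subgroup.centralizer (D.subgroupOf M : Set M) :=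
    hcM (PBasic.mem_pResidual (by rwa [Subgroup.orderOf_mk]))
  rw [Subgroup.mem_centralizer_iff] at hgr ⊢
  intro x hx
  exact congrArg Subtype.val (hgr ⟨x, Subgroup.mem_sup_left hx⟩ hx)

end Cfsg.Agent.S4126
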