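import Cfsg.Statements.S4127
import Cfsg.Agent.Lib.FGStruct.PPowerClass
import Cfsg.Agent.Lib.Transfer.Fusion
import Cfsg.Agent.Lib.FGStruct.Counting

set_option autoImplicit false
set_option linter.style.haveILetI false

set_option autoImplicit false
open Cfsg
open scoped Pointwise

namespace Cfsg.Agent.S4127

/-- Let G be a finite group, p a prime and p^a the largest power of p dividing the size of any conjugacy class of G. If some element of p-power order has a conjugacy class of size exactly p^a, then G has a normal p-complement. -/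
theorem result {G : Type*} [Group G] [Finite G] (p : ℕ) [Fact p.Prime]
    (a : ℕ) (hmax : ∀ y : G, ¬ p ^ (a + 1) ∣ (Subgroup.centralizer ({y} : Set G)).index)
    (hx : ∃ x : G, (∃ k : ℕ, orderOf x = p ^ k) ∧ (Subgroup.centralizer ({x} : Set G)).index = p ^ a) :
    Cfsg.HasNormalPComplement p G := by
  classical
  have hp := (Fact.out : p.Prime)
  obtain ⟨x, hxo, hxi⟩ := hx
  set C := Subgroup.centralizer ({x} : Set G) with hC
  set R := Cfsg.pCore p G with hRdef
  have hxR : x ∈ R := PPowerClass.mem_pCore hxo ⟨a, hxi⟩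
  have hR : IsPGroup p R := PBasic.pCore_isPGroup p G
  obtain ⟨k, hk⟩ := hxo
  -- every `p'`-element of `C` centralizes a Sylow subgroup of `C`
  have hsyl : ∀ v : C, (orderOf v).Coprime p → ∃ S : Sylow p C,
      (S : Subgroup C) ≤ Subgroup.centralizer ({v} : Set C) := by
    intro v hv
    set D := Subgroup.centralizer ({v} : Set C) with hD
    have hidx : ¬ p ∣ D.index := by
      intro hd
      apply hmax (x * (v : G))
      have hle : Subgroup.centralizer ({x * (v : G)} : Set G) ≤ D.map C.subtype := by
        intro g hg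
        rw [Subgroup.mem_centralizer_singleton_iff] at hg
        have hxv : Commute x (v : G) := (Subgroup.mem_centralizer_singleton_iff.1 v.2).symm
        have hg' : Commute g (x * (v : G)) := hg
        have hco : Nat.Coprime (orderOf x) (orderOf (v : G)) := by
          rw [hk, Subgroup.orderOf_coe]
          exact (Nat.Coprime.pow_right k hv).symm
        have h1 := hg'.pow_right (orderOf (v : G))
        rw [hxv.mul_pow, pow_orderOf_eq_one, mul_one] at h1
        have h2 := hg'.pow_right (orderOf x)
        rw [hxv.mul_pow, pow_orderOf_eq_one, one_mul] at h2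
        obtain ⟨m, hm⟩ := exists_pow_eq_self_of_coprime (x := x) hco.symm
        obtain ⟨l, hl⟩ := exists_pow_eq_self_of_coprime (x := (v : G)) hco
        have hgx : Commute g x := hm ▸ h1.pow_right m
        have hgv : Commute g (v : G) := hl ▸ h2.pow_right l
        refine ⟨⟨g, Subgroup.mem_centralizer_singleton_iff.2 hgx⟩, ?_, rfl⟩
        rw [SetLike.mem_coe, hD, Subgroup.mem_centralizer_singleton_iff]
        exact Subtype.ext hgv
      refine dvd_trans ?_ (Subgroup.index_dvd_of_le hle)
      rw [Subgroup.index_map_subtype, hxi, pow_succ']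
      exact Nat.mul_dvd_mul_right hd _
    obtain ⟨S₀⟩ : Nonempty (Sylow p D) := inferInstance
    have hS : ¬ p ∣ ((S₀ : Subgroup D).map D.subtype).index := by
      rw [Subgroup.index_map_subtype]
      intro hd
      rcases hp.dvd_mul.1 hd with hd | hd
      · exact S₀.not_dvd_index hd
      · exact hidx hd
    exact ⟨(S₀.isPGroup'.map D.subtype).toSylow hS, Subgroup.map_subtype_le _⟩
  obtain ⟨Q⟩ : Nonempty (Sylow p C) := inferInstance
  have hcover : (Q : Subgroup C) ⊔ Subgroup.centralizer ((Q : Subgroup C) : Set C) = ⊤ := by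
    apply Counting.eq_top_of_conj_cover
    intro g
    obtain ⟨u, v, huv, hu, hv, ⟨j, hj⟩, hvo⟩ := PBasic.exists_pPart_mul (p := p) g
    obtain ⟨S, hS⟩ := hsyl v hvo
    set D := Subgroup.centralizer ({v} : Set C) with hD
    have huD : u ∈ D := by
      obtain ⟨m, rfl⟩ := hu
      obtain ⟨l, rfl⟩ := hv
      exact Subgroup.mem_centralizer_singleton_iff.2 (((Commute.refl g).zpow_zpow m l).eq)
    obtain ⟨U, hU⟩ := (IsPGroup.of_card (p := p) (n := j) (G := Subgroup.zpowers (⟨u, huD⟩ : D))
      (by rw [Nat.card_zpowers, Subgroup.orderOf_mk, hj])).exists_le_sylow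
    have hSidx : ¬ p ∣ ((U : Subgroup D).map D.subtype).index := by
      rw [Subgroup.index_map_subtype]
      intro hd
      rcases hp.dvd_mul.1 hd with hd | hd
      · exact U.not_dvd_index hd
      · exact S.not_dvd_index (hd.trans (Subgroup.index_dvd_of_le hS))
    set U' : Sylow p C := (U.isPGroup'.map D.subtype).toSylow hSidx with hU'
    obtain ⟨t, ht⟩ := MulAction.exists_smul_eq C Q U'
    refine ⟨t, ?_⟩
    rw [← huv, show t⁻¹ * (u * v) * t = (t⁻¹ * u * t) * (t⁻¹ * v * t) by group]
    refine mul_mem (Subgroup.mem_sup_left ?_) (Subgroup.mem_sup_right ?_)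
    · have : u ∈ ((t • Q : Sylow p C) : Subgroup C) := by
        rw [ht]
        exact ⟨⟨u, huD⟩, hU (Subgroup.mem_zpowers _), rfl⟩
      rw [Sylow.coe_subgroup_smul] at this
      obtain ⟨q, hq, hqu⟩ := this
      have hqu' : t * q * t⁻¹ = u := hqu
      rw [← hqu']
      simp only [mul_assoc, inv_mul_cancel_left, inv_mul_cancel, mul_one]
      exact hq
    · rw [Subgroup.mem_centralizer_iff]
      intro q hq
      have : t * q * t⁻¹ ∈ ((t • Q : Sylow p C) : Subgroup C) := by
        rw [Sylow.coe_subgroup_smul]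
        exact ⟨q, hq, rfl⟩
      rw [ht] at this
      obtain ⟨⟨w, hw⟩, -, hwe⟩ := this
      have hwe' : w = t * q * t⁻¹ := hwe
      have h1 := Subgroup.mem_centralizer_singleton_iff.1 hw
      rw [hwe'] at h1
      calc q * (t⁻¹ * v * t) = t⁻¹ * ((t * q * t⁻¹) * v) * t := by group
        _ = t⁻¹ * v * t * q := by rw [h1]; group
  -- `p'`-elements of `C` centralize `R`
  have hgen : ∀ w : G, w ∈ C → (orderOf w).Coprime p → w ∈ Subgroup.centralizer (R : Set G) := by
    intro w hwC hwo
    rw [Subgroup.mem_centralizer_iff]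
    intro y hy
    have hA : IsPGroup p (Subgroup.zpowers x) := IsPGroup.of_card (n := k) (by rw [Nat.card_zpowers, hk])
    refine (AxB.thompson (n := orderOf w) hR hA ?_ (fun r hr => (inferInstance : R.Normal).conj_mem r hr w) ?_
      (pow_orderOf_eq_one w) hwo.symm ?_ y hy).symm
    · rw [Subgroup.normalizer_eq_top]; exact le_top
    · rintro z ⟨m, rfl⟩
      exact ((show Commute x w from (Subgroup.mem_centralizer_singleton_iff.1 hwC).symm).zpow_left m).eq
    · intro r hr hrA
      have hrC : r ∈ C := Subgroup.mem_centralizer_singleton_iff.2 (hrA x (Subgroup.mem_zpowers x)).symm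
      -- `r` and `w` commute inside `C`
      have hQn : ∀ g : C, g ∈ Subgroup.normalizer ((Q : Subgroup C) : Set C) := by
        intro g
        have hg : g ∈ (Q : Subgroup C) ⊔ Subgroup.centralizer ((Q : Subgroup C) : Set C) :=
          hcover.ge (Subgroup.mem_top g)
        exact (sup_le Subgroup.le_normalizer (Subgroup.centralizer_le_normalizer _) :
          _ ≤ Subgroup.normalizer ((Q : Subgroup C) : Set C)) hg
      haveI : (Q : Subgroup C).Normal := Subgroup.normalizer_eq_top_iff.1 (eq_top_iff.2 fun g _ => hQn g)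
      obtain ⟨S, hS⟩ := hsyl ⟨w, hwC⟩ (by rwa [Subgroup.orderOf_mk])
      obtain ⟨t, ht⟩ := MulAction.exists_smul_eq C Q S
      have hSQ : (S : Subgroup C) = (Q : Subgroup C) := by
        rw [← ht, Sylow.smul_eq_of_normal]
      obtain ⟨j, hj⟩ := IsPGroup.iff_orderOf.1 hR ⟨r, hr⟩
      rw [Subgroup.orderOf_mk] at hj
      obtain ⟨S', hS'⟩ := (IsPGroup.of_card (p := p) (n := j) (G := Subgroup.zpowers (⟨r, hrC⟩ : C))
        (by rw [Nat.card_zpowers, Subgroup.orderOf_mk, hj])).exists_le_sylow
      obtain ⟨t', ht'⟩ := MulAction.exists_smul_eq C Q S'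
      have hS'Q : (S' : Subgroup C) = (Q : Subgroup C) := by
        rw [← ht', Sylow.smul_eq_of_normal]
      have hrS : (⟨r, hrC⟩ : C) ∈ (S : Subgroup C) := by
        rw [hSQ, ← hS'Q]
        exact hS' (Subgroup.mem_zpowers _)
      exact (congrArg Subtype.val (Subgroup.mem_centralizer_singleton_iff.1 (hS hrS))).symm
  set K := (Cfsg.pResidual p C).map C.subtype with hK
  have hKle : K ≤ Subgroup.centralizer (R : Set G) := by
    rw [hK, Cfsg.pResidual, MonoidHom.map_closure, Subgroup.closure_le]
    rintro _ ⟨w, hw, rfl⟩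
    exact hgen w w.2 (by rw [Subgroup.orderOf_coe]; exact hw)
  have hCR : Subgroup.centralizer (R : Set G) ≤ C := Subgroup.centralizer_le (Set.singleton_subset_iff.2 hxR)
  haveI : K.Normal := by
    set E := Subgroup.centralizer (R : Set G) with hE
    haveI := PBasic.pResidual_characteristic p E
    have : K = (Cfsg.pResidual p E).map E.subtype := by
      refine le_antisymm ?_ ?_
      · rw [hK, Cfsg.pResidual, MonoidHom.map_closure, Subgroup.closure_le]
        rintro _ ⟨w, hw, rfl⟩
        refine ⟨⟨w, hgen w w.2 (by rw [Subgroup.orderOf_coe]; exact hw)⟩, PBasic.mem_pResidual ?_, rfl⟩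
        rw [Subgroup.orderOf_mk, Subgroup.orderOf_coe]
        exact hw
      · rintro _ ⟨e, he, rfl⟩
        exact ⟨Subgroup.inclusion hCR e, PBasic.map_pResidual_le _ (Subgroup.mem_map_of_mem _ he), rfl⟩
    rw [this]
    infer_instance
  have hCn : Cfsg.HasNormalPComplement p C := by
    apply Fusion.hasNormalPComplement_of_frobenius
    intro D hD g hg hgo
    obtain ⟨S, hS⟩ := hsyl g hgo
    haveI : (Q : Subgroup C).Normal := by
      refine Subgroup.normalizer_eq_top_iff.1 (eq_top_iff.2 (le_trans hcover.ge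
        (sup_le Subgroup.le_normalizer (Subgroup.centralizer_le_normalizer _))))
    obtain ⟨T, hT⟩ := hD.exists_le_sylow
    obtain ⟨t, ht⟩ := MulAction.exists_smul_eq C S T
    obtain ⟨t', ht'⟩ := MulAction.exists_smul_eq C Q S
    obtain ⟨t'', ht''⟩ := MulAction.exists_smul_eq C Q T
    have hTS : (T : Subgroup C) = (S : Subgroup C) := by
      rw [← ht', ← ht'', Sylow.smul_eq_of_normal, Sylow.smul_eq_of_normal]
    rw [Subgroup.mem_centralizer_iff]
    intro d hd
    exact Subgroup.mem_centralizer_singleton_iff.1 (hS (hTS ▸ hT hd))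
  rw [PBasic.hasNormalPComplement_iff]
  refine ⟨K, inferInstance, ?_, ?_⟩
  · rw [hK, Subgroup.card_map_of_injective C.subtype_injective]
    exact PBasic.hasNormalPComplement_iff_pResidual.1 hCn
  · obtain ⟨j, hj⟩ := PBasic.exists_index_pow_of_isPGroup_quotient (PBasic.quotient_pResidual_isPGroup p C)
    exact ⟨j + a, by rw [hK, Subgroup.index_map_subtype, hj, hxi, pow_add]⟩

end Cfsg.Agent.S4127
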