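import Cfsg.Statements.S4135
import Mathlib
import Cfsg.Agent.S4134
import Cfsg.Agent.Lib.OddOrder.OmegaCentral
import Cfsg.Agent.Lib.Solvable.Basic

set_option autoImplicit false
set_option linter.style.haveILetI false

namespace Cfsg.Agent.S4135

open Cfsg.Agent
open scoped Classical Pointwise

variable {G : Type*} [Group G] [Finite G] {N : Subgroup G} {m r : ℕ}

local notation "C[" x "]" => Subgroup.centralizer ({x} : Set G)
local notation "Z₀" => Subgroup.center G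

/-- One class size on the non-central elements of `N`. -/
def OneSize (N : Subgroup G) (m : ℕ) : Prop := ∀ x ∈ N, x ∉ Z₀ → C[x].index = m

/-- An element of `r`-power order. -/
def RPow (r : ℕ) (x : G) : Prop := ∃ k, x ^ r ^ k = 1

/-- The centralizer of `g` has a non-central element of `N` of order prime to `r`. -/
def M (N : Subgroup G) (r : ℕ) (g : G) : Prop := ∃ y ∈ C[g], y ∈ N ∧ y ∉ Z₀ ∧ ¬ r ∣ orderOf y

omit [Finite G] in
lemma self_mem (x : G) : x ∈ C[x] := Subgroup.mem_centralizer_singleton_iff.2 rfl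

omit [Finite G] in
lemma cent_le_zpowers {g a : G} (ha : a ∈ Subgroup.zpowers g) : C[g] ≤ C[a] := by
  intro w hw
  rw [Subgroup.mem_centralizer_singleton_iff] at hw ⊢
  obtain ⟨i, rfl⟩ := ha
  exact ((show Commute g w from hw.symm).zpow_left i).eq.symm

omit [Finite G] in
lemma conj_mem_cent {a b u : G} (hb : b * a * b⁻¹ * a⁻¹ ∈ Z₀) (hu : u ∈ C[a]) : b * u * b⁻¹ ∈ C[a] := by
  set ζ := b * a * b⁻¹ * a⁻¹ with hζ
  have e : b * a * b⁻¹ = ζ * a := by rw [hζ]; group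
  have hcζ := Subgroup.mem_center_iff.1 hb
  rw [Subgroup.mem_centralizer_singleton_iff] at hu ⊢
  have h : b * u * b⁻¹ * (ζ * a) = ζ * a * (b * u * b⁻¹) := by
    rw [← e]
    calc b * u * b⁻¹ * (b * a * b⁻¹) = b * (u * a) * b⁻¹ := by group
      _ = b * (a * u) * b⁻¹ := by rw [hu]
      _ = _ := by group
  rw [← mul_assoc, hcζ (b * u * b⁻¹), mul_assoc, mul_assoc ζ a] at h
  exact mul_left_cancel h

omit [Finite G] in
lemma map_conj_cent (h x : G) : C[x].map (MulAut.conj h).toMonoidHom = C[h * x * h⁻¹] := by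
  ext w
  rw [Subgroup.mem_map_equiv, MulAut.conj_symm_apply, Subgroup.mem_centralizer_singleton_iff,
    Subgroup.mem_centralizer_singleton_iff]
  constructor
  · intro hw
    calc w * (h * x * h⁻¹) = h * (h⁻¹ * w * h * x) * h⁻¹ := by group
      _ = h * (x * (h⁻¹ * w * h)) * h⁻¹ := by rw [hw]
      _ = h * x * h⁻¹ * w := by group
  · intro hw
    calc h⁻¹ * w * h * x = h⁻¹ * (w * (h * x * h⁻¹)) * h := by group
      _ = h⁻¹ * (h * x * h⁻¹ * w) * h := by rw [hw]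
      _ = x * (h⁻¹ * w * h) := by group

omit [Finite G] in
lemma conj_center_iff {h x : G} : h * x * h⁻¹ ∈ Z₀ ↔ x ∈ Z₀ := by
  constructor
  · intro hc
    have h2 := (inferInstance : (Z₀).Normal).conj_mem _ hc h⁻¹
    simpa [mul_assoc] using h2
  · exact fun hc => (inferInstance : (Z₀).Normal).conj_mem _ hc h

section
variable [hr : Fact r.Prime]

omit [Finite G] in
lemma RPow.mem_zpowers {x y : G} (hx : RPow r x) (hy : y ∈ Subgroup.zpowers x) : RPow r y := by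
  obtain ⟨k, hk⟩ := hx
  obtain ⟨i, rfl⟩ := hy
  refine ⟨k, ?_⟩
  show (x ^ i) ^ r ^ k = 1
  rw [← zpow_natCast, ← zpow_mul, mul_comm, zpow_mul, zpow_natCast, hk, one_zpow]

omit [Finite G] in
lemma RPow.conj {x : G} (hx : RPow r x) (h : G) : RPow r (h * x * h⁻¹) := by
  obtain ⟨k, hk⟩ := hx
  exact ⟨k, by rw [conj_pow, hk, mul_one, mul_inv_cancel]⟩

omit [Finite G] in
lemma rpow_of_isPGroup {S : Subgroup G} (hS : IsPGroup r S) {x : G} (hx : x ∈ S) : RPow r x := by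
  obtain ⟨k, hk⟩ := hS ⟨x, hx⟩
  exact ⟨k, congrArg Subtype.val hk⟩

omit [Finite G] in
lemma RPow.isPGroup_zpowers {x : G} (hx : RPow r x) : IsPGroup r (Subgroup.zpowers x) := by
  intro y
  obtain ⟨k, hk⟩ := hx.mem_zpowers y.2
  exact ⟨k, Subtype.ext hk⟩

lemma RPow.orderOf_eq {x : G} (hx : RPow r x) : ∃ k, orderOf x = r ^ k := by
  obtain ⟨k, hk⟩ := hx
  obtain ⟨j, -, hj⟩ := (Nat.dvd_prime_pow hr.out).1 (orderOf_dvd_of_pow_eq_one hk)
  exact ⟨j, hj⟩

/-- The elements of `r`-power order lie in a normal subgroup of index prime to `r`. -/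
lemma rpow_mem [N.Normal] (hidx : ¬ r ∣ N.index) {x : G} (hx : RPow r x) : x ∈ N := by
  obtain ⟨k, hk⟩ := hx
  rw [← QuotientGroup.eq_one_iff, ← orderOf_eq_one_iff]
  have h1 : orderOf (x : G ⧸ N) ∣ r ^ k := orderOf_dvd_of_pow_eq_one (by rw [← QuotientGroup.mk_pow, hk, QuotientGroup.mk_one])
  have h2 : orderOf (x : G ⧸ N) ∣ N.index := by rw [Subgroup.index_eq_card]; exact orderOf_dvd_natCard _
  exact Nat.eq_one_of_dvd_coprimes ((hr.out.coprime_iff_not_dvd.2 hidx).pow_left k) h1 h2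

lemma exists_parts (y : G) : ∃ u z : G, u ∈ Subgroup.zpowers y ∧ z ∈ Subgroup.zpowers y ∧ y = u * z ∧
    RPow r u ∧ ¬ r ∣ orderOf z := by
  obtain ⟨e, f, hf, hef⟩ :=
    Nat.exists_eq_pow_mul_and_not_dvd (orderOf_pos y).ne' r hr.out.ne_one
  obtain ⟨a, b, hab⟩ : IsCoprime ((r : ℤ) ^ e) (f : ℤ) :=
    IsCoprime.pow_left ((Nat.prime_iff_prime_int.1 hr.out).coprime_iff_not_dvd.2
      (fun h => hf (Int.natCast_dvd_natCast.1 h)))
  refine ⟨y ^ (b * (f : ℤ)), y ^ (a * (r : ℤ) ^ e), ⟨_, rfl⟩, ⟨_, rfl⟩, ?_, ⟨e, ?_⟩, ?_⟩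
  · rw [← zpow_add, add_comm, hab, zpow_one]
  · rw [← zpow_natCast, ← zpow_mul, mul_assoc, mul_comm b, zpow_mul,
      show ((f : ℤ) * ((r ^ e : ℕ) : ℤ)) = ((orderOf y : ℕ) : ℤ) by rw [hef]; push_cast; ring,
      zpow_natCast, pow_orderOf_eq_one, one_zpow]
  · intro hd
    refine hf (hd.trans (orderOf_dvd_of_pow_eq_one ?_))
    rw [← zpow_natCast, ← zpow_mul, mul_assoc, mul_comm a, zpow_mul,
      show ((r : ℤ) ^ e * (f : ℤ)) = ((orderOf y : ℕ) : ℤ) by rw [hef]; push_cast; ring,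
      zpow_natCast, pow_orderOf_eq_one, one_zpow]

lemma exists_coprime_root {y : G} (hy : ¬ r ∣ orderOf y) : y ∈ Subgroup.zpowers (y ^ r) := by
  obtain ⟨n, hn⟩ := exists_pow_eq_self_of_coprime (hr.out.coprime_iff_not_dvd.2 hy)
  exact ⟨(n : ℤ), by show (y ^ r) ^ (n : ℤ) = y; rw [zpow_natCast, hn]⟩

lemma card_cent (h : OneSize N m) {x y : G} (hx : x ∈ N) (hx' : x ∉ Z₀) (hy : y ∈ N) (hy' : y ∉ Z₀) :
    Nat.card C[x] = Nat.card C[y] := by
  have h1 := C[x].card_mul_index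
  have h2 := C[y].card_mul_index
  rw [h x hx hx'] at h1
  rw [h y hy hy'] at h2
  have hn : m ≠ 0 := fun hn0 => Subgroup.index_ne_zero_of_finite ((h x hx hx').trans hn0)
  exact Nat.eq_of_mul_eq_mul_right (Nat.pos_of_ne_zero hn) (h1.trans h2.symm)

lemma cent_eq (h : OneSize N m) {x y : G} (hx : x ∈ N) (hx' : x ∉ Z₀) (hy : y ∈ N) (hy' : y ∉ Z₀)
    (hle : C[x] ≤ C[y]) : C[x] = C[y] :=
  Subgroup.eq_of_le_of_card_ge hle (card_cent h hx hx' hy hy').ge

lemma cent_eq_of_coprime (h : OneSize N m) {x y : G} (hx : x ∈ N) (hx' : x ∉ Z₀) (hy : y ∈ N) (hy' : y ∉ Z₀)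
    (hc : Commute x y) (hcop : (orderOf x).Coprime (orderOf y)) : C[x] = C[y] := by
  have hmem : ∀ a b : G, Commute a b → (orderOf a).Coprime (orderOf b) → a ∈ Subgroup.zpowers (a * b) := by
    intro a b hab hco
    obtain ⟨i, hi1, hi0⟩ := Nat.chineseRemainder hco 1 0
    refine ⟨(i : ℤ), ?_⟩
    show (a * b) ^ (i : ℤ) = a
    rw [zpow_natCast, hab.mul_pow, (pow_eq_pow_iff_modEq).2 hi1, (pow_eq_pow_iff_modEq).2 hi0, pow_one,
      pow_zero, mul_one]
  have h1 : C[x * y] ≤ C[x] := cent_le_zpowers (hmem x y hc hcop)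
  have h2 : C[x * y] ≤ C[y] := cent_le_zpowers (hc.eq ▸ hmem y x hc.symm hcop.symm)
  have hxy : x * y ∉ Z₀ := fun hz => hx' (Subgroup.zpowers_le.2 hz (hmem x y hc hcop))
  rw [← cent_eq h (mul_mem hx hy) hxy hx hx' h1, ← cent_eq h (mul_mem hx hy) hxy hy hy' h2]

/-- Standing hypotheses. -/
structure Hyp (N : Subgroup G) (m r : ℕ) : Prop where
  one : OneSize N m
  idx : ¬ r ∣ N.index
  nc : ∃ x, RPow r x ∧ x ∉ Z₀

variable [hNn : N.Normal]

lemma exists_r_mem (H : Hyp N m r) {g : G} (hg : g ∈ N) (hg' : g ∉ Z₀) :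
    ∃ x ∈ C[g], RPow r x ∧ x ∉ Z₀ := by
  by_contra hcon
  push Not at hcon
  obtain ⟨y, hy, hy'⟩ := H.nc
  have hyN := rpow_mem H.idx hy
  obtain ⟨k, hk⟩ := hy.orderOf_eq
  have hcard := card_cent H.one hg hg' hyN hy'
  obtain ⟨S⟩ := (inferInstance : Nonempty (Sylow r C[g]))
  have hS : r ^ (Nat.card C[g]).factorization r ∣ Nat.card Z₀ := by
    rw [← S.card_eq_multiplicity, ← Subgroup.card_map_of_injective C[g].subtype_injective]
    refine Subgroup.card_dvd_of_le ?_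
    rintro _ ⟨s, hs, rfl⟩
    exact hcon _ s.2 (rpow_of_isPGroup (S.isPGroup'.map C[g].subtype) ⟨s, hs, rfl⟩)
  set K := Z₀ ⊔ Subgroup.zpowers y
  have hKD : K ≤ C[y] := sup_le (Subgroup.center_le_centralizer _) (Subgroup.zpowers_le.2 (self_mem y))
  have hidx : (Z₀).relIndex K = (Z₀).relIndex (Subgroup.zpowers y) := Subgroup.relIndex_sup_left ..
  have hrp : (Z₀).relIndex (Subgroup.zpowers y) ∣ r ^ k := by
    rw [← hk, ← Nat.card_zpowers]; exact Subgroup.relIndex_dvd_card _ _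
  obtain ⟨i, -, hi⟩ := (Nat.dvd_prime_pow hr.out).1 hrp
  have hi0 : i ≠ 0 := by
    rintro rfl
    rw [pow_zero, Subgroup.relIndex_eq_one] at hi
    exact hy' (hi (Subgroup.mem_zpowers y))
  have hK : Nat.card K = Nat.card Z₀ * r ^ i := by
    rw [← hi, ← hidx, ← Nat.card_congr (Subgroup.subgroupOfEquivOfLe (le_sup_left : Z₀ ≤ K)).toEquiv]
    exact (((Z₀).subgroupOf K).card_mul_index).symm
  have hdvd : Nat.card Z₀ * r ^ i ∣ Nat.card C[g] := hcard ▸ hK ▸ Subgroup.card_dvd_of_le hKD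
  have h1 := (hr.out.pow_dvd_iff_le_factorization Nat.card_pos.ne').1 hS
  have h2 := (Nat.factorization_le_iff_dvd (mul_ne_zero Nat.card_pos.ne' (pow_ne_zero _ hr.out.ne_zero))
    Nat.card_pos.ne').2 hdvd r
  rw [Nat.factorization_mul Nat.card_pos.ne' (pow_ne_zero _ hr.out.ne_zero), Finsupp.add_apply,
    hr.out.factorization_pow, Finsupp.single_eq_same] at h2
  omega

lemma m_struct (H : Hyp N m r) {g : G} (hg : g ∈ N) (hg' : g ∉ Z₀) (hM : M N r g) {u c : G}
    (hu : u ∈ C[g]) (huN : u ∈ N) (hc : c ∈ C[g]) : u * c = c * u := by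
  obtain ⟨y, hyg, hyN, hy', hyr⟩ := hM
  obtain ⟨x, hxy, hxr, hx'⟩ := exists_r_mem H hyN hy'
  have hxN := rpow_mem H.idx hxr
  have hcop : ∀ {a b : G}, RPow r a → ¬ r ∣ orderOf b → (orderOf a).Coprime (orderOf b) := fun ha hb => by
    obtain ⟨k, hk⟩ := ha.orderOf_eq
    rw [hk]; exact (hr.out.coprime_iff_not_dvd.2 hb).pow_left k
  have hxy' : C[x] = C[y] := cent_eq_of_coprime H.one hxN hx' hyN hy'
    (Subgroup.mem_centralizer_singleton_iff.1 hxy) (hcop hxr hyr)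
  have hle : C[y] ⊓ N ≤ Subgroup.centralizer (C[y] : Set G) := by
    intro w hw
    obtain ⟨a, b, ha, hb, hab, har, hbr⟩ := exists_parts (r := r) w
    have ha1 := Subgroup.zpowers_le.2 hw ha
    have hb1 := Subgroup.zpowers_le.2 hw hb
    rw [hab]
    refine mul_mem ?_ ?_
    · refine Subgroup.mem_centralizer_iff.2 fun c hc => ?_
      by_cases haz : a ∈ Z₀
      · exact Subgroup.mem_center_iff.1 haz c
      · have e : C[a] = C[y] := cent_eq_of_coprime H.one ha1.2 haz hyN hy'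
          (Subgroup.mem_centralizer_singleton_iff.1 ha1.1) (hcop har hyr)
        exact Subgroup.mem_centralizer_singleton_iff.1 (e.symm ▸ hc)
    · refine Subgroup.mem_centralizer_iff.2 fun c hc => ?_
      by_cases hbz : b ∈ Z₀
      · exact Subgroup.mem_center_iff.1 hbz c
      · have e : C[x] = C[b] := cent_eq_of_coprime H.one hxN hx' hb1.2 hbz
          (Subgroup.mem_centralizer_singleton_iff.1 (hxy' ▸ hb1.1 : b ∈ C[x])).symm (hcop hxr hbr)
        exact Subgroup.mem_centralizer_singleton_iff.1 ((e.symm.trans hxy').symm ▸ hc)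
  have hgy : g ∈ C[y] := Subgroup.mem_centralizer_singleton_iff.2
    (Subgroup.mem_centralizer_singleton_iff.1 hyg).symm
  have e : C[y] = C[g] := cent_eq H.one hyN hy' hg hg' fun c hc =>
    Subgroup.mem_centralizer_singleton_iff.2 (Subgroup.mem_centralizer_iff.1 (hle ⟨hgy, hg⟩) c hc)
  rw [← e] at hu hc
  exact (Subgroup.mem_centralizer_iff.1 (hle ⟨hu, huN⟩) c hc).symm

lemma m_comm (H : Hyp N m r) {g h : G} (hg : g ∈ N) (hg' : g ∉ Z₀) (hM : M N r g)
    (hh : h ∈ N) (hh' : h ∉ Z₀) (hc : h ∈ C[g]) : C[h] = C[g] ∧ M N r h := by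
  have e : C[g] = C[h] := cent_eq H.one hg hg' hh hh' fun c hcc =>
    Subgroup.mem_centralizer_singleton_iff.2 (m_struct H hg hg' hM hc hh hcc).symm
  exact ⟨e.symm, by obtain ⟨y, hy1, hy2⟩ := hM; exact ⟨y, e ▸ hy1, hy2⟩⟩

omit [Finite G] hr in
lemma m_conj {g : G} (hM : M N r g) (h : G) : M N r (h * g * h⁻¹) := by
  obtain ⟨y, hy, hyN, hy', hyr⟩ := hM
  refine ⟨h * y * h⁻¹, ?_, hNn.conj_mem y hyN h, fun hc => hy' (conj_center_iff.1 hc), ?_⟩
  · rw [← map_conj_cent]; exact ⟨y, hy, rfl⟩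
  · rwa [show h * y * h⁻¹ = MulAut.conj h y from rfl, MulEquiv.orderOf_eq]

/-- The averaging lemma. -/
lemma cover_card (H : Hyp N m r) {a b : G} (ha : a ∈ N) (ha' : a ∉ Z₀) (hb : b ∈ N) (hb' : b ∉ Z₀)
    (hD : ∀ u ∈ C[a], u ∈ N → ∀ c ∈ C[a], u * c = c * u) (hbn : b * a * b⁻¹ * a⁻¹ ∈ Z₀) (hbr : RPow r b) :
    Nat.card (C[b] ⊓ N : Subgroup G) ≤ Nat.card (C[a] ⊓ N : Subgroup G) := by
  have hcov : ∀ h ∈ C[a], ∃ c ∈ C[b], ∃ n' ∈ N, h = c * n' := by
    intro h hh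
    obtain ⟨k, hk⟩ := id hbr
    set n := r ^ k
    have hbm : ∀ u, u ∈ C[a] → b * u * b⁻¹ ∈ C[a] := fun u => conj_mem_cent hbn
    have hv : ∀ i : ℕ, h * b ^ i * h⁻¹ * (b ^ i)⁻¹ ∈ C[a] ⊓ N := by
      intro i
      refine ⟨?_, N.mul_mem (hNn.conj_mem _ (N.pow_mem hb i) h) (N.inv_mem (N.pow_mem hb i))⟩
      induction i with
      | zero => simp
      | succ i ihi =>
        have e : h * b ^ (i + 1) * h⁻¹ * (b ^ (i + 1))⁻¹ =
            h * (b * h⁻¹ * b⁻¹) * (b * (h * b ^ i * h⁻¹ * (b ^ i)⁻¹) * b⁻¹) := by group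
        rw [e]
        exact mul_mem (mul_mem hh (hbm _ (inv_mem hh))) (hbm _ ihi)
    set v := h * b * h⁻¹ * b⁻¹ with hvdef
    have hv1 : v ∈ C[a] ⊓ N := by simpa [hvdef] using hv 1
    have hcm : ∀ u w, u ∈ C[a] ⊓ N → w ∈ C[a] → u * w = w * u := fun u w hu hw => hD u hu.1 hu.2 w hw
    have hw : ∀ i : ℕ, ∃ w ∈ C[a] ⊓ N, v ^ i * (b * w * b⁻¹) = w * (h * b ^ i * h⁻¹ * (b ^ i)⁻¹) := by
      intro i
      induction i with
      | zero => exact ⟨1, one_mem _, by simp⟩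
      | succ i ihi =>
        obtain ⟨w, hw, he⟩ := ihi
        set vi := h * b ^ i * h⁻¹ * (b ^ i)⁻¹ with hvi
        refine ⟨w * vi, mul_mem hw (hv i), ?_⟩
        have e1 : h * b ^ (i + 1) * h⁻¹ * (b ^ (i + 1))⁻¹ = v * (b * vi * b⁻¹) := by rw [hvdef, hvi]; group
        rw [e1]
        calc v ^ (i + 1) * (b * (w * vi) * b⁻¹) = v ^ i * (v * (b * w * b⁻¹)) * (b * vi * b⁻¹) := by group
          _ = v ^ i * ((b * w * b⁻¹) * v) * (b * vi * b⁻¹) := by rw [hcm v _ hv1 (hbm _ hw.1)]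
          _ = v ^ i * (b * w * b⁻¹) * (v * (b * vi * b⁻¹)) := by group
          _ = w * vi * (v * (b * vi * b⁻¹)) := by rw [he]
    have hpow : ∀ i : ℕ, h ^ i * b * (h ^ i)⁻¹ * b⁻¹ = v ^ i := by
      intro i
      induction i with
      | zero => simp
      | succ i ihi =>
        have e2 : h ^ i * b * (h ^ i)⁻¹ = v ^ i * b := by rw [← ihi]; group
        calc h ^ (i + 1) * b * (h ^ (i + 1))⁻¹ * b⁻¹ = h * (h ^ i * b * (h ^ i)⁻¹) * h⁻¹ * b⁻¹ := by group
          _ = (h * v ^ i) * b * h⁻¹ * b⁻¹ := by rw [e2]; group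
          _ = (v ^ i * h) * b * h⁻¹ * b⁻¹ := by rw [hcm _ h (pow_mem hv1 i) hh]
          _ = v ^ i * v := by rw [hvdef]; group
          _ = v ^ (i + 1) := (pow_succ v i).symm
    obtain ⟨w, hw', he⟩ := hw n
    rw [hk, mul_one, mul_inv_cancel, inv_one, mul_one, mul_one] at he
    have h1 : h ^ n * b * (h ^ n)⁻¹ = w * b * w⁻¹ := by
      calc h ^ n * b * (h ^ n)⁻¹ = v ^ n * b := by rw [← hpow n]; group
        _ = v ^ n * (b * w * b⁻¹) * (b * w⁻¹) := by group
        _ = w * b * w⁻¹ := by rw [he, mul_assoc]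
    have h2 : w⁻¹ * h ^ n ∈ C[b] := by
      rw [Subgroup.mem_centralizer_singleton_iff]
      calc w⁻¹ * h ^ n * b = w⁻¹ * (h ^ n * b * (h ^ n)⁻¹) * h ^ n := by group
        _ = w⁻¹ * (w * b * w⁻¹) * h ^ n := by rw [h1]
        _ = b * (w⁻¹ * h ^ n) := by group
    have hmem : h ^ n ∈ C[b] ⊔ N := by
      rw [show h ^ n = w * (w⁻¹ * h ^ n) from (mul_inv_cancel_left _ _).symm]
      exact mul_mem (Subgroup.mem_sup_right hw'.2) (Subgroup.mem_sup_left h2)
    obtain ⟨s, t, hst⟩ : IsCoprime (n : ℤ) (N.index : ℤ) :=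
      Nat.isCoprime_iff_coprime.2 ((hr.out.coprime_iff_not_dvd.2 H.idx).pow_left k)
    have hmem' : h ∈ C[b] ⊔ N := by
      rw [show h = (h ^ n) ^ s * (h ^ N.index) ^ t by
        rw [← zpow_natCast, ← zpow_mul, ← zpow_natCast, ← zpow_mul, ← zpow_add, mul_comm _ s, mul_comm _ t, hst,
          zpow_one]]
      exact mul_mem (zpow_mem hmem s) (zpow_mem (Subgroup.mem_sup_right (Subgroup.pow_index_mem N h)) t)
    obtain ⟨c, hc, n', hn', rfl⟩ := Subgroup.mem_sup_of_normal_right.1 hmem'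
    exact ⟨c, hc, n', hn', rfl⟩
  set π := QuotientGroup.mk' N
  have hmap : C[a].map π ≤ C[b].map π := by
    rintro _ ⟨h, hh, rfl⟩
    obtain ⟨c, hc, n', hn', rfl⟩ := hcov h hh
    exact ⟨c, hc, by
      rw [map_mul, QuotientGroup.mk'_apply _ n', (QuotientGroup.eq_one_iff n').2 hn', mul_one]⟩
  have e1 := CoprimeFixBound.card_inf_eq_mul π C[a]
  have e2 := CoprimeFixBound.card_inf_eq_mul π C[b]
  rw [QuotientGroup.ker_mk', inf_comm] at e1 e2
  have e3 := card_cent H.one ha ha' hb hb'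
  rw [e1, e2] at e3
  have hle := Subgroup.card_le_of_le hmap
  by_contra hgt
  push Not at hgt
  have := Nat.mul_lt_mul_of_lt_of_le hgt hle Nat.card_pos
  omega

lemma isNilpotent_of_central (hcen : ∀ u ∈ N, ¬ r ∣ orderOf u → ∀ w ∈ N, u * w = w * u) :
    Group.IsNilpotent N := by
  have hp : IsPGroup r (N ⧸ Subgroup.center N) := by
    intro q
    induction q using QuotientGroup.induction_on with
    | H u =>
      obtain ⟨a, b, ha, hb, hab, ⟨k, hk⟩, hbr⟩ := exists_parts (r := r) (u : G)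
      refine ⟨k, ?_⟩
      rw [← QuotientGroup.mk_pow, QuotientGroup.eq_one_iff, Subgroup.mem_center_iff]
      intro w
      refine Subtype.ext ?_
      push_cast
      have hbN : b ∈ N := Subgroup.zpowers_le.2 u.2 hb
      have hcab : Commute a b := by
        obtain ⟨i, rfl⟩ := ha; obtain ⟨j, rfl⟩ := hb
        exact Commute.zpow_zpow_self _ i j
      rw [hab, hcab.mul_pow, hk, one_mul]
      exact ((show Commute b (w : G) from hcen b hbN hbr w w.2).pow_left _).eq.symm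
  haveI := hp.isNilpotent
  exact Subgroup.isNilpotent_of_ker_le_center (QuotientGroup.mk' (Subgroup.center N))
    (le_of_eq (QuotientGroup.ker_mk' _))

/-- The `r`-elements of the abelian group `C[x] ⊓ N`. -/
def rPart (H : Hyp N m r) (x : G) (hx : x ∈ N) (hx' : x ∉ Z₀) (hM : M N r x) : Subgroup G where
  carrier := {u | u ∈ C[x] ∧ RPow r u}
  one_mem' := ⟨one_mem _, 0, one_pow _⟩
  mul_mem' := fun {u v} hu hv => ⟨mul_mem hu.1 hv.1, by
    obtain ⟨k, hk⟩ := hu.2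
    obtain ⟨l, hl⟩ := hv.2
    refine ⟨k + l, ?_⟩
    have hc : Commute u v := m_struct H hx hx' hM hu.1 (rpow_mem H.idx hu.2) hv.1
    rw [hc.mul_pow, pow_add, pow_mul, hk, one_pow, one_mul, mul_comm, pow_mul, hl, one_pow]⟩
  inv_mem' := fun {u} hu => ⟨inv_mem hu.1, hu.2.mem_zpowers (inv_mem (Subgroup.mem_zpowers u))⟩

lemma card_rPart (H : Hyp N m r) {x : G} (hx : x ∈ N) (hx' : x ∉ Z₀) (hM : M N r x) :
    Nat.card (rPart H x hx hx' hM) = r ^ (Nat.card C[x]).factorization r := by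
  set T := rPart H x hx hx' hM
  have hTp : IsPGroup r T := fun u => by
    obtain ⟨k, hk⟩ := u.2.2; exact ⟨k, Subtype.ext hk⟩
  obtain ⟨S⟩ := (inferInstance : Nonempty (Sylow r C[x]))
  refine Nat.dvd_antisymm ?_ ?_
  · obtain ⟨j, hj⟩ := IsPGroup.iff_card.1 hTp
    rw [hj]
    refine Nat.pow_dvd_pow r ((hr.out.pow_dvd_iff_le_factorization Nat.card_pos.ne').1 ?_)
    rw [← hj]
    exact Subgroup.card_dvd_of_le fun u hu => hu.1
  · rw [← S.card_eq_multiplicity, ← Subgroup.card_map_of_injective C[x].subtype_injective]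
    refine Subgroup.card_dvd_of_le ?_
    rintro _ ⟨s, hs, rfl⟩
    exact ⟨s.2, rpow_of_isPGroup (S.isPGroup'.map C[x].subtype) ⟨s, hs, rfl⟩⟩

/-- A fixed element modulo the center. -/
lemma exists_fixed {T E : Subgroup G} (hT : IsPGroup r T) (hE : IsPGroup r E)
    (hEn : E ≤ Subgroup.normalizer (T : Set G)) (hne : ¬ T ≤ Z₀) :
    ∃ z ∈ T, z ∉ Z₀ ∧ z ^ r ∈ Z₀ ∧ ∀ e ∈ E, e * z * e⁻¹ * z⁻¹ ∈ Z₀ := by
  set F := T ⊔ E
  have hF : IsPGroup r F := hT.to_sup_of_normal_left' hE hEn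
  haveI : (T.subgroupOf F).Normal :=
    (Subgroup.normal_subgroupOf_iff_le_normalizer le_sup_left).2 (sup_le Subgroup.le_normalizer hEn)
  set π := (QuotientGroup.mk' Z₀).comp F.subtype
  set T' := (T.subgroupOf F).map π.rangeRestrict
  haveI : T'.Normal := Subgroup.Normal.map inferInstance _ π.rangeRestrict_surjective
  have hR : IsPGroup r π.range := hF.of_surjective _ π.rangeRestrict_surjective
  have hT' : T' ≠ ⊥ := by
    rw [Ne, Subgroup.map_eq_bot_iff, MonoidHom.ker_rangeRestrict]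
    intro hle
    apply hne
    intro u hu
    have h1 := hle (show (⟨u, Subgroup.mem_sup_left hu⟩ : F) ∈ T.subgroupOf F from hu)
    exact (QuotientGroup.eq_one_iff u).1 h1
  obtain ⟨B, hBn, hBT, hB⟩ := OddOrder.OmegaCen.exists_normal_card hR T' (k := 1) (by
    rw [pow_one]
    obtain ⟨j, hj⟩ := IsPGroup.iff_card.1 (hR.to_subgroup T')
    have h1 := T'.one_lt_card_iff_ne_bot.2 hT'
    rw [hj] at h1 ⊢
    exact Nat.le_self_pow (fun h0 => by rw [h0, pow_zero] at h1; omega) r)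
  rw [pow_one] at hB
  have hBc := OddOrder.OmegaCen.le_center_of_prime_card hR hB
  obtain ⟨b, hb, hb1⟩ : ∃ b ∈ B, b ≠ 1 := by
    by_contra hc
    push Not at hc
    have : B = ⊥ := eq_bot_iff.2 fun b hb => Subgroup.mem_bot.2 (hc b hb)
    rw [this, Subgroup.card_bot] at hB
    exact hr.out.ne_one hB.symm
  obtain ⟨w, hw, rfl⟩ := hBT hb
  refine ⟨(w : G), hw, fun hz => hb1 (Subtype.ext ((QuotientGroup.eq_one_iff (w : G)).2 hz)), ?_, ?_⟩
  · have h1 : (⟨π.rangeRestrict w, hb⟩ : B) ^ r = 1 := by rw [← hB]; exact pow_card_eq_one'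
    have h2 : (QuotientGroup.mk' Z₀ (w : G)) ^ r = 1 :=
      congrArg (fun b : π.range => (b : G ⧸ Z₀)) (congrArg Subtype.val h1)
    rw [← map_pow] at h2
    exact (QuotientGroup.eq_one_iff _).1 h2
  · intro e he
    have h1 := congrArg (fun b : π.range => (b : G ⧸ Z₀))
      (Subgroup.mem_center_iff.1 (hBc hb) (π.rangeRestrict ⟨e, Subgroup.mem_sup_right he⟩))
    change QuotientGroup.mk' Z₀ e * QuotientGroup.mk' Z₀ (w : G) =
      QuotientGroup.mk' Z₀ (w : G) * QuotientGroup.mk' Z₀ e at h1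
    rw [← QuotientGroup.eq_one_iff]
    show QuotientGroup.mk' Z₀ (e * (w : G) * e⁻¹ * (w : G)⁻¹) = 1
    rw [map_mul, map_mul, map_mul, h1, map_inv, map_inv, mul_inv_cancel_right, mul_inv_cancel]

/-- An `r`-group normalizing a component has its component part of index at most `r`. -/
lemma card_le_component (H : Hyp N m r) {x : G} (hx : x ∈ N) (hx' : x ∉ Z₀) (hxr : RPow r x) (hM : M N r x)
    {E : Subgroup G} (hE : IsPGroup r E) (hEn : ∀ e ∈ E, ∀ u ∈ C[x], e * u * e⁻¹ ∈ C[x]) :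
    Nat.card E ≤ r * Nat.card (E ⊓ C[x] : Subgroup G) := by
  set T := rPart H x hx hx' hM
  have hTp : IsPGroup r T := fun u => by
    obtain ⟨k, hk⟩ := u.2.2; exact ⟨k, Subtype.ext hk⟩
  have hET : E ≤ Subgroup.normalizer (T : Set G) := by
    intro e he
    rw [Subgroup.mem_normalizer_iff]
    intro u
    refine ⟨fun hu => ⟨hEn e he u hu.1, hu.2.conj e⟩, fun hu => ?_⟩
    have h1 := hEn e⁻¹ (inv_mem he) _ hu.1
    have h2 := hu.2.conj e⁻¹
    simp only [inv_inv, mul_assoc, inv_mul_cancel_left, inv_mul_cancel, mul_one] at h1 h2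
    exact ⟨h1, h2⟩
  obtain ⟨z, hzT, hz', hzr, hfix⟩ := exists_fixed hTp hE hET fun hle => hx' (hle ⟨self_mem x, hxr⟩)
  have hzN := rpow_mem H.idx hzT.2
  obtain ⟨hCz, -⟩ := m_comm H hx hx' hM hzN hz' hzT.1
  let χ : E →* Z₀ := MonoidHom.mk' (fun e => ⟨(e : G) * z * (e : G)⁻¹ * z⁻¹, hfix e e.2⟩) (fun a b => by
    refine Subtype.ext ?_
    show (a : G) * b * z * ((a : G) * b)⁻¹ * z⁻¹ =
      (a : G) * z * (a : G)⁻¹ * z⁻¹ * ((b : G) * z * (b : G)⁻¹ * z⁻¹)
    set ζ := (b : G) * z * (b : G)⁻¹ * z⁻¹ with hζ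
    have hcζ := Subgroup.mem_center_iff.1 (hfix b b.2)
    calc (a : G) * b * z * ((a : G) * b)⁻¹ * z⁻¹ = (a : G) * ζ * (z * (a : G)⁻¹ * z⁻¹) := by rw [hζ]; group
      _ = ζ * (a : G) * (z * (a : G)⁻¹ * z⁻¹) := by rw [hcζ (a : G)]
      _ = ζ * ((a : G) * z * (a : G)⁻¹ * z⁻¹) := by group
      _ = (a : G) * z * (a : G)⁻¹ * z⁻¹ * ζ := (hcζ _).symm)
  have hker : ∀ e : E, χ e = 1 ↔ (e : G) ∈ C[x] := by
    intro e
    rw [← hCz, Subgroup.mem_centralizer_singleton_iff, ← Subtype.coe_inj]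
    show (e : G) * z * (e : G)⁻¹ * z⁻¹ = 1 ↔ _
    rw [mul_inv_eq_one, mul_inv_eq_iff_eq_mul]
  have hcard : Nat.card E = Nat.card (E ⊓ C[x] : Subgroup G) * Nat.card χ.range := by
    rw [← Subgroup.index_ker, ← χ.ker.card_mul_index]
    congr 1
    exact Nat.card_congr
      { toFun := fun e => ⟨(e : E), (e : E).2, (hker _).1 e.2⟩
        invFun := fun e => ⟨⟨e, e.2.1⟩, (hker _).2 e.2.2⟩
        left_inv := fun _ => rfl
        right_inv := fun _ => rfl }
  rw [hcard, mul_comm r]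
  refine Nat.mul_le_mul_left _ ?_
  by_contra hgt
  push Not at hgt
  have hpow : ∀ e : E, χ e ^ r = 1 := by
    intro e
    apply Subtype.ext
    show ((e : G) * z * (e : G)⁻¹ * z⁻¹) ^ r = 1
    set ζ := (e : G) * z * (e : G)⁻¹ * z⁻¹ with hζ
    have h1 : (e : G) * z * (e : G)⁻¹ = ζ * z := by rw [hζ]; group
    have h2 := congrArg (· ^ r) h1
    rw [conj_pow, Subgroup.mem_center_iff.1 hzr, mul_inv_cancel_right,
      (show Commute ζ z from (Subgroup.mem_center_iff.1 (hfix e e.2) z).symm).mul_pow] at h2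
    exact right_eq_mul.1 h2
  obtain ⟨⟨ζa, a, rfl⟩, hane⟩ : ∃ q : χ.range, q ≠ 1 := by
    haveI : Nontrivial χ.range := Finite.one_lt_card_iff_nontrivial.1 (hr.out.one_lt.trans hgt)
    exact exists_ne 1
  have ha : χ a ≠ 1 := fun h1 => hane (Subtype.ext h1)
  have hord : orderOf (χ a) = r := orderOf_eq_prime (hpow a) ha
  obtain ⟨b, hb⟩ : ∃ b : E, χ b ∉ Subgroup.zpowers (χ a) := by
    by_contra hc
    push Not at hc
    have h3 : χ.range ≤ Subgroup.zpowers (χ a) := by rintro _ ⟨b, rfl⟩; exact hc b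
    have := Subgroup.card_le_of_le h3
    rw [Nat.card_zpowers, hord] at this
    omega
  have hlin : ∀ i j : ℕ, χ (a ^ i * b ^ j) = 1 → r ∣ j ∧ r ∣ i := by
    intro i j hij
    rw [map_mul, map_pow, map_pow] at hij
    have hj : r ∣ j := by
      by_contra hj
      refine hb ?_
      obtain ⟨n, hn⟩ := exists_pow_eq_self_of_coprime (n := j) (x := χ b)
        ((((hr.out.coprime_iff_not_dvd.2 hj).symm)).coprime_dvd_right (orderOf_dvd_of_pow_eq_one (hpow b)))
      rw [← hn, eq_inv_of_mul_eq_one_right hij]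
      exact pow_mem (inv_mem (pow_mem (Subgroup.mem_zpowers _) i)) n
    refine ⟨hj, ?_⟩
    obtain ⟨c, rfl⟩ := hj
    rw [pow_mul, hpow, one_pow, mul_one, ← orderOf_dvd_iff_pow_eq_one, hord] at hij
    exact hij
  set D := C[x] ⊓ N
  haveI : IsMulCommutative D := .of_setLike_mul_comm fun u hu v hv => m_struct H hx hx' hM hu.1 hu.2 hv.1
  letI : CommGroup D := { (inferInstance : Group D) with mul_comm := fun u v => mul_comm' u v }
  let f : E → D →* D := fun e => MonoidHom.mk'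
    (fun d => ⟨(e : G) * d * (e : G)⁻¹, hEn e e.2 d d.2.1, hNn.conj_mem d d.2.2 e⟩)
    (fun u v => Subtype.ext (by
      show (e : G) * ((u : G) * v) * (e : G)⁻¹ = (e : G) * u * (e : G)⁻¹ * ((e : G) * v * (e : G)⁻¹)
      group))
  have fmul : ∀ e e' : E, ∀ d, f (e * e') d = f e (f e' d) := fun e e' d => Subtype.ext (by
    show ((e : G) * e') * d * ((e : G) * e')⁻¹ = (e : G) * ((e' : G) * d * (e' : G)⁻¹) * (e : G)⁻¹
    group)
  have f1 : ∀ e : E, χ e = 1 → ∀ d, f e d = d := fun e he d => Subtype.ext (by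
    show (e : G) * d * (e : G)⁻¹ = d
    rw [← m_struct H hx hx' hM d.2.1 d.2.2 ((hker e).1 he), mul_inv_cancel_right])
  have fcongr : ∀ e e' : E, χ e = χ e' → ∀ d, f e d = f e' d := fun e e' he d => by
    conv_lhs => rw [show e = e' * (e'⁻¹ * e) from (mul_inv_cancel_left _ _).symm]
    rw [fmul, f1 (e'⁻¹ * e) (by rw [map_mul, map_inv, he, inv_mul_cancel])]
  obtain ⟨y, hy, hyN, hy', hyr⟩ := id hM
  set d₀ : D := ⟨y, hy, hyN⟩
  set K : Subgroup D := (Z₀).subgroupOf D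
  have hnorm : ∀ w : E, χ w ≠ 1 → ∏ i ∈ Finset.range r, f (w ^ i) d₀ ∈ K := by
    intro w hw
    set u := ∏ i ∈ Finset.range r, f (w ^ i) d₀ with hu
    have hfix' : f w u = u := by
      rw [hu, map_prod]
      have h1 : ∀ i, f w (f (w ^ i) d₀) = f (w ^ (i + 1)) d₀ := fun i => by rw [← fmul, ← pow_succ']
      rw [Finset.prod_congr rfl fun i _ => h1 i]
      have h2 := Finset.prod_range_succ' (fun i => f (w ^ i) d₀) r
      rw [Finset.prod_range_succ] at h2
      rw [fcongr (w ^ r) (w ^ 0) (by rw [map_pow, hpow, pow_zero, map_one])] at h2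
      exact (mul_right_cancel h2).symm
    by_contra huK
    refine hw ((hker w).2 ?_)
    have huK' : (u : G) ∉ Z₀ := huK
    obtain ⟨hCu, -⟩ := m_comm H hx hx' hM u.2.2 huK' u.2.1
    rw [← hCu, Subgroup.mem_centralizer_singleton_iff]
    exact mul_inv_eq_iff_eq_mul.1 (congrArg Subtype.val hfix')
  have hfK : ∀ e : E, ∀ u ∈ K, f e u ∈ K := fun e u hu =>
    (inferInstance : (Z₀).Normal).conj_mem (u : G) hu e
  have hbig : ∏ i ∈ Finset.range r, ∏ j ∈ Finset.range r, f (a ^ i * b ^ (i * j)) d₀ ∈ K := by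
    rw [Finset.prod_comm]
    refine prod_mem fun j _ => ?_
    have h1 : ∀ i, f (a ^ i * b ^ (i * j)) d₀ = f ((a * b ^ j) ^ i) d₀ := fun i => fcongr _ _ (by
      simp only [map_mul, map_pow]
      rw [(show Commute (χ a) (χ b ^ j) from Subtype.ext (Subgroup.mem_center_iff.1 (χ b ^ j).2 _)).mul_pow,
        ← pow_mul, mul_comm j i]) _
    rw [Finset.prod_congr rfl fun i _ => h1 i]
    refine hnorm _ fun h2 => ?_
    have h3 := (hlin 1 j (by rwa [pow_one])).2
    exact hr.out.not_dvd_one h3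
  have hsplit : ∀ i ∈ Finset.range r, i ≠ 0 → ∏ j ∈ Finset.range r, f (a ^ i * b ^ (i * j)) d₀ ∈ K := by
    intro i hi hi0
    have h1 : ∀ j, f (a ^ i * b ^ (i * j)) d₀ = f (a ^ i) (f ((b ^ i) ^ j) d₀) := fun j => by
      rw [← fmul, ← pow_mul]
    rw [Finset.prod_congr rfl fun j _ => h1 j, ← map_prod]
    refine hfK _ _ (hnorm _ fun h2 => ?_)
    have h3 := (hlin 0 i (by rwa [pow_zero, one_mul])).1
    exact hi0 (Nat.eq_zero_of_dvd_of_lt h3 (Finset.mem_range.1 hi))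
  obtain ⟨r', hr'⟩ : ∃ r', r = r' + 1 := ⟨r - 1, (Nat.succ_pred_eq_of_pos hr.out.pos).symm⟩
  have h0 : ∏ j ∈ Finset.range r, f (a ^ 0 * b ^ (0 * j)) d₀ = d₀ ^ r := by
    have h1 : ∀ j, f (a ^ 0 * b ^ (0 * j)) d₀ = d₀ := fun j => f1 _ (by simp) _
    rw [Finset.prod_congr rfl fun j _ => h1 j, Finset.prod_const, Finset.card_range]
  have hrest : ∏ i ∈ (Finset.range r).erase 0, ∏ j ∈ Finset.range r, f (a ^ i * b ^ (i * j)) d₀ ∈ K :=
    prod_mem fun i hi => hsplit i (Finset.mem_of_mem_erase hi) (Finset.ne_of_mem_erase hi)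
  rw [← Finset.mul_prod_erase _ _ (Finset.mem_range.2 hr.out.pos), h0] at hbig
  have hd : d₀ ^ r ∈ K := (Subgroup.mul_mem_cancel_right _ hrest).1 hbig
  have hyr' : y ^ r ∈ Z₀ := hd
  exact hy' (Subgroup.zpowers_le.2 hyr' (exists_coprime_root hyr))

lemma card_sup_zpowers {K : Subgroup G} (hK : K ≤ Z₀) {a : G} (ha : a ∉ K) (har : a ^ r ∈ K) :
    Nat.card (K ⊔ Subgroup.zpowers a : Subgroup G) = r * Nat.card K := by
  haveI : K.Normal := ⟨fun u hu g => by rw [Subgroup.mem_center_iff.1 (hK hu) g, mul_inv_cancel_right]; exact hu⟩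
  have h := Subgroup.relIndex_sup_left (K := K) (H := Subgroup.zpowers a)
  have hi : K.relIndex (Subgroup.zpowers a) = r := by
    set q : Subgroup.zpowers a ⧸ K.subgroupOf (Subgroup.zpowers a) :=
      QuotientGroup.mk ⟨a, Subgroup.mem_zpowers a⟩
    have hgen : ∀ w, w ∈ Subgroup.zpowers q := by
      intro w
      induction w using QuotientGroup.induction_on with
      | H w =>
        obtain ⟨i, hi⟩ := w.2
        refine ⟨i, ?_⟩
        show q ^ i = _
        rw [show q ^ i = QuotientGroup.mk ((⟨a, Subgroup.mem_zpowers a⟩ : Subgroup.zpowers a) ^ i) from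
          (QuotientGroup.mk_zpow _ _ _).symm]
        congr 1
        exact Subtype.ext hi
    show (K.subgroupOf (Subgroup.zpowers a)).index = r
    rw [Subgroup.index_eq_card, ← orderOf_eq_card_of_forall_mem_zpowers hgen]
    refine orderOf_eq_prime ?_ ?_
    · rw [← QuotientGroup.mk_pow, QuotientGroup.eq_one_iff, Subgroup.mem_subgroupOf]
      simpa using har
    · rw [Ne, QuotientGroup.eq_one_iff, Subgroup.mem_subgroupOf]
      exact ha
  rw [hi] at h
  rw [← h, ← Nat.card_congr (Subgroup.subgroupOfEquivOfLe (le_sup_left : K ≤ K ⊔ Subgroup.zpowers a)).toEquiv,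
    mul_comm]
  exact ((K.subgroupOf (K ⊔ Subgroup.zpowers a)).card_mul_index).symm

/-- No element outside type `M` normalizes a component. -/
theorem no_other (H : Hyp N m r) {g x : G} (hgr : RPow r g) (hg' : g ∉ Z₀) (hgM : ¬ M N r g)
    (hxr : RPow r x) (hx' : x ∉ Z₀) (hM : M N r x) (hgn : ∀ u ∈ C[x], g * u * g⁻¹ ∈ C[x]) : False := by
  have hxN := rpow_mem H.idx hxr
  have hgN := rpow_mem H.idx hgr
  set T := rPart H x hxN hx' hM
  have hTp : IsPGroup r T := fun u => by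
    obtain ⟨k, hk⟩ := u.2.2; exact ⟨k, Subtype.ext hk⟩
  -- the central `r`-elements
  let Zr : Subgroup G :=
    { carrier := {u | u ∈ Z₀ ∧ RPow r u}
      one_mem' := ⟨one_mem _, 0, one_pow _⟩
      mul_mem' := fun {u v} hu hv => ⟨mul_mem hu.1 hv.1, by
        obtain ⟨k, hk⟩ := hu.2
        obtain ⟨l, hl⟩ := hv.2
        refine ⟨k + l, ?_⟩
        have hc : Commute u v := Subgroup.mem_center_iff.1 hv.1 u
        rw [hc.mul_pow, pow_add, pow_mul, hk, one_pow, one_mul, mul_comm, pow_mul, hl, one_pow]⟩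
      inv_mem' := fun {u} hu => ⟨inv_mem hu.1, hu.2.mem_zpowers (inv_mem (Subgroup.mem_zpowers u))⟩ }
  have hmeet : ∀ w, RPow r w → w ∉ Z₀ → ∀ g', RPow r g' → g' ∉ Z₀ → w ∈ C[g'] → M N r w → M N r g' := by
    intro w hw hw' g' hgr' hg'' hc hMw
    exact (m_comm H (rpow_mem H.idx hw) hw' hMw (rpow_mem H.idx hgr') hg''
      (Subgroup.mem_centralizer_singleton_iff.2 (Subgroup.mem_centralizer_singleton_iff.1 hc).symm)).2
  have hTM : ∀ w ∈ T, w ∉ Z₀ → C[w] = C[x] ∧ M N r w := fun w hw hw' =>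
    m_comm H hxN hx' hM (rpow_mem H.idx hw.2) hw' hw.1
  -- the order of `T` modulo the center is `r`
  have hTsmall : Nat.card T ≤ r * Nat.card Zr := by
    obtain ⟨R, hR⟩ := hTp.exists_le_sylow
    set E₀ := (R : Subgroup G) ⊓ Subgroup.normalizer (T : Set G)
    have hE₀C : ∀ e ∈ E₀, ∀ u ∈ C[x], e * u * e⁻¹ ∈ C[x] := by
      intro e he u hu
      have h1 : e * x * e⁻¹ ∈ T := (Subgroup.mem_normalizer_iff.1 he.2 x).1 ⟨self_mem x, hxr⟩
      obtain ⟨h2, -⟩ := hTM _ h1 (fun hc => hx' (conj_center_iff.1 hc))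
      rw [← map_conj_cent] at h2
      rw [← h2]
      exact ⟨u, hu, rfl⟩
    have hE₀ : Nat.card E₀ ≤ r * Nat.card T := by
      refine (card_le_component H hxN hx' hxr hM (R.isPGroup'.to_le inf_le_left) hE₀C).trans ?_
      exact Nat.mul_le_mul_left r (Subgroup.card_le_of_le fun u hu =>
        ⟨hu.2, rpow_of_isPGroup R.isPGroup' hu.1.1⟩)
    have hTE : T ≤ E₀ := le_inf hR Subgroup.le_normalizer
    by_contra hbig
    push Not at hbig
    have hcombine : ∀ (E U₁ U₂ : Subgroup G), U₁ ≤ E → U₂ ≤ E → E ≤ Subgroup.normalizer (U₁ : Set G) →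
        U₁ ⊓ U₂ ≤ Zr → Nat.card U₁ = Nat.card T → Nat.card U₂ = Nat.card T → Nat.card E ≤ r * Nat.card T →
        False := by
      intro E U₁ U₂ h1 h2 hn hint hc1 hc2 hcE
      have h := SolvBasic.card_sup_mul_card_inf (N := U₁) (H := U₂) (h2.trans hn)
      rw [hc1, hc2] at h
      have hle : Nat.card (U₁ ⊔ U₂ : Subgroup G) * Nat.card (U₁ ⊓ U₂ : Subgroup G) ≤ (r * Nat.card T) * Nat.card Zr :=
        Nat.mul_le_mul ((Subgroup.card_le_of_le (sup_le h1 h2)).trans hcE) (Subgroup.card_le_of_le hint)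
      rw [h, mul_comm r, mul_assoc] at hle
      exact absurd (Nat.le_of_mul_le_mul_left hle Nat.card_pos) (not_le.2 hbig)
    by_cases hE₀R : E₀ = R
    · -- move to a Sylow subgroup containing a Sylow subgroup of the centralizer of `g`
      obtain ⟨S⟩ := (inferInstance : Nonempty (Sylow r C[g]))
      set U := (S : Subgroup C[g]).map C[g].subtype with hU
      have hUc : Nat.card U = Nat.card T := by
        rw [hU, Subgroup.card_map_of_injective C[g].subtype_injective, S.card_eq_multiplicity,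
          card_rPart, card_cent H.one hgN hg' hxN hx']
      obtain ⟨E, hUE⟩ := (S.isPGroup'.map C[g].subtype).exists_le_sylow
      obtain ⟨h, hh⟩ := MulAction.exists_smul_eq G R E
      set T'' := T.map (MulAut.conj h).toMonoidHom with hT''
      have hT''E : T'' ≤ (E : Subgroup G) := by rw [← hh]; exact Subgroup.map_mono hR
      refine hcombine E T'' U hT''E hUE ?_ ?_ ?_ hUc ?_
      · intro e he
        have he' : e ∈ (MulAut.conj h) • (R : Subgroup G) := by rw [← hh] at he; exact he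
        obtain ⟨e0, he0, rfl⟩ := he'
        have h1 : e0 ∈ Subgroup.normalizer (T : Set G) :=
          (show e0 ∈ E₀ by rw [hE₀R]; exact he0).2
        rw [hT'', Subgroup.mem_normalizer_iff]
        intro w
        rw [Subgroup.mem_map_equiv, Subgroup.mem_map_equiv, MulAut.conj_symm_apply, MulAut.conj_symm_apply,
          Subgroup.mem_normalizer_iff.1 h1 (h⁻¹ * w * h)]
        show e0 * (h⁻¹ * w * h) * e0⁻¹ ∈ T ↔ h⁻¹ * (h * e0 * h⁻¹ * w * (h * e0 * h⁻¹)⁻¹) * h ∈ T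
        rw [show h⁻¹ * (h * e0 * h⁻¹ * w * (h * e0 * h⁻¹)⁻¹) * h = e0 * (h⁻¹ * w * h) * e0⁻¹ by group]
      · rintro w ⟨⟨w0, hw0, rfl⟩, hwU⟩
        refine ⟨?_, (hw0.2.conj h : RPow r (h * w0 * h⁻¹))⟩
        by_contra hwz
        have hw0' : w0 ∉ Z₀ := fun hc => hwz (conj_center_iff.2 hc)
        obtain ⟨s, hs, hse⟩ := hwU
        exact hgM (hmeet _ (hw0.2.conj h) hwz g hgr hg'
          (by rw [show h * w0 * h⁻¹ = (s : G) from hse.symm]; exact s.2) (m_conj (hTM w0 hw0 hw0').2 h))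
      · rw [hT'', Subgroup.card_map_of_injective (f := (MulAut.conj h).toMonoidHom) (MulAut.conj h).injective]
      · rw [← hh]
        show Nat.card ((MulAut.conj h) • (R : Subgroup G) : Subgroup G) ≤ _
        rw [SolvBasic.card_conjSmul, ← hE₀R]
        exact hE₀
    · haveI := R.isPGroup'.isNilpotent
      have hlt : E₀.subgroupOf R < ⊤ := by
        rw [lt_top_iff_ne_top, Ne, Subgroup.subgroupOf_eq_top]
        exact fun h => hE₀R (le_antisymm inf_le_left h)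
      obtain ⟨k, hk1, hk2⟩ := SetLike.exists_of_lt (Group.normalizerCondition_of_isNilpotent _ hlt)
      have hk2' : (k : G) ∉ Subgroup.normalizer (T : Set G) := fun hc => hk2 ⟨k.2, hc⟩
      set T' := T.map (MulAut.conj (k : G)).toMonoidHom with hT'
      have hT'E : T' ≤ E₀ := by
        rintro _ ⟨w, hw, rfl⟩
        exact (Subgroup.mem_normalizer_iff.1 hk1 ⟨w, hR hw⟩).1 (hTE hw)
      refine hcombine E₀ T T' hTE hT'E inf_le_right ?_ rfl
        (by rw [hT', Subgroup.card_map_of_injective (f := (MulAut.conj (k : G)).toMonoidHom) (MulAut.conj (k : G)).injective])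
        hE₀
      rintro w ⟨hwT, w0, hw0, rfl⟩
      refine ⟨?_, hwT.2⟩
      by_contra hwz
      have hw0' : w0 ∉ Z₀ := fun hc => hwz (conj_center_iff.2 hc)
      obtain ⟨e1, -⟩ := hTM _ hwT hwz
      obtain ⟨e2, -⟩ := hTM w0 hw0 hw0'
      have e3 : C[x].map (MulAut.conj (k : G)).toMonoidHom = C[x] := by
        nth_rewrite 1 [← e2]
        rw [map_conj_cent]
        exact e1
      apply hk2'
      rw [Subgroup.mem_normalizer_iff]
      intro u
      refine ⟨fun hu => ⟨e3 ▸ ⟨u, hu.1, rfl⟩, hu.2.conj k⟩, fun hu => ?_⟩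
      have h1 : (k : G) * u * (k : G)⁻¹ ∈ C[x].map (MulAut.conj (k : G)).toMonoidHom := e3.symm ▸ hu.1
      obtain ⟨v, hv, hve⟩ := h1
      have hvu : v = u := (MulAut.conj (k : G)).injective hve
      have h2 := hu.2.conj (k : G)⁻¹
      simp only [inv_inv, mul_assoc, inv_mul_cancel_left, inv_mul_cancel, mul_one] at h2
      exact ⟨hvu ▸ hv, h2⟩
  -- the centralizer of `g` inside `N`
  set W₀ := Zr ⊔ Subgroup.zpowers g with hW₀
  have hW₀L : W₀ ≤ C[g] := sup_le (fun u hu => Subgroup.center_le_centralizer _ hu.1) (Subgroup.zpowers_le.2 (self_mem g))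
  have hW₀p : IsPGroup r W₀ := by
    have hZrp : IsPGroup r Zr := fun u => by obtain ⟨k, hk⟩ := u.2.2; exact ⟨k, Subtype.ext hk⟩
    refine hZrp.to_sup_of_normal_left' hgr.isPGroup_zpowers ?_
    intro e _
    refine Subgroup.centralizer_le_normalizer _ (Subgroup.mem_centralizer_iff.2 fun u hu => ?_)
    exact (Subgroup.mem_center_iff.1 hu.1 e).symm
  have hbound : ∀ W : Subgroup G, W ≤ C[g] → IsPGroup r W → Nat.card W ≤ r * Nat.card Zr := by
    intro W hW hWp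
    obtain ⟨j, hj⟩ := IsPGroup.iff_card.1 hWp
    refine le_trans ?_ hTsmall
    rw [card_rPart, ← card_cent H.one hgN hg' hxN hx', hj]
    refine Nat.pow_le_pow_right hr.out.pos ((hr.out.pow_dvd_iff_le_factorization Nat.card_pos.ne').1 ?_)
    rw [← hj]; exact Subgroup.card_dvd_of_le hW
  have hW₀c : r * Nat.card Zr ≤ Nat.card W₀ := by
    have hlt : Zr < W₀ := lt_of_le_of_ne le_sup_left fun h => hg' (h ▸ Subgroup.mem_sup_right (Subgroup.mem_zpowers g) : g ∈ Zr).1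
    obtain ⟨i, hi⟩ := IsPGroup.iff_card.1 (hW₀p.to_le hlt.le)
    obtain ⟨j, hj⟩ := IsPGroup.iff_card.1 hW₀p
    have h1 := Set.ncard_lt_ncard hlt
    change Nat.card Zr < Nat.card W₀ at h1
    rw [hi, hj] at h1 ⊢
    rw [← pow_succ']
    exact Nat.pow_le_pow_right hr.out.pos ((Nat.pow_lt_pow_iff_right hr.out.one_lt).1 h1)
  set A := (Z₀ ⊓ N) ⊔ Subgroup.zpowers g with hA
  have hLA : C[g] ⊓ N ≤ A := by
    intro u hu
    obtain ⟨a, b, ha, hb, hab, har, hbr⟩ := exists_parts (r := r) u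
    have ha1 := Subgroup.zpowers_le.2 hu ha
    have hb1 := Subgroup.zpowers_le.2 hu hb
    rw [hab]
    refine mul_mem ?_ ?_
    · set W := W₀ ⊔ Subgroup.zpowers a
      have haW : Subgroup.zpowers a ≤ Subgroup.normalizer (W₀ : Set G) := by
        refine Subgroup.zpowers_le.2 (Subgroup.centralizer_le_normalizer _ ?_)
        have hle : W₀ ≤ C[a] := sup_le (fun w hw => Subgroup.center_le_centralizer _ hw.1)
          (Subgroup.zpowers_le.2 (Subgroup.mem_centralizer_singleton_iff.2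
            (Subgroup.mem_centralizer_singleton_iff.1 ha1.1).symm))
        exact Subgroup.mem_centralizer_iff.2 fun w hw => Subgroup.mem_centralizer_singleton_iff.1 (hle hw)
      have hWle := hbound W (sup_le hW₀L (Subgroup.zpowers_le.2 ha1.1))
        (hW₀p.to_sup_of_normal_left' har.isPGroup_zpowers haW)
      have hWeq : W₀ = W := Subgroup.eq_of_le_of_card_ge le_sup_left (hWle.trans hW₀c)
      have haW₀ : a ∈ W₀ := hWeq ▸ Subgroup.mem_sup_right (Subgroup.mem_zpowers a)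
      have hle2 : W₀ ≤ A := sup_le (fun w hw => Subgroup.mem_sup_left (Subgroup.mem_inf.2 ⟨hw.1, rpow_mem H.idx hw.2⟩)) le_sup_right
      exact hle2 haW₀
    · refine Subgroup.mem_sup_left ⟨?_, hb1.2⟩
      by_contra hbz
      exact hgM ⟨b, hb1.1, hb1.2, hbz, hbr⟩
  have hgr' : g ^ r ∈ Z₀ := by
    have h1 : Nat.card W₀ ≤ r * Nat.card Zr := hbound W₀ hW₀L hW₀p
    haveI : (Zr.subgroupOf W₀).Normal := ⟨fun u hu w => by
      rw [Subgroup.mem_subgroupOf] at hu ⊢
      push_cast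
      rw [Subgroup.mem_center_iff.1 hu.1 (w : G), mul_inv_cancel_right]
      exact hu⟩
    have h2 := (Zr.subgroupOf W₀).card_mul_index
    rw [Nat.card_congr (Subgroup.subgroupOfEquivOfLe (le_sup_left : Zr ≤ W₀)).toEquiv,
      le_antisymm h1 hW₀c, mul_comm r] at h2
    have h3 : (Zr.subgroupOf W₀).index = r := Nat.eq_of_mul_eq_mul_left Nat.card_pos h2
    have h4 := Subgroup.pow_index_mem (Zr.subgroupOf W₀) ⟨g, Subgroup.mem_sup_right (Subgroup.mem_zpowers g)⟩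
    rw [h3, Subgroup.mem_subgroupOf] at h4
    exact h4.1
  -- compare with a fixed element of the component
  obtain ⟨z, hzT, hz', hzr, hfix⟩ := exists_fixed hTp hgr.isPGroup_zpowers (by
    refine Subgroup.zpowers_le.2 (Subgroup.mem_normalizer_iff.2 fun u => ⟨fun hu => ⟨hgn u hu.1, hu.2.conj g⟩, fun hu => ?_⟩)
    have hgn' : ∀ w ∈ C[x], g⁻¹ * w * g ∈ C[x] := by
      intro w hw
      have hmap : C[x].map (MulAut.conj g).toMonoidHom = C[x] :=
        Subgroup.eq_of_le_of_card_ge (fun _ ⟨v, hv, hv'⟩ => hv' ▸ hgn v hv)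
          (Subgroup.card_map_of_injective (f := (MulAut.conj g).toMonoidHom) (MulAut.conj g).injective).ge
      rw [← hmap, Subgroup.mem_map_equiv, MulAut.conj_symm_apply] at hw
      exact hw
    have h1 := hgn' _ hu.1
    have h2 := hu.2.conj g⁻¹
    simp only [inv_inv, mul_assoc, inv_mul_cancel_left, inv_mul_cancel, mul_one] at h1 h2
    exact ⟨h1, h2⟩) (fun hle => hx' (hle ⟨self_mem x, hxr⟩))
  obtain ⟨hCz, hzM⟩ := hTM z hzT hz'
  have hzN := rpow_mem H.idx hzT.2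
  have hzg : z * g * z⁻¹ * g⁻¹ ∈ Z₀ := by
    have h1 := inv_mem (hfix g (Subgroup.mem_zpowers g))
    rwa [show (g * z * g⁻¹ * z⁻¹)⁻¹ = z * g * z⁻¹ * g⁻¹ by group] at h1
  have hle := cover_card H hgN hg' hzN hz' (fun u hu huN c hc => by
    have hcomm : A ≤ C[c] := sup_le (fun w hw => Subgroup.center_le_centralizer _ hw.1)
      (Subgroup.zpowers_le.2 (Subgroup.mem_centralizer_singleton_iff.2
        (Subgroup.mem_centralizer_singleton_iff.1 hc).symm))
    exact Subgroup.mem_centralizer_singleton_iff.1 (hcomm (hLA ⟨hu, huN⟩))) hzg hzT.2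
  have hAc : Nat.card A = r * Nat.card (Z₀ ⊓ N : Subgroup G) :=
    card_sup_zpowers inf_le_left (fun h => hg' h.1) ⟨hgr', pow_mem hgN r⟩
  set A' := (Z₀ ⊓ N) ⊔ Subgroup.zpowers z
  have hA'c : Nat.card A' = r * Nat.card (Z₀ ⊓ N : Subgroup G) :=
    card_sup_zpowers inf_le_left (fun h => hz' h.1) ⟨hzr, pow_mem hzN r⟩
  obtain ⟨y, hy, hyN, hy', hyr⟩ := id hzM
  have hlt : A' < C[z] ⊓ N := by
    refine lt_of_le_of_ne (sup_le (le_inf (inf_le_left.trans (Subgroup.center_le_centralizer _)) inf_le_right)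
      (Subgroup.zpowers_le.2 ⟨self_mem z, hzN⟩)) fun heq => ?_
    have hyA : y ∈ A' := heq ▸ (⟨hy, hyN⟩ : y ∈ C[z] ⊓ N)
    obtain ⟨c, hc, w, hw, rfl⟩ : ∃ c ∈ Z₀ ⊓ N, ∃ w ∈ Subgroup.zpowers z, c * w = y := by
      haveI : (Z₀ ⊓ N).Normal := Subgroup.normal_inf_normal _ _
      exact Subgroup.mem_sup_of_normal_left.1 hyA
    obtain ⟨i, rfl⟩ := hw
    have h1 : (c * z ^ i) ^ r ∈ Z₀ := by
      rw [(show Commute c (z ^ i) from (Subgroup.mem_center_iff.1 hc.1 _).symm).mul_pow,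
        ← zpow_natCast (z ^ i), ← zpow_mul, mul_comm, zpow_mul, zpow_natCast]
      exact mul_mem (pow_mem hc.1 r) (zpow_mem hzr i)
    exact hy' (Subgroup.zpowers_le.2 h1 (exists_coprime_root hyr))
  have h1 := Set.ncard_lt_ncard hlt
  change Nat.card A' < Nat.card (C[z] ⊓ N : Subgroup G) at h1
  have h2 := Subgroup.card_le_of_le hLA
  omega

theorem main (H : Hyp N m r) : Group.IsNilpotent N := by
  by_cases hall : ∀ u ∈ N, ¬ r ∣ orderOf u → u ∈ Z₀
  · exact isNilpotent_of_central (r := r) fun u hu hur w _ =>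
      (Subgroup.mem_center_iff.1 (hall u hu hur) w).symm
  push Not at hall
  obtain ⟨y₁, hy₁N, hy₁r, hy₁'⟩ := hall
  obtain ⟨x₁, hx₁y, hx₁r, hx₁'⟩ := exists_r_mem H hy₁N hy₁'
  have hx₁M : M N r x₁ := (m_comm H hy₁N hy₁' ⟨y₁, self_mem _, hy₁N, hy₁', hy₁r⟩
    (rpow_mem H.idx hx₁r) hx₁' hx₁y).2
  have hz2 : ∀ (R : Sylow r G), ¬ (R : Subgroup G) ≤ Z₀ →
      ∃ z ∈ (R : Subgroup G), z ∉ Z₀ ∧ ∀ e ∈ (R : Subgroup G), e * z * e⁻¹ * z⁻¹ ∈ Z₀ := by
    intro R hR
    obtain ⟨z, hz, hz', -, hf⟩ := exists_fixed R.isPGroup' R.isPGroup' Subgroup.le_normalizer hR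
    exact ⟨z, hz, hz', hf⟩
  obtain ⟨R₁, hR₁⟩ := hx₁r.isPGroup_zpowers.exists_le_sylow
  have hx₁R : x₁ ∈ (R₁ : Subgroup G) := hR₁ (Subgroup.mem_zpowers x₁)
  obtain ⟨z₁, hz₁R, hz₁', hz₁f⟩ := hz2 R₁ fun hle => hx₁' (hle hx₁R)
  have hinv : ∀ a b : G, a * b * a⁻¹ * b⁻¹ ∈ Z₀ → b * a * b⁻¹ * a⁻¹ ∈ Z₀ := fun a b h => by
    have h1 := inv_mem h
    rwa [show (a * b * a⁻¹ * b⁻¹)⁻¹ = b * a * b⁻¹ * a⁻¹ by group] at h1
  have hz₁r := rpow_of_isPGroup R₁.isPGroup' hz₁R
  have hz₁M : M N r z₁ := by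
    by_contra hnot
    exact no_other H hz₁r hz₁' hnot hx₁r hx₁' hx₁M fun u hu => conj_mem_cent (hinv _ _ (hz₁f x₁ hx₁R)) hu
  have hzone : ∀ g : G, RPow r g → ∃ z, RPow r z ∧ z ∉ Z₀ ∧ M N r z ∧ g * z * g⁻¹ * z⁻¹ ∈ Z₀ ∧
      Nat.card (C[z] ⊓ N : Subgroup G) = Nat.card (C[z₁] ⊓ N : Subgroup G) := by
    intro g hg
    obtain ⟨R, hR⟩ := hg.isPGroup_zpowers.exists_le_sylow
    obtain ⟨h, hh⟩ := MulAction.exists_smul_eq G R₁ R
    refine ⟨h * z₁ * h⁻¹, hz₁r.conj h, fun hc => hz₁' (conj_center_iff.1 hc), m_conj hz₁M h, ?_, ?_⟩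
    · have hgR : g ∈ (R : Subgroup G) := hR (Subgroup.mem_zpowers g)
      rw [← hh] at hgR
      obtain ⟨g₀, hg₀, rfl⟩ := hgR
      have h1 := (inferInstance : (Z₀).Normal).conj_mem _ (hz₁f g₀ hg₀) h
      show h * g₀ * h⁻¹ * (h * z₁ * h⁻¹) * (h * g₀ * h⁻¹)⁻¹ * (h * z₁ * h⁻¹)⁻¹ ∈ Z₀
      rwa [show h * g₀ * h⁻¹ * (h * z₁ * h⁻¹) * (h * g₀ * h⁻¹)⁻¹ * (h * z₁ * h⁻¹)⁻¹ =
        h * (g₀ * z₁ * g₀⁻¹ * z₁⁻¹) * h⁻¹ by group]
    · have e : (C[z₁] ⊓ N).map (MulAut.conj h).toMonoidHom = C[h * z₁ * h⁻¹] ⊓ N := by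
        rw [Subgroup.map_inf _ _ _ (MulAut.conj h).injective, map_conj_cent]
        congr 1
        exact Subgroup.mem_normalizer_iff_map_conj_eq.1 (by rw [Subgroup.normalizer_eq_top]; trivial)
      rw [← e, Subgroup.card_map_of_injective (f := (MulAut.conj h).toMonoidHom) (MulAut.conj h).injective]
  have hrM : ∀ g, RPow r g → g ∉ Z₀ → M N r g := by
    intro g hg hg'
    obtain ⟨z, hzr, hz', hzM, hgz, -⟩ := hzone g hg
    by_contra hnot
    exact no_other H hg hg' hnot hzr hz' hzM fun u hu => conj_mem_cent hgz hu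
  have hallM : ∀ g ∈ N, g ∉ Z₀ → M N r g := by
    intro g hg hg'
    obtain ⟨x, hxg, hxr, hx'⟩ := exists_r_mem H hg hg'
    exact (m_comm H (rpow_mem H.idx hxr) hx' (hrM x hxr hx') hg hg'
      (Subgroup.mem_centralizer_singleton_iff.2 (Subgroup.mem_centralizer_singleton_iff.1 hxg).symm)).2
  have hcard : ∀ g ∈ N, g ∉ Z₀ → Nat.card (C[g] ⊓ N : Subgroup G) = Nat.card (C[z₁] ⊓ N : Subgroup G) := by
    intro g hg hg'
    obtain ⟨x, hxg, hxr, hx'⟩ := exists_r_mem H hg hg'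
    have hxN := rpow_mem H.idx hxr
    rw [← (m_comm H hg hg' (hallM g hg hg') hxN hx' hxg).1]
    obtain ⟨z, hzr, hz', hzM, hxz, hzc⟩ := hzone x hxr
    have hzN := rpow_mem H.idx hzr
    rw [← hzc]
    refine le_antisymm
      (cover_card H hzN hz' hxN hx' (fun u hu huN c hc => m_struct H hzN hz' hzM hu huN hc) hxz hxr)
      (cover_card H hxN hx' hzN hz' (fun u hu huN c hc => m_struct H hxN hx' (hrM x hxr hx') hu huN hc)
        (hinv _ _ hxz) hzr)
  -- elements central in `N`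
  by_cases hab : ∀ u ∈ N, ∀ w ∈ N, u * w = w * u
  · exact isNilpotent_of_central (r := r) fun u hu _ w hw => hab u hu w hw
  have hcenter : ∀ g : N, g ∈ Subgroup.center N → (g : G) ∈ Z₀ := by
    intro g hgc
    by_contra hg'
    refine hab fun u hu w hw => ?_
    have hin : ∀ v ∈ N, v ∈ C[(g : G)] := fun v hv =>
      Subgroup.mem_centralizer_singleton_iff.2 (congrArg Subtype.val (Subgroup.mem_center_iff.1 hgc ⟨v, hv⟩))
    exact m_struct H g.2 hg' (hallM g g.2 hg') (hin u hu) hu (hin w hw)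
  exfalso
  set d := Nat.card (C[z₁] ⊓ N : Subgroup G)
  have hidx : ∀ g : N, g ∉ Subgroup.center N →
      (Subgroup.centralizer ({g} : Set N)).index * d = Nat.card N := by
    intro g hg
    have hg' : (g : G) ∉ Z₀ := fun hc => hg (Subgroup.mem_center_iff.2 fun w =>
      Subtype.ext (Subgroup.mem_center_iff.1 hc w))
    have hc1 : Nat.card (Subgroup.centralizer ({g} : Set N)) = d := by
      rw [← hcard g g.2 hg']
      exact Nat.card_congr
        { toFun := fun v => ⟨((v : N) : G), Subgroup.mem_centralizer_singleton_iff.2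
            (congrArg Subtype.val (Subgroup.mem_centralizer_singleton_iff.1 v.2)), (v : N).2⟩
          invFun := fun v => ⟨⟨(v : G), v.2.2⟩, Subgroup.mem_centralizer_singleton_iff.2
            (Subtype.ext (Subgroup.mem_centralizer_singleton_iff.1 v.2.1))⟩
          left_inv := fun _ => rfl
          right_inv := fun _ => rfl }
    rw [← hc1, mul_comm]
    exact Subgroup.card_mul_index _
  have hx₁c : (⟨x₁, rpow_mem H.idx hx₁r⟩ : N) ∉ Subgroup.center N := fun hc => hx₁' (hcenter _ hc)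
  have hy₁c : (⟨y₁, hy₁N⟩ : N) ∉ Subgroup.center N := fun hc => hy₁' (hcenter _ hc)
  set n := (Subgroup.centralizer ({(⟨y₁, hy₁N⟩ : N)} : Set N)).index
  have htwo : S4134.TwoSizes N n := fun g hg => Nat.eq_of_mul_eq_mul_right
    (show 0 < d from Nat.card_pos) ((hidx g hg).trans (hidx _ hy₁c).symm)
  have hn : 1 < n := (Nat.one_lt_iff_ne_zero_and_ne_one).2 ⟨Subgroup.index_ne_zero_of_finite, fun h1 => by
    rw [Subgroup.index_eq_one, Subgroup.centralizer_eq_top_iff_subset, Set.singleton_subset_iff] at h1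
    exact hy₁c h1⟩
  -- a prime-power part of `y₁`
  have hq : ∃ q, q.Prime ∧ q ≠ r ∧ S4134.NC N q := by
    by_contra hcon
    push Not at hcon
    refine hy₁c (S4134.le_of_primePow (H := Subgroup.zpowers (⟨y₁, hy₁N⟩ : N)) (fun s hs w hw hwk => ?_)
      (Subgroup.mem_zpowers _))
    by_cases hsr : s = r
    · obtain ⟨k, hk⟩ := hwk
      have h1 : orderOf w ∣ orderOf y₁ := by
        rw [← Subgroup.orderOf_mk y₁ hy₁N]; exact orderOf_dvd_of_mem_zpowers hw
      rcases Nat.eq_zero_or_pos k with hk0 | hk0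
      · rw [hk0, pow_zero, orderOf_eq_one_iff] at hk
        rw [hk]; exact one_mem _
      · exact absurd ((hsr ▸ hk ▸ dvd_pow_self s hk0.ne' : r ∣ orderOf w).trans h1) hy₁r
    · by_contra hwc
      exact hcon s hs hsr ⟨w, hwk, hwc⟩
  obtain ⟨q, hq, hqr, hqN⟩ := hq
  obtain ⟨k, hk⟩ := hx₁r.orderOf_eq
  exact hqr (S4134.nc_unique htwo hn hq hr.out hqN ⟨⟨x₁, _⟩, ⟨k, by rw [Subgroup.orderOf_mk, hk]⟩, hx₁c⟩)

end

end Cfsg.Agent.S4135


set_option autoImplicit false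
open Cfsg

namespace Cfsg.Agent.S4135

/-- Let G be a finite group, r a prime and R a Sylow r-subgroup of G that is not central, N a normal subgroup of G containing R, and m a natural number such that every element of N has a conjugacy class in G of size 1 or m. Then N is nilpotent. -/
theorem result {G : Type*} [Group G] [Finite G] (r : ℕ) [Fact r.Prime]
    (R : Sylow r G) (hR : ¬ (R : Subgroup G) ≤ Subgroup.center G) (N : Subgroup G) [N.Normal] (hRN : (R : Subgroup G) ≤ N)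
    (m : ℕ) (h : ∀ x ∈ N, (Subgroup.centralizer ({x} : Set G)).index = 1 ∨ (Subgroup.centralizer ({x} : Set G)).index = m) : Group.IsNilpotent N := by
  refine S4135.main (r := r) (m := m) ⟨fun x hx hx' => (h x hx).resolve_left fun h1 => hx' ?_, ?_, ?_⟩
  · rw [Subgroup.index_eq_one, Subgroup.centralizer_eq_top_iff_subset, Set.singleton_subset_iff] at h1
    exact h1
  · exact fun hd => R.not_dvd_index (hd.trans (Subgroup.index_dvd_of_le hRN))
  · obtain ⟨x, hx, hx'⟩ := SetLike.not_le_iff_exists.1 hR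
    exact ⟨x, S4135.rpow_of_isPGroup R.isPGroup' hx, hx'⟩

end Cfsg.Agent.S4135
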