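import Cfsg.Statements.S4138
import Mathlib
import Cfsg.Agent.S4135
import Cfsg.Agent.Lib.Solvable.Hall
import Cfsg.Agent.Lib.Solvable.Basic
import Cfsg.Agent.Lib.Solvable.Coprime
import Cfsg.Agent.Lib.Solvable.FixedPointFree

set_option autoImplicit false
set_option linter.style.haveILetI false

namespace Cfsg.Agent.S4138

open Cfsg.Agent
open scoped Classical Pointwise

variable {G : Type*} [Group G] [Finite G] {m n : ℕ}

local notation "C[" x "]" => Subgroup.centralizer ({x} : Set G)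
local notation "Z₀" => Subgroup.center G
local notation "RP" => S4135.RPow

omit [Finite G] in
lemma index_one_iff {z : G} : C[z].index = 1 ↔ z ∈ Z₀ := by
  rw [Subgroup.index_eq_one, Subgroup.mem_center_iff]
  constructor
  · intro h g
    exact Subgroup.mem_centralizer_singleton_iff.1 (h ▸ Subgroup.mem_top g)
  · intro h
    rw [eq_top_iff]
    exact fun g _ => Subgroup.mem_centralizer_singleton_iff.2 (h g)

omit [Finite G] in
lemma center_le_cent (g : G) : Z₀ ≤ C[g] := fun _ hz =>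
  Subgroup.mem_centralizer_singleton_iff.2 (Subgroup.mem_center_iff.1 hz g).symm

omit [Finite G] in
lemma mem_cent_comm {a b : G} (h : a ∈ C[b]) : b ∈ C[a] :=
  Subgroup.mem_centralizer_singleton_iff.2 (Subgroup.mem_centralizer_singleton_iff.1 h).symm

omit [Finite G] in
lemma mul_center_cent {a z : G} (hz : z ∈ Z₀) : C[z * a] = C[a] := by
  ext w
  have hzw := Subgroup.mem_center_iff.1 hz w
  rw [Subgroup.mem_centralizer_singleton_iff, Subgroup.mem_centralizer_singleton_iff, ← mul_assoc,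
    hzw, mul_assoc, mul_assoc]
  exact mul_left_cancel_iff

omit [Finite G] in
lemma cent_mul {a b : G} (h : Commute a b) (hco : (orderOf a).Coprime (orderOf b)) :
    C[a * b] = C[a] ⊓ C[b] := by
  refine le_antisymm ?_ ?_
  · have hmem : ∀ u v : G, Commute u v → (orderOf u).Coprime (orderOf v) →
        u ∈ Subgroup.zpowers (u * v) := by
      intro u v huv hc
      obtain ⟨i, hi1, hi0⟩ := Nat.chineseRemainder hc 1 0
      refine ⟨(i : ℤ), ?_⟩
      show (u * v) ^ (i : ℤ) = u
      rw [zpow_natCast, huv.mul_pow, pow_eq_pow_iff_modEq.2 hi1, pow_eq_pow_iff_modEq.2 hi0, pow_one,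
        pow_zero, mul_one]
    exact le_inf (S4135.cent_le_zpowers (hmem a b h hco))
      (S4135.cent_le_zpowers (h.eq ▸ hmem b a h.symm hco.symm))
  · intro w hw
    have h1 := Subgroup.mem_centralizer_singleton_iff.1 hw.1
    have h2 := Subgroup.mem_centralizer_singleton_iff.1 hw.2
    rw [Subgroup.mem_centralizer_singleton_iff, ← mul_assoc, h1, mul_assoc, h2, ← mul_assoc]

omit [Finite G] in
lemma cls_card (g : G) : {v : G | IsConj v g}.ncard = C[g].index := by
  rw [Subgroup.centralizer_eq_comap_stabilizer]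
  refine Eq.trans ?_ (Subgroup.index_comap_of_surjective (f := (ConjAct.toConjAct (G := G)).toMonoidHom) _
    (ConjAct.toConjAct (G := G)).surjective).symm
  rw [MulAction.index_stabilizer]
  congr 1
  ext v
  exact ConjAct.mem_orbit_conjAct.symm

lemma index_inf {H K : Subgroup G} (h : H.index.Coprime K.index) :
    (H ⊓ K).index = H.index * K.index := by
  refine le_antisymm Subgroup.index_inf_le (Nat.le_of_dvd ?_ ?_)
  · exact Nat.pos_of_ne_zero Subgroup.index_ne_zero_of_finite
  · exact h.mul_dvd_of_dvd_of_dvd (Subgroup.index_dvd_of_le inf_le_left)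
      (Subgroup.index_dvd_of_le inf_le_right)

lemma conj_index (h x : G) : C[h * x * h⁻¹].index = C[x].index := by
  rw [← S4135.map_conj_cent, Subgroup.index_map_of_bijective (MulAut.conj h).bijective]

/-- The set of left multiplications preserving a conjugacy class. -/
def stab (w : G) : Subgroup G := MulAction.stabilizer G {v : G | IsConj v w}

lemma mem_stab {h w : G} : h ∈ stab w ↔ ∀ v, IsConj v w → IsConj (h * v) w :=
  MulAction.mem_stabilizer_set' (Set.toFinite _)

instance stab_normal (w : G) : (stab w).Normal := ⟨fun h hh g => by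
  rw [mem_stab] at hh ⊢
  intro v hv
  have hc : ∀ a u : G, IsConj (a * u * a⁻¹) u := fun a u => (isConj_iff.2 ⟨a, rfl⟩).symm
  have := hh (g⁻¹ * v * g⁻¹⁻¹) ((hc _ _).trans hv)
  refine IsConj.trans ?_ this
  rw [show g * h * g⁻¹ * v = g * (h * (g⁻¹ * v * g⁻¹⁻¹)) * g⁻¹ by group]
  exact hc _ _⟩

lemma stab_dvd (w : G) : Nat.card (stab w) ∣ C[w].index := by
  rw [← cls_card, ← Nat.card_coe_set_eq]
  letI : MulAction (stab w) {v : G | IsConj v w} :=
    { smul := fun s v => ⟨(s : G) * v, mem_stab.1 s.2 v v.2⟩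
      one_smul := fun v => Subtype.ext (one_mul _)
      mul_smul := fun s t v => Subtype.ext (mul_assoc _ _ _) }
  have hfree : ∀ v : {v : G | IsConj v w}, MulAction.stabilizer (stab w) v = ⊥ := by
    intro v
    rw [eq_bot_iff]
    intro s hs
    have h1 : (s : G) * v = v := congrArg Subtype.val hs
    exact Subgroup.mem_bot.2 (Subtype.ext (mul_eq_right.1 h1))
  rw [Nat.card_congr (MulAction.selfEquivOrbitsQuotientProd hfree), Nat.card_prod]
  exact dvd_mul_left _ _

/-- Two classes of coprime sizes whose product class is no larger than the second factor. -/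
lemma prod_class {z w : G} (hco : C[z].index.Coprime C[w].index)
    (hle : C[z * w].index ≤ C[w].index) (g : G) : z⁻¹ * (g * z * g⁻¹) ∈ stab w := by
  set W : Set G := {v | IsConj v w}
  have hc : ∀ a u : G, IsConj (a * u * a⁻¹) u := fun a u => (isConj_iff.2 ⟨a, rfl⟩).symm
  have heq : ∀ a : G, (fun v => a * z * a⁻¹ * v) '' W = {v | IsConj v (z * w)} := by
    intro a
    refine Set.eq_of_subset_of_ncard_le ?_ ?_ (Set.toFinite _)
    · rintro _ ⟨v, hv, rfl⟩
      obtain ⟨b, rfl⟩ := isConj_iff.1 (IsConj.symm hv)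
      obtain ⟨c, hc', d, hd, hcd⟩ := HallSolv.exists_mul_of_coprime_index hco (a⁻¹ * b)
      have hc1 := Subgroup.mem_centralizer_singleton_iff.1 hc'
      have hd1 := Subgroup.mem_centralizer_singleton_iff.1 hd
      have hb : b = a * c * d := by rw [mul_assoc, ← hcd, mul_inv_cancel_left]
      have : a * z * a⁻¹ * (b * w * b⁻¹) = (a * c) * (z * w) * (a * c)⁻¹ := by
        have hz : (a * c) * z * (a * c)⁻¹ = a * z * a⁻¹ := by
          rw [mul_assoc a c z, hc1]; group
        have hw : b * w * b⁻¹ = (a * c) * w * (a * c)⁻¹ := by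
          rw [hb, mul_assoc (a * c) d w, hd1]; group
        rw [← hz, hw]; group
      show IsConj (a * z * a⁻¹ * (b * w * b⁻¹)) (z * w)
      rw [this]
      exact hc _ _
    · rw [Set.ncard_image_of_injective _ (mul_right_injective _), cls_card, cls_card]
      exact hle
  rw [mem_stab]
  intro v hv
  have h1 : g * z * g⁻¹ * v ∈ (fun v => (1 : G) * z * (1 : G)⁻¹ * v) '' W := by
    rw [heq 1, ← heq g]
    exact ⟨v, hv, rfl⟩
  obtain ⟨v', hv', hvv⟩ := h1
  have : z⁻¹ * (g * z * g⁻¹) * v = v' := by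
    rw [mul_assoc, ← hvv, inv_one, mul_one, one_mul, inv_mul_cancel_left]
  rw [this]
  exact hv'

lemma relIndex_dvd_index (S K : Subgroup G) [S.Normal] : K.relIndex S ∣ K.index := by
  have hle : K ≤ Subgroup.normalizer (S : Set G) := by simp [Subgroup.normalizer_eq_top]
  have hcard := SolvBasic.card_sup_mul_card_inf (N := S) (H := K) hle
  refine ⟨(S ⊔ K).index, ?_⟩
  have e1 := K.card_mul_index
  have e2 := (S ⊔ K).card_mul_index
  have e3 : Nat.card (S ⊓ K : Subgroup G) * K.relIndex S = Nat.card S := by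
    rw [inf_comm, ← Subgroup.inf_relIndex_right, ← Subgroup.card_mul_index ((K ⊓ S).subgroupOf S)]
    congr 1
    exact (Nat.card_congr (Subgroup.subgroupOfEquivOfLe inf_le_right).toEquiv).symm
  refine Nat.eq_of_mul_eq_mul_left
    (mul_pos (Nat.card_pos (α := (S ⊓ K : Subgroup G))) (Nat.card_pos (α := K))) ?_
  calc _ = Nat.card (S ⊓ K : Subgroup G) * (Nat.card K * K.index) := by ring
    _ = Nat.card (S ⊓ K : Subgroup G) * (Nat.card (S ⊔ K : Subgroup G) * (S ⊔ K).index) := by rw [e1, e2]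
    _ = (Nat.card (S ⊔ K : Subgroup G) * Nat.card (S ⊓ K : Subgroup G)) * (S ⊔ K).index := by ring
    _ = Nat.card S * Nat.card K * (S ⊔ K).index := by rw [hcard]
    _ = _ := by rw [← e3]; ring

omit [Finite G] in
lemma eq_of_le_index {H K : Subgroup G} (hle : H ≤ K) (h : H.index = K.index) (h0 : K.index ≠ 0) :
    H = K := by
  refine le_antisymm hle (Subgroup.relIndex_eq_one.1 ?_)
  have := Subgroup.relIndex_mul_index hle
  rw [h] at this
  exact Nat.eq_of_mul_eq_mul_right (Nat.pos_of_ne_zero h0) (this.trans (one_mul _).symm)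

lemma primePow_le {H K : Subgroup G} (h : ∀ p, p.Prime → ∀ a ∈ H, RP p a → a ∈ K) : H ≤ K :=
  S4134.le_of_primePow fun p hp a ha ⟨k, hk⟩ => h p hp a ha ⟨k, hk ▸ pow_orderOf_eq_one a⟩

lemma exists_comp {g : G} (hg : g ∉ Z₀) :
    ∃ p : ℕ, p.Prime ∧ ∃ a ∈ Subgroup.zpowers g, RP p a ∧ a ∉ Z₀ := by
  by_contra hne
  refine hg (primePow_le (H := Subgroup.zpowers g) ?_ (Subgroup.mem_zpowers g))
  intro p hp a ha hap
  by_contra hz
  exact hne ⟨p, hp, a, ha, hap, hz⟩

omit [Finite G] in
lemma coprime_pq {p q : ℕ} [Fact p.Prime] [Fact q.Prime] [Finite G] (hpq : p ≠ q) {a b : G}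
    (ha : RP p a) (hb : RP q b) : (orderOf a).Coprime (orderOf b) := by
  obtain ⟨i, hi⟩ := ha.orderOf_eq
  obtain ⟨j, hj⟩ := hb.orderOf_eq
  rw [hi, hj]
  exact ((Nat.coprime_primes Fact.out Fact.out).2 hpq).pow i j

lemma coprime_of_not_dvd {p : ℕ} [hp : Fact p.Prime] {a : G} (ha : RP p a) {k : ℕ} (hk : ¬ p ∣ k) :
    (orderOf a).Coprime k := by
  obtain ⟨i, hi⟩ := ha.orderOf_eq
  rw [hi]
  exact (hp.out.coprime_iff_not_dvd.2 hk).pow_left i

lemma not_dvd_relIndex {p : ℕ} [Fact p.Prime] {H : Subgroup G}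
    (h : ∀ a ∈ H, RP p a → a ∈ Z₀) : ¬ p ∣ (Subgroup.center G).relIndex H := by
  obtain ⟨S⟩ : Nonempty (Sylow p H) := inferInstance
  have hle : (S : Subgroup H) ≤ (Subgroup.center G).subgroupOf H := fun s hs => by
    refine Subgroup.mem_subgroupOf.2 (h _ s.2 ?_)
    obtain ⟨k, hk⟩ := S.isPGroup' ⟨s, hs⟩
    exact ⟨k, congrArg Subtype.val (congrArg Subtype.val hk)⟩
  exact fun hd => S.not_dvd_index (hd.trans (Subgroup.index_dvd_of_le hle))

lemma coprime_relIndex {H : Subgroup G} {k : ℕ}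
    (h : ∀ p, p.Prime → p ∣ k → ∀ a ∈ H, RP p a → a ∈ Z₀) : ((Subgroup.center G).relIndex H).Coprime k :=
  Nat.coprime_of_dvd fun p hp h1 h2 => @not_dvd_relIndex G _ _ p ⟨hp⟩ H (h p hp h2) h1

lemma exists_conj_mem {p : ℕ} [Fact p.Prime] {H : Subgroup G} (hH : ¬ p ∣ H.index) {a : G}
    (ha : RP p a) : ∃ g : G, g * a * g⁻¹ ∈ H := by
  rw [Subgroup.index_eq_card] at hH
  obtain ⟨x, hx⟩ := ha.isPGroup_zpowers.nonempty_fixed_point_of_prime_not_dvd_card (G ⧸ H) hH
  obtain ⟨g, rfl⟩ := QuotientGroup.mk_surjective x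
  refine ⟨g⁻¹, ?_⟩
  have h1 : ((a * g : G) : G ⧸ H) = (g : G ⧸ H) := hx ⟨a, Subgroup.mem_zpowers a⟩
  have h2 := H.inv_mem (QuotientGroup.eq.1 h1)
  simpa [mul_assoc] using h2

lemma card_map_mk (H : Subgroup G) : Nat.card (H.map (QuotientGroup.mk' Z₀)) = (Subgroup.center G).relIndex H := by
  rw [← Subgroup.relIndex_ker, QuotientGroup.ker_mk']

omit [Finite G] in
lemma mem_of_mk_mem {H : Subgroup G} (hH : Z₀ ≤ H) {a : G}
    (ha : (a : G ⧸ Z₀) ∈ H.map (QuotientGroup.mk' Z₀)) : a ∈ H := by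
  obtain ⟨b, hb, hba⟩ := ha
  have h1 : b⁻¹ * a ∈ Z₀ := QuotientGroup.eq.1 hba
  have := H.mul_mem hb (hH h1)
  rwa [mul_inv_cancel_left] at this

omit [Finite G] in
lemma comm_of_le {Y : Subgroup G} (h : Y ≤ Subgroup.centralizer (Y : Set G)) : IsMulCommutative Y :=
  .of_setLike_mul_comm fun a ha b hb => Subgroup.mem_centralizer_iff.1 (h hb) a ha

lemma le_normalizer_of_comm {A K B : Subgroup G} [IsMulCommutative A] (hK : K ≤ A) (hB : B ≤ A) :
    B ≤ Subgroup.normalizer (K : Set G) := fun b hb => by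
  have hcomm : ∀ a ∈ A, b * a * b⁻¹ = a := fun a ha => by
    rw [setLike_mul_comm (s := A) (hB hb) ha, mul_inv_cancel_right]
  rw [Subgroup.mem_normalizer_iff]
  intro a
  refine ⟨fun ha => by rwa [hcomm a (hK ha)], fun ha => ?_⟩
  have h : b⁻¹ * (b * a * b⁻¹) * b = b * a * b⁻¹ := by
    rw [setLike_mul_comm (s := A) (A.inv_mem (hB hb)) (hK ha), inv_mul_cancel_right]
  rw [show b⁻¹ * (b * a * b⁻¹) * b = a by group] at h
  rwa [h]

lemma comm_of_primePow {Y : Subgroup G} (h : ∀ p, p.Prime → ∀ a ∈ Y, RP p a → Y ≤ C[a]) :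
    Y ≤ Subgroup.centralizer (Y : Set G) :=
  primePow_le fun p hp a ha hap => Subgroup.mem_centralizer_iff.2 fun _ hb =>
    Subgroup.mem_centralizer_singleton_iff.1 (h p hp a ha hap hb)

variable (G) in
/-- The two largest class sizes `m > n > 1` are coprime. -/
structure Hyp (m n : ℕ) : Prop where
  hmn : n < m
  hn : 1 < n
  hcop : m.Coprime n
  top : ∀ z : G, C[z].index ≤ m
  second : ∀ z : G, C[z].index < m → C[z].index ≤ n
  ex_x : ∃ x : G, C[x].index = n
  ex_y : ∃ y : G, C[y].index = m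

namespace Hyp

variable (H : Hyp G m n)
include H

lemma conj_comm {z : G} (hco : C[z].index.Coprime m) (g : G) :
    Commute z (g * z * g⁻¹) ∧ (z⁻¹ * (g * z * g⁻¹)) ^ m = 1 := by
  obtain ⟨y, hy⟩ := H.ex_y
  have hmem := prod_class (w := y) (hy ▸ hco) (hy ▸ H.top _) g
  set h := z⁻¹ * (g * z * g⁻¹) with hh
  have hdvd : Nat.card (stab y) ∣ m := hy ▸ stab_dvd y
  have hS : stab y ≤ C[z] := by
    have h1 : C[z].relIndex (stab y) ∣ Nat.card (stab y) := Subgroup.index_dvd_card _
    have h2 := relIndex_dvd_index (stab y) C[z]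
    exact Subgroup.relIndex_eq_one.1 (Nat.eq_one_of_dvd_coprimes hco h2 (h1.trans hdvd))
  have hz : Commute z h := ((Subgroup.mem_centralizer_singleton_iff.1 (hS hmem)).symm : z * h = h * z)
  refine ⟨?_, orderOf_dvd_iff_pow_eq_one.1 (((stab y).orderOf_dvd_natCard hmem).trans hdvd)⟩
  have : g * z * g⁻¹ = z * h := by rw [hh, mul_inv_cancel_left]
  rw [this]
  exact (Commute.refl z).mul_right hz

lemma central_of_coprime {z : G} (hco : C[z].index.Coprime m) (ho : (orderOf z).Coprime m) :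
    z ∈ Z₀ := by
  rw [Subgroup.mem_center_iff]
  intro g
  obtain ⟨hc, hm⟩ := H.conj_comm hco g
  set h := z⁻¹ * (g * z * g⁻¹) with hh
  have hpow : h ^ orderOf z = 1 := by
    rw [hh, hc.inv_left.mul_pow, inv_pow, conj_pow, pow_orderOf_eq_one]
    simp
  have h1 : h = 1 := orderOf_eq_one_iff.1
    (Nat.eq_one_of_dvd_coprimes ho (orderOf_dvd_of_pow_eq_one hpow) (orderOf_dvd_of_pow_eq_one hm))
  rw [hh, inv_mul_eq_one] at h1
  exact mul_inv_eq_iff_eq_mul.1 h1.symm

lemma n_dvd {z : G} (h : n ∣ C[z].index) : C[z].index = n := by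
  have hpos := Nat.pos_of_ne_zero (Subgroup.index_ne_zero_of_finite (H := C[z]))
  have hle : n ≤ C[z].index := Nat.le_of_dvd hpos h
  rcases lt_or_eq_of_le (H.top z) with hlt | heq
  · exact le_antisymm (H.second z hlt) hle
  · rw [heq] at h
    have := Nat.eq_one_of_dvd_coprimes H.hcop h dvd_rfl
    have := H.hn
    omega

lemma m_dvd {z : G} (h : m ∣ C[z].index) : C[z].index = m :=
  le_antisymm (H.top z) (Nat.le_of_dvd (Nat.pos_of_ne_zero Subgroup.index_ne_zero_of_finite) h)

lemma eq_m {z : G} (hz : z ∉ Z₀) (hco : C[z].index.Coprime n) : C[z].index = m := by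
  by_contra hne
  have hlt := lt_of_le_of_ne (H.top z) hne
  obtain ⟨x, hx⟩ := H.ex_x
  have hle : C[z * x].index ≤ n := by
    refine H.second _ (lt_of_le_of_ne (H.top _) fun he => ?_)
    have hd : C[z * x].index ∣ C[z].index * n := by
      rw [← hx, ← index_inf (hx ▸ hco)]
      refine Subgroup.index_dvd_of_le fun w hw => ?_
      have h1 := Subgroup.mem_centralizer_singleton_iff.1 hw.1
      have h2 := Subgroup.mem_centralizer_singleton_iff.1 hw.2
      rw [Subgroup.mem_centralizer_singleton_iff, ← mul_assoc, h1, mul_assoc, h2, ← mul_assoc]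
    rw [he] at hd
    have := Nat.le_of_dvd (Nat.pos_of_ne_zero Subgroup.index_ne_zero_of_finite)
      ((Nat.Coprime.dvd_mul_right H.hcop).1 hd)
    omega
  apply hz
  rw [Subgroup.mem_center_iff]
  intro g
  have hmem := prod_class (w := x) (hx ▸ hco) (hx ▸ hle) g
  set h := z⁻¹ * (g * z * g⁻¹) with hh
  have hn' : orderOf h ∣ n := ((stab x).orderOf_dvd_natCard hmem).trans (hx ▸ stab_dvd x)
  obtain ⟨u, hu⟩ := isConj_iff.1 (IsConj.symm (mem_stab.1 hmem x (IsConj.refl x)))
  obtain ⟨hc, hm⟩ := H.conj_comm (z := x) (by rw [hx]; exact H.hcop.symm) u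
  have hh' : x⁻¹ * (u * x * u⁻¹) = h := by
    have he : x⁻¹ * (u * x * u⁻¹) = (u * x * u⁻¹) * x⁻¹ := hc.inv_left.eq
    rw [he, hu, mul_inv_cancel_right]
  rw [hh'] at hm
  have h1 : h = 1 := orderOf_eq_one_iff.1
    (Nat.eq_one_of_dvd_coprimes H.hcop.symm hn' (orderOf_dvd_of_pow_eq_one hm))
  rw [hh, inv_mul_eq_one] at h1
  exact mul_inv_eq_iff_eq_mul.1 h1.symm

lemma ne_one_of_n {x : G} (hx : C[x].index = n) : x ∉ Z₀ := fun hz => by
  have := index_one_iff.2 hz
  have := H.hn
  omega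

lemma not_center_of_m {w : G} (hw : C[w].index = m) : w ∉ Z₀ := fun hz => by
  have := index_one_iff.2 hz
  have := H.hn
  have := H.hmn
  omega

lemma xq_central {x : G} (hx : C[x].index = n) {p : ℕ} [hp : Fact p.Prime] (hpm : ¬ p ∣ m) {b : G}
    (hb : b ∈ C[x]) (hbp : RP p b) : b ∈ Z₀ := by
  obtain ⟨u, z, hu, hz, hxe, hup, hzp⟩ := S4135.exists_parts (r := p) x
  have hnm : n.Coprime m := H.hcop.symm
  have huZ : u ∈ Z₀ := H.central_of_coprime
    (hnm.coprime_dvd_left (hx ▸ Subgroup.index_dvd_of_le (S4135.cent_le_zpowers hu)))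
    (coprime_of_not_dvd hup hpm)
  have hCz : C[x] = C[z] := by rw [hxe, mul_center_cent huZ]
  rw [hCz] at hb hx
  have hc : Commute b z := Subgroup.mem_centralizer_singleton_iff.1 hb
  have hco : (orderOf b).Coprime (orderOf z) := coprime_of_not_dvd hbp hzp
  have hle : C[z] ≤ C[b] := by
    have h1 := cent_mul hc hco
    have h2 : C[b * z] ≤ C[z] := h1 ▸ inf_le_right
    have h3 : n ∣ C[b * z].index := hx ▸ Subgroup.index_dvd_of_le h2
    have h4 := eq_of_le_index h2 ((H.n_dvd h3).trans hx.symm) Subgroup.index_ne_zero_of_finite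
    exact h4 ▸ h1 ▸ inf_le_left
  exact H.central_of_coprime
    (hnm.coprime_dvd_left (hx ▸ Subgroup.index_dvd_of_le hle)) (coprime_of_not_dvd hbp hpm)

lemma cent_le_of_m {w a : G} (hw : C[w].index = m) (hc : Commute a w)
    (hco : (orderOf a).Coprime (orderOf w)) : C[w] ≤ C[a] := by
  have h1 := cent_mul hc hco
  have h2 : C[a * w] ≤ C[w] := h1 ▸ inf_le_right
  have h3 : m ∣ C[a * w].index := hw ▸ Subgroup.index_dvd_of_le h2
  have h4 := eq_of_le_index h2 ((H.m_dvd h3).trans hw.symm) Subgroup.index_ne_zero_of_finite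
  exact h4 ▸ h1 ▸ inf_le_left

lemma eq_m_of_le {w a : G} (hw : C[w].index = m) (hle : C[w] ≤ C[a]) (ha : a ∉ Z₀) :
    C[a].index = m ∧ C[w] = C[a] := by
  have h := H.eq_m ha (H.hcop.coprime_dvd_left (hw ▸ Subgroup.index_dvd_of_le hle))
  exact ⟨h, eq_of_le_index hle (hw.trans h.symm) Subgroup.index_ne_zero_of_finite⟩

lemma n_dvd_index_center {x : G} (hx : C[x].index = n) : n ∣ (Z₀ : Subgroup G).index :=
  hx ▸ Subgroup.index_dvd_of_le (center_le_cent x)

lemma r_not_m {w : G} (hw : C[w].index = m) {p : ℕ} [hp : Fact p.Prime] (hpm : p ∣ m)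
    (hwp : RP p w) : False := by
  obtain ⟨x, hx⟩ := H.ex_x
  have hpn : ¬ p ∣ n := fun h => hp.out.one_lt.ne'
    (Nat.eq_one_of_dvd_coprimes H.hcop hpm h)
  obtain ⟨g, hg⟩ := exists_conj_mem (H := C[x]) (hx ▸ hpn) hwp
  set u := g * w * g⁻¹
  have hu : C[u].index = m := by rw [conj_index, hw]
  have hcop' : ((Subgroup.center G).relIndex C[u]).Coprime n := by
    refine coprime_relIndex fun q hq hqn a ha haq => ?_
    haveI := Fact.mk hq
    have hqm : ¬ q ∣ m := fun h => hq.one_lt.ne' (Nat.eq_one_of_dvd_coprimes H.hcop h hqn)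
    have hle := H.cent_le_of_m hu (Subgroup.mem_centralizer_singleton_iff.1 ha)
      (coprime_pq (by rintro rfl; exact hqm hpm) haq (hwp.conj g))
    by_contra haZ
    obtain ⟨-, he⟩ := H.eq_m_of_le hu hle haZ
    have hxu : x ∈ C[u] := mem_cent_comm hg
    exact haZ (H.xq_central hx hqm (mem_cent_comm (he ▸ hxu)) haq)
  have h1 := H.n_dvd_index_center hx
  rw [← Subgroup.relIndex_mul_index (center_le_cent u), hu] at h1
  have h2 := (Nat.Coprime.dvd_mul_right H.hcop.symm).1 h1
  have := Nat.eq_one_of_dvd_coprimes hcop'.symm dvd_rfl h2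
  have := H.hn
  omega

lemma y_comp {y : G} (hy : C[y].index = m) :
    ∃ (q : ℕ) (y0 : G), q.Prime ∧ ¬ q ∣ m ∧ RP q y0 ∧ C[y0] = C[y] ∧ C[y0].index = m := by
  obtain ⟨q, hq, a, ha, haq, haZ⟩ := exists_comp (H.not_center_of_m hy)
  haveI := Fact.mk hq
  obtain ⟨h, he⟩ := H.eq_m_of_le hy (S4135.cent_le_zpowers ha) haZ
  exact ⟨q, a, hq, fun hd => H.r_not_m h hd haq, haq, he.symm, h⟩

lemma y_central {y : G} (hy : C[y].index = m) {p : ℕ} [hp : Fact p.Prime] (hpm : p ∣ m) {a : G}
    (ha : a ∈ C[y]) (hap : RP p a) : a ∈ Z₀ := by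
  obtain ⟨q, y0, hq, hqm, hy0, hC, hy0m⟩ := H.y_comp hy
  haveI := Fact.mk hq
  rw [← hC] at ha
  have hle := H.cent_le_of_m hy0m (Subgroup.mem_centralizer_singleton_iff.1 ha)
    (coprime_pq (by rintro rfl; exact hqm hpm) hap hy0)
  by_contra haZ
  exact H.r_not_m (H.eq_m_of_le hy0m hle haZ).1 hpm hap

lemma inf_le_center {x y : G} (hx : C[x].index = n) (hy : C[y].index = m) : C[x] ⊓ C[y] ≤ Z₀ := by
  refine primePow_le fun p hp a ha hap => ?_
  haveI := Fact.mk hp
  by_cases hpm : p ∣ m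
  · exact H.y_central hy hpm ha.2 hap
  · exact H.xq_central hx hpm ha.1 hap

lemma index_center : (Z₀ : Subgroup G).index = n * m := by
  obtain ⟨x, hx⟩ := H.ex_x
  obtain ⟨y, hy⟩ := H.ex_y
  have e : C[x] ⊓ C[y] = Z₀ :=
    le_antisymm (H.inf_le_center hx hy) (le_inf (center_le_cent x) (center_le_cent y))
  rw [← e, index_inf (by rw [hx, hy]; exact H.hcop.symm), hx, hy]

lemma rel_x {x : G} (hx : C[x].index = n) : (Subgroup.center G).relIndex C[x] = m := by
  have h := Subgroup.relIndex_mul_index (center_le_cent x)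
  rw [hx, H.index_center, mul_comm n m] at h
  exact Nat.eq_of_mul_eq_mul_right (by have := H.hn; omega) h

lemma rel_y {y : G} (hy : C[y].index = m) : (Subgroup.center G).relIndex C[y] = n := by
  have h := Subgroup.relIndex_mul_index (center_le_cent y)
  rw [hy, H.index_center] at h
  exact Nat.eq_of_mul_eq_mul_right (by have := H.hmn; omega) h

lemma closure_props {z : G} (hz : C[z].index = n) :
    IsMulCommutative (Subgroup.normalClosure ({z} : Set G)) ∧
      Subgroup.normalClosure ({z} : Set G) ≤ C[z] ∧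
      ∀ a ∈ Subgroup.normalClosure ({z} : Set G), a ^ orderOf z = 1 := by
  set S := Group.conjugatesOfSet ({z} : Set G) with hS
  have hmem : ∀ v ∈ S, ∃ g : G, g * z * g⁻¹ = v := fun v hv => by
    obtain ⟨a, ha, hav⟩ := Group.mem_conjugatesOfSet_iff.1 hv
    rw [Set.mem_singleton_iff] at ha
    exact isConj_iff.1 (ha ▸ hav)
  have hcomm : ∀ v ∈ S, ∀ w ∈ S, v * w = w * v := by
    intro v hv w hw
    obtain ⟨a, rfl⟩ := hmem v hv
    obtain ⟨b, rfl⟩ := hmem w hw
    have h := ((H.conj_comm (z := z) (by rw [hz]; exact H.hcop.symm) (a⁻¹ * b)).1.map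
      (MulAut.conj a).toMonoidHom).eq
    simp only [MulEquiv.coe_toMonoidHom, MulAut.conj_apply] at h
    have e : a * ((a⁻¹ * b) * z * (a⁻¹ * b)⁻¹) * a⁻¹ = b * z * b⁻¹ := by group
    rwa [e] at h
  have hle : Subgroup.normalClosure ({z} : Set G) ≤
      Subgroup.centralizer (Subgroup.normalClosure ({z} : Set G) : Set G) := by
    refine (Subgroup.closure_le _).2 fun v hv => Subgroup.mem_centralizer_iff.2 fun w hw => ?_
    have : Subgroup.closure S ≤ C[v] := (Subgroup.closure_le _).2 fun w' hw' =>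
      Subgroup.mem_centralizer_singleton_iff.2 (hcomm w' hw' v hv)
    exact Subgroup.mem_centralizer_singleton_iff.1 (this hw)
  have hzS : z ∈ S := Group.subset_conjugatesOfSet rfl
  refine ⟨comm_of_le hle, (Subgroup.closure_le _).2 fun v hv =>
    Subgroup.mem_centralizer_singleton_iff.2 (hcomm v hv z hzS), fun a ha => ?_⟩
  induction ha using Subgroup.closure_induction with
  | mem v hv =>
    obtain ⟨g, rfl⟩ := hmem v hv
    rw [conj_pow, pow_orderOf_eq_one, mul_one, mul_inv_cancel]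
  | one => exact one_pow _
  | mul u v hu hv h1 h2 =>
    rw [Commute.mul_pow (Subgroup.mem_centralizer_iff.1 (hle hv) u hu), h1, h2, one_mul]
  | inv u _ h1 => rw [inv_pow, h1, inv_one]

/-- The fixed point free action when `n` is a prime power. -/
lemma fpf_prime_pow {z : G} (hz : C[z].index = n) {q e : ℕ} [hq : Fact q.Prime] (hn : n = q ^ e)
    (hqm : ¬ q ∣ m) (hzq : ¬ q ∣ orderOf z) {t : G} (htq : RP q t) (htZ : t ∉ Z₀) :
    C[t].index = m ∧ ∀ a ∈ Subgroup.normalClosure ({z} : Set G), t * a * t⁻¹ * a⁻¹ ∈ Z₀ → a ∈ Z₀ := by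
  set A := Subgroup.normalClosure ({z} : Set G) with hA
  obtain ⟨hAc, -, hAexp⟩ := H.closure_props hz
  haveI := hAc
  have hAq : ¬ q ∣ Nat.card A := by
    intro hd
    obtain ⟨a, ha⟩ := exists_prime_orderOf_dvd_card' q hd
    refine hzq ?_
    rw [← ha, ← Subgroup.orderOf_coe]
    exact orderOf_dvd_of_pow_eq_one (hAexp _ a.2)
  set T := Subgroup.zpowers t with hT
  have hTA : T ≤ Subgroup.normalizer (A : Set G) := by simp [A, Subgroup.normalizer_eq_top]
  obtain ⟨i, hi⟩ := IsPGroup.iff_card.1 htq.isPGroup_zpowers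
  have hcopTA : (Nat.card T).Coprime (Nat.card A) := by
    rw [hi]; exact (hq.out.coprime_iff_not_dvd.2 hAq).pow_left i
  set A0 := A ⊓ Subgroup.centralizer (T : Set G) with hA0
  set B := ⁅A, T⁆ with hB
  have hsup : A0 ⊔ B = A := Cfsg.Agent.CoprimeAct.centralizer_sup_commutator hTA hcopTA
  have hbot : A0 ⊓ B = ⊥ := Cfsg.Agent.CoprimeAct.centralizer_inf_commutator_eq_bot hTA hcopTA
  have hBA : B ≤ A := Cfsg.Agent.CoprimeAct.commutator_le_left hTA
  have hA0t : ∀ a ∈ A0, Commute a t := fun a ha =>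
    (Subgroup.mem_centralizer_iff.1 ha.2 t (Subgroup.mem_zpowers t)).symm
  have hA0' : ∀ a ∈ A, Commute a t → a ∈ A0 := by
    refine fun a ha hc => ⟨ha, Subgroup.mem_centralizer_iff.2 ?_⟩
    rintro _ ⟨j, rfl⟩
    exact (hc.symm.zpow_left j).eq
  have hxm : ∀ v ∈ Group.conjugatesOfSet ({z} : Set G), C[v].index = n := fun v hv => by
    obtain ⟨a, ha, hav⟩ := Group.mem_conjugatesOfSet_iff.1 hv
    rw [Set.mem_singleton_iff] at ha
    subst ha
    obtain ⟨g, rfl⟩ := isConj_iff.1 hav
    rw [conj_index, hz]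
  have hBrel : A0.relIndex A = Nat.card B := by
    have h1 := Subgroup.relIndex_mul_relIndex ⊥ A0 A bot_le inf_le_left
    rw [Subgroup.relIndex_bot_left, Subgroup.relIndex_bot_left] at h1
    have hn' : B ≤ Subgroup.normalizer (A0 : Set G) := le_normalizer_of_comm inf_le_left hBA
    have h2 := SolvBasic.card_sup_of_inf_eq_bot hn' hbot
    rw [hsup] at h2
    exact Nat.eq_of_mul_eq_mul_left Nat.card_pos (h1.trans h2)
  -- the main computation for one conjugate
  have key : ∀ v ∈ Group.conjugatesOfSet ({z} : Set G),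
      C[t].index = m ∧ v ∈ (A ⊓ Z₀) ⊔ B := by
    intro v hv
    have hvA : v ∈ A := Subgroup.subset_closure hv
    obtain ⟨x0, hx0, x1, hx1, hv01⟩ : ∃ x0 ∈ A0, ∃ x1 ∈ B, x0 * x1 = v := by
      have : v ∈ A0 ⊔ B := hsup.symm ▸ hvA
      obtain ⟨a, ha, b, hb, e⟩ :=
        (SolvBasic.mem_sup_iff_of_le_normalizer (le_normalizer_of_comm inf_le_left hBA)).1 this
      exact ⟨a, ha, b, hb, e.symm⟩
    have hx0t : Commute x0 t := hA0t x0 hx0
    have hco : (orderOf x0).Coprime (orderOf t) :=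
      (coprime_of_not_dvd htq (fun hd => hzq (hd.trans (orderOf_dvd_of_pow_eq_one (hAexp x0 hx0.1))))).symm
    have hCg := cent_mul hx0t hco
    set g := x0 * t with hg
    obtain ⟨RS⟩ : Nonempty (Sylow q C[g]) := inferInstance
    set R := (RS : Subgroup C[g]).map C[g].subtype with hR
    have hRg : R ≤ C[g] := Subgroup.map_subtype_le _
    have hRq : ∀ s ∈ R, RP q s := fun s hs => S4135.rpow_of_isPGroup (RS.isPGroup'.map _) hs
    have hvx : C[v].index = n := hxm v hv
    have hx1ne : x1 ≠ 1 := by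
      intro h1
      rw [h1, mul_one] at hv01
      exact htZ (H.xq_central hvx hqm (mem_cent_comm (Subgroup.mem_centralizer_singleton_iff.2
        (hv01 ▸ hx0t).eq)) htq)
    have hsB : ∀ s ∈ R, ∀ b ∈ B, s * b * s⁻¹ ∈ B := by
      intro s hs b hb
      have hst : Commute s t := Subgroup.mem_centralizer_singleton_iff.1 ((hCg ▸ hRg hs : _).2)
      have hmap : B.map (MulAut.conj s).toMonoidHom ≤ B := by
        rw [hB, Subgroup.map_commutator]
        refine Subgroup.commutator_mono ?_ ?_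
        · rintro _ ⟨a, ha, rfl⟩
          exact (inferInstance : A.Normal).conj_mem a ha s
        · rintro _ ⟨_, ⟨j, rfl⟩, rfl⟩
          refine ⟨j, ?_⟩
          show t ^ j = s * t ^ j * s⁻¹
          rw [(hst.zpow_right j).eq, mul_inv_cancel_right]
      exact hmap ⟨b, hb, rfl⟩
    have hjlt : (Subgroup.center G).relIndex R < Nat.card B := by
      let f : R ⧸ (Subgroup.center G).subgroupOf R → B := fun c =>
        ⟨(c.out : G) * x1 * (c.out : G)⁻¹, hsB _ c.out.2 _ hx1⟩
      letI := Fintype.ofFinite (R ⧸ (Subgroup.center G).subgroupOf R)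
      letI := Fintype.ofFinite B
      rw [Subgroup.relIndex, Subgroup.index_eq_card, Nat.card_eq_fintype_card, Nat.card_eq_fintype_card]
      refine Fintype.card_lt_of_injective_of_notMem f ?_ (b := 1) ?_
      · intro c d hcd
        have h : (c.out : G) * x1 * (c.out : G)⁻¹ = (d.out : G) * x1 * (d.out : G)⁻¹ :=
          congrArg Subtype.val hcd
        rw [← QuotientGroup.out_eq' c, ← QuotientGroup.out_eq' d]
        refine QuotientGroup.eq.2 (Subgroup.mem_subgroupOf.2 ?_)
        set s : G := ((c.out⁻¹ * d.out : R) : G) with hs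
        have hsR : s ∈ R := (c.out⁻¹ * d.out).2
        have hs1 : Commute s x1 := by
          have : s * x1 * s⁻¹ = x1 := by
            rw [hs, Subgroup.coe_mul, Subgroup.coe_inv]
            calc _ = (c.out : G)⁻¹ * ((d.out : G) * x1 * (d.out : G)⁻¹) * c.out := by group
              _ = x1 := by rw [← h]; group
          exact mul_inv_eq_iff_eq_mul.1 this
        have hs0 : Commute s x0 := Subgroup.mem_centralizer_singleton_iff.1 ((hCg ▸ hRg hsR : _).1)
        refine H.xq_central hvx hqm ?_ (hRq s hsR)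
        rw [← hv01]
        exact Subgroup.mem_centralizer_singleton_iff.2 (hs0.mul_right hs1).eq
      · rintro ⟨c, hc⟩
        have h : (c.out : G) * x1 * (c.out : G)⁻¹ = 1 := congrArg Subtype.val hc
        exact hx1ne (conj_eq_one_iff.1 h)
    have hdk : Nat.card B ∣ C[g].index := by
      rw [← hBrel]
      refine (Subgroup.relIndex_dvd_of_le_left A (?_ : C[g] ⊓ A ≤ A0)).trans ?_
      · rw [hCg]
        exact fun a ha => hA0' a ha.2 (Subgroup.mem_centralizer_singleton_iff.1 ha.1.2)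
      · rw [Subgroup.inf_relIndex_right]
        exact relIndex_dvd_index A C[g]
    have hdn : (Nat.card B).Coprime n := by
      rw [hn]
      exact ((hq.out.coprime_iff_not_dvd.2 fun h => hAq (h.trans (Subgroup.card_dvd_of_le hBA))).pow_left e).symm
    have hnk : n ∣ C[g].index * (Subgroup.center G).relIndex R := by
      have h1 : n ∣ (Subgroup.center G).relIndex C[g] * C[g].index := by
        rw [Subgroup.relIndex_mul_index (center_le_cent g), H.index_center]
        exact dvd_mul_right n m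
      have h2 : (Subgroup.center G).relIndex C[g] ∣ (Subgroup.center G).relIndex R * R.relIndex C[g] := by
        rw [← Subgroup.inf_relIndex_right Z₀ R, Subgroup.relIndex_mul_relIndex _ R C[g] inf_le_right hRg,
          ← Subgroup.relIndex_mul_relIndex (Z₀ ⊓ R) Z₀ C[g] inf_le_left (center_le_cent g)]
        exact dvd_mul_left _ _
      have h3 : R.relIndex C[g] = (RS : Subgroup C[g]).index := by
        rw [Subgroup.relIndex, hR, Subgroup.subgroupOf,
          Subgroup.comap_map_eq_self_of_injective C[g].subtype_injective]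
      have h4 : n.Coprime (R.relIndex C[g]) := by
        rw [hn, h3]
        exact (hq.out.coprime_iff_not_dvd.2 RS.not_dvd_index).pow_left e
      refine (Nat.Coprime.dvd_mul_right h4).1 (h1.trans ?_)
      rw [mul_assoc, mul_comm C[g].index]
      exact mul_dvd_mul_right h2 _
    have hgm : C[g].index = m := by
      by_contra hne
      have hle := H.second g (lt_of_le_of_ne (H.top g) hne)
      have hpos := Nat.pos_of_ne_zero (Subgroup.index_ne_zero_of_finite (H := C[g]))
      have hd := hdn.mul_dvd_of_dvd_of_dvd (hdk.trans (dvd_mul_right _ ((Subgroup.center G).relIndex R))) hnk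
      have hjpos : 0 < (Subgroup.center G).relIndex R := Nat.pos_of_ne_zero Subgroup.index_ne_zero_of_finite
      have h5 := Nat.le_of_dvd (mul_pos hpos hjpos) hd
      have h6 : C[g].index * (Subgroup.center G).relIndex R ≤ n * (Subgroup.center G).relIndex R := Nat.mul_le_mul_right _ hle
      have h7 : n * (Subgroup.center G).relIndex R < n * Nat.card B :=
        mul_lt_mul_of_pos_left hjlt (by have := H.hn; omega)
      rw [mul_comm (Nat.card B) n] at h5
      omega
    have hx0Z : x0 ∈ Z₀ := by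
      by_contra hne
      have hle : C[g] ≤ C[x0] := hCg ▸ inf_le_left
      have h0m := (H.eq_m_of_le hgm hle hne).1
      have hvv : v ∈ C[v] ⊓ C[x0] := ⟨S4135.self_mem v, Subgroup.mem_centralizer_singleton_iff.2
        (setLike_mul_comm (s := A) hvA hx0.1)⟩
      exact H.ne_one_of_n hvx (H.inf_le_center hvx h0m hvv)
    refine ⟨(H.eq_m_of_le hgm (hCg ▸ inf_le_right) htZ).1, ?_⟩
    rw [← hv01]
    exact mul_mem (Subgroup.mem_sup_left ⟨hx0.1, hx0Z⟩) (Subgroup.mem_sup_right hx1)
  refine ⟨(key z (Group.subset_conjugatesOfSet rfl)).1, fun a ha hat => ?_⟩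
  have hAle : A ≤ (A ⊓ Z₀) ⊔ B := (Subgroup.closure_le _).2 fun v hv => (key v hv).2
  set ζ := a⁻¹ * (t * a * t⁻¹) with hζ
  have hζA : ζ ∈ A := A.mul_mem (A.inv_mem ha) ((inferInstance : A.Normal).conj_mem a ha t)
  have hζZ : ζ ∈ Z₀ := by
    have := (inferInstance : (Z₀ : Subgroup G).Normal).conj_mem _ hat a⁻¹
    rwa [show a⁻¹ * (t * a * t⁻¹ * a⁻¹) * a⁻¹⁻¹ = ζ by rw [hζ]; group] at this
  have hpow : ∀ j : ℕ, t ^ j * a * (t ^ j)⁻¹ = a * ζ ^ j := by
    intro j
    induction j with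
    | zero => simp
    | succ j ih =>
      calc t ^ (j + 1) * a * (t ^ (j + 1))⁻¹ = t * (t ^ j * a * (t ^ j)⁻¹) * t⁻¹ := by rw [pow_succ']; group
        _ = t * a * t⁻¹ * (t * ζ ^ j * t⁻¹) := by rw [ih]; group
        _ = a * ζ * ζ ^ j := by
          rw [Subgroup.mem_center_iff.1 (pow_mem hζZ j) t, mul_inv_cancel_right, hζ, mul_inv_cancel_left]
        _ = a * ζ ^ (j + 1) := by rw [mul_assoc, ← pow_succ']
  have h1 := hpow (orderOf t)
  rw [pow_orderOf_eq_one, one_mul, inv_one, mul_one] at h1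
  have hζ1 : ζ = 1 := orderOf_eq_one_iff.1 (Nat.eq_one_of_dvd_coprimes
    (coprime_of_not_dvd htq hzq) (orderOf_dvd_of_pow_eq_one (mul_eq_left.1 h1.symm))
    (orderOf_dvd_of_pow_eq_one (hAexp ζ hζA)))
  have haA0 : a ∈ A0 := by
    refine hA0' a ha ?_
    have h2 : t * a * t⁻¹ = a := by
      rw [hζ, inv_mul_eq_one] at hζ1
      exact hζ1.symm
    exact (mul_inv_eq_iff_eq_mul.1 h2).symm
  obtain ⟨c, hc, b, hb, hcb⟩ : ∃ c ∈ A ⊓ Z₀, ∃ b ∈ B, c * b = a := by
    obtain ⟨c, hc, b, hb, e⟩ :=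
      (SolvBasic.mem_sup_iff_of_le_normalizer (le_normalizer_of_comm inf_le_left hBA)).1 (hAle ha)
    exact ⟨c, hc, b, hb, e.symm⟩
  have hb0 : b ∈ A0 := by
    have : b = c⁻¹ * a := by rw [← hcb, inv_mul_cancel_left]
    rw [this]
    refine A0.mul_mem (A0.inv_mem (hA0' c hc.1 ?_)) haA0
    exact (Subgroup.mem_center_iff.1 hc.2 t).symm
  have hb1 : b ∈ A0 ⊓ B := ⟨hb0, hb⟩
  rw [hbot, Subgroup.mem_bot] at hb1
  rw [← hcb, hb1, mul_one]
  exact hc.2

lemma abelian_y {y : G} (hy : C[y].index = m) :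
    C[y] ≤ Subgroup.centralizer (C[y] : Set G) := by
  obtain ⟨q, y0, hq, hqm, hy0, hC, hy0m⟩ := H.y_comp hy
  haveI := Fact.mk hq
  rw [← hC]
  have hle : ∀ p, p.Prime → p ≠ q → ∀ a ∈ C[y0], RP p a → C[y0] ≤ C[a] := by
    intro p hp hpq a ha hap
    haveI := Fact.mk hp
    exact H.cent_le_of_m hy0m (Subgroup.mem_centralizer_singleton_iff.1 ha) (coprime_pq hpq hap hy0)
  by_cases hex : ∃ p, p.Prime ∧ p ≠ q ∧ ∃ a ∈ C[y0], RP p a ∧ a ∉ Z₀
  · obtain ⟨p, hp, hpq, a, ha, hap, haZ⟩ := hex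
    haveI := Fact.mk hp
    obtain ⟨ham, hae⟩ := H.eq_m_of_le hy0m (hle p hp hpq a ha hap) haZ
    refine comm_of_primePow fun r hr b hb hbr => ?_
    by_cases hrq : r = q
    · subst hrq
      rw [hae] at hb ⊢
      exact H.cent_le_of_m ham (Subgroup.mem_centralizer_singleton_iff.1 hb)
        (coprime_pq (Ne.symm hpq) hbr hap)
    · exact hle r hr hrq b hb hbr
  have hcen : ∀ p, p.Prime → p ≠ q → ∀ a ∈ C[y0], RP p a → a ∈ Z₀ := fun p hp hpq a ha hap => by
    by_contra h
    exact hex ⟨p, hp, hpq, a, ha, hap, h⟩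
  -- `n` is a power of `q`
  have hn0 : n ≠ 0 := by have := H.hn; omega
  obtain ⟨e, hn⟩ : ∃ e, n = q ^ e := ⟨_, Nat.eq_prime_pow_of_unique_prime_dvd hn0 (fun {d} hd hdn => by
    by_contra hne
    haveI := Fact.mk hd
    exact not_dvd_relIndex (hcen d hd hne) ((H.rel_y hy0m).symm ▸ hdn))⟩
  obtain ⟨x, hx⟩ := H.ex_x
  obtain ⟨u, z, hu, hz, hxe, huq, hzq⟩ := S4135.exists_parts (r := q) x
  have huZ : u ∈ Z₀ := H.xq_central hx hqm
    (mem_cent_comm (S4135.cent_le_zpowers hu (S4135.self_mem x))) huq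
  have hzn : C[z].index = n := by rw [← hx, hxe, mul_center_cent huZ]
  set A := Subgroup.normalClosure ({z} : Set G)
  haveI : A.Normal := Subgroup.normalClosure_normal
  set f := QuotientGroup.mk' (Subgroup.center G) with hf
  set Y := C[y0].map f with hYdef
  set V := A.map f with hVdef
  haveI hVn : V.Normal := Subgroup.Normal.map inferInstance f (QuotientGroup.mk'_surjective _)
  have hYcard : Nat.card Y = q ^ e := by rw [hYdef, hf, card_map_mk, H.rel_y hy0m, hn]
  have hYp : IsPGroup q Y := IsPGroup.of_card hYcard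
  have hlift : ∀ w ∈ Y, w ≠ 1 → ∃ t : G, RP q t ∧ t ∉ Z₀ ∧ f t = w := by
    rintro _ ⟨a, ha, rfl⟩ hne
    obtain ⟨u', z', hu', hz', hae, huq', hzq'⟩ := S4135.exists_parts (r := q) a
    have hz'Z : z' ∈ Z₀ := by
      refine (primePow_le (H := Subgroup.zpowers z') fun p hp b hb hbp => ?_) (Subgroup.mem_zpowers z')
      haveI := Fact.mk hp
      by_cases hpq : p = q
      · subst hpq
        obtain ⟨i, hi⟩ := hbp.orderOf_eq
        have h1 : orderOf b ∣ orderOf z' := orderOf_dvd_of_mem_zpowers hb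
        rcases i with _ | i
        · rw [pow_zero, orderOf_eq_one_iff] at hi
          rw [hi]; exact one_mem _
        · exact absurd ((dvd_pow_self p (Nat.succ_ne_zero i)).trans (hi ▸ h1)) hzq'
      · exact hcen p hp hpq b (Subgroup.zpowers_le.2 ha
          ((Subgroup.zpowers_le.2 hz') hb)) hbp
    have hfu : f u' = f a := by
      rw [hae, map_mul, (QuotientGroup.eq_one_iff z').2 hz'Z |> fun h => (show f z' = 1 from h), mul_one]
    refine ⟨u', huq', fun h => hne ?_, hfu⟩
    rw [← hfu]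
    exact (QuotientGroup.eq_one_iff u').2 h
  have hV : V ≠ ⊥ := fun h => H.ne_one_of_n hzn (by
    have : f z ∈ V := ⟨z, Subgroup.subset_normalClosure rfl, rfl⟩
    rw [h, Subgroup.mem_bot] at this
    exact (QuotientGroup.eq_one_iff z).1 this)
  have hab : AbCyc.AbCyclic Y := by
    refine FpfStruct.abCyclic hV (fun _ _ => by simp [Subgroup.normalizer_eq_top]) ?_
    intro w hw hne
    obtain ⟨t, htq, htZ, rfl⟩ := hlift w hw hne
    rw [eq_bot_iff]
    rintro _ ⟨⟨a, ha, rfl⟩, hc⟩
    refine Subgroup.mem_bot.2 ((QuotientGroup.eq_one_iff a).2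
      ((H.fpf_prime_pow hzn hn hqm hzq htq htZ).2 a ha ?_))
    refine (QuotientGroup.eq_one_iff _).1 ?_
    show f (t * a * t⁻¹ * a⁻¹) = 1
    rw [map_mul, map_mul, map_mul, map_inv, map_inv, ← Subgroup.mem_centralizer_singleton_iff.1 hc,
      mul_inv_cancel_right, mul_inv_cancel]
  have hmq : ¬ q ∣ m := hqm
  have hsyl : ∀ w : G, C[w].index = m → (C[w].map f).index = m := fun w hw => by
    rw [Subgroup.index_map_eq _ (QuotientGroup.mk'_surjective _)
      (by rw [QuotientGroup.ker_mk']; exact center_le_cent w), hw]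
  set c := Nat.card (Subgroup.center Y)
  have hexp : ∀ w : Y, orderOf w ∣ c := by
    intro w
    by_cases hw1 : w = 1
    · rw [hw1, orderOf_one]; exact one_dvd _
    obtain ⟨t, htq, htZ, htw⟩ := hlift w w.2 (fun h => hw1 (Subtype.ext h))
    have htm := (H.fpf_prime_pow hzn hn hqm hzq htq htZ).1
    have hT : IsPGroup q (C[t].map f) :=
      IsPGroup.of_card (n := e) (by rw [hf, card_map_mk, H.rel_y htm, hn])
    let P : Sylow q (G ⧸ Subgroup.center G) := hYp.toSylow (by rw [hsyl y0 hy0m]; exact hmq)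
    let Q : Sylow q (G ⧸ Subgroup.center G) := hT.toSylow (by rw [hsyl t htm]; exact hmq)
    let ψ : (C[t].map f : Subgroup _) ≃* Y := Sylow.equiv Q P
    let w' : (C[t].map f : Subgroup _) := ⟨f t, ⟨t, S4135.self_mem t, rfl⟩⟩
    have hw'c : w' ∈ Subgroup.center _ := by
      rw [Subgroup.mem_center_iff]
      rintro ⟨_, a, ha, rfl⟩
      apply Subtype.ext
      show f a * f t = f t * f a
      rw [← map_mul, ← map_mul, Subgroup.mem_centralizer_singleton_iff.1 ha]
    have h2 : ψ w' ∈ Subgroup.center Y := by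
      rw [Subgroup.mem_center_iff]
      intro a
      obtain ⟨b, rfl⟩ := ψ.surjective a
      rw [← map_mul, ← map_mul, Subgroup.mem_center_iff.1 hw'c b]
    have h3 : orderOf (ψ w') = orderOf w := by
      rw [MulEquiv.orderOf_eq, ← Subgroup.orderOf_coe, ← Subgroup.orderOf_coe w]
      exact congrArg orderOf htw
    exact h3 ▸ (Subgroup.center Y).orderOf_dvd_natCard h2
  have hcomm : ∀ w : Y, w ∈ Subgroup.center Y := by
    intro w
    by_contra hw
    set W := Subgroup.center Y ⊔ Subgroup.zpowers w with hW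
    have hWw : W ≤ Subgroup.centralizer ({w} : Set Y) := sup_le
      (fun a ha => Subgroup.mem_centralizer_singleton_iff.2 (Subgroup.mem_center_iff.1 ha w).symm)
      (Subgroup.zpowers_le.2 (Subgroup.mem_centralizer_singleton_iff.2 rfl))
    have hWc : W ≤ Subgroup.centralizer (W : Set Y) := sup_le (Subgroup.center_le_centralizer _)
      (Subgroup.zpowers_le.2 (Subgroup.mem_centralizer_iff.2 fun a ha =>
        Subgroup.mem_centralizer_singleton_iff.1 (hWw ha)))
    obtain ⟨g, hg⟩ := IsCyclic.exists_ofOrder_eq_natCard (α := W) (h := hab W (.of_setLike_mul_comm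
      fun a ha b hb => Subgroup.mem_centralizer_iff.1 (hWc hb) a ha))
    have h1 : Nat.card W ∣ c := by rw [← hg, ← Subgroup.orderOf_coe]; exact hexp _
    have h2 : Subgroup.center Y = W := Subgroup.eq_of_le_of_card_ge le_sup_left
      (Nat.le_of_dvd Nat.card_pos h1)
    exact hw (h2.symm ▸ (le_sup_right : Subgroup.zpowers w ≤ W) (Subgroup.mem_zpowers w))
  have hYcyc : IsCyclic Y := by
    haveI := hab ⊤ (.of_setLike_mul_comm fun a _ b _ => Subgroup.mem_center_iff.1 (hcomm b) a)
    exact isCyclic_of_surjective Subgroup.topEquiv.toMonoidHom Subgroup.topEquiv.surjective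
  intro a ha
  refine Subgroup.mem_centralizer_iff.2 fun b hb => ?_
  haveI := hYcyc
  have h := commutative_of_cyclic_center_quotient (f.subgroupMap C[y0]) (fun k hk => by
    have hk' : (k : G) ∈ Z₀ := (QuotientGroup.eq_one_iff (k : G)).1 (congrArg Subtype.val hk)
    exact Subgroup.mem_center_iff.2 fun g => Subtype.ext (Subgroup.mem_center_iff.1 hk' g))
    ⟨b, hb⟩ ⟨a, ha⟩
  exact congrArg Subtype.val h

lemma conj_into_y {y : G} (hy : C[y].index = m) {q : ℕ} [hq : Fact q.Prime] (hqm : ¬ q ∣ m) {t : G}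
    (htq : RP q t) (htZ : t ∉ Z₀) : ∃ g : G, C[g * t * g⁻¹] = C[y] ∧ C[t].index = m := by
  obtain ⟨g, hg⟩ := exists_conj_mem (H := C[y]) (hy ▸ hqm) htq
  have hle : C[y] ≤ C[g * t * g⁻¹] := fun a ha =>
    Subgroup.mem_centralizer_singleton_iff.2
      (Subgroup.mem_centralizer_iff.1 (H.abelian_y hy ha) _ hg).symm
  obtain ⟨h1, h2⟩ := H.eq_m_of_le hy hle (fun h => htZ (S4135.conj_center_iff.1 h))
  exact ⟨g, h2.symm, by rw [← conj_index g, h1]⟩

lemma index_n {p : ℕ} [hp : Fact p.Prime] (hpm : p ∣ m) {a : G} (hap : RP p a) (haZ : a ∉ Z₀) :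
    C[a].index = n := by
  obtain ⟨y, hy⟩ := H.ex_y
  have hcop' : (Z₀ : Subgroup G).relIndex C[a] |>.Coprime n := by
    refine coprime_relIndex fun q hq hqn t ht htq => ?_
    haveI := Fact.mk hq
    have hqm : ¬ q ∣ m := fun h => hq.one_lt.ne' (Nat.eq_one_of_dvd_coprimes H.hcop h hqn)
    by_contra htZ
    obtain ⟨-, -, htm⟩ := H.conj_into_y hy hqm htq htZ
    exact haZ (H.y_central htm hpm (mem_cent_comm ht) hap)
  have h1 : n ∣ (Subgroup.center G).relIndex C[a] * C[a].index := by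
    rw [Subgroup.relIndex_mul_index (center_le_cent a), H.index_center]
    exact dvd_mul_right n m
  exact H.n_dvd ((Nat.Coprime.dvd_mul_left hcop'.symm).1 h1)

lemma abelian_x {x : G} (hx : C[x].index = n) :
    C[x] ≤ Subgroup.centralizer (C[x] : Set G) ∧ C[x].Normal := by
  obtain ⟨r, hr, x1, hx1, hx1r, hx1Z⟩ := exists_comp (H.ne_one_of_n hx)
  haveI := Fact.mk hr
  have hrm : r ∣ m := by
    by_contra h
    exact hx1Z (H.xq_central hx h (mem_cent_comm (S4135.cent_le_zpowers hx1 (S4135.self_mem x))) hx1r)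
  have hx1n := H.index_n hrm hx1r hx1Z
  have hC : C[x] = C[x1] := eq_of_le_index (S4135.cent_le_zpowers hx1) (hx.trans hx1n.symm)
    Subgroup.index_ne_zero_of_finite
  rw [hC]
  set A := Subgroup.normalClosure ({x1} : Set G)
  haveI : A.Normal := Subgroup.normalClosure_normal
  obtain ⟨hAc, hAle, hAexp⟩ := H.closure_props hx1n
  have hx1A : x1 ∈ A := Subgroup.subset_normalClosure rfl
  have hAC : Subgroup.centralizer (A : Set G) ≤ C[x1] :=
    Subgroup.centralizer_le (Set.singleton_subset_iff.2 hx1A)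
  suffices hab : C[x1] ≤ Subgroup.centralizer (C[x1] : Set G) by
    refine ⟨hab, ?_⟩
    have h : C[x1] = Subgroup.centralizer (A : Set G) :=
      le_antisymm (hab.trans (Subgroup.centralizer_le hAle)) hAC
    rw [h]; infer_instance
  have hpCx : ∀ p, p.Prime → p ≠ r → ∀ a ∈ C[x1], RP p a → C[x1] ≤ C[a] := by
    intro p hp hpr a ha hap
    haveI := Fact.mk hp
    have h1 := cent_mul (Subgroup.mem_centralizer_singleton_iff.1 ha : Commute a x1)
      (coprime_pq hpr hap hx1r)
    have h2 : C[a * x1] ≤ C[x1] := h1 ▸ inf_le_right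
    have h4 := eq_of_le_index h2 ((H.n_dvd (hx1n ▸ Subgroup.index_dvd_of_le h2)).trans hx1n.symm)
      Subgroup.index_ne_zero_of_finite
    exact h4 ▸ h1 ▸ inf_le_left
  by_cases hex : ∃ p, p.Prime ∧ p ≠ r ∧ ∃ a ∈ C[x1], RP p a ∧ a ∉ Z₀
  · obtain ⟨p, hp, hpr, a, ha, hap, haZ⟩ := hex
    haveI := Fact.mk hp
    have hpm : p ∣ m := by
      by_contra h
      exact haZ (H.xq_central hx1n h ha hap)
    have han := H.index_n hpm hap haZ
    have hae : C[x1] = C[a] := eq_of_le_index (hpCx p hp hpr a ha hap) (hx1n.trans han.symm)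
      Subgroup.index_ne_zero_of_finite
    refine comm_of_primePow fun s hs b hb hbs => ?_
    by_cases hsr : s = r
    · subst hsr
      rw [hae] at hb ⊢
      have h1 := cent_mul (Subgroup.mem_centralizer_singleton_iff.1 hb : Commute b a)
        (coprime_pq (Ne.symm hpr) hbs hap)
      have h2 : C[b * a] ≤ C[a] := h1 ▸ inf_le_right
      have h4 := eq_of_le_index h2 ((H.n_dvd (han ▸ Subgroup.index_dvd_of_le h2)).trans han.symm)
        Subgroup.index_ne_zero_of_finite
      exact h4 ▸ h1 ▸ inf_le_left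
    · exact hpCx s hs hsr b hb hbs
  have hcen : ∀ p, p.Prime → p ≠ r → ∀ a ∈ C[x1], RP p a → a ∈ Z₀ := fun p hp hpr a ha hap => by
    by_contra h
    exact hex ⟨p, hp, hpr, a, ha, hap, h⟩
  have hm0 : m ≠ 0 := by have := H.hmn; omega
  obtain ⟨c, hc⟩ : ∃ c, m = r ^ c := ⟨_, Nat.eq_prime_pow_of_unique_prime_dvd hm0 (fun {d} hd hdm => by
    by_contra hne
    haveI := Fact.mk hd
    exact not_dvd_relIndex (hcen d hd hne) ((H.rel_x hx1n).symm ▸ hdm))⟩
  have hrn : ¬ r ∣ n := fun h => hr.one_lt.ne' (Nat.eq_one_of_dvd_coprimes H.hcop hrm h)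
  set f := QuotientGroup.mk' (Subgroup.center G) with hf
  have hsyl : ∀ w : G, C[w].index = n →
      ∃ P : Sylow r (G ⧸ Subgroup.center G), (P : Subgroup (G ⧸ Subgroup.center G)) = C[w].map f := by
    intro w hw
    have hi : (C[w].map f).index = n := by
      rw [Subgroup.index_map_eq _ (QuotientGroup.mk'_surjective _)
        (by rw [QuotientGroup.ker_mk']; exact center_le_cent w), hw]
    exact ⟨(IsPGroup.of_card (n := c) (by rw [hf, card_map_mk, H.rel_x hw, hc]) :
      IsPGroup r (C[w].map f)).toSylow (by rw [hi]; exact hrn), rfl⟩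
  have hAp : IsPGroup r (A.map f) := by
    rintro ⟨_, a, ha, rfl⟩
    obtain ⟨i, hi⟩ := hx1r.orderOf_eq
    refine ⟨i, Subtype.ext ?_⟩
    show (f a) ^ r ^ i = 1
    rw [← map_pow, ← hi, hAexp a ha, map_one]
  haveI : (A.map f).Normal := Subgroup.Normal.map inferInstance f (QuotientGroup.mk'_surjective _)
  have hAw : ∀ w : G, C[w].index = n → A ≤ C[w] := by
    intro w hw a ha
    obtain ⟨P, hP⟩ := hsyl w hw
    have h1 : f a ∈ A.map f := ⟨a, ha, rfl⟩
    have h2 : A.map f ≤ (P : Subgroup _) := by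
      obtain ⟨Q, hQ⟩ := hAp.exists_le_sylow
      obtain ⟨g, hg⟩ := MulAction.exists_smul_eq (G ⧸ Subgroup.center G) Q P
      have h3 : MulAut.conj g • A.map f ≤ (P : Subgroup _) := by
        rw [← hg, Sylow.coe_subgroup_smul]
        exact Subgroup.pointwise_smul_le_pointwise_smul_iff.2 hQ
      rwa [Subgroup.Normal.conj_smul_eq_self] at h3
    exact mem_of_mk_mem (center_le_cent w) (hP ▸ h2 h1)
  have hCA : C[x1] = Subgroup.centralizer (A : Set G) := by
    refine le_antisymm (primePow_le fun p hp a ha hap => Subgroup.mem_centralizer_iff.2 fun b hb => ?_) hAC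
    by_cases haZ : a ∈ Z₀
    · exact Subgroup.mem_center_iff.1 haZ b
    have hpr : p = r := by
      by_contra h
      exact haZ (hcen p hp h a ha hap)
    subst hpr
    exact Subgroup.mem_centralizer_singleton_iff.1 (hAw a (H.index_n hrm hap haZ) hb)
  haveI : C[x1].Normal := by rw [hCA]; infer_instance
  refine comm_of_primePow fun p hp a ha hap => ?_
  by_cases haZ : a ∈ Z₀
  · exact fun b _ => Subgroup.mem_centralizer_singleton_iff.2 (Subgroup.mem_center_iff.1 haZ b)
  have hpr : p = r := by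
    by_contra h
    exact haZ (hcen p hp h a ha hap)
  subst hpr
  have han := H.index_n hrm hap haZ
  obtain ⟨P, hP⟩ := hsyl a han
  obtain ⟨Q, hQ⟩ := hsyl x1 hx1n
  haveI : (Q : Subgroup (G ⧸ Subgroup.center G)).Normal := by
    rw [hQ]; exact Subgroup.Normal.map inferInstance f (QuotientGroup.mk'_surjective _)
  haveI := Sylow.unique_of_normal Q inferInstance
  have hPQ : C[a].map f = C[x1].map f := by rw [← hP, ← hQ, Subsingleton.elim P Q]
  intro b hb
  exact mem_of_mk_mem (center_le_cent a) (hPQ.symm ▸ (⟨b, hb, rfl⟩ : f b ∈ C[x1].map f))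

lemma inter_conj {x y : G} (hx : C[x].index = n) (hy : C[y].index = m) {g h : G}
    (hg : g ∈ C[x]) (hgy : h * g * h⁻¹ ∈ C[y]) : g ∈ Z₀ := by
  have h1 : g ∈ C[h⁻¹ * y * h⁻¹⁻¹] := by
    rw [← S4135.map_conj_cent]
    exact ⟨_, hgy, by simp [mul_assoc]⟩
  exact H.inf_le_center hx (by rw [conj_index, hy]) ⟨hg, h1⟩

lemma frobenius {x y : G} (hx : C[x].index = n) (hy : C[y].index = m) :
    Cfsg.IsFrobeniusComplement (C[y].map (QuotientGroup.mk' (Subgroup.center G))) ∧
    Cfsg.frobeniusKernel (C[y].map (QuotientGroup.mk' (Subgroup.center G))) =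
      (C[x].map (QuotientGroup.mk' (Subgroup.center G)) : Set (G ⧸ Subgroup.center G)) := by
  set f := QuotientGroup.mk' (Subgroup.center G) with hf
  obtain ⟨hXab, hXn⟩ := H.abelian_x hx
  haveI := hXn
  have hYab := H.abelian_y hy
  obtain ⟨q, y0, hq, hqm, hy0, hC, hy0m⟩ := H.y_comp hy
  haveI := Fact.mk hq
  have hmem : ∀ g a : G, f a ∈ MulAut.conj (f g) • C[y].map f → g⁻¹ * a * g ∈ C[y] := by
    intro g a ha
    rw [Subgroup.mem_pointwise_smul_iff_inv_smul_mem, MulAut.smul_def, MulAut.conj_inv_apply,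
      ← map_inv, ← map_mul, ← map_mul] at ha
    exact mem_of_mk_mem (center_le_cent y) ha
  have hY : ∀ t ∈ C[y], t ∉ Z₀ → C[t] = C[y] := by
    intro t ht htZ
    have hle : C[y] ≤ C[t] := fun b hb => Subgroup.mem_centralizer_singleton_iff.2
      (Subgroup.mem_centralizer_iff.1 (hYab hb) t ht).symm
    exact (H.eq_m_of_le hy hle htZ).2.symm
  refine ⟨⟨?_, ?_, ?_⟩, ?_⟩
  · intro hbot
    refine H.not_center_of_m hy ?_
    have : f y ∈ C[y].map f := ⟨y, S4135.self_mem y, rfl⟩
    rw [hbot, Subgroup.mem_bot] at this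
    exact (QuotientGroup.eq_one_iff y).1 this
  · intro htop
    have h1 : (C[y].map f).index = m := by
      rw [Subgroup.index_map_eq _ (QuotientGroup.mk'_surjective _)
        (by rw [QuotientGroup.ker_mk']; exact center_le_cent y), hy]
    rw [htop, Subgroup.index_top] at h1
    have := H.hn; have := H.hmn; omega
  · intro gb hgb
    obtain ⟨g, rfl⟩ := QuotientGroup.mk'_surjective _ gb
    rw [eq_bot_iff]
    rintro wb ⟨⟨t, ht, rfl⟩, hwb⟩
    rw [Subgroup.mem_bot]
    refine (QuotientGroup.eq_one_iff t).2 ?_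
    by_contra htZ
    have ht' := hmem g t hwb
    have htZ' : g⁻¹ * t * g ∉ Z₀ := fun h => htZ (by
      have := S4135.conj_center_iff (h := g⁻¹) (x := t)
      rw [inv_inv] at this
      exact this.1 h)
    have hconj : C[y].map (MulAut.conj g).toMonoidHom = C[y] := by
      conv_lhs => rw [← hY _ ht' htZ']
      rw [S4135.map_conj_cent, show g * (g⁻¹ * t * g) * g⁻¹ = t by group]
      exact hY t ht htZ
    obtain ⟨c, hc, d, hd, hcd⟩ := HallSolv.exists_mul_of_coprime_index
      (H := C[x]) (K := C[y]) (by rw [hx, hy]; exact H.hcop.symm) g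
    have hcy : c * y0 * c⁻¹ ∈ C[y] := by
      have hy0y : y0 ∈ C[y] := by rw [← hC]; exact S4135.self_mem y0
      have h1 : c * y0 * c⁻¹ = g * y0 * g⁻¹ := by
        have h2 : d * y0 = y0 * d := (Subgroup.mem_centralizer_iff.1 (hYab hd) y0 hy0y).symm
        rw [hcd, mul_assoc c d y0, h2]; group
      rw [h1, ← hconj]
      exact ⟨y0, hy0y, rfl⟩
    have hy0y : y0 ∈ C[y] := by rw [← hC]; exact S4135.self_mem y0
    set ζ := y0⁻¹ * (c * y0 * c⁻¹) with hζ
    have hζZ : ζ ∈ Z₀ := by
      refine H.inf_le_center hx hy (Subgroup.mem_inf.2 ⟨?_, C[y].mul_mem (C[y].inv_mem hy0y) hcy⟩)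
      have := C[x].mul_mem (hXn.conj_mem c hc y0⁻¹) (C[x].inv_mem hc)
      simpa [hζ, mul_assoc] using this
    have hpow : ∀ j : ℕ, c ^ j * y0 * (c ^ j)⁻¹ = y0 * ζ ^ j := by
      intro j
      induction j with
      | zero => simp
      | succ j ih =>
        calc c ^ (j + 1) * y0 * (c ^ (j + 1))⁻¹ = c * (c ^ j * y0 * (c ^ j)⁻¹) * c⁻¹ := by rw [pow_succ']; group
          _ = c * y0 * c⁻¹ * (c * ζ ^ j * c⁻¹) := by rw [ih]; group
          _ = y0 * ζ * ζ ^ j := by
            rw [Subgroup.mem_center_iff.1 (pow_mem hζZ j) c, mul_inv_cancel_right, hζ, mul_inv_cancel_left]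
          _ = y0 * ζ ^ (j + 1) := by rw [mul_assoc, ← pow_succ']
    have hcm : c ^ m ∈ Z₀ := by
      refine (QuotientGroup.eq_one_iff _).1 ?_
      show f (c ^ m) = 1
      have h1 : orderOf (f c) ∣ Nat.card (C[x].map f) :=
        (C[x].map f).orderOf_dvd_natCard ⟨c, hc, rfl⟩
      rw [hf, card_map_mk, H.rel_x hx] at h1
      rw [map_pow]
      exact orderOf_dvd_iff_pow_eq_one.1 h1
    have h1 := hpow m
    rw [← Subgroup.mem_center_iff.1 hcm y0, mul_inv_cancel_right] at h1
    have hc1 : Commute y0 ζ := Subgroup.mem_center_iff.1 hζZ y0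
    have h2 : ζ ^ orderOf y0 = 1 := by
      have e : c * y0 * c⁻¹ = y0 * ζ := by rw [hζ, mul_inv_cancel_left]
      have h3 := congrArg (· ^ orderOf y0) e
      simp only [conj_pow, hc1.mul_pow, pow_orderOf_eq_one, mul_one, mul_inv_cancel, one_mul] at h3
      exact h3.symm
    have hζ1 : ζ = 1 := orderOf_eq_one_iff.1 (Nat.eq_one_of_dvd_coprimes (coprime_of_not_dvd hy0 hqm)
      (orderOf_dvd_of_pow_eq_one h2) (orderOf_dvd_of_pow_eq_one (mul_eq_left.1 h1.symm)))
    have hcC : c ∈ C[y] := by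
      rw [hζ, inv_mul_eq_one] at hζ1
      rw [← hC, Subgroup.mem_centralizer_singleton_iff]
      exact mul_inv_eq_iff_eq_mul.1 hζ1.symm
    exact hgb ⟨g, hcd ▸ mul_mem hcC hd, rfl⟩
  · ext wb
    obtain ⟨g, rfl⟩ := QuotientGroup.mk'_surjective _ wb
    simp only [Cfsg.frobeniusKernel, Set.mem_setOf_eq, SetLike.mem_coe]
    constructor
    · rintro (h1 | h)
      · rw [h1]; exact one_mem _
      · refine ⟨g, ?_, rfl⟩
        refine (primePow_le (H := Subgroup.zpowers g) fun p hp a ha hap => ?_) (Subgroup.mem_zpowers g)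
        haveI := Fact.mk hp
        by_cases hpm : p ∣ m
        · have hpn : ¬ p ∣ C[x].index := fun hd => by
            rw [hx] at hd
            exact hp.one_lt.ne' (Nat.eq_one_of_dvd_coprimes H.hcop hpm hd)
          exact S4135.rpow_mem hpn hap
        by_cases haZ : a ∈ Z₀
        · exact center_le_cent x haZ
        exfalso
        obtain ⟨k, hk, -⟩ := H.conj_into_y hy hpm hap haZ
        have hg : k * g * k⁻¹ ∈ C[y] := by
          rw [← hk, ← S4135.map_conj_cent]
          exact ⟨g, S4135.cent_le_zpowers ha (S4135.self_mem g), rfl⟩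
        refine h (f k⁻¹) ?_
        rw [Subgroup.mem_pointwise_smul_iff_inv_smul_mem, MulAut.smul_def, MulAut.conj_inv_apply,
          ← map_inv, inv_inv, ← map_mul, ← map_mul]
        exact ⟨_, hg, rfl⟩
    · intro hg
      have hgX : g ∈ C[x] := mem_of_mk_mem (center_le_cent x) hg
      by_cases hgZ : g ∈ Z₀
      · exact Or.inl ((QuotientGroup.eq_one_iff g).2 hgZ)
      refine Or.inr fun kb hkb => ?_
      obtain ⟨k, rfl⟩ := QuotientGroup.mk'_surjective _ kb
      exact hgZ (H.inter_conj hx hy (h := k⁻¹) hgX (by simpa using hmem k g hkb))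

end Hyp

end Cfsg.Agent.S4138


set_option autoImplicit false
open Cfsg

namespace Cfsg.Agent.S4138

/-- Let G be a finite group whose two largest conjugacy class sizes m > n > 1 are coprime, and let x, y ∈ G have classes of sizes n and m respectively. Then C_G(x) and C_G(y) are abelian, and G/Z(G) is a Frobenius group with kernel C_G(x)/Z(G) and complement C_G(y)/Z(G). -/
theorem result {G : Type*} [Group G] [Finite G] (m n : ℕ) (hmn : n < m) (hn : 1 < n)
    (hcop : m.Coprime n) (htop : ∀ z : G, (Subgroup.centralizer ({z} : Set G)).index ≤ m) (hsecond : ∀ z : G, (Subgroup.centralizer ({z} : Set G)).index < m → (Subgroup.centralizer ({z} : Set G)).index ≤ n)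
    (x y : G) (hx : (Subgroup.centralizer ({x} : Set G)).index = n) (hy : (Subgroup.centralizer ({y} : Set G)).index = m) :
    IsMulCommutative (Subgroup.centralizer ({x} : Set G)) ∧ IsMulCommutative (Subgroup.centralizer ({y} : Set G)) ∧
    Cfsg.IsFrobeniusComplement ((Subgroup.centralizer ({y} : Set G)).map (QuotientGroup.mk' (Subgroup.center G))) ∧
    Cfsg.frobeniusKernel ((Subgroup.centralizer ({y} : Set G)).map (QuotientGroup.mk' (Subgroup.center G))) =
      ((Subgroup.centralizer ({x} : Set G)).map (QuotientGroup.mk' (Subgroup.center G)) : Set (G ⧸ Subgroup.center G)) := by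
  have H : Hyp G m n := ⟨hmn, hn, hcop, htop, hsecond, ⟨x, hx⟩, ⟨y, hy⟩⟩
  exact ⟨comm_of_le (H.abelian_x hx).1, comm_of_le (H.abelian_y hy), (H.frobenius hx hy).1,
    (H.frobenius hx hy).2⟩

end Cfsg.Agent.S4138
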