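import Cfsg.Statements.S4139
import Mathlib
import Cfsg.Agent.Lib.Solvable.Basic
import Cfsg.Agent.S4134

set_option autoImplicit false
set_option linter.style.haveILetI false

namespace Cfsg.Agent.S4139

open scoped Classical Pointwise

universe u v

variable {G : Type u} [Group G] [Finite G] {p : ℕ} [hp : Fact p.Prime]

local notation "C[" x "]" => Subgroup.centralizer ({x} : Set G)
local notation "Z₀" => Subgroup.center G

lemma cls_card (g : G) : Nat.card (ConjClasses.mk g).carrier = C[g].index := by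
  rw [Subgroup.centralizer_eq_comap_stabilizer, Nat.card_coe_set_eq]
  refine Eq.trans ?_ (Subgroup.index_comap_of_surjective (f := (ConjAct.toConjAct (G := G)).toMonoidHom) _
    (ConjAct.toConjAct (G := G)).surjective).symm
  rw [MulAction.index_stabilizer, ConjAct.orbit_eq_carrier_conjClasses]

/-- A bijection preserving class sizes. -/
lemma exists_equiv {H : Type v} [Group H] [Finite H]
    (h : ∀ k : ℕ, Nat.card {C : ConjClasses G // Nat.card C.carrier = k} =
      Nat.card {C : ConjClasses H // Nat.card C.carrier = k}) :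
    ∃ φ : G ≃ H, ∀ g, (Subgroup.centralizer ({φ g} : Set H)).index = C[g].index := by
  obtain ⟨e, he⟩ : ∃ e : ConjClasses G ≃ ConjClasses H,
      ∀ C, Nat.card (e C).carrier = Nat.card C.carrier :=
    ⟨Equiv.ofFiberEquiv (f := fun C : ConjClasses G => Nat.card C.carrier)
      (g := fun C : ConjClasses H => Nat.card C.carrier) (fun k => (Finite.card_eq.1 (h k)).some),
      fun C => Equiv.ofFiberEquiv_map (f := fun C : ConjClasses G => Nat.card C.carrier)
        (g := fun C : ConjClasses H => Nat.card C.carrier) (fun k => (Finite.card_eq.1 (h k)).some) C⟩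
  let eG : (Σ C : ConjClasses G, C.carrier) ≃ G :=
    (Equiv.sigmaCongrRight fun C => Equiv.subtypeEquivRight fun g => ConjClasses.mem_carrier_iff_mk_eq).trans
      (Equiv.sigmaFiberEquiv ConjClasses.mk)
  let eH : (Σ C : ConjClasses H, C.carrier) ≃ H :=
    (Equiv.sigmaCongrRight fun C => Equiv.subtypeEquivRight fun g => ConjClasses.mem_carrier_iff_mk_eq).trans
      (Equiv.sigmaFiberEquiv ConjClasses.mk)
  let eS : (Σ C : ConjClasses G, C.carrier) ≃ (Σ C : ConjClasses H, C.carrier) :=
    Equiv.sigmaCongr (β₂ := fun C : ConjClasses H => (C.carrier : Set H)) e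
      fun C => (Finite.card_eq.1 (he C).symm).some
  refine ⟨eG.symm.trans (eS.trans eH), fun g => ?_⟩
  set x := eG.symm g with hx
  have hg : eG x = g := eG.apply_symm_apply g
  set y := eS x with hy
  have h1 : ConjClasses.mk (eG x) = x.1 := ConjClasses.mem_carrier_iff_mk_eq.1 x.2.2
  have h2 : ConjClasses.mk (eH y) = y.1 := ConjClasses.mem_carrier_iff_mk_eq.1 y.2.2
  show (Subgroup.centralizer ({eH y} : Set H)).index = _
  rw [← hg, ← @cls_card H _ _ (eH y), ← cls_card, h1, h2]
  exact he x.1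

lemma center_iff {g : G} : g ∈ Z₀ ↔ C[g].index = 1 := by
  rw [Subgroup.index_eq_one, Subgroup.mem_center_iff]
  constructor
  · intro h
    rw [eq_top_iff]
    exact fun w _ => Subgroup.mem_centralizer_singleton_iff.2 (h w)
  · intro h w
    exact Subgroup.mem_centralizer_singleton_iff.1 (h ▸ Subgroup.mem_top w)

lemma conj_center {z : G} (hz : z ∈ Z₀) (u : G) : u * z * u⁻¹ = z := by
  rw [Subgroup.mem_center_iff.1 hz u, mul_inv_cancel_right]

lemma le_sylow_of_central {Q : Subgroup G} (hQ : IsPGroup p Q) (hQZ : Q ≤ Z₀) (P : Sylow p G) :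
    Q ≤ (P : Subgroup G) := by
  obtain ⟨R, hR⟩ := hQ.exists_le_sylow
  obtain ⟨u, hu⟩ := MulAction.exists_smul_eq G R P
  intro z hz
  rw [← hu, Sylow.coe_subgroup_smul]
  exact ⟨z, hR hz, conj_center (hQZ hz) u⟩

lemma card_center_inf (P : Sylow p G) :
    Nat.card (Z₀ ⊓ (P : Subgroup G) : Subgroup G) = p ^ (Nat.card Z₀).factorization p := by
  obtain ⟨S⟩ : Nonempty (Sylow p Z₀) := inferInstance
  have h1 : (S : Subgroup Z₀).map (Subgroup.center G).subtype ≤ Z₀ ⊓ (P : Subgroup G) :=
    le_inf (Subgroup.map_subtype_le _)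
      (le_sylow_of_central (S.isPGroup'.map _) (Subgroup.map_subtype_le _) P)
  have h2 : Nat.card ((S : Subgroup Z₀).map (Subgroup.center G).subtype) = p ^ (Nat.card Z₀).factorization p := by
    rw [Subgroup.card_map_of_injective (Subgroup.center G).subtype_injective, S.card_eq_multiplicity]
  refine Nat.dvd_antisymm ?_ (h2 ▸ Subgroup.card_dvd_of_le h1)
  obtain ⟨k, hk⟩ := IsPGroup.iff_card.1 (P.isPGroup'.to_le (inf_le_right : Z₀ ⊓ (P : Subgroup G) ≤ _))
  rw [hk]
  refine pow_dvd_pow p ?_
  exact (hp.out.pow_dvd_iff_le_factorization Nat.card_pos.ne').1 (hk ▸ Subgroup.card_dvd_of_le inf_le_left)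

lemma covered_iff (P : Sylow p G) (g : G) :
    ¬ p ∣ C[g].index ↔ ∃ u : G, u⁻¹ * g * u ∈ Subgroup.centralizer ((P : Subgroup G) : Set G) := by
  constructor
  · intro hg
    obtain ⟨S⟩ : Nonempty (Sylow p C[g]) := inferInstance
    set R := (S : Subgroup C[g]).map C[g].subtype
    have hRi : ¬ p ∣ R.index := by
      rw [Subgroup.index_map, Subgroup.ker_subtype, sup_bot_eq, Subgroup.range_subtype]
      intro hd
      rcases hp.out.dvd_mul.1 hd with h' | h'
      · exact S.not_dvd_index h'
      · exact hg h'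
    obtain ⟨u, hu⟩ := MulAction.exists_smul_eq G P ((S.isPGroup'.map _).toSylow hRi)
    refine ⟨u, Subgroup.mem_centralizer_iff.2 fun x hx => ?_⟩
    have hxR : u * x * u⁻¹ ∈ R := by
      have : u * x * u⁻¹ ∈ ((u • P : Sylow p G) : Subgroup G) := by
        rw [Sylow.coe_subgroup_smul]; exact ⟨x, hx, rfl⟩
      rw [hu] at this
      exact this
    have h1 := Subgroup.mem_centralizer_singleton_iff.1 (Subgroup.map_subtype_le _ hxR)
    calc x * (u⁻¹ * g * u) = u⁻¹ * (u * x * u⁻¹ * g) * u := by group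
      _ = u⁻¹ * (g * (u * x * u⁻¹)) * u := by rw [h1]
      _ = u⁻¹ * g * u * x := by group
  · rintro ⟨u, hu⟩ hd
    have hle : ((u • P : Sylow p G) : Subgroup G) ≤ C[g] := by
      rw [Sylow.coe_subgroup_smul]
      rintro _ ⟨x, hx, rfl⟩
      have h1 : x * (u⁻¹ * g * u) = u⁻¹ * g * u * x := Subgroup.mem_centralizer_iff.1 hu x hx
      refine Subgroup.mem_centralizer_singleton_iff.2 ?_
      show u * x * u⁻¹ * g = g * (u * x * u⁻¹)
      calc u * x * u⁻¹ * g = u * (x * (u⁻¹ * g * u)) * u⁻¹ := by group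
        _ = u * (u⁻¹ * g * u * x) * u⁻¹ := by rw [h1]
        _ = g * (u * x * u⁻¹) := by group
    exact (u • P).not_dvd_index (hd.trans (Subgroup.index_dvd_of_le hle))

lemma card_sup_normal {A B : Subgroup G} (hB : A ≤ Subgroup.normalizer (B : Set G)) :
    Nat.card (B ⊔ A : Subgroup G) * Nat.card (B ⊓ A : Subgroup G) = Nat.card B * Nat.card A :=
  SolvBasic.card_sup_mul_card_inf hB

lemma inf_cent (P : Subgroup G) : Z₀ ⊓ P ≤ P ⊓ Subgroup.centralizer (P : Set G) := fun _ hz =>
  ⟨hz.2, Subgroup.center_le_centralizer _ hz.1⟩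

/-- The number of elements with class size prime to `p` in a nilpotent group. -/
lemma count_nilpotent (hN : Group.IsNilpotent G) :
    Nat.card {g : G // ¬ p ∣ C[g].index} * p ^ (Nat.card G).factorization p =
      Nat.card G * p ^ (Nat.card Z₀).factorization p := by
  haveI := hN
  obtain ⟨P⟩ : Nonempty (Sylow p G) := inferInstance
  haveI hPn : (P : Subgroup G).Normal :=
    Sylow.normal_of_normalizerCondition Group.normalizerCondition_of_isNilpotent P
  set C := Subgroup.centralizer ((P : Subgroup G) : Set G)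
  have hcom : ∀ q : ℕ, q.Prime → q ≠ p → ∀ a : G, (∃ k, orderOf a = q ^ k) → a ∈ C := by
    intro q hq hqp a ha
    haveI := Fact.mk hq
    obtain ⟨Q⟩ : Nonempty (Sylow q G) := inferInstance
    haveI hQn : (Q : Subgroup G).Normal :=
      Sylow.normal_of_normalizerCondition Group.normalizerCondition_of_isNilpotent Q
    obtain ⟨k, hk⟩ := ha
    obtain ⟨R, hR⟩ := (IsPGroup.of_card (n := k) (by rw [Nat.card_zpowers, hk]) :
      IsPGroup q (Subgroup.zpowers a)).exists_le_sylow
    haveI := Sylow.unique_of_normal Q hQn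
    have haQ : a ∈ (Q : Subgroup G) := Subsingleton.elim R Q ▸ hR (Subgroup.mem_zpowers a)
    refine Subgroup.mem_centralizer_iff.2 fun x hx => ?_
    exact (Subgroup.commute_of_normal_of_disjoint _ _ hPn hQn
      (IsPGroup.disjoint_of_ne p q (Ne.symm hqp) _ _ P.isPGroup' Q.isPGroup') x a hx haQ).eq
  have htop : (P : Subgroup G) ⊔ C = ⊤ := by
    refine top_le_iff.1 (S4134.le_of_primePow fun q hq a _ ha => ?_)
    by_cases hqp : q = p
    · subst hqp
      obtain ⟨k, hk⟩ := ha
      obtain ⟨R, hR⟩ := (IsPGroup.of_card (n := k) (by rw [Nat.card_zpowers, hk]) :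
        IsPGroup q (Subgroup.zpowers a)).exists_le_sylow
      haveI := Sylow.unique_of_normal P hPn
      exact Subgroup.mem_sup_left (Subsingleton.elim R P ▸ hR (Subgroup.mem_zpowers a))
    · exact Subgroup.mem_sup_right (hcom q hq hqp a ha)
  have hinf : (P : Subgroup G) ⊓ C = Z₀ ⊓ (P : Subgroup G) := by
    refine le_antisymm (fun z hz => ⟨?_, hz.1⟩) (inf_cent _)
    refine Subgroup.mem_center_iff.2 fun w => ?_
    have hle : (P : Subgroup G) ⊔ C ≤ C[z] := sup_le
      (fun x hx => Subgroup.mem_centralizer_singleton_iff.2 (Subgroup.mem_centralizer_iff.1 hz.2 x hx))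
      (fun x hx => Subgroup.mem_centralizer_singleton_iff.2
        (Subgroup.mem_centralizer_iff.1 hx z hz.1).symm)
    exact Subgroup.mem_centralizer_singleton_iff.1 (hle (htop ▸ Subgroup.mem_top w))
  have h1 := card_sup_normal (A := C) (B := (P : Subgroup G)) (Subgroup.centralizer_le_normalizer _)
  rw [htop, Subgroup.card_top, hinf, card_center_inf, P.card_eq_multiplicity] at h1
  have h2 : Nat.card {g : G // ¬ p ∣ C[g].index} = Nat.card C := by
    refine Nat.card_congr (Equiv.subtypeEquivRight fun g => ?_)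
    haveI : C.Normal := inferInstance
    rw [covered_iff P]
    refine ⟨fun ⟨u, hu⟩ => ?_, fun hg => ⟨1, by rwa [inv_one, one_mul, mul_one]⟩⟩
    have := (inferInstance : C.Normal).conj_mem _ hu u
    simpa [mul_assoc] using this
  rw [h2, h1, mul_comm]

theorem sylow_normal
    (hX : Nat.card {g : G // ¬ p ∣ C[g].index} * p ^ (Nat.card G).factorization p =
      Nat.card G * p ^ (Nat.card Z₀).factorization p) (P : Sylow p G) : (P : Subgroup G).Normal := by
  set C := Subgroup.centralizer ((P : Subgroup G) : Set G) with hC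
  set Zp := Z₀ ⊓ (P : Subgroup G) with hZp
  set z := p ^ (Nat.card Z₀).factorization p
  set M := Nat.card G / p ^ (Nat.card G).factorization p
  have hzpos : 0 < z := pow_pos hp.out.pos _
  have hzc : Nat.card Zp = z := card_center_inf P
  haveI : Zp.Normal := ⟨fun a ha u => by rw [conj_center ha.1 u]; exact ha⟩
  have hM : Nat.card G = M * p ^ (Nat.card G).factorization p :=
    (Nat.div_mul_cancel (Nat.ordProj_dvd _ _)).symm
  have hMp : ¬ p ∣ M := Nat.not_dvd_ordCompl hp.out Nat.card_pos.ne'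
  have hXc : Nat.card {g : G // ¬ p ∣ C[g].index} = M * z := by
    refine Nat.eq_of_mul_eq_mul_right (pow_pos hp.out.pos ((Nat.card G).factorization p)) ?_
    rw [hX]; nth_rw 1 [hM]; ring
  have hcov_mul : ∀ g : G, ∀ a ∈ Z₀, C[g * a] = C[g] := by
    intro g a ha
    ext w
    have haw := Subgroup.mem_center_iff.1 ha w
    rw [Subgroup.mem_centralizer_singleton_iff, Subgroup.mem_centralizer_singleton_iff, ← mul_assoc,
      mul_assoc g a w, ← haw, ← mul_assoc]
    exact mul_right_cancel_iff
  -- the cosets of `Zp` inside the covered set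
  let Y := {q : G ⧸ Zp // ¬ p ∣ C[q.out].index}
  have hout : ∀ g : G, C[((g : G ⧸ Zp)).out] = C[g] := fun g => by
    obtain ⟨a, ha⟩ := QuotientGroup.mk_out_eq_mul Zp g
    rw [ha, hcov_mul g a a.2.1]
  have hY : Nat.card {g : G // ¬ p ∣ C[g].index} = Nat.card Y * z := by
    rw [← hzc, ← Nat.card_prod]
    let f : {g : G // ¬ p ∣ C[g].index} → Y × Zp := fun g =>
      (⟨((g : G) : G ⧸ Zp), by rw [hout]; exact g.2⟩,
        ⟨((g : G) : G ⧸ Zp).out⁻¹ * g, QuotientGroup.eq.1 (QuotientGroup.out_eq' _)⟩)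
    refine Nat.card_congr (Equiv.ofBijective f ⟨fun a b hab => ?_, fun qz => ?_⟩)
    · have h1 : ((a : G) : G ⧸ Zp) = ((b : G) : G ⧸ Zp) := congrArg (fun y => (y.1 : G ⧸ Zp)) hab
      have h2 : ((a : G) : G ⧸ Zp).out⁻¹ * (a : G) = ((b : G) : G ⧸ Zp).out⁻¹ * (b : G) :=
        congrArg (fun y => (y.2 : G)) hab
      rw [h1] at h2
      exact Subtype.ext (mul_left_cancel h2)
    · obtain ⟨⟨q, hq⟩, ⟨a, ha⟩⟩ := qz
      have hq' : ((q.out * a : G) : G ⧸ Zp) = q := by
        rw [QuotientGroup.mk_mul, QuotientGroup.out_eq', (QuotientGroup.eq_one_iff a).2 ha, mul_one]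
      refine ⟨⟨q.out * a, by rw [hcov_mul _ a ha.1]; exact hq⟩, Prod.ext (Subtype.ext hq') (Subtype.ext ?_)⟩
      show ((q.out * a : G) : G ⧸ Zp).out⁻¹ * (q.out * a) = a
      rw [hq', inv_mul_cancel_left]
  have hYM : Nat.card Y = M := Nat.eq_of_mul_eq_mul_right hzpos (hY.symm.trans hXc)
  have hconj : ∀ (u g : G), ¬ p ∣ C[g].index → ¬ p ∣ C[u * g * u⁻¹].index := fun u g hg => by
    rw [covered_iff P] at hg ⊢
    obtain ⟨c, hc⟩ := hg
    exact ⟨u * c, by rwa [show (u * c)⁻¹ * (u * g * u⁻¹) * (u * c) = c⁻¹ * g * c by group]⟩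
  letI act : MulAction (P : Subgroup G) Y :=
    { smul := fun u q => ⟨((u : G) : G ⧸ Zp) * q.1 * ((u : G) : G ⧸ Zp)⁻¹, by
        rw [← QuotientGroup.out_eq' q.1, ← QuotientGroup.mk_mul, ← QuotientGroup.mk_inv,
          ← QuotientGroup.mk_mul, hout]
        exact hconj _ _ q.2⟩
      one_smul := fun q => Subtype.ext (show ((1 : G) : G ⧸ Zp) * q.1 * ((1 : G) : G ⧸ Zp)⁻¹ = q.1 by simp)
      mul_smul := fun u w q => Subtype.ext (show (((u * w : (P : Subgroup G)) : G) : G ⧸ Zp) * q.1 *
        (((u * w : (P : Subgroup G)) : G) : G ⧸ Zp)⁻¹ = ((u : G) : G ⧸ Zp) *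
          (((w : G) : G ⧸ Zp) * q.1 * ((w : G) : G ⧸ Zp)⁻¹) * ((u : G) : G ⧸ Zp)⁻¹ by
          rw [Subgroup.coe_mul, QuotientGroup.mk_mul, mul_inv_rev]; simp only [mul_assoc]) }
  have hfix : Nat.card (MulAction.fixedPoints (P : Subgroup G) Y) = Zp.relIndex C := by
    rw [← QuotientGroup.ker_mk' Zp, Subgroup.relIndex_ker]
    have hfixC : ∀ q ∈ MulAction.fixedPoints (P : Subgroup G) Y, (q : Y).1.out ∈ C := by
      intro q hq
      set g := (q : Y).1.out with hg
      refine Subgroup.mem_centralizer_iff.2 fun x hx => ?_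
      have h1 : ((x : G) : G ⧸ Zp) * q.1 * ((x : G) : G ⧸ Zp)⁻¹ = q.1 := congrArg Subtype.val (hq ⟨x, hx⟩)
      rw [← QuotientGroup.out_eq' q.1, ← QuotientGroup.mk_mul, ← QuotientGroup.mk_inv,
        ← QuotientGroup.mk_mul] at h1
      have h2 : g⁻¹ * (x * g * x⁻¹) ∈ Zp := QuotientGroup.eq.1 h1.symm
      set a := g⁻¹ * (x * g * x⁻¹) with ha
      -- translation by `a` preserves the class of `g`
      have hclass : ∀ v, IsConj v g → IsConj (a * v) g := by
        intro v hv
        obtain ⟨w, rfl⟩ := isConj_iff.1 hv.symm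
        refine (isConj_iff.2 ⟨w * x, ?_⟩).symm
        have : a * (w * g * w⁻¹) = w * (g * a) * w⁻¹ := by
          rw [← mul_assoc w g a]
          calc a * (w * g * w⁻¹) = (w * g * w⁻¹) * a := (Subgroup.mem_center_iff.1 h2.1 _).symm
            _ = w * g * (w⁻¹ * a) := by group
            _ = w * g * (a * w⁻¹) := by rw [Subgroup.mem_center_iff.1 h2.1 w⁻¹]
            _ = w * g * a * w⁻¹ := by group
        rw [this, ha, mul_inv_cancel_left]; group
      have ha1 : a = 1 := by
        set W : Set G := (ConjClasses.mk g).carrier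
        have hWmem : ∀ v, v ∈ W ↔ IsConj v g := fun v => by
          rw [ConjClasses.mem_carrier_iff_mk_eq, ConjClasses.mk_eq_mk_iff_isConj]
        letI : MulAction (Subgroup.zpowers a) W :=
          { smul := fun s v => ⟨(s : G) * v, by
              rw [hWmem]
              have hst : Subgroup.zpowers a ≤ MulAction.stabilizer G W := Subgroup.zpowers_le.2
                ((MulAction.mem_stabilizer_set' (Set.toFinite _)).2 fun v hv =>
                  (hWmem _).2 (hclass v ((hWmem v).1 hv)))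
              exact (hWmem _).1 (((MulAction.mem_stabilizer_set' (Set.toFinite _)).1 (hst s.2)) v.2)⟩
            one_smul := fun v => Subtype.ext (one_mul _)
            mul_smul := fun s t v => Subtype.ext (mul_assoc _ _ _) }
        have hfree : ∀ v : W, MulAction.stabilizer (Subgroup.zpowers a) v = ⊥ := by
          intro v
          rw [eq_bot_iff]
          intro s hs
          exact Subgroup.mem_bot.2 (Subtype.ext (mul_eq_right.1
            (congrArg Subtype.val hs : (s : G) * v = v)))
        have hdvd : orderOf a ∣ C[g].index := by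
          rw [← cls_card, Nat.card_congr (MulAction.selfEquivOrbitsQuotientProd hfree), Nat.card_prod,
            Nat.card_zpowers]
          exact dvd_mul_left _ _
        obtain ⟨i, hi⟩ := IsPGroup.iff_orderOf.1 P.isPGroup' ⟨a, h2.2⟩
        rw [Subgroup.orderOf_mk] at hi
        rcases i with _ | i
        · exact orderOf_eq_one_iff.1 (by rw [hi, pow_zero])
        · exact absurd ((hi ▸ dvd_pow_self p (Nat.succ_ne_zero i)).trans hdvd) q.2
      rw [ha, inv_mul_eq_one] at ha1
      exact mul_inv_eq_iff_eq_mul.1 ha1.symm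
    have hCfix : ∀ g ∈ C, ∀ (hg : ¬ p ∣ C[((g : G ⧸ Zp)).out].index),
        (⟨(g : G ⧸ Zp), hg⟩ : Y) ∈ MulAction.fixedPoints (P : Subgroup G) Y := by
      intro g hg _ x
      apply Subtype.ext
      show ((x : G) : G ⧸ Zp) * (g : G ⧸ Zp) * ((x : G) : G ⧸ Zp)⁻¹ = _
      rw [← QuotientGroup.mk_inv, ← QuotientGroup.mk_mul, ← QuotientGroup.mk_mul,
        Subgroup.mem_centralizer_iff.1 hg x x.2, mul_inv_cancel_right]
    have hCcov : ∀ g ∈ C, ¬ p ∣ C[((g : G ⧸ Zp)).out].index := fun g hg => by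
      rw [hout, covered_iff P]; exact ⟨1, by rwa [inv_one, one_mul, mul_one]⟩
    refine Nat.card_congr (Equiv.ofBijective
      (fun q => (⟨q.1.1, q.1.1.out, hfixC q.1 q.2, QuotientGroup.out_eq' _⟩ : C.map (QuotientGroup.mk' Zp)))
      ⟨fun a b hab => ?_, ?_⟩)
    · exact Subtype.ext (Subtype.ext (congrArg Subtype.val hab :))
    · rintro ⟨_, g, hg, rfl⟩
      exact ⟨⟨_, hCfix g hg (hCcov g hg)⟩, rfl⟩
  have hmod := P.isPGroup'.card_modEq_card_fixedPoints Y
  rw [hfix, hYM] at hmod
  -- the centre of `P` is central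
  have hrel : ¬ p ∣ Zp.relIndex C := fun hd =>
    hMp (Nat.modEq_zero_iff_dvd.1 (hmod.trans (Nat.modEq_zero_iff_dvd.2 hd)))
  have hle0 : Zp ≤ (P : Subgroup G) ⊓ C := inf_cent _
  have hinf : (P : Subgroup G) ⊓ C = Zp := by
    refine le_antisymm (Subgroup.relIndex_eq_one.1 ?_) hle0
    have hd1 : Zp.relIndex ((P : Subgroup G) ⊓ C) ∣ Zp.relIndex C :=
      Dvd.intro _ (Subgroup.relIndex_mul_relIndex Zp ((P : Subgroup G) ⊓ C) C hle0 inf_le_right)
    obtain ⟨i, hi⟩ := IsPGroup.iff_card.1 (P.isPGroup'.to_le (inf_le_left : (P : Subgroup G) ⊓ C ≤ _))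
    have hd2 : Zp.relIndex ((P : Subgroup G) ⊓ C) ∣ p ^ i := hi ▸ Subgroup.index_dvd_card _
    exact Nat.eq_one_of_dvd_coprimes (((hp.out.coprime_iff_not_dvd).2 hrel).pow_left i) hd2 hd1
  -- counting conjugates of `C`
  set N := Subgroup.normalizer ((P : Subgroup G) : Set G)
  have hCN : C ≤ N := Subgroup.centralizer_le_normalizer _
  set K := Nat.card C / z
  have hzC : z ∣ Nat.card C := hzc ▸ Subgroup.card_dvd_of_le (hle0.trans inf_le_right)
  have hK : Nat.card C = K * z := (Nat.div_mul_cancel hzC).symm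
  have hKpos : 0 < K := by
    rcases Nat.eq_zero_or_pos K with h | h
    · rw [h, zero_mul] at hK; exact absurd hK Nat.card_pos.ne'
    · exact h
  have hNlow : p ^ (Nat.card G).factorization p * K ≤ Nat.card N := by
    have h1 := card_sup_normal (A := C) (B := (P : Subgroup G)) hCN
    rw [hinf, hzc, P.card_eq_multiplicity, hK, ← mul_assoc] at h1
    have h2 := Nat.eq_of_mul_eq_mul_right hzpos h1
    rw [← h2]
    exact Nat.le_of_dvd Nat.card_pos (Subgroup.card_dvd_of_le (sup_le Subgroup.le_normalizer hCN))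
  have hiK : N.index * K ≤ M := by
    refine Nat.le_of_mul_le_mul_left ?_ (pow_pos hp.out.pos ((Nat.card G).factorization p))
    calc _ = N.index * (p ^ (Nat.card G).factorization p * K) := by ring
      _ ≤ N.index * Nat.card N := Nat.mul_le_mul_left _ hNlow
      _ = Nat.card G := by rw [mul_comm, Subgroup.card_mul_index]
      _ = _ := by rw [mul_comm]; exact hM
  have hbound : M * z + N.index * z ≤ N.index * (K * z) + z := by
    have hrep : ∀ g : {g : G // ¬ p ∣ C[g].index}, (g : G) ∉ Zp →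
        ∃ cd : (G ⧸ N) × {c : C // (c : G) ∉ Zp},
          cd.1.out * ((cd.2 : C) : G) * cd.1.out⁻¹ = (g : G) := by
      rintro ⟨g, hg⟩ hgZ
      obtain ⟨u, hu⟩ := (covered_iff P g).1 hg
      set c : G ⧸ N := (u : G ⧸ N) with hc
      obtain ⟨w, hw⟩ := QuotientGroup.mk_out_eq_mul N u
      have hmem : c.out⁻¹ * g * c.out ∈ C := by
        rw [hc, hw, Subgroup.mem_centralizer_iff]
        intro x hx
        have hwx : (w : G) * x * (w : G)⁻¹ ∈ (P : Subgroup G) := (Subgroup.mem_normalizer_iff.1 w.2 x).1 hx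
        have h1 := Subgroup.mem_centralizer_iff.1 hu _ hwx
        calc x * ((u * w)⁻¹ * g * (u * w))
            = (w : G)⁻¹ * ((w : G) * x * (w : G)⁻¹ * (u⁻¹ * g * u)) * w := by group
          _ = (w : G)⁻¹ * (u⁻¹ * g * u * ((w : G) * x * (w : G)⁻¹)) * w := by rw [h1]
          _ = (u * w)⁻¹ * g * (u * w) * x := by group
      refine ⟨(c, ⟨⟨_, hmem⟩, fun h => hgZ ?_⟩), by show c.out * (c.out⁻¹ * g * c.out) * c.out⁻¹ = g; group⟩
      have := (inferInstance : Zp.Normal).conj_mem _ h c.out
      simpa [mul_assoc] using this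
    choose f hf using hrep
    have h1 : Nat.card {g : G // ¬ p ∣ C[g].index} ≤
        Nat.card (Zp ⊕ (G ⧸ N) × {c : C // (c : G) ∉ Zp}) := by
      refine Nat.card_le_card_of_injective
        (fun g => if h : (g : G) ∈ Zp then Sum.inl ⟨g, h⟩ else Sum.inr (f g h)) ?_
      intro a b hab
      by_cases ha : (a : G) ∈ Zp <;> by_cases hb : (b : G) ∈ Zp <;> simp [ha, hb] at hab
      · exact Subtype.ext hab
      · exact Subtype.ext (by rw [← hf a ha, ← hf b hb, hab])
    have h2 : Nat.card {c : C // (c : G) ∉ Zp} + z = Nat.card C := by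
      have e := Nat.card_congr (Equiv.sumCompl (fun c : C => (c : G) ∈ Zp))
      rw [Nat.card_sum] at e
      rw [← e, add_comm, ← hzc]
      congr 1
      exact Nat.card_congr ⟨fun a => ⟨⟨a, (hle0.trans inf_le_right) a.2⟩, a.2⟩, fun c => ⟨c.1, c.2⟩,
        fun _ => rfl, fun _ => rfl⟩
    rw [Nat.card_sum, Nat.card_prod, hzc, ← Subgroup.index_eq_card, hXc] at h1
    have h3 : N.index * Nat.card {c : C // (c : G) ∉ Zp} + N.index * z = N.index * (K * z) := by
      rw [← mul_add, h2, hK]
    omega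
  have hi1 : N.index = 1 := by
    have h1 : (M + N.index) * z ≤ (N.index * K + 1) * z := by linarith
    have h2 := Nat.le_of_mul_le_mul_right h1 hzpos
    have h3 := Nat.pos_of_ne_zero (Subgroup.index_ne_zero_of_finite (H := N))
    omega
  exact Subgroup.normalizer_eq_top_iff.1 (Subgroup.index_eq_one.1 hi1)

end Cfsg.Agent.S4139


set_option autoImplicit false
open Cfsg

namespace Cfsg.Agent.S4139

/-- Let G and H be finite groups such that for every natural number k, G and H have the same number of conjugacy classes of size k. If H is nilpotent then G is nilpotent. -/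
theorem result {G H : Type*} [Group G] [Finite G] [Group H] [Finite H]
    (hH : Group.IsNilpotent H)
    (h : ∀ k : ℕ, Nat.card {C : ConjClasses G // Nat.card C.carrier = k} = Nat.card {C : ConjClasses H // Nat.card C.carrier = k}) :
    Group.IsNilpotent G := by
  classical
  obtain ⟨φ, hφ⟩ := exists_equiv h
  have hZ : Nat.card (Subgroup.center G) = Nat.card (Subgroup.center H) :=
    Nat.card_congr (φ.subtypeEquiv fun g => by rw [center_iff, center_iff, hφ])
  have hc : Nat.card G = Nat.card H := Nat.card_congr φ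
  have hall : ∀ (p : ℕ) (_ : Fact p.Prime) (P : Sylow p G), (P : Subgroup G).Normal := by
    intro p _ P
    refine sylow_normal ?_ P
    rw [Nat.card_congr (φ.subtypeEquiv (p := fun g => ¬ p ∣ (Subgroup.centralizer ({g} : Set G)).index)
      (q := fun g => ¬ p ∣ (Subgroup.centralizer ({g} : Set H)).index) fun g => by rw [hφ]), hc, hZ]
    exact count_nilpotent hH
  exact ((Group.isNilpotent_of_finite_tfae (G := G)).out 0 3).2 hall

end Cfsg.Agent.S4139
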