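import Cfsg.Statements.S4142
import Cfsg.Agent.Lib.FGStruct.Counting

set_option autoImplicit false
set_option linter.style.haveILetI false

set_option autoImplicit false
open Cfsg

namespace Cfsg.Agent.S4142

/-- Let G be a finite group and N a normal subgroup. Then the conjugacy class of every element g outside N is a union of cosets of N (gn is conjugate to g for all n ∈ N) if and only if for every g outside N the centralizer of g in G has the same order as the centralizer of gN in G/N. -/
theorem result {G : Type*} [Group G] [Finite G] (N : Subgroup G) [N.Normal] :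
    (∀ g : G, g ∉ N → ∀ n ∈ N, ∃ x : G, x * g * x⁻¹ = g * n) ↔
      ∀ g : G, g ∉ N → Nat.card (Subgroup.centralizer ({g} : Set G)) =
        Nat.card (Subgroup.centralizer ({(QuotientGroup.mk g : G ⧸ N)} : Set (G ⧸ N))) := by
  classical
  haveI := Fintype.ofFinite G
  set π := QuotientGroup.mk' N with hπ
  have key : ∀ g : G,
      ((∀ n ∈ N, ∃ x : G, x * g * x⁻¹ = g * n) → Nat.card (Subgroup.centralizer ({g} : Set G)) =
        Nat.card (Subgroup.centralizer ({π g} : Set (G ⧸ N)))) ∧
      (Nat.card (Subgroup.centralizer ({g} : Set G)) =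
        Nat.card (Subgroup.centralizer ({π g} : Set (G ⧸ N))) → ∀ n ∈ N, ∃ x : G, x * g * x⁻¹ = g * n) := by
    intro g
    let T : Set G := {h : G | IsConj (π g) (π h)}
    have hsub : (ConjClasses.mk g).carrier ⊆ T := by
      intro h hh
      rw [ConjClasses.mem_carrier_iff_mk_eq, ConjClasses.mk_eq_mk_iff_isConj] at hh
      exact MonoidHom.map_isConj π hh.symm
    have hT : Nat.card T = Nat.card N * Nat.card (ConjClasses.mk (π g)).carrier := by
      have hT' : T = π ⁻¹' (ConjClasses.mk (π g)).carrier := by
        ext h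
        show IsConj (π g) (π h) ↔ _
        rw [Set.mem_preimage, ConjClasses.mem_carrier_iff_mk_eq, ConjClasses.mk_eq_mk_iff_isConj]
        exact isConj_comm
      rw [hT', ← Nat.card_prod]
      exact Nat.card_congr (QuotientGroup.preimageMkEquivSubgroupProdSet N _)
    have h1 := Cfsg.Agent.Counting.card_carrier_mul g
    have h2 := Cfsg.Agent.Counting.card_carrier_mul (π g)
    have h3 : Nat.card G = Nat.card N * Nat.card (G ⧸ N) := by
      rw [mul_comm, ← Subgroup.card_eq_card_quotient_mul_card_subgroup]
    have hC : 0 < Nat.card (Subgroup.centralizer ({g} : Set G)) := Nat.card_pos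
    constructor
    · intro hcam
      have hEq : (ConjClasses.mk g).carrier = T := by
        refine Set.Subset.antisymm hsub fun h hh => ?_
        obtain ⟨c, hc⟩ := isConj_iff.1 hh
        obtain ⟨x, rfl⟩ := QuotientGroup.mk'_surjective N c
        change π x * π g * (π x)⁻¹ = π h at hc
        obtain ⟨y, hy⟩ := hcam (g⁻¹ * (x⁻¹ * h * x)) (by
          rw [← QuotientGroup.eq_one_iff]
          show π (g⁻¹ * (x⁻¹ * h * x)) = 1
          simp only [map_mul, map_inv]
          rw [← hc]; group)
        rw [ConjClasses.mem_carrier_iff_mk_eq, ConjClasses.mk_eq_mk_iff_isConj]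
        refine (isConj_iff.2 ⟨x * y, ?_⟩ : IsConj g h).symm
        rw [show x * y * g * (x * y)⁻¹ = x * (y * g * y⁻¹) * x⁻¹ by group, hy]
        group
      rw [hEq, hT, h3, ← h2, mul_assoc] at h1
      exact Nat.eq_of_mul_eq_mul_left
        (Nat.card_pos_iff.2 ⟨⟨⟨π g, ConjClasses.mem_carrier_mk⟩⟩, inferInstance⟩)
        (Nat.eq_of_mul_eq_mul_left Nat.card_pos h1)
    · intro heq n hn
      have hcard : Nat.card T ≤ Nat.card (ConjClasses.mk g).carrier := by
        refine le_of_eq (Nat.eq_of_mul_eq_mul_right hC ?_)
        rw [h1, hT, heq, mul_assoc, h2, ← h3]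
      have hEq : (ConjClasses.mk g).carrier = T :=
        Set.eq_of_subset_of_ncard_le hsub (by rw [← Nat.card_coe_set_eq, ← Nat.card_coe_set_eq]; exact hcard)
          (Set.toFinite _)
      have hmem : g * n ∈ T := by
        show IsConj (π g) (π (g * n))
        rw [map_mul, show π n = 1 from (QuotientGroup.eq_one_iff n).2 hn, mul_one]
      rw [← hEq, ConjClasses.mem_carrier_iff_mk_eq, ConjClasses.mk_eq_mk_iff_isConj] at hmem
      exact isConj_iff.1 hmem.symm
  exact ⟨fun h g hg => (key g).1 (h g hg), fun h g hg => (key g).2 (h g hg)⟩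

end Cfsg.Agent.S4142
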