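import Cfsg.Statements.S4146
import Cfsg.Agent.Lib.ClassSizeQuad.Final

set_option autoImplicit false
open Cfsg

namespace Cfsg.Agent.S4146

/-- Let G be a finite group whose conjugacy class sizes are exactly 1, n, m and nm for coprime integers n, m > 1. Then G is nilpotent and n and m are prime powers. -/
theorem result {G : Type*} [Group G] [Finite G] (n m : ℕ) (hn : 1 < n) (hm : 1 < m) (hcop : n.Coprime m)
    (h : Set.range (fun x : G => (Subgroup.centralizer ({x} : Set G)).index) = ({1, n, m, n * m} : Set ℕ)) :
    Group.IsNilpotent G ∧ IsPrimePow n ∧ IsPrimePow m := by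
  have mem : ∀ k : ℕ, k ∈ ({1, n, m, n * m} : Set ℕ) →
      ∃ x : G, (Subgroup.centralizer ({x} : Set G)).index = k := fun k hk => by
    rw [← h] at hk; exact hk
  have sizes : ∀ x : G, (Subgroup.centralizer ({x} : Set G)).index ∈ ({1, n, m, n * m} : Set ℕ) :=
    fun x => h ▸ ⟨x, rfl⟩
  exact Cfsg.Agent.ClassQuad.Quad.nilpotent
    { one_lt_n := hn, one_lt_m := hm, cop := hcop,
      sizes := fun g => by simpa using sizes g
      ex_n := mem n (by simp), ex_m := mem m (by simp), ex_nm := mem (n * m) (by simp) }

end Cfsg.Agent.S4146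

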