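import Cfsg.Statements.S4149
import Cfsg.Agent.Lib.ClassSize.Cover
-- import your own Cfsg.Agent.* helpers here

set_option autoImplicit false
open Cfsg

namespace Cfsg.Agent.S4149

/-- Let G be a finite group that has a normal p-complement for at most one prime p dividing its order, and let σ be a natural number such that every conjugacy class size of G has at most σ distinct prime divisors. Then the number of primes dividing at least one conjugacy class size of G is at most 2σ. -/
theorem result {G : Type*} [Group G] [Finite G] (σ : ℕ)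
    (hσ : ∀ x : G, ((Subgroup.centralizer ({x} : Set G)).index).primeFactors.card ≤ σ)
    (hnil : ∀ p q : ℕ, p.Prime → q.Prime → p ∣ Nat.card G → q ∣ Nat.card G →
      Cfsg.HasNormalPComplement p G → Cfsg.HasNormalPComplement q G → p = q) :
    Nat.card {p : ℕ | p.Prime ∧ ∃ x : G, p ∣ (Subgroup.centralizer ({x} : Set G)).index} ≤ 2 * σ := by
  classical
  haveI := Fintype.ofFinite G
  let idx : G → ℕ := fun x => (Subgroup.centralizer ({x} : Set G)).index
  let ρ : Finset ℕ := ((Nat.card G).primeFactors).filter fun p => ∃ x : G, p ∣ idx x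
  have hdvd : ∀ x : G, idx x ∣ Nat.card G := fun x => Subgroup.index_dvd_card _
  have hset : {p : ℕ | p.Prime ∧ ∃ x : G, p ∣ (Subgroup.centralizer ({x} : Set G)).index} =
      (ρ : Set ℕ) := by
    ext p
    simp only [Set.mem_setOf_eq, ρ, idx, Finset.coe_filter, Nat.mem_primeFactors]
    exact ⟨fun ⟨h1, x, hx⟩ => ⟨⟨h1, hx.trans (hdvd x), Nat.card_pos.ne'⟩, x, hx⟩,
      fun h => ⟨h.1.1, h.2⟩⟩
  rw [hset, Nat.card_coe_set_eq, Set.ncard_coe_finset]
  have hmem : ∀ p ∈ ρ, p.Prime ∧ p ∣ Nat.card G ∧ ∃ x : G, p ∣ idx x := by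
    intro p hp
    simp only [ρ, Finset.mem_filter, Nat.mem_primeFactors] at hp
    exact ⟨hp.1.1, hp.1.2.1, hp.2⟩
  -- per element
  have hx : ∀ x : G, ρ.card ≤ σ + (ρ.filter fun p => ¬ p ∣ idx x).card := by
    intro x
    rw [← Finset.card_filter_add_card_filter_not (s := ρ) (p := fun p => p ∣ idx x)]
    gcongr
    refine le_trans (Finset.card_le_card ?_) (hσ x)
    intro p hp
    rw [Finset.mem_filter] at hp
    exact Nat.mem_primeFactors.2 ⟨(hmem p hp.1).1, hp.2, Subgroup.index_ne_zero_of_finite⟩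
  -- double counting
  have hsum : Nat.card G * ρ.card ≤ Nat.card G * σ +
      ∑ p ∈ ρ, (ClassCover.regSet (G := G) p).ncard := by
    have h1 : ∑ _x : G, ρ.card ≤ ∑ x : G, (σ + (ρ.filter fun p => ¬ p ∣ idx x).card) :=
      Finset.sum_le_sum fun x _ => hx x
    simp only [Finset.sum_const, Finset.card_univ, smul_eq_mul, Finset.sum_add_distrib,
      ← Nat.card_eq_fintype_card, Finset.card_filter] at h1
    rw [Finset.sum_comm] at h1
    refine h1.trans (le_of_eq ?_)
    congr 1
    refine Finset.sum_congr rfl fun p _ => ?_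
    rw [← Finset.card_filter, ← Set.ncard_coe_finset]
    simp [ClassCover.regSet, idx]
  have hlt : ∀ p ∈ ρ, (ClassCover.regSet (G := G) p).ncard < Nat.card G := by
    intro p hp
    obtain ⟨x, hxp⟩ := (hmem p hp).2.2
    rw [← Set.ncard_univ]
    exact Set.ncard_lt_ncard ((Set.ssubset_univ_iff).2 fun he =>
      ((Set.ext_iff.1 he x).2 trivial) hxp)
  have hhalf : ∀ p ∈ ρ, ¬ Cfsg.HasNormalPComplement p G →
      2 * (ClassCover.regSet (G := G) p).ncard ≤ Nat.card G := by
    intro p hp hn
    haveI : Fact p.Prime := ⟨(hmem p hp).1⟩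
    exact ClassCover.two_mul_ncard_regSet_le p hn
  have hn : 0 < Nat.card G := Nat.card_pos
  have key : Nat.card G * ρ.card < Nat.card G * (2 * σ + 1) := by
    by_cases hex : ∃ p₀ ∈ ρ, Cfsg.HasNormalPComplement p₀ G
    · obtain ⟨p₀, hp₀, hc⟩ := hex
      have h2 : 2 * ∑ p ∈ ρ.erase p₀, (ClassCover.regSet (G := G) p).ncard ≤
          (ρ.erase p₀).card * Nat.card G := by
        rw [Finset.mul_sum, ← smul_eq_mul, ← Finset.sum_const]
        refine Finset.sum_le_sum fun p hp => ?_
        obtain ⟨hne, hp⟩ := Finset.mem_erase.1 hp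
        exact hhalf p hp fun h => hne
          (hnil p p₀ (hmem p hp).1 (hmem p₀ hp₀).1 (hmem p hp).2.1 (hmem p₀ hp₀).2.1 h hc)
      rw [← Finset.add_sum_erase ρ _ hp₀] at hsum
      rw [Finset.card_erase_of_mem hp₀] at h2
      have := hlt p₀ hp₀
      obtain ⟨k, hk⟩ : ∃ k, ρ.card = k + 1 :=
        Nat.exists_eq_succ_of_ne_zero (Finset.card_pos.2 ⟨p₀, hp₀⟩).ne'
      rw [hk] at hsum h2 ⊢
      simp only [Nat.add_sub_cancel] at h2
      nlinarith
    · push_neg at hex
      have h2 : 2 * ∑ p ∈ ρ, (ClassCover.regSet (G := G) p).ncard ≤ ρ.card * Nat.card G := by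
        rw [Finset.mul_sum, ← smul_eq_mul, ← Finset.sum_const]
        exact Finset.sum_le_sum fun p hp => hhalf p hp (hex p hp)
      nlinarith
  exact Nat.lt_succ_iff.1 (Nat.lt_of_mul_lt_mul_left key)

end Cfsg.Agent.S4149
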