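import Cfsg.Statements.S4151
import Mathlib
import Cfsg.Agent.Lib.FGStruct.TISeparable
import Cfsg.Agent.S4016
import Cfsg.Agent.Lib.Solvable.Coprime

set_option autoImplicit false
set_option linter.style.haveILetI false

namespace Cfsg.Agent.S4151

open scoped Pointwise commutatorElement

variable {G : Type*} [Group G] [Finite G] {r : ℕ} [hr : Fact r.Prime]

/-- Telescoping: commutators with elements fixing a Sylow subgroup avoid its prime. -/
theorem commutator_le (H Q M L R : Subgroup G) (hHQ : Q ≤ Subgroup.normalizer (H : Set G))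
    (hcomm : ∀ h ∈ H, ∀ q ∈ Q, h * q * h⁻¹ * q⁻¹ ∈ M)
    (hLM : M ≤ Subgroup.normalizer (L : Set G)) (hQL : Q ≤ Subgroup.normalizer (L : Set G))
    (hRM : R ≤ M) (hQR : ∀ q ∈ Q, ∀ a ∈ R, q * a = a * q) (hRL : R ⊓ L = ⊥)
    (hsplit : ∀ m ∈ M, ∃ a ∈ R, ∃ w ∈ L, a * w = m) (hR : IsPGroup r R)
    (hQr : (Nat.card Q).Coprime r) : ⁅H, Q⁆ ≤ L := by
  rw [Subgroup.commutator_le]
  intro h hh q hq
  rw [commutatorElement_def]
  obtain ⟨a, ha, w, hw, haw⟩ := hsplit _ (hcomm h hh q hq)
  -- the `j`-th telescope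
  have key : ∀ j : ℕ, ∃ w' ∈ L, h * q ^ j * h⁻¹ * (q ^ j)⁻¹ = a ^ j * w' := by
    intro j
    induction j with
    | zero => exact ⟨1, one_mem L, by simp⟩
    | succ j ih =>
      obtain ⟨w', hw', he⟩ := ih
      have hqw : q * w' * q⁻¹ ∈ L := (Subgroup.mem_normalizer_iff.1 (hQL hq) w').1 hw'
      have haj : (a ^ j)⁻¹ * w * a ^ j ∈ L :=
        (Subgroup.mem_normalizer_iff''.1 (hLM (pow_mem (hRM ha) j)) w).1 hw
      refine ⟨((a ^ j)⁻¹ * w * a ^ j) * (q * w' * q⁻¹), mul_mem haj hqw, ?_⟩
      have hqa : q * a ^ j * q⁻¹ = a ^ j := by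
        rw [(Commute.pow_right (hQR q hq a ha) j).eq, mul_inv_cancel_right]
      calc h * q ^ (j + 1) * h⁻¹ * (q ^ (j + 1))⁻¹
          = (h * q * h⁻¹ * q⁻¹) * (q * (h * q ^ j * h⁻¹ * (q ^ j)⁻¹) * q⁻¹) := by
            rw [pow_succ']; group
        _ = (a * w) * (q * (a ^ j * w') * q⁻¹) := by rw [haw, he]
        _ = a * w * ((q * a ^ j * q⁻¹) * (q * w' * q⁻¹)) := by group
        _ = a * w * (a ^ j * (q * w' * q⁻¹)) := by rw [hqa]
        _ = a ^ (j + 1) * ((a ^ j)⁻¹ * w * a ^ j * (q * w' * q⁻¹)) := by rw [pow_succ']; group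
  obtain ⟨w', hw', he⟩ := key (orderOf q)
  rw [pow_orderOf_eq_one, mul_one, mul_inv_cancel, inv_one, mul_one] at he
  have h1 : a ^ orderOf q ∈ R ⊓ L := ⟨pow_mem ha _, by
    rw [eq_inv_of_mul_eq_one_left he.symm]; exact L.inv_mem hw'⟩
  rw [hRL, Subgroup.mem_bot] at h1
  have ha1 : a = 1 := PBasic.eq_one_of_isPGroup_of_coprime hR ha
    ((hQr.coprime_dvd_left ((orderOf_dvd_of_pow_eq_one h1).trans (Subgroup.orderOf_dvd_natCard Q hq))))
  rw [← haw, ha1, one_mul]
  exact hw

/-- The prime `r` does not divide `|[H, Q]|`. -/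
theorem coprime_commutator (H Q : Subgroup G) [IsZGroup H]
    (hHQ : Q ≤ Subgroup.normalizer (H : Set G)) (hcop : (Nat.card Q).Coprime (Nat.card H))
    (hd : r ∣ Nat.card (H ⊓ Subgroup.centralizer (Q : Set G) : Subgroup G)) :
    ¬ r ∣ Nat.card ↥⁅H, Q⁆ := by
  haveI : Group.IsSolvable H := inferInstance
  obtain ⟨⟨c, hc⟩, hco⟩ := exists_prime_orderOf_dvd_card' r hd
  rw [Subgroup.orderOf_mk] at hco
  obtain ⟨hcH, hcQ⟩ := Subgroup.mem_inf.1 hc
  obtain ⟨P, hcP, hPQ⟩ := CoprimeAct.exists_invariant_sylow_ge hHQ hcop (Or.inr inferInstance)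
    (p := r) (U := Subgroup.zpowers c) (Subgroup.zpowers_le.2 hcH)
    (IsPGroup.of_card (n := 1) (by rw [Nat.card_zpowers, hco, pow_one]))
    (fun q hq => by
      refine Subgroup.centralizer_le_normalizer _ ?_
      rintro _ ⟨i, rfl⟩
      exact ((Commute.zpow_left (hcQ q hq).symm i)).eq)
  set R := (P : Subgroup H).map H.subtype with hR
  have hRH : R ≤ H := Subgroup.map_subtype_le _
  have hRp : IsPGroup r R := P.isPGroup'.map _
  haveI : IsCyclic R := (((P : Subgroup H).equivMapOfInjective H.subtype H.subtype_injective).isCyclic.1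
    inferInstance)
  have hc1 : c ≠ 1 := fun h => by rw [h, orderOf_one] at hco; exact hr.out.ne_one hco.symm
  have hrH : r ∣ Nat.card H := hd.trans (Subgroup.card_dvd_of_le inf_le_left)
  have hQr : (Nat.card Q).Coprime r := hcop.coprime_dvd_right hrH
  have hQR : ∀ q ∈ Q, ∀ a ∈ R, q * a = a * q := by
    intro q hq a ha
    rcases S4016.cyclic_action R inferInstance hRp (hPQ hq)
      (hQr.coprime_dvd_left (Subgroup.orderOf_dvd_natCard Q hq)) with h | ⟨h, -⟩
    · exact h a ha
    · exact absurd (h c (hcP (Subgroup.mem_zpowers c)) (hcQ q hq)) hc1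
  set D := (commutator H).map H.subtype with hD
  have hDH : D ≤ H := Subgroup.map_subtype_le _
  have hmemD : ∀ x ∈ H, ∀ y ∈ H, x * y * x⁻¹ * y⁻¹ ∈ D := fun x hx y hy =>
    ⟨⁅(⟨x, hx⟩ : H), ⟨y, hy⟩⁆, Subgroup.commutator_mem_commutator (Subgroup.mem_top _) (Subgroup.mem_top _),
      rfl⟩
  -- the group `M` in which `R` is central in its normalizer
  obtain ⟨M, hMH, hRM, hMn, hQMn, hcen⟩ : ∃ M : Subgroup G, M ≤ H ∧ R ≤ M ∧
      (∀ h ∈ H, ∀ q ∈ Q, h * q * h⁻¹ * q⁻¹ ∈ M) ∧ Q ≤ Subgroup.normalizer (M : Set G) ∧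
      ∀ m ∈ M, m ∈ Subgroup.normalizer (R : Set G) → ∀ a ∈ R, m * a = a * m := by
    by_cases hrD : r ∣ Nat.card (commutator H)
    · -- `R` is normal in `H`
      have hPD : (P : Subgroup H) ≤ commutator H := by
        intro x hx
        obtain ⟨k, hk⟩ := IsPGroup.iff_orderOf.1 P.isPGroup' ⟨x, hx⟩
        rw [Subgroup.orderOf_mk] at hk
        rw [← QuotientGroup.eq_one_iff, ← orderOf_eq_one_iff]
        refine Nat.eq_one_of_dvd_coprimes (((IsZGroup.coprime_commutator_index (G := H)).coprime_dvd_left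
          hrD).pow_left k) ((orderOf_map_dvd (QuotientGroup.mk' (commutator H)) x).trans (dvd_of_eq hk)) ?_
        rw [Subgroup.index_eq_card]
        exact orderOf_dvd_natCard _
      haveI := IsZGroup.isCyclic_commutator (G := H)
      haveI hPn : ((P.subtype hPD : Sylow r (commutator H)) : Subgroup (commutator H)).Normal :=
        Subgroup.normal_of_comm _
      haveI := Sylow.characteristic_of_normal _ hPn
      have hn : ((((P.subtype hPD : Sylow r (commutator H)) : Subgroup (commutator H))).map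
          (commutator H).subtype).Normal := inferInstance
      rw [Sylow.coe_subtype, Subgroup.map_subgroupOf_eq_of_le hPD] at hn
      have hHR : H ≤ Subgroup.normalizer (R : Set G) := by
        rw [hR]
        exact AxB.le_normalizer_map_subtype hn
      refine ⟨H ⊓ Subgroup.centralizer (R : Set G), inf_le_left, le_inf hRH
        (Subgroup.le_centralizer R), ?_, ?_, fun m hm _ a ha => (hm.2 a ha).symm⟩
      · intro h hh q hq
        refine ⟨?_, fun a ha => ?_⟩
        · rw [mul_assoc, mul_assoc, ← mul_assoc q]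
          exact mul_mem hh ((Subgroup.mem_normalizer_iff.1 (hHQ hq) _).1 (inv_mem hh))
        · have ha' : h⁻¹ * a * h ∈ R := (Subgroup.mem_normalizer_iff''.1 (hHR hh) a).1 ha
          have h1 := hQR q⁻¹ (inv_mem hq) a ha
          have h2 := hQR q hq _ ha'
          calc a * (h * q * h⁻¹ * q⁻¹) = h * ((h⁻¹ * a * h) * q) * h⁻¹ * q⁻¹ := by group
            _ = h * (q * (h⁻¹ * a * h)) * h⁻¹ * q⁻¹ := by rw [h2]
            _ = h * q * h⁻¹ * (a * q⁻¹) := by group
            _ = h * q * h⁻¹ * (q⁻¹ * a) := by rw [h1]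
            _ = _ := by group
      · intro q hq
        refine Subgroup.inf_normalizer_le_normalizer_inf ⟨hHQ hq, ?_⟩
        refine Subgroup.le_normalizer ?_ |> fun h => h
        intro a ha
        exact (hQR q hq a ha).symm
    · refine ⟨H, le_rfl, hRH, fun h hh q hq => ?_, hHQ, fun m hm hmR a ha => ?_⟩
      · rw [mul_assoc, mul_assoc, ← mul_assoc q]
        exact mul_mem hh ((Subgroup.mem_normalizer_iff.1 (hHQ hq) _).1 (inv_mem hh))
      · have h1 : m * a * m⁻¹ * a⁻¹ ∈ R :=
          mul_mem ((Subgroup.mem_normalizer_iff.1 hmR a).1 ha) (inv_mem ha)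
        have h2 := hmemD m hm a (hRH ha)
        have h3 := PBasic.eq_one_of_isPGroup_of_coprime hRp h1 (PBasic.coprime_orderOf_of_mem
          (N := D) (by rw [hD, Subgroup.card_map_of_injective H.subtype_injective, Nat.coprime_comm]
                       exact hr.out.coprime_iff_not_dvd.2 hrD) h2)
        rwa [mul_inv_eq_one, mul_inv_eq_iff_eq_mul] at h3
  -- the normal complement in `M`
  have hRS : ¬ r ∣ R.relIndex M := fun hdv => by
    refine P.not_dvd_index (hdv.trans ?_)
    have h1 := Subgroup.relIndex_mul_relIndex R M H hRM hMH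
    have h2 : R.relIndex H = (P : Subgroup H).index := by
      rw [hR, Subgroup.relIndex, Subgroup.subgroupOf,
        Subgroup.comap_map_eq_self_of_injective H.subtype_injective]
    exact h2 ▸ ⟨_, h1.symm⟩
  let PM : Sylow r M := (IsPGroup.toSylow (hRp.comap_subtype (K := M)) hRS)
  have hPM : (PM : Subgroup M) = R.subgroupOf M := rfl
  have hcommR : IsMulCommutative PM := by
    refine ⟨⟨fun x y => Subtype.ext (Subtype.ext ?_)⟩⟩
    exact congrArg (fun z : R => (z : G)) (mul_comm' (⟨((x : M) : G), Subgroup.mem_subgroupOf.1 x.2⟩ : R)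
      ⟨((y : M) : G), Subgroup.mem_subgroupOf.1 y.2⟩)
  have hnpc : Cfsg.HasNormalPComplement r M := AbelianSylow.hasNormalPComplement_of_abelian PM hcommR
    fun g hg _ => by
      intro x hx
      have hgR : (g : G) ∈ Subgroup.normalizer (R : Set G) := by
        have : g ∈ Subgroup.normalizer ((R.subgroupOf M : Subgroup M) : Set M) := hg
        rw [← Subgroup.subgroupOf_normalizer_eq hRM] at this
        exact this
      exact Subtype.ext (hcen g g.2 hgR (x : G) (Subgroup.mem_subgroupOf.1 hx)).symm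
  set L := (Cfsg.pResidual r M).map M.subtype with hL
  have hLc : (Nat.card L).Coprime r := by
    rw [hL, Subgroup.card_map_of_injective M.subtype_injective]
    exact PBasic.hasNormalPComplement_iff_pResidual.1 hnpc
  have hQL : Q ≤ Subgroup.normalizer (L : Set G) := by
    have hle : ∀ q ∈ Q, ∀ x ∈ L, q * x * q⁻¹ ∈ L := by
      rintro q hq _ ⟨y, hy, rfl⟩
      let e : M →* M :=
        { toFun := fun z => ⟨q * z * q⁻¹, (Subgroup.mem_normalizer_iff.1 (hQMn hq) z).1 z.2⟩
          map_one' := Subtype.ext (by simp)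
          map_mul' := fun u v => Subtype.ext (by simp [mul_assoc]) }
      exact ⟨e y, PBasic.map_pResidual_le e ⟨y, hy, rfl⟩, rfl⟩
    intro q hq
    rw [Subgroup.mem_normalizer_iff]
    refine fun x => ⟨hle q hq x, fun hx => ?_⟩
    have := hle q⁻¹ (inv_mem hq) _ hx
    simpa [mul_assoc] using this
  have hLM : M ≤ Subgroup.normalizer (L : Set G) :=
    AxB.le_normalizer_map_subtype (PBasic.pResidual_normal_inst r M)
  have hsplit : ∀ m ∈ M, ∃ a ∈ R, ∃ w ∈ L, a * w = m := by
    intro m hm
    obtain ⟨a, ha, w, hw, haw⟩ := AbelianSylow.exists_mul_sylow_pResidual PM ⟨m, hm⟩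
    exact ⟨a, Subgroup.mem_subgroupOf.1 ha, w, ⟨w, hw, rfl⟩, congrArg Subtype.val haw⟩
  have hle := commutator_le (r := r) H Q M L R hHQ hMn hLM hQL hRM hQR
    (by rw [inf_comm]; exact PBasic.inf_eq_bot_of_coprime hLc hRp) hsplit hRp hQr
  intro hdv
  exact hr.out.ne_one (Nat.eq_one_of_dvd_coprimes hLc (hdv.trans (Subgroup.card_dvd_of_le hle)) dvd_rfl)

end Cfsg.Agent.S4151


set_option autoImplicit false
open Cfsg

namespace Cfsg.Agent.S4151

/-- Let G be a finite group and H a non-normal subgroup meeting each of its conjugates by elements outside N_G(H) trivially, with the order of H coprime to its index in N_G(H), such that G is π-separable for π the set of primes dividing the order of H (G has a chain of normal subgroups from 1 to G each of whose factors has order divisible only by primes dividing the order of H or coprime to it). Suppose a Sylow 2-subgroup of H is abelian and Q is a complement of H in N_G(H). Then C_H(Q), the subgroup of elements of H commuting with Q, has order coprime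 to its index in G and has a normal complement in G. -/
theorem result {G : Type*} [Group G] [Finite G] (H : Subgroup G)
    (hTI : Cfsg.IsTISubset (H : Set G)) (hnn : ¬ H.Normal)
    (hHall : (Nat.card H).Coprime (H.subgroupOf (Subgroup.normalizer (H : Set G))).index)
    (hsep : ∃ (n : ℕ) (M : Fin (n + 1) → Subgroup G), M 0 = ⊥ ∧ M (Fin.last n) = ⊤ ∧ Monotone M ∧ (∀ i, (M i).Normal) ∧
      ∀ i : Fin n, (∀ q : ℕ, q.Prime → q ∣ (M i.castSucc).relIndex (M i.succ) → q ∣ Nat.card H) ∨
        ((M i.castSucc).relIndex (M i.succ)).Coprime (Nat.card H))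
    (h2 : ∀ P : Sylow 2 H, IsMulCommutative (P : Subgroup H))
    (Q : Subgroup G) (hQ : Q ≤ Subgroup.normalizer (H : Set G)) (hQH : Q ⊓ H = ⊥) (hQH' : Q ⊔ H = Subgroup.normalizer (H : Set G)) :
    (Nat.card ↥(H ⊓ Subgroup.centralizer (Q : Set G))).Coprime (H ⊓ Subgroup.centralizer (Q : Set G)).index ∧
    ∃ N : Subgroup G, N.Normal ∧ N.IsComplement' (H ⊓ Subgroup.centralizer (Q : Set G)) := by
  classical
  obtain ⟨htop, -, -⟩ := TISep.structure_core H hTI hnn hHall hsep
  have hab := TISep.abCyclic H hTI hnn hHall hsep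
  haveI : IsZGroup H := by
    refine ⟨fun r hr P => ?_⟩
    haveI := Fact.mk hr
    rcases FpfStruct.cyclic_or_quaternion P.isPGroup' (hab.subgroup _) with h | ⟨rfl, k, ⟨e⟩⟩
    · exact h
    · rcases Nat.eq_zero_or_pos k with rfl | hk
      · haveI := QuaternionGroup.quaternionGroup_one_isCyclic
        exact e.isCyclic.2 (by simpa using this)
      · exfalso
        haveI := h2 P
        have h := congrArg e (mul_comm' (e.symm (QuaternionGroup.a 1)) (e.symm (QuaternionGroup.xa 0)))
        rw [map_mul, map_mul, e.apply_symm_apply, e.apply_symm_apply,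
          QuaternionGroup.a_mul_xa, QuaternionGroup.xa_mul_a, QuaternionGroup.xa.injEq, zero_sub,
          zero_add, neg_eq_iff_add_eq_zero, one_add_one_eq_two] at h
        have h' : ((2 : ℕ) : ZMod (2 * 2 ^ k)) = 0 := by exact_mod_cast h
        rw [ZMod.natCast_eq_zero_iff] at h'
        have := Nat.le_of_dvd two_pos h'
        have : 2 ≤ 2 ^ k := Nat.le_self_pow hk.ne' 2
        omega
  haveI : Group.IsSolvable H := inferInstance
  set N := Subgroup.normalizer (H : Set G) with hN
  set O := TISep.core H with hO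
  haveI hOn : O.Normal := TISep.core_normal H
  have hcO : (Nat.card O).Coprime (Nat.card H) := TISep.core_coprime H
  -- `Q` has order the index of `H` in `N`
  have hQc : (Nat.card Q).Coprime (Nat.card H) := by
    haveI : (H.subgroupOf N).Normal := Subgroup.normal_in_normalizer
    have hc : Subgroup.IsComplement' (H.subgroupOf N) (Q.subgroupOf N) := by
      refine Subgroup.isComplement'_of_disjoint_and_mul_eq_univ ?_ ?_
      · rw [disjoint_iff, Subgroup.eq_bot_iff_forall]
        rintro x ⟨hx1, hx2⟩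
        exact Subtype.ext ((Subgroup.eq_bot_iff_forall _).1 hQH _ ⟨hx2, hx1⟩)
      · rw [← Subgroup.normal_mul, ← Subgroup.subgroupOf_sup Subgroup.le_normalizer hQ, sup_comm, hQH',
          Subgroup.subgroupOf_self, Subgroup.coe_top]
    have h1 := hc.symm.index_eq_card
    rw [Nat.card_congr (Subgroup.subgroupOfEquivOfLe hQ).toEquiv] at h1
    rw [← h1]
    exact hHall.symm
  set C := H ⊓ Subgroup.centralizer (Q : Set G) with hC
  set K := ⁅H, Q⁆ with hK
  have hKH : K ≤ H := CoprimeAct.commutator_le_left hQ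
  have hKCc : (Nat.card K).Coprime (Nat.card C) := Nat.coprime_of_dvd fun r hr h1 h2 => by
    haveI := Fact.mk hr
    exact coprime_commutator H Q hQ hQc h2 h1
  have hKC : K ⊔ C = H := CoprimeAct.commutator_sup_centralizer hQ hQc (Or.inr inferInstance)
  have hKnH : H ≤ Subgroup.normalizer (K : Set G) := Subgroup.normalizer_commutator_ge_left H Q
  have hKnQ : Q ≤ Subgroup.normalizer (K : Set G) := Subgroup.normalizer_commutator_ge_right H Q
  set L := Q ⊔ K with hL
  have hQCL : C ≤ Subgroup.normalizer (L : Set G) :=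
    (le_inf (inf_le_right.trans (Subgroup.centralizer_le_normalizer _))
      (inf_le_left.trans hKnH)).trans (by
        intro c hc
        rw [Subgroup.mem_normalizer_iff_map_conj_eq, hL, Subgroup.map_sup,
          Subgroup.mem_normalizer_iff_map_conj_eq.1 hc.1, Subgroup.mem_normalizer_iff_map_conj_eq.1 hc.2])
  have hNL : N ≤ Subgroup.normalizer (L : Set G) := by
    rw [← hQH', ← hKC]
    refine sup_le (le_sup_left.trans Subgroup.le_normalizer) (sup_le ?_ hQCL)
    exact le_sup_right.trans Subgroup.le_normalizer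
  set M := O ⊔ L with hM
  have hMn : M.Normal := by
    refine Subgroup.normalizer_eq_top_iff.1 (top_le_iff.1 (htop.ge.trans (sup_le ?_ ?_)))
    · exact le_sup_left.trans Subgroup.le_normalizer
    · intro g hg
      rw [Subgroup.mem_normalizer_iff_map_conj_eq, hM, Subgroup.map_sup,
        Subgroup.mem_normalizer_iff_map_conj_eq.1 (hNL hg), Subgroup.Normal.map_conj_eq O g]
  have hMc : (Nat.card M).Coprime (Nat.card C) := by
    have hCH : Nat.card C ∣ Nat.card H := Subgroup.card_dvd_of_le inf_le_left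
    have h1 : Nat.card M ∣ Nat.card O * Nat.card L := by
      rw [hM, sup_comm, mul_comm]
      exact AxB.card_sup_dvd L O
    refine Nat.Coprime.coprime_dvd_left h1 ((hcO.coprime_dvd_right hCH).mul_left ?_)
    exact Nat.Coprime.coprime_dvd_left (S4016.card_sup_dvd_normalizer hKnQ)
      ((hQc.coprime_dvd_right hCH).mul_left hKCc)
  have hMC : M ⊔ C = ⊤ := by
    refine top_le_iff.1 (htop.ge.trans (sup_le (le_sup_left.trans le_sup_left) ?_))
    rw [← hQH', ← hKC]
    exact sup_le ((le_sup_left.trans le_sup_right).trans le_sup_left)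
      (sup_le ((le_sup_right.trans le_sup_right).trans le_sup_left) le_sup_right)
  haveI := hMn
  have hcompl : M.IsComplement' C := by
    refine Subgroup.isComplement'_of_disjoint_and_mul_eq_univ
      (disjoint_iff.2 (Subgroup.inf_eq_bot_of_coprime hMc)) ?_
    rw [← Subgroup.normal_mul, hMC, Subgroup.coe_top]
  exact ⟨hcompl.index_eq_card ▸ hMc.symm, M, hMn, hcompl⟩

end Cfsg.Agent.S4151
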