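import Cfsg.Statements.S4152
import Mathlib
import Cfsg.Agent.Lib.FGStruct.Counting
import Cfsg.Agent.Lib.FGStruct.CoprimeFixBound

set_option autoImplicit false
set_option linter.style.haveILetI false

namespace Cfsg.Agent.S4152

open Cfsg.Agent
open scoped Classical

universe u

noncomputable local instance instFintypeOfFinite {α : Type*} [Finite α] : Fintype α :=
  Fintype.ofFinite α

variable {π : Set ℕ}

lemma exists_split (m : ℕ) (hm : m ≠ 0) :
    ∃ A B : ℕ, A.Coprime B ∧ A * B = m ∧ (∀ r, r.Prime → r ∣ A → r ∈ π) ∧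
      (∀ r, r.Prime → r ∣ B → r ∉ π) := by
  set A := ∏ r ∈ m.primeFactors.filter (· ∈ π), r ^ m.factorization r
  set B := ∏ r ∈ m.primeFactors.filter (fun r => ¬ r ∈ π), r ^ m.factorization r
  have key : ∀ (s : Finset ℕ), (∀ r ∈ s, r.Prime) → ∀ r : ℕ, r.Prime →
      r ∣ ∏ i ∈ s, i ^ m.factorization i → r ∈ s := by
    intro s hs r hr hd
    obtain ⟨i, hi, hri⟩ := hr.prime.exists_mem_finset_dvd hd
    rwa [(Nat.prime_dvd_prime_iff_eq hr (hs i hi)).1 (hr.dvd_of_dvd_pow hri)]
  have hA : ∀ r, r.Prime → r ∣ A → r ∈ π := fun r hr hd => (Finset.mem_filter.1 (key _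
    (fun i hi => Nat.prime_of_mem_primeFactors (Finset.mem_filter.1 hi).1) r hr hd)).2
  have hB : ∀ r, r.Prime → r ∣ B → r ∉ π := fun r hr hd => (Finset.mem_filter.1 (key _
    (fun i hi => Nat.prime_of_mem_primeFactors (Finset.mem_filter.1 hi).1) r hr hd)).2
  refine ⟨A, B, Nat.coprime_of_dvd fun r hr h1 h2 => hB r hr h2 (hA r hr h1), ?_, hA, hB⟩
  rw [Finset.prod_filter_mul_prod_filter_not]
  exact (Nat.prod_primeFactors_pow_factorization hm).symm

variable {A B : ℕ}

lemma pow_eq_one_iff {H : Type*} [Group H] (hA : ∀ r, r.Prime → r ∣ A → r ∈ π)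
    (hB : ∀ r, r.Prime → r ∣ B → r ∉ π) {x : H} (hx : orderOf x ∣ A * B) :
    x ^ A = 1 ↔ ∀ q : ℕ, q.Prime → q ∣ orderOf x → q ∈ π := by
  rw [← orderOf_dvd_iff_pow_eq_one]
  refine ⟨fun h q hq hd => hA q hq (hd.trans h), fun h => ?_⟩
  exact (Nat.coprime_of_dvd fun r hr h1 h2 => hB r hr h2 (h r hr h1)).dvd_of_dvd_mul_right hx

/-- Classes of `π`-elements counted by centralizers. -/
lemma card_classes {H : Type*} [Group H] [Finite H] (hA : ∀ r, r.Prime → r ∣ A → r ∈ π)
    (hB : ∀ r, r.Prime → r ∣ B → r ∉ π) (hH : ∀ x : H, orderOf x ∣ A * B) :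
    Nat.card {C : ConjClasses H // ∀ q : ℕ, q.Prime → (∃ g : H, ConjClasses.mk g = C ∧ q ∣ orderOf g) → q ∈ π} *
      Nat.card H = ∑ x ∈ Finset.univ.filter (fun x : H => x ^ A = 1),
        Nat.card (Subgroup.centralizer ({x} : Set H)) := by
  set t := Finset.univ.filter (fun C : ConjClasses H =>
    ∀ q : ℕ, q.Prime → (∃ g : H, ConjClasses.mk g = C ∧ q ∣ orderOf g) → q ∈ π) with ht
  have hiff : ∀ g : H, ConjClasses.mk g ∈ t ↔ g ^ A = 1 := by
    intro g
    rw [ht, Finset.mem_filter, pow_eq_one_iff hA hB (hH g)]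
    refine ⟨fun h q hq hd => h.2 q hq ⟨g, rfl, hd⟩, fun h => ⟨Finset.mem_univ _, ?_⟩⟩
    rintro q hq ⟨g', hg', hd⟩
    obtain ⟨c, rfl⟩ := isConj_iff.1 (ConjClasses.mk_eq_mk_iff_isConj.1 hg'.symm)
    refine h q hq ?_
    rwa [show c * g * c⁻¹ = MulAut.conj c g from rfl, MulEquiv.orderOf_eq] at hd
  rw [← Finset.sum_fiberwise_of_maps_to (g := ConjClasses.mk) (t := t)
    (fun x hx => (hiff x).2 (Finset.mem_filter.1 hx).2), Nat.card_eq_fintype_card,
    Fintype.card_subtype]
  show t.card * _ = _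
  rw [← smul_eq_mul, ← Finset.sum_const]
  refine Finset.sum_congr rfl fun C hC => ?_
  obtain ⟨g, rfl⟩ := ConjClasses.exists_rep C
  have hfil : (Finset.univ.filter (fun x : H => x ^ A = 1)).filter
      (fun x => ConjClasses.mk x = ConjClasses.mk g) =
      Finset.univ.filter (fun x : H => ConjClasses.mk x = ConjClasses.mk g) := by
    ext x
    simp only [Finset.mem_filter, Finset.mem_univ, true_and, and_iff_right_iff_imp]
    intro hx
    exact (hiff x).1 (hx ▸ hC)
  have hcar : ∀ x : H, ConjClasses.mk x = ConjClasses.mk g →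
      Nat.card (Subgroup.centralizer ({x} : Set H)) = Nat.card (Subgroup.centralizer ({g} : Set H)) := by
    intro x hx
    have h1 := Counting.card_carrier_mul x
    rw [hx, ← Counting.card_carrier_mul g] at h1
    exact Nat.eq_of_mul_eq_mul_left (Nat.card_pos_iff.2
      ⟨⟨⟨g, ConjClasses.mem_carrier_mk⟩⟩, inferInstance⟩) h1
  rw [hfil, Finset.sum_congr rfl fun x hx => hcar x (Finset.mem_filter.1 hx).2, Finset.sum_const,
    smul_eq_mul, ← Counting.card_carrier_mul g]
  congr 1
  rw [← Fintype.card_subtype, ← Nat.card_eq_fintype_card]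
  exact Nat.card_congr (Equiv.subtypeEquivRight fun x => ConjClasses.mem_carrier_iff_mk_eq)

variable {G : Type u} [Group G] [Finite G]

/-- Commuting pairs in a coset are at most those in the normal subgroup. -/
lemma fiber_bound (N : Subgroup G) [N.Normal] (hcop : A.Coprime B) (hG : ∀ x : G, orderOf x ∣ A * B)
    (y : G ⧸ N) :
    ∑ g ∈ (Finset.univ.filter (fun g : G => g ^ A = 1)).filter (fun g => QuotientGroup.mk' N g = y),
      Nat.card (N ⊓ Subgroup.centralizer ({g} : Set G) : Subgroup G) ≤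
    ∑ a ∈ Finset.univ.filter (fun a : N => a ^ A = 1), Nat.card (Subgroup.centralizer ({a} : Set N)) := by
  set f := QuotientGroup.mk' N
  set s := (Finset.univ.filter (fun g : G => g ^ A = 1)).filter (fun g => f g = y)
  set t := Finset.univ.filter (fun a : N => a ^ A = 1)
  have hM : ∀ a : N, Nat.card {m : G // f m = y ∧ m * a = a * m} ≤
      Nat.card (Subgroup.centralizer ({a} : Set N)) := by
    intro a
    rcases isEmpty_or_nonempty {m : G // f m = y ∧ m * a = a * m} with h | ⟨⟨m₀, hm₀, hm₀'⟩⟩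
    · rw [Nat.card_of_isEmpty]; exact Nat.zero_le _
    refine Nat.card_le_card_of_injective (fun m => ⟨⟨m₀⁻¹ * m.1,
      QuotientGroup.eq.1 (hm₀.trans m.2.1.symm)⟩, ?_⟩) ?_
    · rw [Subgroup.mem_centralizer_singleton_iff]
      apply Subtype.ext
      show m₀⁻¹ * m.1 * (a : G) = (a : G) * (m₀⁻¹ * m.1)
      rw [mul_assoc, m.2.2, ← mul_assoc, ← mul_assoc,
        (Commute.inv_left (hm₀' : Commute m₀ (a : G))).eq]
    · intro m m' h
      exact Subtype.ext (mul_left_cancel (congrArg (fun z => ((z.1 : N) : G)) h))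
  obtain ⟨e, he1, he0⟩ := Nat.chineseRemainder hcop 1 0
  obtain ⟨e', he'0, he'1⟩ := Nat.chineseRemainder hcop 0 1
  have hpow : ∀ (x : G) (i j : ℕ), i ≡ j [MOD A] → i ≡ j [MOD B] → x ^ i = x ^ j := fun x i j h1 h2 =>
    pow_eq_pow_iff_modEq.2 (Nat.ModEq.of_dvd (hG x) ((Nat.modEq_and_modEq_iff_modEq_mul hcop).1 ⟨h1, h2⟩))
  let F : (Σ g : s, (N ⊓ Subgroup.centralizer ({(g : G)} : Set G) : Subgroup G)) →
      Σ a : t, {m : G // f m = y ∧ m * ((a : N) : G) = ((a : N) : G) * m} := fun w =>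
    ⟨⟨⟨(w.2 : G) ^ e, pow_mem w.2.2.1 e⟩, Finset.mem_filter.2 ⟨Finset.mem_univ _, Subtype.ext (by
        show ((w.2 : G) ^ e) ^ A = 1
        rw [← pow_mul, hpow _ (e * A) 0 ((Nat.modEq_zero_iff_dvd).2 (dvd_mul_left A e))
          (by simpa using he0.mul_right A), pow_zero])⟩⟩,
      (w.1 : G) * (w.2 : G) ^ e', by
        rw [map_mul, show f ((w.2 : G) ^ e') = 1 from
          (QuotientGroup.eq_one_iff _).2 (pow_mem w.2.2.1 e'), mul_one]
        exact (Finset.mem_filter.1 w.1.2).2, by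
        have hc : Commute (w.1 : G) (w.2 : G) :=
          (Subgroup.mem_centralizer_singleton_iff.1 w.2.2.2).symm
        show (w.1 : G) * (w.2 : G) ^ e' * (w.2 : G) ^ e = (w.2 : G) ^ e * ((w.1 : G) * (w.2 : G) ^ e')
        exact ((hc.pow_right e).mul_left ((Commute.refl (w.2 : G)).pow_pow e' e)).eq⟩
  have hF : Function.Injective F := by
    rintro ⟨⟨g, hg⟩, ⟨n, hn⟩⟩ ⟨⟨g', hg'⟩, ⟨n', hn'⟩⟩ h
    have h1 : n ^ e = n' ^ e := congrArg (fun z => ((z.1 : N) : G)) h
    have h2 : g * n ^ e' = g' * n' ^ e' := congrArg (fun z => (z.2 : G)) h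
    have key : ∀ (g n : G), g ∈ s → n ∈ N ⊓ Subgroup.centralizer ({g} : Set G) →
        (g * n ^ e') ^ e = g ∧ n = n ^ e * n ^ e' := by
      intro g n hg hn
      have hc : Commute g n := (Subgroup.mem_centralizer_singleton_iff.1 hn.2).symm
      refine ⟨?_, ?_⟩
      · rw [(hc.pow_right e').mul_pow, ← pow_mul, hpow n (e' * e) 0 (by simpa using he'0.mul_right e)
          (by simpa using he0.mul_left e'), pow_zero, mul_one]
        calc g ^ e = g ^ 1 := pow_eq_pow_iff_modEq.2 (Nat.ModEq.of_dvd (orderOf_dvd_of_pow_eq_one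
              (Finset.mem_filter.1 (Finset.mem_filter.1 hg).1).2) he1)
          _ = g := pow_one g
      · rw [← pow_add, hpow n (e + e') 1 (by simpa using he1.add he'0) (by simpa using he0.add he'1),
          pow_one]
    obtain ⟨hgk, hnk⟩ := key g n hg hn
    obtain ⟨hgk', hnk'⟩ := key g' n' hg' hn'
    have hgg : g = g' := by rw [← hgk, h2, hgk']
    subst hgg
    have hnn : n = n' := by rw [hnk, hnk', h1, mul_left_cancel h2]
    subst hnn
    rfl
  have h := Nat.card_le_card_of_injective F hF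
  rw [Nat.card_sigma, Nat.card_sigma] at h
  rw [← Finset.sum_coe_sort s, ← Finset.sum_coe_sort t]
  exact h.trans (Finset.sum_le_sum fun a _ => hM a)

theorem main (N : Subgroup G) [N.Normal] (π : Set ℕ) :
    Nat.card {C : ConjClasses G // ∀ q : ℕ, q.Prime → (∃ g : G, ConjClasses.mk g = C ∧ q ∣ orderOf g) → q ∈ π} ≤ Nat.card {C : ConjClasses N // ∀ q : ℕ, q.Prime → (∃ g : N, ConjClasses.mk g = C ∧ q ∣ orderOf g) → q ∈ π} * Nat.card {C : ConjClasses (G ⧸ N) // ∀ q : ℕ, q.Prime → (∃ g : (G ⧸ N), ConjClasses.mk g = C ∧ q ∣ orderOf g) → q ∈ π} := by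
  obtain ⟨A, B, hcop, hAB, hA, hB⟩ := exists_split (π := π) (Nat.card G) Nat.card_pos.ne'
  have hG : ∀ x : G, orderOf x ∣ A * B := fun x => hAB ▸ orderOf_dvd_natCard x
  have hN : ∀ x : N, orderOf x ∣ A * B := fun x => by
    rw [← Subgroup.orderOf_coe]; exact hG x
  set f := QuotientGroup.mk' N with hf
  have hQ : ∀ y : G ⧸ N, orderOf y ∣ A * B := fun y => by
    obtain ⟨x, rfl⟩ := QuotientGroup.mk'_surjective N y
    exact (orderOf_map_dvd f x).trans (hG x)
  refine Nat.le_of_mul_le_mul_right (?_ : _ * Nat.card G ≤ _ * Nat.card G) (Nat.card_pos (α := G))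
  rw [card_classes hA hB hG, Subgroup.card_eq_card_quotient_mul_card_subgroup N,
    show ∀ a b c d : ℕ, a * b * (c * d) = (a * d) * (b * c) from fun a b c d => by ring,
    card_classes hA hB hN, card_classes hA hB hQ]
  rw [← Finset.sum_fiberwise_of_maps_to (g := f)
    (t := Finset.univ.filter fun y : G ⧸ N => y ^ A = 1)
    (fun x hx => Finset.mem_filter.2 ⟨Finset.mem_univ _, by
      rw [← map_pow, (Finset.mem_filter.1 hx).2, map_one]⟩), Finset.mul_sum]
  refine le_trans ?_ (le_of_eq (Finset.sum_congr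
    (s₁ := Finset.univ.filter fun y : G ⧸ N => y ^ A = 1) (by ext; simp) fun _ _ => rfl))
  apply Finset.sum_le_sum
  intro y _
  calc _ ≤ ∑ g ∈ (Finset.univ.filter (fun g : G => g ^ A = 1)).filter (fun g => f g = y),
        Nat.card (N ⊓ Subgroup.centralizer ({g} : Set G) : Subgroup G) *
          Nat.card (Subgroup.centralizer ({y} : Set (G ⧸ N))) := by
        apply Finset.sum_le_sum
        intro g hg
        rw [CoprimeFixBound.card_inf_eq_mul f (Subgroup.centralizer ({g} : Set G)), QuotientGroup.ker_mk']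
        refine Nat.mul_le_mul_left _ (Subgroup.card_le_of_le ?_)
        rintro _ ⟨z, hz, rfl⟩
        rw [Subgroup.mem_centralizer_singleton_iff, ← (Finset.mem_filter.1 hg).2, ← map_mul, ← map_mul,
          Subgroup.mem_centralizer_singleton_iff.1 hz]
    _ ≤ _ := by
        rw [← Finset.sum_mul]
        refine Nat.mul_le_mul_right _ ?_
        exact (fiber_bound N hcop hG y).trans (le_of_eq (Finset.sum_congr (by ext; simp) fun _ _ => rfl))

end Cfsg.Agent.S4152


set_option autoImplicit false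
open Cfsg

namespace Cfsg.Agent.S4152

/-- Let G be a finite group, N a normal subgroup and π a set of primes. Then the number of conjugacy classes of π-elements of G (elements whose order is divisible only by primes in π) is at most the number of conjugacy classes of π-elements of N (under conjugation by N) times the number of conjugacy classes of π-elements of G/N. -/
theorem result {G : Type*} [Group G] [Finite G] (N : Subgroup G) [N.Normal] (π : Set ℕ) :
    Nat.card {C : ConjClasses G // ∀ q : ℕ, q.Prime → (∃ g : G, ConjClasses.mk g = C ∧ q ∣ orderOf g) → q ∈ π} ≤ Nat.card {C : ConjClasses N // ∀ q : ℕ, q.Prime → (∃ g : N, ConjClasses.mk g = C ∧ q ∣ orderOf g) → q ∈ π} * Nat.card {C : ConjClasses (G ⧸ N) // ∀ q : ℕ, q.Prime → (∃ g : (G ⧸ N), ConjClasses.mk g = C ∧ q ∣ orderOf g) → q ∈ π} := by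
  exact S4152.main N π

end Cfsg.Agent.S4152
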