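import Cfsg.Statements.S4153
import Mathlib.GroupTheory.Sylow

set_option autoImplicit false
set_option linter.style.haveILetI false

set_option autoImplicit false
open Cfsg

namespace Cfsg.Agent.S4153

/-- Let G be a finite group, p a prime, N a normal subgroup, P a Sylow p-subgroup of G and P̄ a Sylow p-subgroup of G/N. Count the elements of p-power order, the identity included. Then (number of such elements of G/N)/#P̄ ≤ (number of such elements of G)/#P, stated as a cross-multiplied inequality, with equality when N is central. -/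
theorem result {G : Type*} [Group G] [Finite G] (p : ℕ) [Fact p.Prime] (N : Subgroup G) [N.Normal]
    (P : Sylow p G) (Pbar : Sylow p (G ⧸ N)) :
    Nat.card {g : (G ⧸ N) // ∃ k : ℕ, orderOf g = p ^ k} * Nat.card (P : Subgroup G) ≤ Nat.card {g : G // ∃ k : ℕ, orderOf g = p ^ k} * Nat.card (Pbar : Subgroup (G ⧸ N)) ∧
    (N ≤ Subgroup.center G → Nat.card {g : (G ⧸ N) // ∃ k : ℕ, orderOf g = p ^ k} * Nat.card (P : Subgroup G) = Nat.card {g : G // ∃ k : ℕ, orderOf g = p ^ k} * Nat.card (Pbar : Subgroup (G ⧸ N))) := by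
  classical
  have hp : p.Prime := Fact.out
  set π := QuotientGroup.mk' N with hπdef
  have hsurj : Function.Surjective π := QuotientGroup.mk'_surjective N
  set v := (Nat.card N).factorization p with hv
  have hGv : (Nat.card G).factorization p = (Nat.card (G ⧸ N)).factorization p + v := by
    rw [Subgroup.card_eq_card_quotient_mul_card_subgroup N,
      Nat.factorization_mul Nat.card_pos.ne' Nat.card_pos.ne', Finsupp.add_apply]
  -- every Sylow subgroup meets `N` in `p ^ v` elements
  have hTN : ∀ T : Sylow p G, Nat.card ↥((T : Subgroup G) ⊓ N) = p ^ v := by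
    intro T
    have hb : Nat.card ((T : Subgroup G).map π) = p ^ (Nat.card (G ⧸ N)).factorization p :=
      (T.mapSurjective hsurj).card_eq_multiplicity
    have h2 := Subgroup.card_mul_index (π.ker.subgroupOf (T : Subgroup G))
    have h3 : (π.ker.subgroupOf (T : Subgroup G)).index = Nat.card ((T : Subgroup G).map π) := by
      rw [← Subgroup.relIndex, Subgroup.relIndex_ker]
    have h4 : Nat.card (π.ker.subgroupOf (T : Subgroup G)) = Nat.card ↥((T : Subgroup G) ⊓ N) := by
      rw [hπdef, QuotientGroup.ker_mk']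
      exact Nat.card_congr
        { toFun := fun c => ⟨c.1.1, c.1.2, c.2⟩
          invFun := fun c => ⟨⟨c.1, c.2.1⟩, c.2.2⟩
          left_inv := fun _ => rfl
          right_inv := fun _ => rfl }
    rw [h3, h4, hb, T.card_eq_multiplicity, hGv, pow_add, mul_comm (p ^ _) (p ^ v)] at h2
    exact Nat.eq_of_mul_eq_mul_right (pow_pos hp.pos _) h2
  set A := {g : G ⧸ N // ∃ k : ℕ, orderOf g = p ^ k} with hA
  set B := {g : G // ∃ k : ℕ, orderOf g = p ^ k} with hB
  have hlift : ∀ y : A, ∃ (T : Sylow p G) (x : G), x ∈ (T : Subgroup G) ∧ π x = y.1 := by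
    rintro ⟨y, k, hk⟩
    obtain ⟨Tb, hTb⟩ := (IsPGroup.of_card (n := k) (by rw [Nat.card_zpowers, hk]) :
      IsPGroup p (Subgroup.zpowers y)).exists_le_sylow
    obtain ⟨T, hT⟩ := Sylow.mapSurjective_surjective hsurj p Tb
    have hy : y ∈ (T : Subgroup G).map π := by
      rw [show (T : Subgroup G).map π = (Tb : Subgroup (G ⧸ N)) by rw [← hT]; rfl]
      exact hTb (Subgroup.mem_zpowers y)
    obtain ⟨x, hx, hxy⟩ := hy
    exact ⟨T, x, hx, hxy⟩
  choose T x hxT hxy using hlift
  let Φ : (Σ y : A, ↥((T y : Subgroup G) ⊓ N)) → B := fun w =>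
    ⟨x w.1 * (w.2 : G), by
      obtain ⟨k, hk⟩ := IsPGroup.iff_orderOf.1 (T w.1).isPGroup' ⟨_, mul_mem (hxT w.1) w.2.2.1⟩
      exact ⟨k, by rw [← hk, Subgroup.orderOf_mk]⟩⟩
  have hΦinj : Function.Injective Φ := by
    rintro ⟨y, n, hn⟩ ⟨z, m, hm⟩ h
    have h' : x y * n = x z * m := congrArg Subtype.val h
    have hyz : y = z := by
      refine Subtype.ext ?_
      rw [← hxy y, ← hxy z]
      have := congrArg π h'
      simpa [show π n = 1 from (QuotientGroup.eq_one_iff n).2 hn.2,
        show π m = 1 from (QuotientGroup.eq_one_iff m).2 hm.2] using this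
    subst hyz
    have hnm : n = m := mul_left_cancel h'
    subst hnm
    rfl
  have hPbar : Nat.card (Pbar : Subgroup (G ⧸ N)) = p ^ (Nat.card (G ⧸ N)).factorization p :=
    Pbar.card_eq_multiplicity
  have hP : Nat.card (P : Subgroup G) = p ^ v * Nat.card (Pbar : Subgroup (G ⧸ N)) := by
    rw [P.card_eq_multiplicity, hPbar, hGv, pow_add, mul_comm]
  have hdom : Nat.card (Σ y : A, ↥((T y : Subgroup G) ⊓ N)) = Nat.card A * p ^ v := by
    haveI := Fintype.ofFinite A
    rw [Nat.card_sigma, Finset.sum_congr rfl fun y _ => hTN (T y), Finset.sum_const, Finset.card_univ,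
      smul_eq_mul, Nat.card_eq_fintype_card]
  refine ⟨?_, fun hc => ?_⟩
  · rw [hP, ← mul_assoc]
    refine Nat.mul_le_mul_right _ ?_
    rw [← hdom]
    exact Nat.card_le_card_of_injective Φ hΦinj
  · rw [hP, ← mul_assoc]
    congr 1
    rw [← hdom]
    refine Nat.card_eq_of_bijective Φ ⟨hΦinj, ?_⟩
    rintro ⟨g, k, hk⟩
    obtain ⟨j, -, hj⟩ := (Nat.dvd_prime_pow hp).1 (hk ▸ orderOf_map_dvd π g)
    set y : A := ⟨π g, j, hj⟩
    set n := (x y)⁻¹ * g with hn
    have hnN : n ∈ N := by
      rw [← QuotientGroup.eq_one_iff]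
      show π n = 1
      rw [hn, map_mul, map_inv, hxy, inv_mul_cancel]
    have hcn : Commute (x y) n := Subgroup.mem_center_iff.1 (hc hnN) (x y)
    refine ⟨⟨y, n, ?_, hnN⟩, Subtype.ext (mul_inv_cancel_left (x y) g)⟩
    -- `n` is a central `p`-element
    obtain ⟨i, hi⟩ := IsPGroup.iff_orderOf.1 (T y).isPGroup' ⟨x y, hxT y⟩
    rw [Subgroup.orderOf_mk] at hi
    have hnp : IsPGroup p (Subgroup.zpowers n) := by
      refine IsPGroup.of_card_dvd_pow (n := i + k) ?_
      rw [Nat.card_zpowers]
      refine orderOf_dvd_of_pow_eq_one ?_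
      have e1 : g ^ p ^ (i + k) = 1 := by
        rw [← orderOf_dvd_iff_pow_eq_one, hk]; exact Nat.pow_dvd_pow p (by omega)
      have e2 : (x y) ^ p ^ (i + k) = 1 := by
        rw [← orderOf_dvd_iff_pow_eq_one, hi]; exact Nat.pow_dvd_pow p (by omega)
      have e3 := e1
      rw [← mul_inv_cancel_left (x y) g, ← hn, hcn.mul_pow, e2, one_mul] at e3
      exact e3
    haveI : (Subgroup.zpowers n).Normal := ⟨fun a ha b => by
      obtain ⟨l, rfl⟩ := Subgroup.mem_zpowers_iff.1 ha
      rw [((show Commute b n from Subgroup.mem_center_iff.1 (hc hnN) b).zpow_right l).eq,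
        mul_inv_cancel_right]
      exact ha⟩
    exact IsPGroup.le_sylow_of_normal hnp (T y) (Subgroup.mem_zpowers n)

end Cfsg.Agent.S4153
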