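import Cfsg.Statements.S4154
import Mathlib.GroupTheory.QuotientGroup.Basic
import Mathlib.GroupTheory.Coset.Card
import Mathlib.Tactic.Group

set_option autoImplicit false
set_option linter.style.haveILetI false

set_option autoImplicit false
open Cfsg

namespace Cfsg.Agent.S4154

/-- Let G be a finite group and α an automorphism of G such that every element of G is the product of an element fixed by α and an element of the form g⁻¹α(g). If N is a normal α-invariant subgroup, then the automorphism ᾱ induced on G/N has the same property, and every coset fixed by ᾱ contains an element fixed by α (so the fixed points of ᾱ are the images of the fixed points of α). -/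
theorem result {G : Type*} [Group G] [Finite G] (α : MulAut G)
    (hccp : ∀ x : G, ∃ c g : G, α c = c ∧ x = c * (g⁻¹ * α g))
    (N : Subgroup G) [N.Normal] (hN : ∀ n ∈ N, α n ∈ N) :
    (∀ x : G, ∃ c g : G, c⁻¹ * α c ∈ N ∧ x⁻¹ * (c * (g⁻¹ * α g)) ∈ N) ∧
    (∀ x : G, x⁻¹ * α x ∈ N → ∃ c : G, α c = c ∧ c⁻¹ * x ∈ N) := by
  classical
  refine ⟨fun x => ?_, ?_⟩
  · obtain ⟨c, g, hc, hx⟩ := hccp x
    exact ⟨c, g, by rw [hc, inv_mul_cancel]; exact N.one_mem,
      by rw [← hx, inv_mul_cancel]; exact N.one_mem⟩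
  set π := QuotientGroup.mk' N with hπ
  -- the fixed points of `α` and of the induced automorphism
  let C : Subgroup G :=
    { carrier := {c | α c = c}
      one_mem' := map_one α
      mul_mem' := fun {a b} ha hb => by show α (a * b) = a * b; rw [map_mul, ha, hb]
      inv_mem' := fun {a} ha => by show α a⁻¹ = a⁻¹; rw [map_inv, ha] }
  let D : Subgroup G :=
    { carrier := {x | π (α x) = π x}
      one_mem' := by simp
      mul_mem' := fun {a b} ha hb => by
        show π (α (a * b)) = π (a * b); rw [map_mul α, map_mul π, map_mul π, ha, hb]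
      inv_mem' := fun {a} ha => by show π (α a⁻¹) = π a⁻¹; rw [map_inv α, map_inv π, map_inv π, ha] }
  set Cb := C.map π with hCb
  set Db := D.map π with hDb
  have hle : Cb ≤ Db := Subgroup.map_mono (fun c (hc : α c = c) => by show π (α c) = π c; rw [hc])
  have hker : ∀ n ∈ N, π n = 1 := fun n hn => (QuotientGroup.eq_one_iff n).2 hn
  haveI : Finite (G ⧸ N) := inferInstance
  let lift : (G ⧸ N) ⧸ Db → G := fun k => (QuotientGroup.mk'_surjective N k.out).choose
  have hlift : ∀ k, π (lift k) = k.out := fun k => (QuotientGroup.mk'_surjective N k.out).choose_spec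
  let F : Cb × ((G ⧸ N) ⧸ Db) → G ⧸ N := fun w => (w.1 : G ⧸ N) * π (lift w.2 * α (lift w.2)⁻¹)
  have hF : Function.Surjective F := by
    intro y
    obtain ⟨x, rfl⟩ := QuotientGroup.mk'_surjective N y
    obtain ⟨c, g, hc, rfl⟩ := hccp x
    set k : (G ⧸ N) ⧸ Db := QuotientGroup.mk (π g⁻¹) with hk
    refine ⟨(⟨π c, Subgroup.mem_map_of_mem π hc⟩, k), ?_⟩
    have h1 : (k.out)⁻¹ * π g⁻¹ ∈ Db := QuotientGroup.eq.1 (by rw [QuotientGroup.out_eq'])
    obtain ⟨d, hd, hd'⟩ := h1
    obtain ⟨n, hn, hgn⟩ : ∃ n ∈ N, g⁻¹ = lift k * d * n := by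
      refine ⟨(lift k * d)⁻¹ * g⁻¹, ?_, by group⟩
      rw [← QuotientGroup.eq_one_iff]
      show π ((lift k * d)⁻¹ * g⁻¹) = 1
      rw [map_mul, map_inv, map_mul, hlift, hd', mul_inv_cancel_left, inv_mul_cancel]
    show π c * π (lift k * α (lift k)⁻¹) = π (c * (g⁻¹ * α g))
    rw [map_mul π c]
    congr 1
    have hg : g = n⁻¹ * d⁻¹ * (lift k)⁻¹ := by rw [← inv_inv g, hgn]; group
    rw [hgn, hg]
    simp only [map_mul, map_inv]
    rw [hker n hn, show π (α n) = 1 from hker _ (hN n hn), show π (α d) = π d from hd]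
    group
  have hcard := Nat.card_le_card_of_surjective F hF
  rw [Nat.card_prod] at hcard
  have hmul : Nat.card ((G ⧸ N) ⧸ Db) * Nat.card Db = Nat.card (G ⧸ N) :=
    (Subgroup.card_eq_card_quotient_mul_card_subgroup Db).symm
  have hpos : 0 < Nat.card ((G ⧸ N) ⧸ Db) := Nat.card_pos
  have hDC : Nat.card Db ≤ Nat.card Cb := by
    refine Nat.le_of_mul_le_mul_left ?_ hpos
    rw [hmul, mul_comm]; exact hcard
  have hEq : Cb = Db := Subgroup.eq_of_le_of_card_ge hle hDC
  intro x hx
  have hxD : π x ∈ Db := by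
    refine Subgroup.mem_map_of_mem π ?_
    show π (α x) = π x
    have := hker _ hx
    rw [map_mul, map_inv, inv_mul_eq_one] at this
    exact this.symm
  rw [← hEq] at hxD
  obtain ⟨c, hc, hcx⟩ := hxD
  refine ⟨c, hc, ?_⟩
  rw [← QuotientGroup.eq_one_iff]
  show π (c⁻¹ * x) = 1
  rw [map_mul, map_inv, hcx, inv_mul_cancel]

end Cfsg.Agent.S4154
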