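import Cfsg.Statements.S4155
import Cfsg.Agent.Lib.FGStruct.EqualOrderPair
import Cfsg.Agent.Lib.FGStruct.AbelianCyclic
import Cfsg.Agent.Lib.Solvable.Coprime
import Cfsg.Agent.Lib.TwoGroups.Lifts

set_option autoImplicit false
set_option linter.style.haveILetI false

set_option autoImplicit false
open Cfsg

namespace Cfsg.Agent.S4155

/-- Let G be a finite group and N a proper non-trivial normal nilpotent subgroup whose order is not a prime power, such that for every x outside N all elements of the coset xN have the same order as x. Then N is the Fitting subgroup of G, and for every prime q every Sylow q-subgroup of G/N is cyclic or generalized quaternion. -/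
theorem result {G : Type*} [Group G] [Finite G] (N : Subgroup G) [N.Normal] (hN1 : N ≠ ⊥) (hN2 : N ≠ ⊤)
    (heq : ∀ x : G, x ∉ N → ∀ n ∈ N, orderOf (x * n) = orderOf x)
    (hnil : Group.IsNilpotent N) (hnpp : ¬ IsPrimePow (Nat.card N)) :
    N = Cfsg.fittingSubgroup G ∧
    ∀ (q : ℕ) [Fact q.Prime] (Q : Sylow q (G ⧸ N)), IsCyclic (Q : Subgroup (G ⧸ N)) ∨ ∃ n : ℕ, Nonempty ((Q : Subgroup (G ⧸ N)) ≃* QuaternionGroup (2 ^ n)) := by
  classical
  have hle : N ≤ Cfsg.fittingSubgroup G := FittingCores.le_fitting (inferInstance : N.Normal) hnil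
  have hNF : N = Cfsg.fittingSubgroup G := by
    rcases eq_or_lt_of_le hle with h | h
    · exact h
    · exfalso
      obtain ⟨q, k, hq, hk, hqk⟩ := (EqOrder.comparable N hN1 heq).2 h
      obtain ⟨j, -, hj⟩ := (Nat.dvd_prime_pow (Nat.prime_iff.2 hq)).1 (hqk ▸ Subgroup.card_dvd_of_le hle)
      refine hnpp (hj ▸ (Nat.prime_iff.2 hq).isPrimePow.pow ?_)
      rintro rfl
      rw [pow_zero] at hj
      exact hN1 (Subgroup.card_eq_one.1 hj)
  refine ⟨hNF, fun q hq Q => ?_⟩
  haveI := hq
  have hab : AbCyc.AbCyclic (Q : Subgroup (G ⧸ N)) := by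
    intro B hB
    by_contra hBc
    haveI := hB
    obtain ⟨n, hn⟩ := IsPGroup.iff_card.1 (Q.isPGroup'.to_subgroup B)
    obtain ⟨q', E, hq', hEc, hEe⟩ := CoprimeAct.exists_elementary_of_not_isCyclic hBc
    have hqq : q' = q := by
      have h1 : q' ∣ q ^ n := hn ▸ ((dvd_pow_self q' two_ne_zero).trans (hEc ▸ E.card_subgroup_dvd_card))
      exact (Nat.prime_dvd_prime_iff_eq hq' hq.out).1 (hq'.dvd_of_dvd_pow h1)
    subst hqq
    -- lift `E`
    set Eb := (E.map B.subtype).map (Q : Subgroup (G ⧸ N)).subtype with hEb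
    have hEbc : Nat.card Eb = q' ^ 2 := by
      rw [hEb, Subgroup.card_map_of_injective (Q : Subgroup (G ⧸ N)).subtype_injective,
        Subgroup.card_map_of_injective B.subtype_injective, hEc]
    have hEbe : ∀ e ∈ Eb, e ^ q' = 1 := by
      rintro _ ⟨_, ⟨e, he, rfl⟩, rfl⟩
      rw [← map_pow, ← map_pow, show e ^ q' = 1 from congrArg Subtype.val (hEe ⟨e, he⟩), map_one, map_one]
    set U := Eb.comap (QuotientGroup.mk' N) with hU
    obtain ⟨S⟩ : Nonempty (Sylow q' U) := inferInstance
    set S' := (S : Subgroup U).map U.subtype with hS'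
    have hS'p : IsPGroup q' S' := S.isPGroup'.map _
    have hS'm : S'.map (QuotientGroup.mk' N) = Eb := by
      refine le_antisymm ?_ ?_
      · rintro _ ⟨_, ⟨s, hs, rfl⟩, rfl⟩
        exact s.2
      intro e he
      let ψ : U →* Eb := ((QuotientGroup.mk' N).comp U.subtype).codRestrict Eb (fun u => u.2)
      have hψ : Function.Surjective ψ := by
        rintro ⟨v, hv⟩
        obtain ⟨g, rfl⟩ := QuotientGroup.mk'_surjective N v
        exact ⟨⟨g, hv⟩, rfl⟩
      have htop : (S : Subgroup U).map ψ = ⊤ := by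
        apply Subgroup.eq_top_of_le_card
        refine Nat.le_of_dvd Nat.card_pos ?_
        obtain ⟨j, hj⟩ := IsPGroup.iff_card.1 ((IsPGroup.of_card hEbc : IsPGroup q' Eb).to_subgroup ⊤)
        rw [Subgroup.card_top] at hj
        have := (S.mapSurjective hψ).card_eq_multiplicity
        rw [Sylow.coe_mapSurjective] at this
        rw [this, hEbc, Nat.Prime.factorization_pow hq', Finsupp.single_eq_same]
      obtain ⟨s, hs, hse⟩ := htop.ge (Subgroup.mem_top (⟨e, he⟩ : Eb))
      exact ⟨(s : G), ⟨s, hs, rfl⟩, congrArg Subtype.val hse⟩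
    -- a prime `r ≠ q'` dividing `|N|`
    obtain ⟨r, hr, hrq, hrN⟩ : ∃ r, r.Prime ∧ r ≠ q' ∧ r ∣ Nat.card N := by
      by_contra hc
      push Not at hc
      apply hnpp
      have h1 : Nat.card N ≠ 1 := fun h => hN1 (Subgroup.card_eq_one.1 h)
      have hone : Nat.card N = q' ^ (Nat.card N).primeFactorsList.length :=
        Nat.eq_prime_pow_of_unique_prime_dvd Nat.card_pos.ne' fun {d} hd hdvd => by_contra fun hne => hc d hd hne hdvd
      rw [hone]
      refine hq'.isPrimePow.pow ?_
      intro h0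
      rw [h0, pow_zero] at hone
      exact h1 hone
    haveI := Fact.mk hr
    set R := Cfsg.pCore r G ⊓ N with hR
    haveI : (Cfsg.pCore r G).Normal := FittingCores.pCore_normal r
    have hRp : IsPGroup r R := (FittingCores.pCore_isPGroup r).to_le inf_le_left
    haveI : Nontrivial R := by
      obtain ⟨z, hz⟩ := exists_prime_orderOf_dvd_card' (G := N) r hrN
      obtain ⟨T, hT⟩ := (IsPGroup.of_card (p := r) (n := 1) (G := Subgroup.zpowers z)
        (by rw [Nat.card_zpowers, hz, pow_one])).exists_le_sylow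
      haveI := hnil
      have hzR : (z : G) ∈ R := ⟨FittingCores.sylow_le_pCore_of_nilpotent (inferInstance : N.Normal) r T
        ⟨z, hT (Subgroup.mem_zpowers z), rfl⟩, z.2⟩
      refine ⟨⟨⟨z, hzR⟩, 1, fun h => ?_⟩⟩
      have : z = 1 := Subtype.ext (congrArg (fun u : R => (u : G)) h)
      rw [this, orderOf_one] at hz
      exact hr.ne_one hz.symm
    set W := (Subgroup.center R).map R.subtype with hW
    haveI : W.Normal := inferInstance
    haveI : Nontrivial (Subgroup.center R) := hRp.center_nontrivial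
    have hWne : W ≠ ⊥ := by
      rw [hW, Ne, Subgroup.map_eq_bot_iff_of_injective _ R.subtype_injective]
      exact (Subgroup.nontrivial_iff_ne_bot _).1 inferInstance
    haveI : IsMulCommutative W := by
      refine ⟨⟨fun a b => Subtype.ext ?_⟩⟩
      obtain ⟨a', ha', ha2⟩ := a.2
      obtain ⟨b', hb', hb2⟩ := b.2
      show (a : G) * b = b * a
      rw [← ha2, ← hb2, ← map_mul, ← map_mul, (Subgroup.mem_center_iff.1 ha' b').symm]
    open scoped IsMulCommutative in
    let ρ₀ : S' →* MulAut W := (MulAut.conjNormal).comp S'.subtype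
    set S0 : Subgroup S' := N.subgroupOf S' with hS0
    have hker : S0 ≤ ρ₀.ker := by
      intro s hs'
      have hs : (s : G) ∈ N := hs'
      rw [MonoidHom.mem_ker]
      refine MulEquiv.ext fun w => Subtype.ext ?_
      show (s : G) * (w : G) * (s : G)⁻¹ = w
      have hw : (w : G) ∈ Cfsg.pCore r G := by
        obtain ⟨w', -, hw'⟩ := w.2
        rw [← hw']; exact w'.2.1
      have hsq : (s : G) ∈ Cfsg.pCore q' G := by
        obtain ⟨j, hj⟩ := IsPGroup.iff_orderOf.1 hS'p s
        obtain ⟨T, hT⟩ := (IsPGroup.of_card (p := q') (n := j) (G := Subgroup.zpowers (⟨(s : G), hs⟩ : N))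
          (by rw [Nat.card_zpowers, Subgroup.orderOf_mk, Subgroup.orderOf_coe, hj])).exists_le_sylow
        haveI := hnil
        exact FittingCores.sylow_le_pCore_of_nilpotent (inferInstance : N.Normal) q' T
          ⟨_, hT (Subgroup.mem_zpowers _), rfl⟩
      haveI : (Cfsg.pCore q' G).Normal := FittingCores.pCore_normal q'
      rw [Subgroup.commute_of_normal_of_disjoint (Cfsg.pCore q' G) (Cfsg.pCore r G) inferInstance inferInstance
        (IsPGroup.disjoint_of_ne q' r (Ne.symm hrq) _ _ (FittingCores.pCore_isPGroup q') (FittingCores.pCore_isPGroup r))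
        _ _ hsq hw, mul_inv_cancel_right]
    haveI : S0.Normal := Subgroup.Normal.subgroupOf inferInstance S'
    open scoped IsMulCommutative in
    let ρ : S' ⧸ S0 →* MulAut W := QuotientGroup.lift S0 ρ₀ hker
    have hQc : Nat.card (S' ⧸ S0) = q' ^ 2 := by
      have h1 : ((QuotientGroup.mk' N).comp S'.subtype).ker = S0 := by
        rw [← MonoidHom.comap_ker, QuotientGroup.ker_mk']; rfl
      rw [← hEbc, ← hS'm, ← Subgroup.index_eq_card, ← h1, Subgroup.index_ker,
        MonoidHom.range_comp, Subgroup.range_subtype]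
    have hexp : ∀ e : S' ⧸ S0, e ^ q' = 1 := by
      intro e
      obtain ⟨s, rfl⟩ := QuotientGroup.mk'_surjective S0 e
      rw [← map_pow, QuotientGroup.mk'_apply, QuotientGroup.eq_one_iff, hS0, Subgroup.mem_subgroupOf,
        ← QuotientGroup.eq_one_iff, SubgroupClass.coe_pow, QuotientGroup.mk_pow]
      exact hEbe _ (hS'm ▸ Subgroup.mem_map_of_mem _ s.2)
    obtain ⟨j, hj⟩ := IsPGroup.iff_card.1 (hRp.to_le (Subgroup.map_subtype_le _ : W ≤ R))
    open scoped IsMulCommutative in
    have hfix := CoprimeAct.generated_by_fixed (W := W) hq' hQc hexp ρ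
      (by rw [hj]; exact ((Nat.coprime_primes hq' hr).2 (Ne.symm hrq)).pow_right j) ⊥
      (fun e w he hw => by
        obtain ⟨s, rfl⟩ := QuotientGroup.mk'_surjective S0 e
        rw [Subgroup.mem_bot]
        apply Subtype.ext
        show (w : G) = 1
        have hsN : (s : G) ∉ N := fun h => he ((QuotientGroup.eq_one_iff s).2 h)
        have hcomm : (s : G) * (w : G) * (s : G)⁻¹ = w := congrArg Subtype.val hw
        have hwN : (w : G) ∈ N := by
          obtain ⟨w', -, hw'⟩ := w.2
          rw [← hw']; exact w'.2.2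
        obtain ⟨a, ha⟩ := IsPGroup.iff_orderOf.1 hS'p s
        obtain ⟨b, hb⟩ := IsPGroup.iff_orderOf.1 (hRp.to_le (Subgroup.map_subtype_le _ : W ≤ R)) w
        have hco : Nat.Coprime (orderOf (s : G)) (orderOf (w : G)) := by
          rw [Subgroup.orderOf_coe, Subgroup.orderOf_coe, ha, hb]
          exact Nat.Coprime.pow a b ((Nat.coprime_primes hq' hr).2 (Ne.symm hrq))
        have h1 := heq _ hsN _ hwN
        rw [Commute.orderOf_mul_eq_mul_orderOf_of_coprime
          (show Commute (s : G) (w : G) from mul_inv_eq_iff_eq_mul.1 hcomm) hco] at h1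
        rw [← orderOf_eq_one_iff]
        exact Nat.eq_of_mul_eq_mul_left (orderOf_pos _) (h1.trans (mul_one _).symm))
    apply hWne
    rw [eq_bot_iff]
    intro w hw
    have h1 : (⟨w, hw⟩ : W) ∈ (⊥ : Subgroup W) := hfix ▸ Subgroup.mem_top _
    exact Subgroup.mem_bot.2 (congrArg Subtype.val (Subgroup.mem_bot.1 h1))
  rcases AbCyc.structure_of_pGroup hab Q.isPGroup' with hc | ⟨rfl, A, hAn, hAc, hAi, hA4, hout, hinv⟩
  · exact Or.inl hc
  right
  haveI := hAn
  obtain ⟨m, hm⟩ := IsPGroup.iff_card.1 (Q.isPGroup'.to_subgroup A)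
  obtain ⟨n, rfl⟩ : ∃ n, m = n + 1 := Nat.exists_eq_succ_of_ne_zero (by rintro rfl; rw [hm] at hA4; norm_num at hA4)
  obtain ⟨⟨a, haA⟩, hgen⟩ := hAc.exists_generator
  have haz : Subgroup.zpowers a = A := le_antisymm (Subgroup.zpowers_le.2 haA) fun x hx => by
    obtain ⟨k, hk⟩ := hgen ⟨x, hx⟩
    exact ⟨k, by simpa using congrArg Subtype.val hk⟩
  have hao : orderOf a = 2 * 2 ^ n := by rw [← Nat.card_zpowers, haz, hm, pow_succ']
  obtain ⟨g, hg⟩ : ∃ g, g ∉ A := by
    by_contra hc
    push Not at hc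
    rw [(eq_top_iff.2 fun x _ => hc x : A = ⊤), Subgroup.index_top] at hAi
    omega
  have hsq : ∀ g, g ∉ A → g * g = a ^ 2 ^ n := by
    intro g hg
    have h2 : orderOf (g * g) = 2 := by rw [← pow_two, orderOf_pow, hout g hg]; rfl
    obtain ⟨k, hk⟩ := haz.ge (hinv _ h2)
    have hk' : a ^ k = g * g := hk
    have h3 : a ^ (2 * k) = 1 := by
      rw [two_mul, zpow_add, hk']
      have := pow_orderOf_eq_one (g * g); rwa [h2, pow_two] at this
    have h4 : (orderOf a : ℤ) ∣ 2 * k := orderOf_dvd_iff_zpow_eq_one.2 h3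
    rw [hao] at h4
    push_cast at h4
    obtain ⟨c, hc⟩ := (mul_dvd_mul_iff_left (two_ne_zero : (2 : ℤ) ≠ 0)).1 h4
    rcases Int.even_or_odd' c with ⟨d, rfl | rfl⟩
    · exfalso
      rw [hc, show (2 : ℤ) ^ n * (2 * d) = (orderOf a : ℤ) * d by rw [hao]; push_cast; ring,
        zpow_mul, zpow_natCast, pow_orderOf_eq_one, one_zpow] at hk'
      rw [← hk', orderOf_one] at h2
      exact absurd h2 (by norm_num)
    · rw [← hk', hc, show (2 : ℤ) ^ n * (2 * d + 1) = (orderOf a : ℤ) * d + (2 ^ n : ℕ) by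
        rw [hao]; push_cast; ring, zpow_add, zpow_mul, zpow_natCast, pow_orderOf_eq_one, one_zpow, one_mul,
        zpow_natCast]
  have hga : g * a * g⁻¹ = a⁻¹ := by
    have h1 : g * a ∉ A := fun h => hg (by simpa using mul_mem h (inv_mem haA))
    have h2 := (hsq _ h1).trans (hsq g hg).symm
    have h3 : a * g * a = g := mul_left_cancel (a := g) (by simpa [mul_assoc] using h2)
    calc g * a * g⁻¹ = a⁻¹ * (a * g * a) * g⁻¹ := by group
      _ = a⁻¹ := by rw [h3]; group
  have htop : Subgroup.closure ({a, g} : Set (Q : Subgroup (G ⧸ N))) = ⊤ := by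
    rw [eq_top_iff]
    intro x _
    have hA' : A ≤ Subgroup.closure ({a, g} : Set (Q : Subgroup (G ⧸ N))) := by
      rw [← haz, Subgroup.zpowers_le]; exact Subgroup.subset_closure (Or.inl rfl)
    by_cases hx : x ∈ A
    · exact hA' hx
    · have h1 : g⁻¹ * x ∈ A := (Subgroup.mul_mem_iff_of_index_two hAi).2 (by simp [hg, hx])
      rw [← mul_inv_cancel_left g x]
      exact mul_mem (Subgroup.subset_closure (Or.inr rfl)) (hA' h1)
  obtain ⟨e⟩ := TwoLift.quaternion_equiv (k := 2 ^ n) hao (hsq g hg) hga (haz ▸ hg) htop.symm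
  exact ⟨n, ⟨Subgroup.topEquiv.symm.trans e⟩⟩

end Cfsg.Agent.S4155
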