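import Cfsg.Statements.S4156
import Mathlib.GroupTheory.SpecificGroups.Alternating.Simple
import Mathlib.LinearAlgebra.Matrix.ProjectiveSpecialLinearGroup
import Mathlib.LinearAlgebra.Matrix.ToLin

set_option autoImplicit false
set_option linter.style.haveILetI false

set_option autoImplicit false
open Cfsg

namespace Cfsg.Agent.S4156

/-- Let n ≥ 5 and F a finite field. Then the projective special linear group PSL_n(F) contains a subgroup isomorphic to the alternating group of degree n + 1. -/
theorem result (n : ℕ) (hn : 5 ≤ n) (F : Type*) [Field F] [Finite F] :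
    ∃ f : alternatingGroup (Fin (n + 1)) →* Matrix.ProjectiveSpecialLinearGroup (Fin n) F, Function.Injective f := by
  classical
  haveI : Fintype F := Fintype.ofFinite F
  -- sum-zero vectors in `F^(n+1)` with coordinates given by the first `n` entries
  let E : (Fin n → F) →ₗ[F] (Fin (n + 1) → F) :=
    { toFun := fun c => Fin.snoc c (-∑ i, c i)
      map_add' := fun c d => by
        ext j
        refine Fin.lastCases ?_ (fun i => ?_) j
        · simp [Finset.sum_add_distrib, add_comm]
        · simp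
      map_smul' := fun r c => by
        ext j
        refine Fin.lastCases ?_ (fun i => ?_) j
        · simp [Finset.mul_sum]
        · simp }
  let R : (Fin (n + 1) → F) →ₗ[F] (Fin n → F) := LinearMap.funLeft F F Fin.castSucc
  have hRE : ∀ c, R (E c) = c := fun c => by
    ext i; simp [R, E, LinearMap.funLeft_apply]
  have hER : ∀ v : Fin (n + 1) → F, ∑ j, v j = 0 → E (R v) = v := by
    intro v hv
    ext j
    refine Fin.lastCases ?_ (fun i => ?_) j
    · simp only [E, R, LinearMap.coe_mk, AddHom.coe_mk, Fin.snoc_last, LinearMap.funLeft_apply]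
      rw [Fin.sum_univ_castSucc] at hv
      exact neg_eq_of_add_eq_zero_right hv
    · simp [E, R, LinearMap.funLeft_apply]
  have hE0 : ∀ c, ∑ j, E c j = 0 := fun c => by
    simp [E, Fin.sum_univ_castSucc]
  let P : Equiv.Perm (Fin (n + 1)) → ((Fin (n + 1) → F) →ₗ[F] (Fin (n + 1) → F)) := fun σ =>
    LinearMap.funLeft F F ⇑σ⁻¹
  let T : Equiv.Perm (Fin (n + 1)) → ((Fin n → F) →ₗ[F] (Fin n → F)) := fun σ => R ∘ₗ P σ ∘ₗ E
  have hT : ∀ σ τ, T (σ * τ) = T σ * T τ := by
    intro σ τ
    apply LinearMap.ext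
    intro c
    show R (P (σ * τ) (E c)) = R (P σ (E (R (P τ (E c)))))
    rw [hER (P τ (E c)) (by
      show ∑ j, E c (τ⁻¹ j) = 0
      rw [Equiv.sum_comp τ⁻¹ (E c)]; exact hE0 c)]
    congr 1
  have hT1 : T 1 = 1 := by
    apply LinearMap.ext
    intro c
    show R (P 1 (E c)) = c
    exact hRE c
  let ρ : alternatingGroup (Fin (n + 1)) →* Matrix (Fin n) (Fin n) F :=
    { toFun := fun σ => LinearMap.toMatrix' (T σ)
      map_one' := by rw [OneMemClass.coe_one, hT1, Module.End.one_eq_id, LinearMap.toMatrix'_id]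
      map_mul' := fun σ τ => by rw [Subgroup.coe_mul, hT, LinearMap.toMatrix'_mul] }
  have h5 : 5 ≤ Nat.card (Fin (n + 1)) := by rw [Nat.card_eq_fintype_card, Fintype.card_fin]; omega
  have hdet : ∀ σ, (ρ σ).det = 1 := by
    intro σ
    let d : alternatingGroup (Fin (n + 1)) →* Fˣ :=
      ((Matrix.detMonoidHom (R := F) (n := Fin n)).comp ρ).toHomUnits
    have hσ : σ ∈ d.ker := by
      refine (Abelianization.commutator_subset_ker d) ?_
      rw [commutator_alternatingGroup_eq_top h5]
      exact Subgroup.mem_top σ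
    have := congrArg Units.val (MonoidHom.mem_ker.1 hσ)
    simpa [d] using this
  let ρ' : alternatingGroup (Fin (n + 1)) →* Matrix.SpecialLinearGroup (Fin n) F :=
    { toFun := fun σ => ⟨ρ σ, hdet σ⟩
      map_one' := Subtype.ext (map_one ρ)
      map_mul' := fun σ τ => Subtype.ext (map_mul ρ σ τ) }
  let f : alternatingGroup (Fin (n + 1)) →* Matrix.ProjectiveSpecialLinearGroup (Fin n) F :=
    (QuotientGroup.mk' _).comp ρ'
  refine ⟨f, ?_⟩
  haveI : IsSimpleGroup (alternatingGroup (Fin (n + 1))) := alternatingGroup.isSimpleGroup h5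
  rw [← MonoidHom.ker_eq_bot_iff]
  rcases (inferInstance : f.ker.Normal).eq_bot_or_eq_top with h | h
  · exact h
  exfalso
  let i0 : Fin n := ⟨0, by omega⟩
  let i1 : Fin n := ⟨1, by omega⟩
  let i2 : Fin n := ⟨2, by omega⟩
  let s : Equiv.Perm (Fin (n + 1)) :=
    Equiv.swap i0.castSucc i1.castSucc * Equiv.swap i1.castSucc i2.castSucc
  have hs : s ∈ alternatingGroup (Fin (n + 1)) := by
    rw [Equiv.Perm.mem_alternatingGroup, map_mul, Equiv.Perm.sign_swap, Equiv.Perm.sign_swap]
    · norm_num
    · simp [i1, i2, Fin.ext_iff]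
    · simp [i0, i1, Fin.ext_iff]
  have hmem : (⟨s, hs⟩ : alternatingGroup (Fin (n + 1))) ∈ f.ker := h ▸ Subgroup.mem_top _
  obtain ⟨r, -, hr⟩ := Matrix.SpecialLinearGroup.mem_center_iff.1
    ((QuotientGroup.eq_one_iff _).1 (MonoidHom.mem_ker.1 hmem))
  have hne01 : i0.castSucc ≠ i1.castSucc := by
    intro h; have := congrArg Fin.val h; simp [i0, i1] at this
  have hne02 : i0.castSucc ≠ i2.castSucc := by
    intro h; have := congrArg Fin.val h; simp [i0, i2] at this
  have hsinv : s⁻¹ i1.castSucc = i0.castSucc := by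
    rw [Equiv.Perm.inv_eq_iff_eq]
    simp only [s, Equiv.Perm.mul_apply]
    rw [Equiv.swap_apply_of_ne_of_ne hne01 hne02, Equiv.swap_apply_left]
  have hentry : LinearMap.toMatrix' (T s) i1 i0 = Matrix.scalar (Fin n) r i1 i0 := by
    rw [hr]; rfl
  rw [LinearMap.toMatrix'_apply] at hentry
  have hv : T s (Pi.single i0 1) i1 = 1 := by
    show E (Pi.single i0 1) (s⁻¹ i1.castSucc) = 1
    rw [hsinv]
    simp [E]
  rw [hv] at hentry
  simp [Matrix.scalar_apply, i0, i1, Fin.ext_iff] at hentry

end Cfsg.Agent.S4156
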