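import Cfsg.Statements.S4160
import Mathlib

set_option autoImplicit false
set_option linter.style.haveILetI false

namespace Cfsg.Agent.S4160

open scoped Pointwise

variable {G : Type*} [Group G] [Finite G]

/-- The non-identity elements commuting with some Sylow `r`-subgroup. -/
def covered (r : ℕ) (g : G) : Prop := ¬ r ∣ (Subgroup.centralizer ({g} : Set G)).index

theorem card_covered {r : ℕ} [hr : Fact r.Prime]
    (h : ∀ P : Sylow r G,
      ¬ Subgroup.normalizer ((P : Subgroup G) : Set G) ≤ Subgroup.centralizer ((P : Subgroup G) : Set G)) :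
    2 * Nat.card {g : G // g ≠ 1 ∧ covered r g} + 2 ≤ Nat.card G := by
  classical
  obtain ⟨P⟩ : Nonempty (Sylow r G) := inferInstance
  set N := Subgroup.normalizer ((P : Subgroup G) : Set G)
  set C := Subgroup.centralizer ((P : Subgroup G) : Set G)
  have hCN : C ≤ N := Subgroup.centralizer_le_normalizer _
  have hlt : C < N := lt_of_le_not_ge hCN (h P)
  have hN : 2 * Nat.card C ≤ Nat.card N := by
    obtain ⟨k, hk⟩ := Subgroup.card_dvd_of_le hCN
    have h1 : Nat.card C < Nat.card N := by
      by_contra hge
      exact hlt.ne (Subgroup.eq_of_le_of_card_ge hCN (not_lt.1 hge))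
    rw [hk] at h1 ⊢
    rw [mul_comm 2]
    refine Nat.mul_le_mul_left _ ?_
    by_contra hk2
    interval_cases k <;> omega
  -- every covered element is conjugate into `C` by a chosen representative
  have hrep : ∀ g : {g : G // g ≠ 1 ∧ covered r g}, ∃ cd : (G ⧸ N) × {c : C // c ≠ 1},
      (cd.1.out : G) * ((cd.2 : C) : G) * (cd.1.out : G)⁻¹ = (g : G) := by
    rintro ⟨g, hg1, hg⟩
    obtain ⟨S⟩ : Nonempty (Sylow r (Subgroup.centralizer ({g} : Set G))) := inferInstance
    set R := (S : Subgroup _).map (Subgroup.centralizer ({g} : Set G)).subtype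
    have hRi : ¬ r ∣ R.index := by
      rw [Subgroup.index_map, Subgroup.ker_subtype, sup_bot_eq, Subgroup.range_subtype]
      intro hd
      rcases hr.out.dvd_mul.1 hd with h' | h'
      · exact S.not_dvd_index h'
      · exact hg h'
    obtain ⟨u, hu⟩ := MulAction.exists_smul_eq G P ((S.isPGroup'.map _).toSylow hRi)
    have hu' : MulAut.conj u • (P : Subgroup G) = R := by
      rw [← Sylow.coe_subgroup_smul, hu]; rfl
    set c : G ⧸ N := (u : G ⧸ N) with hc
    obtain ⟨w, hw⟩ := QuotientGroup.mk_out_eq_mul N u
    have hout : MulAut.conj c.out • (P : Subgroup G) = R := by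
      rw [hc, hw, map_mul, mul_smul, ← hu']
      congr 1
      rw [← Sylow.coe_subgroup_smul, Sylow.smul_eq_iff_mem_normalizer.2 w.2]
    have hmem : c.out⁻¹ * g * c.out ∈ C := by
      rw [Subgroup.mem_centralizer_iff]
      intro p hp
      have hpR : c.out * p * c.out⁻¹ ∈ R := by
        rw [← hout]; exact ⟨p, hp, rfl⟩
      have h1 := Subgroup.mem_centralizer_singleton_iff.1 (Subgroup.map_subtype_le _ hpR)
      calc p * (c.out⁻¹ * g * c.out) = c.out⁻¹ * (c.out * p * c.out⁻¹ * g) * c.out := by group
        _ = c.out⁻¹ * (g * (c.out * p * c.out⁻¹)) * c.out := by rw [h1]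
        _ = c.out⁻¹ * g * c.out * p := by group
    refine ⟨(c, ⟨⟨_, hmem⟩, fun e => hg1 ?_⟩), by show c.out * (c.out⁻¹ * g * c.out) * c.out⁻¹ = g; group⟩
    have := congrArg (fun x : C => c.out * (x : G) * c.out⁻¹) e
    simpa [mul_assoc] using this
  choose f hf using hrep
  have hfi : Function.Injective f := fun a b hab => Subtype.ext (by rw [← hf a, ← hf b, hab])
  have h1 := Nat.card_le_card_of_injective f hfi
  rw [Nat.card_prod, ← Subgroup.index_eq_card] at h1
  have h2 : Nat.card {c : C // c ≠ 1} + 1 = Nat.card C := by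
    have e := Nat.card_congr (Equiv.sumCompl (fun c : C => c = 1))
    rw [Nat.card_sum, Nat.card_unique] at e
    rw [add_comm]; exact e
  have h3 := N.card_mul_index
  have hpos := Nat.pos_of_ne_zero (Subgroup.index_ne_zero_of_finite (H := N))
  nlinarith

end Cfsg.Agent.S4160


set_option autoImplicit false
open Cfsg

namespace Cfsg.Agent.S4160

/-- Let G be a finite group and p ≠ q primes each dividing the size of some conjugacy class of G, such that no conjugacy class size is divisible by pq. Then G has a normal p-complement or a normal q-complement. -/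
theorem result {G : Type*} [Group G] [Finite G] (p q : ℕ) (hp : p.Prime) (hq : q.Prime) (hpq : p ≠ q)
    (hp' : ∃ x : G, p ∣ (Subgroup.centralizer ({x} : Set G)).index) (hq' : ∃ x : G, q ∣ (Subgroup.centralizer ({x} : Set G)).index) (h : ∀ x : G, ¬ p * q ∣ (Subgroup.centralizer ({x} : Set G)).index) :
    Cfsg.HasNormalPComplement p G ∨ Cfsg.HasNormalPComplement q G := by
  classical
  haveI := Fact.mk hp
  haveI := Fact.mk hq
  have key : ∀ (r : ℕ) [Fact r.Prime], (∀ P : Sylow r G,
      ¬ Subgroup.normalizer ((P : Subgroup G) : Set G) ≤ Subgroup.centralizer ((P : Subgroup G) : Set G)) ∨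
      Cfsg.HasNormalPComplement r G := by
    intro r _
    by_cases hex : ∃ P : Sylow r G,
      Subgroup.normalizer ((P : Subgroup G) : Set G) ≤ Subgroup.centralizer ((P : Subgroup G) : Set G)
    · obtain ⟨P, hP⟩ := hex
      exact Or.inr ⟨P, (MonoidHom.transferSylow P hP).ker, inferInstance,
        MonoidHom.ker_transferSylow_isComplement' P hP⟩
    · exact Or.inl fun P hP => hex ⟨P, hP⟩
  rcases key p with h1 | h1
  swap
  · exact Or.inl h1
  rcases key q with h2 | h2
  swap
  · exact Or.inr h2
  exfalso
  have c1 := card_covered h1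
  have c2 := card_covered h2
  have hcov : ∀ g : G, covered p g ∨ covered q g := by
    intro g
    unfold covered
    by_contra hg
    push Not at hg
    exact h g (((Nat.coprime_primes hp hq).2 hpq).mul_dvd_of_dvd_of_dvd hg.1 hg.2)
  have hle : Nat.card {g : G // g ≠ 1} ≤
      Nat.card ({g : G // g ≠ 1 ∧ covered p g} ⊕ {g : G // g ≠ 1 ∧ covered q g}) := by
    refine Nat.card_le_card_of_injective (fun g => if hg : covered p (g : G) then Sum.inl ⟨g, g.2, hg⟩
      else Sum.inr ⟨g, g.2, (hcov g).resolve_left hg⟩) ?_
    intro a b hab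
    by_cases ha : covered p (a : G) <;> by_cases hb : covered p (b : G) <;> simp [ha, hb] at hab <;>
      exact Subtype.ext hab
  rw [Nat.card_sum] at hle
  have h3 : Nat.card {g : G // g ≠ 1} + 1 = Nat.card G := by
    have e := Nat.card_congr (Equiv.sumCompl (fun g : G => g = 1))
    rw [Nat.card_sum, Nat.card_unique] at e
    rw [add_comm]; exact e
  omega

end Cfsg.Agent.S4160
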