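import Cfsg.Statements.S4163
import Cfsg.Agent.Lib.Solvable.Basic

set_option autoImplicit false
set_option linter.style.haveILetI false

set_option autoImplicit false
open Cfsg
open scoped commutatorElement

namespace Cfsg.Agent.S4163

/-- Let G be a finite group with a normal abelian subgroup A satisfying C_G(A) = A. Suppose some conjugacy class of G has size greater than 1, let m be the smallest such size, and let M be the subgroup generated by the elements whose class has size 1 or m. Then M is nilpotent of class at most 3. -/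
theorem result {G : Type*} [Group G] [Finite G]
    (A : Subgroup G) [A.Normal] (hA : IsMulCommutative A) (hCA : Subgroup.centralizer (A : Set G) = A)
    (m : ℕ) (hm1 : 1 < m) (hm : ∃ x : G, (Subgroup.centralizer ({x} : Set G)).index = m) (hmin : ∀ x : G, 1 < (Subgroup.centralizer ({x} : Set G)).index → m ≤ (Subgroup.centralizer ({x} : Set G)).index) :
    Subgroup.upperCentralSeries ↥(Subgroup.closure {x : G | (Subgroup.centralizer ({x} : Set G)).index = 1 ∨ (Subgroup.centralizer ({x} : Set G)).index = m}) 3 = ⊤ := by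
  classical
  set Z := Subgroup.center G with hZ
  haveI : IsMulCommutative A := hA
  have hAc : ∀ {u v : G}, u ∈ A → v ∈ A → u * v = v * u := fun hu hv =>
    congrArg Subtype.val (mul_comm' (⟨_, hu⟩ : A) ⟨_, hv⟩)
  have key : ∀ x : G, ((Subgroup.centralizer ({x} : Set G)).index = 1 ∨ (Subgroup.centralizer ({x} : Set G)).index = m) →
      ∀ a ∈ A, a * x * a⁻¹ * x⁻¹ ∈ Z := by
    intro x hx a ha
    rcases hx with hx | hx
    · have h1 : a ∈ Subgroup.centralizer ({x} : Set G) := by
        rw [Subgroup.index_eq_one.1 hx]; exact Subgroup.mem_top a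
      rw [Subgroup.mem_centralizer_singleton_iff.1 h1]
      simp
    set C := Subgroup.centralizer ({x} : Set G) with hC
    let φ : A →* A := MonoidHom.mk'
      (fun u => ⟨(u : G) * x * (u : G)⁻¹ * x⁻¹, by
        rw [mul_assoc, mul_assoc, ← mul_assoc x]
        exact mul_mem u.2 ((inferInstance : A.Normal).conj_mem _ (inv_mem u.2) x)⟩)
      (fun u v => Subtype.ext (by
        show (u : G) * (v : G) * x * ((u : G) * (v : G))⁻¹ * x⁻¹ = _
        have hvA : (v : G) * x * (v : G)⁻¹ * x⁻¹ ∈ A := by
          rw [mul_assoc, mul_assoc, ← mul_assoc x]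
          exact mul_mem v.2 ((inferInstance : A.Normal).conj_mem _ (inv_mem v.2) x)
        have huA : (u : G) * x * (u : G)⁻¹ * x⁻¹ ∈ A := by
          rw [mul_assoc, mul_assoc, ← mul_assoc x]
          exact mul_mem u.2 ((inferInstance : A.Normal).conj_mem _ (inv_mem u.2) x)
        calc (u : G) * (v : G) * x * ((u : G) * (v : G))⁻¹ * x⁻¹
            = (u : G) * ((v : G) * x * (v : G)⁻¹ * x⁻¹) * x * (u : G)⁻¹ * x⁻¹ := by group
          _ = ((v : G) * x * (v : G)⁻¹ * x⁻¹) * ((u : G) * x * (u : G)⁻¹ * x⁻¹) := by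
            rw [hAc u.2 hvA]; group
          _ = _ := hAc hvA huA))
    set y := a * x * a⁻¹ * x⁻¹ with hy
    by_contra hyZ
    have hy1 : y ≠ 1 := fun h => hyZ (h ▸ one_mem _)
    have hyA : y ∈ A := (φ ⟨a, ha⟩).2
    set S := C ⊓ Subgroup.centralizer ({y} : Set G) with hS
    haveI := Fintype.ofFinite A
    -- the orbit of `y` under `C`
    have horb : (S.subgroupOf C).index < Nat.card φ.range := by
      let f : C ⧸ S.subgroupOf C → {z : φ.range // z ≠ 1} := fun c =>
        ⟨⟨⟨(c.out : G) * y * (c.out : G)⁻¹, (inferInstance : A.Normal).conj_mem _ hyA _⟩,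
          ⟨⟨(c.out : G) * a * (c.out : G)⁻¹, (inferInstance : A.Normal).conj_mem _ ha _⟩, Subtype.ext (by
            show (c.out : G) * a * (c.out : G)⁻¹ * x * ((c.out : G) * a * (c.out : G)⁻¹)⁻¹ * x⁻¹ =
              (c.out : G) * y * (c.out : G)⁻¹
            have hcx : (c.out : G) * x = x * (c.out : G) := Subgroup.mem_centralizer_singleton_iff.1 c.out.2
            have e1 : (c.out : G)⁻¹ * x * (c.out : G) = x := by rw [mul_assoc, ← hcx, inv_mul_cancel_left]
            calc (c.out : G) * a * (c.out : G)⁻¹ * x * ((c.out : G) * a * (c.out : G)⁻¹)⁻¹ * x⁻¹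
                = (c.out : G) * a * ((c.out : G)⁻¹ * x * (c.out : G)) * a⁻¹ * ((c.out : G)⁻¹ * x⁻¹ * (c.out : G)) * (c.out : G)⁻¹ := by group
              _ = _ := by
                rw [e1, show (c.out : G)⁻¹ * x⁻¹ * (c.out : G) = x⁻¹ from by
                  have := congrArg (·⁻¹) e1
                  simpa [mul_assoc] using this]
                rw [hy]; group)⟩⟩, fun h => hy1 (conj_eq_one_iff.1 (congrArg (fun z : φ.range => ((z : A) : G)) h))⟩
      have hf : Function.Injective f := by
        intro c d hcd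
        have h1 : (c.out : G) * y * (c.out : G)⁻¹ = (d.out : G) * y * (d.out : G)⁻¹ :=
          congrArg (fun z : {z : φ.range // z ≠ 1} => (((z : φ.range) : A) : G)) hcd
        rw [← QuotientGroup.out_eq' c, ← QuotientGroup.out_eq' d, QuotientGroup.eq, Subgroup.mem_subgroupOf]
        refine ⟨(c.out⁻¹ * d.out : C).2, ?_⟩
        refine Subgroup.mem_centralizer_singleton_iff.2 ?_
        show (c.out : G)⁻¹ * (d.out : G) * y = y * ((c.out : G)⁻¹ * (d.out : G))
        calc (c.out : G)⁻¹ * (d.out : G) * y = (c.out : G)⁻¹ * ((d.out : G) * y * (d.out : G)⁻¹) * (d.out : G) := by group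
          _ = _ := by rw [← h1]; group
      have h1 := Nat.card_le_card_of_injective f hf
      rw [← Subgroup.index_eq_card] at h1
      haveI := Fintype.ofFinite φ.range
      have h2 : Nat.card {z : φ.range // z ≠ 1} = Nat.card φ.range - 1 := by
        simp [Nat.card_eq_fintype_card, Fintype.card_subtype_compl]
      have h3 : 0 < Nat.card φ.range := Nat.card_pos
      omega
    have hker : Nat.card (A ⊓ S : Subgroup G) ≤ Nat.card φ.ker := by
      rw [← Subgroup.card_map_of_injective (f := A.subtype) (K := φ.ker) A.subtype_injective]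
      refine Subgroup.card_le_of_le fun u hu => ⟨⟨u, hu.1⟩, Subtype.ext ?_, rfl⟩
      show u * x * u⁻¹ * x⁻¹ = 1
      rw [Subgroup.mem_centralizer_singleton_iff.1 hu.2.1]; simp
    have hsup : A ⊔ S ≤ Subgroup.centralizer ({y} : Set G) :=
      sup_le (fun u hu => Subgroup.mem_centralizer_singleton_iff.2 (hAc hu hyA)) inf_le_right
    have h1 := SolvBasic.card_sup_mul_card_inf (N := A) (H := S) (by rw [Subgroup.normalizer_eq_top]; exact le_top)
    have hAcard : Nat.card A = Nat.card φ.ker * Nat.card φ.range := by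
      rw [← φ.ker.card_mul_index, Subgroup.index_ker]
    have h2 : Nat.card φ.range * Nat.card S ≤ Nat.card (Subgroup.centralizer ({y} : Set G)) := by
      refine le_trans ?_ (Subgroup.card_le_of_le hsup)
      have h3 : Nat.card φ.range * Nat.card S * Nat.card φ.ker ≤ Nat.card (A ⊔ S : Subgroup G) * Nat.card φ.ker := by
        calc Nat.card φ.range * Nat.card S * Nat.card φ.ker = Nat.card A * Nat.card S := by rw [hAcard]; ring
          _ = Nat.card (A ⊔ S : Subgroup G) * Nat.card (A ⊓ S : Subgroup G) := h1.symm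
          _ ≤ _ := Nat.mul_le_mul_left _ hker
      exact Nat.le_of_mul_le_mul_right h3 Nat.card_pos
    have h4 : Nat.card C < Nat.card (Subgroup.centralizer ({y} : Set G)) := by
      refine lt_of_lt_of_le ?_ h2
      have h5 : Nat.card (S.subgroupOf C) = Nat.card S :=
        Nat.card_congr (Subgroup.subgroupOfEquivOfLe inf_le_left).toEquiv
      rw [← (S.subgroupOf C).card_mul_index, h5, mul_comm (Nat.card φ.range)]
      exact Nat.mul_lt_mul_of_pos_left horb Nat.card_pos
    have h6 : (Subgroup.centralizer ({y} : Set G)).index = 1 := by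
      by_contra hne
      have h7 := hmin y (lt_of_le_of_ne (Nat.pos_of_ne_zero Subgroup.index_ne_zero_of_finite) (Ne.symm hne))
      rw [← hx] at h7
      have h8 := (Subgroup.centralizer ({y} : Set G)).card_mul_index
      have h9 := C.card_mul_index
      have h10 : Nat.card C * C.index < Nat.card (Subgroup.centralizer ({y} : Set G)) * (Subgroup.centralizer ({y} : Set G)).index :=
        Nat.mul_lt_mul_of_lt_of_le h4 h7 (Nat.pos_of_ne_zero Subgroup.index_ne_zero_of_finite)
      omega
    exact hyZ (Subgroup.centralizer_eq_top_iff_subset.1 (Subgroup.index_eq_one.1 h6) rfl)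
  set M := Subgroup.closure {x : G | (Subgroup.centralizer ({x} : Set G)).index = 1 ∨ (Subgroup.centralizer ({x} : Set G)).index = m} with hM
  have hAM : ∀ a ∈ A, ∀ x ∈ M, ⁅a, x⁆ ∈ Z := by
    have h1 : M ≤ (Subgroup.centralizer ((A.map (QuotientGroup.mk' Z) : Subgroup (G ⧸ Z)) : Set (G ⧸ Z))).comap (QuotientGroup.mk' Z) := by
      rw [hM, Subgroup.closure_le]
      intro x hx
      rw [SetLike.mem_coe, Subgroup.mem_comap, Subgroup.mem_centralizer_iff]
      rintro _ ⟨a, ha, rfl⟩
      rw [← commutatorElement_eq_one_iff_mul_comm, ← map_commutatorElement, QuotientGroup.mk'_apply,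
        QuotientGroup.eq_one_iff]
      exact key x hx a ha
    intro a ha x hx
    rw [← QuotientGroup.eq_one_iff, ← QuotientGroup.mk'_apply, map_commutatorElement,
      commutatorElement_eq_one_iff_mul_comm]
    exact Subgroup.mem_centralizer_iff.1 (h1 hx) _ (Subgroup.mem_map_of_mem _ ha)
  have hMM : ⁅M, M⁆ ≤ A := by
    have h1 : ⁅⁅M, A⁆, M⁆ = ⊥ := by
      rw [Subgroup.commutator_eq_bot_iff_le_centralizer]
      refine le_trans ?_ (Subgroup.center_le_centralizer _)
      rw [Subgroup.commutator_le]
      intro x hx a ha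
      rw [← commutatorElement_inv]
      exact inv_mem (hAM a ha x hx)
    have h2 : ⁅⁅A, M⁆, M⁆ = ⊥ := by rwa [Subgroup.commutator_comm A M]
    have h3 := Subgroup.commutator_commutator_eq_bot_of_rotate h1 h2
    rw [Subgroup.commutator_eq_bot_iff_le_centralizer, hCA] at h3
    exact h3
  have hz1 : ∀ z : M, (z : G) ∈ Z → z ∈ Subgroup.upperCentralSeries M 1 := fun z hz => by
    rw [Subgroup.upperCentralSeries_one, Subgroup.mem_center_iff]
    exact fun g => Subtype.ext (Subgroup.mem_center_iff.1 hz g)
  have hz2 : ∀ z : M, (z : G) ∈ A → z ∈ Subgroup.upperCentralSeries M 2 := fun z hz => by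
    rw [Subgroup.mem_upperCentralSeries_succ_iff]
    exact fun g => hz1 _ (hAM z hz g g.2)
  rw [eq_top_iff]
  intro z _
  rw [Subgroup.mem_upperCentralSeries_succ_iff]
  exact fun g => hz2 _ (hMM (Subgroup.commutator_mem_commutator z.2 g.2))

end Cfsg.Agent.S4163
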