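import Cfsg.Statements.S4168
import Cfsg.Agent.Lib.Transfer.Fusion
import Cfsg.Agent.Lib.Transfer.Basic

set_option autoImplicit false
set_option linter.style.haveILetI false

set_option autoImplicit false
open Cfsg

namespace Cfsg.Agent.S4168

/-- Let L be a finite quasisimple group (perfect with L/Z(L) simple). Then every prime dividing the order of the centre Z(L) also divides the order of L/Z(L). -/
theorem result {L : Type*} [Group L] [Finite L] (hL : Cfsg.IsQuasisimple L)
    (p : ℕ) (hp : p.Prime) (hdiv : p ∣ Nat.card (Subgroup.center L)) : p ∣ (Subgroup.center L).index := by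
  by_contra hnd
  haveI := Fact.mk hp
  set Z := Subgroup.center L
  obtain ⟨P⟩ : Nonempty (Sylow p L) := inferInstance
  -- the Sylow subgroup is central
  have hPZ : (P : Subgroup L) ≤ Z := by
    obtain ⟨n, hn⟩ := IsPGroup.iff_card.1 P.isPGroup'
    intro x hx
    obtain ⟨m, hm⟩ := exists_pow_eq_self_of_coprime (x := x) (n := Z.index)
      ((((hp.coprime_iff_not_dvd.2 hnd)).pow_left n).symm.coprime_dvd_right
        (hn ▸ Subgroup.orderOf_dvd_natCard _ hx))
    rw [← hm]
    exact Subgroup.pow_mem _ (Subgroup.pow_index_mem Z x) m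
  have hnc : Cfsg.HasNormalPComplement p L := by
    refine Cfsg.Agent.Fusion.hasNormalPComplement_of_normalizer_le_centralizer P fun g _ => ?_
    rw [Subgroup.mem_centralizer_iff]
    intro x hx
    exact (Subgroup.mem_center_iff.1 (hPZ hx) g).symm
  obtain ⟨N, hNn, hNc, k, hk⟩ := Cfsg.Agent.PBasic.hasNormalPComplement_iff.1 hnc
  haveI := hNn
  haveI hQp : Group.IsNilpotent (L ⧸ N) :=
    (IsPGroup.of_card (n := k) (by rw [← Subgroup.index_eq_card, hk]) : IsPGroup p (L ⧸ N)).isNilpotent
  have hk0 : k = 0 := by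
    by_contra hk0
    haveI : Nontrivial (L ⧸ N) := by
      rw [← Finite.one_lt_card_iff_nontrivial, ← Subgroup.index_eq_card, hk]
      exact Nat.one_lt_pow hk0 hp.one_lt
    have h1 := Group.IsSolvable.commutator_lt_top_of_nontrivial (L ⧸ N)
    refine h1.ne ?_
    haveI := hL.1
    exact (Group.IsPerfect.ofSurjective (QuotientGroup.mk'_surjective N)).commutator_eq_top
  have hN : Nat.card N = Nat.card L := by
    rw [← N.card_mul_index, hk, hk0, pow_zero, mul_one]
  rw [hN] at hNc
  exact hp.not_dvd_one (hNc ▸ Nat.dvd_gcd (hdiv.trans (Subgroup.card_subgroup_dvd_card _)) dvd_rfl)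

end Cfsg.Agent.S4168
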