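import Cfsg.Statements.S4169
import Cfsg.Agent.S4163
import Cfsg.Agent.Lib.OddOrder.Nilpotent

set_option autoImplicit false
set_option linter.style.haveILetI false

set_option autoImplicit false
open Cfsg

namespace Cfsg.Agent.S4169

/-- Let P be a finite p-group whose conjugacy classes have exactly two sizes (1 and one other value). Then P has nilpotency class at most 3. -/
theorem result {P : Type*} [Group P] [Finite P] {p : ℕ} [Fact p.Prime] (hP : IsPGroup p P)
    (m : ℕ) (hm : 1 < m) (h : ∀ x : P, (Subgroup.centralizer ({x} : Set P)).index = 1 ∨ (Subgroup.centralizer ({x} : Set P)).index = m) :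
    upperCentralSeries P 3 = ⊤ := by
  classical
  haveI : Group.IsNilpotent P := hP.isNilpotent
  obtain ⟨A, hAn, hAc, hCA⟩ := OddOrder.Nilp.exists_normal_abelian_self_centralizing (G := P)
  haveI := hAn
  by_cases hex : ∃ x : P, (Subgroup.centralizer ({x} : Set P)).index = m
  · have h1 := S4163.result A hAc hCA m hm hex (fun x hx => by rcases h x with h1 | h1 <;> omega)
    have hS : {x : P | (Subgroup.centralizer ({x} : Set P)).index = 1 ∨ (Subgroup.centralizer ({x} : Set P)).index = m} = Set.univ :=
      Set.eq_univ_of_forall h
    set S := Subgroup.closure {x : P | (Subgroup.centralizer ({x} : Set P)).index = 1 ∨ (Subgroup.centralizer ({x} : Set P)).index = m} with hSdef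
    have hST : S = ⊤ := by rw [hSdef, hS, Subgroup.closure_univ]
    have h2 : Group.nilpotencyClass S ≤ 3 :=
      (Subgroup.upperCentralSeries_eq_top_iff_nilpotencyClass_le).1 h1
    refine Subgroup.upperCentralSeries_eq_top_iff_nilpotencyClass_le.2 (le_trans ?_ h2)
    let e : S ≃* P := (MulEquiv.subgroupCongr hST).trans Subgroup.topEquiv
    exact nilpotencyClass_le_of_surjective e.toMonoidHom e.surjective
  · push Not at hex
    have htop : Subgroup.center P = ⊤ := by
      rw [eq_top_iff]
      intro x _
      exact Subgroup.centralizer_eq_top_iff_subset.1 (Subgroup.index_eq_one.1 ((h x).resolve_right (hex x))) rfl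
    show Subgroup.upperCentralSeries P 3 = ⊤
    rw [eq_top_iff]
    calc (⊤ : Subgroup P) = Subgroup.upperCentralSeries P 1 := by rw [Subgroup.upperCentralSeries_one, htop]
      _ ≤ _ := Subgroup.upperCentralSeries_mono P (by norm_num)

end Cfsg.Agent.S4169
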