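import Cfsg.Statements.S4170
import Mathlib.GroupTheory.Sylow
-- import your own Cfsg.Agent.* helpers here

set_option autoImplicit false
open scoped Pointwise
open Cfsg

namespace Cfsg.Agent.S4170

/-- A subgroup with index prime to `p` contains a Sylow subgroup. -/
theorem exists_sylow_le {G : Type*} [Group G] [Finite G] {p : ℕ} [Fact p.Prime] (H : Subgroup G)
    (h : ¬ p ∣ H.index) : ∃ Q : Sylow p G, (Q : Subgroup G) ≤ H := by
  obtain ⟨R⟩ : Nonempty (Sylow p ↥H) := inferInstance
  have hR : IsPGroup p ↥((R : Subgroup ↥H).map H.subtype) := R.isPGroup'.map _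
  obtain ⟨Q, hQ⟩ := hR.exists_le_sylow
  refine ⟨Q, ?_⟩
  have hi : ¬ p ∣ ((R : Subgroup ↥H).map H.subtype).index := by
    rw [Subgroup.index_map_subtype]
    exact Nat.Prime.not_dvd_mul Fact.out R.not_dvd_index h
  have e : (R : Subgroup ↥H).map H.subtype = Q := by
    refine ((hR.toSylow hi).3 Q.isPGroup' ?_).symm
    exact hQ
  rw [← e]
  exact Subgroup.map_subtype_le _

/-- Let p be an odd prime and G a nontrivial group of permutations of a finite set Ω that is generated by its elements of p-power order. Then Ω has two disjoint nonempty subsets Δ₁ and Δ₂ such that the index in G of the subgroup of elements mapping Δ₁ onto Δ₁ and Δ₂ onto Δ₂ (and hence also the complement of their union onto itself) is divisible by p. -/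
theorem result {Ω : Type*} [Fintype Ω] (p : ℕ) [Fact p.Prime] (hp : p ≠ 2) (G : Subgroup (Equiv.Perm Ω)) (hG : G ≠ ⊥) (hgen : Subgroup.closure {g : G | ∃ k : ℕ, orderOf g = p ^ k} = ⊤) :
    ∃ Δ₁ Δ₂ : Set Ω, Δ₁.Nonempty ∧ Δ₂.Nonempty ∧ Disjoint Δ₁ Δ₂ ∧ p ∣ (MulAction.stabilizer G Δ₁ ⊓ MulAction.stabilizer G Δ₂).index := by
  classical
  have : Finite G := inferInstance
  obtain ⟨P⟩ : Nonempty (Sylow p G) := inferInstance
  set Fx : Sylow p G → Set Ω := fun Q => {w | ∀ g ∈ (Q : Subgroup G), g • w = w} with hFx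
  have hsmul : ∀ (g : G) (Q : Sylow p G), Fx (g • Q) = g • Fx Q := by
    intro g Q
    ext w
    rw [Set.mem_smul_set_iff_inv_smul_mem]
    constructor
    · intro h a ha
      have h2 := h (g * a * g⁻¹) ⟨a, ha, rfl⟩
      rw [mul_smul, mul_smul] at h2
      exact smul_left_cancel g (by rw [h2, smul_inv_smul])
    · rintro h _ ⟨a, ha, rfl⟩
      show (g * a * g⁻¹) • w = w
      rw [mul_smul, mul_smul, h a ha, smul_inv_smul]
  have hall : ∀ Q : Sylow p G, (Q : Subgroup G) ≤ MulAction.stabilizer G (Fx P) → Fx Q = Fx P := by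
    intro Q hQ
    have hP : (P : Subgroup G) ≤ MulAction.stabilizer G (Fx P) := fun g hg =>
      MulAction.mem_stabilizer_iff.2 (by rw [← hsmul, Sylow.smul_eq_iff_mem_normalizer.2 (Subgroup.le_normalizer hg)])
    obtain ⟨x, hx⟩ := MulAction.exists_smul_eq ↥(MulAction.stabilizer G (Fx P)) (P.subtype hP) (Q.subtype hQ)
    rw [Sylow.smul_subtype hP x] at hx
    rw [← Sylow.subtype_injective hx, show x • P = (x : G) • P from rfl, hsmul]
    exact MulAction.mem_stabilizer_iff.1 x.2
  have hne : Fx P ≠ Set.univ := by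
    intro h
    refine hG ?_
    have hP : (P : Subgroup G) = ⊥ := (Subgroup.eq_bot_iff_forall _).2 fun g hg =>
      Subtype.ext (Equiv.ext fun w => (Set.eq_univ_iff_forall.1 h w) g hg)
    have htop : (⊤ : Subgroup G) ≤ ⊥ := by
      rw [← hgen, Subgroup.closure_le]
      rintro g ⟨k, hk⟩
      have hz : IsPGroup p ↥(Subgroup.zpowers g) := IsPGroup.of_card (n := k) ((Nat.card_zpowers g).trans hk)
      obtain ⟨Q, hQ⟩ := hz.exists_le_sylow
      obtain ⟨x, hx⟩ := MulAction.exists_smul_eq G P Q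
      have h1 := hQ (Subgroup.mem_zpowers g)
      rw [← hx] at h1
      obtain ⟨a, ha, rfl⟩ := h1
      rw [SetLike.mem_coe, hP, Subgroup.mem_bot] at ha
      simp [ha]
    exact (Subgroup.eq_bot_iff_forall _).2 fun g hg => congrArg Subtype.val
      (Subgroup.mem_bot.1 (htop (Subgroup.mem_top (⟨g, hg⟩ : G))))
  obtain ⟨z, hz⟩ := (Set.ne_univ_iff_exists_notMem _).1 hne
  rcases (Fx P).eq_empty_or_nonempty with he | he
  · obtain ⟨g, hg, hgz⟩ : ∃ g ∈ (P : Subgroup G), g • z ≠ z := by
      simpa [hFx] using hz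
    refine ⟨{z}, {g • z}, Set.singleton_nonempty _, Set.singleton_nonempty _,
      Set.disjoint_singleton.2 (Ne.symm hgz), ?_⟩
    by_contra hd
    obtain ⟨Q, hQ⟩ := exists_sylow_le _ hd
    obtain ⟨x, hx⟩ := MulAction.exists_smul_eq G P Q
    have hmem : z ∈ Fx Q := fun a ha => by
      have h := MulAction.mem_stabilizer_iff.1 (Subgroup.mem_inf.1 (hQ ha)).1
      rw [Set.smul_set_singleton, Set.singleton_eq_singleton_iff] at h
      exact h
    rw [← hx, hsmul, he, Set.smul_set_empty] at hmem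
    exact hmem
  · refine ⟨Fx P, {z}, he, Set.singleton_nonempty _, Set.disjoint_singleton_right.2 hz, ?_⟩
    by_contra hd
    obtain ⟨Q, hQ⟩ := exists_sylow_le _ hd
    refine hz ?_
    rw [← hall Q (hQ.trans inf_le_left)]
    intro a ha
    have h := MulAction.mem_stabilizer_iff.1 (Subgroup.mem_inf.1 (hQ ha)).2
    rwa [Set.smul_set_singleton, Set.singleton_eq_singleton_iff] at h

end Cfsg.Agent.S4170
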