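import Cfsg.Statements.S4172
import Mathlib
import Cfsg.Agent.Lib.Components.FStar
import Cfsg.Agent.Lib.Components.Local
import Cfsg.Agent.Lib.Transfer.Tate
import Cfsg.Agent.Lib.Transfer.PGroup
import Cfsg.Agent.Lib.Solvable.Gaschutz
import Cfsg.Agent.Lib.Solvable.Fitting

set_option autoImplicit false
set_option linter.style.haveILetI false

namespace Cfsg.Agent.S4172

open scoped Pointwise commutatorElement

universe u

variable {G : Type u} [Group G] [Finite G] {p : ℕ} [hp : Fact p.Prime] (P : Sylow p G)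

/-- The Frattini subgroup of the Sylow subgroup, inside `G`. -/
noncomputable def frat : Subgroup G :=
  (frattini ↥(P : Subgroup G)).map (P : Subgroup G).subtype

theorem index_dvd (hgen : (frattini ↥(P : Subgroup G)).index = p ^ 2) {z : ↥(P : Subgroup G)}
    (hz : z ∉ frattini ↥(P : Subgroup G)) :
    (Subgroup.zpowers z ⊔ frattini ↥(P : Subgroup G)).index ∣ p := by
  set Φ := frattini ↥(P : Subgroup G)
  have hle : Φ ≤ Subgroup.zpowers z ⊔ Φ := le_sup_right
  have h1 := (Subgroup.relIndex_mul_index hle).trans hgen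
  obtain ⟨i, -, hi⟩ := (Nat.dvd_prime_pow hp.out).1 ⟨_, h1.symm⟩
  rcases Nat.eq_zero_or_pos i with h0 | h0
  · exfalso
    rw [h0, pow_zero, Subgroup.relIndex_eq_one] at hi
    exact hz (hi (le_sup_left (α := Subgroup _) (Subgroup.mem_zpowers z)))
  · have h2 : p * (Subgroup.zpowers z ⊔ Φ).index ∣ p * p :=
      (mul_dvd_mul (hi.symm ▸ dvd_pow_self p h0.ne') dvd_rfl).trans
        (dvd_of_eq (h1.trans (pow_two p)))
    exact Nat.dvd_of_mul_dvd_mul_left hp.out.pos h2

theorem generators (hgen : (frattini ↥(P : Subgroup G)).index = p ^ 2) {x : ↥(P : Subgroup G)}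
    (hx : x ∉ frattini ↥(P : Subgroup G)) :
    ∃ w, Subgroup.closure ({x, w} : Set ↥(P : Subgroup G)) = ⊤ ∧
      ∀ y, y ∉ frattini ↥(P : Subgroup G) →
        y ∈ Subgroup.zpowers x ⊔ frattini ↥(P : Subgroup G) →
        Subgroup.closure ({y, w} : Set ↥(P : Subgroup G)) = ⊤ := by
  set Φ := frattini ↥(P : Subgroup G) with hΦ
  have hidx := fun z hz => index_dvd P hgen (z := z) hz
  set X := Subgroup.zpowers x ⊔ Φ with hX
  have hXne : X ≠ ⊤ := by
    intro h
    have h1 := frattini_nongenerating h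
    apply (show ¬ p ^ 2 ∣ p by
      rw [pow_two]; intro hd
      have := Nat.le_of_dvd hp.out.pos hd
      nlinarith [hp.out.two_le])
    obtain ⟨n, hn⟩ := IsPGroup.iff_card.1 P.isPGroup'
    have hxp : x ^ p ∈ Φ := PGroupBasics.pow_mem_frattini P.isPGroup' x
    have h2 : Φ.relIndex X ∣ p := by
      rw [h, Subgroup.relIndex_top_right]
      have hle : Subgroup.zpowers (x ^ p) ≤ Φ := Subgroup.zpowers_le.2 hxp
      refine (Subgroup.index_dvd_of_le hle).trans ?_
      have h3 := Subgroup.card_mul_index (Subgroup.zpowers (x ^ p))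
      rw [Nat.card_zpowers, orderOf_pow, orderOf_eq_card_of_forall_mem_zpowers
        (fun z => by rw [h1]; exact Subgroup.mem_top z)] at h3
      have hg : Nat.gcd (Nat.card ↥(P : Subgroup G)) p ∣ p := Nat.gcd_dvd_right _ _
      have hdiv := Nat.div_mul_cancel (Nat.gcd_dvd_left (Nat.card ↥(P : Subgroup G)) p)
      have h4 : (Subgroup.zpowers (x ^ p)).index = Nat.gcd (Nat.card ↥(P : Subgroup G)) p :=
        Nat.eq_of_mul_eq_mul_left
          (Nat.pos_of_ne_zero fun h0 => by
            rw [h0, zero_mul] at hdiv; exact Nat.card_pos.ne' hdiv.symm)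
          (h3.trans hdiv.symm)
      rw [h4]; exact hg
    rwa [h, Subgroup.relIndex_top_right, hgen] at h2
  obtain ⟨w, hw⟩ : ∃ w, w ∉ X := by
    by_contra hno
    push Not at hno
    exact hXne (eq_top_iff.2 fun z _ => hno z)
  have hXp : X.index = p :=
    ((Nat.dvd_prime hp.out).1 (hidx x hx)).resolve_left fun h => hXne (Subgroup.index_eq_one.1 h)
  have key : ∀ y, y ∉ Φ → y ∈ X → Subgroup.closure ({y, w} : Set ↥(P : Subgroup G)) = ⊤ := by
    intro y hy hyX
    apply frattini_nongenerating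
    set Y := Subgroup.closure ({y, w} : Set ↥(P : Subgroup G)) ⊔ Φ with hY
    have hle : Subgroup.zpowers y ⊔ Φ ≤ X :=
      sup_le (Subgroup.zpowers_le.2 hyX) le_sup_right
    have heq : Subgroup.zpowers y ⊔ Φ = X := by
      refine le_antisymm hle (Subgroup.relIndex_eq_one.1 ?_)
      have h1 := Subgroup.relIndex_mul_index hle
      rw [hXp] at h1
      have h2 := hidx y hy
      rw [← h1] at h2
      have h3 : (Subgroup.zpowers y ⊔ Φ).relIndex X * p ∣ 1 * p := by rwa [one_mul]
      exact Nat.dvd_one.1 (Nat.dvd_of_mul_dvd_mul_right hp.out.pos h3)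
    have hXY : X ≤ Y := heq ▸ sup_le_sup_right
      (Subgroup.zpowers_le.2 (Subgroup.subset_closure (Set.mem_insert y {w}))) Φ
    have hwY : w ∈ Y :=
      le_sup_left (α := Subgroup _) (Subgroup.subset_closure (Set.mem_insert_of_mem y rfl))
    have hd := Subgroup.index_dvd_of_le hXY
    rw [hXp] at hd
    rcases (Nat.dvd_prime hp.out).1 hd with h | h
    · exact Subgroup.index_eq_one.1 h
    · exfalso
      refine hw ?_
      have h1 := Subgroup.relIndex_mul_index hXY
      rw [hXp, h] at h1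
      exact Subgroup.relIndex_eq_one.1 (Nat.eq_of_mul_eq_mul_right hp.out.pos (h1.trans (one_mul p).symm)) hwY
  exact ⟨w, key x hx (le_sup_left (α := Subgroup _) (Subgroup.mem_zpowers x)), key⟩

/-- `A` meets `P` outside the Frattini subgroup. -/
def Big (A : Subgroup G) : Prop := ¬ A ⊓ (P : Subgroup G) ≤ frat P

theorem not_two (hna : ¬ IsMulCommutative (P : Subgroup G))
    (hgen : (frattini ↥(P : Subgroup G)).index = p ^ 2) {A B : Subgroup G}
    (hA : (P : Subgroup G) ≤ Subgroup.normalizer (A : Set G))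
    (hB : (P : Subgroup G) ≤ Subgroup.normalizer (B : Set G)) (hAB : A ⊓ B = ⊥)
    (hAb : Big P A) (hBb : Big P B) : False := by
  apply hna
  obtain ⟨x, ⟨hxA, hxP⟩, hx⟩ := SetLike.not_le_iff_exists.1 hAb
  obtain ⟨y, ⟨hyB, hyP⟩, hy⟩ := SetLike.not_le_iff_exists.1 hBb
  set A' := A.subgroupOf (P : Subgroup G)
  set B' := B.subgroupOf (P : Subgroup G)
  haveI : A'.Normal := Subgroup.normal_subgroupOf_of_le_normalizer hA
  haveI : B'.Normal := Subgroup.normal_subgroupOf_of_le_normalizer hB
  have hAB' : ∀ z : ↥(P : Subgroup G), z ∈ A' → z ∈ B' → z = 1 := fun z h1 h2 => by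
    have : (z : G) ∈ A ⊓ B := ⟨h1, h2⟩
    rw [hAB, Subgroup.mem_bot] at this
    exact Subtype.ext this
  have hxΦ : (⟨x, hxP⟩ : ↥(P : Subgroup G)) ∉ frattini ↥(P : Subgroup G) := fun h => hx ⟨_, h, rfl⟩
  have hyΦ : (⟨y, hyP⟩ : ↥(P : Subgroup G)) ∉ frattini ↥(P : Subgroup G) := fun h => hy ⟨_, h, rfl⟩
  obtain ⟨w, hw, hkey⟩ := generators P hgen hxΦ
  have hcomAB : ∀ a ∈ A', ∀ b ∈ B', a * b = b * a := by
    intro a ha b hb
    have h1 : a * b * a⁻¹ * b⁻¹ ∈ A' := by
      rw [show a * b * a⁻¹ * b⁻¹ = a * (b * a⁻¹ * b⁻¹) by group]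
      exact mul_mem ha ((inferInstance : A'.Normal).conj_mem _ (inv_mem ha) b)
    have h2 : a * b * a⁻¹ * b⁻¹ ∈ B' :=
      mul_mem ((inferInstance : B'.Normal).conj_mem _ hb a) (inv_mem hb)
    have := hAB' _ h1 h2
    rwa [mul_inv_eq_one, mul_inv_eq_iff_eq_mul] at this
  -- the commutator subgroup of `P` lies in both
  have hquot : ∀ (C : Subgroup ↥(P : Subgroup G)) [C.Normal], ∀ z ∈ C,
      Subgroup.closure ({z, w} : Set ↥(P : Subgroup G)) = ⊤ → ∀ a b, a * b * a⁻¹ * b⁻¹ ∈ C := by
    intro C _ z hz hzw a b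
    rw [← QuotientGroup.eq_one_iff]
    set f := QuotientGroup.mk' C
    have hr : ∀ v : ↥(P : Subgroup G), f v ∈ Subgroup.zpowers (f w) := by
      intro v
      have : Subgroup.closure ({z, w} : Set ↥(P : Subgroup G)) ≤ (Subgroup.zpowers (f w)).comap f := by
        rw [Subgroup.closure_le]
        rintro v (hv | hv)
        · rw [SetLike.mem_coe, Subgroup.mem_comap, hv,
            show f z = 1 from (QuotientGroup.eq_one_iff z).2 hz]
          exact one_mem _
        · rw [SetLike.mem_coe, Subgroup.mem_comap, hv]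
          exact Subgroup.mem_zpowers _
      exact this (hzw ▸ Subgroup.mem_top v)
    obtain ⟨i, hi⟩ := hr a
    obtain ⟨j, hj⟩ := hr b
    show f (a * b * a⁻¹ * b⁻¹) = 1
    rw [map_mul, map_mul, map_mul, map_inv, map_inv, ← hi, ← hj]
    group
  by_cases hyX : (⟨y, hyP⟩ : ↥(P : Subgroup G)) ∈
      Subgroup.zpowers ⟨x, hxP⟩ ⊔ frattini ↥(P : Subgroup G)
  · refine ⟨⟨fun a b => ?_⟩⟩
    have := hAB' _ (hquot A' ⟨x, hxP⟩ hxA hw a b) (hquot B' ⟨y, hyP⟩ hyB (hkey _ hyΦ hyX) a b)
    rwa [mul_inv_eq_one, mul_inv_eq_iff_eq_mul] at this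
  · -- `P` is generated by `x` and `y`
    have htop : Subgroup.closure ({⟨x, hxP⟩, ⟨y, hyP⟩} : Set ↥(P : Subgroup G)) = ⊤ := by
      apply frattini_nongenerating
      set X := Subgroup.zpowers (⟨x, hxP⟩ : ↥(P : Subgroup G)) ⊔ frattini ↥(P : Subgroup G)
      set Y := Subgroup.closure ({⟨x, hxP⟩, ⟨y, hyP⟩} : Set ↥(P : Subgroup G)) ⊔
        frattini ↥(P : Subgroup G)
      have hXY : X ≤ Y := sup_le_sup_right
        (Subgroup.zpowers_le.2 (Subgroup.subset_closure (Set.mem_insert _ _))) _
      have hyY : (⟨y, hyP⟩ : ↥(P : Subgroup G)) ∈ Y :=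
        le_sup_left (α := Subgroup _) (Subgroup.subset_closure (Set.mem_insert_of_mem _ rfl))
      have hne : X.relIndex Y ≠ 1 := fun h => hyX (Subgroup.relIndex_eq_one.1 h hyY)
      have h1 := Subgroup.relIndex_mul_index hXY
      have h2 : X.index ∣ p := index_dvd P hgen hxΦ
      rw [← h1] at h2
      rcases (Nat.dvd_prime hp.out).1 ((dvd_mul_right _ _).trans h2) with h | h
      · exact absurd h hne
      · rw [h] at h2
        have h4 : p * Y.index ∣ p * 1 := by rwa [mul_one]
        exact Subgroup.index_eq_one.1 (Nat.dvd_one.1 (Nat.dvd_of_mul_dvd_mul_left hp.out.pos h4))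
    refine ⟨⟨fun a b => ?_⟩⟩
    have hle : (⊤ : Subgroup ↥(P : Subgroup G)) ≤ Subgroup.centralizer
        ({⟨x, hxP⟩, ⟨y, hyP⟩} : Set ↥(P : Subgroup G)) := by
      rw [← htop, Subgroup.closure_le]
      rintro v (rfl | rfl) z (rfl | rfl)
      · rfl
      · exact (hcomAB _ hxA _ hyB).symm
      · exact hcomAB _ hxA _ hyB
      · rfl
    have h2 : Subgroup.closure ({⟨x, hxP⟩, ⟨y, hyP⟩} : Set ↥(P : Subgroup G)) ≤
        Subgroup.centralizer ({b} : Set ↥(P : Subgroup G)) := by
      rw [Subgroup.closure_le]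
      intro v hv
      exact Subgroup.mem_centralizer_singleton_iff.2 (hle (Subgroup.mem_top b) v hv)
    exact Subgroup.mem_centralizer_singleton_iff.1 (h2 (htop ▸ Subgroup.mem_top a))

/-- A subgroup normalized by `P` that is not big has a normal `p`-complement. -/
theorem npc_of_not_big {M : Subgroup G} (hM : (P : Subgroup G) ≤ Subgroup.normalizer (M : Set G))
    (h : ¬ Big P M) : Cfsg.HasNormalPComplement p M := by
  rw [Big, not_not] at h
  set T := M ⊔ (P : Subgroup G) with hT
  haveI : (M.subgroupOf T).Normal :=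
    Subgroup.normal_subgroupOf_of_le_normalizer (sup_le Subgroup.le_normalizer hM)
  have hPT : (P : Subgroup G) ≤ T := le_sup_right
  let e : (P : Subgroup G) ≃* ((P.subtype hPT : Sylow p T) : Subgroup T) :=
    (Subgroup.subgroupOfEquivOfLe hPT).symm
  have hmain := Tate.hasNormalPComplement_of_inf_le (P.subtype hPT) (M.subgroupOf T) (by
    rintro z ⟨hzM, hzP⟩
    obtain ⟨y, hy, hye⟩ := h ⟨hzM, hzP⟩
    have h2 := frattini_le_comap_frattini_of_surjective (φ := e.toMonoidHom) e.surjective hy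
    exact ⟨e y, h2, Subtype.ext hye⟩)
  exact (PBasic.hasNormalPComplement_congr
    (Subgroup.subgroupOfEquivOfLe (le_sup_left : M ≤ T))).1 hmain

theorem big_of_normal (hcore : Cfsg.pPrimeCore p G = ⊥) (hfrat : (frat P).normalCore = ⊥)
    {N : Subgroup G} [hN : N.Normal] (h1 : N ≠ ⊥) : Big P N := by
  by_contra hb
  have h := npc_of_not_big P (by rw [Subgroup.normalizer_eq_top]; exact le_top) hb
  have h2 : Cfsg.pPrimeCore p N = ⊥ := by
    have := PBasic.map_pPrimeCore_le_of_normal (p := p) N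
    rw [hcore, le_bot_iff, Subgroup.map_eq_bot_iff_of_injective _ N.subtype_injective] at this
    exact this
  have hNp : IsPGroup p N := (PBasic.quotient_pPrimeCore_isPGroup h).of_equiv
    ((QuotientGroup.quotientMulEquivOfEq h2).trans QuotientGroup.quotientBot)
  rw [Big, not_not] at hb
  apply h1
  rw [eq_bot_iff, ← hfrat]
  exact Subgroup.normal_le_normalCore.2
    ((le_inf le_rfl (hNp.le_sylow_of_normal P)).trans hb)

theorem cyclic_image (hgen : (frattini ↥(P : Subgroup G)).index = p ^ 2)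
    {N : Subgroup G} [N.Normal] (hN : Big P N) :
    ∃ w ∈ (P : Subgroup G), ∀ z ∈ (P : Subgroup G), ∃ i : ℤ, (w ^ i)⁻¹ * z ∈ N := by
  obtain ⟨x, ⟨hxA, hxP⟩, hx⟩ := SetLike.not_le_iff_exists.1 hN
  have hxΦ : (⟨x, hxP⟩ : ↥(P : Subgroup G)) ∉ frattini ↥(P : Subgroup G) := fun h => hx ⟨_, h, rfl⟩
  obtain ⟨⟨w, hwP⟩, hw, -⟩ := generators P hgen hxΦ
  refine ⟨w, hwP, fun z hz => ?_⟩
  set f := (QuotientGroup.mk' N).comp (P : Subgroup G).subtype with hf
  have : Subgroup.closure ({⟨x, hxP⟩, ⟨w, hwP⟩} : Set ↥(P : Subgroup G)) ≤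
      (Subgroup.zpowers (f ⟨w, hwP⟩)).comap f := by
    rw [Subgroup.closure_le]
    rintro v (hv | hv)
    · rw [SetLike.mem_coe, Subgroup.mem_comap, hv,
        show f ⟨x, hxP⟩ = 1 from (QuotientGroup.eq_one_iff x).2 hxA]
      exact one_mem _
    · rw [SetLike.mem_coe, Subgroup.mem_comap, hv]
      exact Subgroup.mem_zpowers _
  obtain ⟨i, hi⟩ := this (hw ▸ Subgroup.mem_top (⟨z, hz⟩ : ↥(P : Subgroup G)))
  refine ⟨i, QuotientGroup.eq.1 ?_⟩
  show (QuotientGroup.mk' N) (w ^ i) = (QuotientGroup.mk' N) z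
  rw [map_zpow]
  exact hi

theorem main (hna : ¬ IsMulCommutative (P : Subgroup G))
    (hgen : (frattini ↥(P : Subgroup G)).index = p ^ 2) (hcore : Cfsg.pPrimeCore p G = ⊥)
    (hfrat : (frat P).normalCore = ⊥) :
    (Cfsg.generalizedFittingSubgroup G ≠ ⊥ ∧
      ∀ K : Subgroup G, K.Normal → K ≠ ⊥ → Cfsg.generalizedFittingSubgroup G ≤ K) ∧
    (∃ w ∈ (P : Subgroup G), ∀ z ∈ (P : Subgroup G), ∃ i : ℤ,
      (w ^ i)⁻¹ * z ∈ Cfsg.generalizedFittingSubgroup G) ∧
    (¬ IsMulCommutative (Cfsg.generalizedFittingSubgroup G) → ∀ K L : Subgroup G,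
      Cfsg.IsComponent K → Cfsg.IsComponent L →
        ∃ x ∈ (P : Subgroup G), L = K.map (MulAut.conj x).toMonoidHom) := by
  classical
  haveI : Nontrivial G := by
    by_contra h
    rw [not_nontrivial_iff_subsingleton] at h
    exact hna ⟨⟨fun a b => Subsingleton.elim _ _⟩⟩
  -- the unique minimal normal subgroup
  obtain ⟨N, ⟨hNn, hN1⟩, hNmin⟩ := (Set.toFinite {N : Subgroup G | N.Normal ∧ N ≠ ⊥}).exists_minimal
    ⟨⊤, inferInstance, top_ne_bot⟩
  haveI := hNn
  have hPn : ∀ (A : Subgroup G) [A.Normal], (P : Subgroup G) ≤ Subgroup.normalizer (A : Set G) :=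
    fun A _ => by rw [Subgroup.normalizer_eq_top]; exact le_top
  have huniq : ∀ K : Subgroup G, K.Normal → K ≠ ⊥ → N ≤ K := by
    intro K hK hK1
    haveI := hK
    by_cases h : N ⊓ K = ⊥
    · exact (not_two P hna hgen (hPn N) (hPn K) h (big_of_normal P hcore hfrat hN1)
        (big_of_normal P hcore hfrat hK1)).elim
    · exact (hNmin ⟨inferInstance, h⟩ inf_le_left).trans inf_le_right
  set E := Cfsg.layer G with hE
  haveI hEn : E.Normal := Components.layer_normal
  set R := Cfsg.pCore p G with hR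
  haveI hRn : R.Normal := Cfsg.pCore_normal p G
  have hFR : Cfsg.fittingSubgroup G ≤ R := by
    rw [FittingCores.fitting_eq_iSup_pCore]
    refine iSup_le fun q => ?_
    by_cases hq : (q : ℕ) = p
    · rw [hq]
    · haveI := Fact.mk q.2
      refine le_trans (le_of_eq ?_) bot_le
      rw [eq_bot_iff, ← hcore]
      refine PBasic.le_pPrimeCore (Cfsg.pCore_normal _ G) ?_
      obtain ⟨k, hk⟩ := IsPGroup.iff_card.1 (PBasic.pCore_isPGroup (q : ℕ) G)
      rw [hk]
      exact ((Nat.coprime_primes q.2 hp.out).2 hq).pow_left k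
  obtain ⟨w, hwP, hw⟩ := cyclic_image P hgen (big_of_normal P hcore hfrat hN1)
  by_cases hR1 : R = ⊥
  · -- the minimal normal subgroup is the layer
    have hF : Cfsg.fittingSubgroup G = ⊥ := le_bot_iff.1 (hR1 ▸ hFR)
    have hFS : Cfsg.generalizedFittingSubgroup G = E := by
      rw [Cfsg.generalizedFittingSubgroup, hF, sup_bot_eq]
    have hE1 : E ≠ ⊥ := by
      intro h
      have h1 := Components.centralizer_generalizedFitting_le (G := G)
      rw [hFS, h, le_bot_iff] at h1
      obtain ⟨g, hg⟩ := exists_ne (1 : G)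
      refine hg ((Subgroup.eq_bot_iff_forall _).1 h1 g fun z hz => ?_)
      rw [Subgroup.mem_bot.1 hz, one_mul, mul_one]
    have hEN : E = N := by
      refine le_antisymm (Components.layer_le_iff.2 fun L hL => ?_) (huniq E hEn hE1)
      rcases Components.component_le_or_commute hL (Subgroup.Normal.isSubnormal hNn) with h | h
      · exact h
      · exfalso
        have hC : Subgroup.centralizer (N : Set G) ≠ ⊥ := fun hb =>
          Components.component_ne_bot hL
            (le_bot_iff.1 (hb ▸ Subgroup.commutator_eq_bot_iff_le_centralizer.1 h))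
        haveI := Subgroup.le_centralizer_iff_isMulCommutative.1 (huniq _ inferInstance hC)
        letI : CommGroup N := { (inferInstance : Group N) with mul_comm := fun a b => mul_comm' a b }
        exact hN1 (le_bot_iff.1 (hF ▸ Components.le_fittingSubgroup hNn CommGroup.isNilpotent))
    refine ⟨⟨hFS ▸ hE1, fun K hK hK1 => hFS ▸ hEN ▸ huniq K hK hK1⟩,
      ⟨w, hwP, fun z hz => by rw [hFS, hEN]; exact hw z hz⟩, fun _ K L hK hL => ?_⟩
    by_contra hne
    push Not at hne
    let M : Subgroup G → Subgroup G := fun A =>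
      ⨆ x : (P : Subgroup G), A.map (MulAut.conj (x : G)).toMonoidHom
    have hMn : ∀ A, (P : Subgroup G) ≤ Subgroup.normalizer (M A : Set G) := by
      intro A g hg
      have hle : ∀ g ∈ (P : Subgroup G), ∀ z ∈ M A, g * z * g⁻¹ ∈ M A := by
        intro g hg z hz
        have : (M A).map (MulAut.conj g).toMonoidHom ≤ M A := by
          rw [Subgroup.map_iSup]
          refine iSup_le fun x => le_trans (le_of_eq ?_) (le_iSup _ (⟨g, hg⟩ * x))
          rw [Subgroup.map_map]
          congr 1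
          ext z
          simp [mul_assoc]
        exact this ⟨z, hz, rfl⟩
      rw [Subgroup.mem_normalizer_iff]
      intro z
      refine ⟨hle g hg z, fun hz => ?_⟩
      have := hle g⁻¹ (inv_mem hg) _ hz
      simpa [mul_assoc] using this
    have hAM : ∀ A, A ≤ M A := fun A =>
      le_trans (le_of_eq (by
        rw [show ((1 : (P : Subgroup G)) : G) = 1 from rfl, map_one]
        exact (Subgroup.map_id A).symm)) (le_iSup _ (1 : (P : Subgroup G)))
    have hME : ∀ A, Cfsg.IsComponent A → M A ≤ E := fun A hA =>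
      iSup_le fun x => Components.component_le_layer (Components.component_conj hA _)
    have hcomm : ∀ x y : (P : Subgroup G),
        K.map (MulAut.conj (x : G)).toMonoidHom ≤
          Subgroup.centralizer (L.map (MulAut.conj (y : G)).toMonoidHom : Set G) := by
      intro x y
      refine Subgroup.commutator_eq_bot_iff_le_centralizer.1 (Components.components_commute
        (Components.component_conj hK _) (Components.component_conj hL _) fun h => ?_)
      refine hne ((y : G)⁻¹ * x) (mul_mem (inv_mem y.2) x.2) ?_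
      have h2 := congrArg (fun A => A.map (MulAut.conj (y : G)⁻¹).toMonoidHom) h
      simp only [Subgroup.map_map] at h2
      rw [show (MulAut.conj (y : G)⁻¹).toMonoidHom.comp (MulAut.conj (y : G)).toMonoidHom =
          MonoidHom.id G by ext z; simp [mul_assoc], Subgroup.map_id,
        show (MulAut.conj (y : G)⁻¹).toMonoidHom.comp (MulAut.conj (x : G)).toMonoidHom =
          (MulAut.conj ((y : G)⁻¹ * x)).toMonoidHom by ext z; simp [mul_assoc]] at h2
      exact h2.symm
    have hKL : M K ≤ Subgroup.centralizer (M L : Set G) := by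
      refine iSup_le fun x => Subgroup.le_centralizer_iff.1 (iSup_le fun y => ?_)
      exact Subgroup.le_centralizer_iff.1 (hcomm x y)
    have hinf : M K ⊓ M L = ⊥ := by
      rw [eq_bot_iff]
      rintro z ⟨hzK, hzL⟩
      have hcen : E ≤ Subgroup.centralizer ({z} : Set G) := by
        rw [hE, Components.layer_le_iff]
        intro A hA
        by_cases hAK : A ≤ M K
        · intro a ha
          rw [Subgroup.mem_centralizer_singleton_iff]
          exact (hKL (hAK ha) z hzL).symm
        · intro a ha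
          rw [Subgroup.mem_centralizer_singleton_iff]
          have : M K ≤ Subgroup.centralizer (A : Set G) := by
            refine iSup_le fun x => Subgroup.commutator_eq_bot_iff_le_centralizer.1
              (Components.components_commute (Components.component_conj hK _) hA fun h => hAK ?_)
            rw [← h]
            exact le_iSup (fun x : (P : Subgroup G) => K.map (MulAut.conj (x : G)).toMonoidHom) x
          exact this hzK a ha
      have hz : z ∈ E ⊓ Subgroup.centralizer (E : Set G) := ⟨hME K hK hzK, fun a ha =>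
        Subgroup.mem_centralizer_singleton_iff.1 (hcen ha)⟩
      rw [hE, Components.center_layer_eq, hF, bot_inf_eq] at hz
      exact hz
    have hbig : ∀ A, Cfsg.IsComponent A → Big P (M A) := by
      intro A hA
      by_contra hb
      have h := npc_of_not_big P (hMn A) hb
      have hnA : Cfsg.HasNormalPComplement p A :=
        PBasic.hasNormalPComplement_of_injective (Subgroup.inclusion (hAM A))
          (Subgroup.inclusion_injective _) h
      have htop : Cfsg.pResidual p A = ⊤ := by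
        haveI := hA.2.1
        by_contra hne'
        have hq := PBasic.quotient_pResidual_isPGroup p A
        haveI := hq.isNilpotent
        haveI : Nontrivial (A ⧸ Cfsg.pResidual p A) :=
          QuotientGroup.nontrivial_iff.2 hne'
        haveI : Group.IsPerfect (A ⧸ Cfsg.pResidual p A) :=
          Group.IsPerfect.ofSurjective (QuotientGroup.mk'_surjective _)
        exact Group.IsPerfect.not_isNilpotent (A ⧸ Cfsg.pResidual p A) (by infer_instance)
      have hAc : (Nat.card A).Coprime p := by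
        have := PBasic.hasNormalPComplement_iff_pResidual.1 hnA
        rwa [htop, Subgroup.card_top] at this
      haveI := Components.component_normal_layer hA
      have h3 : A.subgroupOf E ≤ Cfsg.pPrimeCore p E := PBasic.le_pPrimeCore inferInstance (by
        rwa [Nat.card_congr (Subgroup.subgroupOfEquivOfLe (Components.component_le_layer hA)).toEquiv])
      have h4 := PBasic.map_pPrimeCore_le_of_normal (p := p) E
      rw [hcore, le_bot_iff, Subgroup.map_eq_bot_iff_of_injective _ E.subtype_injective] at h4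
      rw [h4, le_bot_iff, Subgroup.subgroupOf_eq_bot] at h3
      exact Components.component_ne_bot hA
        (disjoint_self.1 (h3.mono_right (Components.component_le_layer hA)))
    exact not_two P hna hgen (hMn K) (hMn L) hinf (hbig K hK) (hbig L hL)
  -- the abelian case
  have hRp : IsPGroup p R := PBasic.pCore_isPGroup p G
  have hRP : R ≤ (P : Subgroup G) := PBasic.pCore_le_sylow P
  have hNR : N ≤ R := huniq R hRn hR1
  haveI : Nontrivial R := (Subgroup.nontrivial_iff_ne_bot R).2 hR1
  have hNcen : ∀ n ∈ N, ∀ r ∈ R, n * r = r * n := by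
    intro n hn r hr
    have hZ : ((Subgroup.center R).map R.subtype) ≠ ⊥ := by
      rw [Ne, Subgroup.map_eq_bot_iff_of_injective _ R.subtype_injective]
      exact ((Subgroup.nontrivial_iff_ne_bot _).1 hRp.center_nontrivial)
    obtain ⟨z, hz, rfl⟩ := huniq _ inferInstance hZ hn
    exact congrArg Subtype.val (Subgroup.mem_center_iff.1 hz ⟨r, hr⟩).symm
  have hRab : ∀ a ∈ R, ∀ b ∈ R, a * b = b * a := by
    intro a ha b hb
    obtain ⟨i, hi⟩ := hw a (hRP ha)
    obtain ⟨j, hj⟩ := hw b (hRP hb)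
    set m := (w ^ i)⁻¹ * a with hm
    set m' := (w ^ j)⁻¹ * b with hm'
    have hwi : w ^ i ∈ R := by
      rw [show w ^ i = a * m⁻¹ by rw [hm]; group]
      exact mul_mem ha (inv_mem (hNR hi))
    have hwj : w ^ j ∈ R := by
      rw [show w ^ j = b * m'⁻¹ by rw [hm']; group]
      exact mul_mem hb (inv_mem (hNR hj))
    calc a * b = w ^ i * m * b := by rw [hm, mul_inv_cancel_left]
      _ = w ^ i * (m * b) := mul_assoc _ _ _
      _ = w ^ i * b * m := by rw [hNcen m hi b hb, mul_assoc]
      _ = w ^ i * (w ^ j * m') * m := by rw [hm', mul_inv_cancel_left]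
      _ = w ^ j * (w ^ i * m') * m := by
        rw [← mul_assoc (w ^ i), ← zpow_add, add_comm, zpow_add, mul_assoc (w ^ j)]
      _ = w ^ j * (m' * (w ^ i * m)) := by rw [← hNcen m' hj _ hwi]; group
      _ = b * a := by rw [hm, hm', mul_inv_cancel_left, ← mul_assoc, mul_inv_cancel_left]
  haveI hRc : IsMulCommutative R := ⟨⟨fun a b => Subtype.ext (hRab a a.2 b b.2)⟩⟩
  -- `R` has exponent `p`
  let Rp : Subgroup G :=
    { carrier := {z | ∃ r ∈ R, r ^ p = z}
      one_mem' := ⟨1, one_mem R, one_pow p⟩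
      mul_mem' := by
        rintro a b ⟨r, hr, rfl⟩ ⟨s, hs, rfl⟩
        exact ⟨r * s, mul_mem hr hs, Commute.mul_pow (hRab r hr s hs) p⟩
      inv_mem' := by
        rintro a ⟨r, hr, rfl⟩
        exact ⟨r⁻¹, inv_mem hr, inv_pow r p⟩ }
  haveI : Rp.Normal := ⟨by
    rintro z ⟨r, hr, rfl⟩ g
    exact ⟨g * r * g⁻¹, hRn.conj_mem r hr g, conj_pow⟩⟩
  have hexp : ∀ r ∈ R, r ^ p = 1 := by
    have h : Rp ≤ frat P := by
      rintro z ⟨r, hr, rfl⟩
      exact ⟨⟨r, hRP hr⟩ ^ p, PGroupBasics.pow_mem_frattini P.isPGroup' _, rfl⟩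
    have h' : Rp = ⊥ := le_bot_iff.1 (hfrat ▸ Subgroup.normal_le_normalCore.2 h)
    exact fun r hr => Subgroup.mem_bot.1 (h' ▸ ⟨r, hr, rfl⟩)
  have hwN : Subgroup.normalizer (N : Set G) = ⊤ := Subgroup.normalizer_eq_top _
  have hRN : R = N := by
    by_contra hne
    obtain ⟨r, hr, hrN⟩ := SetLike.not_le_iff_exists.1 fun h => hne (le_antisymm h hNR)
    obtain ⟨i, hi⟩ := hw r (hRP hr)
    have hwi : w ^ i ∈ R := by
      rw [show w ^ i = r * ((w ^ i)⁻¹ * r)⁻¹ by group]
      exact mul_mem hr (inv_mem (hNR hi))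
    have hwiN : w ^ i ∉ N := fun h => hrN (by
      rw [show r = w ^ i * ((w ^ i)⁻¹ * r) by group]; exact mul_mem h hi)
    obtain ⟨k₀, hk₀⟩ := IsPGroup.iff_orderOf.1 P.isPGroup' ⟨w, hwP⟩
    rw [Subgroup.orderOf_mk] at hk₀
    have hex : ∃ k, w ^ p ^ k ∈ N := ⟨k₀, by rw [← hk₀, pow_orderOf_eq_one]; exact one_mem N⟩
    set k := Nat.find hex with hk
    have hkN : w ^ p ^ k ∈ N := Nat.find_spec hex
    obtain ⟨j, hjk, hj⟩ := (Nat.dvd_prime_pow hp.out).1 (Int.gcd_dvd_right i (p ^ k : ℕ) |> fun h =>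
      (Int.natCast_dvd_natCast.1 h : Int.gcd i (p ^ k : ℕ) ∣ p ^ k))
    have hjlt : j < k := by
      rcases lt_or_eq_of_le hjk with h | h
      · exact h
      · exfalso
        apply hwiN
        obtain ⟨c, hc⟩ := Int.gcd_dvd_left i (p ^ k : ℕ)
        rw [hc, hj, h, zpow_mul, zpow_natCast]
        exact N.zpow_mem hkN c
    have hjR : w ^ p ^ j ∈ R := by
      have hb := Int.gcd_eq_gcd_ab i (p ^ k : ℕ)
      rw [hj] at hb
      rw [← zpow_natCast, hb, zpow_add, zpow_mul, zpow_mul, zpow_natCast]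
      exact mul_mem (R.zpow_mem hwi _) (R.zpow_mem (hNR hkN) _)
    have hone : w ^ p ^ k = 1 := by
      have : w ^ p ^ (k - 1) ∈ R := by
        rw [show k - 1 = j + (k - 1 - j) by omega, pow_add, pow_mul]
        exact pow_mem hjR _
      rw [show k = k - 1 + 1 by omega, pow_succ, pow_mul]
      exact hexp _ this
    set A := Subgroup.zpowers w with hA
    have hAN : A ⊓ N = ⊥ := by
      rw [eq_bot_iff]
      rintro z ⟨⟨l, rfl⟩, hz⟩
      obtain ⟨j', hjk', hj'⟩ := (Nat.dvd_prime_pow hp.out).1 (Int.gcd_dvd_right l (p ^ k : ℕ) |> fun h =>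
        (Int.natCast_dvd_natCast.1 h : Int.gcd l (p ^ k : ℕ) ∣ p ^ k))
      have hb := Int.gcd_eq_gcd_ab l (p ^ k : ℕ)
      rw [hj'] at hb
      have hmem : w ^ p ^ j' ∈ N := by
        rw [← zpow_natCast, hb, zpow_add, zpow_mul, zpow_mul, zpow_natCast, hone, one_zpow, mul_one]
        exact N.zpow_mem hz _
      have hge : k ≤ j' := Nat.find_min' hex hmem
      obtain ⟨c, hc⟩ := Int.gcd_dvd_left l (p ^ k : ℕ)
      rw [hj', le_antisymm hjk' hge] at hc
      show w ^ l ∈ (⊥ : Subgroup G)
      rw [hc, zpow_mul, zpow_natCast, hone, one_zpow]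
      exact one_mem _
    have hNA : N ⊔ A = (P : Subgroup G) := by
      refine le_antisymm (sup_le (hNR.trans hRP) (Subgroup.zpowers_le.2 hwP)) fun z hz => ?_
      obtain ⟨l, hl⟩ := hw z hz
      rw [show z = w ^ l * ((w ^ l)⁻¹ * z) by group]
      exact mul_mem (le_sup_right (α := Subgroup G) ⟨l, rfl⟩) (le_sup_left (α := Subgroup G) hl)
    haveI : IsMulCommutative N :=
      ⟨⟨fun a b => Subtype.ext (hRab a (hNR a.2) b (hNR b.2))⟩⟩
    obtain ⟨H, hH⟩ := SolvGaschutz.existence (K := N) (U := (P : Subgroup G)) (hNR.trans hRP) (by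
      obtain ⟨n, hn⟩ := IsPGroup.iff_card.1 (hRp.to_le hNR)
      rw [hn]
      exact ((hp.out.coprime_iff_not_dvd).2 P.not_dvd_index).pow_left n)
      (Subgroup.zpowers_le.2 hwP) hAN hNA
    set D := R ⊓ H with hD
    haveI : D.Normal := ⟨by
      rintro d ⟨hdR, hdH⟩ g
      obtain ⟨⟨⟨n, hn⟩, ⟨h, hh⟩⟩, hg⟩ := hH.2 g
      have hg' : n * h = g := hg
      have hdh : h * d * h⁻¹ ∈ D :=
        ⟨hRn.conj_mem d hdR h, H.mul_mem (H.mul_mem hh hdH) (H.inv_mem hh)⟩
      rw [← hg', show n * h * d * (n * h)⁻¹ = n * (h * d * h⁻¹) * n⁻¹ by group,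
        hNcen n hn _ hdh.1, mul_inv_cancel_right]
      exact hdh⟩
    have hD1 : D ≠ ⊥ := by
      intro hb
      obtain ⟨⟨⟨n, hn⟩, ⟨h, hh⟩⟩, hg⟩ := hH.2 r
      have hg' : n * h = r := hg
      have hhR : h ∈ R := by
        rw [show h = n⁻¹ * r by rw [← hg', inv_mul_cancel_left]]
        exact mul_mem (inv_mem (hNR hn)) hr
      have : h ∈ D := ⟨hhR, hh⟩
      rw [hb, Subgroup.mem_bot] at this
      rw [this, mul_one] at hg'
      exact hrN (hg' ▸ hn)
    exact hN1 (le_bot_iff.1 fun z hz =>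
      hH.disjoint.le_bot ⟨hz, (huniq D inferInstance hD1 hz).2⟩)
  have hE1 : E = ⊥ := by
    by_contra hne
    have hNE : N ≤ E := huniq E hEn hne
    set S := E ⊓ (P : Subgroup G) with hS
    haveI : Nontrivial E := (Subgroup.nontrivial_iff_ne_bot E).2 hne
    have hperf : Group.IsPerfect E := Components.layer_isPerfect
    have hcommN : ∀ n ∈ N, ∀ e ∈ E, n * e = e * n := by
      have h := Components.layer_commute_normal_solvable (R := R) hRn (by
        haveI := hRp.isNilpotent
        infer_instance)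
      intro n hn e he
      exact (Subgroup.commutator_eq_bot_iff_le_centralizer.1 h he n (hNR hn))
    obtain ⟨S', hS'⟩ := PBasic.exists_sylow_subgroupOf P E
    haveI : IsMulCommutative S' := by
      refine ⟨⟨fun a b => Subtype.ext (Subtype.ext ?_)⟩⟩
      have ha : ((a : E) : G) ∈ (P : Subgroup G) := Subgroup.mem_subgroupOf.1 (hS' ▸ a.2)
      have hb : ((b : E) : G) ∈ (P : Subgroup G) := Subgroup.mem_subgroupOf.1 (hS' ▸ b.2)
      show ((a : E) : G) * (b : E) = (b : E) * (a : E)
      obtain ⟨i, hi⟩ := hw _ ha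
      obtain ⟨j, hj⟩ := hw _ hb
      set m := (w ^ i)⁻¹ * ((a : E) : G) with hm
      set m' := (w ^ j)⁻¹ * ((b : E) : G) with hm'
      have hwi : w ^ i ∈ E := by
        rw [show w ^ i = ((a : E) : G) * m⁻¹ by rw [hm]; group]
        exact mul_mem (a : E).2 (inv_mem (hNE hi))
      have hwj : w ^ j ∈ E := by
        rw [show w ^ j = ((b : E) : G) * m'⁻¹ by rw [hm']; group]
        exact mul_mem (b : E).2 (inv_mem (hNE hj))
      calc ((a : E) : G) * (b : E) = w ^ i * m * (b : E) := by rw [hm, mul_inv_cancel_left]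
        _ = w ^ i * (m * (b : E)) := mul_assoc _ _ _
        _ = w ^ i * (b : E) * m := by rw [hcommN m hi _ (b : E).2, mul_assoc]
        _ = w ^ i * (w ^ j * m') * m := by rw [hm', mul_inv_cancel_left]
        _ = w ^ j * (w ^ i * m') * m := by
          rw [← mul_assoc (w ^ i), ← zpow_add, add_comm, zpow_add, mul_assoc (w ^ j)]
        _ = w ^ j * (m' * (w ^ i * m)) := by rw [← hcommN m' hj _ hwi]; group
        _ = ((b : E) : G) * (a : E) := by
          rw [hm, hm', mul_inv_cancel_left, ← mul_assoc, mul_inv_cancel_left]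
    obtain ⟨n, hn, hn1⟩ := N.bot_or_exists_ne_one.resolve_left hN1
    set x : E := ⟨n, hNE hn⟩ with hx
    have hxS : x ∈ (S' : Subgroup E) := by
      rw [hS']; exact Subgroup.mem_subgroupOf.2 (hRP (hNR hn))
    have hxc : ∀ e : E, e * x = x * e := fun e => Subtype.ext (hcommN n hn e e.2).symm
    letI : CommGroup S' :=
      { (inferInstance : Group S') with mul_comm := fun a b => mul_comm' a b }
    have key : ∀ (k : ℕ) (g₀ : E), g₀⁻¹ * x ^ k * g₀ ∈ (S' : Subgroup E) →
        g₀⁻¹ * x ^ k * g₀ = x ^ k := fun k g₀ _ => by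
      rw [mul_assoc, ← (Commute.pow_right (hxc g₀) k).eq, inv_mul_cancel_left]
    have hVx := MonoidHom.transfer_eq_pow (MonoidHom.id S') x key
    have htriv : MonoidHom.transfer (MonoidHom.id S') x = 1 := by
      have : x ∈ (MonoidHom.transfer (MonoidHom.id S')).ker := by
        refine Abelianization.commutator_subset_ker _ ?_
        rw [hperf.commutator_eq_top]
        exact Subgroup.mem_top x
      exact this
    rw [hVx, MonoidHom.id_apply, ← Subtype.coe_inj] at htriv
    have h2 : orderOf x ∣ (S' : Subgroup E).index := orderOf_dvd_of_pow_eq_one htriv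
    have h3 : orderOf x ∣ Nat.card S' := Subgroup.orderOf_dvd_natCard (s := (S' : Subgroup E)) hxS
    exact hn1 (congrArg Subtype.val
      (orderOf_eq_one_iff.1 (Nat.eq_one_of_dvd_coprimes S'.card_coprime_index h3 h2)))
  have hFS : Cfsg.generalizedFittingSubgroup G = N := by
    rw [Cfsg.generalizedFittingSubgroup, ← hE, hE1, bot_sup_eq]
    refine le_antisymm (hRN ▸ hFR) ?_
    exact Components.le_fittingSubgroup hNn (hRp.to_le hNR).isNilpotent
  refine ⟨⟨hFS ▸ hN1, fun K hK hK1 => hFS ▸ huniq K hK hK1⟩,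
    ⟨w, hwP, fun z hz => by rw [hFS]; exact hw z hz⟩, fun hnab => ?_⟩
  exact absurd ⟨⟨fun a b => Subtype.ext
    (hRab a (hNR (hFS.le a.2)) b (hNR (hFS.le b.2)))⟩⟩ hnab

end Cfsg.Agent.S4172


set_option autoImplicit false
open Cfsg

namespace Cfsg.Agent.S4172

/-- Let p be a prime and G a finite group with a non-commutative Sylow p-subgroup P whose Frattini subgroup has index p² in P (P is generated by two elements). Suppose G has no nontrivial normal subgroup of order prime to p and the Frattini subgroup of P contains no nontrivial normal subgroup of G. Then the generalized Fitting subgroup F*(G) is the unique minimal normal subgroup of G, the image of P in G/F*(G) is cyclic, and if F*(G) is not commutative then P permutes the components of G transitively by conjugation. -/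
theorem result {G : Type*} [Group G] [Finite G] (p : ℕ) [Fact p.Prime] (P : Sylow p G) (hna : ¬ IsMulCommutative (P : Subgroup G)) (hgen : (frattini ↥(P : Subgroup G)).index = p ^ 2) (hcore : Cfsg.pPrimeCore p G = ⊥) (hfrat : ((frattini ↥(P : Subgroup G)).map (P : Subgroup G).subtype).normalCore = ⊥) [hFn : (Cfsg.generalizedFittingSubgroup G).Normal] :
    (Cfsg.generalizedFittingSubgroup G ≠ ⊥ ∧ ∀ K : Subgroup G, K.Normal → K ≠ ⊥ → Cfsg.generalizedFittingSubgroup G ≤ K) ∧
      IsCyclic ↥((P : Subgroup G).map (QuotientGroup.mk' (Cfsg.generalizedFittingSubgroup G))) ∧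
      (¬ IsMulCommutative (Cfsg.generalizedFittingSubgroup G) → ∀ K L : Subgroup G, Cfsg.IsComponent K → Cfsg.IsComponent L → ∃ x ∈ (P : Subgroup G), L = K.map (MulAut.conj x).toMonoidHom) := by
  obtain ⟨h1, ⟨w, hwP, hw⟩, h3⟩ := main P hna hgen hcore hfrat
  refine ⟨h1, ?_, h3⟩
  refine ⟨⟨⟨QuotientGroup.mk' _ w, w, hwP, rfl⟩, ?_⟩⟩
  rintro ⟨_, z, hz, rfl⟩
  obtain ⟨i, hi⟩ := hw z hz
  refine ⟨i, Subtype.ext ?_⟩
  show (QuotientGroup.mk' (Cfsg.generalizedFittingSubgroup G) w) ^ i =
    QuotientGroup.mk' (Cfsg.generalizedFittingSubgroup G) z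
  rw [← map_zpow]
  exact QuotientGroup.eq.2 hi

end Cfsg.Agent.S4172
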