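import Cfsg.Statements.S4176
import Mathlib
import Cfsg.Agent.Lib.Solvable.Hall
import Cfsg.Agent.Lib.Solvable.Fitting
import Cfsg.Agent.Lib.PLocal.PSolvable

set_option autoImplicit false
set_option linter.style.haveILetI false

namespace Cfsg.Agent.S4176

open Cfsg.Agent
open scoped Classical

universe u v w

noncomputable local instance instFintypeOfFinite {α : Type*} [Finite α] : Fintype α :=
  Fintype.ofFinite α

lemma relIndex_dvd_index_of_normal_right {H : Type u} [Group H] [Finite H] (A N : Subgroup H)
    [N.Normal] : A.relIndex N ∣ A.index := by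
  have h1 := Subgroup.relIndex_mul_relIndex (A ⊓ N) A (A ⊔ N) inf_le_left le_sup_left
  have h2 := Subgroup.relIndex_mul_relIndex (A ⊓ N) N (A ⊔ N) inf_le_right le_sup_right
  rw [Subgroup.relIndex_sup_right, Subgroup.inf_relIndex_right] at h2
  rw [Subgroup.inf_relIndex_left, ← h2, mul_comm (A.relIndex N)] at h1
  have h3 : N.relIndex A ≠ 0 := Subgroup.index_ne_zero_of_finite
  rw [← Nat.eq_of_mul_eq_mul_left (Nat.pos_of_ne_zero h3) h1]
  exact Subgroup.relIndex_dvd_index_of_le le_sup_left

/-- The stabilizer of a vector. -/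
def stab {k : Type w} {V : Type v} {H : Type u} [Field k] [AddCommGroup V] [Module k V] [Group H]
    (ρ : Representation k H V) (a : V) : Subgroup H where
  carrier := {x | ρ x a = a}
  one_mem' := by simp
  mul_mem' := fun {x y} hx hy => by
    simp only [Set.mem_setOf_eq] at hx hy ⊢
    rw [map_mul, Module.End.mul_apply, hy, hx]
  inv_mem' := fun {x} hx => by
    simp only [Set.mem_setOf_eq] at hx ⊢
    conv_lhs => rw [← hx]
    rw [← Module.End.mul_apply, ← map_mul, inv_mul_cancel, map_one, Module.End.one_apply]

lemma card_orbit {k : Type w} {V : Type v} {H : Type u} [Field k] [AddCommGroup V] [Module k V]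
    [Group H] (ρ : Representation k H V) (a : V) :
    Nat.card {u : V | ∃ h : H, ρ h a = u} = (stab ρ a).index := by
  rw [Subgroup.index_eq_card]
  refine (Nat.card_eq_of_bijective (Quotient.lift (fun h : H => (⟨ρ h a, h, rfl⟩ : {u : V | ∃ h : H, ρ h a = u}))
    fun x y hxy => ?_) ⟨?_, ?_⟩).symm
  · have h : x⁻¹ * y ∈ stab ρ a := QuotientGroup.leftRel_apply.1 hxy
    apply Subtype.ext
    show ρ x a = ρ y a
    conv_lhs => rw [← (show ρ (x⁻¹ * y) a = a from h)]
    rw [← Module.End.mul_apply, ← map_mul, mul_inv_cancel_left]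
  · rintro ⟨x⟩ ⟨y⟩ hxy
    refine QuotientGroup.eq.2 ?_
    have h : ρ x a = ρ y a := congrArg Subtype.val hxy
    show ρ (x⁻¹ * y) a = a
    rw [map_mul, Module.End.mul_apply, ← h, ← Module.End.mul_apply, ← map_mul, inv_mul_cancel,
      map_one, Module.End.one_apply]
  · rintro ⟨_, h, rfl⟩
    exact ⟨⟦h⟧, rfl⟩

/-- Representation of `H ⧸ M` on the vectors fixed by the normal subgroup `M`. -/
noncomputable def fixedSub {k : Type w} {V : Type v} {H : Type u} [Field k] [AddCommGroup V]
    [Module k V] [Group H] (ρ : Representation k H V) (M : Subgroup H) : Submodule k V :=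
  Representation.invariants (ρ.comp M.subtype : Representation k M V)

theorem aux {k : Type w} [Field k] (p : ℕ) [Fact p.Prime] [CharP k p] : ∀ (n : ℕ) (H : Type u)
    [Group H] [Finite H], Nat.card H ≤ n → Cfsg.IsPSolvable p H →
    ∀ (V : Type v) [AddCommGroup V] [Module k V] (ρ : Representation k H V) (a : V) (A : Subgroup H),
    (∀ x ∈ A, ρ x a = a) → ¬ p ∣ A.index →
    Submodule.span k {u : V | ∃ h : H, ρ h a = u} = ⊤ →
    Module.finrank k ρ.invariants ≤ 1 ∧
    ∀ (b : V) (B : Subgroup H), (∀ x ∈ B, ρ x b = b) → A.index.Coprime B.index → ∀ h : H, ρ h b = b := by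
  have hpr := (Fact.out : p.Prime)
  intro n
  induction n with
  | zero =>
    intro H _ _ hn
    exact absurd hn (by have := Nat.card_pos (α := H); omega)
  | succ n ih =>
    intro H _ _ hn hsol V _ _ ρ a A hA hAp hspan
    rcases subsingleton_or_nontrivial H with hH | hH
    · refine ⟨?_, fun b _ _ _ h => by rw [Subsingleton.elim h 1, map_one, Module.End.one_apply]⟩
      have hset : {u : V | ∃ h : H, ρ h a = u} ⊆ {a} := by
        rintro _ ⟨h, rfl⟩
        rw [Subsingleton.elim h 1, map_one, Module.End.one_apply]; rfl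
      have htop : Submodule.span k {a} = ⊤ := top_le_iff.1 (hspan ▸ Submodule.span_mono hset)
      haveI : Module.Finite k V := ⟨⟨{a}, by rw [Finset.coe_singleton, htop]⟩⟩
      refine (Submodule.finrank_le _).trans ?_
      rw [← finrank_top k V, ← htop]
      simpa using finrank_span_le_card ({a} : Set V) (R := k)
    -- a normal subgroup fixing the orbit or of order prime to `p`
    obtain ⟨M, hMn, hMb, a', ha'W, hA', hspanW, hbW⟩ : ∃ (M : Subgroup H) (_ : M.Normal), M ≠ ⊥ ∧
        ∃ a' : V, a' ∈ fixedSub ρ M ∧ (∀ x ∈ A, ρ x a' = a') ∧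
          fixedSub ρ M ≤ Submodule.span k {u : V | ∃ h : H, ρ h a' = u} ∧
          ∀ (b : V) (B : Subgroup H), (∀ x ∈ B, ρ x b = b) → A.index.Coprime B.index →
            b ∈ fixedSub ρ M := by
      rcases PSolvable.exists_core_ne_bot hsol with hc | hc
      · set M := Cfsg.pCore p H
        haveI hMn : M.Normal := FittingCores.pCore_normal p
        have hMp : IsPGroup p M := FittingCores.pCore_isPGroup p
        have hMA : M ≤ A := by
          intro m hm
          obtain ⟨i, hi⟩ := IsPGroup.iff_card.1 hMp
          have hd : A.relIndex M ∣ p ^ i := hi ▸ Subgroup.relIndex_dvd_card A M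
          obtain ⟨j, -, hj⟩ := (Nat.dvd_prime_pow hpr).1 hd
          have hj0 : j = 0 := by
            by_contra h0
            exact hAp ((dvd_pow_self p h0).trans (hj ▸ relIndex_dvd_index_of_normal_right A M))
          rw [hj0, pow_zero, Subgroup.relIndex_eq_one] at hj
          exact hj hm
        have htriv : fixedSub ρ M = ⊤ := by
          rw [eq_top_iff, ← hspan, Submodule.span_le]
          rintro _ ⟨h, rfl⟩ ⟨m, hm⟩
          show ρ m (ρ h a) = ρ h a
          have h1 := hA _ (hMA (show h⁻¹ * m * h ∈ M by simpa using hMn.conj_mem m hm h⁻¹))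
          conv_rhs => rw [← h1]
          rw [← Module.End.mul_apply, ← map_mul, ← Module.End.mul_apply, ← map_mul]
          congr 2; group
        exact ⟨M, hMn, hc, a, htriv ▸ Submodule.mem_top, hA, htriv.le.trans hspan.ge,
          fun b _ _ _ => htriv ▸ Submodule.mem_top⟩
      · set M := Cfsg.pPrimeCore p H
        haveI := PBasic.pPrimeCore_characteristic p H
        have hMc : (Nat.card M).Coprime p := PBasic.pPrimeCore_coprime p H
        have hM0 : (Nat.card M : k) ≠ 0 := by
          rw [Ne, CharP.cast_eq_zero_iff k p]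
          exact fun hd => hpr.not_dvd_one (hMc ▸ Nat.dvd_gcd hd dvd_rfl)
        let e : V →ₗ[k] V := (Nat.card M : k)⁻¹ • ∑ m : M, ρ (m : H)
        have he : ∀ v, e v = (Nat.card M : k)⁻¹ • ∑ m : M, ρ (m : H) v := fun v => by
          simp [e, LinearMap.sum_apply]
        have heW : ∀ v, e v ∈ fixedSub ρ M := by
          intro v m
          show ρ (m : H) (e v) = e v
          rw [he, map_smul, map_sum]
          congr 1
          refine Fintype.sum_equiv (Equiv.mulLeft m) _ _ fun x => ?_
          rw [Equiv.coe_mulLeft, Subgroup.coe_mul, map_mul, Module.End.mul_apply]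
        have hefix : ∀ v ∈ fixedSub ρ M, e v = v := by
          intro v hv
          have h1 : ∀ m : M, ρ (m : H) v = v := hv
          rw [he, Finset.sum_congr rfl fun m _ => h1 m, Finset.sum_const, Finset.card_univ,
            ← Nat.card_eq_fintype_card, ← Nat.cast_smul_eq_nsmul k, smul_smul, inv_mul_cancel₀ hM0,
            one_smul]
        have hcomm : ∀ h v, ρ h (e v) = e (ρ h v) := by
          intro h v
          rw [he, he, map_smul, map_sum]
          congr 1
          refine Fintype.sum_equiv (MulAut.conjNormal h).toEquiv _ _ fun x => ?_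
          show ρ h (ρ (x : H) v) = ρ ((MulAut.conjNormal h x : M) : H) (ρ h v)
          rw [MulAut.conjNormal_apply, ← Module.End.mul_apply, ← map_mul, ← Module.End.mul_apply,
            ← map_mul, inv_mul_cancel_right]
        refine ⟨M, inferInstance, hc, e a, heW a, fun x hx => by rw [hcomm, hA x hx], ?_, ?_⟩
        · intro v hv
          have h1 : v ∈ (Submodule.span k {u : V | ∃ h : H, ρ h a = u}).map e :=
            ⟨v, hspan ▸ Submodule.mem_top, hefix v hv⟩
          rw [Submodule.map_span] at h1
          refine Submodule.span_mono ?_ h1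
          rintro _ ⟨_, ⟨h, rfl⟩, rfl⟩
          exact ⟨h, hcomm h a⟩
        · intro b B hB hcop
          have hBA : ∀ g : H, ∃ x ∈ B, ∃ y ∈ A, g = x * y :=
            HallSolv.exists_mul_of_coprime_index hcop.symm
          set C := B ⊓ M
          let f : V →ₗ[k] V := (Nat.card C : k)⁻¹ • ∑ c : C, ρ (c : H)
          have hf : ∀ v, f v = (Nat.card C : k)⁻¹ • ∑ c : C, ρ (c : H) v := fun v => by
            simp [f, LinearMap.sum_apply]
          have hC0 : (Nat.card C : k) ≠ 0 := by
            rw [Ne, CharP.cast_eq_zero_iff k p]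
            exact fun hd => hpr.not_dvd_one (hMc ▸ Nat.dvd_gcd
              (hd.trans (Subgroup.card_dvd_of_le inf_le_right)) dvd_rfl)
          have hfb : f b = b := by
            rw [hf, Finset.sum_congr rfl fun (c : C) _ => hB (c : H) c.2.1, Finset.sum_const,
              Finset.card_univ, ← Nat.card_eq_fintype_card, ← Nat.cast_smul_eq_nsmul k, smul_smul,
              inv_mul_cancel₀ hC0, one_smul]
          have hfC : ∀ (c : C) v, f (ρ (c : H) v) = f v := by
            intro c v
            rw [hf, hf]
            congr 1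
            refine Fintype.sum_equiv (Equiv.mulRight c) _ _ fun x => ?_
            rw [Equiv.coe_mulRight, Subgroup.coe_mul, map_mul, Module.End.mul_apply]
          have hkey : f = f ∘ₗ e := by
            refine LinearMap.ext_on_range (v := fun h : H => ρ h a) (by rw [← hspan]; rfl) fun g => ?_
            obtain ⟨x, hx, y, hy, rfl⟩ := hBA g
            show f (ρ (x * y) a) = f (e (ρ (x * y) a))
            rw [map_mul, Module.End.mul_apply, hA y hy, ← hcomm, he a, map_smul, map_smul, map_sum, map_sum]
            have hterm : ∀ m : M, f (ρ x (ρ (m : H) a)) = f (ρ x a) := by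
              intro m
              have hcop' : ((B ⊓ M).subgroupOf M).index.Coprime ((A ⊓ M).subgroupOf M).index := by
                show ((B ⊓ M).relIndex M).Coprime ((A ⊓ M).relIndex M)
                rw [Subgroup.inf_relIndex_right, Subgroup.inf_relIndex_right]
                exact (hcop.symm.coprime_dvd_left (relIndex_dvd_index_of_normal_right B M)).coprime_dvd_right
                  (relIndex_dvd_index_of_normal_right A M)
              obtain ⟨c, hc, d, hd, hmd⟩ := HallSolv.exists_mul_of_coprime_index hcop' m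
              rw [hmd, Subgroup.coe_mul, map_mul, Module.End.mul_apply, hA (d : H) hd.1,
                show ρ x (ρ (c : H) a) = ρ (x * (c : H) * x⁻¹) (ρ x a) by
                  rw [← Module.End.mul_apply, ← map_mul, ← Module.End.mul_apply, ← map_mul,
                    inv_mul_cancel_right]]
              exact hfC ⟨x * (c : H) * x⁻¹, B.mul_mem (B.mul_mem hx hc.1) (B.inv_mem hx),
                (inferInstance : M.Normal).conj_mem _ c.2 x⟩ _
            rw [Finset.sum_congr rfl fun m _ => hterm m, Finset.sum_const, Finset.card_univ,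
              ← Nat.card_eq_fintype_card, ← Nat.cast_smul_eq_nsmul k, smul_smul, inv_mul_cancel₀ hM0,
              one_smul]
          rw [← hfb, hkey, LinearMap.comp_apply]
          intro m
          show ρ (m : H) (f (e b)) = f (e b)
          have hfe : f (e b) = e b := by
            rw [hf, Finset.sum_congr rfl fun (c : C) _ => show ρ (c : H) (e b) = e b from (heW b) ⟨(c : H), c.2.2⟩]
            rw [Finset.sum_const, Finset.card_univ,
              ← Nat.card_eq_fintype_card, ← Nat.cast_smul_eq_nsmul k, smul_smul, inv_mul_cancel₀ hC0,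
              one_smul]
          rw [hfe]
          exact heW b m
    haveI := hMn
    set W := fixedSub ρ M with hW
    have hWinv : ∀ h, ∀ v ∈ W, ρ h v ∈ W := by
      intro h v hv m
      show ρ (m : H) (ρ h v) = ρ h v
      have h1 : ρ (h⁻¹ * m * h) v = v :=
        hv ⟨h⁻¹ * m * h, by simpa using hMn.conj_mem (m : H) m.2 h⁻¹⟩
      conv_rhs => rw [← h1]
      rw [← Module.End.mul_apply, ← map_mul, ← Module.End.mul_apply, ← map_mul]
      congr 2; group
    let σ : Representation k H W :=
      { toFun := fun h => (ρ h).restrict (hWinv h)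
        map_one' := LinearMap.ext fun v => Subtype.ext (by simp [LinearMap.restrict_apply])
        map_mul' := fun x y => LinearMap.ext fun v => Subtype.ext (by
          simp [LinearMap.restrict_apply, map_mul]) }
    let τ : Representation k (H ⧸ M) W :=
      QuotientGroup.lift M σ fun m hm => LinearMap.ext fun v => Subtype.ext (v.2 ⟨m, hm⟩)
    have hτ : ∀ (h : H) (v : W), ((τ (QuotientGroup.mk' M h) v : W) : V) = ρ h (v : V) := fun _ _ => rfl
    have hcard : Nat.card (H ⧸ M) ≤ n := by
      have h1 := Subgroup.card_mul_index M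
      have h2 : 2 ≤ Nat.card M := (Subgroup.one_lt_card_iff_ne_bot M).2 hMb
      have h3 : 2 * M.index ≤ n + 1 := (Nat.mul_le_mul_right _ h2).trans (h1.le.trans hn)
      show M.index ≤ n
      omega
    have hsurj := QuotientGroup.mk'_surjective M
    have hspanτ : Submodule.span k {u : W | ∃ h : H ⧸ M, τ h ⟨a', ha'W⟩ = u} = ⊤ := by
      rw [eq_top_iff]
      rintro ⟨v, hv⟩ -
      have h1 := hspanW hv
      rw [show ({u : V | ∃ h : H, ρ h a' = u} : Set V) =
          W.subtype '' {u : W | ∃ h : H ⧸ M, τ h ⟨a', ha'W⟩ = u} from ?_, ← Submodule.map_span] at h1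
      · obtain ⟨w, hw, hwv⟩ := h1
        have : w = ⟨v, hv⟩ := Subtype.ext hwv
        exact this ▸ hw
      · ext x
        constructor
        · rintro ⟨h, rfl⟩
          exact ⟨τ (QuotientGroup.mk' M h) ⟨a', ha'W⟩, ⟨_, rfl⟩, hτ h _⟩
        · rintro ⟨_, ⟨q, rfl⟩, rfl⟩
          obtain ⟨h, rfl⟩ := hsurj q
          exact ⟨h, (hτ h ⟨a', ha'W⟩).symm⟩
    obtain ⟨hfin, hfix⟩ := ih (H ⧸ M) hcard (PSolvable.quotient M hsol) W τ ⟨a', ha'W⟩
      (A.map (QuotientGroup.mk' M))
      (by rintro _ ⟨x, hx, rfl⟩; exact Subtype.ext ((hτ x _).trans (hA' x hx)))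
      (fun hd => hAp (hd.trans (Subgroup.index_map_dvd A hsurj)))
      hspanτ
    refine ⟨?_, ?_⟩
    · have hle : ρ.invariants ≤ W := fun v hv m => hv (m : H)
      have heq : τ.invariants = ρ.invariants.comap W.subtype := by
        ext v
        rw [Representation.mem_invariants, Submodule.mem_comap, Representation.mem_invariants]
        refine ⟨fun h g => (hτ g v).symm.trans (congrArg Subtype.val (h _)), fun h q => ?_⟩
        obtain ⟨g, rfl⟩ := hsurj q
        exact Subtype.ext ((hτ g v).trans (h g))
      rw [heq, (Submodule.comapSubtypeEquivOfLe hle).finrank_eq] at hfin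
      exact hfin
    · intro b B hB hcop h
      have hb := hbW b B hB hcop
      have h1 := hfix ⟨b, hb⟩ (B.map (QuotientGroup.mk' M))
        (by rintro _ ⟨x, hx, rfl⟩; exact Subtype.ext ((hτ x _).trans (hB x hx)))
        ((hcop.coprime_dvd_left (Subgroup.index_map_dvd A hsurj)).coprime_dvd_right
          (Subgroup.index_map_dvd B hsurj)) (QuotientGroup.mk' M h)
      exact (hτ h _).symm.trans (congrArg Subtype.val h1)

end Cfsg.Agent.S4176


set_option autoImplicit false
open Cfsg

namespace Cfsg.Agent.S4176

/-- Let k be a field of prime characteristic p, H a finite p-soluble group and ρ a k-linear representation of H on V. Let a be a vector that is fixed by some Sylow p-subgroup of H and whose H-orbit spans V. Then the space of H-fixed vectors has dimension at most 1, and every vector b whose H-orbit has size coprime to the size of the orbit of a is fixed by H. -/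
theorem result {k V H : Type*} [Field k] (p : ℕ) [Fact p.Prime] [CharP k p] [AddCommGroup V] [Module k V]
    [Group H] [Finite H] (hsol : Cfsg.IsPSolvable p H) (ρ : Representation k H V) (a : V)
    (hfix : ∃ P : Sylow p H, ∀ x : H, x ∈ (P : Subgroup H) → ρ x a = a)
    (hspan : Submodule.span k {u : V | ∃ h : H, ρ h a = u} = ⊤) :
    Module.finrank k ρ.invariants ≤ 1 ∧
    ∀ b : V, (Nat.card {u : V | ∃ h : H, ρ h a = u}).Coprime (Nat.card {u : V | ∃ h : H, ρ h b = u}) → ∀ h : H, ρ h b = b := by
  obtain ⟨P, hP⟩ := hfix
  have hPA : (P : Subgroup H) ≤ S4176.stab ρ a := fun x hx => hP x hx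
  have hAp : ¬ p ∣ (S4176.stab ρ a).index := fun hd =>
    P.not_dvd_index (hd.trans (Subgroup.index_dvd_of_le hPA))
  obtain ⟨h1, h2⟩ := S4176.aux p (Nat.card H) H le_rfl hsol V ρ a (S4176.stab ρ a)
    (fun _ hx => hx) hAp hspan
  refine ⟨h1, fun b hcop h => h2 b (S4176.stab ρ b) (fun _ hx => hx) ?_ h⟩
  rwa [S4176.card_orbit, S4176.card_orbit] at hcop

end Cfsg.Agent.S4176
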