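import Cfsg.Statements.S4177
import Mathlib.RepresentationTheory.Invariants
import Mathlib.GroupTheory.Index
import Mathlib.LinearAlgebra.Dimension.Finite

set_option autoImplicit false
set_option linter.style.haveILetI false

set_option autoImplicit false
open Cfsg

namespace Cfsg.Agent.S4177

/-- Let k be a field whose characteristic does not divide the order of the finite group H (for instance a field of characteristic zero), and ρ a k-linear representation of H on V. Let a be a vector whose H-orbit spans V. Then the space of H-fixed vectors has dimension at most 1, and every vector b whose H-orbit has size coprime to the size of the orbit of a is fixed by H. -/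
theorem result {k V H : Type*} [Field k] [AddCommGroup V] [Module k V] [Group H] [Finite H]
    (hchar : ¬ ringChar k ∣ Nat.card H) (ρ : Representation k H V) (a : V)
    (hspan : Submodule.span k {u : V | ∃ h : H, ρ h a = u} = ⊤) :
    Module.finrank k ρ.invariants ≤ 1 ∧
    ∀ b : V, (Nat.card {u : V | ∃ h : H, ρ h a = u}).Coprime (Nat.card {u : V | ∃ h : H, ρ h b = u}) → ∀ h : H, ρ h b = b := by
  classical
  haveI := Fintype.ofFinite H
  have hHk : ((Nat.card H : ℕ) : k) ≠ 0 := fun h0 => hchar ((ringChar.spec k _).1 h0)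
  let avg : V →ₗ[k] V := ∑ h : H, ρ h
  have havg : ∀ v, avg v = ∑ h : H, ρ h v := fun v => LinearMap.sum_apply _ _ _
  have havgR : ∀ (g : H) v, avg (ρ g v) = avg v := by
    intro g v
    rw [havg, havg]
    refine Fintype.sum_equiv (Equiv.mulRight g) _ _ fun h => ?_
    show ρ h (ρ g v) = ρ (h * g) v
    rw [map_mul]; rfl
  have havgI : ∀ v, ∀ g : H, ρ g (avg v) = avg v := by
    intro v g
    rw [havg, map_sum]
    refine Fintype.sum_equiv (Equiv.mulLeft g) _ _ fun h => ?_
    show ρ g (ρ h v) = ρ (g * h) v
    rw [map_mul]; rfl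
  have hline : ∀ v, avg v ∈ k ∙ avg a := by
    intro v
    have hv : v ∈ Submodule.span k {u : V | ∃ h : H, ρ h a = u} := by rw [hspan]; exact Submodule.mem_top
    refine (Submodule.span_le (p := (k ∙ avg a).comap avg)).2 ?_ hv
    rintro u ⟨h, rfl⟩
    show avg (ρ h a) ∈ k ∙ avg a
    rw [havgR]
    exact Submodule.mem_span_singleton_self _
  have hinvle : ρ.invariants ≤ k ∙ avg a := by
    intro v hv
    have h1 : avg v = ((Nat.card H : ℕ) : k) • v := by
      rw [havg, Finset.sum_congr rfl fun h _ => hv h, Finset.sum_const, Finset.card_univ,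
        Nat.card_eq_fintype_card, Nat.cast_smul_eq_nsmul k]
    have h2 := hline v
    rw [h1] at h2
    exact (Submodule.smul_mem_iff _ hHk).1 h2
  refine ⟨?_, ?_⟩
  · refine (Submodule.finrank_mono hinvle).trans ?_
    refine (finrank_span_le_card _).trans ?_
    simp
  intro b hcop h₀
  let stab : V → Subgroup H := fun v =>
    { carrier := {g | ρ g v = v}
      one_mem' := by simp
      mul_mem' := fun {x y} hx hy => by
        show ρ (x * y) v = v
        rw [map_mul]; show ρ x (ρ y v) = v; rw [hy, hx]
      inv_mem' := fun {x} hx => by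
        show ρ x⁻¹ v = v
        conv_lhs => rw [← show ρ x v = v from hx]
        show (ρ x⁻¹ * ρ x) v = v
        rw [← map_mul, inv_mul_cancel, map_one]; rfl }
  have hidx : ∀ v : V, Nat.card {u : V | ∃ h : H, ρ h v = u} = (stab v).index := by
    intro v
    rw [Subgroup.index_eq_card]
    have key : ∀ x y : H, ρ x v = ρ y v ↔ x⁻¹ * y ∈ stab v := by
      intro x y
      show _ ↔ ρ (x⁻¹ * y) v = v
      constructor
      · intro e
        rw [map_mul]; show ρ x⁻¹ (ρ y v) = v
        rw [← e]; show (ρ x⁻¹ * ρ x) v = v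
        rw [← map_mul, inv_mul_cancel, map_one]; rfl
      · intro e
        conv_lhs => rw [← e]
        show (ρ x * ρ (x⁻¹ * y)) v = ρ y v
        rw [← map_mul, mul_inv_cancel_left]
    refine (Nat.card_congr (Equiv.ofBijective (Quotient.lift (fun x : H =>
      (⟨ρ x v, x, rfl⟩ : {u : V | ∃ h : H, ρ h v = u}))
      (fun x y hxy => Subtype.ext ((key x y).2 (QuotientGroup.leftRel_apply.1 hxy)))) ⟨?_, ?_⟩)).symm
    · intro x y
      induction x using Quotient.inductionOn'
      induction y using Quotient.inductionOn'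
      rename_i x y
      intro e
      exact Quotient.sound' (QuotientGroup.leftRel_apply.2 ((key x y).1 (congrArg Subtype.val e)))
    · rintro ⟨-, x, rfl⟩
      exact ⟨Quotient.mk'' x, rfl⟩
  rw [hidx, hidx] at hcop
  set A := stab a with hA
  set B := stab b with hB
  have hprod : ∀ g : H, ∃ β ∈ B, ∃ α ∈ A, g = β * α := by
    have hle : A.index ≤ A.relIndex B := by
      have h1 : A.index * B.index ∣ (A ⊓ B).index :=
        hcop.mul_dvd_of_dvd_of_dvd (Subgroup.index_dvd_of_le inf_le_left)
          (Subgroup.index_dvd_of_le inf_le_right)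
      have h2 := Subgroup.relIndex_mul_index (inf_le_right : A ⊓ B ≤ B)
      rw [Subgroup.inf_relIndex_right] at h2
      rw [← h2] at h1
      exact Nat.le_of_dvd (Nat.pos_of_ne_zero (Subgroup.index_ne_zero_of_finite (H := A.subgroupOf B)))
        (Nat.dvd_of_mul_dvd_mul_right (Nat.pos_of_ne_zero B.index_ne_zero_of_finite) h1)
    intro g
    let f : B ⧸ A.subgroupOf B → H ⧸ A := Quotient.map' (fun β : B => (β : H)) (fun x y hxy => by
      rw [QuotientGroup.leftRel_apply] at hxy ⊢
      exact hxy)
    have hf : Function.Injective f := by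
      intro x y
      induction x using Quotient.inductionOn'
      induction y using Quotient.inductionOn'
      rename_i x y
      intro e
      have e' : (x : H)⁻¹ * (y : H) ∈ A := QuotientGroup.eq.1 e
      exact Quotient.sound' (QuotientGroup.leftRel_apply.2 e')
    have hsurj := (Function.Injective.bijective_of_nat_card_le hf hle).2 (QuotientGroup.mk g)
    obtain ⟨x, hx⟩ := hsurj
    induction x using Quotient.inductionOn'
    rename_i x
    exact ⟨x, x.2, (x : H)⁻¹ * g, QuotientGroup.leftRel_apply.1 (Quotient.exact' hx),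
      (mul_inv_cancel_left _ _).symm⟩
  haveI := Fintype.ofFinite B
  let avgB : V →ₗ[k] V := ∑ β : B, ρ (β : H)
  have havgB : ∀ v, avgB v = ∑ β : B, ρ (β : H) v := fun v => LinearMap.sum_apply _ _ _
  have hBL : ∀ (c : B) v, avgB (ρ (c : H) v) = avgB v := by
    intro c v
    rw [havgB, havgB]
    refine Fintype.sum_equiv (Equiv.mulRight c) _ _ fun h => ?_
    show ρ (h : H) (ρ (c : H) v) = ρ ((h : H) * (c : H)) v
    rw [map_mul]; rfl
  have horb : ∀ g : H, avgB (ρ g a) = avgB a := by
    intro g
    obtain ⟨β, hβ, α, hα, rfl⟩ := hprod g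
    rw [show ρ (β * α) a = ρ β (ρ α a) by rw [map_mul]; rfl, show ρ α a = a from hα]
    exact hBL ⟨β, hβ⟩ a
  have hBk : ((Nat.card B : ℕ) : k) ≠ 0 := fun h0 =>
    hchar (((ringChar.spec k _).1 h0).trans (Subgroup.card_subgroup_dvd_card B))
  have hfixB : ∀ v, (∀ β : B, ρ (β : H) v = v) → avgB v = ((Nat.card B : ℕ) : k) • v := by
    intro v hv
    rw [havgB, Finset.sum_congr rfl fun β _ => hv β, Finset.sum_const, Finset.card_univ,
      Nat.card_eq_fintype_card, Nat.cast_smul_eq_nsmul k]
  have hBa : ∀ g : H, ρ g (avgB a) = avgB a := by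
    have e1 : ((Nat.card B : ℕ) : k) • avg a = ((Nat.card H : ℕ) : k) • avgB a := by
      rw [← hfixB (avg a) (fun β => havgI a β), havg, map_sum,
        Finset.sum_congr rfl fun g _ => horb g, Finset.sum_const, Finset.card_univ,
        Nat.card_eq_fintype_card, Nat.cast_smul_eq_nsmul k]
    intro g
    have e2 : avgB a = (((Nat.card H : ℕ) : k))⁻¹ • ((Nat.card B : ℕ) : k) • avg a := by
      rw [e1, smul_smul, inv_mul_cancel₀ hHk, one_smul]
    rw [e2, map_smul, map_smul, havgI]
  have hb : avgB b ∈ k ∙ avgB a := by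
    have hv : b ∈ Submodule.span k {u : V | ∃ h : H, ρ h a = u} := by rw [hspan]; exact Submodule.mem_top
    refine (Submodule.span_le (p := (k ∙ avgB a).comap avgB)).2 ?_ hv
    rintro u ⟨h, rfl⟩
    show avgB (ρ h a) ∈ k ∙ avgB a
    rw [horb]
    exact Submodule.mem_span_singleton_self _
  rw [hfixB b (fun β => β.2)] at hb
  obtain ⟨c, hc⟩ := Submodule.mem_span_singleton.1 ((Submodule.smul_mem_iff _ hBk).1 hb)
  rw [← hc, map_smul, hBa]

end Cfsg.Agent.S4177
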