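import Cfsg.Statements.S4178
import Mathlib

set_option autoImplicit false
set_option linter.style.haveILetI false

set_option autoImplicit false
open Cfsg

namespace Cfsg.Agent.S4178

/-- Let F be a finite field with q elements, V a non-zero finite-dimensional F-space of dimension d, H a group of invertible linear maps of V, and R the subgroup of H generated by the elements of H that fix some non-zero vector (have eigenvalue 1). Then the index of R in H is at most q^d − 1; and if H leaves invariant some proper non-zero subspace, the index is at most q^(d/2) − 1. -/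
theorem result {F V : Type*} [Field F] [Fintype F] [AddCommGroup V] [Module F V] [FiniteDimensional F V] [Nontrivial V]
    (H : Subgroup (V ≃ₗ[F] V)) :
    (Subgroup.closure {h : ↥H | ∃ v : V, v ≠ 0 ∧ (h : V ≃ₗ[F] V) v = v}).index ≤ Fintype.card F ^ Module.finrank F V - 1 ∧
    ((∃ W : Submodule F V, W ≠ ⊥ ∧ W ≠ ⊤ ∧ ∀ h ∈ H, ∀ w ∈ W, h w ∈ W) →
      ((Subgroup.closure {h : ↥H | ∃ v : V, v ≠ 0 ∧ (h : V ≃ₗ[F] V) v = v}).index : ℝ) ≤ Real.sqrt ((Fintype.card F : ℝ) ^ Module.finrank F V) - 1) := by
  classical
  haveI : Finite V := Module.finite_of_finite F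
  haveI : Finite (V ≃ₗ[F] V) := Finite.of_injective (fun e : V ≃ₗ[F] V => (e : V → V))
    (fun a b h => LinearEquiv.ext (congrFun h))
  set R := Subgroup.closure {h : ↥H | ∃ v : V, v ≠ 0 ∧ (h : V ≃ₗ[F] V) v = v} with hR
  have hcardW : ∀ (M : Type _) [AddCommGroup M] [Module F M] [Finite M],
      Nat.card M = Fintype.card F ^ Module.finrank F M := fun M _ _ _ => by
    rw [Module.natCard_eq_pow_finrank (K := F), Nat.card_eq_fintype_card]
  have hsub : ∀ (v : V), v ≠ 0 → ∀ T : Set V, MulAction.orbit ↥H v ⊆ T \ {0} →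
      R.index ≤ (T \ {0}).ncard := by
    intro v hv T hT
    calc R.index ≤ (MulAction.stabilizer ↥H v).index := Nat.le_of_dvd
          (Nat.pos_of_ne_zero Subgroup.index_ne_zero_of_finite)
          (Subgroup.index_dvd_of_le fun h hh => Subgroup.subset_closure ⟨v, hv, hh⟩)
      _ = (MulAction.orbit ↥H v).ncard := MulAction.index_stabilizer _ _
      _ ≤ (T \ {0}).ncard := Set.ncard_le_ncard hT
  have hne0 : ∀ (v : V), v ≠ 0 → ∀ h : ↥H, h • v ≠ 0 := by
    intro v hv h hh
    exact hv ((h : V ≃ₗ[F] V).map_eq_zero_iff.1 hh)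
  refine ⟨?_, ?_⟩
  · obtain ⟨v, hv⟩ := exists_ne (0 : V)
    refine le_trans (hsub v hv Set.univ ?_) ?_
    · rintro x ⟨h, rfl⟩
      exact ⟨trivial, hne0 v hv h⟩
    · rw [Set.ncard_sdiff_singleton_of_mem (Set.mem_univ _), Set.ncard_univ, hcardW]
  · rintro ⟨W, hW0, hW1, hinv⟩
    have hbound : ∃ k, 2 * k ≤ Module.finrank F V ∧ R.index ≤ Fintype.card F ^ k - 1 := by
      by_cases hW : 2 * Module.finrank F W ≤ Module.finrank F V
      · refine ⟨_, hW, ?_⟩
        obtain ⟨v, hvW, hv⟩ := (Submodule.ne_bot_iff W).1 hW0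
        refine le_trans (hsub v hv W ?_) ?_
        · rintro x ⟨h, rfl⟩
          exact ⟨hinv _ h.2 v hvW, hne0 v hv h⟩
        · rw [Set.ncard_sdiff_singleton_of_mem W.zero_mem, ← hcardW W, ← Nat.card_coe_set_eq]
          exact le_rfl
      · refine ⟨Module.finrank F (V ⧸ W), by
          have := Submodule.finrank_quotient_add_finrank W; omega, ?_⟩
        letI : MulAction ↥H (V ⧸ W) :=
          { smul := fun h => W.mapQ W ((h : V ≃ₗ[F] V) : V →ₗ[F] V) (fun w hw => hinv _ h.2 w hw)
            one_smul := fun x => by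
              obtain ⟨v, rfl⟩ := W.mkQ_surjective x
              rfl
            mul_smul := fun a b x => by
              obtain ⟨v, rfl⟩ := W.mkQ_surjective x
              rfl }
        obtain ⟨v, hv⟩ : ∃ v : V, v ∉ W := by
          by_contra hc
          push Not at hc
          exact hW1 (eq_top_iff.2 fun x _ => hc x)
        haveI : Finite (V ⧸ W) := Finite.of_surjective W.mkQ W.mkQ_surjective
        have hstab : MulAction.stabilizer ↥H (W.mkQ v) ≤ R := by
          intro h hh
          refine Subgroup.subset_closure ?_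
          have hh' : W.mkQ ((h : V ≃ₗ[F] V) v) = W.mkQ v := hh
          rw [Submodule.mkQ_apply, Submodule.mkQ_apply, Submodule.Quotient.eq] at hh'
          let D : V →ₗ[F] V := ((h : V ≃ₗ[F] V) : V →ₗ[F] V) - LinearMap.id
          by_contra hcon
          have hD : Function.Injective D := by
            rw [injective_iff_map_eq_zero]
            intro x hx
            by_contra hx0
            exact hcon ⟨x, hx0, sub_eq_zero.1 hx⟩
          have hDW : ∀ w ∈ W, D w ∈ W := fun w hw => W.sub_mem (hinv _ h.2 w hw) hw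
          have hsurj : Function.Surjective (D.restrict hDW) :=
            LinearMap.surjective_of_injective fun a b hab =>
              Subtype.ext (hD (congrArg Subtype.val hab))
          obtain ⟨⟨w, hw⟩, hwe⟩ := hsurj ⟨D v, hh'⟩
          have : w = v := hD (congrArg Subtype.val hwe)
          exact hv (this ▸ hw)
        calc R.index ≤ (MulAction.stabilizer ↥H (W.mkQ v)).index := Nat.le_of_dvd
              (Nat.pos_of_ne_zero Subgroup.index_ne_zero_of_finite) (Subgroup.index_dvd_of_le hstab)
          _ = (MulAction.orbit ↥H (W.mkQ v)).ncard := MulAction.index_stabilizer _ _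
          _ ≤ (Set.univ \ {(0 : V ⧸ W)}).ncard := Set.ncard_le_ncard (by
              rintro x ⟨h, rfl⟩
              refine ⟨trivial, fun h0 => hv ?_⟩
              have h1 : h⁻¹ • h • W.mkQ v = h⁻¹ • (0 : V ⧸ W) := by
                rw [Set.mem_singleton_iff] at h0
                exact congrArg _ h0
              rw [inv_smul_smul] at h1
              have h2 : h⁻¹ • (0 : V ⧸ W) = 0 := map_zero (W.mapQ W _ _)
              rw [h2] at h1
              exact (Submodule.Quotient.mk_eq_zero W).1 h1)
          _ = _ := by rw [Set.ncard_sdiff_singleton_of_mem (Set.mem_univ _), Set.ncard_univ, hcardW]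
    obtain ⟨k, hk, hle⟩ := hbound
    have hq : 1 ≤ Fintype.card F ^ k := Nat.one_le_pow _ _ Fintype.card_pos
    have h1 : (R.index : ℝ) ≤ (Fintype.card F : ℝ) ^ k - 1 := by
      have : ((R.index : ℕ) : ℝ) ≤ ((Fintype.card F ^ k - 1 : ℕ) : ℝ) := by exact_mod_cast hle
      rw [Nat.cast_sub hq] at this
      simpa using this
    refine h1.trans (sub_le_sub_right ?_ 1)
    refine Real.le_sqrt_of_sq_le ?_
    rw [← pow_mul]
    exact pow_le_pow_right₀ (by exact_mod_cast (Fintype.card_pos : 0 < Fintype.card F)) (by omega)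

end Cfsg.Agent.S4178
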