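import Cfsg.Statements.S4184
import Mathlib

set_option autoImplicit false
open Cfsg

namespace Cfsg.Agent.S4184

open Subgroup

variable {G : Type*} [Group G]

/-- class size -/
noncomputable def cls (x : G) : ℕ := (centralizer ({x} : Set G)).index

theorem cls_conj [Finite G] (g x : G) : cls (g * x * g⁻¹) = cls x := by
  have h : centralizer ({g * x * g⁻¹} : Set G) = (centralizer ({x} : Set G)).map (MulAut.conj g).toMonoidHom := by
    ext y
    simp only [Subgroup.mem_map, mem_centralizer_singleton_iff, MulEquiv.coe_toMonoidHom, MulAut.conj_apply]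
    constructor
    · intro hy
      refine ⟨g⁻¹ * y * g, ?_, by group⟩
      calc g⁻¹ * y * g * x = g⁻¹ * (y * (g * x * g⁻¹)) * g := by group
        _ = g⁻¹ * (g * x * g⁻¹ * y) * g := by rw [hy]
        _ = x * (g⁻¹ * y * g) := by group
    · rintro ⟨z, hz, rfl⟩
      calc g * z * g⁻¹ * (g * x * g⁻¹) = g * (z * x) * g⁻¹ := by group
        _ = g * (x * z) * g⁻¹ := by rw [hz]
        _ = g * x * g⁻¹ * (g * z * g⁻¹) := by group
  show (centralizer ({g * x * g⁻¹} : Set G)).index = _
  rw [h, Subgroup.index_map_of_bijective (MulAut.conj g).bijective]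
  rfl

theorem centralizer_mul_le {x y : G} (hc : Commute x y) (hco : (orderOf x).Coprime (orderOf y)) :
    centralizer ({x * y} : Set G) ≤ centralizer ({x} : Set G) := by
  obtain ⟨m, hm⟩ := exists_pow_eq_self_of_coprime hco.symm
  have hx : x = (x * y) ^ (orderOf y * m) := by
    rw [pow_mul, hc.mul_pow, pow_orderOf_eq_one, mul_one, hm]
  intro g hg
  rw [mem_centralizer_singleton_iff] at hg ⊢
  rw [hx]
  exact Commute.pow_right hg _

theorem cls_mul [Finite G] {x y : G} (hc : Commute x y) (hco : (orderOf x).Coprime (orderOf y)) :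
    cls x ∣ cls (x * y) ∧ cls y ∣ cls (x * y) :=
  ⟨index_dvd_of_le (centralizer_mul_le hc hco),
    index_dvd_of_le (by rw [hc.eq]; exact centralizer_mul_le hc.symm hco.symm)⟩

theorem mul_ne_one_of_coprime {x y : G} (hx : x ≠ 1) (hco : (orderOf x).Coprime (orderOf y)) :
    x * y ≠ 1 := by
  intro h
  rw [mul_eq_one_iff_eq_inv] at h
  rw [h, orderOf_inv, Nat.coprime_self, orderOf_eq_one_iff] at hco
  exact hx (by rw [h, hco, inv_one])

theorem valuation_centralizer [Finite G] (r : ℕ) (x : G) :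
    (Nat.card (centralizer ({x} : Set G))).factorization r + (cls x).factorization r =
      (Nat.card G).factorization r := by
  rw [← (centralizer ({x} : Set G)).card_mul_index, Nat.factorization_mul Nat.card_pos.ne' index_ne_zero_of_finite]
  rfl

/-- a central element of a Sylow subgroup -/
theorem exists_central_sylow [Finite G] {r : ℕ} [Fact r.Prime] (hr : r ∣ Nat.card G) :
    ∃ (P : Sylow r G) (h : G), h ∈ (P : Subgroup G) ∧ h ≠ 1 ∧
      (P : Subgroup G) ≤ centralizer ({h} : Set G) ∧ ¬ r ∣ cls h := by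
  obtain ⟨P⟩ := (inferInstance : Nonempty (Sylow r G))
  have hne : Nontrivial (P : Subgroup G) :=
    (Subgroup.nontrivial_iff_ne_bot _).2 (P.ne_bot_of_dvd_card hr)
  have := P.isPGroup'.center_nontrivial
  obtain ⟨⟨h, hh⟩, h1⟩ := exists_ne (1 : Subgroup.center (P : Subgroup G))
  refine ⟨P, (h : G), h.2, fun e => h1 (Subtype.ext (Subtype.ext e)), ?_, ?_⟩
  · intro y hy
    rw [mem_centralizer_singleton_iff]
    exact congrArg Subtype.val (Subgroup.mem_center_iff.1 hh ⟨y, hy⟩)
  · intro hd
    refine P.not_dvd_index (hd.trans (index_dvd_of_le ?_))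
    intro y hy
    rw [mem_centralizer_singleton_iff]
    exact congrArg Subtype.val (Subgroup.mem_center_iff.1 hh ⟨y, hy⟩)

/-- the part of `l` on side `i` divides `n` completely -/
def Full (A : Set ℕ) (l : ℕ) (i : Prop) (n : ℕ) : Prop :=
  ∀ r : ℕ, r.Prime → r ∣ l → (r ∈ A ↔ i) → n.factorization r = l.factorization r

theorem Full.mono {A : Set ℕ} {l : ℕ} (hl : l ≠ 0) {i : Prop} {n n' : ℕ} (h : Full A l i n) (hn : n ∣ n')
    (hn' : n' ∣ l) : Full A l i n' := fun r hr hrl hi => by
  have h0 : n' ≠ 0 := ne_zero_of_dvd_ne_zero hl hn'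
  refine le_antisymm ((Nat.factorization_le_iff_dvd h0 hl).2 hn' r) ?_
  rw [← h r hr hrl hi]
  exact (Nat.factorization_le_iff_dvd (ne_zero_of_dvd_ne_zero h0 hn) h0).2 hn r

theorem sides {M : Type*} [Group M] [Finite M] {A : Set ℕ}
    (hno : ∀ a ∈ A, ∀ b ∉ A, a.Prime → b.Prime → a ∣ Nat.card M → b ∣ Nat.card M → ¬ ∃ x : M, orderOf x = a * b)
    {m : M} {s : ℕ} (hs : s.Prime) (hsm : s ∣ orderOf m) : Full A (Nat.card M) (s ∉ A) (cls m) := by
  intro r hr hrl hi
  have h0 := valuation_centralizer r m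
  suffices h : (Nat.card (centralizer ({m} : Set M))).factorization r = 0 by omega
  refine Nat.factorization_eq_zero_of_not_dvd fun hd => ?_
  haveI := Fact.mk hr
  obtain ⟨⟨x, hx⟩, hxo⟩ := exists_prime_orderOf_dvd_card' r hd
  rw [orderOf_mk] at hxo
  set y := m ^ (orderOf m / s) with hy
  have hyo : orderOf y = s := orderOf_pow_orderOf_div (orderOf_pos m).ne' hsm
  have hc : Commute x y := Commute.pow_right (show Commute x m from mem_centralizer_singleton_iff.1 hx) _
  have hne : r ≠ s := by rintro rfl; tauto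
  have ho : orderOf (x * y) = r * s := by
    rw [hc.orderOf_mul_eq_mul_orderOf_of_coprime (by rw [hxo, hyo]; exact (Nat.coprime_primes hr hs).2 hne), hxo, hyo]
  have hsl : s ∣ Nat.card M := hsm.trans (orderOf_dvd_natCard m)
  by_cases hrA : r ∈ A
  · exact hno r hrA s (hi.1 hrA) hr hs hrl hsl ⟨_, ho⟩
  · have hsA : s ∈ A := by tauto
    exact hno s hsA r hrA hs hr hsl hrl ⟨x * y, by rw [ho, mul_comm]⟩


/-- Let G and M be finite groups with trivial centres and the same set of conjugacy class sizes, and suppose the prime graph of M is disconnected: the prime divisors of #M split into two non-empty parts such that M has no element of order pq with p in one part and q in the other. Then #G = #M. -/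
theorem result {G M : Type*}
    [Group G] [Finite G] [Group M] [Finite M] (hZG : Subgroup.center G = ⊥) (hZM : Subgroup.center M = ⊥)
    (h : Set.range (fun g : G => (Subgroup.centralizer ({g} : Set G)).index) = Set.range (fun g : M => (Subgroup.centralizer ({g} : Set M)).index))
    (hdisc : ∃ A : Set ℕ, (∃ a ∈ A, a.Prime ∧ a ∣ Nat.card M) ∧ (∃ b ∉ A, b.Prime ∧ b ∣ Nat.card M) ∧
      ∀ a ∈ A, ∀ b ∉ A, a.Prime → b.Prime → a ∣ Nat.card M → b ∣ Nat.card M → ¬ ∃ x : M, orderOf x = a * b) :
    Nat.card G = Nat.card M := by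
  classical
  obtain ⟨A, ⟨a₀, ha₀, ha₀p, ha₀d⟩, ⟨b₀, hb₀, hb₀p, hb₀d⟩, hno⟩ := hdisc
  set l := Nat.card M with hl
  have hl0 : l ≠ 0 := Nat.card_pos.ne'
  have hdvd : ∀ m : M, cls m ∣ l := fun m => index_dvd_card _
  have hrange : ∀ x : G, ∃ m : M, cls m = cls x := fun x => by
    have : cls x ∈ Set.range (fun g : M => cls g) := h ▸ ⟨x, rfl⟩
    exact this
  have hdvdG : ∀ x : G, cls x ∣ l := fun x => by
    obtain ⟨m, hm⟩ := hrange x
    exact hm ▸ hdvd m
  have hne : ∀ x : G, x ≠ 1 → cls x ≠ 1 := fun x hx h1 => hx (by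
    rw [← Subgroup.mem_bot, ← hZG, Subgroup.mem_center_iff]
    intro y
    have hy : y ∈ centralizer ({x} : Set G) := by rw [Subgroup.index_eq_one.1 h1]; exact mem_top y
    exact mem_centralizer_singleton_iff.1 hy)
  have hboth : ∀ x : G, Full A l True (cls x) → Full A l False (cls x) → False := by
    intro x h1 h2
    obtain ⟨m, hm⟩ := hrange x
    rw [← hm] at h1 h2
    have heq : cls m = l := by
      refine Nat.eq_of_factorization_eq (ne_zero_of_dvd_ne_zero hl0 (hdvd m)) hl0 fun r => ?_
      by_cases hr : r.Prime ∧ r ∣ l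
      · by_cases hrA : r ∈ A
        · exact h1 r hr.1 hr.2 (iff_true_intro hrA)
        · exact h2 r hr.1 hr.2 (iff_false_intro hrA)
      · have h3 : l.factorization r = 0 := by
          rcases not_and_or.1 hr with h | h
          · exact Nat.factorization_eq_zero_of_not_prime _ h
          · exact Nat.factorization_eq_zero_of_not_dvd h
        have h4 := (Nat.factorization_le_iff_dvd (ne_zero_of_dvd_ne_zero hl0 (hdvd m)) hl0).2 (hdvd m) r
        omega
    have hmul := (centralizer ({m} : Set M)).card_mul_index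
    change _ * cls m = l at hmul
    rw [heq] at hmul
    have hc1 : Nat.card (centralizer ({m} : Set M)) = 1 := by
      rwa [Nat.mul_eq_right hl0] at hmul
    have hbot := Subgroup.eq_bot_of_card_eq _ hc1
    have hm1 : m = 1 := Subgroup.mem_bot.1 (hbot ▸ mem_centralizer_singleton_iff.2 rfl)
    subst hm1
    have h5 : cls (1 : M) = 1 :=
      Subgroup.index_eq_one.2 ((Subgroup.eq_top_iff' _).2 fun y => mem_centralizer_singleton_iff.2 (by simp))
    have := ha₀p.two_le
    have := Nat.le_of_dvd (Nat.pos_of_ne_zero hl0) ha₀d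
    omega
  -- each non-trivial class size is full on exactly one side
  have hsomeM : ∀ m : M, m ≠ 1 → Full A l True (cls m) ∨ Full A l False (cls m) := by
    intro m hm
    obtain ⟨s, hs, hsm⟩ := Nat.exists_prime_and_dvd (fun h => hm (orderOf_eq_one_iff.1 h))
    have h1 := sides hno hs hsm
    by_cases hsA : s ∈ A
    · exact Or.inr fun r a b c => h1 r a b (by tauto)
    · exact Or.inl fun r a b c => h1 r a b (by tauto)
  have hsome : ∀ x : G, x ≠ 1 → Full A l True (cls x) ∨ Full A l False (cls x) := by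
    intro x hx
    obtain ⟨m, hm⟩ := hrange x
    have hm1 : m ≠ 1 := by
      rintro rfl
      exact hne x hx (hm.symm.trans
        (Subgroup.index_eq_one.2 ((Subgroup.eq_top_iff' _).2 fun y => mem_centralizer_singleton_iff.2 (by simp))))
    rw [← hm]
    exact hsomeM m hm1
  -- the order of `M` divides that of `G`
  have hlG : ∀ r : ℕ, l.factorization r ≤ (Nat.card G).factorization r := by
    intro r
    by_cases hr : r.Prime ∧ r ∣ l
    swap
    · rw [show l.factorization r = 0 by
        rcases not_and_or.1 hr with h | h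
        · exact Nat.factorization_eq_zero_of_not_prime _ h
        · exact Nat.factorization_eq_zero_of_not_dvd h]
      exact Nat.zero_le _
    obtain ⟨m, hm⟩ : ∃ m : M, (cls m).factorization r = l.factorization r := by
      by_cases hrA : r ∈ A
      · haveI := Fact.mk hb₀p
        obtain ⟨m, hm⟩ := exists_prime_orderOf_dvd_card' (G := M) b₀ hb₀d
        exact ⟨m, sides hno hb₀p (hm ▸ dvd_rfl) r hr.1 hr.2 (by tauto)⟩
      · haveI := Fact.mk ha₀p
        obtain ⟨m, hm⟩ := exists_prime_orderOf_dvd_card' (G := M) a₀ ha₀d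
        exact ⟨m, sides hno ha₀p (hm ▸ dvd_rfl) r hr.1 hr.2 (by tauto)⟩
    obtain ⟨x, hx⟩ : ∃ x : G, cls x = cls m := by
      have : cls m ∈ Set.range (fun g : G => cls g) := h.symm ▸ ⟨m, rfl⟩
      exact this
    have := valuation_centralizer r x
    rw [hx, hm] at this
    omega
  refine (Nat.eq_of_factorization_eq Nat.card_pos.ne' hl0 fun r => le_antisymm ?_ (hlG r))
  by_contra hlt
  push Not at hlt
  have hrp : r.Prime := by
    by_contra hr
    rw [Nat.factorization_eq_zero_of_not_prime (Nat.card G) hr] at hlt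
    omega
  haveI := Fact.mk hrp
  have hrG : r ∣ Nat.card G := Nat.dvd_of_factorization_pos (by omega)
  obtain ⟨P, h₀, hh₀P, hh₀1, hPle, hh₀d⟩ := exists_central_sylow hrG
  obtain ⟨T, hT, hTG, q, hqp, hql, hqT⟩ : ∃ T : Prop, Full A l T (cls h₀) ∧
      (∀ x : G, Full A l T (cls x) → Full A l (¬ T) (cls x) → False) ∧
      ∃ q : ℕ, q.Prime ∧ q ∣ l ∧ (q ∈ A ↔ T) := by
    rcases hsome h₀ hh₀1 with h' | h'
    · exact ⟨True, h', fun x a b => hboth x a (by simpa using b), a₀, ha₀p, ha₀d, iff_true_intro ha₀⟩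
    · exact ⟨False, h', fun x a b => hboth x (by simpa using b) a, b₀, hb₀p, hb₀d, iff_false_intro hb₀⟩
  have hsome' : ∀ x : G, x ≠ 1 → Full A l T (cls x) ∨ Full A l (¬ T) (cls x) := by
    intro x hx
    by_cases hT' : T
    · rcases hsome x hx with a | a
      · exact Or.inl fun r h1 h2 h3 => a r h1 h2 (by tauto)
      · exact Or.inr fun r h1 h2 h3 => a r h1 h2 (by tauto)
    · rcases hsome x hx with a | a
      · exact Or.inr fun r h1 h2 h3 => a r h1 h2 (by tauto)
      · exact Or.inl fun r h1 h2 h3 => a r h1 h2 (by tauto)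
  have hrside : r ∣ l → (r ∈ A ↔ ¬ T) := by
    intro hrl
    by_contra hc
    have h1 : l.factorization r = 0 := (hT r hrp hrl (by tauto)).symm.trans (Nat.factorization_eq_zero_of_not_dvd hh₀d)
    have h2 := hrp.factorization_pos_of_dvd hl0 hrl
    omega
  set k := (Nat.card G).factorization r - l.factorization r with hk
  have hk0 : 0 < k := by omega
  have hCr : ∀ x : G, Full A l (¬ T) (cls x) → (Nat.card (centralizer ({x} : Set G))).factorization r = k := by
    intro x hx
    have h1 := valuation_centralizer r x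
    have h2 : (cls x).factorization r = l.factorization r := by
      by_cases hrl : r ∣ l
      · exact hx r hrp hrl (hrside hrl)
      · rw [Nat.factorization_eq_zero_of_not_dvd hrl,
          Nat.factorization_eq_zero_of_not_dvd fun h => hrl (h.trans (hdvdG x))]
    omega
  have hrq : r ≠ q := by rintro rfl; have := hrside hql; tauto
  haveI := Fact.mk hqp
  obtain ⟨Q, z, hzQ, hz1, -, hzd⟩ := exists_central_sylow (G := G) (r := q) (Nat.dvd_of_factorization_pos (by
    have := hlG q; have := hqp.factorization_pos_of_dvd hl0 hql; omega))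
  have hz : Full A l (¬ T) (cls z) := (hsome' z hz1).resolve_left fun h' => by
    have h1 := (h' q hqp hql hqT).symm.trans (Nat.factorization_eq_zero_of_not_dvd hzd)
    have h2 := hqp.factorization_pos_of_dvd hl0 hql
    omega
  have hzo : ∃ i, orderOf z = q ^ i := by
    obtain ⟨i, hi⟩ := IsPGroup.iff_orderOf.1 Q.isPGroup' ⟨z, hzQ⟩
    exact ⟨i, by rwa [orderOf_mk] at hi⟩
  obtain ⟨i, hi⟩ := hzo
  have hrC : r ∣ Nat.card (centralizer ({z} : Set G)) := Nat.dvd_of_factorization_pos (by rw [hCr z hz]; omega)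
  obtain ⟨⟨w, hwz⟩, hwo⟩ := exists_prime_orderOf_dvd_card' r hrC
  rw [orderOf_mk] at hwo
  have hzw : Commute z w := (show Commute w z from mem_centralizer_singleton_iff.1 hwz).symm
  have hco : (orderOf z).Coprime (orderOf w) := by
    rw [hi, hwo]; exact ((Nat.coprime_primes hqp hrp).2 hrq.symm).pow_left _
  have hzw1 : z * w ≠ 1 := mul_ne_one_of_coprime hz1 hco
  obtain ⟨d1, d2⟩ := cls_mul hzw hco
  have hfzw : Full A l (¬ T) (cls (z * w)) := hz.mono hl0 d1 (hdvdG _)
  have hw1 : w ≠ 1 := fun e => hrp.one_lt.ne' (by rw [← hwo, e, orderOf_one])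
  have hfw : Full A l (¬ T) (cls w) :=
    (hsome' w hw1).resolve_left fun h' => hTG _ (h'.mono hl0 d2 (hdvdG _)) hfzw
  have hle : centralizer ({z * w} : Set G) ≤ centralizer ({w} : Set G) := by
    rw [hzw.eq]; exact centralizer_mul_le hzw.symm hco.symm
  set C := centralizer ({w} : Set G) with hC
  set D := (centralizer ({z * w} : Set G)).subgroupOf C with hD
  obtain ⟨U⟩ := (inferInstance : Nonempty (Sylow r D))
  have hUcard : Nat.card ((U : Subgroup D).map D.subtype) = r ^ (Nat.card C).factorization r := by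
    rw [Subgroup.card_map_of_injective D.subtype_injective, U.card_eq_multiplicity,
      Nat.card_congr (Subgroup.subgroupOfEquivOfLe hle).toEquiv, hCr _ hfzw, hC, hCr _ hfw]
  let U' : Sylow r C := Sylow.ofCard ((U : Subgroup D).map D.subtype) hUcard
  -- a conjugate of `h₀` centralising `w`
  obtain ⟨V⟩ := (inferInstance : Nonempty (Sylow r C))
  obtain ⟨P', hP'⟩ := (V.isPGroup'.map C.subtype).exists_le_sylow
  obtain ⟨g, hg⟩ := MulAction.exists_smul_eq G P P'
  have hwC : w ∈ C := mem_centralizer_singleton_iff.2 rfl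
  have hwV : (⟨w, hwC⟩ : C) ∈ (V : Subgroup C) := by
    have hn : (zpowers (⟨w, hwC⟩ : C)).Normal := by
      refine ⟨fun y hy c => ?_⟩
      obtain ⟨j, rfl⟩ := hy
      have h1 : Commute c (⟨w, hwC⟩ : C) := Subtype.ext (mem_centralizer_singleton_iff.1 c.2)
      show c * (⟨w, hwC⟩ : C) ^ j * c⁻¹ ∈ zpowers _
      rw [(h1.zpow_right j).eq, mul_inv_cancel_right]
      exact zpow_mem (mem_zpowers _) j
    have hp : IsPGroup r (zpowers (⟨w, hwC⟩ : C)) := IsPGroup.of_card (n := 1) (by
      rw [Nat.card_zpowers, orderOf_mk, hwo, pow_one])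
    exact hp.le_sylow_of_normal V (mem_zpowers _)
  have hwP : g⁻¹ * w * g ∈ (P : Subgroup G) := by
    have h1 : w ∈ (P' : Subgroup G) := hP' ⟨_, hwV, rfl⟩
    rw [← hg, Sylow.coe_subgroup_smul, Subgroup.mem_pointwise_smul_iff_inv_smul_mem] at h1
    simpa [MulAut.conj] using h1
  set h1 := g * h₀ * g⁻¹ with hh1
  have hh1C : h1 ∈ C := by
    have h2 := mem_centralizer_singleton_iff.1 (hPle hwP)
    refine mem_centralizer_singleton_iff.2 ?_
    calc h1 * w = g * (h₀ * (g⁻¹ * w * g)) * g⁻¹ := by rw [hh1]; group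
      _ = g * ((g⁻¹ * w * g) * h₀) * g⁻¹ := by rw [h2]
      _ = w * h1 := by rw [hh1]; group
  obtain ⟨j, hj⟩ : ∃ j, orderOf h1 = r ^ j := by
    obtain ⟨j, hj⟩ := IsPGroup.iff_orderOf.1 P.isPGroup' ⟨h₀, hh₀P⟩
    rw [orderOf_mk] at hj
    exact ⟨j, (orderOf_injective (MulAut.conj g).toMonoidHom (MulAut.conj g).injective h₀).trans hj⟩
  have hzp : IsPGroup r (zpowers (⟨h1, hh1C⟩ : C)) := IsPGroup.of_card (n := j) (by
    rw [Nat.card_zpowers, orderOf_mk, hj])
  obtain ⟨V', hV'⟩ := hzp.exists_le_sylow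
  obtain ⟨c, hc⟩ := MulAction.exists_smul_eq C V' U'
  have h2 : c * (⟨h1, hh1C⟩ : C) * c⁻¹ ∈ D := by
    have h3 : c * (⟨h1, hh1C⟩ : C) * c⁻¹ ∈ (U' : Subgroup C) := by
      rw [← hc, Sylow.coe_subgroup_smul, Subgroup.mem_pointwise_smul_iff_inv_smul_mem]
      have h4 := hV' (mem_zpowers _)
      simpa [MulAut.conj, mul_assoc] using h4
    obtain ⟨u, -, hu⟩ := h3
    exact hu ▸ u.2
  set h' := (c : G) * h1 * (c : G)⁻¹ with hh'
  have hh'z : Commute h' z := by
    have h3 : h' ∈ centralizer ({z} : Set G) := centralizer_mul_le hzw hco (Subgroup.mem_subgroupOf.1 h2)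
    exact mem_centralizer_singleton_iff.1 h3
  have hfh' : Full A l T (cls h') := by rw [hh', cls_conj, hh1, cls_conj]; exact hT
  have hco' : (orderOf h').Coprime (orderOf z) := by
    rw [hh', show orderOf ((c : G) * h1 * (c : G)⁻¹) = orderOf h1 from
      orderOf_injective (MulAut.conj (c : G)).toMonoidHom (MulAut.conj (c : G)).injective h1, hj, hi]
    exact (Nat.coprime_primes hrp hqp |>.2 hrq).pow _ _
  obtain ⟨e1, e2⟩ := cls_mul hh'z hco'
  exact hTG (h' * z) (hfh'.mono hl0 e1 (hdvdG _)) (hz.mono hl0 e2 (hdvdG _))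

end Cfsg.Agent.S4184
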