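import Cfsg.Statements.S4186
import Mathlib.GroupTheory.PGroup
import Mathlib.Tactic.Group

set_option autoImplicit false
set_option linter.style.haveILetI false

set_option autoImplicit false
open Cfsg

namespace Cfsg.Agent.S4186

/-- Let T and X be subgroups of a group with T a finite 2-group normalizing X but not centralizing it. Then some element of T inverts some non-identity element of X under conjugation. -/
theorem result {G : Type*} [Group G] (T X : Subgroup G) [Finite ↥T] (hT : IsPGroup 2 ↥T) (hTN : T ≤ Subgroup.normalizer (X : Set G)) (hTC : ¬ T ≤ Subgroup.centralizer (X : Set G)) : ∃ t ∈ T, ∃ x ∈ X, x ≠ 1 ∧ t * x * t⁻¹ = x⁻¹ := by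
  classical
  obtain ⟨t, ht, htC, ht2⟩ : ∃ t ∈ T, t ∉ Subgroup.centralizer (X : Set G) ∧
      t * t ∈ Subgroup.centralizer (X : Set G) := by
    obtain ⟨t₀, ht₀, ht₀C⟩ := SetLike.not_le_iff_exists.1 hTC
    obtain ⟨n, hn⟩ := hT ⟨t₀, ht₀⟩
    have hn' : t₀ ^ 2 ^ n = 1 := by simpa using congrArg Subtype.val hn
    have hex : ∃ i, t₀ ^ 2 ^ i ∈ Subgroup.centralizer (X : Set G) := ⟨n, by rw [hn']; exact one_mem _⟩
    set i := Nat.find hex with hi
    have hspec := Nat.find_spec hex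
    have hi0 : i ≠ 0 := by
      intro h0
      rw [← hi, h0, pow_zero, pow_one] at hspec
      exact ht₀C hspec
    refine ⟨t₀ ^ 2 ^ (i - 1), T.pow_mem ht₀ _, Nat.find_min hex (by omega), ?_⟩
    rw [← pow_add, ← two_mul, ← pow_succ', show i - 1 + 1 = i by omega]
    exact hspec
  obtain ⟨x, hx, hne⟩ : ∃ x ∈ X, x * t ≠ t * x := by
    by_contra hcon
    exact htC (Subgroup.mem_centralizer_iff.2 fun h hh => by
      by_contra hne
      exact hcon ⟨h, hh, hne⟩)
  refine ⟨t, ht, x⁻¹ * (t * x * t⁻¹), X.mul_mem (X.inv_mem hx)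
    ((Subgroup.mem_normalizer_iff.1 (hTN ht) x).1 hx), ?_, ?_⟩
  · intro h
    rw [inv_mul_eq_one] at h
    exact hne (eq_mul_inv_iff_mul_eq.1 h)
  · have h2 := Subgroup.mem_centralizer_iff.1 ht2 x hx
    calc t * (x⁻¹ * (t * x * t⁻¹)) * t⁻¹ = t * x⁻¹ * t⁻¹ * (t * t * x * (t * t)⁻¹) := by group
      _ = t * x⁻¹ * t⁻¹ * x := by rw [← h2, mul_inv_cancel_right]
      _ = (x⁻¹ * (t * x * t⁻¹))⁻¹ := by group

end Cfsg.Agent.S4186
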