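import Cfsg.Statements.S4188
import Mathlib
import Cfsg.Agent.Lib.TwoGroups.NormalFour

set_option autoImplicit false
set_option linter.style.haveILetI false

namespace Cfsg.Agent.S4188

open Cfsg.Agent

universe u

/-- The subgroup generated by the squares. -/
def Sq (P : Type*) [Group P] : Subgroup P := Subgroup.closure (Set.range fun x : P => x ^ 2)

/-- Its index. -/
noncomputable def sIdx (P : Type*) [Group P] : ℕ := (Sq P).index

lemma sq_mem {P : Type*} [Group P] (x : P) : x ^ 2 ∈ Sq P := Subgroup.subset_closure ⟨x, rfl⟩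

lemma map_sq_le {P Q : Type*} [Group P] [Group Q] (f : P →* Q) : (Sq P).map f ≤ Sq Q := by
  rw [Subgroup.map_le_iff_le_comap, Sq, Subgroup.closure_le]
  rintro _ ⟨x, rfl⟩
  show f (x ^ 2) ∈ Sq Q
  rw [map_pow]
  exact sq_mem _

lemma map_sq_eq {P Q : Type*} [Group P] [Group Q] {f : P →* Q} (hf : Function.Surjective f) :
    (Sq P).map f = Sq Q := by
  refine le_antisymm (map_sq_le f) ?_
  rw [Sq, Subgroup.closure_le]
  rintro _ ⟨y, rfl⟩
  obtain ⟨x, rfl⟩ := hf y
  exact ⟨x ^ 2, sq_mem x, map_pow f x 2⟩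

instance sq_normal {P : Type*} [Group P] : (Sq P).Normal := ⟨fun x hx g => by
  have h := map_sq_le (MulAut.conj g).toMonoidHom
  exact h ⟨x, hx, rfl⟩⟩

lemma sIdx_hom_mul {P Q : Type*} [Group P] [Finite P] [Group Q] (f : P →* Q) :
    sIdx P ≤ sIdx f.range * sIdx f.ker := by
  have h1 : (Sq P ⊔ f.ker).index = sIdx f.range := by
    rw [sIdx, ← map_sq_eq f.rangeRestrict_surjective, Subgroup.index_map, MonoidHom.ker_rangeRestrict,
      MonoidHom.range_eq_top.2 f.rangeRestrict_surjective, Subgroup.index_top, mul_one]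
  have h2 := Subgroup.relIndex_mul_index (le_sup_left : Sq P ≤ Sq P ⊔ f.ker)
  rw [Subgroup.relIndex_sup_left] at h2
  have h3 : (Sq P).relIndex f.ker ≤ sIdx f.ker := by
    refine Nat.le_of_dvd (Nat.pos_of_ne_zero Subgroup.index_ne_zero_of_finite) ?_
    show ((Sq P).subgroupOf f.ker).index ∣ (Sq f.ker).index
    exact Subgroup.index_dvd_of_le (Subgroup.map_le_iff_le_comap.1 (map_sq_le f.ker.subtype))
  calc sIdx P = (Sq P).relIndex f.ker * (Sq P ⊔ f.ker).index := h2.symm
    _ ≤ sIdx f.ker * sIdx f.range := by rw [h1]; exact Nat.mul_le_mul_right _ h3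
    _ = _ := mul_comm _ _

lemma sIdx_index {P : Type*} [Group P] [Finite P] (M : Subgroup P) : sIdx P ≤ M.index * sIdx M := by
  have h := Subgroup.index_antitone (map_sq_le M.subtype)
  rw [Subgroup.index_map_subtype] at h
  rw [mul_comm]
  exact h

lemma frattini_index_le {P : Type*} [Group P] [Finite P] (hP : IsPGroup 2 P) :
    (frattini P).index ≤ sIdx P := by
  haveI : Fact (Nat.Prime 2) := ⟨Nat.prime_two⟩
  haveI := hP.isNilpotent
  have hle : Sq P ≤ frattini P := by
    rw [frattini, Order.radical]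
    refine le_iInf₂ fun M hM => ?_
    haveI := Subgroup.NormalizerCondition.normal_of_coatom M Group.normalizerCondition_of_isNilpotent hM
    have hne : M ≠ ⊤ := hM.1
    haveI : Nontrivial (P ⧸ M) := by
      rw [← Finite.one_lt_card_iff_nontrivial, ← Subgroup.index_eq_card]
      exact (Nat.one_lt_iff_ne_zero_and_ne_one).2 ⟨Subgroup.index_ne_zero_of_finite,
        fun h => hne (Subgroup.index_eq_one.1 h)⟩
    obtain ⟨z, -, hz, hzc⟩ := NormalFour.exists_central_mem (hP.to_quotient M)
      (N := (⊤ : Subgroup (P ⧸ M))) top_ne_bot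
    set L := (Subgroup.zpowers z).comap (QuotientGroup.mk' M)
    have hML : M < L := by
      refine lt_of_le_of_ne (fun x hx => by
        show QuotientGroup.mk' M x ∈ Subgroup.zpowers z
        rw [QuotientGroup.mk'_apply, (QuotientGroup.eq_one_iff x).2 hx]; exact one_mem _) fun h => ?_
      have h1 : L.map (QuotientGroup.mk' M) = ⊥ := by rw [← h]; exact QuotientGroup.map_mk'_self M
      rw [Subgroup.map_comap_eq_self_of_surjective (QuotientGroup.mk'_surjective M),
        Subgroup.zpowers_eq_bot] at h1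
      rw [h1, orderOf_one] at hz
      exact absurd hz (by norm_num)
    have hLt : L = ⊤ := hM.2 L hML
    rw [Sq, Subgroup.closure_le]
    rintro _ ⟨x, rfl⟩
    have hx : x ∈ L := hLt ▸ Subgroup.mem_top x
    obtain ⟨k, hk⟩ := (Subgroup.mem_comap.1 hx)
    show x ^ 2 ∈ M
    rw [← QuotientGroup.eq_one_iff]
    show QuotientGroup.mk' M (x ^ 2) = 1
    rw [map_pow, ← hk, ← zpow_natCast, ← zpow_mul, mul_comm k, zpow_mul, zpow_natCast, ← hz,
      pow_orderOf_eq_one, one_zpow]
  exact Subgroup.index_antitone hle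

lemma sIdx_comm_le {B : Type*} [Group B] [Finite B] (hB : ∀ a b : B, a * b = b * a) {k : ℕ}
    (h : Nat.card {b : B // b ^ 2 = 1} ≤ k) : sIdx B ≤ k := by
  letI : CommGroup B := { (inferInstance : Group B) with mul_comm := hB }
  have hle : (powMonoidHom 2 : B →* B).range ≤ Sq B := by
    rintro _ ⟨b, rfl⟩
    exact sq_mem b
  refine (Subgroup.index_antitone hle).trans ?_
  have h1 := (powMonoidHom 2 : B →* B).range.card_mul_index
  have h2 := (powMonoidHom 2 : B →* B).ker.card_mul_index
  rw [Subgroup.index_ker] at h2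
  have h3 : Nat.card (powMonoidHom 2 : B →* B).ker = Nat.card {b : B // b ^ 2 = 1} := rfl
  rw [← h2, mul_comm (Nat.card (powMonoidHom 2 : B →* B).ker)] at h1
  rw [Nat.eq_of_mul_eq_mul_left Nat.card_pos h1, h3]
  exact h

lemma sIdx_cyclic_le {A : Type*} [Group A] [Finite A] [IsCyclic A] : sIdx A ≤ 2 := by
  classical
  letI := Fintype.ofFinite A
  refine sIdx_comm_le (fun a b => mul_comm' a b) ?_
  rw [Nat.card_eq_fintype_card, Fintype.card_subtype]
  exact IsCyclic.card_pow_eq_one_le two_pos

/-- Restriction of an action to an invariant subgroup. -/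
def restr {V : Type*} [Group V] {P : Type*} [Group P] (ρ : P →* MulAut V) (W : Subgroup V)
    (hW : ∀ g : P, ∀ v ∈ W, ρ g v ∈ W) : P →* MulAut W where
  toFun g :=
    { toFun := fun v => ⟨ρ g v, hW g v v.2⟩
      invFun := fun v => ⟨ρ g⁻¹ v, hW g⁻¹ v v.2⟩
      left_inv := fun v => Subtype.ext (by simp)
      right_inv := fun v => Subtype.ext (by simp)
      map_mul' := fun a b => Subtype.ext (map_mul (ρ g) (a : V) b) }
  map_one' := by
    ext v
    simp
  map_mul' g h := by
    ext v
    simp

lemma restr_apply {V : Type*} [Group V] {P : Type*} [Group P] (ρ : P →* MulAut V) (W : Subgroup V)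
    (hW : ∀ g : P, ∀ v ∈ W, ρ g v ∈ W) (g : P) (v : W) : ((restr ρ W hW g v : W) : V) = ρ g v := rfl

lemma mem_ker_restr {V : Type*} [Group V] {P : Type*} [Group P] (ρ : P →* MulAut V) (W : Subgroup V)
    (hW : ∀ g : P, ∀ v ∈ W, ρ g v ∈ W) {g : P} (hg : g ∈ (restr ρ W hW).ker) {v : V} (hv : v ∈ W) :
    ρ g v = v :=
  congrArg Subtype.val (MulEquiv.congr_fun (MonoidHom.mem_ker.1 hg) ⟨v, hv⟩)

/-- The action on the quotient by an invariant subgroup. -/
def quo {V : Type*} [CommGroup V] {P : Type*} [Group P] (ρ : P →* MulAut V) (W : Subgroup V)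
    (hW : ∀ g : P, ∀ v ∈ W, ρ g v ∈ W) : P →* MulAut (V ⧸ W) where
  toFun g := QuotientGroup.congr W W (ρ g) (le_antisymm
    (by rintro _ ⟨v, hv, rfl⟩; exact hW g v hv)
    (fun v hv => ⟨ρ g⁻¹ v, hW g⁻¹ v hv, by simp⟩))
  map_one' := by
    ext v
    induction v using QuotientGroup.induction_on with
    | H v => simp
  map_mul' g h := by
    ext v
    induction v using QuotientGroup.induction_on with
    | H v => simp

lemma quo_injective_on {V : Type*} [CommGroup V] [Finite V] (hV : Odd (Nat.card V)) {P : Type*}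
    [Group P] [Finite P] (hP : IsPGroup 2 P) (ρ : P →* MulAut V) (hρ : Function.Injective ρ)
    (W : Subgroup V) (hW : ∀ g : P, ∀ v ∈ W, ρ g v ∈ W) :
    Function.Injective ((quo ρ W hW).comp (restr ρ W hW).ker.subtype) := by
  rw [injective_iff_map_eq_one]
  intro g hg
  apply Subtype.ext
  show (g : P) = 1
  apply hρ
  rw [map_one]
  ext v
  have h1 : (v⁻¹ * ρ (g : P) v) ∈ W := by
    have := MulEquiv.congr_fun hg (QuotientGroup.mk v)
    change QuotientGroup.mk (ρ (g : P) v) = (QuotientGroup.mk v : V ⧸ W) at this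
    exact QuotientGroup.eq.1 this.symm
  set x := v⁻¹ * ρ (g : P) v with hx
  have h2 : ρ (g : P) x = x := mem_ker_restr ρ W hW g.2 h1
  have hv : ρ (g : P) v = v * x := by rw [hx, mul_inv_cancel_left]
  have h3 : ∀ n : ℕ, ρ ((g : P) ^ n) v = v * x ^ n := by
    intro n
    induction n with
    | zero => simp
    | succ n ih =>
      rw [pow_succ', map_mul, MulAut.mul_apply, ih, map_mul, map_pow (ρ (g : P)), h2, hv, pow_succ',
        mul_assoc]
  obtain ⟨k, hk⟩ := IsPGroup.iff_orderOf.1 hP (g : P)
  have h4 : x ^ 2 ^ k = 1 := by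
    have := h3 (2 ^ k)
    rw [← hk, pow_orderOf_eq_one, map_one, MulAut.one_apply] at this
    rw [← hk]
    exact left_eq_mul.1 this
  have h5 : orderOf x = 1 := by
    have hcop : (2 ^ k).Coprime (Nat.card V) := (Nat.coprime_two_left.2 hV).pow_left k
    exact Nat.eq_one_of_dvd_one (hcop.gcd_eq_one ▸ Nat.dvd_gcd (orderOf_dvd_of_pow_eq_one h4)
      (orderOf_dvd_natCard x))
  show ρ (g : P) v = v
  rw [hv, orderOf_eq_one_iff.1 h5, mul_one]

/-- The bound. -/
def B (v : ℕ) : ℕ := if v = 3 then 2 else (v - 1) / 2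

lemma B_mul {a b : ℕ} (ha : Odd a) (hb : Odd b) (ha1 : 1 < a) (hb1 : 1 < b) : B a * B b ≤ B (a * b) := by
  obtain ⟨i, rfl⟩ := ha
  obtain ⟨j, rfl⟩ := hb
  have e : (2 * i + 1) * (2 * j + 1) = 2 * (2 * (i * j) + i + j) + 1 := by ring
  have hv : B ((2 * i + 1) * (2 * j + 1)) = 2 * (i * j) + i + j := by
    have h3 : (2 * i + 1) * (2 * j + 1) ≠ 3 := by
      have h := Nat.mul_le_mul (show 3 ≤ 2 * i + 1 by omega) (show 3 ≤ 2 * j + 1 by omega)
      omega
    rw [B, if_neg h3, e]; omega
  rw [hv]
  unfold B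
  split_ifs with h1 h2 h2
  · have : i = 1 := by omega
    have : j = 1 := by omega
    subst i j; norm_num
  · have : i = 1 := by omega
    subst i
    rw [show (2 * j + 1 - 1) / 2 = j by omega]; omega
  · have : j = 1 := by omega
    subst j
    rw [show (2 * i + 1 - 1) / 2 = i by omega]; omega
  · rw [show (2 * j + 1 - 1) / 2 = j by omega, show (2 * i + 1 - 1) / 2 = i by omega]; omega

theorem bound (n : ℕ) : ∀ {V : Type u} [CommGroup V] [Finite V] {P : Type u} [Group P] [Finite P],
    Nat.card V = n → IsPGroup 2 P → Odd n → 1 < n → ∀ ρ : P →* MulAut V, Function.Injective ρ →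
      sIdx P ≤ B n := by
  induction n using Nat.strong_induction_on with
  | _ n ih =>
  intro V _ _ P _ _ hn hP hodd h1 ρ hρ
  haveI : Fact (Nat.Prime 2) := ⟨Nat.prime_two⟩
  have hB1 : 1 ≤ B n := by
    unfold B; obtain ⟨i, rfl⟩ := hodd; split_ifs <;> omega
  by_cases hinv : ∃ W : Subgroup V, (∀ g : P, ∀ v ∈ W, ρ g v ∈ W) ∧ W ≠ ⊥ ∧ W ≠ ⊤
  · obtain ⟨W, hW, hW1, hW2⟩ := hinv
    have hmul : Nat.card W * Nat.card (V ⧸ W) = n := by
      rw [← Subgroup.index_eq_card, W.card_mul_index, hn]
    have ha : 1 < Nat.card W := W.one_lt_card_iff_ne_bot.2 hW1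
    have hb : 1 < Nat.card (V ⧸ W) := by
      rw [← Subgroup.index_eq_card]
      exact (Nat.one_lt_iff_ne_zero_and_ne_one).2 ⟨Subgroup.index_ne_zero_of_finite,
        fun h => hW2 (Subgroup.index_eq_one.1 h)⟩
    rw [← hmul, Nat.odd_mul] at hodd
    have hl1 : Nat.card W < n := hmul ▸ lt_mul_right (by omega) hb
    have hl2 : Nat.card (V ⧸ W) < n := hmul ▸ lt_mul_left (by omega) ha
    refine (sIdx_hom_mul (restr ρ W hW)).trans ?_
    rw [← hmul]
    refine (Nat.mul_le_mul ?_ ?_).trans (B_mul hodd.1 hodd.2 ha hb)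
    · exact ih _ hl1 rfl (hP.of_surjective _ (restr ρ W hW).rangeRestrict_surjective) hodd.1 ha
        (restr ρ W hW).range.subtype (Subgroup.subtype_injective _)
    · exact ih _ hl2 rfl (hP.to_subgroup _) hodd.2 hb _
        (quo_injective_on (hn.symm ▸ hmul ▸ hodd.1.mul hodd.2) hP ρ hρ W hW)
  push Not at hinv
  have hVodd : Odd (Nat.card V) := hn.symm ▸ hodd
  have hsq1 : ∀ v : V, v ^ 2 = 1 → v = 1 := fun v hv => by
    rw [← orderOf_eq_one_iff]
    exact Nat.eq_one_of_dvd_one ((Nat.coprime_two_left.2 hVodd).gcd_eq_one ▸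
      Nat.dvd_gcd (orderOf_dvd_of_pow_eq_one hv) (orderOf_dvd_natCard v))
  have hord : ∀ x : P, orderOf x = 2 → ∀ v, ρ x (ρ x v) = v := fun x hx v => by
    rw [← MulAut.mul_apply, ← map_mul, ← pow_two, ← hx, pow_orderOf_eq_one, map_one, MulAut.one_apply]
  -- a central involution acts by inversion
  have hcent : ∀ x : P, orderOf x = 2 → x ∈ Subgroup.center P → ∀ v, ρ x v = v⁻¹ := by
    intro x hx hxc
    let W : Subgroup V :=
      { carrier := {v | ρ x v = v}
        one_mem' := map_one _
        mul_mem' := fun {a b} ha hb => by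
          show ρ x (a * b) = a * b
          rw [map_mul, show ρ x a = a from ha, show ρ x b = b from hb]
        inv_mem' := fun {a} ha => by
          show ρ x a⁻¹ = a⁻¹
          rw [map_inv, show ρ x a = a from ha] }
    have hW : ∀ g : P, ∀ v ∈ W, ρ g v ∈ W := fun g v hv => by
      show ρ x (ρ g v) = ρ g v
      rw [← MulAut.mul_apply, ← map_mul, ← Subgroup.mem_center_iff.1 hxc g, map_mul, MulAut.mul_apply,
        show ρ x v = v from hv]
    have hWb : W = ⊥ := by
      by_contra h
      have htop := hinv W hW h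
      have hx1 : x = 1 := hρ (by
        rw [map_one]; ext v
        exact (htop.symm ▸ Subgroup.mem_top v : v ∈ W))
      rw [hx1, orderOf_one] at hx
      exact absurd hx (by norm_num)
    intro v
    have hv : v * ρ x v ∈ W := by
      show ρ x (v * ρ x v) = v * ρ x v
      rw [map_mul, hord x hx v, mul_comm]
    rw [hWb, Subgroup.mem_bot] at hv
    exact eq_inv_of_mul_eq_one_right hv
  have huniq : ∀ x y : P, orderOf x = 2 → orderOf y = 2 → x ∈ Subgroup.center P → y ∈ Subgroup.center P →
      x = y := fun x y hx hy hxc hyc => hρ (by ext v; rw [hcent x hx hxc, hcent y hy hyc])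
  by_cases hfour : ∃ U : Subgroup P, U.Normal ∧ Nat.card U = 4 ∧ ∀ u ∈ U, u * u = 1
  · obtain ⟨U, hUn, hU, hU2⟩ := hfour
    haveI := hUn
    have hUne : U ≠ ⊥ := fun h => by rw [h, Subgroup.card_bot] at hU; omega
    obtain ⟨z, hzU, hz, hzc⟩ := NormalFour.exists_central_mem hP hUne
    obtain ⟨e, heU, hez⟩ : ∃ e ∈ U, e ∉ Subgroup.zpowers z := by
      by_contra h
      push Not at h
      have := Subgroup.card_le_of_le h
      rw [Nat.card_zpowers, hz, hU] at this
      omega
    have he1 : e ≠ 1 := fun h => hez (h ▸ one_mem _)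
    have he : orderOf e = 2 := orderOf_eq_prime (by rw [pow_two, hU2 e heU]) he1
    have hec : e ∉ Subgroup.center P := fun h => hez (huniq e z he hz h hzc ▸ Subgroup.mem_zpowers z)
    have hUelts : ∀ u ∈ U, u = 1 ∨ u = z ∨ u = e ∨ u = e * z := by
      classical
      intro u hu
      by_contra hne
      push Not at hne
      obtain ⟨h1, h2, h3, h4⟩ := hne
      have hne' : e ≠ z := fun h => hez (h ▸ Subgroup.mem_zpowers z)
      have hz1 : z ≠ 1 := fun h => by rw [h, orderOf_one] at hz; omega
      have hinv2 : ∀ w ∈ U, w⁻¹ = w := fun w hw => inv_eq_of_mul_eq_one_right (hU2 w hw)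
      have h5 : e * z ≠ 1 := fun h => hne' (by rw [eq_inv_of_mul_eq_one_left h, hinv2 z hzU])
      have hsub : ({1, z, e, e * z, u} : Finset P) ⊆ (Set.toFinite (U : Set P)).toFinset := by
        intro w hw
        simp only [Finset.mem_insert, Finset.mem_singleton] at hw
        simp only [Set.Finite.mem_toFinset, SetLike.mem_coe]
        rcases hw with rfl | rfl | rfl | rfl | rfl
        exacts [one_mem _, hzU, heU, mul_mem heU hzU, hu]
      have hc := Finset.card_le_card hsub
      rw [← Nat.card_eq_card_finite_toFinset, show Nat.card (U : Set P) = Nat.card U from rfl, hU] at hc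
      rw [Finset.card_insert_of_notMem, Finset.card_insert_of_notMem, Finset.card_insert_of_notMem,
        Finset.card_insert_of_notMem, Finset.card_singleton] at hc
      · omega
      all_goals simp [he1, he1.symm, hne', hne'.symm, hz1, hz1.symm, h5, h5.symm, h1.symm, h2.symm, h3.symm, h4.symm]
    set M := Subgroup.centralizer ({e} : Set P) with hM
    have hout : ∀ g, g ∉ M → g * e * g⁻¹ = e * z := by
      intro g hg
      rcases hUelts _ (hUn.conj_mem e heU g) with h | h | h | h
      · exact absurd (conj_eq_one_iff.1 h) he1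
      · exfalso
        have h' : e = g⁻¹ * z * g := by rw [← h]; group
        rw [mul_assoc, ← Subgroup.mem_center_iff.1 hzc g, inv_mul_cancel_left] at h'
        exact hez (h' ▸ Subgroup.mem_zpowers z)
      · exact absurd (Subgroup.mem_centralizer_singleton_iff.2 (mul_inv_eq_iff_eq_mul.1 h)) hg
      · exact h
    obtain ⟨g₀, hg₀⟩ : ∃ g, g ∉ M := by
      by_contra h
      push Not at h
      exact hec (Subgroup.mem_center_iff.2 fun g => Subgroup.mem_centralizer_singleton_iff.1 (h g))
    have hprod : ∀ a b, a ∉ M → b ∉ M → a⁻¹ * b ∈ M := fun a b ha hb => by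
      rw [hM, Subgroup.mem_centralizer_singleton_iff]
      have h1 := hout a ha
      rw [← hout b hb] at h1
      calc a⁻¹ * b * e = a⁻¹ * (b * e * b⁻¹) * b := by group
        _ = a⁻¹ * (a * e * a⁻¹) * b := by rw [h1]
        _ = e * (a⁻¹ * b) := by group
    have hidx : M.index ≤ 2 := by
      rw [Subgroup.index_eq_card]
      refine (Nat.card_le_card_of_surjective
        (fun c : Bool => (QuotientGroup.mk (if c then g₀ else 1) : P ⧸ M)) ?_).trans (by simp)
      intro q
      induction q using QuotientGroup.induction_on with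
      | H b =>
        by_cases hb : b ∈ M
        · exact ⟨false, QuotientGroup.eq.2 (by simpa using hb)⟩
        · exact ⟨true, QuotientGroup.eq.2 (by simpa using hprod g₀ b hg₀ hb)⟩
    -- the two eigen-subgroups of `e`
    set V₁ : Subgroup V :=
      { carrier := {v | ρ e v = v}
        one_mem' := map_one _
        mul_mem' := fun {a b} ha hb => by
          show ρ e (a * b) = a * b
          rw [map_mul, show ρ e a = a from ha, show ρ e b = b from hb]
        inv_mem' := fun {a} ha => by
          show ρ e a⁻¹ = a⁻¹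
          rw [map_inv, show ρ e a = a from ha] } with hV₁
    set V₂ : Subgroup V :=
      { carrier := {v | ρ e v = v⁻¹}
        one_mem' := by simp
        mul_mem' := fun {a b} ha hb => by
          show ρ e (a * b) = (a * b)⁻¹
          rw [map_mul, show ρ e a = a⁻¹ from ha, show ρ e b = b⁻¹ from hb, mul_inv]
        inv_mem' := fun {a} ha => by
          show ρ e a⁻¹ = a⁻¹⁻¹
          rw [map_inv, show ρ e a = a⁻¹ from ha] } with hV₂
    have hMinv : ∀ g ∈ M, ∀ v, ρ e (ρ g v) = ρ g (ρ e v) := fun g hg v => by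
      rw [← MulAut.mul_apply, ← map_mul, ← Subgroup.mem_centralizer_singleton_iff.1 hg, map_mul,
        MulAut.mul_apply]
    have hi1 : ∀ g : M, ∀ v ∈ V₁, (ρ.comp M.subtype) g v ∈ V₁ := fun g v hv => by
      show ρ e (ρ (g : P) v) = ρ (g : P) v
      rw [hMinv g g.2, show ρ e v = v from hv]
    have hi2 : ∀ g : M, ∀ v ∈ V₂, (ρ.comp M.subtype) g v ∈ V₂ := fun g v hv => by
      show ρ e (ρ (g : P) v) = (ρ (g : P) v)⁻¹
      rw [hMinv g g.2, show ρ e v = v⁻¹ from hv, map_inv]
    have hgen : ∀ v : V, ∃ a ∈ V₁, ∃ b ∈ V₂, v = a * b := by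
      intro v
      obtain ⟨w, rfl⟩ : ∃ w, w ^ 2 = v := by
        refine ⟨v ^ ((Nat.card V + 1) / 2), ?_⟩
        obtain ⟨i, hi⟩ := hVodd
        rw [← pow_mul, show (Nat.card V + 1) / 2 * 2 = Nat.card V + 1 by omega, pow_succ,
          pow_card_eq_one', one_mul]
      refine ⟨w * ρ e w, ?_, w * (ρ e w)⁻¹, ?_, ?_⟩
      · show ρ e (w * ρ e w) = w * ρ e w
        rw [map_mul, hord e he w, mul_comm]
      · show ρ e (w * (ρ e w)⁻¹) = (w * (ρ e w)⁻¹)⁻¹
        rw [map_mul, map_inv, hord e he w, mul_inv, inv_inv, mul_comm]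
      · rw [pow_two, mul_mul_mul_comm, mul_inv_cancel, mul_one]
    have hmeet : ∀ v ∈ V₁, v ∈ V₂ → v = 1 := fun v h1 h2 => hsq1 v (by
      have h : v = v⁻¹ := (show ρ e v = v from h1).symm.trans h2
      rw [pow_two]
      nth_rewrite 2 [h]
      exact mul_inv_cancel v)
    have hcardV : Nat.card V₁ * Nat.card V₂ = n := by
      rw [← Nat.card_prod, ← hn]
      refine Nat.card_eq_of_bijective (fun x : V₁ × V₂ => (x.1 : V) * x.2) ⟨?_, ?_⟩
      · rintro ⟨a, b⟩ ⟨a', b'⟩ h
        have h' : (a'⁻¹ * a : V₁) = (1 : V₁) := Subtype.ext (hmeet _ (a'⁻¹ * a).2 (by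
          have : ((a'⁻¹ * a : V₁) : V) = ((b' * b⁻¹ : V₂) : V) := by
            rw [Subgroup.coe_mul, Subgroup.coe_inv, Subgroup.coe_mul, Subgroup.coe_inv,
              inv_mul_eq_iff_eq_mul, ← mul_assoc, eq_mul_inv_iff_mul_eq]
            exact h
          rw [this]; exact (b' * b⁻¹).2))
        have ha : a' = a := inv_mul_eq_one.1 h'
        subst ha
        exact Prod.ext rfl (Subtype.ext (mul_left_cancel h))
      · intro v
        obtain ⟨a, ha, b, hb, rfl⟩ := hgen v
        exact ⟨(⟨a, ha⟩, ⟨b, hb⟩), rfl⟩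
    have hsw : ∀ g, g ∉ M → ∀ v, ρ e (ρ g v) = ρ g (ρ e v)⁻¹ := fun g hg v => by
      have hg' : g⁻¹ ∉ M := fun h => hg (inv_inv g ▸ inv_mem h)
      have h := hout _ hg'
      rw [inv_inv] at h
      have h' : e * g = g * (z * e) := by
        rw [← Subgroup.mem_center_iff.1 hzc e, ← h]; group
      rw [← MulAut.mul_apply, ← map_mul, h', map_mul, MulAut.mul_apply, map_mul, MulAut.mul_apply,
        hcent z hz hzc]
    have hg₀' : g₀⁻¹ ∉ M := fun h => hg₀ (inv_inv g₀ ▸ inv_mem h)
    have hceq : Nat.card V₂ = Nat.card V₁ := Nat.card_congr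
      { toFun := fun v => ⟨ρ g₀ v, by
          show ρ e (ρ g₀ v) = ρ g₀ v
          rw [hsw g₀ hg₀, show ρ e (v : V) = (v : V)⁻¹ from v.2, inv_inv]⟩
        invFun := fun v => ⟨ρ g₀⁻¹ v, by
          show ρ e (ρ g₀⁻¹ v) = (ρ g₀⁻¹ v)⁻¹
          rw [hsw _ hg₀', show ρ e (v : V) = (v : V) from v.2, map_inv]⟩
        left_inv := fun v => Subtype.ext (by simp)
        right_inv := fun v => Subtype.ext (by simp) }
    set a := Nat.card V₁ with ha
    rw [hceq] at hcardV
    have ha1 : 1 < a := by
      rcases Nat.lt_or_ge 1 a with h | h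
      · exact h
      · interval_cases a <;> omega
    have haodd : Odd a := by rw [← hcardV, Nat.odd_mul] at hodd; exact hodd.1
    have halt : a < n := hcardV ▸ lt_mul_right (by omega) ha1
    set f := restr (ρ.comp M.subtype) V₁ hi1 with hf
    have hK : Function.Injective ((restr (ρ.comp M.subtype) V₂ hi2).comp f.ker.subtype) := by
      rw [injective_iff_map_eq_one]
      intro g hg
      refine Subtype.ext (Subtype.ext (hρ ?_))
      show ρ ((g : M) : P) = ρ 1
      rw [map_one]
      ext v
      obtain ⟨x, hx, y, hy, rfl⟩ := hgen v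
      rw [map_mul, MulAut.one_apply]
      congr 1
      · exact mem_ker_restr (ρ.comp M.subtype) V₁ hi1 g.2 hx
      · exact mem_ker_restr (ρ.comp M.subtype) V₂ hi2 (g := (g : M)) hg hy
    by_cases ha3 : a = 3
    · rw [ha3] at hcardV
      subst hcardV
      have hc1 : Nat.card f.range ≤ 2 := by
        haveI : Fact (Nat.Prime 3) := ⟨Nat.prime_three⟩
        haveI : IsCyclic V₁ := isCyclic_of_prime_card ha3
        refine (Subgroup.card_le_card_group _).trans (le_of_eq ?_)
        rw [IsCyclic.card_mulAut, ← ha, ha3]; decide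
      have hc2 : Nat.card f.ker ≤ 2 := by
        haveI : Fact (Nat.Prime 3) := ⟨Nat.prime_three⟩
        haveI : IsCyclic V₂ := isCyclic_of_prime_card (hceq.trans ha3)
        refine (Nat.card_le_card_of_injective _ hK).trans (le_of_eq ?_)
        rw [IsCyclic.card_mulAut, hceq, ha3]; decide
      have hM4 : Nat.card M ≤ 4 := by
        rw [← f.ker.card_mul_index, Subgroup.index_ker]
        exact Nat.mul_le_mul hc2 hc1
      have hP8 : Nat.card P ≤ 8 := by
        rw [← M.card_mul_index]; exact Nat.mul_le_mul hM4 hidx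
      show sIdx P ≤ 4
      by_contra hgt
      push Not at hgt
      have hsq : Sq P = ⊥ := by
        rw [← Subgroup.card_eq_one]
        have h := (Sq P).card_mul_index
        have hpos : 0 < Nat.card (Sq P) := Nat.card_pos
        rw [sIdx] at hgt
        nlinarith
      have hx2 : ∀ x : P, x * x = 1 := fun x => by
        have := sq_mem x
        rwa [hsq, Subgroup.mem_bot, pow_two] at this
      refine hg₀ (Subgroup.mem_centralizer_singleton_iff.2 ?_)
      have hinv2 : ∀ x : P, x⁻¹ = x := fun x => inv_eq_of_mul_eq_one_right (hx2 x)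
      calc g₀ * e = (g₀ * e)⁻¹ := (hinv2 _).symm
        _ = e * g₀ := by rw [mul_inv_rev, hinv2, hinv2]
    · have hK' := ih a halt hceq (((hP.to_subgroup M).to_subgroup f.ker)) haodd ha1 _ hK
      have hR := ih a halt ha.symm ((hP.to_subgroup M).of_surjective _ f.rangeRestrict_surjective)
        haodd ha1 f.range.subtype (Subgroup.subtype_injective _)
      refine (sIdx_index M).trans ((Nat.mul_le_mul hidx ((sIdx_hom_mul f).trans (Nat.mul_le_mul hR hK'))).trans ?_)
      rw [← hcardV]
      obtain ⟨i, hi⟩ := haodd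
      have hBa : B a = i := by rw [B, if_neg ha3]; omega
      have hne : a * a ≠ 3 := fun h => by
        have h' := Nat.mul_le_mul (show 2 ≤ a by omega) (show 2 ≤ a by omega)
        omega
      rw [hBa, B, if_neg hne]
      have h1 : a * a = 2 * (2 * (i * i) + 2 * i) + 1 := by rw [hi]; ring
      rw [h1]
      omega
  -- no normal four subgroup
  haveI := hP.isNilpotent
  obtain ⟨A, hAn, hAc, hCA⟩ := OddOrder.Nilp.exists_normal_abelian_self_centralizing (G := P)
  haveI := hAn; haveI := hAc
  haveI hAcyc : IsCyclic A := by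
    letI : CommGroup A := { (inferInstance : Group A) with mul_comm := hAc.is_comm.comm }
    refine NormalFour.isCyclic_of_sqrt_le_two (hP.to_subgroup A) ?_
    by_contra hbig
    push Not at hbig
    set Ω := ((powMonoidHom 2 : A →* A).ker).map A.subtype with hΩ
    have hΩ2 : ∀ a ∈ Ω, a * a = 1 := by
      rintro _ ⟨a, ha, rfl⟩
      have : a ^ 2 = 1 := ha
      rw [pow_two] at this
      exact congrArg Subtype.val this
    haveI : Ω.Normal := ⟨by
      rintro _ ⟨a, ha, rfl⟩ g
      refine ⟨⟨g * a * g⁻¹, hAn.conj_mem _ a.2 g⟩, ?_, rfl⟩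
      show (⟨g * a * g⁻¹, _⟩ : A) ^ 2 = 1
      refine Subtype.ext ?_
      show (g * (a : P) * g⁻¹) ^ 2 = 1
      have : a ^ 2 = 1 := ha
      rw [conj_pow, show (a : P) ^ 2 = 1 from congrArg Subtype.val this, mul_one, mul_inv_cancel]⟩
    have hk4 : 4 ≤ Nat.card (powMonoidHom 2 : A →* A).ker := by
      obtain ⟨k, hk⟩ := IsPGroup.iff_card.1 ((hP.to_subgroup A).to_subgroup (powMonoidHom 2 : A →* A).ker)
      rw [hk] at hbig ⊢
      rcases k with _ | _ | k
      · norm_num at hbig
      · norm_num at hbig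
      · calc 4 = 2 ^ 2 := by norm_num
          _ ≤ _ := Nat.pow_le_pow_right two_pos (by omega)
    obtain ⟨U, hUn, hUle, hU⟩ := NormalFour.exists_normal_four_le hP (N := Ω) hΩ2
      (by rwa [hΩ, Subgroup.card_map_of_injective A.subtype_injective])
    exact hfour ⟨U, hUn, hU, fun v hv => hΩ2 v (hUle hv)⟩
  set φ : P →* MulAut A := MulAut.conjNormal
  have hker : φ.ker = A := by
    ext g
    rw [MonoidHom.mem_ker]
    constructor
    · intro hg
      rw [← hCA, Subgroup.mem_centralizer_iff]
      intro a ha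
      have := congrArg Subtype.val (MulEquiv.congr_fun hg ⟨a, ha⟩)
      change g * a * g⁻¹ = a at this
      exact (mul_inv_eq_iff_eq_mul.1 this).symm
    · intro hg
      ext a
      show g * a * g⁻¹ = a
      rw [setLike_mul_comm hg a.2, mul_inv_cancel_right]
  have hs2 : sIdx φ.ker ≤ 2 := by
    haveI : IsCyclic φ.ker := hker.symm ▸ hAcyc
    exact sIdx_cyclic_le
  have hprime : n.Prime → sIdx P ≤ B n := by
    intro hpr
    haveI := Fact.mk hpr
    haveI : IsCyclic V := isCyclic_of_prime_card hn
    obtain ⟨c, hc⟩ := IsCyclic.exists_generator (α := V)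
    have hcomm : ∀ x y : P, x * y = y * x := by
      intro x y
      apply hρ
      rw [map_mul, map_mul]
      ext v
      obtain ⟨k, rfl⟩ := hc v
      obtain ⟨i, hi⟩ := hc (ρ x c)
      obtain ⟨j, hj⟩ := hc (ρ y c)
      simp only at hi hj
      rw [MulAut.mul_apply, MulAut.mul_apply, map_zpow, map_zpow, map_zpow, map_zpow, ← hi, ← hj,
        map_zpow, map_zpow, ← hi, ← hj, ← zpow_mul, ← zpow_mul, ← zpow_mul, ← zpow_mul]
      congr 1
      ring
    have hA : A = ⊤ := by
      rw [← hCA, eq_top_iff]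
      intro g _
      exact Subgroup.mem_centralizer_iff.2 fun a _ => hcomm a g
    haveI : IsCyclic P := by
      subst hA; exact Subgroup.topEquiv.isCyclic.1 hAcyc
    refine sIdx_cyclic_le.trans ?_
    unfold B
    split_ifs with h3
    · rfl
    · obtain ⟨i, hi⟩ := hodd; omega
  have hs4 : sIdx φ.range ≤ 4 := by
    classical
    obtain ⟨a, ha⟩ := IsCyclic.exists_generator (α := A)
    have hext : ∀ α β : MulAut A, α a = β a → α = β := by
      intro α β h
      ext x
      obtain ⟨k, rfl⟩ := ha x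
      show (α (a ^ k) : P) = β (a ^ k)
      rw [map_zpow, map_zpow, h]
    have hcomm : ∀ α β : MulAut A, α * β = β * α := by
      intro α β
      refine hext _ _ ?_
      obtain ⟨i, hi⟩ := ha (α a)
      obtain ⟨j, hj⟩ := ha (β a)
      simp only at hi hj
      rw [MulAut.mul_apply, MulAut.mul_apply, ← hi, ← hj, map_zpow, map_zpow, ← hi, ← hj, ← zpow_mul,
        ← zpow_mul, mul_comm i j]
    refine sIdx_comm_le (fun x y => Subtype.ext (hcomm x y)) ?_
    obtain ⟨m, hm⟩ := IsPGroup.iff_orderOf.1 (hP.to_subgroup A) a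
    set w := a ^ ((2 : ℤ) ^ (m - 1)) with hw
    have hval : ∀ α : {α : φ.range // α ^ 2 = 1},
        (α.1 : MulAut A) a ∈ ({a, a * w, a⁻¹, a⁻¹ * w} : Finset A) := by
      rintro ⟨⟨α, hα'⟩, hα⟩
      have hα2 : α * α = 1 := by
        have := congrArg Subtype.val hα
        rwa [pow_two] at this
      simp only [Finset.mem_insert, Finset.mem_singleton]
      obtain ⟨i, hi⟩ := ha (α a)
      simp only at hi
      have hzero : ∀ c : ℤ, (2 : ℤ) ^ m ∣ c → a ^ c = 1 := fun c hc => by
        rw [← orderOf_dvd_iff_zpow_eq_one, hm]; exact_mod_cast hc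
      rw [← hi]
      rcases Nat.lt_or_ge m 2 with hm2 | hm2
      · rcases Int.even_or_odd' i with ⟨k, hk | hk⟩
        · left
          have h1 : a ^ i = 1 := hzero _ (by rw [hk]; interval_cases m <;> simp)
          rw [hi] at h1
          have h2 : a = 1 := α.injective (h1.trans (map_one α).symm)
          rw [h2, one_zpow]
        · left
          rw [hk, zpow_add, zpow_one, hzero (2 * k) (by interval_cases m <;> simp), one_mul]
      have hsq : (2 : ℤ) ^ m ∣ i * i - 1 := by
        have h1 : a ^ (i * i) = a := by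
          rw [zpow_mul, hi, ← map_zpow, hi, ← MulAut.mul_apply, hα2, MulAut.one_apply]
        have h2 : a ^ (i * i - 1) = 1 := by rw [zpow_sub, h1, zpow_one, mul_inv_cancel]
        rw [← orderOf_dvd_iff_zpow_eq_one, hm] at h2
        exact_mod_cast h2
      have hmz : ((2 : ℤ) ^ m) = 2 * (2 : ℤ) ^ (m - 1) := by rw [← pow_succ']; congr 1; omega
      rcases CentFour.modEq_of_sq_modEq_one hm2 hsq with ⟨c, hc⟩ | ⟨c, hc⟩ <;>
        rcases Int.even_or_odd' c with ⟨d, hd | hd⟩
      · left
        rw [show i = 1 + 2 ^ m * d by rw [hmz]; linear_combination hc + 2 ^ (m - 1) * hd,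
          zpow_add, hzero _ (dvd_mul_right _ _), mul_one, zpow_one]
      · right; left
        rw [show i = 1 + (2 : ℤ) ^ (m - 1) + 2 ^ m * d by rw [hmz]; linear_combination hc + 2 ^ (m - 1) * hd,
          zpow_add, hzero _ (dvd_mul_right _ _), mul_one, zpow_add, zpow_one]
      · right; right; left
        rw [show i = -1 + 2 ^ m * d by rw [hmz]; linear_combination hc + 2 ^ (m - 1) * hd,
          zpow_add, hzero _ (dvd_mul_right _ _), mul_one, zpow_neg_one]
      · right; right; right
        rw [show i = -1 + (2 : ℤ) ^ (m - 1) + 2 ^ m * d by rw [hmz]; linear_combination hc + 2 ^ (m - 1) * hd,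
          zpow_add, hzero _ (dvd_mul_right _ _), mul_one, zpow_add, zpow_neg_one]
    refine (Nat.card_le_card_of_injective
      (fun α => (⟨_, hval α⟩ : ({a, a * w, a⁻¹, a⁻¹ * w} : Finset A))) fun x y h =>
        Subtype.ext (Subtype.ext (hext _ _ (congrArg Subtype.val h)))).trans ?_
    rw [Nat.card_eq_finsetCard]
    exact Finset.card_le_four
  have hs8 : sIdx P ≤ 8 := (sIdx_hom_mul φ).trans (Nat.mul_le_mul hs4 hs2)
  by_cases hbig : 17 ≤ n
  · refine hs8.trans ?_
    rw [B, if_neg (by omega)]; omega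
  obtain ⟨i, hi⟩ := hodd
  have hcases : n.Prime ∨ n = 9 ∨ n = 15 := by
    have : i ≤ 7 := by omega
    interval_cases i <;> subst hi <;> first | omega | norm_num
  rcases hcases with hpr | h9 | h15
  · exact hprime hpr
  · -- order nine: `V` is elementary abelian
    have hexp : ∀ v : V, v ^ 3 = 1 := by
      haveI : Fact (Nat.Prime 3) := ⟨Nat.prime_three⟩
      let W : Subgroup V := (powMonoidHom 3 : V →* V).ker
      have hW : ∀ g : P, ∀ v ∈ W, ρ g v ∈ W := fun g v hv => by
        show (ρ g v) ^ 3 = 1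
        rw [← map_pow, show v ^ 3 = 1 from hv, map_one]
      obtain ⟨x, hx⟩ := exists_prime_orderOf_dvd_card' (G := V) 3 (by rw [hn, h9]; norm_num)
      have hWt : W = ⊤ := hinv W hW fun h => by
        have : x ∈ W := by show x ^ 3 = 1; rw [← hx, pow_orderOf_eq_one]
        rw [h, Subgroup.mem_bot] at this
        rw [this, orderOf_one] at hx
        omega
      exact fun v => (hWt.symm ▸ Subgroup.mem_top v : v ∈ W)
    have hP16 : Nat.card P ≤ 16 := by
      classical
      letI := Fintype.ofFinite V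
      letI := Fintype.ofFinite P
      letI act : MulAction P V := MulAction.compHom V ρ
      haveI : Nontrivial V := by rw [← Finite.one_lt_card_iff_nontrivial, hn]; omega
      obtain ⟨v₁, hv₁⟩ := exists_ne (1 : V)
      have horb := MulAction.card_orbit_mul_card_stabilizer_eq_card_group P v₁
      simp only [← Nat.card_eq_fintype_card] at horb
      have ho : Nat.card (MulAction.orbit P v₁) ≤ 8 := by
        have hnot : (1 : V) ∉ MulAction.orbit P v₁ := fun ⟨g, hg⟩ => hv₁ ((ρ g).map_eq_one_iff.1 hg)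
        have hl : Nat.card (MulAction.orbit P v₁) < Nat.card V := by
          rw [Nat.card_eq_fintype_card, Nat.card_eq_fintype_card]
          exact Fintype.card_subtype_lt hnot
        omega
      set W := Subgroup.zpowers v₁
      have hWc : Nat.card W = 3 := by
        haveI : Fact (Nat.Prime 3) := ⟨Nat.prime_three⟩
        rw [Nat.card_zpowers, orderOf_eq_prime (hexp v₁) hv₁]
      have hfix : ∀ g : MulAction.stabilizer P v₁, ∀ v ∈ W,
          (ρ.comp (MulAction.stabilizer P v₁).subtype) g v = v := by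
        rintro g _ ⟨k, rfl⟩
        show ρ (g : P) (v₁ ^ k) = v₁ ^ k
        rw [map_zpow]
        exact congrArg (· ^ k) g.2
      have hW : ∀ g : MulAction.stabilizer P v₁, ∀ v ∈ W,
          (ρ.comp (MulAction.stabilizer P v₁).subtype) g v ∈ W := fun g v hv => (hfix g v hv).symm ▸ hv
      have hinjq := quo_injective_on hVodd (hP.to_subgroup _) _
        (hρ.comp (MulAction.stabilizer P v₁).subtype_injective) W hW
      have hst : Nat.card (MulAction.stabilizer P v₁) ≤ 2 := by
        have hkt : (restr (ρ.comp (MulAction.stabilizer P v₁).subtype) W hW).ker = ⊤ := by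
          rw [eq_top_iff]
          intro g _
          rw [MonoidHom.mem_ker]
          ext v
          exact hfix g v v.2
        have hcq : Nat.card (V ⧸ W) = 3 := by
          have h := W.card_mul_index
          rw [hWc, hn, h9, Subgroup.index_eq_card] at h
          omega
        haveI : Fact (Nat.Prime 3) := ⟨Nat.prime_three⟩
        haveI : IsCyclic (V ⧸ W) := isCyclic_of_prime_card hcq
        have h := Nat.card_le_card_of_injective _ hinjq
        rw [hkt, Subgroup.card_top, IsCyclic.card_mulAut, hcq] at h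
        exact h.trans (by decide)
      calc Nat.card P = _ := horb.symm
        _ ≤ 8 * 2 := Nat.mul_le_mul ho hst
    rw [h9]
    show sIdx P ≤ 4
    by_contra hgt
    push Not at hgt
    obtain ⟨m, hm⟩ := IsPGroup.iff_card.1 hP
    obtain ⟨j, hjm, hj⟩ := (Nat.dvd_prime_pow Nat.prime_two).1 (hm ▸ (Sq P).index_dvd_card)
    have hj3 : j = 3 := by
      rw [sIdx] at hgt hs8
      rw [hj] at hgt hs8
      have h1 : 2 < j := (Nat.pow_lt_pow_iff_right one_lt_two).1 (by simpa using hgt)
      have h2 : j ≤ 3 := (Nat.pow_le_pow_iff_right one_lt_two).1 (by simpa using hs8)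
      omega
    have hPS := (Sq P).card_mul_index
    rw [hj, hj3] at hPS
    have hPA : Nat.card A * Nat.card φ.range = Nat.card P := by
      rw [← Subgroup.index_ker, hker, A.card_mul_index]
    have hrange : Nat.card φ.range ≤ Nat.totient (Nat.card A) :=
      (Subgroup.card_le_card_group _).trans (IsCyclic.card_mulAut A).le
    have hA2 : Nat.card A ≤ 2 * Nat.card (Sq P) := by
      have hle : (Sq A).map A.subtype ≤ Sq P := map_sq_le _
      have h1 := Subgroup.card_le_of_le hle
      rw [Subgroup.card_map_of_injective A.subtype_injective] at h1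
      rw [← (Sq A).card_mul_index, mul_comm 2]
      exact Nat.mul_le_mul h1 sIdx_cyclic_le
    obtain ⟨l, hl⟩ := IsPGroup.iff_card.1 (hP.to_subgroup A)
    have hl1 : 1 ≤ l := by
      by_contra h
      rw [show l = 0 by omega, pow_zero] at hl
      rw [hl] at hPA hrange
      rw [Nat.totient_one] at hrange
      rw [one_mul] at hPA
      omega
    obtain ⟨l', rfl⟩ : ∃ l', l = l' + 1 := ⟨l - 1, by omega⟩
    rw [hl, Nat.totient_prime_pow_succ Nat.prime_two] at hrange
    rw [hl] at hPA hA2
    rw [pow_succ] at hPA hA2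
    simp only [Nat.reduceSub, mul_one] at hrange
    norm_num at hPS
    have hbound : Nat.card φ.range ≤ Nat.card (Sq P) := by omega
    have hlow : 4 ≤ Nat.card (Sq P) := by
      have h' := Nat.mul_le_mul hA2 hbound
      rw [hPA, ← hPS] at h'
      nlinarith [Nat.card_pos (α := Sq P)]
    omega
  · -- order fifteen is never irreducible
    exfalso
    haveI : Fact (Nat.Prime 3) := ⟨Nat.prime_three⟩
    haveI : Fact (Nat.Prime 5) := ⟨by norm_num⟩
    obtain ⟨x, hx⟩ := exists_prime_orderOf_dvd_card' (G := V) 3 (by rw [hn, h15]; norm_num)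
    obtain ⟨y, hy⟩ := exists_prime_orderOf_dvd_card' (G := V) 5 (by rw [hn, h15]; norm_num)
    let W : Subgroup V := (powMonoidHom 3 : V →* V).ker
    have hW : ∀ g : P, ∀ v ∈ W, ρ g v ∈ W := fun g v hv => by
      show (ρ g v) ^ 3 = 1
      rw [← map_pow, show v ^ 3 = 1 from hv, map_one]
    have hWt : W = ⊤ := hinv W hW fun h => by
      have : x ∈ W := by show x ^ 3 = 1; rw [← hx, pow_orderOf_eq_one]
      rw [h, Subgroup.mem_bot] at this
      rw [this, orderOf_one] at hx
      omega
    have hy3 : y ^ 3 = 1 := (hWt.symm ▸ Subgroup.mem_top y : y ∈ W)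
    have := orderOf_dvd_of_pow_eq_one hy3
    rw [hy] at this
    omega

theorem main {G : Type u} [Group G] [Finite G] (N P : Subgroup G) [N.Normal] [IsMulCommutative N]
    (hNodd : Odd (Nat.card N)) (hP : IsPGroup 2 P) (hdisj : N ⊓ P = ⊥) (hprod : N ⊔ P = ⊤)
    (hN : N ≠ ⊥) (hmin : ∀ M : Subgroup G, M.Normal → M ≠ ⊥ → N ≤ M) :
    (frattini P).index ≤ Nat.card N - 1 := by
  refine (frattini_index_le hP).trans ?_
  set C := P ⊓ Subgroup.centralizer (N : Set G) with hC
  have hCn : C.Normal := by
    rw [← Subgroup.normalizer_eq_top_iff, eq_top_iff, ← hprod, sup_le_iff]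
    constructor
    · intro x hx
      rw [Subgroup.mem_normalizer_iff]
      intro y
      constructor
      · intro hy
        rw [(Subgroup.mem_centralizer_iff.1 hy.2 x hx), mul_inv_cancel_right]
        exact hy
      · intro hy
        have h := Subgroup.mem_centralizer_iff.1 hy.2 x⁻¹ (inv_mem hx)
        have : y = x * y * x⁻¹ := by
          calc y = x⁻¹ * (x * y * x⁻¹) * x := by group
            _ = x * y * x⁻¹ := by rw [h, inv_mul_cancel_right]
        rw [this]
        exact hy
    · refine le_trans (le_inf Subgroup.le_normalizer ?_) Subgroup.inf_normalizer_le_normalizer_inf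
      intro x _
      rw [Subgroup.normalizer_eq_top]
      exact Subgroup.mem_top x
  have hCb : C = ⊥ := by
    by_contra h
    exact hN (le_bot_iff.1 (hdisj ▸ le_inf le_rfl ((hmin C hCn h).trans inf_le_left)))
  letI : CommGroup N := { (inferInstance : Group N) with mul_comm := fun a b => mul_comm' a b }
  let ρ : P →* MulAut N := (MulAut.conjNormal (H := N)).comp P.subtype
  have hρ : Function.Injective ρ := by
    rw [injective_iff_map_eq_one]
    intro g hg
    have : (g : G) ∈ C := ⟨g.2, Subgroup.mem_centralizer_iff.2 fun v hv => by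
      have := congrArg Subtype.val (MulEquiv.congr_fun hg ⟨v, hv⟩)
      change (g : G) * v * (g : G)⁻¹ = v at this
      exact (mul_inv_eq_iff_eq_mul.1 this).symm⟩
    rw [hCb, Subgroup.mem_bot] at this
    exact Subtype.ext this
  have h1 := N.one_lt_card_iff_ne_bot.2 hN
  refine (bound _ rfl hP hNodd h1 ρ hρ).trans ?_
  unfold B
  obtain ⟨i, hi⟩ := hNodd
  split_ifs <;> omega

end Cfsg.Agent.S4188


set_option autoImplicit false
open Cfsg

namespace Cfsg.Agent.S4188

/-- Let G be a finite group that is the semidirect product of a normal abelian subgroup N of odd order by a 2-subgroup P, and suppose N is the unique minimal normal subgroup of G. Then the index of the Frattini subgroup of P in P is at most #N − 1. -/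
theorem result {G : Type*} [Group G] [Finite G] (N P : Subgroup G) (hN : N.Normal) (hNab : IsMulCommutative ↥N) (hNodd : Odd (Nat.card ↥N)) (hP : IsPGroup 2 ↥P) (hdisj : N ⊓ P = ⊥) (hprod : N ⊔ P = ⊤) (hmin : N ≠ ⊥ ∧ ∀ M : Subgroup G, M.Normal → M ≠ ⊥ → N ≤ M) : (frattini ↥P).index ≤ Nat.card ↥N - 1 := by
  haveI := hN
  haveI := hNab
  exact S4188.main N P hNodd hP hdisj hprod hmin.1 hmin.2

end Cfsg.Agent.S4188
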