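import Cfsg.Statements.S4189
import Cfsg.Agent.Lib.Solvable.NilpotentFrattini
import Cfsg.Agent.Lib.Solvable.Structure
import Cfsg.Agent.Lib.TwoGroups.Lifts

set_option autoImplicit false
set_option linter.style.haveILetI false

set_option autoImplicit false
open Cfsg
open scoped commutatorElement

namespace Cfsg.Agent.S4189

/-- Let P be a finite non-abelian 2-group whose commutator subgroup has index 4 and whose automorphism group is not a 2-group (some automorphism has order that is not a power of 2). Then P is isomorphic to the quaternion group of order 8. -/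
theorem result {P : Type*} [Group P] [Finite P] (hP : IsPGroup 2 P) (hna : ¬ IsMulCommutative P) (h4 : (commutator P).index = 4) (haut : ¬ IsPGroup 2 (MulAut P)) : Nonempty (P ≃* QuaternionGroup 2) := by
  classical
  haveI : Finite (MulAut P) := Finite.of_injective (fun e : MulAut P => (e : P → P)) (fun a b h => MulEquiv.ext (congrFun h))
  haveI : Group.IsNilpotent P := hP.isNilpotent
  obtain ⟨r, hr, hrodd, σ, hσ⟩ : ∃ r : ℕ, r.Prime ∧ Odd r ∧ ∃ σ : MulAut P, orderOf σ = r := by
    by_contra hcon
    push Not at hcon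
    apply haut
    intro e
    obtain ⟨k, hk⟩ : ∃ k, orderOf e = 2 ^ k := by
      refine ⟨_, Nat.eq_prime_pow_of_unique_prime_dvd (orderOf_pos e).ne' fun {r} hr hre => ?_⟩
      by_contra h2
      haveI := Fact.mk hr
      obtain ⟨σ, hσ⟩ := exists_prime_orderOf_dvd_card' (G := MulAut P) r (hre.trans (orderOf_dvd_natCard e))
      exact hcon r hr (hr.odd_of_ne_two h2) σ hσ
    exact ⟨k, hk ▸ pow_orderOf_eq_one e⟩
  haveI := Fact.mk hr
  set D := commutator P with hD
  have hDf : D ≤ frattini P := SolvStruct.commutator_le_frattini P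
  have hgen : ∀ H : Subgroup P, H ⊔ D = ⊤ → H = ⊤ := fun H h =>
    frattini_nongenerating (eq_top_iff.2 (h ▸ sup_le_sup_left hDf H))
  have hσD : D.map (σ : P ≃* P).toMonoidHom = D := Subgroup.characteristic_iff_map_eq.1 inferInstance σ
  let f : P ⧸ D ≃* P ⧸ D := QuotientGroup.congr D D σ hσD
  have hf : ∀ x : P, f (x : P ⧸ D) = (σ x : P ⧸ D) := fun x => rfl
  have hfr : ∀ y : P ⧸ D, (f^[r]) y = y := by
    intro y
    obtain ⟨x, rfl⟩ := QuotientGroup.mk'_surjective D y
    have : ∀ k : ℕ, (f^[k]) (x : P ⧸ D) = ((σ ^ k) x : P ⧸ D) := by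
      intro k
      induction k with
      | zero => rfl
      | succ k ih => rw [Function.iterate_succ_apply', ih, hf, pow_succ']; rfl
    rw [QuotientGroup.mk'_apply, this, ← hσ, pow_orderOf_eq_one]; rfl
  have hodd2 : ∀ y : P ⧸ D, f (f y) = y → f y = y := by
    intro y hy
    obtain ⟨k, hk⟩ := hrodd
    have h2 : ∀ j : ℕ, (f^[2 * j]) y = y := by
      intro j
      induction j with
      | zero => rfl
      | succ j ih => rw [Nat.mul_succ, add_comm, Function.iterate_add_apply, ih]; exact hy
    have := hfr y
    rwa [hk, add_comm, Function.iterate_add_apply, h2, Function.iterate_one] at this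
  haveI := Fintype.ofFinite (P ⧸ D)
  have hQ4 : Fintype.card (P ⧸ D) = 4 := by rw [← Nat.card_eq_fintype_card, ← Subgroup.index_eq_card, h4]
  -- `f` fixes no non-identity coset
  have hfree : ∀ y : P ⧸ D, f y = y → y = 1 := by
    by_contra hcon
    push Not at hcon
    obtain ⟨u, hu, hu1⟩ := hcon
    have hall : ∀ y : P ⧸ D, f y = y := by
      intro y
      by_contra hy
      apply hy
      apply hodd2
      by_contra hy2
      have h1 : y ≠ 1 := fun h => hy (by rw [h, map_one])
      have h2 : y ≠ u := fun h => hy (by rw [h, hu])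
      have h3 : f y ≠ 1 := fun h => h1 (f.injective (by rw [h, map_one]))
      have h4' : f y ≠ u := fun h => h2 (f.injective (by rw [h, hu]))
      have h5 : f (f y) ≠ 1 := fun h => h3 (f.injective (by rw [h, map_one]))
      have h6 : f (f y) ≠ u := fun h => h4' (f.injective (by rw [h, hu]))
      have h7 : f (f y) ≠ f y := fun h => hy (f.injective h)
      have hc : ({1, u, y, f y, f (f y)} : Finset (P ⧸ D)).card = 5 := by
        rw [Finset.card_insert_of_notMem (by simp [hu1.symm, h1.symm, h3.symm, h5.symm]),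
          Finset.card_insert_of_notMem (by simp [h2.symm, h4'.symm, h6.symm]),
          Finset.card_insert_of_notMem (by simp [Ne.symm hy, Ne.symm hy2]),
          Finset.card_insert_of_notMem (by simp [h7.symm]), Finset.card_singleton]
      have := Finset.card_le_univ ({1, u, y, f y, f (f y)} : Finset (P ⧸ D))
      omega
    -- then `σ = 1`
    haveI := Fintype.ofFinite P
    have hfix : ∀ x : P, ∃ z : P, σ z = z ∧ z⁻¹ * x ∈ D := by
      intro x
      have hmem : ∀ z : P, (z : P ⧸ D) = x ↔ ((σ z : P) : P ⧸ D) = x := by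
        intro z
        rw [← hf, hall]
      let e : Equiv.Perm {z : P // (z : P ⧸ D) = x} := σ.toEquiv.subtypeEquiv hmem
      have he : ∀ k : ℕ, ∀ z, ((e ^ k) z : P) = (σ ^ k) z := by
        intro k
        induction k with
        | zero => intro z; rfl
        | succ k ih => intro z; rw [pow_succ', pow_succ']; exact congrArg σ (ih z)
      have hnd : ¬ r ∣ Fintype.card {z : P // (z : P ⧸ D) = x} := by
        have hc : Nat.card {z : P // (z : P ⧸ D) = x} = Nat.card D := by
          refine Nat.card_congr
            { toFun := fun z => ⟨x⁻¹ * z, QuotientGroup.eq.1 z.2.symm⟩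
              invFun := fun d => ⟨x * d, ((QuotientGroup.eq (s := D)).2 (by simp)).symm⟩
              left_inv := fun z => Subtype.ext (by simp)
              right_inv := fun d => Subtype.ext (by simp) }
        rw [← Nat.card_eq_fintype_card, hc]
        obtain ⟨k, hk⟩ := IsPGroup.iff_card.1 (hP.to_subgroup D)
        rw [hk]
        intro hd
        have := (Nat.prime_dvd_prime_iff_eq hr Nat.prime_two).1 (hr.dvd_of_dvd_pow hd)
        rw [this] at hrodd
        exact absurd hrodd (by decide)
      obtain ⟨z, hz⟩ := Equiv.Perm.exists_fixed_point_of_prime (n := 1) hnd (σ := e) (by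
        apply Equiv.ext
        intro z
        apply Subtype.ext
        rw [pow_one, he, ← hσ, pow_orderOf_eq_one]
        rfl)
      exact ⟨z, congrArg Subtype.val hz, QuotientGroup.eq.1 z.2⟩
    have htop : MonoidHom.eqLocus (σ : P ≃* P).toMonoidHom (MonoidHom.id P) = ⊤ := by
      apply hgen
      rw [eq_top_iff]
      intro x _
      obtain ⟨z, hz, hzx⟩ := hfix x
      rw [← mul_inv_cancel_left z x]
      exact mul_mem (Subgroup.mem_sup_left hz) (Subgroup.mem_sup_right hzx)
    have hσ1 : σ = 1 := MulEquiv.ext fun x => (htop.ge (Subgroup.mem_top x) : _)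
    rw [hσ1, orderOf_one] at hσ
    exact hr.ne_one hσ.symm
  -- the three non-identity cosets are permuted cyclically, and are involutions
  obtain ⟨u, hu1⟩ := Fintype.exists_ne_of_one_lt_card (by omega : 1 < Fintype.card (P ⧸ D)) 1
  have hne1 : f u ≠ 1 := fun h => hu1 (f.injective (by rw [h, map_one]))
  have hne2 : f (f u) ≠ 1 := fun h => hne1 (f.injective (by rw [h, map_one]))
  have hd12 : f u ≠ u := fun h => hu1 (hfree u h)
  have hd23 : f (f u) ≠ f u := fun h => hne1 (hfree _ h)
  have hd13 : f (f u) ≠ u := fun h => hd12 (hodd2 u h)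
  have hall : ∀ y : P ⧸ D, y = 1 ∨ y = u ∨ y = f u ∨ y = f (f u) := by
    have hS : ({1, u, f u, f (f u)} : Finset (P ⧸ D)) = Finset.univ := by
      apply Finset.eq_univ_of_card
      rw [Finset.card_insert_of_notMem (by simp [hu1.symm, hne1.symm, hne2.symm]),
        Finset.card_insert_of_notMem (by simp [hd12.symm, hd13.symm]),
        Finset.card_insert_of_notMem (by simp [hd23.symm]), Finset.card_singleton, hQ4]
    intro y
    simpa using (Finset.ext_iff.1 hS y).2 (Finset.mem_univ y)
  have hord : ∀ y : P ⧸ D, y ≠ 1 → orderOf y = orderOf u := by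
    intro y hy
    rcases hall y with h | h | h | h
    · exact absurd h hy
    · rw [h]
    · rw [h, MulEquiv.orderOf_eq]
    · rw [h, MulEquiv.orderOf_eq, MulEquiv.orderOf_eq]
  have hsq : ∀ x : P, x * x ∈ D := by
    intro x
    rw [← QuotientGroup.eq_one_iff, QuotientGroup.mk_mul]
    by_contra hne
    have hx1 : (x : P ⧸ D) ≠ 1 := fun h => hne (by rw [h, one_mul])
    have h4u : (x : P ⧸ D) ^ 4 = 1 := by rw [← hQ4]; exact pow_card_eq_one
    have h1 : orderOf ((x : P ⧸ D) * x) = 2 := by
      refine orderOf_eq_prime ?_ hne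
      rw [← pow_two, ← pow_mul]; exact h4u
    have h2 := hord _ hne
    rw [h1, ← hord _ hx1] at h2
    exact hne (by rw [← pow_two, h2, pow_orderOf_eq_one])
  obtain ⟨a, ha⟩ := QuotientGroup.mk'_surjective D u
  rw [QuotientGroup.mk'_apply] at ha
  set b := σ a with hb
  have hbu : (b : P ⧸ D) = f u := by rw [← ha, hf]
  have hsb : (σ b : P ⧸ D) = f (f u) := by rw [← hbu, hf]
  have habu : (a : P ⧸ D) * b = f (f u) := by
    have huu : u * u = 1 := by
      rw [← ha, ← QuotientGroup.mk_mul, QuotientGroup.eq_one_iff]; exact hsq a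
    rcases hall ((a : P ⧸ D) * b) with h | h | h | h
    · exfalso
      rw [ha, hbu] at h
      exact hd12 (mul_left_cancel (a := u) (h.trans huu.symm))
    · exfalso
      rw [ha, hbu] at h
      exact hne1 (mul_left_cancel (a := u) (h.trans (mul_one u).symm))
    · exfalso
      rw [ha, hbu] at h
      exact hu1 (mul_right_cancel (b := f u) (h.trans (one_mul _).symm))
    · exact h
  have hclos : Subgroup.closure ({a, b} : Set P) = ⊤ := by
    apply hgen
    rw [eq_top_iff]
    intro x _
    have key : ∀ w : P, w ∈ Subgroup.closure ({a, b} : Set P) → (x : P ⧸ D) = w →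
        x ∈ Subgroup.closure ({a, b} : Set P) ⊔ D := by
      intro w hw hxw
      rw [← mul_inv_cancel_left w x]
      exact mul_mem (Subgroup.mem_sup_left hw) (Subgroup.mem_sup_right (QuotientGroup.eq.1 hxw.symm))
    have hA : a ∈ Subgroup.closure ({a, b} : Set P) := Subgroup.subset_closure (Or.inl rfl)
    have hB : b ∈ Subgroup.closure ({a, b} : Set P) := Subgroup.subset_closure (Or.inr rfl)
    rcases hall (x : P ⧸ D) with h | h | h | h
    · exact key 1 (one_mem _) h
    · exact key a hA (h.trans ha.symm)
    · exact key b hB (h.trans hbu.symm)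
    · exact key (a * b) (mul_mem hA hB) (h.trans habu.symm)
  set c := ⁅a, b⁆ with hc
  have hcD : c ∈ D := Subgroup.commutator_mem_commutator (Subgroup.mem_top a) (Subgroup.mem_top b)
  -- two-generator facts modulo a normal `T ≥ [D, P]`
  set T := ⁅D, (⊤ : Subgroup P)⁆ with hT
  haveI : T.Normal := inferInstance
  have hTD : T ≤ D := Subgroup.commutator_le_left _ _
  let π := QuotientGroup.mk' T
  have hcen : ∀ d ∈ D, ∀ g : P, π g * π d = π d * π g := by
    intro d hd g
    have h1 : π ⁅d, g⁆ = 1 := (QuotientGroup.eq_one_iff _).2 (Subgroup.commutator_mem_commutator hd (Subgroup.mem_top g))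
    rw [map_commutatorElement, commutatorElement_eq_one_iff_mul_comm] at h1
    exact h1.symm
  have hπc : π c = ⁅π a, π b⁆ := map_commutatorElement π a b
  have hcc : π c * π c = 1 := by
    have h1 : π a * π b * (π a)⁻¹ = π c * π b := by rw [hπc, commutatorElement_def]; group
    have h2 := hcen (a * a) (hsq a) b
    rw [map_mul] at h2
    have h3 : π a * (π a * π b * (π a)⁻¹) * (π a)⁻¹ = π b := by
      calc π a * (π a * π b * (π a)⁻¹) * (π a)⁻¹ = (π a * π a * π b) * (π a * π a)⁻¹ := by group
        _ = _ := by rw [← h2]; group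
    rw [h1] at h3
    have h4' : π a * (π c * π b) * (π a)⁻¹ = π c * (π a * π b * (π a)⁻¹) := by
      rw [show π a * (π c * π b) * (π a)⁻¹ = (π a * π c) * π b * (π a)⁻¹ by group, hcen c hcD a]
      group
    rw [h4', h1, ← mul_assoc] at h3
    simpa using h3
  set W := (Subgroup.zpowers (π c)).comap π with hW
  have hDW : D ≤ W := by
    haveI : (Subgroup.zpowers (π c)).Normal := ⟨fun z hz g => by
      obtain ⟨g, rfl⟩ := QuotientGroup.mk'_surjective T g
      obtain ⟨k, rfl⟩ := hz
      change π g * π c ^ k * (π g)⁻¹ ∈ _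
      rw [((show Commute (π g) (π c) from hcen c hcD g).zpow_right k).eq, mul_inv_cancel_right]
      exact Subgroup.zpow_mem _ (Subgroup.mem_zpowers _) k⟩
    haveI : W.Normal := inferInstance
    rw [hD, commutator_def, Subgroup.commutator_le]
    intro g _ h _
    rw [← QuotientGroup.eq_one_iff, ← QuotientGroup.mk'_apply, map_commutatorElement,
      commutatorElement_eq_one_iff_mul_comm]
    have hab1 : QuotientGroup.mk' W a * QuotientGroup.mk' W b = QuotientGroup.mk' W b * QuotientGroup.mk' W a := by
      rw [← commutatorElement_eq_one_iff_mul_comm, ← map_commutatorElement, QuotientGroup.mk'_apply,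
        QuotientGroup.eq_one_iff]
      exact Subgroup.mem_zpowers (π c)
    haveI : IsMulCommutative (Subgroup.closure ({QuotientGroup.mk' W a, QuotientGroup.mk' W b} : Set (P ⧸ W))) := by
      refine Subgroup.isMulCommutative_closure ?_
      rintro x (rfl | rfl) y (rfl | rfl)
      · rfl
      · exact hab1
      · exact hab1.symm
      · rfl
    have htop' : Subgroup.closure ({QuotientGroup.mk' W a, QuotientGroup.mk' W b} : Set (P ⧸ W)) = ⊤ := by
      rw [← Subgroup.map_top_of_surjective _ (QuotientGroup.mk'_surjective W), ← hclos, MonoidHom.map_closure,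
        Set.image_pair]
    exact congrArg Subtype.val (mul_comm' (⟨QuotientGroup.mk' W g, htop'.ge (Subgroup.mem_top _)⟩ :
      Subgroup.closure ({QuotientGroup.mk' W a, QuotientGroup.mk' W b} : Set (P ⧸ W)))
      ⟨QuotientGroup.mk' W h, htop'.ge (Subgroup.mem_top _)⟩)
  have hD2 : ∀ d ∈ D, π d = 1 ∨ π d = π c := by
    intro d hd
    obtain ⟨k, hk⟩ := hDW hd
    have hk' : π c ^ k = π d := hk
    rcases Int.even_or_odd' k with ⟨j, rfl | rfl⟩
    · left; rw [← hk', zpow_mul, zpow_two, hcc, one_zpow]
    · right; rw [← hk', zpow_add, zpow_mul, zpow_two, hcc, one_zpow, one_mul, zpow_one]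
  have hnilp : ∀ H : Subgroup P, H.Normal → H ≤ ⁅H, (⊤ : Subgroup P)⁆ → H = ⊥ := by
    intro H _ hH
    obtain ⟨m, hm⟩ := Subgroup.nilpotent_iff_lowerCentralSeries.1 (inferInstance : Group.IsNilpotent P)
    have : ∀ m : ℕ, H ≤ Subgroup.lowerCentralSeries (⊤ : Subgroup P) m := by
      intro m
      induction m with
      | zero => simp
      | succ m ih => exact hH.trans (Subgroup.commutator_mono ih le_rfl)
    exact eq_bot_iff.2 (hm ▸ this m)
  have hσT : ∀ x : P, x ∈ T ↔ σ x ∈ T := by
    have h1 : T.map (σ : P ≃* P).toMonoidHom = T := by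
      rw [hT, Subgroup.map_commutator, hσD, Subgroup.map_top_of_surjective _ σ.surjective]
    intro x
    constructor
    · intro hx; rw [← h1]; exact Subgroup.mem_map_of_mem _ hx
    · intro hx
      rw [← h1] at hx
      obtain ⟨y, hy, hyx⟩ := hx
      exact σ.injective hyx ▸ hy
  have hane : ¬ a * a ∈ T := by
    intro haT
    have hbT : b * b ∈ T := by rw [hb, ← map_mul]; exact (hσT _).1 haT
    have hsbT : σ b * σ b ∈ T := by rw [← map_mul]; exact (hσT _).1 hbT
    have h1 : π c = 1 := by
      have hphi : (a * b)⁻¹ * σ b ∈ D := QuotientGroup.eq.1 (by rw [QuotientGroup.mk_mul, habu, hsb])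
      set φ := (a * b)⁻¹ * σ b
      have hσb : σ b = a * b * φ := by simp only [φ]; group
      have e1 : π a * π a = 1 := by rw [← map_mul]; exact (QuotientGroup.eq_one_iff _).2 haT
      have e2 : π b * π b = 1 := by rw [← map_mul]; exact (QuotientGroup.eq_one_iff _).2 hbT
      have e3 : π (σ b) * π (σ b) = 1 := by rw [← map_mul]; exact (QuotientGroup.eq_one_iff _).2 hsbT
      have e4 : π φ * π φ = 1 := by
        rcases hD2 φ hphi with h | h <;> rw [h]
        · exact one_mul 1
        · exact hcc
      rw [hσb, map_mul, map_mul] at e3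
      have hphic := hcen φ hphi (a * b)
      rw [map_mul] at hphic
      have e5 : π a * π b * (π a * π b) = 1 := by
        calc π a * π b * (π a * π b) = π a * π b * (π a * π b) * (π φ * π φ) := by rw [e4, mul_one]
          _ = π a * π b * π φ * (π a * π b * π φ) := by
            rw [show π a * π b * π φ * (π a * π b * π φ) = π a * π b * (π φ * (π a * π b)) * π φ by group,
              ← hphic]
            group
          _ = 1 := e3
      rw [hπc, commutatorElement_def, inv_eq_of_mul_eq_one_right e1, inv_eq_of_mul_eq_one_right e2]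
      simpa [mul_assoc] using e5
    have hDT : D ≤ T := fun d hd => (QuotientGroup.eq_one_iff d).1 ((hD2 d hd).elim id (·.trans h1))
    have := hnilp D inferInstance hDT
    apply hna
    rw [hD, commutator_eq_bot_iff_center_eq_top] at this
    exact ⟨⟨fun x y => Subgroup.mem_center_iff.1 (this ▸ Subgroup.mem_top y) x⟩⟩
  have haa : π (a * a) = π c := (hD2 _ (hsq a)).resolve_left fun h => hane ((QuotientGroup.eq_one_iff _).1 h)
  have hbb : π (b * b) = π c := (hD2 _ (hsq b)).resolve_left fun h => hane (by
    rw [hσT, map_mul]; exact (QuotientGroup.eq_one_iff _).1 h)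
  -- `c` is central modulo `U = [T, P]`, so `T = U = 1`
  set U := ⁅T, (⊤ : Subgroup P)⁆ with hU
  haveI : U.Normal := inferInstance
  have hTU : ∀ t ∈ T, ∀ g : P, QuotientGroup.mk' U g * QuotientGroup.mk' U t = QuotientGroup.mk' U t * QuotientGroup.mk' U g := by
    intro t ht g
    have h1 : QuotientGroup.mk' U ⁅t, g⁆ = 1 := (QuotientGroup.eq_one_iff _).2 (Subgroup.commutator_mem_commutator ht (Subgroup.mem_top g))
    rw [map_commutatorElement, commutatorElement_eq_one_iff_mul_comm] at h1
    exact h1.symm
  have hcomm : ∀ x : P, π (x * x) = π c → QuotientGroup.mk' U x * QuotientGroup.mk' U c = QuotientGroup.mk' U c * QuotientGroup.mk' U x := by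
    intro x hx
    have ht : (x * x)⁻¹ * c ∈ T := QuotientGroup.eq.1 hx
    have h1 := hTU _ ht x
    rw [show c = x * x * ((x * x)⁻¹ * c) by group, map_mul (QuotientGroup.mk' U) (x * x),
      map_mul (QuotientGroup.mk' U) x x]
    calc QuotientGroup.mk' U x * (QuotientGroup.mk' U x * QuotientGroup.mk' U x * QuotientGroup.mk' U ((x * x)⁻¹ * c))
        = QuotientGroup.mk' U x * QuotientGroup.mk' U x * (QuotientGroup.mk' U x * QuotientGroup.mk' U ((x * x)⁻¹ * c)) := by group
      _ = _ := by rw [h1]; group
  have hcU : ∀ g : P, QuotientGroup.mk' U g * QuotientGroup.mk' U c = QuotientGroup.mk' U c * QuotientGroup.mk' U g := by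
    intro g
    have h1 : Subgroup.closure ({a, b} : Set P) ≤
        (Subgroup.centralizer ({QuotientGroup.mk' U c} : Set (P ⧸ U))).comap (QuotientGroup.mk' U) := by
      rw [Subgroup.closure_le]
      rintro x (rfl | rfl)
      · exact Subgroup.mem_centralizer_singleton_iff.2 (hcomm _ haa)
      · exact Subgroup.mem_centralizer_singleton_iff.2 (hcomm _ hbb)
    exact Subgroup.mem_centralizer_singleton_iff.1 (h1 (hclos ▸ Subgroup.mem_top g))
  have hTT : T ≤ U := by
    conv_lhs => rw [hT]
    rw [Subgroup.commutator_le]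
    intro d hd g _
    rw [← QuotientGroup.eq_one_iff, ← QuotientGroup.mk'_apply, map_commutatorElement,
      commutatorElement_eq_one_iff_mul_comm]
    rcases hD2 d hd with h | h
    · exact (hTU d ((QuotientGroup.eq_one_iff d).1 h) g).symm
    · have ht : c⁻¹ * d ∈ T := QuotientGroup.eq.1 h.symm
      have h1 := hTU _ ht g
      rw [← mul_inv_cancel_left c d, map_mul (QuotientGroup.mk' U) c]
      rw [mul_assoc, ← h1, ← mul_assoc, ← hcU g, mul_assoc]
  have hT1 : T = ⊥ := hnilp T inferInstance hTT
  have hπ : ∀ x y : P, π x = π y → x = y := fun x y h => by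
    have := (QuotientGroup.eq (s := T)).1 h
    rw [hT1, Subgroup.mem_bot] at this
    exact inv_mul_eq_one.1 this
  have hcD2 : D = Subgroup.zpowers c := le_antisymm (fun d hd => by
    rcases hD2 d hd with h | h
    · rw [hπ d 1 (by rw [h, map_one])]; exact one_mem _
    · rw [hπ d c h]; exact Subgroup.mem_zpowers _) (Subgroup.zpowers_le.2 hcD)
  have hc1 : c ≠ 1 := fun h => hane (by
    have := hπ (a * a) c haa
    rw [this, h]; exact one_mem _)
  have hc2 : c * c = 1 := hπ _ _ (by rw [map_mul, hcc, map_one])
  have ha2 : a * a = c := hπ _ _ haa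
  have hb2 : b * b = c := hπ _ _ hbb
  have hoc : orderOf c = 2 := orderOf_eq_prime (by rw [pow_two, hc2]) hc1
  have hcardP : Nat.card P = 8 := by
    rw [← D.card_mul_index, h4, hcD2, Nat.card_zpowers, hoc]
  have hoa : orderOf a = 2 * 2 := by
    show orderOf a = 2 ^ (1 + 1)
    refine orderOf_eq_prime_pow ?_ ?_
    · rw [pow_one, pow_two, ha2]; exact hc1
    · rw [pow_succ, pow_one, pow_mul, pow_two, pow_two, ha2, hc2]
  have hinv : b * a * b⁻¹ = a⁻¹ := by
    have hac : a * c = c * a := by rw [← ha2]; group
    have h1 : a * (b * a⁻¹ * b⁻¹) = c := by rw [hc, commutatorElement_def]; group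
    have h2 : b * a⁻¹ * b⁻¹ = a := mul_left_cancel (a := a) (h1.trans ha2.symm)
    have := congrArg (·⁻¹) h2
    simpa [mul_assoc] using this
  have hmem : b ∉ Subgroup.zpowers a := by
    rintro ⟨k, hk⟩
    have hk' : (u : P ⧸ D) ^ k = f u := by rw [← hbu, ← ha, ← QuotientGroup.mk_zpow]; exact congrArg _ hk
    have huu : u * u = 1 := by rw [← ha, ← QuotientGroup.mk_mul, QuotientGroup.eq_one_iff]; exact hsq a
    rcases Int.even_or_odd' k with ⟨j, rfl | rfl⟩
    · rw [zpow_mul, zpow_two, huu, one_zpow] at hk'; exact hne1 hk'.symm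
    · rw [zpow_add, zpow_mul, zpow_two, huu, one_zpow, one_mul, zpow_one] at hk'; exact hd12 hk'.symm
  obtain ⟨e⟩ := TwoLift.quaternion_equiv (k := 2) hoa (by rw [hb2, pow_two, ha2]) hinv hmem rfl
  exact ⟨(Subgroup.topEquiv.symm.trans (MulEquiv.subgroupCongr hclos.symm)).trans e⟩

end Cfsg.Agent.S4189
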