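import Cfsg.Statements.S4194
import Cfsg.Agent.S4355
-- import your own Cfsg.Agent.* helpers here

set_option autoImplicit false
open Cfsg

namespace Cfsg.Agent.S4194

/-- A finite group G has commutative Sylow 2-subgroups if and only if every 2-element of G (element of order a power of 2) is 2-central, that is, its centralizer contains a Sylow 2-subgroup of G. -/
theorem result {G : Type*} [Group G] [Finite G] (P : Sylow 2 G) :
    IsMulCommutative (P : Subgroup G) ↔ ∀ x : G, (∃ k : ℕ, orderOf x = 2 ^ k) → (∃ Q : Sylow 2 G, (Q : Subgroup G) ≤ Subgroup.centralizer ({x} : Set G)) := by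
  have : Fact (Nat.Prime 2) := ⟨Nat.prime_two⟩
  constructor
  · intro hP x hx
    obtain ⟨k, hk⟩ := hx
    have hpg : IsPGroup 2 (Subgroup.zpowers x) :=
      IsPGroup.of_card (n := k) (by rw [Nat.card_zpowers, hk])
    obtain ⟨Q, hQ⟩ := hpg.exists_le_sylow
    refine ⟨Q, fun q hq => Subgroup.mem_centralizer_iff.2 ?_⟩
    intro y hy
    rw [Set.mem_singleton_iff.1 hy]
    have := hP
    let e : ↥(Q : Subgroup G) ≃* ↥(P : Subgroup G) := Sylow.equiv Q P
    have h := e.injective (a₁ := ⟨x, hQ (Subgroup.mem_zpowers x)⟩ * ⟨q, hq⟩)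
      (a₂ := ⟨q, hq⟩ * ⟨x, hQ (Subgroup.mem_zpowers x)⟩)
      (by simp only [map_mul]; exact mul_comm' _ _)
    exact congrArg Subtype.val h
  · intro h
    refine Cfsg.Agent.S4355.result (fun x hx hd => ?_) P
    obtain ⟨Q, hQ⟩ := h x hx
    exact Q.not_dvd_index (hd.trans (Subgroup.index_dvd_of_le hQ))

end Cfsg.Agent.S4194
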