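import Cfsg.Statements.S4195


set_option autoImplicit false
open Cfsg

namespace Cfsg.Agent.S4195

/-- Let x be a non-identity element of a finite group G whose centralizer contains a Sylow 2-subgroup of G. If x is conjugate to its inverse, then x has order 2. -/
theorem result {G : Type*} [Group G] [Finite G] (x : G) (hx : x ≠ 1) (P : Sylow 2 G) (hP : (P : Subgroup G) ≤ Subgroup.centralizer ({x} : Set G)) (hreal : IsConj x x⁻¹) : orderOf x = 2 := by
  classical
  obtain ⟨g, hg⟩ := isConj_iff.1 hreal
  by_contra hne
  set C := Subgroup.centralizer ({x} : Set G) with hC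
  -- the extended centralizer
  let E : Subgroup G :=
    { carrier := {y | y * x * y⁻¹ = x ∨ y * x * y⁻¹ = x⁻¹}
      one_mem' := Or.inl (by group)
      mul_mem' := by
        intro a b ha hb
        simp only [Set.mem_setOf_eq] at ha hb ⊢
        have e : a * b * x * (a * b)⁻¹ = a * (b * x * b⁻¹) * a⁻¹ := by group
        rw [e]
        rcases hb with hb | hb <;> rw [hb]
        · exact ha
        · have e' : a * x⁻¹ * a⁻¹ = (a * x * a⁻¹)⁻¹ := by group
          rw [e']
          rcases ha with ha | ha <;> rw [ha]
          · exact Or.inr rfl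
          · exact Or.inl (inv_inv x)
      inv_mem' := by
        intro a ha
        simp only [Set.mem_setOf_eq] at ha ⊢
        rcases ha with ha | ha
        · left
          nth_rewrite 1 [← ha]
          group
        · right
          have : x⁻¹ = a * x * a⁻¹ := ha.symm
          have hx' : x = a * x⁻¹ * a⁻¹ := by
            have := congrArg (·⁻¹) ha
            simpa [mul_assoc] using this.symm
          nth_rewrite 1 [hx']
          group }
  have hmemC : ∀ y, y ∈ C ↔ y * x * y⁻¹ = x := fun y => by
    rw [hC, Subgroup.mem_centralizer_singleton_iff, mul_inv_eq_iff_eq_mul]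
  have hCE : C ≤ E := fun y hy => Or.inl ((hmemC y).1 hy)
  have hxi : x⁻¹ ≠ x := by
    intro h
    apply hne
    refine orderOf_eq_prime ?_ hx
    rw [pow_two]
    nth_rewrite 1 [← h]
    exact inv_mul_cancel x
  have hidx : C.relIndex E = 2 := by
    rw [Subgroup.relIndex_eq_two_iff]
    refine ⟨g, Or.inr hg, fun b hb => ?_⟩
    rw [hmemC, hmemC]
    have e : b * g * x * (b * g)⁻¹ = (b * x * b⁻¹)⁻¹ := by
      have : b * g * x * (b * g)⁻¹ = b * (g * x * g⁻¹) * b⁻¹ := by group
      rw [this, hg]; group
    rw [e]
    rcases hb with hb | hb <;> rw [hb]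
    · exact Or.inr ⟨rfl, hxi⟩
    · exact Or.inl ⟨inv_inv x, hxi⟩
  have h2 : 2 ∣ (P : Subgroup G).index := by
    refine dvd_trans ?_ (Subgroup.index_dvd_of_le hP)
    rw [← Subgroup.relIndex_mul_index hCE, hidx]
    exact dvd_mul_right _ _
  exact P.not_dvd_index h2

end Cfsg.Agent.S4195
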