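import Mathlib

set_option autoImplicit false
set_option linter.style.haveILetI false

namespace Cfsg.Agent.S4198

open Equiv Equiv.Perm

private theorem partition_card_succ (n : ℕ) :
    Fintype.card (Nat.Partition (n + 1)) ≤ 2 * Fintype.card (Nat.Partition n) := by
  classical
  have hmin : ∀ P : Nat.Partition (n + 1), ∃ a ∈ P.parts, ∀ b ∈ P.parts, a ≤ b := by
    intro P
    have hne : P.parts.toFinset.Nonempty := by
      rw [Multiset.toFinset_nonempty]
      intro h
      have := P.parts_sum
      rw [h] at this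
      simp at this
    exact ⟨P.parts.toFinset.min' hne, Multiset.mem_toFinset.1 (Finset.min'_mem _ hne),
      fun b hb => Finset.min'_le _ _ (Multiset.mem_toFinset.2 hb)⟩
  choose μ hμ hμle using hmin
  have h2 : ∀ P : Nat.Partition (n + 1), 1 ∉ P.parts → 2 ≤ μ P := by
    intro P h
    have h1 := P.parts_pos (hμ P)
    rcases Nat.eq_or_lt_of_le (show 1 ≤ μ P from h1) with e | e
    · have h' := hμ P
      rw [← e] at h'
      exact absurd h' h
    · exact e
  let f : Nat.Partition (n + 1) → Nat.Partition n ⊕ Nat.Partition n := fun P =>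
    if h : 1 ∈ P.parts then
      Sum.inl ⟨P.parts.erase 1, fun hi => P.parts_pos (Multiset.mem_of_mem_erase hi), by
        have := P.parts_sum
        rw [← Multiset.cons_erase h, Multiset.sum_cons] at this
        omega⟩
    else
      Sum.inr ⟨(μ P - 1) ::ₘ P.parts.erase (μ P), fun {i} hi => by
        rcases Multiset.mem_cons.1 hi with rfl | hi
        · have := h2 P h; omega
        · exact P.parts_pos (Multiset.mem_of_mem_erase hi), by
        have := P.parts_sum
        rw [← Multiset.cons_erase (hμ P), Multiset.sum_cons] at this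
        have := h2 P h
        rw [Multiset.sum_cons]
        omega⟩
  refine le_of_le_of_eq (Fintype.card_le_of_injective f ?_) (by rw [Fintype.card_sum, two_mul])
  intro P Q hPQ
  apply Nat.Partition.ext
  by_cases hP : 1 ∈ P.parts <;> by_cases hQ : 1 ∈ Q.parts <;> simp only [f, hP, hQ, dif_pos, dif_neg,
    not_false_iff, Sum.inl.injEq, Sum.inr.injEq, reduceCtorEq, Nat.Partition.ext_iff] at hPQ
  · rw [← Multiset.cons_erase hP, ← Multiset.cons_erase hQ, hPQ]
  · have key : μ P = μ Q := by
      have hge : ∀ R S : Nat.Partition (n + 1), 1 ∉ R.parts →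
          (μ R - 1) ::ₘ R.parts.erase (μ R) = (μ S - 1) ::ₘ S.parts.erase (μ S) →
          μ R - 1 ≤ μ S - 1 := by
        intro R S hR hRS
        have hm : μ S - 1 ∈ (μ R - 1) ::ₘ R.parts.erase (μ R) := by
          rw [hRS]; exact Multiset.mem_cons_self _ _
        rcases Multiset.mem_cons.1 hm with e | e
        · exact e.ge
        · have := hμle R _ (Multiset.mem_of_mem_erase e)
          omega
      have := hge P Q hP hPQ
      have := hge Q P hQ hPQ.symm
      have := h2 P hP
      have := h2 Q hQ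
      omega
    rw [key, Multiset.cons_inj_right] at hPQ
    rw [← Multiset.cons_erase (hμ P), ← Multiset.cons_erase (hμ Q), key, hPQ]

private theorem partition_five : Fintype.card (Nat.Partition 5) ≤ 8 := by
  classical
  let S : Finset (ℕ × ℕ × ℕ × ℕ) :=
    {(0, 0, 0, 0), (1, 0, 0, 0), (2, 0, 0, 0), (0, 1, 0, 0), (1, 1, 0, 0), (0, 0, 1, 0), (0, 0, 0, 1)}
  let g : Nat.Partition 5 → ℕ × ℕ × ℕ × ℕ := fun P =>
    (P.parts.count 2, P.parts.count 3, P.parts.count 4, P.parts.count 5)
  have hsub : ∀ P : Nat.Partition 5, P.parts.toFinset ⊆ {1, 2, 3, 4, 5} := by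
    intro P i hi
    have h1 := P.parts_pos (Multiset.mem_toFinset.1 hi)
    have h2 := Multiset.single_le_sum (fun x _ => Nat.zero_le x) i (Multiset.mem_toFinset.1 hi)
    rw [P.parts_sum] at h2
    interval_cases i <;> decide
  have hsum : ∀ P : Nat.Partition 5, P.parts.count 1 + P.parts.count 2 * 2 + P.parts.count 3 * 3 +
      P.parts.count 4 * 4 + P.parts.count 5 * 5 = 5 := by
    intro P
    have := Finset.sum_multiset_count_of_subset P.parts _ (hsub P)
    rw [P.parts_sum] at this
    simp [Finset.sum_insert] at this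
    omega
  have hg : Function.Injective g := by
    intro P Q h
    simp only [g, Prod.mk.injEq] at h
    have := hsum P
    have := hsum Q
    refine Nat.Partition.ext (Multiset.ext.2 fun i => ?_)
    by_cases hi : i ∈ ({1, 2, 3, 4, 5} : Finset ℕ)
    · simp only [Finset.mem_insert, Finset.mem_singleton] at hi
      rcases hi with rfl | rfl | rfl | rfl | rfl <;> omega
    · rw [Multiset.count_eq_zero.2 fun e => hi (hsub P (Multiset.mem_toFinset.2 e)),
        Multiset.count_eq_zero.2 fun e => hi (hsub Q (Multiset.mem_toFinset.2 e))]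
  have hS : ∀ P, g P ∈ S := by
    intro P
    have := hsum P
    simp only [g, S, Finset.mem_insert, Finset.mem_singleton, Prod.mk.injEq]
    omega
  calc Fintype.card (Nat.Partition 5) = (Finset.univ.image g).card := by
        rw [Finset.card_image_of_injective _ hg, Finset.card_univ]
    _ ≤ S.card := Finset.card_le_card fun x hx => by
        obtain ⟨P, -, rfl⟩ := Finset.mem_image.1 hx
        exact hS P
    _ ≤ 8 := by decide

private theorem partition_card_le (n : ℕ) (hn : 5 ≤ n) :
    Fintype.card (Nat.Partition n) ≤ 2 ^ (n - 2) := by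
  induction n, hn using Nat.le_induction with
  | base => exact partition_five
  | succ m hm ih =>
    refine (partition_card_succ m).trans ?_
    rw [show m + 1 - 2 = (m - 2) + 1 by omega, pow_succ']
    omega

private theorem card_sym (n : ℕ) (hn : 5 ≤ n) :
    Nat.card (ConjClasses (Equiv.Perm (Fin n))) ≤ 2 ^ (n - 2) := by
  classical
  have h : ∀ a b : Equiv.Perm (Fin n), IsConj a b → a.partition = b.partition :=
    fun a b h => partition_eq_of_isConj.1 h
  let f : ConjClasses (Equiv.Perm (Fin n)) → Nat.Partition (Fintype.card (Fin n)) :=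
    Quotient.lift (fun g => g.partition) h
  have hf : Function.Injective f := by
    intro a b hab
    induction a using Quotient.inductionOn with
    | _ x =>
      induction b using Quotient.inductionOn with
      | _ y => exact Quotient.sound (partition_eq_of_isConj.2 hab)
  refine (Nat.card_le_card_of_injective f hf).trans ?_
  rw [Nat.card_eq_fintype_card, Fintype.card_fin]
  exact partition_card_le n hn

private theorem exists_twin {n : ℕ} (hn : 5 ≤ n) (g : Equiv.Perm (Fin n))
    (h : Subgroup.centralizer {g} ≤ alternatingGroup (Fin n)) :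
    ∃ (h' : Equiv.Perm (Fin n)) (L : ℕ), L ∈ g.cycleType ∧ 3 ≤ L ∧ (∀ i ∈ g.cycleType, i ≤ L) ∧
      h'.cycleType = (L - 1) ::ₘ g.cycleType.erase L ∧ sign h' = -1 := by
  obtain ⟨hodd, hfix, hcount⟩ := centralizer_le_alternating_iff.1 h
  rw [Fintype.card_fin] at hfix
  have hne : g.cycleType.toFinset.Nonempty := by
    rw [Multiset.toFinset_nonempty]
    intro e
    rw [e] at hfix
    simp at hfix
    omega
  set L := g.cycleType.toFinset.max' hne with hL
  have hLm : L ∈ g.cycleType := Multiset.mem_toFinset.1 (Finset.max'_mem _ hne)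
  have hL3 : 3 ≤ L := by
    have := two_le_of_mem_cycleType hLm
    obtain ⟨c, hc⟩ := hodd L hLm
    omega
  have hsum : g.cycleType.sum = L + (g.cycleType.erase L).sum := by
    rw [← Multiset.sum_cons, Multiset.cons_erase hLm]
  have hle : g.cycleType.sum ≤ n := by
    rw [sum_cycleType]
    exact (Finset.card_le_univ _).trans_eq (Fintype.card_fin n)
  obtain ⟨h', hh'⟩ := (exists_with_cycleType_iff (α := Fin n)
    (m := (L - 1) ::ₘ g.cycleType.erase L)).2 ⟨by
      rw [Multiset.sum_cons, Fintype.card_fin]; omega, fun a ha => by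
      rcases Multiset.mem_cons.1 ha with rfl | ha
      · omega
      · exact two_le_of_mem_cycleType (Multiset.mem_of_mem_erase ha)⟩
  refine ⟨h', L, hLm, hL3, fun i hi => Finset.le_max' _ _ (Multiset.mem_toFinset.2 hi), hh', ?_⟩
  rw [sign_of_cycleType, hh', Multiset.sum_cons, Multiset.card_cons]
  have hg : sign g = 1 := by
    have : g ∈ Subgroup.centralizer {g} := Subgroup.mem_centralizer_singleton_iff.2 rfl
    exact mem_alternatingGroup.1 (h this)
  rw [sign_of_cycleType] at hg
  have hc : Multiset.card g.cycleType = Multiset.card (g.cycleType.erase L) + 1 := by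
    rw [← Multiset.card_cons, Multiset.cons_erase hLm]
  rw [show g.cycleType.sum + Multiset.card g.cycleType =
    (L - 1 + (g.cycleType.erase L).sum + (Multiset.card (g.cycleType.erase L) + 1)) + 1 by omega,
    pow_succ] at hg
  rw [← mul_inv_eq_iff_eq_mul.2 hg.symm, one_mul]
  rfl

private theorem twin_inj {n : ℕ} {g g' : Equiv.Perm (Fin n)}
    (hg : Subgroup.centralizer {g} ≤ alternatingGroup (Fin n))
    (hg' : Subgroup.centralizer {g'} ≤ alternatingGroup (Fin n)) {L L' : ℕ}
    (hL : L ∈ g.cycleType) (hL' : L' ∈ g'.cycleType) (h3 : 3 ≤ L) (h3' : 3 ≤ L')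
    (hmax : ∀ i ∈ g.cycleType, i ≤ L) (hmax' : ∀ i ∈ g'.cycleType, i ≤ L')
    (he : (L - 1) ::ₘ g.cycleType.erase L = (L' - 1) ::ₘ g'.cycleType.erase L') :
    g.cycleType = g'.cycleType := by
  have key : ∀ (a : Equiv.Perm (Fin n)) (A B : ℕ) (R : Multiset ℕ),
      Subgroup.centralizer {a} ≤ alternatingGroup (Fin n) → A ∈ a.cycleType →
      (∀ i ∈ a.cycleType, i ≤ A) → (A - 1) ::ₘ a.cycleType.erase A = (B - 1) ::ₘ R → B - 1 ≤ A - 1 := by
    intro a A B R ha hA hmA hAB
    obtain ⟨hodd, -, hcount⟩ := centralizer_le_alternating_iff.1 ha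
    have hm : B - 1 ∈ (A - 1) ::ₘ a.cycleType.erase A := by rw [hAB]; exact Multiset.mem_cons_self _ _
    rcases Multiset.mem_cons.1 hm with e | e
    · exact e.le
    · have hne : B - 1 ≠ A := fun e' => by
        rw [e'] at e
        have h1 := Multiset.count_pos.2 e
        rw [Multiset.count_erase_self] at h1
        have := hcount A
        omega
      have := hmA _ (Multiset.mem_of_mem_erase e)
      omega
  have := key g L L' _ hg hL hmax he
  have := key g' L' L _ hg' hL' hmax' he.symm
  have hLL : L = L' := by omega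
  subst hLL
  rw [Multiset.cons_inj_right] at he
  rw [← Multiset.cons_erase hL, ← Multiset.cons_erase hL', he]

private theorem card_alt_lt (n : ℕ) (hn : 5 ≤ n) :
    Nat.card (ConjClasses (alternatingGroup (Fin n))) < Nat.card (ConjClasses (Equiv.Perm (Fin n))) := by
  classical
  let Cl : alternatingGroup (Fin n) → ConjClasses (Equiv.Perm (Fin n)) := fun x => ConjClasses.mk x
  -- a fixed representative in each even class
  let R : ConjClasses (Equiv.Perm (Fin n)) → alternatingGroup (Fin n) := fun C =>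
    if h : ∃ x, Cl x = C then h.choose else 1
  have hR : ∀ x, Cl (R (Cl x)) = Cl x := fun x => by
    have h : ∃ y, Cl y = Cl x := ⟨x, rfl⟩
    simp only [R, dif_pos h]
    exact h.choose_spec
  let Spl : alternatingGroup (Fin n) → Prop := fun x =>
    Subgroup.centralizer {(x : Equiv.Perm (Fin n))} ≤ alternatingGroup (Fin n)
  let tw : alternatingGroup (Fin n) → Equiv.Perm (Fin n) := fun x =>
    if h : Spl x then (exists_twin hn _ h).choose else 1
  let ψ : alternatingGroup (Fin n) → ConjClasses (Equiv.Perm (Fin n)) := fun x =>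
    if IsConj x (R (Cl x)) then Cl x else ConjClasses.mk (tw x)
  have hnon : ∀ x, ¬ IsConj x (R (Cl x)) → Spl x := by
    intro x hx
    by_contra hs
    obtain ⟨d, hd, hdA⟩ := SetLike.not_le_iff_exists.1 hs
    obtain ⟨c, hc⟩ := isConj_iff.1 (ConjClasses.mk_eq_mk_iff_isConj.1 (hR x).symm)
    refine hx (isConj_iff.2 ?_)
    by_cases hcA : c ∈ alternatingGroup (Fin n)
    · exact ⟨⟨c, hcA⟩, Subtype.ext hc⟩
    · have hcd : c * d ∈ alternatingGroup (Fin n) := by
        rw [mem_alternatingGroup] at hcA hdA ⊢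
        rw [map_mul, (Int.units_eq_one_or _).resolve_left hcA, (Int.units_eq_one_or _).resolve_left hdA]
        rfl
      refine ⟨⟨c * d, hcd⟩, Subtype.ext ?_⟩
      rw [Subgroup.mem_centralizer_singleton_iff] at hd
      show c * d * (x : Equiv.Perm (Fin n)) * (c * d)⁻¹ = _
      rw [mul_assoc c d, hd]
      rw [← hc]
      group
  have htw : ∀ x, Spl x → ∃ L, L ∈ (x : Equiv.Perm (Fin n)).cycleType ∧ 3 ≤ L ∧
      (∀ i ∈ (x : Equiv.Perm (Fin n)).cycleType, i ≤ L) ∧
      (tw x).cycleType = (L - 1) ::ₘ (x : Equiv.Perm (Fin n)).cycleType.erase L ∧ sign (tw x) = -1 := by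
    intro x hx
    simp only [tw, dif_pos hx]
    exact (exists_twin hn _ hx).choose_spec
  have heven : ∀ x y : alternatingGroup (Fin n), sign (tw x) = -1 → ConjClasses.mk (tw x) ≠ Cl y := by
    intro x y hs he
    obtain ⟨c, hc⟩ := isConj_iff.1 (ConjClasses.mk_eq_mk_iff_isConj.1 he)
    have h1 := mem_alternatingGroup.1 y.2
    rw [← hc, map_mul, map_mul, map_inv, hs, mul_neg_one, neg_mul, mul_inv_cancel] at h1
    exact absurd h1 (by decide)
  have hsplit : ∀ x y : alternatingGroup (Fin n), Cl x = Cl y → ¬ IsConj x (R (Cl x)) →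
      ¬ IsConj y (R (Cl x)) → IsConj x y := by
    intro x y hxy hx hy
    obtain ⟨a, ha⟩ := isConj_iff.1 (ConjClasses.mk_eq_mk_iff_isConj.1 (hR x).symm)
    obtain ⟨b, hb⟩ := isConj_iff.1 (ConjClasses.mk_eq_mk_iff_isConj.1 (hxy.symm.trans (hR x).symm))
    have hba : b⁻¹ * a ∈ alternatingGroup (Fin n) := by
      have h1 : a ∉ alternatingGroup (Fin n) := fun h => hx (isConj_iff.2 ⟨⟨a, h⟩, Subtype.ext ha⟩)
      have h2 : b ∉ alternatingGroup (Fin n) := fun h => hy (isConj_iff.2 ⟨⟨b, h⟩, Subtype.ext hb⟩)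
      rw [mem_alternatingGroup] at h1 h2 ⊢
      rw [map_mul, map_inv, (Int.units_eq_one_or _).resolve_left h1,
        (Int.units_eq_one_or _).resolve_left h2]
      exact inv_mul_cancel _
    refine isConj_iff.2 ⟨⟨b⁻¹ * a, hba⟩, Subtype.ext ?_⟩
    show b⁻¹ * a * (x : Equiv.Perm (Fin n)) * (b⁻¹ * a)⁻¹ = y
    have e : (y : Equiv.Perm (Fin n)) = b⁻¹ * (b * y * b⁻¹) * b := by group
    rw [e, hb, ← ha]
    group
  let Ψ : ConjClasses (alternatingGroup (Fin n)) → ConjClasses (Equiv.Perm (Fin n)) := fun a =>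
    ψ a.exists_rep.choose
  have hinj : Function.Injective Ψ := by
    intro a b hab
    obtain ⟨x, hx, hxd⟩ : ∃ x, ConjClasses.mk x = a ∧ Ψ a = ψ x :=
      ⟨_, a.exists_rep.choose_spec, rfl⟩
    obtain ⟨y, hy, hyd⟩ : ∃ y, ConjClasses.mk y = b ∧ Ψ b = ψ y :=
      ⟨_, b.exists_rep.choose_spec, rfl⟩
    rw [hxd, hyd] at hab
    rw [← hx, ← hy, ConjClasses.mk_eq_mk_iff_isConj]
    by_cases h1 : IsConj x (R (Cl x)) <;> by_cases h2 : IsConj y (R (Cl y)) <;>
      simp only [ψ, if_pos, if_neg, h1, h2, not_false_iff] at hab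
    · exact h1.trans (hab ▸ h2.symm)
    · obtain ⟨L, -, -, -, -, hs⟩ := htw y (hnon y h2)
      exact absurd hab.symm (heven y x hs)
    · obtain ⟨L, -, -, -, -, hs⟩ := htw x (hnon x h1)
      exact absurd hab (heven x y hs)
    · obtain ⟨L, hL, h3, hmax, hct, -⟩ := htw x (hnon x h1)
      obtain ⟨L', hL', h3', hmax', hct', -⟩ := htw y (hnon y h2)
      have hc := isConj_iff_cycleType_eq.1 (ConjClasses.mk_eq_mk_iff_isConj.1 hab)
      rw [hct, hct'] at hc
      have := twin_inj (hnon x h1) (hnon y h2) hL hL' h3 h3' hmax hmax' hc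
      have hxy : Cl x = Cl y := ConjClasses.mk_eq_mk_iff_isConj.2 (isConj_iff_cycleType_eq.2 this)
      exact hsplit x y hxy h1 (hxy ▸ h2)
  -- the transpositions are not reached
  obtain ⟨τ, hτ⟩ := (exists_with_cycleType_iff (α := Fin n) (m := {2})).2
    ⟨by rw [Fintype.card_fin, Multiset.sum_singleton]; omega,
      fun a ha => (Multiset.mem_singleton.1 ha).ge⟩
  have hmiss : ConjClasses.mk τ ∉ Set.range Ψ := by
    rintro ⟨a, ha⟩
    obtain ⟨x, hxd⟩ : ∃ x, Ψ a = ψ x := ⟨_, rfl⟩
    rw [hxd] at ha
    have hτs : sign τ = -1 := by rw [sign_of_cycleType, hτ]; rfl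
    by_cases h1 : IsConj x (R (Cl x))
    · simp only [ψ, if_pos h1] at ha
      obtain ⟨c, hc⟩ := isConj_iff.1 (ConjClasses.mk_eq_mk_iff_isConj.1 ha)
      rw [← hc, map_mul, map_mul, map_inv, mem_alternatingGroup.1 x.2, mul_one, mul_inv_cancel] at hτs
      exact absurd hτs (by decide)
    · simp only [ψ, if_neg h1] at ha
      obtain ⟨L, hL, h3, hmax, hct, -⟩ := htw x (hnon x h1)
      have hc := isConj_iff_cycleType_eq.1 (ConjClasses.mk_eq_mk_iff_isConj.1 ha)
      rw [hct, hτ] at hc
      have hc1 := congrArg Multiset.card hc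
      rw [Multiset.card_cons, Multiset.card_singleton] at hc1
      have hc0 : (x : Equiv.Perm (Fin n)).cycleType.erase L = 0 := Multiset.card_eq_zero.1 (by omega)
      rw [hc0, Multiset.cons_zero, Multiset.singleton_inj] at hc
      obtain ⟨-, hfix, -⟩ := centralizer_le_alternating_iff.1 (hnon x h1)
      rw [← Multiset.cons_erase hL, hc0, Fintype.card_fin] at hfix
      simp only [Multiset.cons_zero, Multiset.sum_singleton] at hfix
      omega
  have hlt : (Set.range Ψ).ncard < Nat.card (ConjClasses (Equiv.Perm (Fin n))) := by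
    rw [← Set.ncard_univ]
    exact Set.ncard_lt_ncard (Set.ssubset_univ_iff.2 fun e => hmiss (e ▸ Set.mem_univ _))
      (Set.toFinite _)
  rwa [Set.ncard_range_of_injective hinj] at hlt

theorem result (n : ℕ) (hn : 5 ≤ n) : Nat.card (ConjClasses (alternatingGroup (Fin n))) < Nat.card (ConjClasses (Equiv.Perm (Fin n))) ∧ Nat.card (ConjClasses (Equiv.Perm (Fin n))) ≤ 2 ^ (n - 2) :=
  ⟨card_alt_lt n hn, card_sym n hn⟩

end Cfsg.Agent.S4198
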