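import Cfsg.Statements.S4200
import Mathlib.GroupTheory.GroupAction.CardCommute
import Cfsg.Agent.Lib.FiniteGroup.IndexBasics

set_option autoImplicit false
open Cfsg

namespace Cfsg.Agent.S4200

/-- Let Y be a subgroup of the finite group X, of index m. Then the numbers of conjugacy classes satisfy k(Y) ≤ m·k(X) and k(X) ≤ m·k(Y), and the second inequality is strict unless Y is normal in X. -/
theorem result {X : Type*} [Group X] [Finite X] (Y : Subgroup X) : Nat.card (ConjClasses Y) ≤ Y.index * Nat.card (ConjClasses X) ∧ Nat.card (ConjClasses X) ≤ Y.index * Nat.card (ConjClasses Y) ∧ (¬ Y.Normal → Nat.card (ConjClasses X) < Y.index * Nat.card (ConjClasses Y)) := by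
  classical
  haveI : Fintype X := Fintype.ofFinite X
  -- `t y` counts elements commuting with `y` in `X`, `s y` those in `Y`
  have hX := card_comm_eq_card_conjClasses_mul_card X
  have hY := card_comm_eq_card_conjClasses_mul_card Y
  set kX := Nat.card (ConjClasses X)
  set kY := Nat.card (ConjClasses Y)
  set m := Y.index with hm
  have hcardX : Nat.card X = Nat.card Y * m := (Y.card_mul_index).symm
  have hYpos : 0 < Nat.card Y := Nat.card_pos
  -- centralizer count
  have hC : ∀ x : X, Nat.card {z : X // Commute x z} =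
      Y.relIndex (Subgroup.centralizer {x}) * Nat.card {y : Y // Commute x (y : X)} := by
    intro x
    have e1 : Nat.card {z : X // Commute x z} = Nat.card (Subgroup.centralizer ({x} : Set X)) :=
      Nat.card_congr (Equiv.subtypeEquivRight fun z => by
        rw [Subgroup.mem_centralizer_singleton_iff]; exact eq_comm)
    have e2 : Nat.card {y : Y // Commute x (y : X)} =
        Nat.card (Y.subgroupOf (Subgroup.centralizer ({x} : Set X))) :=
      Nat.card_congr
        { toFun := fun y => ⟨⟨(y.1 : X), Subgroup.mem_centralizer_singleton_iff.2 y.2.eq.symm⟩, y.1.2⟩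
          invFun := fun c => ⟨⟨(c.1 : X), c.2⟩, (Subgroup.mem_centralizer_singleton_iff.1 c.1.2).symm⟩
          left_inv := fun _ => rfl
          right_inv := fun _ => rfl }
    rw [e1, e2, Subgroup.relIndex, mul_comm, Subgroup.card_mul_index]
  have hle : ∀ x : X, Y.relIndex (Subgroup.centralizer {x}) ≤ m := by
    intro x
    rw [hm, ← Subgroup.relIndex_top_right]
    exact Subgroup.relIndex_le_of_le_right le_top
      (by rw [Subgroup.relIndex_top_right]; exact Subgroup.index_ne_zero_of_finite)
  have h1 : Nat.card {q : X × X // Commute q.1 q.2} ≤ m * Nat.card {q : X × Y // Commute q.1 (q.2 : X)} := by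
    rw [Nat.card_congr (Equiv.subtypeProdEquivSigmaSubtype fun a b : X => Commute a b),
      Nat.card_congr (Equiv.subtypeProdEquivSigmaSubtype fun (a : X) (b : Y) => Commute a (b : X)),
      Nat.card_sigma, Nat.card_sigma, Finset.mul_sum]
    exact Finset.sum_le_sum fun x _ => (hC x).le.trans (Nat.mul_le_mul_right _ (hle x))
  have e3 : Nat.card {q : X × Y // Commute q.1 (q.2 : X)} = ∑ y : Y, Nat.card {z : X // Commute (y : X) z} := by
    have e5 : Nat.card {q : X × Y // Commute q.1 (q.2 : X)} = Nat.card {r : Y × X // Commute (r.1 : X) r.2} :=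
      Nat.card_congr
        { toFun := fun q => ⟨(q.1.2, q.1.1), Commute.symm q.2⟩
          invFun := fun q => ⟨(q.1.2, q.1.1), Commute.symm q.2⟩
          left_inv := fun _ => rfl
          right_inv := fun _ => rfl }
    rw [e5, Nat.card_congr (Equiv.subtypeProdEquivSigmaSubtype fun (a : Y) (b : X) => Commute (a : X) b),
      Nat.card_sigma]
  have e4 : Nat.card {q : Y × Y // Commute q.1 q.2} = ∑ y : Y, Nat.card {z : Y // Commute (y : X) (z : X)} := by
    rw [Nat.card_congr (Equiv.subtypeProdEquivSigmaSubtype fun a b : Y => Commute a b), Nat.card_sigma]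
    exact Finset.sum_congr rfl fun y _ => Nat.card_congr (Equiv.subtypeEquivRight fun z =>
      ⟨fun h => congrArg Subtype.val h, fun h => Subtype.ext h⟩)
  have h2 : Nat.card {q : X × Y // Commute q.1 (q.2 : X)} ≤ m * Nat.card {q : Y × Y // Commute q.1 q.2} := by
    rw [e3, e4, Finset.mul_sum]
    exact Finset.sum_le_sum fun y _ => (hC (y : X)).le.trans (Nat.mul_le_mul_right _ (hle _))
  have h3 : Nat.card {q : Y × Y // Commute q.1 q.2} ≤ Nat.card {q : X × X // Commute q.1 q.2} :=
    Nat.card_le_card_of_injective (fun q => ⟨((q.1.1 : X), (q.1.2 : X)), congrArg Subtype.val q.2⟩)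
      (fun a b h => by
        have h' := congrArg Subtype.val h
        exact Subtype.ext (Prod.ext (Subtype.ext (congrArg Prod.fst h')) (Subtype.ext (congrArg Prod.snd h'))))
  refine ⟨?_, ?_, ?_⟩
  · rw [hX, hY, hcardX] at h3
    refine Nat.le_of_mul_le_mul_right ?_ hYpos
    calc kY * Nat.card Y ≤ kX * (Nat.card Y * m) := h3
      _ = m * kX * Nat.card Y := by ring
  · refine Nat.le_of_mul_le_mul_right ?_ (Nat.card_pos (α := X))
    calc kX * Nat.card X ≤ m * (m * (kY * Nat.card Y)) := by
          rw [← hX, ← hY]; exact h1.trans (Nat.mul_le_mul_left _ h2)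
      _ = m * kY * Nat.card X := by rw [hcardX]; ring
  · intro hnn
    refine Nat.lt_of_mul_lt_mul_right (a := Nat.card X) ?_
    have h2' : Nat.card {q : X × Y // Commute q.1 (q.2 : X)} < m * Nat.card {q : Y × Y // Commute q.1 q.2} := by
      rw [e3, e4, Finset.mul_sum]
      refine Finset.sum_lt_sum (fun y _ => (hC (y : X)).le.trans (Nat.mul_le_mul_right _ (hle _))) ?_
      by_contra hcon
      simp only [Finset.mem_univ, true_and, not_exists, not_lt] at hcon
      refine hnn ⟨fun n hn g => ?_⟩
      have hfull : Y.relIndex (Subgroup.centralizer {(n : X)}) = Y.index := by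
        have h := hcon ⟨n, hn⟩
        rw [hC] at h
        haveI : Nonempty {z : Y // Commute n (z : X)} := ⟨⟨1, Commute.one_right _⟩⟩
        exact le_antisymm (hle _) (Nat.le_of_mul_le_mul_right h Nat.card_pos)
      obtain ⟨c, hc, y, hy, hgy⟩ := FiniteGroup.exists_mul_of_relIndex_eq_index Y _ hfull g⁻¹
      have hg : g = y⁻¹ * c⁻¹ := by rw [← inv_inv g, hgy, mul_inv_rev]
      have hc' : c * n = n * c := Subgroup.mem_centralizer_singleton_iff.1 hc
      have : g * n * g⁻¹ = y⁻¹ * n * y := by
        rw [hg, mul_inv_rev, inv_inv, inv_inv]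
        calc y⁻¹ * c⁻¹ * n * (c * y) = y⁻¹ * c⁻¹ * (n * c) * y := by group
          _ = y⁻¹ * n * y := by rw [← hc']; group
      rw [this]
      exact mul_mem (mul_mem (inv_mem hy) hn) hy
    have hmpos : 0 < m := Nat.pos_of_ne_zero Subgroup.index_ne_zero_of_finite
    calc kX * Nat.card X ≤ m * Nat.card {q : X × Y // Commute q.1 (q.2 : X)} := hX ▸ h1
      _ < m * (m * Nat.card {q : Y × Y // Commute q.1 q.2}) := Nat.mul_lt_mul_of_pos_left h2' hmpos
      _ = m * kY * Nat.card X := by rw [hY, hcardX]; ring

end Cfsg.Agent.S4200
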