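import Cfsg.Statements.S4201
import Mathlib.GroupTheory.CommutingProbability
import Mathlib.Tactic.Ring


set_option autoImplicit false
open Cfsg

namespace Cfsg.Agent.S4201

/-- If N is a normal subgroup of the finite group X then k(X) ≤ k(N)·k(X ⧸ N), where k denotes the number of conjugacy classes. -/
theorem result {X : Type*} [Group X] [Finite X] (N : Subgroup X) [N.Normal] : Nat.card (ConjClasses X) ≤ Nat.card (ConjClasses N) * Nat.card (ConjClasses (X ⧸ N)) := by
  classical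
  have hX := card_comm_eq_card_conjClasses_mul_card X
  have hN := card_comm_eq_card_conjClasses_mul_card N
  have hQ := card_comm_eq_card_conjClasses_mul_card (X ⧸ N)
  -- a commuting lift
  have lift : ∀ (x : X) (v : X ⧸ N), (∃ z : X, Commute x z ∧ (z : X ⧸ N) = v) →
      ∃ z : X, Commute x z ∧ (z : X ⧸ N) = v := fun _ _ h => h
  let w : X → X ⧸ N → X := fun x v =>
    if h : ∃ z : X, Commute x z ∧ (z : X ⧸ N) = v then h.choose else 1
  have hw : ∀ x z, Commute x z → Commute x (w x z) ∧ ((w x z : X) : X ⧸ N) = z := by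
    intro x z h
    have he : ∃ u : X, Commute x u ∧ (u : X ⧸ N) = (z : X ⧸ N) := ⟨z, h, rfl⟩
    simp only [w, dif_pos he]
    exact he.choose_spec
  -- first coordinate
  have hn : ∀ x z, Commute x z → (w x z)⁻¹ * z ∈ N ∧ Commute ((w x z)⁻¹ * z) x := fun x z h =>
    ⟨QuotientGroup.eq.1 (hw x z h).2, ((Commute.inv_right (hw x z h).1).mul_right h).symm⟩
  let F : {q : X × X // Commute q.1 q.2} →
      {q : N × N // Commute q.1 q.2} × {q : (X ⧸ N) × (X ⧸ N) // Commute q.1 q.2} := fun q =>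
    have h1 := hn q.1.1 q.1.2 q.2
    have h2 := hn _ q.1.1 h1.2
    (⟨(⟨_, h1.1⟩, ⟨_, h2.1⟩), Subtype.ext (Commute.symm h2.2).eq⟩,
     ⟨((q.1.1 : X ⧸ N), (q.1.2 : X ⧸ N)), Commute.map q.2 (QuotientGroup.mk' N)⟩)
  have hF : Function.Injective F := by
    rintro ⟨⟨a, b⟩, hab⟩ ⟨⟨a', b'⟩, hab'⟩ h
    have h1 : (w a (b : X ⧸ N))⁻¹ * b = (w a' (b' : X ⧸ N))⁻¹ * b' :=
      congrArg (fun r => (r.1.1.1 : X)) h
    have h2 : (w ((w a (b : X ⧸ N))⁻¹ * b) (a : X ⧸ N))⁻¹ * a =
        (w ((w a' (b' : X ⧸ N))⁻¹ * b') (a' : X ⧸ N))⁻¹ * a' :=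
      congrArg (fun r => (r.1.1.2 : X)) h
    have h3 : (a : X ⧸ N) = (a' : X ⧸ N) := congrArg (fun r => r.2.1.1) h
    have h4 : (b : X ⧸ N) = (b' : X ⧸ N) := congrArg (fun r => r.2.1.2) h
    have ha : a = a' := by
      rw [h1, h3] at h2
      exact mul_left_cancel h2
    subst ha
    have hb : b = b' := by
      rw [h4] at h1
      exact mul_left_cancel h1
    subst hb
    rfl
  have h := Nat.card_le_card_of_injective F hF
  rw [Nat.card_prod, hX, hN, hQ] at h
  refine Nat.le_of_mul_le_mul_right ?_ (Nat.card_pos (α := X))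
  refine h.trans_eq ?_
  rw [Subgroup.card_eq_card_quotient_mul_card_subgroup N]
  ring

end Cfsg.Agent.S4201
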