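import Cfsg.Statements.S4203
import Cfsg.Agent.Lib.FiniteGroup.IndexBasics
import Cfsg.Agent.Lib.FiniteGroup.PermSmall
import Mathlib.GroupTheory.Nilpotent
import Mathlib.Order.Atoms.Finite

set_option autoImplicit false
open Cfsg

namespace Cfsg.Agent.S4203

/-- A finite group in which every maximal subgroup has index a prime or the square of a prime is solvable. -/
theorem result {G : Type*} [Group G] [Finite G] (h : ∀ M : Subgroup G, IsCoatom M → ∃ p : ℕ, p.Prime ∧ (M.index = p ∨ M.index = p ^ 2)) : Group.IsSolvable G := by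
  classical
  suffices H : ∀ (n : ℕ) (Q : Type u_1) [Group Q] [Finite Q], Nat.card Q = n →
      (∀ M : Subgroup Q, IsCoatom M → ∃ p : ℕ, p.Prime ∧ (M.index = p ∨ M.index = p ^ 2)) →
      Group.IsSolvable Q from H _ G rfl h
  intro n
  induction n using Nat.strong_induction_on with | _ n IH =>
  intro Q _ _ hn hmax
  rcases subsingleton_or_nontrivial Q with hs | hs
  · infer_instance
  obtain ⟨N, ⟨hNn, hNb⟩, hNmin⟩ := exists_minimal_of_wellFoundedLT
    (fun N : Subgroup Q => N.Normal ∧ N ≠ ⊥) ⟨⊤, inferInstance, top_ne_bot⟩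
  haveI := hNn
  have hcard : Nat.card (Q ⧸ N) < n := by
    rw [← hn, Subgroup.card_eq_card_quotient_mul_card_subgroup N]
    refine lt_mul_of_one_lt_right Nat.card_pos ?_
    have h1 : Nat.card N ≠ 1 := fun h1 => hNb (Subgroup.card_eq_one.1 h1)
    have h2 : 0 < Nat.card N := Nat.card_pos
    omega
  have hquot : Group.IsSolvable (Q ⧸ N) := by
    refine IH _ hcard _ rfl fun M hM => ?_
    have hπ := QuotientGroup.mk'_surjective N
    have hMc : IsCoatom (M.comap (QuotientGroup.mk' N)) := by
      refine ⟨fun h => hM.1 ?_, fun L hL => ?_⟩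
      · rw [← Subgroup.map_comap_eq_self_of_surjective hπ M, h, Subgroup.map_top_of_surjective _ hπ]
      · have hNL : (QuotientGroup.mk' N).ker ≤ L := (Subgroup.ker_le_comap _ _).trans hL.le
        have hlt : M < L.map (QuotientGroup.mk' N) := by
          rw [← Subgroup.comap_lt_comap_of_surjective hπ, Subgroup.comap_map_eq_self hNL]
          exact hL
        rw [← Subgroup.comap_map_eq_self hNL, hM.2 _ hlt, Subgroup.comap_top]
    obtain ⟨p, hp, hpM⟩ := hmax _ hMc
    rw [Subgroup.index_comap_of_surjective _ hπ] at hpM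
    exact ⟨p, hp, hpM⟩
  refine FiniteGroup.isSolvable_of_quotient N ?_ hquot
  by_contra hns
  -- largest prime divisor of the order of `N`
  have hpf : (Nat.card N).primeFactors.Nonempty := by
    refine Nat.nonempty_primeFactors.2 ?_
    have h1 : Nat.card N ≠ 1 := fun h1 => hNb (Subgroup.card_eq_one.1 h1)
    have h2 : 0 < Nat.card N := Nat.card_pos
    omega
  set q := (Nat.card N).primeFactors.max' hpf with hqdef
  have hqmem := Finset.max'_mem _ hpf
  haveI : Fact q.Prime := ⟨Nat.prime_of_mem_primeFactors hqmem⟩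
  obtain ⟨S⟩ : Nonempty (Sylow q N) := inferInstance
  have hSne : (S : Subgroup N) ≠ ⊥ := S.ne_bot_of_dvd_card (Nat.dvd_of_mem_primeFactors hqmem)
  set S' := (S : Subgroup N).map N.subtype with hS'
  have hsup : Subgroup.normalizer (S' : Set Q) ⊔ N = ⊤ := S.normalizer_sup_eq_top
  by_cases htop : Subgroup.normalizer (S' : Set Q) = ⊤
  · have hS'n : S'.Normal := Subgroup.normalizer_eq_top_iff.1 htop
    have hle : N ≤ S' := by
      refine hNmin ⟨hS'n, ?_⟩ (Subgroup.map_subtype_le _)
      rw [hS', Ne, Subgroup.map_eq_bot_iff_of_injective _ N.subtype_injective]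
      exact hSne
    have hp : IsPGroup q N := (S.isPGroup'.map N.subtype).to_le hle
    haveI := hp.isNilpotent
    exact hns inferInstance
  obtain ⟨M, hMc, hMle⟩ := (eq_top_or_exists_le_coatom (Subgroup.normalizer (S' : Set Q))).resolve_left htop
  have hMN : M ⊔ N = ⊤ := top_le_iff.1 (hsup ▸ sup_le_sup_right hMle N)
  have hidx : (M.subgroupOf N).index = M.index := by
    show M.relIndex N = M.index
    rw [← FiniteGroup.relIndex_sup_of_normal, hMN, Subgroup.relIndex_top_right]
  have hnorm : Subgroup.normalizer ((S : Subgroup N) : Set N) ≤ M.subgroupOf N := by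
    intro x hx
    exact hMle (Subgroup.le_normalizer_map N.subtype (Subgroup.mem_map_of_mem N.subtype hx))
  have hSle : (S : Subgroup N) ≤ M.subgroupOf N := Subgroup.le_normalizer.trans hnorm
  have hmod : M.index ≡ 1 [MOD q] := by
    rw [← hidx]
    have h1 := card_sylow_modEq_one q N
    have h2 := card_sylow_modEq_one q (M.subgroupOf N)
    rw [S.card_eq_index_normalizer] at h1
    rw [(S.subtype hSle).card_eq_index_normalizer] at h2
    change (Subgroup.normalizer ((((S : Subgroup N).subgroupOf (M.subgroupOf N)) : Subgroup (M.subgroupOf N)) : Set (M.subgroupOf N))).index ≡ 1 [MOD q] at h2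
    rw [← Subgroup.subgroupOf_normalizer_eq hSle] at h2
    change (Subgroup.normalizer ((S : Subgroup N) : Set N)).index ≡ 1 [MOD q] at h1
    rw [← Subgroup.relIndex_mul_index hnorm] at h1
    have h3 := h2.mul_right (M.subgroupOf N).index
    rw [one_mul] at h3
    exact h3.symm.trans h1
  obtain ⟨p, hp, hpM⟩ := hmax M hMc
  have hpN : p ∣ Nat.card N := by
    refine dvd_trans ?_ (Subgroup.index_dvd_card (M.subgroupOf N))
    rw [hidx]
    rcases hpM with h | h <;> rw [h]
    exact dvd_pow_self p two_ne_zero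
  have hpq : p ≤ q := Finset.le_max' _ _ (Nat.mem_primeFactors.2 ⟨hp, hpN, Nat.card_pos.ne'⟩)
  have hq : q.Prime := Fact.out
  have hne : p ≠ q := by
    intro e
    subst e
    have h0 : M.index % q = 1 % q := hmod
    have h1 : M.index % q = 0 := by
      rcases hpM with h | h <;> rw [h]
      · exact Nat.mod_self q
      · exact Nat.mod_eq_zero_of_dvd (dvd_pow_self q two_ne_zero)
    rw [h1, Nat.one_mod_eq_one.2 hq.one_lt.ne'] at h0
    exact one_ne_zero h0.symm
  have hlt : p < q := lt_of_le_of_ne hpq hne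
  have hp2 := hp.two_le
  have hfour : M.index = 4 := by
    rcases hpM with h | h <;> rw [h] at hmod ⊢
    · exfalso
      have := Nat.ModEq.eq_of_lt_of_lt hmod hlt hq.one_lt
      omega
    · have hd : q ∣ p ^ 2 - 1 := (Nat.modEq_iff_dvd' (Nat.one_le_pow _ _ hp.pos)).1 hmod.symm
      rw [show p ^ 2 - 1 = (p - 1) * (p + 1) by
        have := Nat.sq_sub_sq p 1
        simpa [mul_comm] using this] at hd
      rcases hq.dvd_mul.1 hd with h' | h'
      · have := Nat.le_of_dvd (by omega) h'
        omega
      · have h'' := Nat.le_of_dvd (by omega) h'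
        have hqp : q = p + 1 := by omega
        rcases hp.eq_two_or_odd with e | e
        · rw [e]; norm_num
        · rcases hq.eq_two_or_odd with e' | e' <;> omega
  have hK : (M.normalCore.subgroupOf N) = ⊥ := by
    rw [Subgroup.subgroupOf_eq_bot]
    refine disjoint_iff.2 ?_
    by_contra hne'
    have hle : N ≤ M.normalCore ⊓ N := hNmin ⟨inferInstance, hne'⟩ inf_le_right
    have : N ≤ M := hle.trans (inf_le_left.trans M.normalCore_le)
    exact hMc.1 (by rw [← hMN, sup_eq_left.2 this])
  let φ : N →* Equiv.Perm (Q ⧸ M) := (MulAction.toPermHom Q (Q ⧸ M)).comp N.subtype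
  have hφ : Function.Injective φ := by
    rw [← MonoidHom.ker_eq_bot_iff]
    have e : φ.ker = (MulAction.toPermHom Q (Q ⧸ M)).ker.subgroupOf N := rfl
    rw [e, ← Subgroup.normalCore_eq_ker, hK]
  haveI : Group.IsSolvable (Equiv.Perm (Q ⧸ M)) :=
    PermSmall.isSolvable_perm_of_card_le_four (by rw [← Subgroup.index_eq_card, hfour])
  exact hns (Group.isSolvable_of_isSolvable_injective hφ)

end Cfsg.Agent.S4203
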