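import Cfsg.Statements.S4204
import Cfsg.Agent.Lib.FiniteGroup.IndexBasics

set_option autoImplicit false
open Cfsg

namespace Cfsg.Agent.S4204

/-- If `H` and `K` are normal subgroups of a finite group with `H` nilpotent of class at most `c` and `K` nilpotent of class at most `d` (the terms with index `c`, respectively `d`, of their lower central series are trivial, indices starting at `0`), then `HK` is nilpotent of class at most `c + d`. -/
theorem result {G : Type*} [Group G] [Finite G] (H K : Subgroup G) [H.Normal] [K.Normal] (c d : ℕ) (hH : H.lowerCentralSeries c = ⊥) (hK : K.lowerCentralSeries d = ⊥) : (H ⊔ K).lowerCentralSeries (c + d) = ⊥ := by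
  let A : ℕ → Subgroup G := fun | 0 => ⊤ | i + 1 => H.lowerCentralSeries i
  let B : ℕ → Subgroup G := fun | 0 => ⊤ | i + 1 => K.lowerCentralSeries i
  have hn : ∀ (L : Subgroup G) [L.Normal] (i : ℕ), (L.lowerCentralSeries i).Normal := by
    intro L _ i
    induction i with
    | zero => simpa
    | succ i ih => rw [Subgroup.lowerCentralSeries_succ]; infer_instance
  have hA : ∀ i, (A i).Normal := fun i => by
    cases i with
    | zero => exact (inferInstance : (⊤ : Subgroup G).Normal)
    | succ i => exact hn H i
  have hB : ∀ i, (B i).Normal := fun i => by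
    cases i with
    | zero => exact (inferInstance : (⊤ : Subgroup G).Normal)
    | succ i => exact hn K i
  let T : ℕ → Subgroup G := fun n => ⨆ i : Fin (n + 1), A i ⊓ B (n - i)
  have hT : ∀ n i, i ≤ n → A i ⊓ B (n - i) ≤ T n := fun n i hi =>
    le_iSup (fun j : Fin (n + 1) => A j ⊓ B (n - j)) ⟨i, Nat.lt_succ_of_le hi⟩
  have hTn : ∀ n, (T n).Normal := fun n => by
    haveI : ∀ i : Fin (n + 1), (A i ⊓ B (n - i)).Normal := fun i => by
      haveI := hA i
      haveI := hB (n - i)
      infer_instance
    exact Subgroup.iSup_normal fun i : Fin (n + 1) => A i ⊓ B (n - i)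
  have key : ∀ n, (H ⊔ K).lowerCentralSeries n ≤ T (n + 1) := by
    intro n
    induction n with
    | zero =>
      rw [Subgroup.lowerCentralSeries_zero]
      refine sup_le (le_trans ?_ (hT 1 1 le_rfl)) (le_trans ?_ (hT 1 0 (by omega)))
      · exact le_inf le_rfl le_top
      · exact le_inf le_top le_rfl
    | succ n ih =>
      rw [Subgroup.lowerCentralSeries_succ]
      haveI := hTn (n + 1 + 1)
      refine (Subgroup.commutator_mono ih le_rfl).trans (FiniteGroup.commutator_iSup_le _ _ _ fun i => ?_)
      haveI := hA (i : ℕ)
      haveI := hB (n + 1 - (i : ℕ))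
      have hi : (i : ℕ) ≤ n + 1 := Nat.le_of_lt_succ i.2
      refine FiniteGroup.commutator_sup_right_le _ _ _ _ ?_ ?_
      · refine le_trans (le_inf ?_ ?_) (hT (n + 1 + 1) (i + 1) (by omega))
        · refine (Subgroup.commutator_mono inf_le_left le_rfl).trans ?_
          rcases (i : ℕ) with _ | j
          · exact Subgroup.commutator_le_right _ _
          · exact le_rfl
        · rw [show n + 1 + 1 - ((i : ℕ) + 1) = n + 1 - i by omega]
          exact (Subgroup.commutator_le_left _ _).trans inf_le_right
      · refine le_trans (le_inf ?_ ?_) (hT (n + 1 + 1) i (by omega))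
        · exact (Subgroup.commutator_le_left _ _).trans inf_le_left
        · refine (Subgroup.commutator_mono inf_le_right le_rfl).trans ?_
          rw [show n + 1 + 1 - (i : ℕ) = (n + 1 - i) + 1 by omega]
          rcases (n + 1 - (i : ℕ)) with _ | j
          · exact Subgroup.commutator_le_right _ _
          · exact le_rfl
  rw [eq_bot_iff]
  refine (key _).trans (iSup_le fun i => ?_)
  by_cases hi : c + 1 ≤ (i : ℕ)
  · refine inf_le_left.trans ?_
    obtain ⟨j, hj⟩ := Nat.exists_eq_add_of_le hi
    rw [hj, show c + 1 + j = (c + j) + 1 by omega]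
    exact (H.lowerCentralSeries_antitone (Nat.le_add_right c j)).trans hH.le
  · refine inf_le_right.trans ?_
    obtain ⟨j, hj⟩ := Nat.exists_eq_add_of_le (show d + 1 ≤ c + d + 1 - (i : ℕ) by omega)
    rw [hj, show d + 1 + j = (d + j) + 1 by omega]
    exact (K.lowerCentralSeries_antitone (Nat.le_add_right d j)).trans hK.le

end Cfsg.Agent.S4204
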