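import Cfsg.Statements.S4213
import Cfsg.Agent.Lib.FGStruct.Counting
import Cfsg.Agent.Lib.Solvable.Basic
import Mathlib.GroupTheory.SchurZassenhaus

set_option autoImplicit false
open Cfsg

namespace Cfsg.Agent.S4213

universe u

/-- The solutions of `x ^ n = 1`. -/
theorem subgroup_of_count {G : Type u} [Group G] [Finite G] {n : ℕ} (K : Subgroup G)
    (hcount : Nat.card {x : G // x ^ n = 1} = n) (hK : ∀ x ∈ K, x ^ n = 1) (hcard : n ≤ Nat.card K) :
    ∃ H : Subgroup G, H.Normal ∧ (H : Set G) = {x : G | x ^ n = 1} := by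
  have heq : (K : Set G) = {x : G | x ^ n = 1} := by
    refine Set.eq_of_subset_of_ncard_le hK ?_ (Set.toFinite _)
    rw [← Nat.card_coe_set_eq, ← Nat.card_coe_set_eq]
    exact (le_of_eq hcount).trans hcard
  refine ⟨K, ⟨fun x hx g => ?_⟩, heq⟩
  have h1 : x ^ n = 1 := hK x hx
  show g * x * g⁻¹ ∈ (K : Set G)
  rw [heq]
  show (g * x * g⁻¹) ^ n = 1
  rw [conj_pow, h1, mul_one, mul_inv_cancel]

theorem main : ∀ (N : ℕ) (G : Type u) [Group G] [Finite G] [Group.IsSolvable G], Nat.card G ≤ N →
    ∀ n : ℕ, n ∣ Nat.card G → Nat.card {x : G // x ^ n = 1} = n →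
      ∃ H : Subgroup G, H.Normal ∧ (H : Set G) = {x : G | x ^ n = 1} := by
  intro N
  induction N with
  | zero =>
    intro G _ _ _ hN
    exact absurd hN (by have : 0 < Nat.card G := Nat.card_pos; omega)
  | succ N ih =>
    intro G _ _ _ hN n hn hcount
    have hn0 : n ≠ 0 := fun h => Nat.card_pos.ne' (Nat.eq_zero_of_zero_dvd (h ▸ hn))
    rcases subsingleton_or_nontrivial G with hs | hs
    · refine subgroup_of_count ⊤ hcount (fun x _ => by rw [Subsingleton.elim x 1, one_pow]) ?_
      rw [Subgroup.card_top]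
      exact Nat.le_of_dvd Nat.card_pos hn
    obtain ⟨M, p, hp, hMn, hM1, -, -, hMexp, hMp, -⟩ :=
      Cfsg.Agent.SolvBasic.exists_minimal_normal_abelian (G := G) (N := ⊤) inferInstance top_ne_bot
    haveI := hMn
    haveI := Fact.mk hp
    obtain ⟨b, hb⟩ := IsPGroup.iff_card.1 hMp
    have hMcard : 1 < Nat.card M := (Subgroup.one_lt_card_iff_ne_bot M).2 hM1
    have hQ : Nat.card G = Nat.card (G ⧸ M) * Nat.card M := Subgroup.card_eq_card_quotient_mul_card_subgroup M
    have hQlt : Nat.card (G ⧸ M) ≤ N := by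
      have : 0 < Nat.card (G ⧸ M) := Nat.card_pos
      nlinarith
    let π := QuotientGroup.mk' M
    by_cases hpn : p ∣ n
    · -- the solutions contain the preimage of a set of solutions in the quotient
      obtain ⟨g, hg⟩ : ∃ g, Nat.gcd n (Nat.card M) = g := ⟨_, rfl⟩
      have hpg : p ∣ g := hg ▸ Nat.dvd_gcd hpn (hb ▸ dvd_pow_self p (by
        rintro rfl; rw [pow_zero] at hb; omega))
      have hg0 : 0 < g := hg ▸ Nat.gcd_pos_of_pos_right _ Nat.card_pos
      obtain ⟨m, hm⟩ : g ∣ n := hg ▸ Nat.gcd_dvd_left _ _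
      have hgM : g ∣ Nat.card M := hg ▸ Nat.gcd_dvd_right _ _
      have hmQ : m ∣ Nat.card (G ⧸ M) := by
        obtain ⟨v, hv⟩ := hgM
        have hco : Nat.Coprime m v := by
          have := hg
          rw [hm, hv, Nat.gcd_mul_left] at this
          exact Nat.eq_of_mul_eq_mul_left hg0 (by rw [this, mul_one])
        refine hco.dvd_of_dvd_mul_right (Nat.dvd_of_mul_dvd_mul_left hg0 ?_)
        rw [← hm, show g * (Nat.card (G ⧸ M) * v) = Nat.card (G ⧸ M) * Nat.card M by rw [hv]; ring, ← hQ]
        exact hn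
      have hsol : ∀ x : G, (π x) ^ m = 1 → x ^ n = 1 := by
        intro x hx
        rw [← map_pow] at hx
        have h1 := hMexp _ ((QuotientGroup.eq_one_iff _).1 hx)
        obtain ⟨k, hk⟩ := hpg
        rw [hm, hk, show p * k * m = m * p * k by ring, pow_mul, pow_mul, h1, one_pow]
      have hdvd := Cfsg.Agent.Counting.dvd_card_pow_eq_one m hmQ
      have hpre : Nat.card {q : G ⧸ M // q ^ m = 1} * Nat.card M ≤ n := by
        rw [← Nat.card_prod]
        refine le_of_le_of_eq (Nat.card_le_card_of_injective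
          (fun w : {q : G ⧸ M // q ^ m = 1} × M => (⟨w.1.1.out * w.2, hsol _ (by
            show ((w.1.1.out * w.2 : G) : G ⧸ M) ^ m = 1
            rw [QuotientGroup.mk_mul, QuotientGroup.out_eq', (QuotientGroup.eq_one_iff (w.2 : G)).2 w.2.2,
              mul_one, w.1.2])⟩ : {x : G // x ^ n = 1})) ?_) hcount
        intro w w' h
        have h' : w.1.1.out * (w.2 : G) = w'.1.1.out * w'.2 := congrArg Subtype.val h
        have h1 := congrArg (QuotientGroup.mk : G → G ⧸ M) h'
        rw [QuotientGroup.mk_mul, QuotientGroup.mk_mul, QuotientGroup.out_eq', QuotientGroup.out_eq',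
          (QuotientGroup.eq_one_iff (w.2 : G)).2 w.2.2, (QuotientGroup.eq_one_iff (w'.2 : G)).2 w'.2.2,
          mul_one, mul_one] at h1
        rw [h1] at h'
        exact Prod.ext (Subtype.ext h1) (Subtype.ext (mul_left_cancel h'))
      have hmpos : 0 < m := Nat.pos_of_ne_zero fun h => hn0 (by rw [hm, h, mul_zero])
      have hge : m ≤ Nat.card {q : G ⧸ M // q ^ m = 1} := by
        haveI : Nonempty {q : G ⧸ M // q ^ m = 1} := ⟨⟨1, one_pow m⟩⟩
        exact Nat.le_of_dvd Nat.card_pos hdvd
      have hgle : g ≤ Nat.card M := Nat.le_of_dvd Nat.card_pos hgM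
      have hcm : Nat.card {q : G ⧸ M // q ^ m = 1} = m := by
        refine le_antisymm (Nat.le_of_mul_le_mul_left ?_ (Nat.card_pos (α := M))) hge
        calc Nat.card M * Nat.card {q : G ⧸ M // q ^ m = 1} ≤ n := by rw [mul_comm]; exact hpre
          _ = g * m := hm
          _ ≤ Nat.card M * m := Nat.mul_le_mul_right m hgle
      obtain ⟨H, hHn, hH⟩ := ih (G ⧸ M) hQlt m hmQ hcm
      refine subgroup_of_count (H.comap π) hcount (fun x hx => hsol x ?_) ?_
      · have h1 : π x ∈ (H : Set (G ⧸ M)) := hx
        rw [hH] at h1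
        exact h1
      · have hker : M ≤ H.comap π := fun x hx => by
          rw [Subgroup.mem_comap, show π x = 1 from (QuotientGroup.eq_one_iff x).2 hx]; exact H.one_mem
        have hc : Nat.card H = m := by
          rw [← hcm]
          exact Nat.card_congr (Equiv.setCongr hH)
        have e1 := (H.comap π).card_mul_index
        rw [Subgroup.index_comap_of_surjective _ (QuotientGroup.mk'_surjective M), hQ,
          ← H.card_mul_index, hc] at e1
        have e2 : Nat.card (H.comap π) = m * Nat.card M := by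
          refine Nat.eq_of_mul_eq_mul_right (Nat.pos_of_ne_zero H.index_ne_zero_of_finite) ?_
          rw [e1]; ring
        rw [e2, hm, mul_comm g]
        exact Nat.mul_le_mul_left m hgle
    · -- the solutions map bijectively to those of the quotient
      have hco : Nat.Coprime (Nat.card M) n := hb ▸ Nat.Coprime.pow_left b (hp.coprime_iff_not_dvd.2 hpn)
      have hnQ : n ∣ Nat.card (G ⧸ M) := hco.symm.dvd_of_dvd_mul_right (hQ ▸ hn)
      let f : {x : G // x ^ n = 1} → {q : G ⧸ M // q ^ n = 1} :=
        fun x => ⟨π x.1, by rw [← map_pow, x.2, map_one]⟩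
      have hf : Function.Surjective f := by
        rintro ⟨q, hq⟩
        obtain ⟨x, rfl⟩ := QuotientGroup.mk'_surjective M q
        have hx : (x ^ p) ^ n = 1 := by
          rw [← map_pow] at hq
          rw [← pow_mul, mul_comm, pow_mul]
          exact hMexp _ ((QuotientGroup.eq_one_iff _).1 hq)
        obtain ⟨k, hk⟩ := exists_pow_eq_self_of_coprime (x := π x)
          (n := p) (Nat.Coprime.coprime_dvd_right (orderOf_dvd_of_pow_eq_one hq) (hp.coprime_iff_not_dvd.2 hpn))
        exact ⟨⟨(x ^ p) ^ k, by rw [← pow_mul, mul_comm, pow_mul, hx, one_pow]⟩,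
          Subtype.ext (by show π ((x ^ p) ^ k) = π x; rw [map_pow, map_pow, hk])⟩
      have hdvd := Cfsg.Agent.Counting.dvd_card_pow_eq_one n hnQ
      have hcm : Nat.card {q : G ⧸ M // q ^ n = 1} = n := by
        refine le_antisymm (le_of_le_of_eq (Nat.card_le_card_of_surjective f hf) hcount) ?_
        haveI : Nonempty {q : G ⧸ M // q ^ n = 1} := ⟨⟨1, one_pow n⟩⟩
        exact Nat.le_of_dvd Nat.card_pos hdvd
      obtain ⟨H, hHn, hH⟩ := ih (G ⧸ M) hQlt n hnQ hcm
      have hcH : Nat.card H = n := by
        rw [← hcm]; exact Nat.card_congr (Equiv.setCongr hH)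
      set H' := H.comap π with hH'
      have hker : M ≤ H' := fun x hx => by
        rw [hH', Subgroup.mem_comap, show π x = 1 from (QuotientGroup.eq_one_iff x).2 hx]; exact H.one_mem
      have hidx : (M.subgroupOf H').index = n := by
        have e1 := Subgroup.relIndex_mul_index hker
        rw [hH', Subgroup.index_comap_of_surjective _ (QuotientGroup.mk'_surjective M),
          show M.index = Nat.card (G ⧸ M) from rfl, ← H.card_mul_index, hcH] at e1
        exact Nat.eq_of_mul_eq_mul_right (Nat.pos_of_ne_zero H.index_ne_zero_of_finite) e1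
      have hcM : Nat.card (M.subgroupOf H') = Nat.card M := Nat.card_congr (Subgroup.subgroupOfEquivOfLe hker).toEquiv
      obtain ⟨K, hK⟩ := Subgroup.exists_right_complement'_of_coprime (N := M.subgroupOf H') (by rw [hcM, hidx]; exact hco)
      have hKc : Nat.card K = n := by rw [← hK.symm.index_eq_card, hidx]
      refine subgroup_of_count (K.map H'.subtype) hcount ?_
        (le_of_eq (by rw [Subgroup.card_map_of_injective H'.subtype_injective, hKc]))
      rintro _ ⟨x, hx, rfl⟩
      have h1 : (⟨x, hx⟩ : K) ^ n = 1 := hKc ▸ pow_card_eq_one'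
      have h2 := congrArg (fun y : K => ((y : H') : G)) h1
      simpa using h2

/-- Solvable groups: exactly `n` solutions of `x ^ n = 1`. -/
theorem result {G : Type*} [Group G] [Finite G] [Group.IsSolvable G] (n : ℕ) (hn : n ∣ Nat.card G) (hcount : Nat.card {x : G // x ^ n = 1} = n) : ∃ H : Subgroup G, H.Normal ∧ (H : Set G) = {x : G | x ^ n = 1} :=
  main _ G le_rfl n hn hcount

end Cfsg.Agent.S4213
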