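import Cfsg.Agent.Lib.Solvable.Hall
import Cfsg.Agent.Lib.Transfer.Basic
import Mathlib.GroupTheory.PGroup

set_option autoImplicit false
set_option linter.style.haveILetI false

namespace Cfsg.Agent.S4214

open Cfsg.Agent
open Cfsg.Agent.SolvBasic
open scoped Pointwise

universe u

variable {G : Type u} [Group G] [Finite G]

omit [Finite G] in
private theorem le_normalizer_inf {H N S : Subgroup G}
    (hN : H ≤ Subgroup.normalizer (N : Set G)) (hS : H ≤ Subgroup.normalizer (S : Set G)) :
    H ≤ Subgroup.normalizer ((N ⊓ Subgroup.centralizer (S : Set G) : Subgroup G) : Set G) := by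
  intro h hh
  rw [Subgroup.mem_normalizer_iff]
  intro x
  have hC : ∀ g ∈ Subgroup.normalizer (S : Set G), ∀ y ∈ Subgroup.centralizer (S : Set G),
      g * y * g⁻¹ ∈ Subgroup.centralizer (S : Set G) := by
    intro g hg y hy z hz
    have hz' : g⁻¹ * z * g ∈ S := (Subgroup.mem_normalizer_iff''.1 hg z).1 hz
    have h1 := hy _ hz'
    calc z * (g * y * g⁻¹) = g * (g⁻¹ * z * g * y) * g⁻¹ := by group
      _ = g * (y * (g⁻¹ * z * g)) * g⁻¹ := by rw [h1]
      _ = g * y * g⁻¹ * z := by group
  constructor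
  · rintro ⟨h1, h2⟩
    exact ⟨(Subgroup.mem_normalizer_iff.1 (hN hh) x).1 h1, hC h (hS hh) x h2⟩
  · rintro ⟨h1, h2⟩
    refine ⟨(Subgroup.mem_normalizer_iff.1 (hN hh) x).2 h1, ?_⟩
    have h3 := hC h⁻¹ (inv_mem (hS hh)) _ h2
    rwa [show h⁻¹ * (h * x * h⁻¹) * h⁻¹⁻¹ = x by group] at h3

private theorem fixed_chain {H N : Subgroup G} [Group.IsSolvable H]
    (hN : H ≤ Subgroup.normalizer (N : Set G)) (hcop : (Nat.card N).Coprime (Nat.card H)) :
    ∀ (k : ℕ) (S : Subgroup G), S.relIndex H = k → S ≤ H → H ≤ Subgroup.normalizer (S : Set G) →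
      ∃ L : List ℕ, (N ⊓ Subgroup.centralizer (H : Set G)).relIndex (N ⊓ Subgroup.centralizer (S : Set G))
          = L.prod ∧ ∀ x ∈ L, x ∣ Nat.card N ∧ ∃ r : ℕ, r.Prime ∧ r ∣ Nat.card H ∧ x ≡ 1 [MOD r] := by
  intro k
  induction k using Nat.strong_induction_on with
  | _ k ih =>
    intro S hk hSH hS
    rcases eq_or_ne S H with rfl | hne
    · exact ⟨[], by rw [Subgroup.relIndex_self, List.prod_nil], by simp⟩
    haveI hSn : (S.subgroupOf H).Normal := Subgroup.normal_subgroupOf_of_le_normalizer hS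
    set π := QuotientGroup.mk' (S.subgroupOf H) with hπ
    haveI : Group.IsSolvable (H ⧸ S.subgroupOf H) :=
      Group.isSolvable_of_surjective (QuotientGroup.mk'_surjective _)
    haveI : Group.IsSolvable (⊤ : Subgroup (H ⧸ S.subgroupOf H)) :=
      Group.isSolvable_of_isSolvable_injective (Subgroup.subtype_injective _)
    have htop : (⊤ : Subgroup (H ⧸ S.subgroupOf H)) ≠ ⊥ := by
      intro e
      apply hne
      refine le_antisymm hSH fun x hx => ?_
      have : π ⟨x, hx⟩ ∈ (⊥ : Subgroup (H ⧸ S.subgroupOf H)) := e ▸ Subgroup.mem_top _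
      rw [Subgroup.mem_bot, hπ, QuotientGroup.mk'_apply, QuotientGroup.eq_one_iff] at this
      exact this
    obtain ⟨M, r, hr, hMn, hM, -, -, hexp, -, -⟩ :=
      exists_minimal_normal_abelian (N := (⊤ : Subgroup (H ⧸ S.subgroupOf H))) inferInstance htop
    haveI := hMn
    haveI := Fact.mk hr
    set S₂ := (M.comap π).map H.subtype with hS₂
    have hS₂H : S₂ ≤ H := Subgroup.map_subtype_le _
    have hSS₂ : S ≤ S₂ := fun x hx => ⟨⟨x, hSH hx⟩, by
      rw [SetLike.mem_coe, Subgroup.mem_comap, hπ, QuotientGroup.mk'_apply,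
        (QuotientGroup.eq_one_iff (N := S.subgroupOf H) ⟨x, hSH hx⟩).2 hx]
      exact one_mem _, rfl⟩
    have hS₂n : H ≤ Subgroup.normalizer (S₂ : Set G) := by
      intro h hh
      rw [Subgroup.mem_normalizer_iff]
      intro x
      haveI : (M.comap π).Normal := inferInstance
      constructor
      · rintro ⟨y, hy, rfl⟩
        exact ⟨⟨h, hh⟩ * y * ⟨h, hh⟩⁻¹, Subgroup.Normal.conj_mem inferInstance y hy _, rfl⟩
      · rintro ⟨y, hy, hyx⟩
        refine ⟨⟨h, hh⟩⁻¹ * y * ⟨h, hh⟩⁻¹⁻¹, Subgroup.Normal.conj_mem inferInstance y hy _, ?_⟩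
        show h⁻¹ * (y : G) * h⁻¹⁻¹ = x
        rw [show (y : G) = h * x * h⁻¹ from hyx]
        group
    have hpow : ∀ x ∈ S₂, x ^ r ∈ S := by
      rintro _ ⟨y, hy, rfl⟩
      have h1 := hexp _ hy
      rw [← map_pow, hπ, QuotientGroup.mk'_apply, QuotientGroup.eq_one_iff] at h1
      exact h1
    obtain ⟨x₀, hx₀, hx₀S⟩ : ∃ x ∈ S₂, x ∉ S := by
      obtain ⟨⟨q, hq⟩, hq1⟩ := Subgroup.ne_bot_iff_exists_ne_one.1 hM
      obtain ⟨y, hy⟩ := QuotientGroup.mk'_surjective (S.subgroupOf H) q
      refine ⟨y, ⟨y, ?_, rfl⟩, fun h => hq1 (Subtype.ext ?_)⟩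
      · rw [SetLike.mem_coe, Subgroup.mem_comap, hπ, hy]; exact hq
      · show q = 1
        rw [← hy, QuotientGroup.mk'_apply, QuotientGroup.eq_one_iff]
        exact h
    have hrH : r ∣ Nat.card H := by
      have ho : r ∣ orderOf x₀ := by
        by_contra hnd
        apply hx₀S
        obtain ⟨l, hl⟩ := exists_pow_eq_self_of_coprime (x := x₀) (n := r)
          ((hr.coprime_iff_not_dvd.2 hnd))
        rw [← hl]
        exact pow_mem (hpow x₀ hx₀) l
      exact ho.trans (Subgroup.orderOf_dvd_natCard H (hS₂H hx₀))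
    have hlt : S₂.relIndex H < k := by
      rw [← hk, ← Subgroup.relIndex_mul_relIndex S S₂ H hSS₂ hS₂H]
      refine lt_mul_of_one_lt_left ?_ ?_
      · exact Nat.pos_of_ne_zero Subgroup.index_ne_zero_of_finite
      · rcases Nat.lt_or_ge 1 (S.relIndex S₂) with h | h
        · exact h
        · exfalso
          have h1 : S.relIndex S₂ = 1 :=
            le_antisymm h (Nat.pos_of_ne_zero Subgroup.index_ne_zero_of_finite)
          exact hx₀S (Subgroup.relIndex_eq_one.1 h1 hx₀)
    obtain ⟨L, hL, hLgood⟩ := ih _ hlt S₂ rfl hS₂H hS₂n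
    set C := N ⊓ Subgroup.centralizer (S : Set G) with hC
    set D := N ⊓ Subgroup.centralizer (S₂ : Set G) with hD
    have hDC : D ≤ C := inf_le_inf_left N (Subgroup.centralizer_le hSS₂)
    have hHD : N ⊓ Subgroup.centralizer (H : Set G) ≤ D :=
      inf_le_inf_left N (Subgroup.centralizer_le hS₂H)
    -- orbits have `r`-power length
    let ψ : S₂ →* MulAut C :=
      (Subgroup.normalizerMonoidHom C).comp
        (Subgroup.inclusion ((hS₂H.trans (le_normalizer_inf hN hS))))
    have hψp : IsPGroup r ψ.range := by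
      rintro ⟨_, y, rfl⟩
      refine ⟨1, Subtype.ext ?_⟩
      show ψ y ^ r ^ 1 = 1
      rw [pow_one, ← map_pow]
      refine MulEquiv.ext fun c => Subtype.ext ?_
      show ((y ^ r : S₂) : G) * (c : G) * ((y ^ r : S₂) : G)⁻¹ = c
      have hyS : ((y ^ r : S₂) : G) ∈ S := by rw [Subgroup.coe_pow]; exact hpow y y.2
      rw [(c.2 : (c : G) ∈ C).2 _ hyS, mul_inv_cancel_right]
    have hmod := hψp.card_modEq_card_fixedPoints (α := C)
    have hfix : Nat.card (MulAction.fixedPoints ψ.range C) = Nat.card D := by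
      refine Nat.card_congr
        { toFun := fun c => ⟨((c : C) : G), (c : C).2.1, fun y hy => ?_⟩
          invFun := fun d => ⟨⟨d, hDC d.2⟩, ?_⟩
          left_inv := fun c => rfl
          right_inv := fun d => rfl }
      · have h1 : ψ ⟨y, hy⟩ (c : C) = (c : C) := c.2 ⟨ψ ⟨y, hy⟩, ⟨y, hy⟩, rfl⟩
        have h2 : y * ((c : C) : G) * y⁻¹ = ((c : C) : G) := congrArg Subtype.val h1
        calc y * ((c : C) : G) = y * ((c : C) : G) * y⁻¹ * y := by group
          _ = ((c : C) : G) * y := by rw [h2]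
      · rintro ⟨_, y, rfl⟩
        refine Subtype.ext ?_
        show (y : G) * (d : G) * (y : G)⁻¹ = d
        rw [d.2.2 (y : G) y.2, mul_inv_cancel_right]
    rw [hfix, ← PBasic.card_mul_relIndex hDC] at hmod
    refine ⟨D.relIndex C :: L, ?_, fun x hx => ?_⟩
    · rw [List.prod_cons, ← hL, mul_comm (D.relIndex C)]
      exact (Subgroup.relIndex_mul_relIndex _ _ _ hHD hDC).symm
    · rcases List.mem_cons.1 hx with rfl | hx
      · refine ⟨(Subgroup.relIndex_dvd_card D C).trans (Subgroup.card_dvd_of_le inf_le_left), r, hr, hrH, ?_⟩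
        have hcD : Nat.Coprime r (Nat.card D) :=
          (hcop.coprime_dvd_left (Subgroup.card_dvd_of_le (inf_le_left : D ≤ N))).symm.coprime_dvd_left hrH
        refine Nat.ModEq.cancel_left_of_coprime (c := Nat.card D) hcD ?_
        rw [mul_one]
        exact hmod
      · exact hLgood x hx

omit [Finite G] in
private theorem index_normalizer_eq_orbit (H : Subgroup G) :
    (Subgroup.normalizer (H : Set G)).index =
      Nat.card (Set.range fun g : G => MulAut.conj g • H) := by
  letI : MulAction G (Subgroup G) := MulAction.compHom (Subgroup G) (MulAut.conj : G →* MulAut G)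
  have h1 : MulAction.stabilizer G H = Subgroup.normalizer (H : Set G) := by
    ext g
    rw [MulAction.mem_stabilizer_iff, mem_normalizer_iff_conjSmul]
    rfl
  rw [← h1, MulAction.index_stabilizer, ← Nat.card_coe_set_eq]
  rfl

private def Good (G : Type u) [Group G] (m x : ℕ) : Prop :=
  (∃ q e : ℕ, q.Prime ∧ x = q ^ e) ∧
    (∃ K L : Subgroup G, K.Normal ∧ L.Normal ∧ K < L ∧
      (∀ M : Subgroup G, M.Normal → K ≤ M → M ≤ L → M = K ∨ M = L) ∧ x ∣ K.relIndex L) ∧
    ∃ q : ℕ, q.Prime ∧ q ∣ m ∧ x ≡ 1 [MOD q]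

omit [Finite G] in
private theorem good_of_quotient {N : Subgroup G} [N.Normal] {m m' x : ℕ} (hm : m' ∣ m)
    (h : Good (G ⧸ N) m' x) : Good G m x := by
  obtain ⟨h1, ⟨K, L, hK, hL, hlt, hchief, hdvd⟩, q, hq, hqm, hx⟩ := h
  have hsurj := QuotientGroup.mk'_surjective N
  refine ⟨h1, ⟨K.comap (QuotientGroup.mk' N), L.comap (QuotientGroup.mk' N), inferInstance,
    inferInstance, Subgroup.comap_lt_comap_of_surjective hsurj |>.2 hlt, ?_, ?_⟩,
    q, hq, hqm.trans hm, hx⟩
  · intro M hM h2 h3
    have hNM : (QuotientGroup.mk' N).ker ≤ M :=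
      le_trans (fun y hy => show _ ∈ K from (MonoidHom.mem_ker.1 hy).symm ▸ one_mem K) h2
    have hMeq : (M.map (QuotientGroup.mk' N)).comap (QuotientGroup.mk' N) = M :=
      Subgroup.comap_map_eq_self hNM
    rcases hchief (M.map (QuotientGroup.mk' N)) (hM.map _ hsurj)
      (by rw [← Subgroup.map_comap_eq_self_of_surjective hsurj K]; exact Subgroup.map_mono h2)
      (by rw [← Subgroup.map_comap_eq_self_of_surjective hsurj L]; exact Subgroup.map_mono h3) with e | e
    · left; rw [← hMeq, e]
    · right; rw [← hMeq, e]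
  · rwa [Subgroup.relIndex_comap, Subgroup.map_comap_eq_self_of_surjective hsurj]

private theorem hall_normalizer (N : ℕ) : ∀ (G : Type u) [Group G] [Finite G] [Group.IsSolvable G],
    Nat.card G = N → ∀ m n : ℕ, Nat.card G = m * n → m.Coprime n → ∀ H : Subgroup G, Nat.card H = m →
      ∃ L : List ℕ, (Subgroup.normalizer (H : Set G)).index = L.prod ∧ ∀ x ∈ L, Good G m x := by
  induction N using Nat.strong_induction_on with
  | _ c ih =>
    intro G _ _ _ hc m n hG hmn H hH
    subst hc
    rcases subsingleton_or_nontrivial G with hs | hnt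
    · refine ⟨[], ?_, by simp⟩
      rw [List.prod_nil, Subsingleton.elim (Subgroup.normalizer (H : Set G)) ⊤, Subgroup.index_top]
    haveI : Group.IsSolvable (⊤ : Subgroup G) :=
      Group.isSolvable_of_isSolvable_injective (Subgroup.subtype_injective _)
    obtain ⟨M, q, hq, hMn, hM, -, -, -, hMp, hmin⟩ :=
      exists_minimal_normal_abelian (N := (⊤ : Subgroup G)) inferInstance top_ne_bot
    haveI := hMn
    haveI := Fact.mk hq
    obtain ⟨e, he⟩ := IsPGroup.iff_card.1 hMp
    set π := QuotientGroup.mk' M with hπ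
    have hsurj : Function.Surjective π := QuotientGroup.mk'_surjective M
    have hlt : Nat.card (G ⧸ M) < Nat.card G := by
      rw [Subgroup.card_eq_card_quotient_mul_card_subgroup M]
      exact lt_mul_of_one_lt_right Nat.card_pos (M.one_lt_card_iff_ne_bot.2 hM)
    have hGM := Subgroup.card_eq_card_quotient_mul_card_subgroup M
    have hMpos : 0 < Nat.card M := Nat.card_pos
    have hcomap : ((H.map π).comap π) = H ⊔ M := by
      rw [Subgroup.comap_map_eq, hπ, QuotientGroup.ker_mk']
    by_cases hqm : q ∣ m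
    · -- the minimal normal subgroup is contained in every Hall subgroup
      have hMc : (Nat.card M).Coprime n := by
        rw [he]
        exact Nat.Coprime.pow_left e (hmn.coprime_dvd_left hqm)
      obtain ⟨g, hg⟩ := HallSolv.hall_conj_le hG hmn hH hMc
      have hMH : M ≤ H := by rwa [Subgroup.Normal.conj_smul_eq_self g M] at hg
      have hcard : Nat.card (H.map π) * Nat.card M = m := by
        rw [← hH]
        have h1 := HallSolv.card_comap_mk M (H.map π)
        rw [← hπ, hcomap, sup_eq_left.2 hMH] at h1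
        rw [h1, mul_comm]
      obtain ⟨L, hL, hLg⟩ := ih _ hlt (G ⧸ M) rfl (Nat.card (H.map π)) n (by
        refine Nat.eq_of_mul_eq_mul_right hMpos ?_
        rw [← hGM, hG, ← hcard]; ring) (hmn.coprime_dvd_left (hcard ▸ dvd_mul_right _ _))
        (H.map π) rfl
      refine ⟨L, ?_, fun x hx => good_of_quotient (hcard ▸ dvd_mul_right _ _) (hLg x hx)⟩
      rw [← hL]
      have h1 : (Subgroup.normalizer ((H.map π : Subgroup (G ⧸ M)) : Set (G ⧸ M))).comap π =
          Subgroup.normalizer (H : Set G) := by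
        rw [Subgroup.comap_normalizer_eq_of_surjective _ hsurj, hcomap, sup_eq_left.2 hMH]
      rw [← h1, Subgroup.index_comap_of_surjective _ hsurj]
    · have hcop : (Nat.card M).Coprime (Nat.card H) := by
        rw [he, hH]
        exact Nat.Coprime.pow_left e (hq.coprime_iff_not_dvd.2 hqm)
      have hdisj : H ⊓ M = ⊥ := by
        rw [inf_comm]
        exact SchurZ.inf_eq_bot hcop.symm
      have hHn : H ≤ Subgroup.normalizer (M : Set G) := by
        rw [Subgroup.normalizer_eq_top]; exact le_top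
      have hcard : Nat.card (H.map π) = m := by rw [hπ, card_map_mk'_of_inf_eq_bot hdisj, hH]
      have hMn' : Nat.card M ∣ n := by
        refine Nat.Coprime.dvd_of_dvd_mul_left (hH ▸ hcop) ?_
        rw [← hG]; exact M.card_subgroup_dvd_card
      obtain ⟨n', hn'⟩ := hMn'
      obtain ⟨L, hL, hLg⟩ := ih _ hlt (G ⧸ M) rfl m n' (by
        refine Nat.eq_of_mul_eq_mul_right hMpos ?_
        rw [← hGM, hG, hn']; ring) (hmn.coprime_dvd_right (hn' ▸ dvd_mul_left _ _)) (H.map π) hcard
      set NH := Subgroup.normalizer (H : Set G) with hNH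
      have hfr : (Subgroup.normalizer ((H.map π : Subgroup (G ⧸ M)) : Set (G ⧸ M))).comap π = NH ⊔ M := by
        rw [Subgroup.comap_normalizer_eq_of_surjective _ hsurj, hcomap]
        refine le_antisymm ?_ ?_
        · intro g hg
          haveI : Group.IsSolvable M := isSolvable_of_le (le_top : M ≤ ⊤)
          have hB : MulAut.conj g • H ≤ M ⊔ H := by
            intro x hx
            rw [mem_conjSmul] at hx
            rw [sup_comm]
            exact (Subgroup.mem_normalizer_iff''.1 hg x).2 (Subgroup.mem_sup_left hx)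
          obtain ⟨v, hv, hvH⟩ := SchurZ.conj_in hHn hcop.symm (Or.inr inferInstance) hB (card_conjSmul g H)
          have : v⁻¹ * g ∈ NH := by
            rw [hNH, mem_normalizer_iff_conjSmul, ← conjSmul_conjSmul, ← hvH, conjSmul_inv_conjSmul]
          rw [show g = v * (v⁻¹ * g) by group]
          exact mul_mem (Subgroup.mem_sup_right hv) (Subgroup.mem_sup_left this)
        · refine sup_le (fun g hg => ?_) (le_sup_right.trans Subgroup.le_normalizer)
          rw [mem_normalizer_iff_conjSmul] at hg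
          show g ∈ Subgroup.normalizer ((H ⊔ M : Subgroup G) : Set G)
          rw [mem_normalizer_iff_conjSmul, Subgroup.smul_sup, hg, Subgroup.Normal.conj_smul_eq_self g M]
      have hNC : M ⊓ NH = M ⊓ Subgroup.centralizer (H : Set G) := by
        refine le_antisymm ?_ (inf_le_inf_left M ?_)
        · intro x hx
          refine ⟨hx.1, fun y hy => ?_⟩
          have h1 : x * y * x⁻¹ * y⁻¹ ∈ H ⊓ M := by
            refine ⟨H.mul_mem ((Subgroup.mem_normalizer_iff.1 hx.2 y).1 hy) (H.inv_mem hy), ?_⟩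
            rw [show x * y * x⁻¹ * y⁻¹ = x * (y * x⁻¹ * y⁻¹) by group]
            exact M.mul_mem hx.1 (hMn.conj_mem _ (M.inv_mem hx.1) y)
          rw [hdisj, Subgroup.mem_bot, mul_inv_eq_one, mul_inv_eq_iff_eq_mul] at h1
          exact h1.symm
        · intro x hx
          rw [hNH, Subgroup.mem_normalizer_iff]
          intro y
          constructor
          · intro hy
            rwa [← hx y hy, mul_inv_cancel_right]
          · intro hy
            have h1 := hx _ hy
            rw [inv_mul_cancel_right] at h1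
            rwa [← mul_left_cancel h1] at hy
      haveI : Group.IsSolvable H := isSolvable_of_le (le_top : H ≤ ⊤)
      obtain ⟨L₂, hL₂, hL₂g⟩ := fixed_chain hHn hcop _ ⊥ rfl bot_le
        (by intro x _; rw [Subgroup.mem_normalizer_iff]; intro y; simp)
      have hC0 : M ⊓ Subgroup.centralizer ((⊥ : Subgroup G) : Set G) = M := by
        rw [inf_eq_left]
        intro x _ y hy
        rw [SetLike.mem_coe, Subgroup.mem_bot] at hy
        rw [hy, one_mul, mul_one]
      rw [hC0, ← hNC, Subgroup.inf_relIndex_left] at hL₂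
      refine ⟨L₂ ++ L, ?_, fun x hx => ?_⟩
      · rw [List.prod_append, ← hL, ← hL₂,
          ← Subgroup.index_comap_of_surjective _ hsurj, hfr,
          ← PBasic.relIndex_eq_relIndex_sup_left NH M]
        exact (Subgroup.relIndex_mul_index le_sup_left).symm
      · rcases List.mem_append.1 hx with hx | hx
        · obtain ⟨hd, r, hr, hrd, hmod⟩ := hL₂g x hx
          refine ⟨?_, ⟨⊥, M, inferInstance, hMn, bot_lt_iff_ne_bot.2 hM, fun K hK _ hKM => hmin K hK hKM,
            by rwa [Subgroup.relIndex_bot_left]⟩, r, hr, hH ▸ hrd, hmod⟩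
          rw [he] at hd
          obtain ⟨i, -, hi⟩ := (Nat.dvd_prime_pow hq).1 hd
          exact ⟨q, i, hq, hi⟩
        · exact good_of_quotient dvd_rfl (hLg x hx)

theorem result {G : Type*} [Group G] [Finite G] [Group.IsSolvable G] (m n : ℕ) (hG : Nat.card G = m * n) (hmn : Nat.Coprime m n) : ∃ (k : ℕ) (f : Fin k → ℕ), Nat.card {H : Subgroup G // Nat.card H = m} = ∏ i, f i ∧ ∀ i, (∃ q e : ℕ, q.Prime ∧ f i = q ^ e) ∧ (∃ K L : Subgroup G, K.Normal ∧ L.Normal ∧ K < L ∧ (∀ M : Subgroup G, M.Normal → K ≤ M → M ≤ L → M = K ∨ M = L) ∧ f i ∣ K.relIndex L) ∧ (∃ q : ℕ, q.Prime ∧ q ∣ m ∧ f i ≡ 1 [MOD q]) := by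
  obtain ⟨H, hH⟩ := HallSolv.exists_hall hG hmn
  obtain ⟨L, hL, hLg⟩ := hall_normalizer _ G rfl m n hG hmn H hH
  refine ⟨L.length, fun i => L.get i, ?_, fun i => hLg _ (List.get_mem L i)⟩
  have hcount : Nat.card {K : Subgroup G // Nat.card K = m} =
      Nat.card (Set.range fun g : G => MulAut.conj g • H) := by
    refine Nat.card_congr (Equiv.setCongr (?_ : {K : Subgroup G | Nat.card K = m} = _))
    ext K
    constructor
    · intro hK
      obtain ⟨g, hg⟩ := HallSolv.hall_conj hG hmn hH hK
      exact ⟨g, hg⟩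
    · rintro ⟨g, rfl⟩
      show Nat.card (MulAut.conj g • H : Subgroup G) = m
      rw [card_conjSmul, hH]
  rw [hcount, ← index_normalizer_eq_orbit, hL]
  rw [← List.prod_ofFn]
  exact congrArg List.prod (List.ofFn_get L).symm

end Cfsg.Agent.S4214
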