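import Cfsg.Prelude.Def_BaumannBlocks
import Cfsg.Agent.Lib.Transfer.Tate
import Cfsg.Agent.Lib.Transfer.PGroup
import Mathlib.GroupTheory.Transfer
import Mathlib.GroupTheory.SpecificGroups.Cyclic
import Mathlib.Algebra.CharP.Basic
import Mathlib.Algebra.Polynomial.AlgebraMap
import Mathlib.Algebra.Ring.GeomSum
import Mathlib.Algebra.CharP.Lemmas

/-! The theorem of Hall and Wielandt on weakly closed subgroups with an Engel condition. -/

set_option autoImplicit false
set_option linter.style.haveILetI false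

open scoped commutatorElement

namespace Cfsg.Agent.S4215

variable {G : Type*} [Group G] [Finite G] {A : Type*} [CommGroup A]

open Classical in
/-- the contribution of a fixed coset to the transfer -/
private noncomputable def val {H : Subgroup G} (φ : H →* A) (u : G) (c : G ⧸ H) : A :=
  if h : c.out⁻¹ * u * c.out ∈ H then φ ⟨_, h⟩ else 1

omit [Finite G] in
private theorem val_mk {H : Subgroup G} (φ : H →* A) (u g : G) (h : g⁻¹ * u * g ∈ H) :
    val φ u (QuotientGroup.mk g) = φ ⟨g⁻¹ * u * g, h⟩ := by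
  obtain ⟨⟨e, he⟩, hout⟩ := QuotientGroup.mk_out_eq_mul H g
  have key : ((QuotientGroup.mk g : G ⧸ H)).out⁻¹ * u * (QuotientGroup.mk g : G ⧸ H).out = e⁻¹ * (g⁻¹ * u * g) * e := by
    rw [hout]; simp [mul_assoc]
  have hmem : ((QuotientGroup.mk g : G ⧸ H)).out⁻¹ * u * (QuotientGroup.mk g : G ⧸ H).out ∈ H := by
    rw [key]; exact H.mul_mem (H.mul_mem (H.inv_mem he) h) he
  rw [val, dif_pos hmem]
  have e1 : (⟨_, hmem⟩ : H) = (⟨e, he⟩ : H)⁻¹ * ⟨g⁻¹ * u * g, h⟩ * ⟨e, he⟩ := Subtype.ext key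
  rw [e1, map_mul, map_mul, map_inv, mul_comm (φ ⟨e, he⟩)⁻¹, inv_mul_cancel_right]

omit [Finite G] in
private theorem val_mk_not {H : Subgroup G} (φ : H →* A) (u g : G) (h : g⁻¹ * u * g ∉ H) :
    val φ u (QuotientGroup.mk g) = 1 := by
  obtain ⟨⟨e, he⟩, hout⟩ := QuotientGroup.mk_out_eq_mul H g
  rw [val, dif_neg]
  intro hmem
  apply h
  have h5 := H.mul_mem (H.mul_mem he hmem) (H.inv_mem he)
  rwa [hout, show e * ((g * e)⁻¹ * u * (g * e)) * e⁻¹ = g⁻¹ * u * g by group] at h5

omit [Finite G] in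
private theorem val_smul {H : Subgroup G} (φ : H →* A) (u a g : G) :
    val φ u (QuotientGroup.mk (a * g)) = val φ (a⁻¹ * u * a) (QuotientGroup.mk g) := by
  have e : (a * g)⁻¹ * u * (a * g) = g⁻¹ * (a⁻¹ * u * a) * g := by group
  by_cases h : (a * g)⁻¹ * u * (a * g) ∈ H
  · rw [val_mk φ u _ h, val_mk φ _ g (e ▸ h)]
    exact congrArg φ (Subtype.ext e)
  · rw [val_mk_not φ u _ h, val_mk_not φ _ g (e ▸ h)]

/-- If proper powers contribute nothing, the transfer is the product over the fixed cosets. -/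
private theorem transfer_eq_prod {H : Subgroup G} [Fintype (G ⧸ H)] (φ : H →* A) (u : G)
    (hlow : ∀ (k : ℕ) (g : G) (h : g⁻¹ * u ^ k * g ∈ H), 1 < k → k ∣ orderOf u → φ ⟨_, h⟩ = 1) :
    MonoidHom.transfer φ u = ∏ c : G ⧸ H, val φ u c := by
  classical
  letI : Fintype (Quotient (MulAction.orbitRel (Subgroup.zpowers u) (G ⧸ H))) := Fintype.ofFinite _
  rw [MonoidHom.transfer_eq_prod_quotient_orbitRel_zpowers_quot φ u]
  set t : Quotient (MulAction.orbitRel (Subgroup.zpowers u) (G ⧸ H)) → A := fun q =>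
    φ ⟨q.out.out⁻¹ * u ^ Function.minimalPeriod (u • ·) q.out * q.out.out,
      QuotientGroup.out_conj_pow_minimalPeriod_mem H u q.out⟩ with ht
  set i : G ⧸ H → Quotient (MulAction.orbitRel (Subgroup.zpowers u) (G ⧸ H)) := fun c => Quotient.mk'' c with hi
  have hfix : ∀ c : G ⧸ H, c.out⁻¹ * u * c.out ∈ H ↔ u • c = c := by
    intro c
    conv_rhs => rw [← QuotientGroup.out_eq' c]
    rw [MulAction.Quotient.smul_mk, smul_eq_mul, QuotientGroup.eq]
    constructor <;> intro h
    · have := H.inv_mem h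
      rwa [show (c.out⁻¹ * u * c.out)⁻¹ = (u * c.out)⁻¹ * c.out by group] at this
    · have := H.inv_mem h
      rwa [show ((u * c.out)⁻¹ * c.out)⁻¹ = c.out⁻¹ * u * c.out by group] at this
  have horb : ∀ c d : G ⧸ H, u • c = c → i d = i c → d = c := by
    intro c d hc hd
    obtain ⟨⟨z, hz⟩, he⟩ := MulAction.orbitRel_apply.1 (Quotient.eq''.1 hd)
    obtain ⟨k, rfl⟩ := Subgroup.mem_zpowers_iff.1 hz
    have hst : u ∈ MulAction.stabilizer G c := hc
    exact he.symm.trans (Subgroup.zpow_mem _ hst k)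
  refine (Finset.prod_bij_ne_one (fun c _ _ => i c) (fun c _ _ => Finset.mem_univ _) ?_ ?_ ?_).symm
  · intro c _ hc d _ hd he
    have hc' : u • c = c := (hfix c).1 (by
      by_contra h; exact hc (by rw [val, dif_neg h]))
    exact (horb c d hc' he.symm).symm
  · intro q _ hq
    have hper : Function.minimalPeriod (u • ·) q.out = 1 := by
      by_contra h1
      apply hq
      refine hlow _ _ _ ?_ ?_
      · have hpos : 0 < Function.minimalPeriod (u • ·) q.out := by
          refine Function.IsPeriodicPt.minimalPeriod_pos (orderOf_pos u) ?_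
          show (u • ·)^[orderOf u] q.out = q.out
          rw [smul_iterate, pow_orderOf_eq_one]; exact one_smul G q.out
        omega
      · refine Function.IsPeriodicPt.minimalPeriod_dvd ?_
        show (u • ·)^[orderOf u] q.out = q.out
        rw [smul_iterate, pow_orderOf_eq_one]; exact one_smul G q.out
    have hfixed : u • q.out = q.out := Function.minimalPeriod_eq_one_iff_isFixedPt.1 hper
    have hmem : q.out.out⁻¹ * u * q.out.out ∈ H := (hfix _).2 hfixed
    have hval : val φ u q.out = t q := by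
      rw [val, dif_pos hmem]
      refine congrArg φ (Subtype.ext ?_)
      show _ = q.out.out⁻¹ * u ^ Function.minimalPeriod (u • ·) q.out * q.out.out
      rw [hper, pow_one]
    exact ⟨q.out, Finset.mem_univ _, by rw [hval]; exact hq, Quotient.out_eq' q⟩
  · intro c _ hc
    have hmem : c.out⁻¹ * u * c.out ∈ H := by
      by_contra h; exact hc (by rw [val, dif_neg h])
    have hc' : u • c = c := (hfix c).1 hmem
    have hout : (i c).out = c := horb c _ hc' (Quotient.out_eq' _)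
    rw [val, dif_pos hmem]
    refine congrArg φ (Subtype.ext ?_)
    show c.out⁻¹ * u * c.out = (i c).out.out⁻¹ * u ^ Function.minimalPeriod (u • ·) (i c).out * (i c).out.out
    rw [hout, Function.minimalPeriod_eq_one_iff_isFixedPt.2 (show Function.IsFixedPt (u • ·) c from hc'), pow_one]

variable {p : ℕ} [hp : Fact p.Prime]

open Polynomial in
private theorem poly_identity : ((X : (ZMod p)[X]) - 1) ^ (p - 1) = ∑ j ∈ Finset.range p, X ^ j := by
  have h1 : ((X : (ZMod p)[X]) - 1) ≠ 0 := by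
    rw [← map_one C]; exact X_sub_C_ne_zero 1
  apply mul_right_cancel₀ h1
  rw [geom_sum_mul, ← pow_succ, Nat.sub_add_cancel hp.out.one_le, sub_pow_char, one_pow]

/-- iterated differences in characteristic `p` -/
private theorem sum_eq_diff (a : ℕ → ZMod p) (F : ℕ → ℕ → ZMod p) (h0 : ∀ i, F 0 i = a i)
    (hs : ∀ k i, F (k + 1) i = F k (i + 1) - F k i) : F (p - 1) 0 = ∑ j ∈ Finset.range p, a j := by
  let S : Module.End (ZMod p) (ℕ → ZMod p) :=
    { toFun := fun f i => f (i + 1), map_add' := fun f g => rfl, map_smul' := fun c f => rfl }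
  have hpow : ∀ (j : ℕ) (f : ℕ → ZMod p) (i : ℕ), (S ^ j) f i = f (i + j) := by
    intro j
    induction j with
    | zero => intro f i; rfl
    | succ j ih =>
      intro f i
      rw [pow_succ, Module.End.mul_apply, ih]
      show f (i + j + 1) = _
      rw [add_assoc]
  have hF : ∀ k i, ((S - 1) ^ k) a i = F k i := by
    intro k
    induction k with
    | zero => intro i; rw [h0]; rfl
    | succ k ih =>
      intro i
      rw [pow_succ', Module.End.mul_apply, hs, ← ih, ← ih]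
      rfl
  have h := congrArg (Polynomial.aeval S) (poly_identity (p := p))
  simp only [map_pow, map_sub, Polynomial.aeval_X, map_one, map_sum] at h
  rw [← hF, h, LinearMap.sum_apply, Finset.sum_apply]
  simp [hpow]

/-- The core computation: on a minimal element every non-trivial double coset contributes nothing. -/
private theorem transfer_apply_min (P : Sylow p G) (Q : Subgroup G) (hQ : Cfsg.IsWeaklyClosed Q (P : Subgroup G))
    (hengel : ∀ u ∈ (P : Subgroup G), ∀ z ∈ Q, (fun y : G => y⁻¹ * z⁻¹ * y * z)^[p - 1] u = 1)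
    {H : Subgroup G} (hPH : (P : Subgroup G) ≤ H) (hH : H = Subgroup.normalizer (Q : Set G))
    (φ : H →* Multiplicative (ZMod p)) (u : G) (hu : u ∈ P)
    (hmin : ∀ (x : G) (hx : x ∈ P), orderOf x < orderOf u → φ ⟨x, hPH hx⟩ = 1) :
    MonoidHom.transfer φ u = φ ⟨u, hPH hu⟩ := by
  classical
  have huH : u ∈ H := hPH hu
  obtain ⟨k₀, hk₀⟩ := IsPGroup.exists_orderOf_eq_pow P.2 ⟨u, hu⟩
  rw [Subgroup.orderOf_mk] at hk₀
  -- lower order elements of `H` are killed
  have hlow : ∀ (x : G) (hx : x ∈ H), orderOf x ∣ orderOf u → orderOf x < orderOf u → φ ⟨x, hx⟩ = 1 := by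
    intro x hx hd hlt
    obtain ⟨j, -, hj⟩ := (Nat.dvd_prime_pow hp.out).1 (hk₀ ▸ hd)
    have hpg : IsPGroup p (Subgroup.zpowers (⟨x, hx⟩ : H)) :=
      IsPGroup.of_card (n := j) (by rw [Nat.card_zpowers, Subgroup.orderOf_mk, hj])
    obtain ⟨R, hR⟩ := hpg.exists_le_sylow
    obtain ⟨g, hg⟩ := MulAction.exists_smul_eq H R (P.subtype hPH)
    have hmem : g * ⟨x, hx⟩ * g⁻¹ ∈ ((g • R : Sylow p H) : Subgroup H) := by
      rw [Sylow.coe_subgroup_smul]
      exact ⟨_, hR (Subgroup.mem_zpowers _), rfl⟩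
    rw [hg] at hmem
    have hP : ((g * ⟨x, hx⟩ * g⁻¹ : H) : G) ∈ P := hmem
    have ho : orderOf ((g * ⟨x, hx⟩ * g⁻¹ : H) : G) = orderOf x := by
      rw [Subgroup.orderOf_coe, ← Subgroup.orderOf_mk x hx]
      exact orderOf_injective (MulAut.conj g).toMonoidHom (MulAut.conj g).injective _
    have h5 := hmin _ hP (ho ▸ hlt)
    have h6 : φ (g * ⟨x, hx⟩ * g⁻¹) = 1 := h5
    rwa [map_mul, map_mul, map_inv, mul_comm (φ g), mul_inv_cancel_right] at h6
  have hpow : ∀ (k : ℕ), 1 < k → k ∣ orderOf u → ∀ g : G,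
      orderOf (g⁻¹ * u ^ k * g) ∣ orderOf u ∧ orderOf (g⁻¹ * u ^ k * g) < orderOf u := by
    intro k hk hd g
    have ho : orderOf (g⁻¹ * u ^ k * g) = orderOf u / k := by
      rw [show g⁻¹ * u ^ k * g = (MulAut.conj g⁻¹).toMonoidHom (u ^ k) by simp,
        orderOf_injective _ (MulAut.conj g⁻¹).injective, orderOf_pow' u (by omega), Nat.gcd_eq_right hd]
    rw [ho]
    exact ⟨Nat.div_dvd_of_dvd hd, Nat.div_lt_self (orderOf_pos u) hk⟩
  letI : Fintype (G ⧸ H) := Fintype.ofFinite _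
  rw [transfer_eq_prod φ u fun k g h hk hd => hlow _ h (hpow k hk hd g).1 (hpow k hk hd g).2]
  -- group the cosets by `P`-orbits
  letI : Fintype (Quotient (MulAction.orbitRel (P : Subgroup G) (G ⧸ H))) := Fintype.ofFinite _
  set orb : G ⧸ H → Quotient (MulAction.orbitRel (P : Subgroup G) (G ⧸ H)) := fun c => Quotient.mk'' c with horb
  rw [← Finset.prod_fiberwise Finset.univ orb]
  set one₀ : G ⧸ H := QuotientGroup.mk 1 with hone
  rw [Finset.prod_eq_single (orb one₀)]
  rotate_left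
  · intro q _ hq
    obtain ⟨c₀, rfl⟩ := Quotient.exists_rep q
    obtain ⟨g, rfl⟩ := QuotientGroup.mk_surjective c₀
    have hgH : g ∉ H := fun hg => hq (by
      show orb (QuotientGroup.mk g) = orb one₀
      congr 1
      exact QuotientGroup.eq.2 (by rw [mul_one]; exact H.inv_mem hg))
    -- the stabiliser of the base point
    let D : Subgroup G := (P : Subgroup G) ⊓ H.map (MulAut.conj g).toMonoidHom
    have hD : ∀ x, x ∈ D ↔ x ∈ P ∧ g⁻¹ * x * g ∈ H := by
      intro x
      constructor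
      · rintro ⟨hx, y, hy, rfl⟩
        exact ⟨hx, by simpa [mul_assoc] using hy⟩
      · rintro ⟨hx, hy⟩
        exact ⟨hx, _, hy, by simp [mul_assoc]⟩
    have hQD : ¬ Q ≤ D := by
      intro hle
      have hQp : IsPGroup p (Q.map (MulAut.conj g⁻¹).toMonoidHom) := (P.2.to_le hQ.1).map _
      have hQH : Q.map (MulAut.conj g⁻¹).toMonoidHom ≤ H := by
        rintro _ ⟨x, hx, rfl⟩
        simpa [mul_assoc] using ((hD x).1 (hle hx)).2
      obtain ⟨R, hR⟩ := (hQp.comap_of_injective H.subtype H.subtype_injective).exists_le_sylow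
      obtain ⟨e, he⟩ := MulAction.exists_smul_eq H R (P.subtype hPH)
      have hle2 : Q.map (MulAut.conj ((e : G) * g⁻¹)).toMonoidHom ≤ (P : Subgroup G) := by
        rintro _ ⟨x, hx, rfl⟩
        have h1 : g⁻¹ * x * g⁻¹⁻¹ ∈ Q.map (MulAut.conj g⁻¹).toMonoidHom := ⟨x, hx, rfl⟩
        have hmem : e * ⟨_, hQH h1⟩ * e⁻¹ ∈ ((e • R : Sylow p H) : Subgroup H) := by
          rw [Sylow.coe_subgroup_smul]
          exact ⟨_, hR h1, rfl⟩
        rw [he] at hmem
        have h2 : (e : G) * (g⁻¹ * x * g⁻¹⁻¹) * (e : G)⁻¹ ∈ P := hmem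
        show (e : G) * g⁻¹ * x * ((e : G) * g⁻¹)⁻¹ ∈ P
        rwa [show (e : G) * g⁻¹ * x * ((e : G) * g⁻¹)⁻¹ = (e : G) * (g⁻¹ * x * g⁻¹⁻¹) * (e : G)⁻¹ by group]
      have heq := hQ.2 _ hle2
      have hn : (e : G) * g⁻¹ ∈ Subgroup.normalizer (Q : Set G) := by
        refine Subgroup.mem_normalizer_iff.2 fun x => ⟨fun hx => heq.le ⟨x, hx, rfl⟩, fun hx => ?_⟩
        obtain ⟨y, hy, hyx⟩ := heq.ge hx
        have : y = x := (MulAut.conj ((e : G) * g⁻¹)).injective hyx
        exact this ▸ hy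
      rw [← hH] at hn
      have h5 := H.mul_mem (H.inv_mem hn) e.2
      rw [show ((e : G) * g⁻¹)⁻¹ * e = g by group] at h5
      exact hgH h5
    obtain ⟨M₁, hM₁⟩ := (Set.toFinite {M : Subgroup G | D ≤ M ∧ M ≤ P ∧ ¬ Q ≤ M}).exists_maximal
      ⟨D, le_rfl, inf_le_left, hQD⟩
    obtain ⟨hDM, hMP, hQM⟩ := hM₁.prop
    haveI : Group.IsNilpotent (P : Subgroup G) := IsPGroup.isNilpotent P.2
    have hlt : M₁.subgroupOf (P : Subgroup G) < ⊤ :=
      lt_top_iff_ne_top.2 fun h => hQM (hQ.1.trans (Subgroup.subgroupOf_eq_top.1 h))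
    obtain ⟨⟨y, hyP⟩, hy, hyM⟩ := SetLike.exists_of_lt (normalizerCondition_of_isNilpotent _ hlt)
    -- an element of order `p` modulo `M₁`
    have hyn : ∀ x ∈ M₁, y * x * y⁻¹ ∈ M₁ := fun x hx => by
      have := (Subgroup.mem_normalizer_iff.1 hy ⟨x, hMP hx⟩).1 (Subgroup.mem_subgroupOf.2 hx)
      exact Subgroup.mem_subgroupOf.1 this
    have hyM' : y ∉ M₁ := fun h => hyM (Subgroup.mem_subgroupOf.2 h)
    obtain ⟨j, hj⟩ := IsPGroup.exists_orderOf_eq_pow P.2 ⟨y, hyP⟩
    rw [Subgroup.orderOf_mk] at hj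
    have hex : ∃ i, y ^ p ^ i ∈ M₁ := ⟨j, by rw [← hj, pow_orderOf_eq_one]; exact M₁.one_mem⟩
    obtain ⟨i, hi⟩ : ∃ i, Nat.find hex = i + 1 := ⟨Nat.find hex - 1, by
      have : Nat.find hex ≠ 0 := fun h0 => hyM' (by have := Nat.find_spec hex; rwa [h0, pow_zero, pow_one] at this)
      omega⟩
    set y₁ := y ^ p ^ i with hy₁
    have hy₁M : y₁ ∉ M₁ := Nat.find_min hex (by omega)
    have hy₁p : y₁ ^ p ∈ M₁ := by
      rw [hy₁, ← pow_mul, ← pow_succ, ← hi]; exact Nat.find_spec hex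
    have hy₁P : y₁ ∈ P := (P : Subgroup G).pow_mem hyP _
    have hy₁n : ∀ x ∈ M₁, y₁ * x * y₁⁻¹ ∈ M₁ := by
      have : ∀ (n : ℕ), ∀ x ∈ M₁, y ^ n * x * (y ^ n)⁻¹ ∈ M₁ := by
        intro n
        induction n with
        | zero => intro x hx; simpa using hx
        | succ n ih =>
          intro x hx
          have := hyn _ (ih x hx)
          rwa [show y * (y ^ n * x * (y ^ n)⁻¹) * y⁻¹ = y ^ (n + 1) * x * (y ^ (n + 1))⁻¹ by
            rw [pow_succ']; group] at this
      exact this _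
    -- a non-trivial element of `Q` normalizing `M₁` modulo which it has order `p`
    set M₂ := M₁ ⊔ Subgroup.zpowers y₁ with hM₂
    have hM₂P : M₂ ≤ P := sup_le hMP (Subgroup.zpowers_le.2 hy₁P)
    have hQM₂ : Q ≤ M₂ := by
      by_contra h
      exact hy₁M ((hM₁.le_of_ge ⟨hDM.trans le_sup_left, hM₂P, h⟩ le_sup_left)
        (Subgroup.mem_sup_right (Subgroup.mem_zpowers y₁)))
    have hnorm : M₂ ≤ Subgroup.normalizer (M₁ : Set G) := by
      refine sup_le Subgroup.le_normalizer (Subgroup.zpowers_le.2 ?_)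
      refine Subgroup.mem_normalizer_iff.2 fun x => ⟨hy₁n x, fun hx => ?_⟩
      have h5 : ∀ (n : ℕ), ∀ x ∈ M₁, y₁ ^ n * x * (y₁ ^ n)⁻¹ ∈ M₁ := by
        intro n
        induction n with
        | zero => intro x hx; simpa using hx
        | succ n ih =>
          intro x hx
          have := hy₁n _ (ih x hx)
          rwa [show y₁ * (y₁ ^ n * x * (y₁ ^ n)⁻¹) * y₁⁻¹ = y₁ ^ (n + 1) * x * (y₁ ^ (n + 1))⁻¹ by
            rw [pow_succ' y₁]; group] at this
      have h6 := h5 (orderOf y₁ - 1) _ hx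
      have hinv : y₁ ^ (orderOf y₁ - 1) = y₁⁻¹ := eq_inv_of_mul_eq_one_left (by
        rw [← pow_succ, Nat.sub_add_cancel (orderOf_pos y₁), pow_orderOf_eq_one])
      rwa [hinv, show y₁⁻¹ * (y₁ * x * y₁⁻¹) * y₁⁻¹⁻¹ = x by group] at h6
    obtain ⟨z, hzQ, hzM⟩ := SetLike.not_le_iff_exists.1 hQM
    haveI hM₁n : (M₁.subgroupOf M₂).Normal :=
      (Subgroup.normal_subgroupOf_iff_le_normalizer (show M₁ ≤ M₂ from le_sup_left)).2 hnorm
    have hrep : ∀ w ∈ M₂, ∃ n : ℕ, n < p ∧ (z ^ n)⁻¹ * w ∈ M₁ := by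
      set π := QuotientGroup.mk' (M₁.subgroupOf M₂) with hπ
      have hπ1 : ∀ (x : M₂), π x = 1 ↔ (x : G) ∈ M₁ := fun x => (QuotientGroup.eq_one_iff x).trans Subgroup.mem_subgroupOf
      let Y : M₂ := ⟨y₁, Subgroup.mem_sup_right (Subgroup.mem_zpowers y₁)⟩
      have hgenY : ∀ x : M₂, π x ∈ Subgroup.zpowers (π Y) := by
        intro x
        have hx : (x : G) ∈ ((M₁ ⊔ Subgroup.zpowers y₁ : Subgroup G) : Set G) := x.2
        rw [Subgroup.coe_mul_of_right_le_normalizer_left _ _ (le_sup_right.trans hnorm)] at hx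
        obtain ⟨m, hm, w, hw, hmw⟩ := hx
        obtain ⟨l, rfl⟩ := Subgroup.mem_zpowers_iff.1 hw
        refine ⟨l, ?_⟩
        show π Y ^ l = π x
        rw [← map_zpow, ← inv_mul_eq_one, ← map_inv, ← map_mul, hπ1]
        show (y₁ ^ l)⁻¹ * (x : G) ∈ M₁
        simp only at hmw
        rw [← hmw]
        have := (Subgroup.mem_normalizer_iff''.1 (hnorm (Subgroup.mem_sup_right (Subgroup.zpow_mem _ (Subgroup.mem_zpowers y₁) l))) m).1 hm
        rwa [← mul_assoc]
      intro w hw
      let Zq : M₂ := ⟨z, hQM₂ hzQ⟩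
      have hz1 : π Zq ≠ 1 := fun h => hzM ((hπ1 _).1 h)
      have hYp : π Y ^ p = 1 := by rw [← map_pow, hπ1]; exact hy₁p
      have hY1 : π Y ≠ 1 := fun h => hy₁M ((hπ1 Y).1 h)
      have hoY : orderOf (π Y) = p := orderOf_eq_prime hYp hY1
      have hoZ : orderOf (π Zq) = p := by
        refine orderOf_eq_prime ?_ hz1
        obtain ⟨l, hl⟩ := Subgroup.mem_zpowers_iff.1 (hgenY Zq)
        rw [← hl, ← zpow_natCast, ← zpow_mul, mul_comm, zpow_mul, zpow_natCast, hYp, one_zpow]
      have hgenZ : Subgroup.zpowers (π Zq) = Subgroup.zpowers (π Y) :=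
        Subgroup.eq_of_le_of_card_ge (Subgroup.zpowers_le.2 (hgenY Zq)) (by rw [Nat.card_zpowers, Nat.card_zpowers, hoY, hoZ])
      have hw' : π ⟨w, hw⟩ ∈ Subgroup.zpowers (π Zq) := hgenZ ▸ hgenY _
      obtain ⟨n, hn⟩ := mem_powers_iff_mem_zpowers.2 hw'
      refine ⟨n % p, Nat.mod_lt _ hp.out.pos, ?_⟩
      have h5 : π ((Zq ^ (n % p))⁻¹ * ⟨w, hw⟩) = 1 := by
        rw [map_mul, map_inv, map_pow, ← hn, inv_mul_eq_one]
        show π Zq ^ (n % p) = π Zq ^ n
        conv_rhs => rw [← pow_mod_orderOf, hoZ]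
      exact (hπ1 _).1 h5
    have hzn : ∀ n : ℕ, z ^ n ∈ Subgroup.normalizer (M₁ : Set G) := fun n =>
      hnorm (M₂.pow_mem (hQM₂ hzQ) n)
    have hzinj : ∀ a b : ℕ, a < p → b < p → (z ^ a)⁻¹ * z ^ b ∈ M₁ → a = b := by
      have key : ∀ a b : ℕ, a ≤ b → b < p → (z ^ a)⁻¹ * z ^ b ∈ M₁ → a = b := by
        intro a b hab hb h
        obtain ⟨d, rfl⟩ := Nat.exists_eq_add_of_le hab
        rw [pow_add, inv_mul_cancel_left] at h
        by_contra hd
        have hd0 : 0 < d := by omega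
        apply hzM
        obtain ⟨k, hk⟩ := IsPGroup.exists_orderOf_eq_pow P.2 ⟨z, hQ.1 hzQ⟩
        rw [Subgroup.orderOf_mk] at hk
        have hcop : d.Coprime (p ^ k) :=
          ((hp.out.coprime_iff_not_dvd.2 fun hpd => by have := Nat.le_of_dvd hd0 hpd; omega).symm).pow_right k
        obtain ⟨s, hs⟩ := exists_pow_eq_self_of_coprime (show d.Coprime (orderOf z) from hk ▸ hcop)
        exact hs ▸ M₁.pow_mem h s
      intro a b ha hb h
      rcases le_total a b with h' | h'
      · exact key a b h' hb h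
      · refine (key b a h' ha ?_).symm
        have := M₁.inv_mem h
        rwa [mul_inv_rev, inv_inv] at this
    -- transfer from `M₁` to the point stabiliser
    let D₁ : Subgroup M₁ := D.subgroupOf M₁
    let ψ : D₁ →* Multiplicative (ZMod p) :=
      { toFun := fun x => φ ⟨g⁻¹ * ((x : M₁) : G) * g, ((hD _).1 (Subgroup.mem_subgroupOf.1 x.2)).2⟩
        map_one' := by
          convert map_one φ using 2
          exact Subtype.ext (by simp)
        map_mul' := fun a b => by
          rw [← map_mul]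
          refine congrArg φ (Subtype.ext ?_)
          show g⁻¹ * (((a : M₁) : G) * ((b : M₁) : G)) * g = (g⁻¹ * ((a : M₁) : G) * g) * (g⁻¹ * ((b : M₁) : G) * g)
          group }
    letI : Fintype (M₁ ⧸ D₁) := Fintype.ofFinite _
    let f : M₁ →* Multiplicative (ZMod p) := MonoidHom.transfer ψ
    have hfval : ∀ y : M₁, orderOf (y : G) = orderOf u →
        f y = ∏ x : M₁ ⧸ D₁, val φ (y : G) (QuotientGroup.mk ((x.out : G) * g)) := by
      intro y hy
      have hpow' : ∀ (k : ℕ), 1 < k → k ∣ orderOf u → ∀ w : G,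
          orderOf (w⁻¹ * (y : G) ^ k * w) ∣ orderOf u ∧ orderOf (w⁻¹ * (y : G) ^ k * w) < orderOf u := by
        intro k hk hd w
        have ho : orderOf (w⁻¹ * (y : G) ^ k * w) = orderOf u / k := by
          rw [show w⁻¹ * (y : G) ^ k * w = (MulAut.conj w⁻¹).toMonoidHom ((y : G) ^ k) by simp,
            orderOf_injective _ (MulAut.conj w⁻¹).injective, orderOf_pow' _ (by omega), hy, Nat.gcd_eq_right hd]
        rw [ho]
        exact ⟨Nat.div_dvd_of_dvd hd, Nat.div_lt_self (orderOf_pos u) hk⟩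
      have hlow' : ∀ (k : ℕ) (w : M₁) (h : w⁻¹ * y ^ k * w ∈ D₁), 1 < k → k ∣ orderOf y → ψ ⟨_, h⟩ = 1 := by
        intro k w h hk hd
        have hd' : k ∣ orderOf u := by rwa [← hy, Subgroup.orderOf_coe]
        have e : g⁻¹ * ((w⁻¹ * y ^ k * w : M₁) : G) * g = ((w : G) * g)⁻¹ * (y : G) ^ k * ((w : G) * g) := by
          simp only [Subgroup.coe_mul, InvMemClass.coe_inv, SubmonoidClass.coe_pow]; group
        refine hlow _ _ ?_ ?_ <;> rw [e]
        · exact (hpow' k hk hd' _).1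
        · exact (hpow' k hk hd' _).2
      rw [show f y = _ from transfer_eq_prod ψ y hlow']
      refine Finset.prod_congr rfl fun x _ => ?_
      have e : g⁻¹ * ((x.out⁻¹ * y * x.out : M₁) : G) * g = ((x.out : G) * g)⁻¹ * (y : G) * ((x.out : G) * g) := by
        simp only [Subgroup.coe_mul, InvMemClass.coe_inv]; group
      conv_lhs => rw [← QuotientGroup.out_eq' x]
      by_cases h : x.out⁻¹ * y * x.out ∈ D₁
      · have h' : ((x.out : G) * g)⁻¹ * (y : G) * ((x.out : G) * g) ∈ H :=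
          e ▸ ((hD _).1 (Subgroup.mem_subgroupOf.1 h)).2
        rw [val_mk ψ y _ h, val_mk φ _ _ h']
        exact congrArg φ (Subtype.ext e)
      · rw [val_mk_not ψ y _ h, val_mk_not φ _ _ fun h' => h (Subgroup.mem_subgroupOf.2 ((hD _).2
          ⟨hMP (x.out⁻¹ * y * x.out).2, e ▸ h'⟩))]
    -- the blocks
    letI : Fintype ((P : Subgroup G) ⧸ M₂.subgroupOf (P : Subgroup G)) := Fintype.ofFinite _
    have hzP : ∀ n : ℕ, z ^ n ∈ P := fun n => (P : Subgroup G).pow_mem (hQ.1 hzQ) n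
    let θ : ((P : Subgroup G) ⧸ M₂.subgroupOf (P : Subgroup G)) × Fin p × (M₁ ⧸ D₁) → G ⧸ H := fun t =>
      QuotientGroup.mk (((t.1.out : (P : Subgroup G)) : G) * (z ^ (t.2.1 : ℕ) * ((t.2.2.out : G) * g)))
    have hbase : ∀ a : (P : Subgroup G), orb (QuotientGroup.mk ((a : G) * g)) = orb (QuotientGroup.mk g) := fun a =>
      Quotient.eq''.2 (MulAction.orbitRel_apply.2 ⟨a, rfl⟩)
    have hθmem : ∀ t, θ t ∈ Finset.univ.filter fun c => orb c = orb (QuotientGroup.mk g) := by
      intro t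
      refine Finset.mem_filter.2 ⟨Finset.mem_univ _, ?_⟩
      have hP' : ((t.1.out : (P : Subgroup G)) : G) * (z ^ (t.2.1 : ℕ) * (t.2.2.out : G)) ∈ P :=
        (P : Subgroup G).mul_mem t.1.out.2 ((P : Subgroup G).mul_mem (hzP _) (hMP t.2.2.out.2))
      have := hbase ⟨_, hP'⟩
      simp only [mul_assoc] at this
      exact this
    have hprod : ∏ c ∈ Finset.univ.filter (fun c => orb c = orb (QuotientGroup.mk g)), val φ u c =
        ∏ t, val φ u (θ t) := by
      refine (Finset.prod_bij (fun t _ => θ t) (fun t _ => hθmem t) ?_ ?_ fun t _ => rfl).symm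
      · rintro ⟨r, n, x⟩ _ ⟨r', n', x'⟩ _ h
        simp only [θ, QuotientGroup.eq] at h
        have hxx : ∀ (r : (P : Subgroup G)) (n : ℕ) (x : M₁), (r : G) * (z ^ n * (x : G)) ∈ P := fun r n x =>
          (P : Subgroup G).mul_mem r.2 ((P : Subgroup G).mul_mem (hzP _) (hMP x.2))
        have hd : ((r.out : G) * (z ^ (n : ℕ) * (x.out : G)))⁻¹ * ((r'.out : G) * (z ^ (n' : ℕ) * (x'.out : G))) ∈ D := by
          refine (hD _).2 ⟨(P : Subgroup G).mul_mem ((P : Subgroup G).inv_mem (hxx _ _ _)) (hxx _ _ _), ?_⟩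
          rwa [show g⁻¹ * (((r.out : G) * (z ^ (n : ℕ) * (x.out : G)))⁻¹ * ((r'.out : G) * (z ^ (n' : ℕ) * (x'.out : G)))) * g =
            ((r.out : G) * (z ^ (n : ℕ) * ((x.out : G) * g)))⁻¹ * ((r'.out : G) * (z ^ (n' : ℕ) * ((x'.out : G) * g))) by group]
        have hz2 : ∀ (n : ℕ) (x : M₁), z ^ n * (x : G) ∈ M₂ := fun n x =>
          M₂.mul_mem (M₂.pow_mem (hQM₂ hzQ) n) (Subgroup.mem_sup_left x.2)
        obtain rfl : r = r' := by
          rw [← QuotientGroup.out_eq' r, ← QuotientGroup.out_eq' r', QuotientGroup.eq, Subgroup.mem_subgroupOf]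
          have h5 := M₂.mul_mem (M₂.mul_mem (hz2 n x.out) (Subgroup.mem_sup_left (hDM hd))) (M₂.inv_mem (hz2 n' x'.out))
          simpa [mul_assoc] using h5
        have hd2 : (x.out : G)⁻¹ * ((z ^ (n : ℕ))⁻¹ * z ^ (n' : ℕ)) * (x'.out : G) ∈ D := by
          rwa [show (x.out : G)⁻¹ * ((z ^ (n : ℕ))⁻¹ * z ^ (n' : ℕ)) * (x'.out : G) =
            ((r.out : G) * (z ^ (n : ℕ) * (x.out : G)))⁻¹ * ((r.out : G) * (z ^ (n' : ℕ) * (x'.out : G))) by group]
        obtain rfl : n = n' := by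
          refine Fin.ext (hzinj n n' n.2 n'.2 ?_)
          have h5 := M₁.mul_mem (M₁.mul_mem x.out.2 (hDM hd2)) (M₁.inv_mem x'.out.2)
          simpa [mul_assoc] using h5
        obtain rfl : x = x' := by
          rw [← QuotientGroup.out_eq' x, ← QuotientGroup.out_eq' x', QuotientGroup.eq, Subgroup.mem_subgroupOf]
          simpa using hd2
        rfl
      · intro c hc
        obtain ⟨a, rfl⟩ := MulAction.orbitRel_apply.1 (Quotient.eq''.1 (Finset.mem_filter.1 hc).2)
        obtain ⟨⟨w, hwM⟩, hw⟩ := QuotientGroup.mk_out_eq_mul (M₂.subgroupOf (P : Subgroup G)) a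
        have hw' : ((w⁻¹ : (P : Subgroup G)) : G) ∈ M₂ := M₂.inv_mem (Subgroup.mem_subgroupOf.1 hwM)
        obtain ⟨n, hn, hm⟩ := hrep _ hw'
        obtain ⟨⟨e, he⟩, he'⟩ := QuotientGroup.mk_out_eq_mul D₁ (⟨_, hm⟩ : M₁)
        refine ⟨(QuotientGroup.mk a, ⟨n, hn⟩, QuotientGroup.mk ⟨_, hm⟩), Finset.mem_univ _, ?_⟩
        show θ _ = QuotientGroup.mk ((a : G) * g)
        simp only [θ, hw, he']
        rw [QuotientGroup.eq]
        have h5 := H.inv_mem ((hD _).1 (Subgroup.mem_subgroupOf.1 he)).2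
        simpa [mul_assoc] using h5
    refine hprod.trans ?_
    rw [Fintype.prod_prod_type]
    refine Finset.prod_eq_one fun r _ => ?_
    rw [Fintype.prod_prod_type]
    set y := ((r.out : (P : Subgroup G)) : G)⁻¹ * u * (r.out : G) with hy
    have hyP : y ∈ P := (P : Subgroup G).mul_mem ((P : Subgroup G).mul_mem ((P : Subgroup G).inv_mem r.out.2) hu) r.out.2
    have hoy : ∀ n : ℕ, orderOf ((z ^ n)⁻¹ * y * z ^ n) = orderOf u := by
      intro n
      rw [hy, show (z ^ n)⁻¹ * ((r.out : G)⁻¹ * u * (r.out : G)) * z ^ n =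
        (MulAut.conj ((r.out : G) * z ^ n)⁻¹).toMonoidHom u by
          show _ = ((r.out : G) * z ^ n)⁻¹ * u * ((r.out : G) * z ^ n)⁻¹⁻¹
          group,
        orderOf_injective _ (MulAut.conj _).injective]
    have hval : ∀ (n : Fin p) (x : M₁ ⧸ D₁), val φ u (θ (r, n, x)) =
        val φ ((z ^ (n : ℕ))⁻¹ * y * z ^ (n : ℕ)) (QuotientGroup.mk ((x.out : G) * g)) := by
      intro n x
      simp only [θ]
      rw [val_smul, val_smul]
    simp only [hval]
    by_cases hyM : y ∈ M₁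
    swap
    · refine Finset.prod_eq_one fun n _ => Finset.prod_eq_one fun x _ => val_mk_not φ _ _ fun hmem => ?_
      apply hyM
      have h3 : (z ^ (n : ℕ) * (x.out : G))⁻¹ * y * (z ^ (n : ℕ) * (x.out : G)) ∈ D := by
        refine (hD _).2 ⟨?_, ?_⟩
        · have := (P : Subgroup G).mul_mem (hzP n) (hMP x.out.2)
          exact (P : Subgroup G).mul_mem ((P : Subgroup G).mul_mem ((P : Subgroup G).inv_mem this) hyP) this
        · rwa [show g⁻¹ * ((z ^ (n : ℕ) * (x.out : G))⁻¹ * y * (z ^ (n : ℕ) * (x.out : G))) * g =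
            ((x.out : G) * g)⁻¹ * ((z ^ (n : ℕ))⁻¹ * y * z ^ (n : ℕ)) * ((x.out : G) * g) by group]
      have hw : z ^ (n : ℕ) * (x.out : G) ∈ Subgroup.normalizer (M₁ : Set G) :=
        Subgroup.mul_mem _ (hzn n) (Subgroup.le_normalizer x.out.2)
      exact (Subgroup.mem_normalizer_iff''.1 hw y).2 (hDM h3)
    -- the Engel condition
    have hconjM : ∀ w ∈ M₁, ∀ n : ℕ, (z ^ n)⁻¹ * w * z ^ n ∈ M₁ := fun w hw n =>
      (Subgroup.mem_normalizer_iff''.1 (hzn n) w).1 hw
    set F := fun e : G => e⁻¹ * z⁻¹ * e * z with hF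
    have hE : ∀ k : ℕ, F^[k] y ∈ M₁ := by
      intro k
      induction k with
      | zero => exact hyM
      | succ k ih =>
        rw [Function.iterate_succ_apply']
        show (F^[k] y)⁻¹ * z⁻¹ * F^[k] y * z ∈ M₁
        have h5 := M₁.mul_mem (M₁.inv_mem ih) (hconjM _ ih 1)
        rwa [pow_one, show (F^[k] y)⁻¹ * (z⁻¹ * F^[k] y * z) = (F^[k] y)⁻¹ * z⁻¹ * F^[k] y * z by group] at h5
    let a : ℕ → ZMod p := fun n => Multiplicative.toAdd (f ⟨_, hconjM _ hyM n⟩)
    have hsum := sum_eq_diff a (fun k n => Multiplicative.toAdd (f ⟨_, hconjM _ (hE k) n⟩)) (fun n => rfl) (by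
      intro k n
      have e : (⟨_, hconjM _ (hE (k + 1)) n⟩ : M₁) = (⟨_, hconjM _ (hE k) n⟩ : M₁)⁻¹ * ⟨_, hconjM _ (hE k) (n + 1)⟩ := by
        apply Subtype.ext
        show (z ^ n)⁻¹ * F^[k + 1] y * z ^ n = ((z ^ n)⁻¹ * F^[k] y * z ^ n)⁻¹ * ((z ^ (n + 1))⁻¹ * F^[k] y * z ^ (n + 1))
        rw [Function.iterate_succ_apply', pow_succ']
        show (z ^ n)⁻¹ * ((F^[k] y)⁻¹ * z⁻¹ * F^[k] y * z) * z ^ n = _
        group
      rw [e, map_mul, map_inv, toAdd_mul, toAdd_inv, neg_add_eq_sub])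
    have hzero : (⟨_, hconjM _ (hE (p - 1)) 0⟩ : M₁) = 1 := by
      apply Subtype.ext
      show (z ^ 0)⁻¹ * F^[p - 1] y * z ^ 0 = 1
      rw [hengel y hyP z hzQ, mul_one, pow_zero, inv_one, one_mul]
    simp only [hzero, map_one, toAdd_one] at hsum
    have hinner : ∀ n : Fin p, ∏ x : M₁ ⧸ D₁, val φ ((z ^ (n : ℕ))⁻¹ * y * z ^ (n : ℕ)) (QuotientGroup.mk ((x.out : G) * g)) =
        Multiplicative.ofAdd (a n) := fun n => (hfval ⟨_, hconjM _ hyM n⟩ (hoy n)).symm
    rw [Finset.prod_congr rfl fun n _ => hinner n, ← ofAdd_sum, Fin.sum_univ_eq_sum_range a, ← hsum, ofAdd_zero]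
  · intro h; exact absurd (Finset.mem_univ _) h
  have hfilter : Finset.univ.filter (fun c => orb c = orb one₀) = {one₀} := by
    ext c
    simp only [Finset.mem_filter, Finset.mem_univ, true_and, Finset.mem_singleton]
    refine ⟨fun h => ?_, fun h => by rw [h]⟩
    obtain ⟨a, rfl⟩ := MulAction.orbitRel_apply.1 (Quotient.eq''.1 h)
    show QuotientGroup.mk ((a : G) * 1) = one₀
    exact QuotientGroup.eq.2 (by simpa using H.inv_mem (hPH a.2))
  rw [hfilter, Finset.prod_singleton, hone, val_mk φ u 1 (by simpa using huH)]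
  exact congrArg φ (Subtype.ext (by simp))

/-- Every homomorphism of the normalizer to a group of order `p` extends. -/
private theorem extend_hom (P : Sylow p G) (Q : Subgroup G) (hQ : Cfsg.IsWeaklyClosed Q (P : Subgroup G))
    (hengel : ∀ u ∈ (P : Subgroup G), ∀ z ∈ Q, (fun y : G => y⁻¹ * z⁻¹ * y * z)^[p - 1] u = 1)
    {H : Subgroup G} (hPH : (P : Subgroup G) ≤ H) (hH : H = Subgroup.normalizer (Q : Set G))
    (ψ : H →* Multiplicative (ZMod p)) :
    ∃ τ : G →* Multiplicative (ZMod p), ∀ x : H, τ x = ψ x := by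
  classical
  haveI : H.FiniteIndex := Subgroup.finiteIndex_of_finite
  haveI : Finite (H →* Multiplicative (ZMod p)) := Finite.of_injective _ DFunLike.coe_injective
  -- a hom of `H` trivial on `P` is trivial
  have hdet : ∀ φ : H →* Multiplicative (ZMod p), (∀ (x : G) (hx : x ∈ P), φ ⟨x, hPH hx⟩ = 1) → φ = 1 := by
    intro φ hφ
    refine MonoidHom.ext fun x => ?_
    have h5 : (P.subtype hPH : Subgroup H) ⊔ Cfsg.pResidual p H ≤ φ.ker := by
      refine sup_le (fun y hy => MonoidHom.mem_ker.2 (hφ y hy)) ?_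
      rw [Cfsg.pResidual, Subgroup.closure_le]
      intro y hy
      refine MonoidHom.mem_ker.2 (orderOf_eq_one_iff.1 (Nat.eq_one_of_dvd_coprimes hy (orderOf_map_dvd φ y) ?_))
      refine orderOf_dvd_of_pow_eq_one (Multiplicative.toAdd.injective ?_)
      rw [toAdd_pow, toAdd_one, nsmul_eq_mul, ZMod.natCast_self, zero_mul]
    exact MonoidHom.mem_ker.1 (h5 (by rw [PBasic.sylow_sup_pResidual]; exact Subgroup.mem_top x))
  let Φ : (H →* Multiplicative (ZMod p)) →* (H →* Multiplicative (ZMod p)) :=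
    { toFun := fun φ => (MonoidHom.transfer φ).comp H.subtype
      map_one' := by
        letI : Fintype (G ⧸ H) := Fintype.ofFinite _
        ext x
        show MonoidHom.transfer (1 : H →* Multiplicative (ZMod p)) (x : G) = 1
        rw [transfer_eq_prod 1 (x : G) fun _ _ _ _ _ => rfl]
        exact Finset.prod_eq_one fun c _ => by rw [val]; split <;> rfl
      map_mul' := fun φ φ' => by
        letI : Fintype (Quotient (MulAction.orbitRel (Subgroup.zpowers (1 : G)) (G ⧸ H))) := Fintype.ofFinite _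
        ext x
        letI : Fintype (Quotient (MulAction.orbitRel (Subgroup.zpowers (x : G)) (G ⧸ H))) := Fintype.ofFinite _
        show MonoidHom.transfer (φ * φ') (x : G) = MonoidHom.transfer φ (x : G) * MonoidHom.transfer φ' (x : G)
        rw [MonoidHom.transfer_eq_prod_quotient_orbitRel_zpowers_quot (φ * φ') (x : G),
          MonoidHom.transfer_eq_prod_quotient_orbitRel_zpowers_quot φ (x : G),
          MonoidHom.transfer_eq_prod_quotient_orbitRel_zpowers_quot φ' (x : G)]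
        exact Finset.prod_mul_distrib }
  have hinj : Function.Injective Φ := by
    rw [injective_iff_map_eq_one]
    intro φ hφ
    refine hdet φ ?_
    by_contra hne
    push Not at hne
    have hex : ∃ n, ∃ (x : G) (hx : x ∈ P), φ ⟨x, hPH hx⟩ ≠ 1 ∧ orderOf x = n := by
      obtain ⟨x, hx, h⟩ := hne
      exact ⟨_, x, hx, h, rfl⟩
    obtain ⟨x, hx, hne', hxo⟩ := Nat.find_spec hex
    have hmin := transfer_apply_min P Q hQ hengel hPH hH φ x hx fun y hy hlt => by
      by_contra hy1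
      exact Nat.find_min hex (hxo ▸ hlt) ⟨y, hy, hy1, rfl⟩
    refine hne' (hmin ▸ ?_)
    exact DFunLike.congr_fun hφ ⟨x, hPH hx⟩
  obtain ⟨φ, hφ⟩ := (Finite.injective_iff_surjective.1 hinj) ψ
  exact ⟨MonoidHom.transfer φ, fun x => DFunLike.congr_fun hφ x⟩

/-- Tate: if homomorphisms to the group of order `p` extend then the residuals agree. -/
private theorem tate (P : Sylow p G) {H : Subgroup G} (hPH : (P : Subgroup G) ≤ H)
    (hext : ∀ ψ : H →* Multiplicative (ZMod p), ∃ τ : G →* Multiplicative (ZMod p), ∀ x : H, τ x = ψ x) :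
    (Cfsg.pResidual p G).subgroupOf (P : Subgroup G) ≤ (Cfsg.pResidualOf p H).subgroupOf (P : Subgroup G) := by
  classical
  haveI hRn : (Cfsg.pResidual p H).Normal :=
      haveI := PBasic.pResidual_characteristic p H; inferInstance
  haveI hGn : (Cfsg.pResidual p G).Normal :=
      haveI := PBasic.pResidual_characteristic p G; inferInstance
  set K := Cfsg.pResidual p G with hK
  set Qk := K.subgroupOf (P : Subgroup G) with hQk
  let ι : (P : Subgroup G) →* H := Subgroup.inclusion hPH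
  let j : (P : Subgroup G) →* H ⧸ Cfsg.pResidual p H := (QuotientGroup.mk' _).comp ι
  have hLj : (Cfsg.pResidualOf p H).subgroupOf (P : Subgroup G) = j.ker := by
    ext x
    rw [Subgroup.mem_subgroupOf, MonoidHom.mem_ker]
    constructor
    · rintro ⟨y, hy, hyx⟩
      refine (QuotientGroup.eq_one_iff _).2 ?_
      rwa [show ι x = y from Subtype.ext hyx.symm]
    · intro h
      exact ⟨ι x, (QuotientGroup.eq_one_iff _).1 h, rfl⟩
  rw [hLj]
  haveI := Fusion.sylow_isNilpotent P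
  refine Fusion.le_of_le_commutator_sup_normal Qk j.ker ?_
  set L' := ⁅Qk, (⊤ : Subgroup (P : Subgroup G))⁆ ⊔ j.ker with hL'
  set Lq := Qk ⊓ L' with hLq
  haveI : L'.Normal := inferInstance
  -- `j.ker` lies in `Qk`
  have hjQ : j.ker ≤ Qk := by
    intro x hx
    rw [← hLj] at hx
    obtain ⟨y, hy, hyx⟩ := hx
    refine Subgroup.mem_subgroupOf.2 ?_
    rw [show (x : G) = H.subtype y from hyx.symm]
    exact PBasic.map_pResidual_le H.subtype (Subgroup.mem_map_of_mem _ hy)
  have hL'Q : L' ≤ Qk := sup_le (Subgroup.commutator_le_left Qk ⊤) hjQ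
  let mk : (P : Subgroup G) →* (P : Subgroup G) ⧸ L' := QuotientGroup.mk' L'
  have hmk : Function.Surjective mk := QuotientGroup.mk'_surjective L'
  let q : G →* G ⧸ K := QuotientGroup.mk' K
  let r : (P : Subgroup G) ⧸ L' →* G ⧸ K :=
    QuotientGroup.lift L' (q.comp (P : Subgroup G).subtype) fun x hx => by
      rw [MonoidHom.mem_ker, MonoidHom.comp_apply, QuotientGroup.mk'_apply, QuotientGroup.eq_one_iff]
      exact hL'Q hx
  have hrmk : ∀ x, r (mk x) = q (x : G) := fun x => rfl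
  have hPK : (P : Subgroup G) ⊔ K = ⊤ := PBasic.sylow_sup_pResidual P
  have hr : Function.Surjective r := by
    intro t
    obtain ⟨g, rfl⟩ := QuotientGroup.mk'_surjective K t
    have hg : g ∈ ((P : Subgroup G) ⊔ K : Subgroup G) := hPK ▸ Subgroup.mem_top g
    rw [← SetLike.mem_coe, Subgroup.mul_normal] at hg
    obtain ⟨a, ha, w, hw, rfl⟩ := Set.mem_mul.1 hg
    refine ⟨mk ⟨a, ha⟩, ?_⟩
    rw [hrmk]
    simp only [q, QuotientGroup.mk'_apply, QuotientGroup.mk_mul, (QuotientGroup.eq_one_iff w).2 hw, mul_one]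
  have hker : ∀ x, r (mk x) = 1 → x ∈ Qk := fun x hx => by
    rw [hrmk] at hx
    exact (QuotientGroup.eq_one_iff (N := K) (x : G)).1 hx
  have hcen : r.ker ≤ Subgroup.center ((P : Subgroup G) ⧸ L') := by
    intro y hy
    obtain ⟨x, rfl⟩ := hmk y
    rw [Subgroup.mem_center_iff]
    intro z
    obtain ⟨w, rfl⟩ := hmk z
    rw [← map_mul, ← map_mul]
    refine (QuotientGroup.eq (s := L')).2 ?_
    have := Subgroup.commutator_mem_commutator (inv_mem (hker x hy)) (Subgroup.mem_top w⁻¹) (H₁ := Qk) (H₂ := ⊤)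
    refine Subgroup.mem_sup_left ?_
    simpa [commutatorElement_def, mul_assoc] using this
  obtain ⟨σ, hσ⟩ := Tate.exists_lift q r hr (P.isPGroup'.to_quotient L') hcen P mk hrmk
  have hσK : ∀ k ∈ K, σ k = 1 := fun k hk => by
    have h1 := PBasic.map_pResidual_le σ (Subgroup.mem_map_of_mem σ hk)
    have h2 : Cfsg.pResidual p ((P : Subgroup G) ⧸ L') = ⊥ := by
      rw [Cfsg.pResidual, Subgroup.closure_eq_bot_iff]
      intro x hx
      exact (PBasic.isPGroup_iff_forall_coprime.1 (P.isPGroup'.to_quotient L')) x hx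
    rw [h2] at h1
    exact Subgroup.mem_bot.1 h1
  let φ : (P : Subgroup G) →* (P : Subgroup G) ⧸ L' := σ.comp (P : Subgroup G).subtype
  have hφQ : Qk ≤ φ.ker := fun x hx => hσK x hx
  have hφs : Function.Surjective φ := by
    have htop : φ.range.comap mk = ⊤ := by
      obtain h | ⟨M, hM, hle⟩ := IsCoatomic.eq_top_or_exists_le_coatom (φ.range.comap mk)
      · exact h
      exfalso
      have hL'le : L' ≤ M := le_trans (fun x hx => by
        show mk x ∈ φ.range
        rw [show mk x = 1 from (QuotientGroup.eq_one_iff x).2 hx]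
        exact Subgroup.one_mem _) hle
      obtain ⟨hMn, hMi⟩ := PGroupBasics.index_of_isCoatom P.isPGroup' hM
      haveI := hMn
      have hcardM : Nat.card ((P : Subgroup G) ⧸ M) = p := hMi
      let e : (P : Subgroup G) ⧸ M ≃* Multiplicative (ZMod p) :=
        mulEquivOfPrimeCardEq hcardM ((Nat.card_congr Multiplicative.toAdd).trans (Nat.card_zmod p))
      have hjs : Function.Surjective j := by
        intro t
        obtain ⟨h, rfl⟩ := QuotientGroup.mk_surjective t
        have hh : h ∈ ((P.subtype hPH : Subgroup H) ⊔ Cfsg.pResidual p H : Subgroup H) := by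
          rw [PBasic.sylow_sup_pResidual]; trivial
        rw [← SetLike.mem_coe, Subgroup.mul_normal] at hh
        obtain ⟨a, ha, w, hw, rfl⟩ := Set.mem_mul.1 hh
        refine ⟨⟨(a : G), ha⟩, ?_⟩
        show QuotientGroup.mk (ι ⟨(a : G), ha⟩) = _
        rw [QuotientGroup.mk_mul, (QuotientGroup.eq_one_iff w).2 hw, mul_one]
        rfl
      let χ : (P : Subgroup G) →* Multiplicative (ZMod p) := e.toMonoidHom.comp (QuotientGroup.mk' M)
      have hχ : ∀ x, χ x = 1 ↔ x ∈ M := fun x => by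
        show e (QuotientGroup.mk x) = 1 ↔ _
        rw [EmbeddingLike.map_eq_one_iff, QuotientGroup.eq_one_iff]
      have hχj : j.ker ≤ χ.ker := fun x hx => (hχ x).2 (hL'le (Subgroup.mem_sup_right hx))
      let χ' := MonoidHom.liftOfSurjective j hjs ⟨χ, hχj⟩
      obtain ⟨τ, hτ⟩ := hext (χ'.comp (QuotientGroup.mk' _))
      have hτP : ∀ x : (P : Subgroup G), τ x = χ x := fun x => by
        rw [show (x : G) = ((ι x : H) : G) from rfl, hτ]
        show χ' (j x) = χ x
        exact MonoidHom.liftOfRightInverse_comp_apply j _ _ ⟨χ, hχj⟩ x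
      have hKM : Qk ≤ M := fun x hx => (hχ x).1 (by
        rw [← hτP]
        have h1 := PBasic.map_pResidual_le τ (Subgroup.mem_map_of_mem τ (Subgroup.mem_subgroupOf.1 hx))
        have h2 : Cfsg.pResidual p (Multiplicative (ZMod p)) = ⊥ := by
          rw [Cfsg.pResidual, Subgroup.closure_eq_bot_iff]
          intro x hx
          exact (PBasic.isPGroup_iff_forall_coprime.1 (IsPGroup.of_card (n := 1)
            (by rw [pow_one]; exact (Nat.card_congr Multiplicative.toAdd).trans (Nat.card_zmod p)))) x hx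
        rw [h2] at h1
        exact Subgroup.mem_bot.1 h1)
      apply hM.1
      rw [eq_top_iff]
      intro x _
      obtain ⟨y, hy⟩ := hmk (φ x)
      have h1 : y⁻¹ * x ∈ Qk := by
        apply hker
        rw [map_mul, map_inv, hy, map_mul, map_inv, hrmk, show r (φ x) = q x from hσ _, inv_mul_cancel]
      have h3 : y ∈ M := hle ⟨x, hy.symm⟩
      have := M.mul_mem h3 (hKM h1)
      rwa [mul_inv_cancel_left] at this
    intro y
    obtain ⟨x, rfl⟩ := hmk y
    have h3 : x ∈ φ.range.comap mk := by rw [htop]; exact Subgroup.mem_top x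
    exact h3
  have h1 : L'.index ≤ Qk.index := by
    have h2 : φ.ker.index = L'.index := by
      rw [Subgroup.index_ker, MonoidHom.range_eq_top.2 hφs, Subgroup.card_top]
      rfl
    rw [← h2]
    exact Nat.le_of_dvd (Nat.pos_of_ne_zero Subgroup.index_ne_zero_of_finite) (Subgroup.index_dvd_of_le hφQ)
  by_contra hne
  exact (Subgroup.index_strictAnti (lt_of_le_not_ge hL'Q hne)).not_ge h1

theorem result {G : Type*} [Group G] [Finite G] {p : ℕ} [Fact p.Prime] (P : Sylow p G) (Q : Subgroup G) (hQ : Cfsg.IsWeaklyClosed Q (P : Subgroup G)) (h : ∀ u ∈ (P : Subgroup G), ∀ z ∈ Q, (fun y : G => y⁻¹ * z⁻¹ * y * z)^[p - 1] u = 1) : Cfsg.pResidualOf p (Subgroup.normalizer (Q : Set G)) = Cfsg.pResidual p G ⊓ Subgroup.normalizer (Q : Set G) := by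
  set H := Subgroup.normalizer (Q : Set G) with hH
  have hPH : (P : Subgroup G) ≤ H := by
    intro x hx
    have hle : Q.map (MulAut.conj x).toMonoidHom ≤ (P : Subgroup G) := by
      rintro _ ⟨y, hy, rfl⟩
      exact (P : Subgroup G).mul_mem ((P : Subgroup G).mul_mem hx (hQ.1 hy)) ((P : Subgroup G).inv_mem hx)
    have heq := hQ.2 x hle
    refine Subgroup.mem_normalizer_iff.2 fun y => ⟨fun hy => heq.le ⟨y, hy, rfl⟩, fun hy => ?_⟩
    obtain ⟨w, hw, hwy⟩ := heq.ge hy
    exact (MulAut.conj x).injective hwy ▸ hw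
  have htate := tate P hPH (extend_hom P Q hQ h hPH hH)
  refine le_antisymm (le_inf ?_ ?_) ?_
  · exact PBasic.map_pResidual_le H.subtype
  · exact Subgroup.map_subtype_le _
  · rintro x ⟨hxK, hxH⟩
    haveI hRn : (Cfsg.pResidual p H).Normal :=
      haveI := PBasic.pResidual_characteristic p H; inferInstance
    have hh : (⟨x, hxH⟩ : H) ∈ ((P.subtype hPH : Subgroup H) ⊔ Cfsg.pResidual p H : Subgroup H) := by
      rw [PBasic.sylow_sup_pResidual]; trivial
    rw [← SetLike.mem_coe, Subgroup.mul_normal] at hh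
    obtain ⟨a, ha, w, hw, haw⟩ := Set.mem_mul.1 hh
    have hwR : (w : G) ∈ Cfsg.pResidualOf p H := Subgroup.mem_map_of_mem _ hw
    have hwK : (w : G) ∈ Cfsg.pResidual p G := PBasic.map_pResidual_le H.subtype hwR
    have hax : (a : G) * w = x := congrArg Subtype.val haw
    have haK : (a : G) ∈ Cfsg.pResidual p G := by
      rw [eq_mul_inv_of_mul_eq hax]
      exact Subgroup.mul_mem _ hxK (Subgroup.inv_mem _ hwK)
    have haR := Subgroup.mem_subgroupOf.1 (htate (Subgroup.mem_subgroupOf.2 haK : (⟨(a : G), ha⟩ : (P : Subgroup G)) ∈ _))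
    rw [← hax]
    exact Subgroup.mul_mem _ haR hwR

end Cfsg.Agent.S4215
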