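import Cfsg.Statements.S4216
import Cfsg.Agent.Lib.FiniteGroup.GrunFirst
import Mathlib.GroupTheory.QuotientGroup.Basic

set_option autoImplicit false
open Cfsg

namespace Cfsg.Agent.S4216

/-- Grün's first theorem. -/
theorem result {G : Type*} [Group G] [Finite G] {p : ℕ} [Fact p.Prime] (P : Sylow p G) : (P : Subgroup G) ⊓ commutator G = ((P : Subgroup G) ⊓ ⁅Subgroup.normalizer ((P : Subgroup G) : Set G), Subgroup.normalizer ((P : Subgroup G) : Set G)⁆) ⊔ ⨆ z : G, (P : Subgroup G) ⊓ (⁅(P : Subgroup G), (P : Subgroup G)⁆).map (MulAut.conj z).toMonoidHom := by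
  apply le_antisymm
  swap
  · refine sup_le (inf_le_inf_left _ (Subgroup.commutator_mono le_top le_top)) (iSup_le fun z => inf_le_inf_left _ ?_)
    rintro _ ⟨y, hy, rfl⟩
    exact (inferInstance : (commutator G).Normal).conj_mem y (Subgroup.commutator_mono le_top le_top hy) z
  set M := (P : Subgroup G) with hM
  set D := (M ⊓ ⁅Subgroup.normalizer (M : Set G), Subgroup.normalizer (M : Set G)⁆) ⊔
    ⨆ z : G, M ⊓ (⁅M, M⁆).map (MulAut.conj z).toMonoidHom with hD
  let K : Subgroup (Abelianization ↥M) := (D.subgroupOf M).map Abelianization.of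
  let θ : ↥M →* Abelianization ↥M ⧸ K := (QuotientGroup.mk' K).comp Abelianization.of
  have hθ : ∀ x : ↥M, θ x = 1 ↔ (x : G) ∈ D := by
    intro x
    refine ⟨fun hx => ?_, fun hx => (QuotientGroup.eq_one_iff _).2 (Subgroup.mem_map_of_mem _ hx)⟩
    obtain ⟨d, hd, hdx⟩ := (QuotientGroup.eq_one_iff _).1 hx
    have h1 : d⁻¹ * x ∈ (Abelianization.of (G := ↥M)).ker := by
      rw [MonoidHom.mem_ker, map_mul, map_inv, hdx, inv_mul_cancel]
    rw [Abelianization.ker_of] at h1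
    have h2 : ((d⁻¹ * x : ↥M) : G) ∈ ⁅M, M⁆ := by
      rw [← Subgroup.map_subtype_commutator]
      exact Subgroup.mem_map_of_mem M.subtype h1
    have h3 : ((d⁻¹ * x : ↥M) : G) ∈ D := by
      refine Subgroup.mem_sup_right (Subgroup.mem_iSup_of_mem (1 : G) (Subgroup.mem_inf.2 ⟨SetLike.coe_mem _, ?_⟩))
      exact ⟨_, h2, by simp⟩
    have h4 : (x : G) = (d : G) * ((d⁻¹ * x : ↥M) : G) := by simp
    rw [h4]
    exact D.mul_mem hd h3
  intro x hx
  refine (hθ ⟨x, hx.1⟩).1 (Cfsg.Agent.GrunFirst.eq_one_of_mem_commutator P θ ?_ ?_ ⟨x, hx.1⟩ hx.2)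
  · intro z y hy
    exact (hθ y).2 (Subgroup.mem_sup_right (Subgroup.mem_iSup_of_mem z (Subgroup.mem_inf.2 ⟨y.2, hy⟩)))
  · intro y hy
    exact (hθ y).2 (Subgroup.mem_sup_left (Subgroup.mem_inf.2 ⟨y.2, hy⟩))

end Cfsg.Agent.S4216
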