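import Cfsg.Statements.S4217
import Cfsg.Agent.Lib.Solvable.Gaschutz

set_option autoImplicit false
open Cfsg
open scoped Pointwise

namespace Cfsg.Agent.S4217

universe u

/-- Gaschütz: an abelian normal subgroup complemented in a subgroup of index prime to `p`, for
every prime `p`, is complemented. -/
theorem exists_complement_of_local {G : Type u} [Group G] [Finite G] (A : Subgroup G) [A.Normal]
    (hA : IsMulCommutative A)
    (h : ∀ p : ℕ, p.Prime → ∃ U K : Subgroup G, A ≤ U ∧ ¬ p ∣ U.index ∧ K ⊓ A = ⊥ ∧ K ⊔ A = U) :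
    ∃ K : Subgroup G, K.IsComplement' A := by
  suffices H : ∀ n : ℕ, ∀ (G : Type u) [Group G] [Finite G] (A : Subgroup G) [A.Normal],
      IsMulCommutative A → Nat.card A = n →
      (∀ p : ℕ, p.Prime → ∃ U K : Subgroup G, A ≤ U ∧ ¬ p ∣ U.index ∧ K ⊓ A = ⊥ ∧ K ⊔ A = U) →
      ∃ K : Subgroup G, K.IsComplement' A from H _ G A hA rfl h
  clear! G
  intro n
  induction n using Nat.strong_induction_on with
  | _ n ih =>
    intro G _ _ A _ hA hn h
    classical
    by_cases hn1 : n = 1
    · have hA1 : A = ⊥ := Subgroup.card_eq_one.1 (hn.trans hn1)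
      exact ⟨⊤, hA1 ▸ Subgroup.isComplement'_top_bot⟩
    obtain ⟨p, hp, hpn⟩ := Nat.exists_prime_and_dvd hn1
    have hcomm : ∀ a ∈ A, ∀ b ∈ A, a * b = b * a := fun a ha b hb =>
      congrArg Subtype.val (hA.is_comm.comm ⟨a, ha⟩ ⟨b, hb⟩)
    have hn0 : n ≠ 0 := hn ▸ Nat.card_pos.ne'
    set c := p ^ n.factorization p with hc
    set m := n / c with hm
    have hcm : c * m = n := Nat.ordProj_mul_ordCompl_eq_self n p
    have hcop : c.Coprime m := by
      rw [hm, hc]
      exact Nat.Coprime.pow_left _ (Nat.coprime_ordCompl hp hn0)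
    -- the two parts of `A`
    have hpart : ∀ k : ℕ, ∃ B : Subgroup G, B.Normal ∧ ∀ a, a ∈ B ↔ a ∈ A ∧ a ^ k = 1 := by
      intro k
      refine ⟨{ carrier := {a | a ∈ A ∧ a ^ k = 1}, one_mem' := ⟨one_mem _, one_pow _⟩
                mul_mem' := ?_, inv_mem' := ?_ }, ⟨?_⟩, fun a => Iff.rfl⟩
      · rintro a b ⟨ha, ha'⟩ ⟨hb, hb'⟩
        refine ⟨mul_mem ha hb, ?_⟩
        rw [(show Commute a b from hcomm a ha b hb).mul_pow, ha', hb', one_mul]
      · rintro a ⟨ha, ha'⟩
        exact ⟨inv_mem ha, by rw [inv_pow, ha', inv_one]⟩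
      · rintro a ⟨ha, ha'⟩ g
        exact ⟨(inferInstance : A.Normal).conj_mem a ha g, by rw [conj_pow, ha', mul_one, mul_inv_cancel]⟩
    obtain ⟨B, hBn, hBmem⟩ := hpart m
    obtain ⟨Q, hQn, hQmem⟩ := hpart c
    haveI := hBn
    haveI := hQn
    have hQB : ∀ x, x ∈ Q → x ∈ B → x = 1 := fun x hxQ hxB => by
      rw [← orderOf_eq_one_iff]
      exact Nat.eq_one_of_dvd_coprimes hcop (orderOf_dvd_of_pow_eq_one ((hQmem x).1 hxQ).2)
        (orderOf_dvd_of_pow_eq_one ((hBmem x).1 hxB).2)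
    have hBA : B ≤ A := fun x hx => ((hBmem x).1 hx).1
    have hQA : Q ≤ A := fun x hx => ((hQmem x).1 hx).1
    have hpowA : ∀ a ∈ A, a ^ n = 1 := fun a ha =>
      orderOf_dvd_iff_pow_eq_one.1 (hn ▸ Subgroup.orderOf_dvd_natCard A ha)
    have hsplit : ∀ a ∈ A, ∃ q ∈ Q, ∃ b ∈ B, q * b = a := by
      intro a ha
      have hbez : (1 : ℤ) = (c : ℤ) * c.gcdA m + (m : ℤ) * c.gcdB m := by
        rw [← Nat.gcd_eq_gcd_ab, hcop]; rfl
      refine ⟨a ^ ((m : ℤ) * c.gcdB m), (hQmem _).2 ⟨zpow_mem ha _, ?_⟩,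
        a ^ ((c : ℤ) * c.gcdA m), (hBmem _).2 ⟨zpow_mem ha _, ?_⟩, ?_⟩
      · rw [← zpow_natCast, ← zpow_mul, show (m : ℤ) * c.gcdB m * c = ((c * m : ℕ) : ℤ) * c.gcdB m by
          push_cast; ring, zpow_mul, zpow_natCast, hcm, hpowA a ha, one_zpow]
      · rw [← zpow_natCast, ← zpow_mul, show (c : ℤ) * c.gcdA m * m = ((c * m : ℕ) : ℤ) * c.gcdA m by
          push_cast; ring, zpow_mul, zpow_natCast, hcm, hpowA a ha, one_zpow]
      · rw [← zpow_add, add_comm, ← hbez, zpow_one]
    have hBlt : Nat.card B < n := by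
      refine lt_of_le_of_ne (hn ▸ Nat.le_of_dvd Nat.card_pos (Subgroup.card_dvd_of_le hBA)) fun e => ?_
      haveI : Fact p.Prime := ⟨hp⟩
      obtain ⟨x, hx⟩ := exists_prime_orderOf_dvd_card' (G := A) p (hn ▸ hpn)
      have hxB : (x : G) ∈ B := by
        rw [Subgroup.eq_of_le_of_card_ge hBA (hn.trans e.symm).le]; exact x.2
      have hxQ : (x : G) ∈ Q := (hQmem _).2 ⟨x.2, orderOf_dvd_iff_pow_eq_one.1 (by
        rw [Subgroup.orderOf_coe, hx, hc]
        exact dvd_pow_self p (hp.factorization_pos_of_dvd hn0 hpn).ne')⟩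
      have := hQB _ hxQ hxB
      rw [OneMemClass.coe_eq_one] at this
      rw [this, orderOf_one] at hx
      exact hp.one_lt.ne hx
    -- complement modulo `B`
    obtain ⟨U, K, hAU, hUp, hKA, hKU⟩ := h p hp
    set π := QuotientGroup.mk' B with hπdef
    have hπ : Function.Surjective π := QuotientGroup.mk'_surjective B
    haveI : (A.map π).Normal := (inferInstance : A.Normal).map π hπ
    haveI : IsMulCommutative (A.map π) := ⟨⟨fun x y => by
      obtain ⟨_, a, ha, rfl⟩ := x
      obtain ⟨_, b, hb, rfl⟩ := y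
      exact Subtype.ext (by
        show π a * π b = π b * π a
        rw [← map_mul, ← map_mul, hcomm a ha b hb])⟩⟩
    have hcopq : (Nat.card (A.map π)).Coprime (U.map π).index := by
      rw [Subgroup.index_map_eq _ hπ (by rw [hπdef, QuotientGroup.ker_mk']; exact hBA.trans hAU)]
      haveI : Fact p.Prime := ⟨hp⟩
      have hpg : IsPGroup p (A.map π) := by
        rintro ⟨_, a, ha, rfl⟩
        obtain ⟨q, hq, b, hb, rfl⟩ := hsplit a ha
        refine ⟨n.factorization p, Subtype.ext ?_⟩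
        show π (q * b) ^ c = 1
        rw [map_mul, show π b = 1 from (QuotientGroup.eq_one_iff b).2 hb, mul_one, ← map_pow,
          ((hQmem q).1 hq).2, map_one]
      obtain ⟨k, hk⟩ := IsPGroup.iff_card.1 hpg
      rw [hk]
      exact Nat.Coprime.pow_left k ((Nat.Prime.coprime_iff_not_dvd hp).2 hUp)
    have hKq : K.map π ⊓ A.map π = ⊥ := by
      rw [Subgroup.eq_bot_iff_forall]
      rintro _ ⟨⟨k, hk, rfl⟩, a, ha, he⟩
      have h1 : k ∈ A := by
        have h2 : a⁻¹ * k ∈ B := QuotientGroup.eq.1 he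
        have := mul_mem ha (hBA h2)
        rwa [mul_inv_cancel_left] at this
      have : k = 1 := (Subgroup.eq_bot_iff_forall _).1 hKA k ⟨hk, h1⟩
      rw [this, map_one]
    obtain ⟨H', hH'⟩ := Cfsg.Agent.SolvGaschutz.existence (K := A.map π) (U := U.map π)
      (Subgroup.map_mono hAU) hcopq (A := K.map π) (Subgroup.map_mono (hKU ▸ le_sup_left)) hKq
      (by rw [← Subgroup.map_sup, sup_comm, hKU])
    set H1 := H'.comap π with hH1
    have hBH1 : B ≤ H1 := fun b hb => by
      rw [hH1, Subgroup.mem_comap, show π b = 1 from (QuotientGroup.eq_one_iff b).2 hb]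
      exact one_mem _
    have hinf : ∀ x, x ∈ H1 → x ∈ A → x ∈ B := fun x hx hxA =>
      (QuotientGroup.eq_one_iff x).1
        ((Subgroup.eq_bot_iff_forall _).1 hH'.disjoint.eq_bot _ ⟨⟨x, hxA, rfl⟩, hx⟩)
    have hgen : ∀ g, ∃ a ∈ A, ∃ x ∈ H1, a * x = g := by
      intro g
      obtain ⟨⟨⟨_, a, ha, rfl⟩, x⟩, hx⟩ := hH'.2 (π g)
      refine ⟨a, ha, a⁻¹ * g, ?_, mul_inv_cancel_left a g⟩
      rw [hH1, Subgroup.mem_comap, map_mul, map_inv, ← hx]
      show (π a)⁻¹ * (π a * (x : G ⧸ B)) ∈ H'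
      rw [inv_mul_cancel_left]
      exact x.2
    haveI : IsMulCommutative (B.subgroupOf H1) := ⟨⟨fun x y => Subtype.ext (Subtype.ext
      (hcomm _ (hBA x.2) _ (hBA y.2)))⟩⟩
    obtain ⟨K₁, hK₁⟩ := ih (Nat.card B) hBlt H1 (B.subgroupOf H1) inferInstance
      (Nat.card_congr (Subgroup.subgroupOfEquivOfLe hBH1).toEquiv) (fun q hq => by
        obtain ⟨V, L, hAV, hVq, hLA, hLV⟩ := h q hq
        refine ⟨V.subgroupOf H1, ((L ⊔ Q).subgroupOf H1), fun x hx => hAV (hBA hx), ?_, ?_, ?_⟩
        · set f : H1 →* G ⧸ A := (QuotientGroup.mk' A).comp H1.subtype with hf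
          have hfs : Function.Surjective f := by
            intro y
            obtain ⟨g, rfl⟩ := QuotientGroup.mk'_surjective A y
            obtain ⟨a, ha, x, hx, rfl⟩ := hgen g
            refine ⟨⟨x, hx⟩, ?_⟩
            show QuotientGroup.mk' A x = QuotientGroup.mk' A (a * x)
            rw [map_mul, show QuotientGroup.mk' A a = 1 from (QuotientGroup.eq_one_iff a).2 ha, one_mul]
          have e : V.subgroupOf H1 = (V.map (QuotientGroup.mk' A)).comap f := by
            rw [hf, ← Subgroup.comap_comap, Subgroup.comap_map_eq_self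
              (by rw [QuotientGroup.ker_mk']; exact hAV)]
            rfl
          rw [e, Subgroup.index_comap_of_surjective _ hfs,
            Subgroup.index_map_eq _ (QuotientGroup.mk'_surjective A) (by rw [QuotientGroup.ker_mk']; exact hAV)]
          exact hVq
        · rw [Subgroup.eq_bot_iff_forall]
          rintro ⟨x, hx⟩ ⟨hxLQ, hxB0⟩
          have hxB : x ∈ B := hxB0
          have hm' : x ∈ (↑(L ⊔ Q) : Set G) := hxLQ
          rw [Subgroup.mul_normal] at hm'
          obtain ⟨l, hl, r, hr, he⟩ := hm'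
          have he' : l * r = x := he
          have hlA : l ∈ A := by
            have := mul_mem (hBA hxB) (inv_mem (hQA hr))
            rwa [← he', mul_inv_cancel_right] at this
          have hl1 : l = 1 := (Subgroup.eq_bot_iff_forall _).1 hLA l ⟨hl, hlA⟩
          rw [hl1, one_mul] at he'
          exact Subtype.ext (hQB x (he' ▸ hr) hxB)
        · refine le_antisymm ?_ ?_
          · refine sup_le ?_ fun x hx => hAV (hBA hx)
            intro x hx
            exact sup_le (hLV ▸ le_sup_left) (hQA.trans hAV) hx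
          · rintro ⟨x, hx⟩ hxV
            have hm' : x ∈ (↑(L ⊔ A) : Set G) := by rw [hLV]; exact hxV
            rw [Subgroup.mul_normal] at hm'
            obtain ⟨l, hl, a, ha, he⟩ := hm'
            have he' : l * a = x := he
            obtain ⟨r, hr, b, hb, rfl⟩ := hsplit a ha
            have hlr : l * r ∈ H1 := by
              have := mul_mem hx (inv_mem (hBH1 hb))
              rwa [← he', ← mul_assoc, mul_inv_cancel_right] at this
            have e : (⟨x, hx⟩ : H1) = ⟨l * r, hlr⟩ * ⟨b, hBH1 hb⟩ := Subtype.ext (by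
              show x = l * r * b
              rw [← he', mul_assoc])
            rw [e]
            exact Subgroup.mul_mem_sup (Subgroup.mul_mem_sup hl hr) hb)
    refine ⟨K₁.map H1.subtype, Subgroup.isComplement'_of_disjoint_and_mul_eq_univ ?_ ?_⟩
    · rw [disjoint_iff, Subgroup.eq_bot_iff_forall]
      rintro _ ⟨⟨x, hx, rfl⟩, hxA⟩
      exact congrArg Subtype.val ((Subgroup.eq_bot_iff_forall _).1 hK₁.disjoint.eq_bot x
        ⟨hx, hinf _ x.2 hxA⟩)
    · refine Set.eq_univ_of_forall fun g => ?_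
      obtain ⟨a, ha, x, hx, rfl⟩ := hgen g
      obtain ⟨⟨k, b⟩, hkb⟩ := hK₁.2 ⟨x, hx⟩
      have hkb' : ((k : H1) : G) * ((b : H1) : G) = x := congrArg Subtype.val hkb
      refine ⟨((k : H1) : G), ⟨(k : H1), k.2, rfl⟩, ((k : H1) : G)⁻¹ * a * ((k : H1) : G) * ((b : H1) : G),
        mul_mem ((inferInstance : A.Normal).conj_mem' a ha _) (hBA b.2), ?_⟩
      show _ * _ = a * x
      rw [← hkb']
      group

/-- Let `A` be an abelian normal subgroup of the finite group `G`. Then `A` has a complement in `G` if and only if, for every prime `p` dividing the index of `A`, there are a Sylow `p`-subgroup `S` of `G/A` and a subgroup `K` of `G` with `K ∩ A = 1` and `KA` equal to the preimage of `S` (that is, `A` has a complement in the preimage of a Sylow `p`-subgroup of `G/A`). -/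
theorem result {G : Type*} [Group G] [Finite G] (A : Subgroup G) [A.Normal] (hA : IsMulCommutative A) : (∃ K : Subgroup G, K.IsComplement' A) ↔ ∀ p : ℕ, p.Prime → p ∣ A.index → ∃ (S : Sylow p (G ⧸ A)) (K : Subgroup G), K ⊓ A = ⊥ ∧ K ⊔ A = (S : Subgroup (G ⧸ A)).comap (QuotientGroup.mk' A) := by
  classical
  have hπ := QuotientGroup.mk'_surjective A
  constructor
  · rintro ⟨K, hK⟩ p hp -
    haveI : Fact p.Prime := ⟨hp⟩
    obtain ⟨S⟩ : Nonempty (Sylow p (G ⧸ A)) := inferInstance
    set U := (S : Subgroup (G ⧸ A)).comap (QuotientGroup.mk' A) with hU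
    have hAU : A ≤ U := fun a ha => by
      rw [hU, Subgroup.mem_comap, QuotientGroup.mk'_apply, (QuotientGroup.eq_one_iff a).2 ha]
      exact one_mem _
    refine ⟨S, K ⊓ U, le_bot_iff.1 ((inf_le_inf_right A inf_le_left).trans hK.disjoint.eq_bot.le), ?_⟩
    refine le_antisymm (sup_le inf_le_right hAU) fun u hu => ?_
    obtain ⟨⟨k, a⟩, hka⟩ := hK.2 u
    have hka' : (k : G) * (a : G) = u := hka
    rw [← hka'] at hu ⊢
    refine Subgroup.mul_mem_sup ⟨k.2, ?_⟩ a.2
    have := mul_mem hu (inv_mem (hAU a.2))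
    rwa [mul_inv_cancel_right] at this
  intro h
  refine exists_complement_of_local A hA fun p hp => ?_
  by_cases hd : p ∣ A.index
  · obtain ⟨S, K, hK1, hK2⟩ := h p hp hd
    haveI : Fact p.Prime := ⟨hp⟩
    refine ⟨_, K, hK2 ▸ le_sup_right, ?_, hK1, hK2⟩
    rw [Subgroup.index_comap_of_surjective _ hπ]
    exact S.not_dvd_index
  · exact ⟨A, ⊥, le_rfl, hd, bot_inf_eq _, bot_sup_eq _⟩

end Cfsg.Agent.S4217
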