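import Cfsg.Statements.S4218
import Cfsg.Agent.Lib.Solvable.HHReduce
import Cfsg.Agent.Lib.Transfer.Basic
import Cfsg.Agent.Lib.PLocal.PSolvable

set_option autoImplicit false
open Cfsg

namespace Cfsg.Agent.S4218

/-- Let `G` be a finite `p`-solvable group, `N₀ = O_{p'}(G)`, `P₁ = O_{p',p}(G)`, and let `F ≤ P₁` be the preimage of the Frattini subgroup of `P₁/N₀`. Then an element `g` of `G` induces the identity on `P₁/F` by conjugation (that is, `g x g⁻¹ x⁻¹ ∈ F` for all `x ∈ P₁`) if and only if `g ∈ P₁`: the group `G/P₁` acts faithfully on `P₁/F`. -/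
theorem result {G : Type*} [Group G] [Finite G] {p : ℕ} [Fact p.Prime] (hG : Cfsg.IsPSolvable p G) (g : G) : (∀ x ∈ Cfsg.pPrimePCore p G, g * x * g⁻¹ * x⁻¹ ∈ ((frattini (↥(Cfsg.pPrimePCore p G) ⧸ (Cfsg.pPrimeCore p G).subgroupOf (Cfsg.pPrimePCore p G))).comap (QuotientGroup.mk' ((Cfsg.pPrimeCore p G).subgroupOf (Cfsg.pPrimePCore p G)))).map (Cfsg.pPrimePCore p G).subtype) ↔ g ∈ Cfsg.pPrimePCore p G := by
  set N₀ := Cfsg.pPrimeCore p G with hN₀
  have hn : N₀.Normal := FittingCores.pPrimeCore_normal p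
  set f := QuotientGroup.mk' N₀ with hf
  have hfs : Function.Surjective f := QuotientGroup.mk'_surjective N₀
  set R := Cfsg.pCore p (G ⧸ N₀) with hR
  let φ : Cfsg.pPrimePCore p G →* R := (f.comp (Cfsg.pPrimePCore p G).subtype).codRestrict R fun x => x.2
  have hφs : Function.Surjective φ := fun r => by
    obtain ⟨x, hx⟩ := hfs r
    exact ⟨⟨x, by change f x ∈ R; rw [hx]; exact r.2⟩, Subtype.ext hx⟩
  have hker : N₀.subgroupOf (Cfsg.pPrimePCore p G) = φ.ker := by
    ext x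
    rw [MonoidHom.mem_ker, Subgroup.mem_subgroupOf, Subtype.ext_iff]
    exact (QuotientGroup.eq_one_iff (x : G)).symm
  -- membership in `F`
  have hmem : ∀ y : G, (y ∈ ((frattini (↥(Cfsg.pPrimePCore p G) ⧸
      N₀.subgroupOf (Cfsg.pPrimePCore p G))).comap (QuotientGroup.mk'
        (N₀.subgroupOf (Cfsg.pPrimePCore p G)))).map (Cfsg.pPrimePCore p G).subtype) ↔
      (y ∈ Cfsg.pPrimePCore p G ∧ f y ∈ HHReduce.Phi p (G ⧸ N₀)) := by
    intro y
    let e : ↥(Cfsg.pPrimePCore p G) ⧸ N₀.subgroupOf (Cfsg.pPrimePCore p G) ≃* R :=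
      (QuotientGroup.quotientMulEquivOfEq hker).trans (QuotientGroup.quotientKerEquivOfSurjective φ hφs)
    have he : ∀ x, e (QuotientGroup.mk x) = φ x := fun x => rfl
    constructor
    · rintro ⟨x, hx, rfl⟩
      refine ⟨x.2, ⟨φ x, ?_, rfl⟩⟩
      rw [← he]
      exact frattini_le_comap_frattini_of_surjective (φ := e.toMonoidHom) e.surjective hx
    · rintro ⟨hy, r, hr, hry⟩
      refine ⟨⟨y, hy⟩, ?_, rfl⟩
      have hr' : φ ⟨y, hy⟩ = r := Subtype.ext hry.symm
      rw [← hr', ← he] at hr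
      have := frattini_le_comap_frattini_of_surjective (φ := e.symm.toMonoidHom) e.symm.surjective hr
      simpa using this
  have hsol : Cfsg.IsPSolvable p (G ⧸ N₀) := PSolvable.quotient N₀ hG
  have hO := PBasic.pPrimeCore_quotient_pPrimeCore p G
  have hP : (Cfsg.pPrimePCore p G).Normal := (FittingCores.pCore_normal p).comap f
  constructor
  · intro h
    change f g ∈ R
    rw [hR, ← HHReduce.comap_V (G := G ⧸ N₀) (p := p), Subgroup.mem_comap]
    refine HHReduce.centralizer_V_le hsol hO (Subgroup.mem_centralizer_iff.2 ?_)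
    rintro _ ⟨r, hr, rfl⟩
    obtain ⟨x, rfl⟩ := hfs r
    have h1 := ((hmem _).1 (h x hr)).2
    rw [map_mul, map_mul, map_mul, map_inv, map_inv, ← QuotientGroup.eq_one_iff] at h1
    simp only [QuotientGroup.mk'_apply, QuotientGroup.mk_mul, QuotientGroup.mk_inv] at h1 ⊢
    rw [mul_inv_eq_one, mul_inv_eq_iff_eq_mul] at h1
    exact h1.symm
  · intro hg x hx
    refine (hmem _).2 ⟨Subgroup.mul_mem _ (hP.conj_mem x hx g) (inv_mem hx), ?_⟩
    rw [← QuotientGroup.eq_one_iff, map_mul, map_mul, map_mul, map_inv, map_inv]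
    have := (HHReduce.V_isElementaryAbelian (p := p) (G := G ⧸ N₀)).1
    have h2 := setLike_mul_comm (s := HHReduce.V p (G ⧸ N₀))
      (Subgroup.mem_map_of_mem (QuotientGroup.mk' _) hg) (Subgroup.mem_map_of_mem (QuotientGroup.mk' _) hx)
    change (f g : (G ⧸ N₀) ⧸ HHReduce.Phi p (G ⧸ N₀)) * f x = f x * f g at h2
    simp only [QuotientGroup.mk_mul, QuotientGroup.mk_inv]
    rw [h2]
    group

end Cfsg.Agent.S4218
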