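import Cfsg.Statements.S4219


set_option autoImplicit false
open Cfsg

namespace Cfsg.Agent.S4219

/-- Let a finite group `G` act `t`-fold transitively on a finite set, let `H` be the stabilizer of `t` distinct points and `P` a Sylow `p`-subgroup of `H`. Then the normalizer of `P` in `G` is `t`-fold transitive on the fixed points of `P`: any `t` distinct fixed points of `P` can be carried to any other `t` distinct fixed points of `P` by an element normalizing `P`. -/
theorem result {G : Type*} [Group G] [Finite G] {α : Type*} [Fintype α] [MulAction G α] {t : ℕ} (hG : MulAction.IsMultiplyPretransitive G α t) (x : Fin t ↪ α) {p : ℕ} [Fact p.Prime] (P : Sylow p (MulAction.stabilizer G x)) (a b : Fin t ↪ α) (ha : ∀ i, a i ∈ MulAction.fixedPoints ((P : Subgroup (MulAction.stabilizer G x)).map (MulAction.stabilizer G x).subtype) α) (hb : ∀ i, b i ∈ MulAction.fixedPoints ((P : Subgroup (MulAction.stabilizer G x)).map (MulAction.stabilizer G x).subtype) α) : ∃ g ∈ Subgroup.normalizer ((((P : Subgroup (MulAction.stabilizer G x)).map (MulAction.stabilizer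 G x).subtype) : Subgroup G) : Set G), g • a = b := by
  classical
  set P' := (P : Subgroup (MulAction.stabilizer G x)).map (MulAction.stabilizer G x).subtype with hP'
  have hfix : ∀ c : Fin t ↪ α, (∀ i, c i ∈ MulAction.fixedPoints P' α) → P' ≤ MulAction.stabilizer G c := by
    intro c hc g hg
    rw [MulAction.mem_stabilizer_iff]
    exact DFunLike.ext _ _ fun i => hc i ⟨g, hg⟩
  have hPa := hfix a ha
  have hPb := hfix b hb
  obtain ⟨g, hg⟩ := hG.exists_smul_eq a b
  set T := MulAction.stabilizer G b with hT
  -- `P'` is a Sylow subgroup of the stabilizer of `b`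
  have hcard : Nat.card T = Nat.card (MulAction.stabilizer G x) := by
    obtain ⟨k, hk⟩ := hG.exists_smul_eq x b
    rw [hT, ← hk, MulAction.stabilizer_smul_eq_stabilizer_map_conj]
    exact Subgroup.card_map_of_injective (MulAut.conj k).injective
  have hcP : Nat.card P' = p ^ (Nat.card T).factorization p := by
    rw [hP', Subgroup.card_map_of_injective (Subgroup.subtype_injective _), hcard]
    exact P.card_eq_multiplicity
  set R := P'.map (MulAut.conj g).toMonoidHom with hR
  have hRT : R ≤ T := by
    rw [hT, ← hg, MulAction.stabilizer_smul_eq_stabilizer_map_conj]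
    exact Subgroup.map_mono hPa
  have hcR : Nat.card R = p ^ (Nat.card T).factorization p := by
    rw [hR, Subgroup.card_map_of_injective (MulAut.conj g).injective, hcP]
  have hc1 : Nat.card (P'.subgroupOf T) = p ^ (Nat.card T).factorization p := by
    rw [Nat.card_congr (Subgroup.subgroupOfEquivOfLe hPb).toEquiv, hcP]
  have hc2 : Nat.card (R.subgroupOf T) = p ^ (Nat.card T).factorization p := by
    rw [Nat.card_congr (Subgroup.subgroupOfEquivOfLe hRT).toEquiv, hcR]
  obtain ⟨k, hk⟩ := MulAction.exists_smul_eq T (Sylow.ofCard (R.subgroupOf T) hc2) (Sylow.ofCard (P'.subgroupOf T) hc1)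
  have hkR : R.map (MulAut.conj (k : G)).toMonoidHom = P' := by
    have h := congrArg (fun Q : Sylow p T => (Q : Subgroup T).map T.subtype) hk
    simp only [Sylow.coe_subgroup_smul, Sylow.coe_ofCard] at h
    rw [Subgroup.map_subgroupOf_eq_of_le hPb] at h
    refine Eq.trans ?_ h
    ext y
    simp only [Subgroup.mem_map, MulEquiv.coe_toMonoidHom, MulAut.conj_apply]
    constructor
    · rintro ⟨r, hr, rfl⟩
      exact ⟨k * ⟨r, hRT hr⟩ * k⁻¹, ⟨⟨r, hRT hr⟩, hr, rfl⟩, rfl⟩
    · rintro ⟨_, ⟨r, hr, rfl⟩, rfl⟩
      exact ⟨r, hr, rfl⟩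
  refine ⟨(k : G) * g, ?_, ?_⟩
  · have e : P'.map (MulAut.conj ((k : G) * g)).toMonoidHom = P' := by
      have hc : (MulAut.conj ((k : G) * g)).toMonoidHom =
          (MulAut.conj (k : G)).toMonoidHom.comp (MulAut.conj g).toMonoidHom := by
        ext z; simp [mul_assoc]
      rw [hc, ← Subgroup.map_map]
      exact hkR
    rw [Subgroup.mem_normalizer_iff]
    intro z
    constructor
    · intro hz
      rw [← e]
      exact ⟨z, hz, rfl⟩
    · intro hz
      rw [← e] at hz
      obtain ⟨w, hw, hw'⟩ := hz
      have : w = z := (MulAut.conj ((k : G) * g)).injective hw'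
      exact this ▸ hw
  · rw [mul_smul, hg]
    exact MulAction.mem_stabilizer_iff.1 k.2

end Cfsg.Agent.S4219
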