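import Cfsg.Statements.S4221
import Cfsg.Agent.Lib.FourTrans.Final

set_option autoImplicit false
open Cfsg

namespace Cfsg.Agent.S4221

/-- Let `G` be a `4`-fold transitive permutation group on a finite set of `n` points in which the pointwise stabilizer of some four distinct points has odd order. Then `n = 4` or `n = 5` with `G` the full symmetric group, or `n = 6` or `n = 7` with `G` the alternating group, or `n = 11` and `G` has order `7920`. -/
theorem result {α : Type*} [Fintype α] [DecidableEq α] (G : Subgroup (Equiv.Perm α)) (hG : MulAction.IsMultiplyPretransitive G α 4) (x : Fin 4 ↪ α) (hodd : Odd (Nat.card (MulAction.stabilizer G x))) : ((Fintype.card α = 4 ∨ Fintype.card α = 5) ∧ G = ⊤) ∨ ((Fintype.card α = 6 ∨ Fintype.card α = 7) ∧ G = alternatingGroup α) ∨ (Fintype.card α = 11 ∧ Nat.card G = 7920) := by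
  classical
  have htrans : MulAction.IsPretransitive G (Fin 4 ↪ α) := hG
  have hn4 : 4 ≤ Fintype.card α := by
    simpa using Fintype.card_le_of_embedding x
  set H := MulAction.stabilizer G x with hH
  have D : Cfsg.Agent.FourTrans.Data G (Nat.card H) := by
    refine ⟨fun t t' => ?_, hodd, fun t g hg hfix => ?_⟩
    · obtain ⟨k, hk⟩ := htrans.exists_smul_eq t t'
      exact ⟨k, k.2, fun i => by rw [← hk]; rfl⟩
    · obtain ⟨k, hk⟩ := htrans.exists_smul_eq x t
      have hki : ∀ i, (k : Equiv.Perm α) (x i) = t i := fun i =>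
        congrArg (fun u : Fin 4 ↪ α => u i) hk
      have hmem : k⁻¹ * ⟨g, hg⟩ * k ∈ H := by
        rw [hH, MulAction.mem_stabilizer_iff]
        refine Function.Embedding.ext fun i => ?_
        show (k : Equiv.Perm α)⁻¹ (g ((k : Equiv.Perm α) (x i))) = x i
        rw [hki, hfix, Equiv.Perm.inv_eq_iff_eq, hki]
      have h1 : (⟨_, hmem⟩ : H) ^ Nat.card H = 1 := pow_card_eq_one'
      have h2 : (k⁻¹ * ⟨g, hg⟩ * k) ^ Nat.card H = 1 := congrArg Subtype.val h1
      have h3 : (⟨g, hg⟩ : G) ^ Nat.card H = 1 := by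
        have := conj_pow (a := k) (b := k⁻¹ * ⟨g, hg⟩ * k) (i := Nat.card H)
        rw [h2, mul_one, mul_inv_cancel] at this
        simpa [mul_assoc] using this
      exact congrArg Subtype.val h3
  have hcard : Nat.card G = Nat.card H * (Fintype.card α).descFactorial 4 := by
    have hidx : H.index = Nat.card (Fin 4 ↪ α) := by
      rw [hH, MulAction.index_stabilizer, ← Set.ncard_univ]
      congr 1
      refine Set.eq_univ_of_forall fun t => ?_
      obtain ⟨k, hk⟩ := htrans.exists_smul_eq x t
      exact ⟨k, hk⟩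
    rw [← H.card_mul_index, hidx, Nat.card_eq_fintype_card (α := Fin 4 ↪ α),
      Fintype.card_embedding_eq, Fintype.card_fin]
  rcases (show Fintype.card α = 4 ∨ Fintype.card α = 5 ∨ (Fintype.card α = 6 ∨ Fintype.card α = 7) ∨
      8 ≤ Fintype.card α by omega) with h | h | h | h
  · refine Or.inl ⟨Or.inl h, Subgroup.eq_top_of_le_card _ ?_⟩
    rw [hcard, Nat.card_eq_fintype_card (α := Equiv.Perm α), Fintype.card_perm, h]
    exact Nat.le_mul_of_pos_left _ Nat.card_pos
  · refine Or.inl ⟨Or.inr h, Subgroup.eq_top_of_le_card _ ?_⟩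
    rw [hcard, Nat.card_eq_fintype_card (α := Equiv.Perm α), Fintype.card_perm, h]
    exact Nat.le_mul_of_pos_left _ Nat.card_pos
  · exact Or.inr (Or.inl ⟨h, Cfsg.Agent.FourTrans.eq_alternating D h⟩)
  · obtain ⟨M, -, hMn, hM⟩ := Cfsg.Agent.FourTrans.exists_moved D (by omega) x
    obtain ⟨h11, hM8⟩ := Cfsg.Agent.FourTrans.eleven_of_large D h hM hMn x
    refine Or.inr (Or.inr ⟨h11, ?_⟩)
    have hbot : H = ⊥ := by
      rw [eq_bot_iff]
      intro g hg
      have := Cfsg.Agent.FourTrans.trivial_stabilizer D h11 hM8 hM x g g.2 fun i => by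
        have h1 : g • x = x := hg
        exact congrArg (fun t : Fin 4 ↪ α => t i) h1
      exact Subgroup.mem_bot.2 (Subtype.ext this)
    rw [hcard, hbot, h11, Subgroup.card_bot]
    rfl

end Cfsg.Agent.S4221
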