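import Mathlib

set_option autoImplicit false
set_option linter.style.haveILetI false

namespace Cfsg.Agent.S4223

universe u v

/-- directly indecomposable -/
private def Indec (A : Type u) [Group A] : Prop :=
  Nontrivial A ∧ ∀ H K : Subgroup A, H.Normal → K.Normal → H ⊓ K = ⊥ → H ⊔ K = ⊤ → H = ⊥ ∨ K = ⊥

private def IsNrm {A : Type u} [Group A] (f : A →* A) : Prop :=
  ∀ g x, f (g * x * g⁻¹) = g * f x * g⁻¹

private theorem isNrm_iterate {A : Type u} [Group A] {f : A →* A} (hf : IsNrm f) (n : ℕ) (g x : A) :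
    f^[n] (g * x * g⁻¹) = g * f^[n] x * g⁻¹ := by
  induction n generalizing x with
  | zero => rfl
  | succ n ih => rw [Function.iterate_succ_apply, Function.iterate_succ_apply, hf, ih]

private theorem iterate_one {A : Type u} [Group A] (f : A →* A) (n : ℕ) : f^[n] 1 = 1 := by
  induction n with
  | zero => rfl
  | succ n ih => rw [Function.iterate_succ_apply, map_one, ih]

private theorem iterate_mul {A : Type u} [Group A] (f : A →* A) (n : ℕ) (x y : A) :
    f^[n] (x * y) = f^[n] x * f^[n] y := by
  induction n generalizing x y with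
  | zero => rfl
  | succ n ih => simp only [Function.iterate_succ_apply, map_mul, ih]

/-- Fitting's lemma -/
private theorem bijective_or_nilpotent {A : Type u} [Group A] [Finite A] (hA : Indec A)
    {f : A →* A} (hf : IsNrm f) : Function.Bijective f ∨ ∃ n, ∀ x, f^[n] x = 1 := by
  let F : ℕ → A →* A := fun n => MonoidHom.mk' (f^[n]) (iterate_mul f n)
  have hF : ∀ n x, F n x = f^[n] x := fun _ _ => rfl
  obtain ⟨n, hn, hn1⟩ : ∃ n, (∀ x, f^[2 * n] x = 1 → f^[n] x = 1) ∧ 1 ≤ n := by
    obtain ⟨a, b, hab, heq⟩ := Finite.exists_ne_map_eq_of_infinite (fun n => (F n).ker)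
    wlog hlt : a < b generalizing a b
    · exact this b a hab.symm heq.symm (by omega)
    have step : ∀ x, f^[b] x = 1 → f^[a] x = 1 := fun x hx => by
      have : x ∈ (F b).ker := hx
      rw [← show (F a).ker = (F b).ker from heq] at this
      exact this
    have stab : ∀ m, a ≤ m → ∀ x, f^[m + 1] x = 1 → f^[m] x = 1 := by
      intro m hm x hx
      have h1 : f^[m + 1 - (a + 1)] x ∈ {y | f^[a + 1] y = 1} := by
        show f^[a + 1] (f^[m + 1 - (a + 1)] x) = 1
        rw [← Function.iterate_add_apply, Nat.add_sub_cancel' (by omega)]; exact hx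
      have h2 : f^[b] (f^[m + 1 - (a + 1)] x) = 1 := by
        rw [show b = (b - (a + 1)) + (a + 1) by omega, Function.iterate_add_apply, h1, iterate_one]
      have h3 := step _ h2
      rwa [← Function.iterate_add_apply, show a + (m + 1 - (a + 1)) = m by omega] at h3
    refine ⟨a + 1, fun x hx => ?_, Nat.le_add_left 1 a⟩
    have down : ∀ d, f^[a + 1 + d] x = 1 → f^[a + 1] x = 1 := by
      intro d
      induction d with
      | zero => exact id
      | succ d ih => exact fun h => ih (stab _ (by omega) x h)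
    exact down (a + 1) (by rwa [← two_mul])
  haveI hk : (F n).ker.Normal := inferInstance
  have hr : (F n).range.Normal := ⟨fun y ⟨x, hx⟩ g => ⟨g * x * g⁻¹, by
    rw [hF, isNrm_iterate hf, ← hF, hx]⟩⟩
  have hinf : (F n).ker ⊓ (F n).range = ⊥ := by
    rw [Subgroup.eq_bot_iff_forall]
    rintro y ⟨hy, x, rfl⟩
    have : f^[2 * n] x = 1 := by rw [two_mul, Function.iterate_add_apply]; exact hy
    exact hn x this
  have hsup : (F n).ker ⊔ (F n).range = ⊤ := by
    refine Subgroup.eq_top_of_card_eq _ ?_
    have h1 := Subgroup.card_mul_index (F n).ker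
    rw [Subgroup.index_ker] at h1
    rw [← h1]
    haveI := hr
    have hdisj : Disjoint (F n).ker (F n).range := disjoint_iff.2 hinf
    refine le_antisymm ?_ ?_
    · rw [h1]; exact Subgroup.card_le_card_group _
    · rw [← Nat.card_prod]
      refine Nat.card_le_card_of_injective
        (fun z => (⟨z.1.1 * z.2.1, Subgroup.mul_mem_sup z.1.2 z.2.2⟩ :
          ((F n).ker ⊔ (F n).range : Subgroup A))) ?_
      intro z w hzw
      exact Subgroup.mul_injective_of_disjoint hdisj (congrArg Subtype.val hzw)
  rcases hA.2 _ _ hk hr hinf hsup with h | h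
  · left
    have hinj : Function.Injective f := by
      rw [injective_iff_map_eq_one]
      intro x hx
      have : x ∈ (F n).ker := by
        show f^[n] x = 1
        rw [show n = (n - 1) + 1 by omega, Function.iterate_succ_apply, hx, iterate_one]
      rwa [h, Subgroup.mem_bot] at this
    exact Finite.injective_iff_bijective.1 hinj
  · right
    refine ⟨n, fun x => ?_⟩
    have : F n x ∈ (F n).range := ⟨x, rfl⟩
    rwa [h, Subgroup.mem_bot] at this

private theorem exists_bijective {A : Type u} [Group A] [Finite A] (hA : Indec A) {f g h : A →* A}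
    (hf : IsNrm f) (hg : IsNrm g) (hh : IsNrm h) (hfg : ∀ x, h x = f x * g x)
    (hbij : Function.Bijective h) : Function.Bijective f ∨ Function.Bijective g := by
  by_cases hfb : Function.Bijective f
  · exact Or.inl hfb
  right
  obtain ⟨x, hx, hx1⟩ : ∃ x, f x = 1 ∧ x ≠ 1 := by
    by_contra hne
    push Not at hne
    exact hfb (Finite.injective_iff_bijective.1 ((injective_iff_map_eq_one f).2 hne))
  let e := MulEquiv.ofBijective h hbij
  let g' : A →* A := e.symm.toMonoidHom.comp g
  have hg' : IsNrm g' := by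
    intro a y
    apply e.injective
    show h (e.symm (g (a * y * a⁻¹))) = h (a * e.symm (g y) * a⁻¹)
    rw [hh, hg]
    have hs : ∀ z, h (e.symm z) = z := fun z => e.apply_symm_apply z
    rw [hs, hs]
  have hgx : g' x = x := by
    apply e.injective
    show h (e.symm (g x)) = h x
    rw [show h (e.symm (g x)) = g x from e.apply_symm_apply _, hfg, hx, one_mul]
  rcases bijective_or_nilpotent hA hg' with hb | ⟨n, hn⟩
  · have : ⇑g = ⇑e ∘ ⇑g' := funext fun y => (e.apply_symm_apply (g y)).symm
    rw [this]
    exact e.bijective.comp hb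
  · exact absurd ((Function.iterate_fixed hgx n).symm.trans (hn x)) hx1

variable {m n : ℕ}

open Classical in
/-- the mask on a set of coordinates -/
private noncomputable def mask (B : Fin n → Type v) [∀ j, Group (B j)] (S : Finset (Fin n)) :
    ((j : Fin n) → B j) →* ((j : Fin n) → B j) where
  toFun z j := if j ∈ S then z j else 1
  map_one' := by funext j; by_cases h : j ∈ S <;> simp [h]
  map_mul' z w := by funext j; by_cases h : j ∈ S <;> simp [h]

private theorem step {A : Fin (m + 1) → Type u} {B : Fin n → Type v} [∀ i, Group (A i)]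
    [∀ j, Group (B j)] [∀ i, Finite (A i)] [∀ j, Finite (B j)]
    (hA : Indec (A 0)) (hB : ∀ j, Indec (B j)) (e : ((i : Fin (m + 1)) → A i) ≃* ((j : Fin n) → B j)) :
    ∃ (l : Fin n), Nonempty (A 0 ≃* B l) ∧
      ∀ b : B l, (e.symm (Pi.mulSingle l b)) 0 = 1 → b = 1 := by
  classical
  let ι : A 0 →* (i : Fin (m + 1)) → A i := MonoidHom.mulSingle A 0
  have hιu : ∀ (u : (i : Fin (m + 1)) → A i) (x : A 0),
      ι (u 0 * x * (u 0)⁻¹) = u * ι x * u⁻¹ := by
    intro u x
    funext i
    by_cases hi : i = 0
    · subst hi; simp [ι]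
    · simp [ι, hi]
  let pr : ((i : Fin (m + 1)) → A i) →* A 0 := Pi.evalMonoidHom A 0
  let F : Finset (Fin n) → (A 0 →* A 0) := fun S =>
    ((pr.comp e.symm.toMonoidHom).comp (mask B S)).comp (e.toMonoidHom.comp ι)
  have hmask : ∀ S (u z : (j : Fin n) → B j), mask B S (u * z * u⁻¹) = u * mask B S z * u⁻¹ := by
    intro S u z
    funext j
    show (if j ∈ S then u j * z j * (u j)⁻¹ else 1) = u j * (if j ∈ S then z j else 1) * (u j)⁻¹
    by_cases hj : j ∈ S <;> simp [hj]
  have hF : ∀ S, IsNrm (F S) := by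
    intro S g x
    show (e.symm (mask B S (e (ι (g * x * g⁻¹))))) 0 = g * (e.symm (mask B S (e (ι x)))) 0 * g⁻¹
    rw [map_mul ι, map_mul ι, map_inv, map_mul e, map_mul e, map_inv, hmask, map_mul, map_mul,
      map_inv, e.symm_apply_apply]
    simp [ι]
  have hid : ∀ x, F Finset.univ x = x := by
    intro x
    show (e.symm (mask B Finset.univ (e (ι x)))) 0 = x
    rw [show mask B Finset.univ (e (ι x)) = e (ι x) from funext fun j => if_pos (Finset.mem_univ j),
      e.symm_apply_apply]
    simp [ι]
  obtain ⟨l, hl⟩ : ∃ l, Function.Bijective (F {l}) := by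
    by_contra hno
    push Not at hno
    have key : ∀ S : Finset (Fin n), ¬ Function.Bijective (F S) := by
      intro S
      induction S using Finset.induction_on with
      | empty =>
        intro hb
        haveI := hA.1
        obtain ⟨x, hx⟩ := exists_ne (1 : A 0)
        refine hx (hb.1 ?_)
        have : ∀ y, F ∅ y = 1 := fun y => by
          show (e.symm (mask B ∅ (e (ι y)))) 0 = 1
          have hm : mask B ∅ (e (ι y)) = (1 : (j : Fin n) → B j) :=
            funext fun j => by
              show (if j ∈ (∅ : Finset (Fin n)) then e (ι y) j else 1) = 1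
              exact if_neg (Finset.notMem_empty j)
          rw [hm, map_one]
          rfl
        rw [this, map_one]
      | @insert j S hjS ih =>
        intro hb
        have hsplit : ∀ z, mask B (insert j S) z = mask B {j} z * mask B S z := by
          intro z
          funext i
          show (if i ∈ insert j S then z i else 1) =
            (if i ∈ ({j} : Finset _) then z i else 1) * (if i ∈ S then z i else 1)
          by_cases hij : i = j
          · subst hij; simp [hjS]
          · by_cases hi : i ∈ S <;> simp [hij, hi]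
        rcases exists_bijective hA (hF {j}) (hF S) (hF _) (fun x => by
          show (e.symm (mask B (insert j S) (e (ι x)))) 0 = _
          rw [hsplit, map_mul]; rfl) hb with h | h
        · exact hno j h
        · exact ih h
    exact key Finset.univ
      ⟨fun x y h => by rwa [hid, hid] at h, fun x => ⟨x, hid x⟩⟩
  let β : A 0 →* B l := (Pi.evalMonoidHom B l).comp (e.toMonoidHom.comp ι)
  let α : B l →* A 0 := (pr.comp e.symm.toMonoidHom).comp (MonoidHom.mulSingle B l)
  have hαβ : ∀ x, α (β x) = F {l} x := by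
    intro x
    show (e.symm (Pi.mulSingle l (e (ι x) l))) 0 = (e.symm (mask B {l} (e (ι x)))) 0
    rw [show mask B {l} (e (ι x)) = Pi.mulSingle l (e (ι x) l) from funext fun i => by
      show (if i ∈ ({l} : Finset _) then e (ι x) i else 1) = _
      by_cases hi : i = l
      · subst hi; simp
      · simp [hi]]
  have hβn : β.range.Normal := by
    refine ⟨?_⟩
    rintro _ ⟨x, rfl⟩ b
    refine ⟨(e.symm (Pi.mulSingle l b)) 0 * x * ((e.symm (Pi.mulSingle l b)) 0)⁻¹, ?_⟩
    show e (ι ((e.symm (Pi.mulSingle l b)) 0 * x * ((e.symm (Pi.mulSingle l b)) 0)⁻¹)) l =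
      b * e (ι x) l * b⁻¹
    rw [hιu, map_mul e, map_mul e, map_inv, e.apply_symm_apply]
    simp
  have hinj : Function.Injective β := fun x y h => hl.1 (by rw [← hαβ, ← hαβ, h])
  have hinf : β.range ⊓ α.ker = ⊥ := by
    rw [Subgroup.eq_bot_iff_forall]
    rintro _ ⟨⟨x, rfl⟩, hx⟩
    have : x = 1 := hl.1 (by rw [← hαβ, map_one]; exact hx)
    rw [this, map_one]
  have hsup : β.range ⊔ α.ker = ⊤ := by
    rw [eq_top_iff]
    intro b _
    obtain ⟨x, hx⟩ := hl.2 (α b)
    have : (β x)⁻¹ * b ∈ α.ker := by
      rw [MonoidHom.mem_ker, map_mul, map_inv, hαβ, hx, inv_mul_cancel]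
    rw [show b = β x * ((β x)⁻¹ * b) by group]
    exact Subgroup.mul_mem_sup ⟨x, rfl⟩ this
  have hker : α.ker = ⊥ := by
    refine ((hB l).2 _ _ hβn inferInstance hinf hsup).resolve_left fun h => ?_
    haveI := hA.1
    obtain ⟨x, hx⟩ := exists_ne (1 : A 0)
    exact hx (hinj (by rw [map_one]; exact Subgroup.mem_bot.1 (h ▸ ⟨x, rfl⟩)))
  rw [hker, sup_bot_eq] at hsup
  refine ⟨l, ⟨MulEquiv.ofBijective β ⟨hinj, fun b => ?_⟩⟩, fun b hb => ?_⟩
  · exact (hsup ▸ Subgroup.mem_top b : b ∈ β.range)
  · exact Subgroup.mem_bot.1 (hker ▸ (hb : α b = 1))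

private theorem krs : ∀ (m : ℕ) {n : ℕ} {A : Fin m → Type u} {B : Fin n → Type v}
    [∀ i, Group (A i)] [∀ j, Group (B j)] [∀ i, Finite (A i)] [∀ j, Finite (B j)],
    (∀ i, Indec (A i)) → (∀ j, Indec (B j)) → (((i : Fin m) → A i) ≃* ((j : Fin n) → B j)) →
    ∃ σ : Fin m ≃ Fin n, ∀ i, Nonempty (A i ≃* B (σ i)) := by
  intro m
  induction m with
  | zero =>
    intro n A B _ _ _ _ _ hB e
    rcases n with _ | n
    · exact ⟨Equiv.refl _, fun i => i.elim0⟩
    · haveI := (hB 0).1
      obtain ⟨b, hb⟩ := exists_ne (1 : B 0)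
      exfalso
      apply hb
      have h1 : e (e.symm (Pi.mulSingle 0 b)) = e 1 := congrArg e (Subsingleton.elim _ _)
      rw [e.apply_symm_apply, map_one] at h1
      have := congrFun h1 0
      simpa using this
  | succ m ih =>
    intro n A B _ _ _ _ hA hB e
    obtain ⟨l, ⟨el⟩, hl⟩ := step (hA 0) hB e
    rcases n with _ | n
    · exact l.elim0
    let φ : ((i : Fin m) → A i.succ) →* ((j : Fin n) → B (l.succAbove j)) :=
      MonoidHom.mk' (fun x j => e (Fin.cons 1 x) (l.succAbove j)) (by
        intro x y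
        funext j
        have : (Fin.cons 1 (x * y) : (i : Fin (m + 1)) → A i) = Fin.cons 1 x * Fin.cons 1 y := by
          funext i
          refine Fin.cases ?_ ?_ i <;> simp
        show e (Fin.cons 1 (x * y)) _ = _
        rw [this, map_mul]; rfl)
    have hinj : Function.Injective φ := by
      rw [injective_iff_map_eq_one]
      intro x hx
      set z := e (Fin.cons 1 x) with hz
      have hzs : z = Pi.mulSingle l (z l) := by
        funext i
        rcases Fin.eq_self_or_eq_succAbove l i with rfl | ⟨j, rfl⟩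
        · simp
        · rw [Pi.mulSingle_eq_of_ne (Fin.succAbove_ne l j)]
          exact congrFun hx j
      have h1 : z l = 1 := by
        refine hl (z l) ?_
        rw [← hzs, hz, e.symm_apply_apply]
        rfl
      rw [h1, Pi.mulSingle_one] at hzs
      have h2 : (Fin.cons 1 x : (i : Fin (m + 1)) → A i) = 1 :=
        e.injective (by rw [← hz, hzs, map_one])
      funext i
      simpa using congrFun h2 i.succ
    have hcard : Nat.card ((i : Fin m) → A i.succ) = Nat.card ((j : Fin n) → B (l.succAbove j)) := by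
      have h := Nat.card_congr e.toEquiv
      rw [Nat.card_pi, Nat.card_pi, Fin.prod_univ_succ, Fin.prod_univ_succAbove _ l,
        Nat.card_congr el.toEquiv] at h
      rw [Nat.card_pi, Nat.card_pi]
      exact Nat.eq_of_mul_eq_mul_left Nat.card_pos h
    obtain ⟨σ, hσ⟩ := ih (fun i => hA i.succ) (fun j => hB (l.succAbove j))
      (MulEquiv.ofBijective φ ((Nat.bijective_iff_injective_and_card _).2 ⟨hinj, hcard⟩))
    refine ⟨(finSuccEquiv m).trans ((Equiv.optionCongr σ).trans (finSuccEquiv' l).symm), fun i => ?_⟩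
    refine Fin.cases ?_ ?_ i
    · have : ((finSuccEquiv m).trans ((Equiv.optionCongr σ).trans (finSuccEquiv' l).symm)) 0 = l := by
        simp
      rw [this]; exact ⟨el⟩
    · intro i
      have : ((finSuccEquiv m).trans ((Equiv.optionCongr σ).trans (finSuccEquiv' l).symm)) i.succ =
          l.succAbove (σ i) := by simp
      rw [this]; exact hσ i

theorem result {m n : ℕ} {A : Fin m → Type*} {B : Fin n → Type*} [∀ i, Group (A i)] [∀ j, Group (B j)] [∀ i, Finite (A i)] [∀ j, Finite (B j)] (hA : ∀ i, Nontrivial (A i) ∧ ∀ H K : Subgroup (A i), H.Normal → K.Normal → H ⊓ K = ⊥ → H ⊔ K = ⊤ → H = ⊥ ∨ K = ⊥) (hB : ∀ j, Nontrivial (B j) ∧ ∀ H K : Subgroup (B j), H.Normal → K.Normal → H ⊓ K = ⊥ → H ⊔ K = ⊤ → H = ⊥ ∨ K = ⊥) (e : ((i : Fin m) → A i) ≃* ((j : Fin n) → B j)) : ∃ σ : Fin m ≃ Fin n, ∀ i, Nonempty (A i ≃* B (σ i)) :=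
  krs m hA hB e

end Cfsg.Agent.S4223
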