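import Cfsg.Statements.S4227
import Cfsg.Agent.Lib.Solvable.HHApply
import Cfsg.Agent.Lib.Char.Burnside

set_option autoImplicit false
open Cfsg

namespace Cfsg.Agent.S4227

/-- A finite group in which every element has order dividing `6` has `2`-length at most `1` and `3`-length at most `1`. -/
theorem result {G : Type*} [Group G] [Finite G] (h : ∀ x : G, x ^ 6 = 1) : Cfsg.PLengthLE 2 1 G ∧ Cfsg.PLengthLE 3 1 G := by
  have key : ∀ g : G, ∀ r : ℕ, r.Prime → r ∣ orderOf g → r = 2 ∨ r = 3 := by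
    intro g r hr hd
    have h6 : r ∣ 2 * 3 := hd.trans (orderOf_dvd_of_pow_eq_one (h g))
    rcases hr.dvd_mul.1 h6 with h2 | h3
    · exact Or.inl ((Nat.prime_dvd_prime_iff_eq hr Nat.prime_two).1 h2)
    · exact Or.inr ((Nat.prime_dvd_prime_iff_eq hr Nat.prime_three).1 h3)
  have hcard : ∃ a b, Nat.card G = 2 ^ a * 3 ^ b := by
    refine ⟨(Nat.card G).factorization 2, (Nat.card G).factorization 3, ?_⟩
    have hsupp : (Nat.card G).factorization.support ⊆ {2, 3} := by
      intro r hr
      rw [Nat.support_factorization, Nat.mem_primeFactors] at hr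
      have := Fact.mk hr.1
      obtain ⟨g, hg⟩ := exists_prime_orderOf_dvd_card' (G := G) r hr.2.1
      rcases key g r hr.1 (hg ▸ dvd_rfl) with rfl | rfl <;> simp
    conv_lhs => rw [← Nat.prod_factorization_pow_eq_self (Nat.card_pos (α := G)).ne',
      Finsupp.prod_of_support_subset _ hsupp _ (fun i _ => pow_zero i)]
    simp
  have hsol : Group.IsSolvable G :=
    Cfsg.Agent.Char.isSolvable_of_card_pq 2 3 Nat.prime_two Nat.prime_three _ G rfl hcard
  have hexp : ∀ (p : ℕ) [Fact p.Prime], (p = 2 ∨ p = 3) → ∀ (P : Sylow p G),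
      ∀ x ∈ (P : Subgroup G), x ^ p = 1 := by
    intro p hp hp23 P x hx
    obtain ⟨k, hk⟩ := IsPGroup.iff_orderOf.1 P.isPGroup' ⟨x, hx⟩
    rw [Subgroup.orderOf_mk] at hk
    have h6 : p ^ k ∣ 6 := hk ▸ orderOf_dvd_of_pow_eq_one (h x)
    have hk1 : k ≤ 1 := by
      by_contra hk2
      have := (pow_dvd_pow p (show 2 ≤ k by omega)).trans h6
      rcases hp23 with rfl | rfl <;> norm_num at this
    rw [← orderOf_dvd_iff_pow_eq_one, hk]
    exact (pow_dvd_pow p hk1).trans (by rw [pow_one])
  have hab : ∀ P : Sylow 2 G, IsMulCommutative (P : Subgroup G) := fun P => by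
    have he := hexp 2 (Or.inl rfl) P
    refine .of_setLike_mul_comm fun a ha b hb => ?_
    have h1 : ∀ c ∈ (P : Subgroup G), c⁻¹ = c := fun c hc =>
      inv_eq_of_mul_eq_one_right (by rw [← pow_two]; exact he c hc)
    rw [← h1 _ ((P : Subgroup G).mul_mem hb ha), mul_inv_rev, h1 a ha, h1 b hb]
  constructor
  · obtain ⟨P⟩ : Nonempty (Sylow 2 G) := inferInstance
    have := hab P
    refine PSeries.pLengthLE_mono ?_
      (PLengthBasics.pLengthLE_class _ (PSolvable.of_solvable hsol) P le_rfl)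
    letI : CommGroup (P : Subgroup G) := { mul_comm := mul_comm' }
    exact CommGroup.nilpotencyClass_le_one
  · refine HHApply.pLengthLE_exponent 1 (PSolvable.of_solvable hsol) ?_
      (fun P x hx => by rw [pow_one]; exact hexp 3 (Or.inr rfl) P x hx)
    rintro ⟨n₀, q, m, h1, hq, h3, h4, h5⟩
    have hq2 : q = 2 := by
      have hd : 2 ∣ q ^ m := by
        rw [← h4]
        have : Odd (3 ^ n₀) := Odd.pow (by decide)
        exact even_iff_two_dvd.1 (by obtain ⟨j, hj⟩ := this; exact ⟨j, by omega⟩)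
      exact ((Nat.prime_dvd_prime_iff_eq Nat.prime_two hq).1 (Nat.prime_two.dvd_of_dvd_pow hd)).symm
    subst hq2
    obtain ⟨P⟩ : Nonempty (Sylow 2 G) := inferInstance
    exact h5 P (hab P)

end Cfsg.Agent.S4227
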