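import Cfsg.Statements.S4230
import Mathlib.FieldTheory.Finite.Basic
import Mathlib.RingTheory.Polynomial.Cyclotomic.Expand

set_option autoImplicit false
open Cfsg

namespace Cfsg.Agent.S4230

/-- Let p be an odd prime, q a natural number not divisible by p, and e the multiplicative order of q modulo p. For a natural number f, p divides the value at q of the f-th cyclotomic polynomial if and only if f = e·p^j for some j ≥ 0. -/
theorem result (p q f : ℕ) (hp : p.Prime) (hp2 : p ≠ 2) (hpq : ¬ p ∣ q) :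
    ((p : ℤ) ∣ (Polynomial.cyclotomic f ℤ).eval (q : ℤ)) ↔ ∃ j : ℕ, f = orderOf (q : ZMod p) * p ^ j := by
  haveI : Fact p.Prime := ⟨hp⟩
  rw [← ZMod.intCast_zmod_eq_zero_iff_dvd]
  have e : (((Polynomial.cyclotomic f ℤ).eval (q : ℤ) : ℤ) : ZMod p) =
      (Polynomial.cyclotomic f (ZMod p)).eval (q : ZMod p) := by
    rw [← Polynomial.map_cyclotomic f (Int.castRingHom (ZMod p)), Polynomial.eval_natCast_map]
    simp
  rw [e]
  have hq0 : (q : ZMod p) ≠ 0 := by
    rw [Ne, ZMod.natCast_eq_zero_iff]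
    exact hpq
  have hdvd := ZMod.orderOf_dvd_card_sub_one hq0
  have hp2' := hp.two_le
  have hpo : ¬ p ∣ orderOf (q : ZMod p) := fun h =>
    absurd (Nat.le_of_dvd (by omega) (h.trans hdvd)) (by omega)
  have hone : ∀ m : ℕ, ¬ p ∣ m → NeZero (m : ZMod p) := fun m hm =>
    ⟨fun h => hm ((ZMod.natCast_eq_zero_iff m p).1 h)⟩
  constructor
  · intro h
    rcases Nat.eq_zero_or_pos f with rfl | hf
    · simp at h
    obtain ⟨k, m, hm, rfl⟩ := Nat.exists_eq_pow_mul_and_not_dvd hf.ne' p hp.ne_one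
    haveI := hone m hm
    rw [(Polynomial.isRoot_cyclotomic_prime_pow_mul_iff_of_charP.1 h).eq_orderOf]
    exact ⟨k, mul_comm _ _⟩
  · rintro ⟨j, rfl⟩
    haveI := hone _ hpo
    rw [mul_comm]
    exact Polynomial.isRoot_cyclotomic_prime_pow_mul_iff_of_charP.2 (IsPrimitiveRoot.orderOf _)

end Cfsg.Agent.S4230
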