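import Cfsg.Agent.Lib.Perm.AutAlternatingThree
import Mathlib.GroupTheory.Perm.Cycle.PossibleTypes
import Mathlib.GroupTheory.PGroup
import Mathlib.GroupTheory.Sylow

set_option autoImplicit false
set_option linter.style.haveILetI false

namespace Cfsg.Agent.S4231

open Equiv Equiv.Perm

/-- An `r`-group of permutations of fewer than `r ^ 2` points is abelian. -/
private theorem comm_small {α : Type*} [Fintype α] [DecidableEq α] {r : ℕ} [hr : Fact r.Prime]
    (hn : Fintype.card α < r ^ 2) (R : Subgroup (Perm α)) (hR : IsPGroup r R) (a b : R) : a * b = b * a := by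
  refine Subtype.ext (Equiv.ext fun x => ?_)
  set O := MulAction.orbit R x with hO
  obtain ⟨j, hj⟩ := hR.card_orbit (α := α) x
  have hj1 : j ≤ 1 := by
    by_contra h
    have h1 : Nat.card O ≤ Fintype.card α := by
      rw [← Nat.card_eq_fintype_card]
      exact Nat.card_le_card_of_injective _ Subtype.val_injective
    rw [hj] at h1
    have h2 := Nat.pow_le_pow_right hr.out.pos (show 2 ≤ j by omega)
    omega
  let φ : R →* Perm O := MulAction.toPermHom R O
  have hφ : IsPGroup r φ.range := hR.of_surjective φ.rangeRestrict φ.rangeRestrict_surjective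
  obtain ⟨i, hi⟩ := IsPGroup.iff_card.1 hφ
  have hcardO : Nat.card (Perm O) = (r ^ j).factorial := by
    classical
    rw [Nat.card_eq_fintype_card, Fintype.card_perm, ← Nat.card_eq_fintype_card, hj]
  have hi1 : i ≤ 1 := by
    by_contra h
    have hd : r ^ 2 ∣ (r ^ j).factorial := by
      rw [← hcardO]
      exact (Nat.pow_dvd_pow r (show 2 ≤ i by omega)).trans (hi ▸ Subgroup.card_subgroup_dvd_card φ.range)
    rcases Nat.le_one_iff_eq_zero_or_eq_one.1 hj1 with rfl | rfl
    · rw [pow_zero, Nat.factorial_one, Nat.dvd_one] at hd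
      exact hr.out.ne_one (by nlinarith [hr.out.pos])
    · rw [pow_one, sq, ← Nat.mul_factorial_pred hr.out.ne_zero] at hd
      have := (Nat.Prime.dvd_factorial hr.out).1 ((Nat.mul_dvd_mul_iff_left hr.out.pos).1 hd)
      have := hr.out.two_le
      omega
  haveI : IsCyclic φ.range := by
    rcases Nat.le_one_iff_eq_zero_or_eq_one.1 hi1 with rfl | rfl
    · rw [pow_zero] at hi
      haveI := (Nat.card_eq_one_iff_unique.1 hi).1
      exact isCyclic_of_subsingleton
    · exact isCyclic_of_prime_card (p := r) (by rw [hi, pow_one])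
  have hc : φ (a * b) = φ (b * a) := by
    have h' := congrArg Subtype.val
      ((IsCyclic.isMulCommutative (α := φ.range)).is_comm.comm (⟨φ a, a, rfl⟩ : φ.range) ⟨φ b, b, rfl⟩)
    rw [map_mul, map_mul]
    exact h'
  have := congrArg (fun f : Perm O => ((f ⟨x, MulAction.mem_orbit_self x⟩ : O) : α)) hc
  exact this

/-- An automorphism of odd order of an alternating group is induced by a permutation. -/
private theorem mem_range_of_odd {n : ℕ} (hn : 5 ≤ n) (σ : MulAut ↥(alternatingGroup (Fin n)))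
    (ho : Odd (orderOf σ)) :
    σ ∈ (MulAut.conjNormal : Perm (Fin n) →* MulAut ↥(alternatingGroup (Fin n))).range := by
  by_cases h6 : n ≠ 6
  · obtain ⟨τ, hτ⟩ := (AutAlt.bijective_conjNormal (by omega) h6).2 σ
    exact ⟨τ, hτ⟩
  push Not at h6
  subst h6
  -- automorphisms preserving the 3-cycles
  have hiso : ∀ (φ : MulAut ↥(alternatingGroup (Fin 6))) (g g' : alternatingGroup (Fin 6)), IsConj g g' →
      IsConj (φ g) (φ g') := fun φ g g' h => φ.toMonoidHom.map_isConj h
  have hcase : ∀ (φ : MulAut ↥(alternatingGroup (Fin 6))) (g : alternatingGroup (Fin 6)),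
      (g : Perm (Fin 6)).IsThreeCycle →
      ((φ g : _) : Perm (Fin 6)).IsThreeCycle ∨ ((φ g : _) : Perm (Fin 6)).cycleType = {3, 3} := by
    intro φ g hg
    have ho3 : orderOf ((φ g : _) : Perm (Fin 6)) = 3 := by
      rw [Subgroup.orderOf_coe, MulEquiv.orderOf_eq, ← Subgroup.orderOf_coe, hg.orderOf]
    obtain ⟨k, hk⟩ := cycleType_prime_order (σ := ((φ g : _) : Perm (Fin 6))) (ho3 ▸ Nat.prime_three)
    rw [ho3] at hk
    have hs := sum_cycleType_le ((φ g : _) : Perm (Fin 6))
    rw [hk, Multiset.sum_replicate, smul_eq_mul, Fintype.card_fin] at hs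
    rcases (show k = 0 ∨ k = 1 by omega) with rfl | rfl
    · exact Or.inl hk
    · exact Or.inr hk
  have hconj33 : ∀ u v : alternatingGroup (Fin 6), (u : Perm (Fin 6)).cycleType = {3, 3} →
      (v : Perm (Fin 6)).cycleType = {3, 3} → IsConj u v := by
    intro u v hu hv
    obtain ⟨c, hc⟩ := isConj_iff.1 (isConj_iff_cycleType_eq.2 (hu.trans hv.symm))
    rcases Int.units_eq_one_or (Perm.sign c) with hs | hs
    · exact isConj_iff.2 ⟨⟨c, hs⟩, Subtype.ext hc⟩
    · have hnot : ¬ Subgroup.centralizer {(u : Perm (Fin 6))} ≤ alternatingGroup (Fin 6) := by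
        rw [Perm.centralizer_le_alternating_iff]
        rintro ⟨-, -, h⟩
        have := h 3
        rw [hu] at this
        simp at this
      obtain ⟨d, hd, hd'⟩ := SetLike.not_le_iff_exists.1 hnot
      have hds : Perm.sign d = -1 := (Int.units_eq_one_or _).resolve_left hd'
      refine isConj_iff.2 ⟨⟨c * d, show Perm.sign (c * d) = 1 by rw [map_mul, hs, hds]; rfl⟩, Subtype.ext ?_⟩
      show c * d * (u : Perm (Fin 6)) * (c * d)⁻¹ = v
      rw [mul_inv_rev, mul_assoc c d, Subgroup.mem_centralizer_singleton_iff.1 hd, ← hc]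
      group
  have hall : ∀ (φ : MulAut ↥(alternatingGroup (Fin 6))) (g g' : alternatingGroup (Fin 6)),
      (g : Perm (Fin 6)).IsThreeCycle → (g' : Perm (Fin 6)).IsThreeCycle →
      ((φ g : _) : Perm (Fin 6)).IsThreeCycle → ((φ g' : _) : Perm (Fin 6)).IsThreeCycle := by
    intro φ g g' hg hg' h
    have hc := (alternatingGroup (Fin 6)).subtype.map_isConj
      (hiso φ g g' (alternatingGroup.isThreeCycle_isConj (by simp) hg hg'))
    exact (isConj_iff_cycleType_eq.1 hc).symm.trans h
  have hgood : (∀ g : alternatingGroup (Fin 6), (g : Perm (Fin 6)).IsThreeCycle →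
      (((σ * σ) g : _) : Perm (Fin 6)).IsThreeCycle) := by
    intro g hg
    rcases hcase σ g hg with h | h
    · exact hall σ g (σ g) hg h h
    · rcases hcase (σ * σ) g hg with h2 | h2
      · exact h2
      · -- then `g` and `σ g` would be conjugate
        exfalso
        have hc := (alternatingGroup (Fin 6)).subtype.map_isConj
          (hiso σ⁻¹ (σ g) ((σ * σ) g) (hconj33 _ _ h h2))
        simp only [MulAut.mul_apply, MulAut.inv_apply_self] at hc
        have e := isConj_iff_cycleType_eq.1 hc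
        change (g : Perm (Fin 6)).cycleType = ((σ g : _) : Perm (Fin 6)).cycleType at e
        rw [hg.cycleType, h] at e
        exact absurd (congrArg Multiset.card e) (by simp)
  obtain ⟨τ, hτ⟩ := AutAlt.mem_range_of_threeCycle (by omega) (σ * σ) hgood
  obtain ⟨k, hk⟩ := ho
  have hmem : σ * σ ∈ (MulAut.conjNormal : Perm (Fin 6) →* MulAut ↥(alternatingGroup (Fin 6))).range := ⟨τ, hτ⟩
  have := pow_mem hmem (k + 1)
  rwa [← sq, ← pow_mul, show 2 * (k + 1) = orderOf σ + 1 by omega, pow_succ, pow_orderOf_eq_one, one_mul] at this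

/-- Only the identity commutes with every even permutation. -/
private theorem eq_one_of_commute {n : ℕ} (hn : 5 ≤ n) (s : Perm (Fin n))
    (hcen : ∀ a : alternatingGroup (Fin n), s * (a : Perm (Fin n)) = (a : Perm (Fin n)) * s) : s = 1 := by
  ext i
  congr 1
  by_contra hne
  obtain ⟨j, -, hj⟩ := Finset.exists_mem_notMem_of_card_lt_card (s := ({i, s i} : Finset (Fin n)))
      (t := Finset.univ) (lt_of_le_of_lt Finset.card_le_two (by simp; omega))
  simp only [Finset.mem_insert, Finset.mem_singleton, not_or] at hj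
  obtain ⟨k, -, hk⟩ := Finset.exists_mem_notMem_of_card_lt_card (s := ({i, s i, j} : Finset (Fin n)))
      (t := Finset.univ) (lt_of_le_of_lt Finset.card_le_three (by simp; omega))
  simp only [Finset.mem_insert, Finset.mem_singleton, not_or] at hk
  obtain ⟨hji, hjs⟩ := hj
  have hne' : i ≠ s i := fun e => hne e.symm
  have h3 := AutAlt.c3_isThreeCycle (Ne.symm hjs) (Ne.symm hk.2.1) (Ne.symm hk.2.2)
  have h' := Equiv.ext_iff.1 (hcen ⟨_, h3.mem_alternatingGroup⟩) i
  simp only [Perm.mul_apply] at h'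
  rw [AutAlt.c3_apply_other hne' (Ne.symm hji) (Ne.symm hk.1),
    AutAlt.c3_apply_left (Ne.symm hjs) (Ne.symm hk.2.1)] at h'
  exact hjs h'.symm

/-- Below `r ^ 2` points the Sylow `r`-subgroups of the automorphism group are abelian. -/
private theorem sylow_comm {n r : ℕ} (hn : 5 ≤ n) [hr : Fact r.Prime] (hr2 : r ≠ 2) (hsmall : n < r ^ 2)
    (G : Subgroup (MulAut ↥(alternatingGroup (Fin n)))) (P : Sylow r G) :
    IsMulCommutative (P : Subgroup G) := by
  set ι := (MulAut.conjNormal : Perm (Fin n) →* MulAut ↥(alternatingGroup (Fin n)))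
  have hlift : ∀ x : (P : Subgroup G), ∃ s : Perm (Fin n), ι s = ((x : G) : MulAut _) := by
    intro x
    have hodd : Odd (orderOf ((x : G) : MulAut ↥(alternatingGroup (Fin n)))) := by
      obtain ⟨i, hi⟩ := P.2 x
      rw [Subgroup.orderOf_coe, Subgroup.orderOf_coe]
      exact ((hr.out.odd_of_ne_two hr2).pow (n := i)).of_dvd_nat (orderOf_dvd_of_pow_eq_one hi)
    exact mem_range_of_odd hn _ hodd
  -- the preimage in the symmetric group
  let Q : Subgroup (Perm (Fin n)) := ((P : Subgroup G).map G.subtype).comap ι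
  have hinj : Function.Injective ι := by
    rw [injective_iff_map_eq_one]
    intro s hs
    refine eq_one_of_commute hn s fun a => ?_
    have h' := congrArg (fun f : MulAut ↥(alternatingGroup (Fin n)) => (f a : Perm (Fin n))) hs
    simp only [ι, MulAut.conjNormal_apply, MulAut.one_apply] at h'
    rwa [mul_inv_eq_iff_eq_mul] at h'
  have hQ : IsPGroup r Q := (P.2.map G.subtype).comap_of_injective ι hinj
  refine ⟨⟨fun x y => ?_⟩⟩
  obtain ⟨a, ha⟩ := hlift x
  obtain ⟨b, hb⟩ := hlift y
  have haQ : a ∈ Q := ⟨(x : G), x.2, ha.symm⟩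
  have hbQ : b ∈ Q := ⟨(y : G), y.2, hb.symm⟩
  have hab : a * b = b * a :=
    congrArg Subtype.val (comm_small (r := r) (by rwa [Fintype.card_fin]) Q hQ ⟨a, haQ⟩ ⟨b, hbQ⟩)
  refine Subtype.ext (Subtype.ext ?_)
  show ((x : G) : MulAut ↥(alternatingGroup (Fin n))) * ((y : G) : MulAut ↥(alternatingGroup (Fin n))) = ((y : G) : MulAut ↥(alternatingGroup (Fin n))) * ((x : G) : MulAut ↥(alternatingGroup (Fin n)))
  rw [← ha, ← hb, ← map_mul, ← map_mul, hab]

theorem result (n : ℕ) (hn : 5 ≤ n) (G : Subgroup (MulAut (alternatingGroup (Fin n))))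
    (hG : (MulAut.conj : alternatingGroup (Fin n) →* MulAut (alternatingGroup (Fin n))).range ≤ G)
    (p q : ℕ) [Fact p.Prime] [Fact q.Prime] (hpq : p ≠ q) (h : ∀ g : G, orderOf g ≠ p * q) :
    (∀ P : Sylow p G, IsMulCommutative (P : Subgroup G)) ∨ (∀ Q : Sylow q G, IsMulCommutative (Q : Subgroup G)) := by
  wlog hq2 : q ≠ 2 generalizing p q
  · push Not at hq2
    exact (this q p (Ne.symm hpq) (fun g => by rw [mul_comm]; exact h g) (fun e => hpq (e.trans hq2.symm))).symm
  by_cases hq : n < q ^ 2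
  · exact Or.inr fun Q => sylow_comm hn hq2 hq G Q
  have hqn : q ^ 2 ≤ n := not_lt.1 hq
  have hqp := (Fact.out : q.Prime)
  have hpp := (Fact.out : p.Prime)
  have hq3 : 3 ≤ q := by have := hqp.two_le; omega
  have hq9 : q + 4 ≤ n := by nlinarith
  -- an element of order `p * q` of the alternating group
  have key : ∀ m : Multiset ℕ, m.sum ≤ n → (∀ a ∈ m, 2 ≤ a) → Even (m.sum + Multiset.card m) → m.lcm = p * q →
      False := by
    intro m h1 h2 h3 h4
    obtain ⟨c, hc⟩ := (Equiv.Perm.exists_with_cycleType_iff (α := Fin n)).2 ⟨by rwa [Fintype.card_fin], h2⟩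
    have hcA : c ∈ alternatingGroup (Fin n) := by
      rw [Equiv.Perm.mem_alternatingGroup, Equiv.Perm.sign_of_cycleType, hc, h3.neg_one_pow]
    have hinj : Function.Injective
        (MulAut.conj : alternatingGroup (Fin n) →* MulAut (alternatingGroup (Fin n))) := by
      rw [injective_iff_map_eq_one]
      intro a ha
      refine Subtype.ext (eq_one_of_commute hn (a : Perm (Fin n)) fun b => ?_)
      have h' := congrArg (fun f : MulAut (alternatingGroup (Fin n)) => f b) ha
      simp only [MulAut.conj_apply, MulAut.one_apply] at h'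
      rw [mul_inv_eq_iff_eq_mul] at h'
      exact congrArg Subtype.val h'
    refine h ⟨MulAut.conj ⟨c, hcA⟩, hG ⟨_, rfl⟩⟩ ?_
    rw [Subgroup.orderOf_mk, orderOf_injective _ hinj, Subgroup.orderOf_mk, ← Equiv.Perm.lcm_cycleType, hc, h4]
  by_cases hp2 : p = 2
  · exfalso
    subst hp2
    refine key (q ::ₘ 2 ::ₘ {2}) (by simp; omega) (by simp; omega) ?_ ?_
    · obtain ⟨t, ht⟩ := hqp.odd_of_ne_two hq2
      simp only [Multiset.sum_cons, Multiset.sum_singleton, Multiset.card_cons, Multiset.card_singleton]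
      exact ⟨t + 4, by omega⟩
    · simp only [Multiset.lcm_cons, Multiset.lcm_singleton, normalize_eq, lcm_eq_nat_lcm, Nat.lcm_self]
      rw [Nat.Coprime.lcm_eq_mul ((Nat.coprime_primes hqp Nat.prime_two).2 hq2), mul_comm]
  by_cases hp : n < p ^ 2
  · exact Or.inl fun P => sylow_comm hn hp2 hp G P
  exfalso
  have hp3 : 3 ≤ p := by have := hpp.two_le; omega
  refine key (p ::ₘ {q}) (by simp; nlinarith) (by simp; omega) ?_ ?_
  · obtain ⟨t, ht⟩ := hqp.odd_of_ne_two hq2
    obtain ⟨t', ht'⟩ := hpp.odd_of_ne_two hp2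
    simp only [Multiset.sum_cons, Multiset.sum_singleton, Multiset.card_cons, Multiset.card_singleton]
    exact ⟨t + t' + 2, by omega⟩
  · simp only [Multiset.lcm_cons, Multiset.lcm_singleton, normalize_eq, lcm_eq_nat_lcm]
    rw [Nat.Coprime.lcm_eq_mul ((Nat.coprime_primes hpp hqp).2 hpq)]

end Cfsg.Agent.S4231
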