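import Cfsg.Statements.S4234
import Cfsg.Agent.Lib.SL213.Subgroups

set_option autoImplicit false
open Cfsg

namespace Cfsg.Agent.S4234

theorem maximal_of_surjective {A B : Type*} [Group A] [Group B] (f : A →* B) (hf : Function.Surjective f)
    (hA : ∀ H : Subgroup A, ¬ H.Normal → IsCoatom (Subgroup.normalizer (H : Set A))) :
    ∀ H : Subgroup B, ¬ H.Normal → IsCoatom (Subgroup.normalizer (H : Set B)) := by
  intro H hH
  have e := Subgroup.comap_normalizer_eq_of_surjective H hf
  have hn : ¬ (H.comap f).Normal := by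
    intro h
    refine hH ?_
    have h' := h.map f hf
    rwa [Subgroup.map_comap_eq_self_of_surjective hf] at h'
  have hc := hA _ hn
  rw [← e] at hc
  refine ⟨fun h => hc.1 (by rw [h, Subgroup.comap_top]), fun C hC => ?_⟩
  have : (C.comap f) = ⊤ := hc.2 _ ((Subgroup.comap_lt_comap_of_surjective hf).2 hC)
  rw [← Subgroup.comap_top f] at this
  exact Subgroup.comap_injective hf this

theorem product {K S : Type*} [Group K] [CommGroup S] [Finite K] [Finite S]
    (hKS : (Nat.card K).Coprime (Nat.card S))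
    (hK : ∀ H : Subgroup K, ¬ H.Normal → IsCoatom (Subgroup.normalizer (H : Set K)))
    (H : Subgroup (K × S)) (hH : ¬ H.Normal) : IsCoatom (Subgroup.normalizer (H : Set (K × S))) := by
  set H1 := H.map (MonoidHom.fst K S) with hH1
  have hsplit : ∀ k s, (k, s) ∈ H → (k, 1) ∈ H ∧ ((1 : K), s) ∈ H := by
    intro k s h
    obtain ⟨a, ha⟩ : ∃ a : ℕ, a ≡ 1 [MOD Nat.card K] ∧ a ≡ 0 [MOD Nat.card S] :=
      ⟨Nat.chineseRemainder hKS 1 0, (Nat.chineseRemainder hKS 1 0).2⟩
    obtain ⟨b, hb⟩ : ∃ b : ℕ, b ≡ 0 [MOD Nat.card K] ∧ b ≡ 1 [MOD Nat.card S] :=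
      ⟨Nat.chineseRemainder hKS 0 1, (Nat.chineseRemainder hKS 0 1).2⟩
    refine ⟨?_, ?_⟩
    · have := H.pow_mem h a
      rwa [Prod.pow_mk, pow_eq_pow_iff_modEq.2 (ha.1.of_dvd (orderOf_dvd_natCard k)),
        pow_eq_pow_iff_modEq.2 (ha.2.of_dvd (orderOf_dvd_natCard s)), pow_one, pow_zero] at this
    · have := H.pow_mem h b
      rwa [Prod.pow_mk, pow_eq_pow_iff_modEq.2 (hb.1.of_dvd (orderOf_dvd_natCard k)),
        pow_eq_pow_iff_modEq.2 (hb.2.of_dvd (orderOf_dvd_natCard s)), pow_one, pow_zero] at this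
  have hmem : ∀ x : K × S, x ∈ H ↔ x.1 ∈ H1 ∧ ((1 : K), x.2) ∈ H := by
    intro x
    constructor
    · intro h; exact ⟨⟨x, h, rfl⟩, (hsplit x.1 x.2 h).2⟩
    · rintro ⟨⟨y, hy, e⟩, h2⟩
      have := H.mul_mem ((hsplit y.1 y.2 hy).1) h2
      rw [show y.1 = x.1 from e, Prod.mk_mul_mk, mul_one, one_mul] at this
      exact this
  have hconj : ∀ g x : K × S, g * x * g⁻¹ = (g.1 * x.1 * g.1⁻¹, x.2) := fun g x =>
    Prod.ext rfl (by
      show g.2 * x.2 * g.2⁻¹ = x.2
      rw [mul_comm g.2, mul_assoc, mul_inv_cancel, mul_one])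
  have hN : ∀ g : K × S, g ∈ Subgroup.normalizer (H : Set (K × S)) ↔
      g.1 ∈ Subgroup.normalizer (H1 : Set K) := by
    intro g
    simp only [Subgroup.mem_normalizer_iff, hconj]
    constructor
    · intro h k
      have := h (k, 1)
      rw [hmem (k, 1), hmem (g.1 * k * g.1⁻¹, 1)] at this
      simpa [show ((1 : K), (1 : S)) ∈ H from H.one_mem] using this
    · intro h x
      rw [hmem x, hmem (g.1 * x.1 * g.1⁻¹, x.2), h x.1]
  have hn : ¬ H1.Normal := fun h => hH ⟨fun x hx g => by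
    rw [hconj, hmem]
    exact ⟨h.conj_mem _ ((hmem x).1 hx).1 _, ((hmem x).1 hx).2⟩⟩
  have e : Subgroup.normalizer (H : Set (K × S)) =
      (Subgroup.normalizer (H1 : Set K)).comap (MonoidHom.fst K S) := Subgroup.ext hN
  rw [e]
  have hc := hK H1 hn
  have hf : Function.Surjective (MonoidHom.fst K S) := Prod.fst_surjective
  refine ⟨fun h => hc.1 (Subgroup.comap_injective hf (h.trans (Subgroup.comap_top _).symm)), fun C hC => ?_⟩
  have hker : (MonoidHom.fst K S).ker ≤ C :=
    le_trans (fun x hx => by rw [Subgroup.mem_comap, MonoidHom.mem_ker.1 hx]; exact one_mem _) hC.le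
  have hC' : C = (C.map (MonoidHom.fst K S)).comap (MonoidHom.fst K S) :=
    (Subgroup.comap_map_eq_self hker).symm
  rw [hC'] at hC ⊢
  rw [hc.2 _ ((Subgroup.comap_lt_comap_of_surjective hf).1 hC), Subgroup.comap_top]

/-- Let K be isomorphic to PSL(2, 13) or to SL(2, 13) and let S be a finite abelian group of order coprime to the order of K. Then in the direct product K × S every subgroup that is not normal has a normalizer that is a maximal subgroup. -/
theorem result {K S : Type*} [Group K] [CommGroup S] [Finite K] [Finite S]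
    (hK : Nonempty (K ≃* Matrix.ProjectiveSpecialLinearGroup (Fin 2) (ZMod 13)) ∨
      Nonempty (K ≃* Matrix.SpecialLinearGroup (Fin 2) (ZMod 13)))
    (hKS : (Nat.card K).Coprime (Nat.card S)) (H : Subgroup (K × S)) (hH : ¬ H.Normal) :
    IsCoatom (Subgroup.normalizer (H : Set (K × S))) := by
  refine product hKS ?_ H hH
  rcases hK with ⟨⟨e⟩⟩ | ⟨⟨e⟩⟩
  · exact maximal_of_surjective (e.symm.toMonoidHom.comp (QuotientGroup.mk' _))
      (e.symm.surjective.comp (QuotientGroup.mk'_surjective _)) SL213.maximal_normalizer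
  · exact maximal_of_surjective e.symm.toMonoidHom e.symm.surjective SL213.maximal_normalizer

end Cfsg.Agent.S4234
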