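import Cfsg.Statements.S4237
import Cfsg.Agent.Lib.FGStruct.CyclicCount

set_option autoImplicit false
open Cfsg

namespace Cfsg.Agent.S4237

/-- Let G be a finite group, p a prime and a a natural number such that p^(a+1) divides the order of G. Then the number of subgroups of G of order p^a is congruent to 1 or to 1 + p modulo p². -/
theorem result {G : Type*} [Group G] [Finite G] (p a : ℕ) (hp : p.Prime) (hdvd : p ^ (a + 1) ∣ Nat.card G) :
    Nat.card {H : Subgroup G // Nat.card H = p ^ a} ≡ 1 [MOD p ^ 2] ∨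
      Nat.card {H : Subgroup G // Nat.card H = p ^ a} ≡ 1 + p [MOD p ^ 2] := by
  haveI : Fact p.Prime := ⟨hp⟩
  set s := Nat.card {H : Subgroup G // Nat.card H = p ^ a}
  set c := Nat.card {H : Subgroup G // Nat.card H = p ^ (a + 1) ∧ IsCyclic H}
  have h : s + p * c ≡ 1 + p [MOD p ^ 2] := CyclicCount.add_mul_cyclic_modEq a hdvd
  have h0 : c ≡ 0 [MOD p] → s ≡ 1 + p [MOD p ^ 2] := fun hc => by
    have h1 := hc.mul_left' p
    rw [mul_zero, ← pow_two] at h1
    have h2 := (h1.add_left s).symm.trans h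
    rwa [add_zero] at h2
  have h1 : c ≡ 1 [MOD p] → s ≡ 1 [MOD p ^ 2] := fun hc => by
    have h2 := hc.mul_left' p
    rw [mul_one, ← pow_two] at h2
    exact Nat.ModEq.add_right_cancel' p ((h2.add_left s).symm.trans h)
  rcases eq_or_ne p 2 with hp2 | hp2
  · have : c % p = 0 ∨ c % p = 1 := by
      have := Nat.mod_lt c hp.pos
      omega
    rcases this with h' | h'
    · exact Or.inr (h0 (h'.trans (Nat.zero_mod p).symm))
    · exact Or.inl (h1 (h'.trans (Nat.one_mod_eq_one.2 (by omega)).symm))
  · exact (CyclicCount.cyclic_count hp2 a hdvd).elim (fun h' => Or.inr (h0 h')) fun h' => Or.inl (h1 h')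

end Cfsg.Agent.S4237
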