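import Cfsg.Agent.Lib.Transfer.Basic
import Cfsg.Agent.Lib.Transfer.Fusion
import Mathlib.GroupTheory.Exponent

set_option autoImplicit false

namespace Cfsg.Agent.S4238

open Cfsg.Agent

universe u

variable {p : ℕ}

/-- every section with trivial `p'`-core has an element of exponent order -/
private def SecProp (p : ℕ) (G : Type u) [Group G] : Prop :=
  ∀ (H : Subgroup G) (K : Type u) [Group K] (f : H →* K), Function.Surjective f →
    Cfsg.pPrimeCore p K = ⊥ → ∃ k : K, orderOf k = Monoid.exponent K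

private theorem secProp_subgroup {G : Type u} [Group G] (h : SecProp p G) (L : Subgroup G) :
    SecProp p L := by
  intro H K _ f hf hK
  exact h (H.map L.subtype) K
    (f.comp (Subgroup.equivMapOfInjective H L.subtype Subtype.coe_injective).symm.toMonoidHom)
    (hf.comp (MulEquiv.surjective _)) hK

private theorem secProp_quotient {G : Type u} [Group G] (h : SecProp p G) (M : Subgroup G)
    [M.Normal] : SecProp p (G ⧸ M) := by
  intro H K _ f hf hK
  refine h (H.comap (QuotientGroup.mk' M)) K (f.comp ((QuotientGroup.mk' M).subgroupComap H))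
    (hf.comp ?_) hK
  exact MonoidHom.subgroupComap_surjective_of_surjective _ _ (QuotientGroup.mk'_surjective M)

private theorem npc_of_quotient {G : Type u} [Group G] [Finite G] [hp : Fact p.Prime]
    (N : Subgroup G) [N.Normal] (hN : (Nat.card N).Coprime p)
    (hq : Cfsg.HasNormalPComplement p (G ⧸ N)) : Cfsg.HasNormalPComplement p G := by
  obtain ⟨M, hM, hMc, k, hk⟩ := PBasic.hasNormalPComplement_iff.1 hq
  haveI := hM
  refine PBasic.hasNormalPComplement_iff.2
    ⟨M.comap (QuotientGroup.mk' N), inferInstance, ?_, k, ?_⟩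
  · have h1 := Subgroup.card_mul_index (M.comap (QuotientGroup.mk' N))
    rw [Subgroup.index_comap_of_surjective _ (QuotientGroup.mk'_surjective N),
      Subgroup.card_eq_card_quotient_mul_card_subgroup N, ← Subgroup.card_mul_index M] at h1
    have h2 : Nat.card (M.comap (QuotientGroup.mk' N)) = Nat.card M * Nat.card N := by
      apply Nat.eq_of_mul_eq_mul_right (m := M.index)
      · exact Nat.pos_of_ne_zero Subgroup.index_ne_zero_of_finite
      · rw [h1]; ring
    rw [h2]
    exact Nat.Coprime.mul_left hMc hN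
  · rw [Subgroup.index_comap_of_surjective _ (QuotientGroup.mk'_surjective N), hk]

/-- a `p`-element centralising modulo is centralised inside a `p`-nilpotent subgroup -/
private theorem commute_of_npc {G : Type u} [Group G] [Finite G] [hp : Fact p.Prime]
    {L D : Subgroup G} (hL : Cfsg.HasNormalPComplement p L) (hD : IsPGroup p D) {g d : G}
    (hg : g ∈ L) (hd : d ∈ L) (hgo : (orderOf g).Coprime p)
    (hgD : g ∈ Subgroup.normalizer (D : Set G)) (hdD : d ∈ D) : d * g = g * d := by
  have ha : (⟨g, hg⟩ : L) ∈ Cfsg.pResidual p L :=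
    PBasic.mem_pResidual (by rwa [Subgroup.orderOf_mk])
  have h1 : (⟨d, hd⟩ : L) * ⟨g, hg⟩ * (⟨d, hd⟩ : L)⁻¹ * (⟨g, hg⟩ : L)⁻¹ ∈ Cfsg.pResidual p L :=
    mul_mem ((PBasic.pResidual_normal_inst p _).conj_mem _ ha _) (inv_mem ha)
  have h1' := (PBasic.mem_pResidual_iff hL).1 h1
  rw [← Subgroup.orderOf_coe] at h1'
  have h2 : d * g * d⁻¹ * g⁻¹ ∈ D := by
    rw [show d * g * d⁻¹ * g⁻¹ = d * (g * d⁻¹ * g⁻¹) by group]
    exact mul_mem hdD ((Subgroup.mem_normalizer_iff.1 hgD _).1 (inv_mem hdD))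
  have h3 : d * g * d⁻¹ * g⁻¹ = 1 := PBasic.eq_one_of_isPGroup_of_coprime hD h2 h1'
  rwa [mul_inv_eq_one, mul_inv_eq_iff_eq_mul] at h3

/-- `p`-elements lie in a normal subgroup with a `p'`-cyclic quotient -/
private theorem mem_of_sup_eq_top {G : Type u} [Group G] [Finite G] [hp : Fact p.Prime]
    {D : Subgroup G} [D.Normal] {g : G} (hgo : (orderOf g).Coprime p)
    (htop : D ⊔ Subgroup.zpowers g = ⊤) {x : G} {k : ℕ} (hx : orderOf x = p ^ k) : x ∈ D := by
  have hmem : x ∈ D ⊔ Subgroup.zpowers g := by rw [htop]; exact Subgroup.mem_top x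
  obtain ⟨d, hd, c, hc, rfl⟩ := Subgroup.mem_sup_of_normal_left.1 hmem
  obtain ⟨i, rfl⟩ := Subgroup.mem_zpowers_iff.1 hc
  rw [← QuotientGroup.eq_one_iff (N := D)]
  have h1 : orderOf ((d * g ^ i : G) : G ⧸ D) ∣ p ^ k := by
    rw [← hx]; exact orderOf_map_dvd (QuotientGroup.mk' D) _
  have h2 : orderOf ((d * g ^ i : G) : G ⧸ D) ∣ orderOf g := by
    rw [show ((d * g ^ i : G) : G ⧸ D) = ((g ^ i : G) : G ⧸ D) by
      rw [QuotientGroup.mk_mul, (QuotientGroup.eq_one_iff (N := D) d).2 hd, one_mul]]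
    exact (orderOf_map_dvd (QuotientGroup.mk' D) _).trans
      (orderOf_dvd_of_mem_zpowers (Subgroup.zpow_mem _ (Subgroup.mem_zpowers g) i))
  rw [← orderOf_eq_one_iff]
  exact Nat.eq_one_of_dvd_coprimes (hgo.pow_right k) h2 h1

private theorem no_exp_elt {G : Type u} [Group G] [Finite G] [hp : Fact p.Prime]
    (hsub : ∀ L : Subgroup G, L ≠ ⊤ → Cfsg.HasNormalPComplement p L)
    (hquo : ∀ (M : Subgroup G) [M.Normal], M ≠ ⊥ → Cfsg.HasNormalPComplement p (G ⧸ M))
    (hcore : Cfsg.pPrimeCore p G = ⊥) {x : G} (hx : orderOf x = Monoid.exponent G) :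
    Cfsg.HasNormalPComplement p G := by
  by_contra hnot
  have hex : ∃ (D : Subgroup G) (g : G), IsPGroup p D ∧ g ∈ Subgroup.normalizer (D : Set G) ∧
      (orderOf g).Coprime p ∧ g ∉ Subgroup.centralizer (D : Set G) := by
    by_contra h
    exact hnot (Fusion.hasNormalPComplement_of_frobenius fun D hD g hg hgo =>
      by_contra fun hc => h ⟨D, g, hD, hg, hgo, hc⟩)
  obtain ⟨D, g₀, hD, hgN, hgo₀, hgC⟩ := hex
  have gen : ∀ (E : Subgroup G) (g : G), IsPGroup p E → g ∈ Subgroup.normalizer (E : Set G) →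
      (orderOf g).Coprime p → g ∉ Subgroup.centralizer (E : Set G) →
      E ⊔ Subgroup.zpowers g = ⊤ := by
    intro E g hE hgE hgo hgC
    by_contra htop
    exact hgC fun d hd => commute_of_npc (hsub _ htop) hE
      (Subgroup.mem_sup_right (Subgroup.mem_zpowers g)) (Subgroup.mem_sup_left hd) hgo hgE hd
  haveI hDn : D.Normal := by
    rw [← Subgroup.normalizer_eq_top_iff, eq_top_iff, ← gen D g₀ hD hgN hgo₀ hgC, sup_le_iff,
      Subgroup.zpowers_le]
    exact ⟨Subgroup.le_normalizer, hgN⟩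
  classical
  obtain ⟨g, ⟨hgo, hgC⟩, hmin⟩ := Set.exists_min_image
    {g : G | (orderOf g).Coprime p ∧ g ∉ Subgroup.centralizer (D : Set G)} orderOf
    (Set.toFinite _) ⟨g₀, hgo₀, hgC⟩
  have hnorm : ∀ (E : Subgroup G) [E.Normal] (a : G), a ∈ Subgroup.normalizer (E : Set G) := by
    intro E hE a
    rw [Subgroup.normalizer_eq_top]; exact Subgroup.mem_top a
  have htop : D ⊔ Subgroup.zpowers g = ⊤ := gen D g hD (hnorm D g) hgo hgC
  -- central elements of order prime to `p` are trivial
  have hcen : ∀ z ∈ Subgroup.center G, (orderOf z).Coprime p → z = 1 := by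
    intro z hz hzo
    haveI : (Subgroup.zpowers z).Normal := ⟨fun a ha b => by
      rwa [Subgroup.mem_center_iff.1 (Subgroup.zpowers_le.2 hz ha) b, mul_inv_cancel_right]⟩
    have := PBasic.le_pPrimeCore (N := Subgroup.zpowers z) inferInstance
      (by rwa [Nat.card_zpowers])
    rw [hcore, le_bot_iff, Subgroup.zpowers_eq_bot] at this
    exact this
  have hcentral : ∀ a : G, a ∈ Subgroup.centralizer (D : Set G) → a * g = g * a →
      a ∈ Subgroup.center G := by
    intro a haD hag
    have hle : (⊤ : Subgroup G) ≤ Subgroup.centralizer ({a} : Set G) := by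
      rw [← htop, sup_le_iff, Subgroup.zpowers_le]
      refine ⟨fun d hd => ?_, ?_⟩
      · rw [Subgroup.mem_centralizer_singleton_iff]; exact haD d hd
      · rw [Subgroup.mem_centralizer_singleton_iff]; exact hag.symm
    refine Subgroup.mem_center_iff.2 fun b => ?_
    exact Subgroup.mem_centralizer_singleton_iff.1 (hle (Subgroup.mem_top b))
  have hg1 : g ≠ 1 := fun h => hgC (h ▸ one_mem _)
  obtain ⟨q, hq, hqd⟩ := Nat.exists_prime_and_dvd (fun h => hg1 (orderOf_eq_one_iff.1 h))
  have hgq : g ^ q = 1 := by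
    have ho : orderOf (g ^ q) < orderOf g := by
      rw [orderOf_pow_of_dvd hq.ne_zero hqd]
      exact Nat.div_lt_self (orderOf_pos g) hq.one_lt
    have hoc : (orderOf (g ^ q)).Coprime p :=
      Nat.Coprime.coprime_dvd_left (orderOf_pow_dvd q) hgo
    refine hcen _ (hcentral _ ?_ (by rw [← pow_succ, ← pow_succ'])) hoc
    by_contra hc
    exact absurd (hmin _ ⟨hoc, hc⟩) (not_le.2 ho)
  have hgord : orderOf g = q :=
    ((Nat.dvd_prime hq).1 (orderOf_dvd_of_pow_eq_one hgq)).resolve_left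
      (fun h => hg1 (orderOf_eq_one_iff.1 h))
  -- the centre is trivial
  have hcen1 : Subgroup.center G = ⊥ := by
    by_contra hne
    apply hgC
    intro d hd
    have hnpc := hquo (Subgroup.center G) hne
    have hDbar : IsPGroup p (D.map (QuotientGroup.mk' (Subgroup.center G))) := hD.map _
    haveI : (D.map (QuotientGroup.mk' (Subgroup.center G))).Normal :=
      hDn.map _ (QuotientGroup.mk'_surjective _)
    have hh := commute_of_npc (L := ⊤) (D := D.map (QuotientGroup.mk' (Subgroup.center G)))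
      ((PBasic.hasNormalPComplement_congr Subgroup.topEquiv).2 hnpc) hDbar
      (g := QuotientGroup.mk' (Subgroup.center G) g) (d := QuotientGroup.mk' (Subgroup.center G) d)
      (Subgroup.mem_top _) (Subgroup.mem_top _)
      (Nat.Coprime.coprime_dvd_left (orderOf_map_dvd _ g) hgo)
      (by rw [Subgroup.normalizer_eq_top]; exact Subgroup.mem_top _)
      (Subgroup.mem_map_of_mem _ hd)
    rw [← map_mul, ← map_mul, QuotientGroup.mk'_eq_mk'] at hh
    obtain ⟨m, hm, hm'⟩ := hh
    have hmc : Commute g m := Subgroup.mem_center_iff.1 hm g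
    have e1 : d⁻¹ * g * d = g * m := by
      rw [mul_assoc, ← hm']; group
    have e2 : (g * m) ^ q = 1 := by
      have h1 : (d⁻¹ * g * (d⁻¹)⁻¹) ^ q = d⁻¹ * g ^ q * (d⁻¹)⁻¹ := conj_pow
      rw [inv_inv] at h1
      rw [← e1, h1, hgq]; group
    rw [hmc.mul_pow, hgq, one_mul] at e2
    have hm1 : m = 1 := hcen m hm
      (Nat.Coprime.coprime_dvd_left (orderOf_dvd_of_pow_eq_one e2) (hgord ▸ hgo))
    rw [hm1, mul_one] at hm'
    exact hm'
  -- `D` is abelian
  have hDne : D ≠ ⊥ := by
    rintro rfl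
    exact hgC fun d hd => by rw [Subgroup.mem_bot.1 hd, one_mul, mul_one]
  haveI hZn : (D ⊓ Subgroup.centralizer (D : Set G)).Normal := inferInstance
  have hZp : IsPGroup p ↥(D ⊓ Subgroup.centralizer (D : Set G)) := hD.to_le inf_le_left
  have hZne : D ⊓ Subgroup.centralizer (D : Set G) ≠ ⊥ := by
    haveI : Nontrivial D := D.nontrivial_iff_ne_bot.2 hDne
    haveI := hD.center_nontrivial
    obtain ⟨c, hc⟩ := exists_ne (1 : Subgroup.center D)
    intro h
    have hcm : ((c : D) : G) ∈ D ⊓ Subgroup.centralizer (D : Set G) :=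
      ⟨(c : D).2, fun d hd => congrArg Subtype.val (Subgroup.mem_center_iff.1 c.2 ⟨d, hd⟩)⟩
    rw [h, Subgroup.mem_bot] at hcm
    exact hc (Subtype.ext (Subtype.ext hcm))
  have hgZ : g ∉ Subgroup.centralizer ((D ⊓ Subgroup.centralizer (D : Set G) : Subgroup G) : Set G) :=
    fun h => hZne (le_bot_iff.1 (hcen1 ▸ fun z hz => hcentral z hz.2 (h z hz)))
  have hZtop := gen _ g hZp (hnorm _ g) hgo hgZ
  have hab : ∀ d ∈ D, d ∈ Subgroup.centralizer (D : Set G) := by
    intro d hd
    obtain ⟨k, hk⟩ := IsPGroup.iff_orderOf.1 hD ⟨d, hd⟩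
    exact (mem_of_sup_eq_top hgo hZtop (k := k) (by rwa [Subgroup.orderOf_mk] at hk)).2
  -- an element of exponent order
  have hqp : Nat.Coprime q p := hgord ▸ hgo
  have hdiv : ∀ (r : ℕ) (a : G), r.Prime → orderOf a = r → r ∣ orderOf x := by
    intro r a _ ha
    rw [hx, ← ha]; exact Monoid.order_dvd_exponent a
  haveI : Nontrivial D := D.nontrivial_iff_ne_bot.2 hDne
  obtain ⟨d₁, hd₁⟩ := exists_prime_orderOf_dvd_card' (G := D) p (by
    obtain ⟨k, hk⟩ := IsPGroup.iff_card.1 hD
    rcases k with _ | k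
    · exact absurd hk (by rw [pow_zero]; exact Finite.one_lt_card.ne')
    · exact hk ▸ dvd_pow_self p k.succ_ne_zero)
  have hpx : p ∣ orderOf x := hdiv p (d₁ : G) hp.out (by rw [Subgroup.orderOf_coe, hd₁])
  have hqx : q ∣ orderOf x := hdiv q g hq hgord
  have hz : orderOf (x ^ (orderOf x / p)) = p := orderOf_pow_orderOf_div (orderOf_pos x).ne' hpx
  have hy : orderOf (x ^ (orderOf x / q)) = q := orderOf_pow_orderOf_div (orderOf_pos x).ne' hqx
  set z := x ^ (orderOf x / p) with hzdef
  set y := x ^ (orderOf x / q) with hydef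
  have hzy : z * y = y * z := by rw [hzdef, hydef, ← pow_add, ← pow_add, add_comm]
  have hzD : z ∈ D := mem_of_sup_eq_top hgo htop (k := 1) (by rw [hz, pow_one])
  obtain ⟨d, hd, c, hc, hdc⟩ := Subgroup.mem_sup_of_normal_left.1
    (show y ∈ D ⊔ Subgroup.zpowers g by rw [htop]; exact Subgroup.mem_top _)
  have hcz : z * c = c * z := by
    have hdz : z * d = d * z := hab d hd z hzD
    have : c = d⁻¹ * y := by rw [← hdc]; group
    rw [this]
    calc z * (d⁻¹ * y) = d⁻¹ * (d * z) * (d⁻¹ * y) := by group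
      _ = d⁻¹ * (z * d) * (d⁻¹ * y) := by rw [hdz]
      _ = d⁻¹ * (z * y) := by group
      _ = d⁻¹ * y * z := by rw [hzy]; group
  have hc1 : c ≠ 1 := by
    intro h
    rw [h, mul_one] at hdc
    have := PBasic.eq_one_of_isPGroup_of_coprime hD (hdc ▸ hd) (by rw [hy]; exact hqp)
    rw [this, orderOf_one] at hy
    exact hq.ne_one hy.symm
  have hgc : g ∈ Subgroup.zpowers c := by
    have : Fact (Nat.card (Subgroup.zpowers g)).Prime := ⟨by rw [Nat.card_zpowers, hgord]; exact hq⟩
    have := zpowers_eq_top_of_prime_card (G := Subgroup.zpowers g) rfl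
      (g := ⟨c, hc⟩) (fun h => hc1 (congrArg Subtype.val h))
    have hm : (⟨g, Subgroup.mem_zpowers g⟩ : Subgroup.zpowers g) ∈
        Subgroup.zpowers (⟨c, hc⟩ : Subgroup.zpowers g) := by rw [this]; exact Subgroup.mem_top _
    obtain ⟨i, hi⟩ := Subgroup.mem_zpowers_iff.1 hm
    exact Subgroup.mem_zpowers_iff.2 ⟨i, congrArg Subtype.val hi⟩
  obtain ⟨i, hi⟩ := Subgroup.mem_zpowers_iff.1 hgc
  have hzc : z ∈ Subgroup.center G :=
    hcentral z (hab z hzD) (by rw [← hi]; exact (Commute.zpow_right hcz i))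
  rw [hcen1, Subgroup.mem_bot] at hzc
  rw [hzc, orderOf_one] at hz
  exact hp.out.ne_one hz.symm

private theorem npc_of_secProp [hp : Fact p.Prime] (n : ℕ) :
    ∀ (G : Type u) [Group G] [Finite G], Nat.card G = n → SecProp p G →
      Cfsg.HasNormalPComplement p G := by
  induction n using Nat.strong_induction_on with
  | _ n ih =>
    intro G _ _ hn hG
    subst hn
    have hquo : ∀ (M : Subgroup G) [M.Normal], M ≠ ⊥ →
        Cfsg.HasNormalPComplement p (G ⧸ M) := by
      intro M _ hM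
      refine ih _ ?_ (G ⧸ M) rfl (secProp_quotient hG M)
      rw [Subgroup.card_eq_card_quotient_mul_card_subgroup M]
      exact lt_mul_of_one_lt_right Nat.card_pos (M.one_lt_card_iff_ne_bot.2 hM)
    rcases eq_or_ne (Cfsg.pPrimeCore p G) ⊥ with hcore | hcore
    · obtain ⟨x, hx⟩ := hG ⊤ G Subgroup.topEquiv.toMonoidHom (MulEquiv.surjective _) hcore
      refine no_exp_elt (fun L hL => ih _ ?_ L rfl (secProp_subgroup hG L)) hquo hcore hx
      exact lt_of_le_of_ne (Subgroup.card_le_card_group L)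
        (fun h => hL (Subgroup.eq_top_of_card_eq L h))
    · exact npc_of_quotient _ (PBasic.pPrimeCore_coprime p G) (hquo _ hcore)

theorem result {G : Type*} [Group G] [Finite G] (p : ℕ) [Fact p.Prime] :
    Cfsg.HasNormalPComplement p G ↔
      ∀ (H : Subgroup G) (N : Subgroup H) [N.Normal], Cfsg.pPrimeCore p (H ⧸ N) = ⊥ →
        ∃ k : H ⧸ N, orderOf k = Monoid.exponent (H ⧸ N) := by
  constructor
  · intro h H N _ hK
    have h2 := PBasic.hasNormalPComplement_of_surjective (QuotientGroup.mk' N)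
      (QuotientGroup.mk'_surjective N) (PBasic.hasNormalPComplement_subgroup H h)
    have h3 := PBasic.quotient_pPrimeCore_isPGroup h2
    have hKp : IsPGroup p (H ⧸ N) := by
      refine h3.of_injective (QuotientGroup.mk' _) ?_
      rw [← MonoidHom.ker_eq_bot_iff, QuotientGroup.ker_mk']
      exact hK
    obtain ⟨k, hk⟩ := IsPGroup.iff_card.1 hKp
    obtain ⟨j, -, hj⟩ := (Nat.dvd_prime_pow (Fact.out : p.Prime)).1
      (hk ▸ Group.exponent_dvd_nat_card (G := H ⧸ N))
    obtain ⟨a, ha⟩ := (Fact.out : p.Prime).exists_orderOf_eq_pow_factorization_exponent (H ⧸ N)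
    refine ⟨a, ?_⟩
    rw [ha, hj, Nat.Prime.factorization_pow (Fact.out : p.Prime), Finsupp.single_eq_same]
  · intro h
    refine npc_of_secProp _ G rfl ?_
    intro H K _ f hf hK
    let e := QuotientGroup.quotientKerEquivOfSurjective f hf
    have hcore : Cfsg.pPrimeCore p (H ⧸ f.ker) = ⊥ := by
      have := PBasic.map_pPrimeCore_equiv (p := p) e
      rw [hK] at this
      exact (Subgroup.map_eq_bot_iff_of_injective _ (f := e.toMonoidHom) e.injective).1 this
    obtain ⟨k, hk⟩ := h H f.ker hcore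
    exact ⟨e k, by rw [MulEquiv.orderOf_eq, hk, Monoid.exponent_eq_of_mulEquiv e]⟩

end Cfsg.Agent.S4238
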