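import Cfsg.Statements.S4242
import Cfsg.Agent.Lib.CN.Basic
import Cfsg.Agent.Lib.Transfer.Fusion

set_option autoImplicit false
open Cfsg

namespace Cfsg.Agent.S4242

variable {G : Type*} [Group G] [Finite G]

omit [Finite G] in
theorem isNilpotent_of_le {L M : Subgroup G} (h : L ≤ M) (hM : Group.IsNilpotent M) : Group.IsNilpotent L := by
  haveI := hM
  exact Group.nilpotent_of_mulEquiv (Subgroup.subgroupOfEquivOfLe h)

theorem card_sup_dvd (H U : Subgroup G) [U.Normal] :
    Nat.card ↥(H ⊔ U) ∣ Nat.card U * Nat.card H := by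
  rw [← Cfsg.Agent.PBasic.card_mul_relIndex (le_sup_right : U ≤ H ⊔ U), Subgroup.relIndex_sup_right]
  exact mul_dvd_mul_left _ (Subgroup.relIndex_dvd_card U H)

theorem le_of_coprime_index {M N : Subgroup G} [N.Normal] (h : (Nat.card M).Coprime N.index) : M ≤ N :=
  Subgroup.relIndex_eq_one.1 (Nat.eq_one_of_dvd_coprimes h (Subgroup.relIndex_dvd_card N M)
    (Subgroup.relIndex_dvd_index_of_normal N M))

/-- Maximal subgroups of order divisible by `p` are nilpotent: the structure. -/
theorem forward (p : ℕ) [hp : Fact p.Prime] (hpG : p ∣ Nat.card G)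
    (h : ∀ M : Subgroup G, IsCoatom M → p ∣ Nat.card M → Group.IsNilpotent M) :
    Group.IsNilpotent G ∨ Cfsg.IsMinimalNonNilpotent G ∨
      ∃ Z K : Subgroup G, Z.Normal ∧ K.Normal ∧ Z ⊓ K = ⊥ ∧ Z ⊔ K = ⊤ ∧ Nat.card Z = p ∧
        Cfsg.IsMinimalNonNilpotent K ∧ ¬ p ∣ Nat.card K := by
  have hnil : ∀ L : Subgroup G, L ≠ ⊤ → p ∣ Nat.card L → Group.IsNilpotent L := by
    intro L hL hpL
    obtain ⟨M, hM, hLM⟩ := (eq_top_or_exists_le_coatom L).resolve_left hL
    exact isNilpotent_of_le hLM (h M hM (hpL.trans (Subgroup.card_dvd_of_le hLM)))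
  by_cases h1 : Group.IsNilpotent G
  · exact Or.inl h1
  by_cases h2 : Cfsg.IsMinimalNonNilpotent G
  · exact Or.inr (Or.inl h2)
  refine Or.inr (Or.inr ?_)
  obtain ⟨L, hL, hLn⟩ : ∃ L : Subgroup G, L ≠ ⊤ ∧ ¬ Group.IsNilpotent L := by
    by_contra hc
    push Not at hc
    exact h2 ⟨h1, hc⟩
  obtain ⟨M, hM, hLM⟩ := (eq_top_or_exists_le_coatom L).resolve_left hL
  have hMn : ¬ Group.IsNilpotent M := fun hn => hLn (isNilpotent_of_le hLM hn)
  have hpM : ¬ p ∣ Nat.card M := fun hd => hMn (h M hM hd)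
  obtain ⟨z, hz⟩ := exists_prime_orderOf_dvd_card' p hpG
  have hzM : z ∉ M := fun hzM => hpM (hz ▸ Subgroup.orderOf_dvd_natCard M hzM)
  -- proper subgroups of the form `L ⊔ U`
  have hsmall : ∀ (U L : Subgroup G), U.Normal → p ∣ Nat.card U → Nat.card U * Nat.card L < Nat.card G →
      Group.IsNilpotent ↥(L ⊔ U) := by
    intro U L hU hpU hlt
    refine hnil _ (fun he => ?_) (hpU.trans (Subgroup.card_dvd_of_le le_sup_right))
    have hd := card_sup_dvd L U
    rw [he, Subgroup.card_top] at hd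
    exact absurd (Nat.le_of_dvd (Nat.mul_pos Nat.card_pos Nat.card_pos) hd) (not_le.2 hlt)
  -- it suffices to find a central subgroup of order `p`
  suffices key : ∃ Z : Subgroup G, Z.Normal ∧ Nat.card Z = p ∧ M ≤ Subgroup.centralizer (Z : Set G) by
    obtain ⟨Z, hZn, hZp, hMZ⟩ := key
    have htop : M ⊔ Z = ⊤ := hM.2 _ (left_lt_sup.2 fun hle => hpM (hZp ▸ Subgroup.card_dvd_of_le hle))
    have hinf : Z ⊓ M = ⊥ := Subgroup.inf_eq_bot_of_coprime (by
      rw [hZp]; exact (hp.out.coprime_iff_not_dvd).2 hpM)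
    have hcardG : Nat.card G = p * Nat.card M := by
      refine Nat.dvd_antisymm ?_ ?_
      · have := card_sup_dvd M Z
        rwa [htop, Subgroup.card_top, hZp] at this
      · exact Nat.Coprime.mul_dvd_of_dvd_of_dvd ((hp.out.coprime_iff_not_dvd).2 hpM) hpG
          (Subgroup.card_subgroup_dvd_card M)
    have hMnormal : M.Normal := by
      rw [← Subgroup.normalizer_eq_top_iff, eq_top_iff, ← htop]
      refine sup_le Subgroup.le_normalizer fun u hu => ?_
      rw [Subgroup.mem_normalizer_iff]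
      intro m
      have hc : ∀ m' ∈ M, u * m' = m' * u := fun m' hm' =>
        Subgroup.mem_centralizer_iff.1 (hMZ hm') u hu
      constructor
      · intro hm
        rwa [hc m hm, mul_inv_cancel_right]
      · intro hm
        have h3 : u * m * u⁻¹ = m := mul_left_cancel (a := u) ((hc _ hm).trans (inv_mul_cancel_right _ _))
        rwa [h3] at hm
    refine ⟨Z, M, hZn, hMnormal, hinf, by rw [sup_comm, htop], hZp, ⟨hMn, fun L' hL' => ?_⟩, hpM⟩
    have hlt : Nat.card Z * Nat.card (L'.map M.subtype) < Nat.card G := by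
      rw [hZp, hcardG, Subgroup.card_map_of_injective M.subtype_injective]
      refine Nat.mul_lt_mul_of_pos_left ?_ hp.out.pos
      exact lt_of_le_of_ne (Nat.card_le_card_of_injective _ Subtype.val_injective)
        fun he => hL' (Subgroup.eq_top_of_card_eq _ he)
    haveI := isNilpotent_of_le (le_sup_left : L'.map M.subtype ≤ _)
      (hsmall Z _ hZn (hZp ▸ dvd_rfl) hlt)
    exact Group.nilpotent_of_mulEquiv (L'.equivMapOfInjective M.subtype M.subtype_injective).symm
  by_cases hU : Cfsg.pCore p G = ⊥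
  · -- the Frobenius case
    have hF : ∀ D : Subgroup G, IsPGroup p D → ∀ g ∈ Subgroup.normalizer (D : Set G),
        (orderOf g).Coprime p → g ∈ Subgroup.centralizer (D : Set G) := by
      intro D hD g hg hgp
      rw [Subgroup.mem_centralizer_iff]
      intro d hd
      by_cases hd1 : d = 1
      · simp [hd1]
      have hDne : D ≠ ⊥ := fun he => hd1 (Subgroup.mem_bot.1 (he ▸ hd))
      have hN : Subgroup.normalizer (D : Set G) ≠ ⊤ := fun he =>
        hDne (le_bot_iff.1 (hU ▸ Cfsg.Agent.PBasic.le_pCore (Subgroup.normalizer_eq_top_iff.1 he) hD))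
      obtain ⟨k, hk⟩ := IsPGroup.iff_orderOf.1 hD ⟨d, hd⟩
      rw [Subgroup.orderOf_mk] at hk
      have hpd : p ∣ orderOf d := by
        have : k ≠ 0 := by rintro rfl; rw [pow_zero, orderOf_eq_one_iff] at hk; exact hd1 hk
        exact hk ▸ dvd_pow_self p this
      have hnN := hnil _ hN (hpd.trans (Subgroup.orderOf_dvd_natCard _ (Subgroup.le_normalizer hd)))
      exact Cfsg.Agent.CN.commute_of_coprime hnN (Subgroup.le_normalizer hd) hg
        (by rw [hk]; exact Nat.Coprime.pow_left k hgp.symm)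
    obtain ⟨N, hN, hNp, k, hNi⟩ :=
      Cfsg.Agent.PBasic.hasNormalPComplement_iff.1 (Cfsg.Agent.Fusion.hasNormalPComplement_of_frobenius hF)
    haveI := hN
    have hMN : M ≤ N := le_of_coprime_index (hNi ▸ Nat.Coprime.pow_right k
      (((hp.out.coprime_iff_not_dvd).2 hpM).symm))
    have hNM : M = N := (hM.le_iff.1 hMN).resolve_left (fun he => by
      rw [he, Subgroup.card_top] at hNp
      exact absurd hpG ((hp.out.coprime_iff_not_dvd).1 hNp.symm)) |>.symm
    subst hNM
    have hcardG : Nat.card G = p * Nat.card M := by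
      refine Nat.dvd_antisymm ?_ ?_
      · have htop : Subgroup.zpowers z ⊔ M = ⊤ :=
          hM.2 _ (right_lt_sup.2 fun hle => hzM (hle (Subgroup.mem_zpowers z)))
        have := card_sup_dvd (Subgroup.zpowers z) M
        rwa [htop, Subgroup.card_top, Nat.card_zpowers, hz, mul_comm] at this
      · exact Nat.Coprime.mul_dvd_of_dvd_of_dvd ((hp.out.coprime_iff_not_dvd).2 hpM) hpG
          (Subgroup.card_subgroup_dvd_card M)
    have hZidx : (Subgroup.zpowers z).index = Nat.card M := by
      have e := (Subgroup.zpowers z).card_mul_index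
      rw [Nat.card_zpowers, hz, hcardG] at e
      exact Nat.eq_of_mul_eq_mul_left hp.out.pos e
    let Pz : Sylow p G := (IsPGroup.of_card (n := 1) (by rw [Nat.card_zpowers, hz, pow_one] :
      Nat.card (Subgroup.zpowers z) = p ^ 1)).toSylow (hZidx ▸ hpM)
    set C := Subgroup.centralizer ({z} : Set G) with hC
    have hCtop : C = ⊤ := by
      refine Subgroup.eq_top_of_card_eq _ (Nat.dvd_antisymm (Subgroup.card_subgroup_dvd_card C) ?_)
      rw [Nat.dvd_iff_prime_pow_dvd_dvd]
      intro r n hr hrn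
      haveI := Fact.mk hr
      obtain ⟨R⟩ : Nonempty (Sylow r G) := inferInstance
      have hR : r ^ n ∣ Nat.card (R : Subgroup G) := by
        rw [R.card_eq_multiplicity]
        exact pow_dvd_pow r ((hr.pow_dvd_iff_le_factorization Nat.card_pos.ne').1 hrn)
      by_cases hrp : r = p
      · subst hrp
        rcases Nat.lt_or_ge n 2 with hn | hn
        · refine (pow_dvd_pow r (Nat.lt_succ_iff.1 hn)).trans ?_
          rw [pow_one, ← hz, ← Nat.card_zpowers]
          exact Subgroup.card_dvd_of_le (Subgroup.zpowers_le.2 (Subgroup.mem_centralizer_singleton_iff.2 rfl))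
        · have h4 : r * r ∣ r * Nat.card M := by
            rw [← hcardG, ← pow_two]; exact (pow_dvd_pow r hn).trans hrn
          exact absurd (Nat.dvd_of_mul_dvd_mul_left hp.out.pos h4) hpM
      have hMi : M.index = p := by
        have e := M.card_mul_index
        rw [hcardG, mul_comm p] at e
        exact Nat.eq_of_mul_eq_mul_left Nat.card_pos e
      have hRM : (R : Subgroup G) ≤ M := le_of_coprime_index (by
        rw [hMi, R.card_eq_multiplicity]
        exact Nat.Coprime.pow_left _ ((Nat.coprime_primes hr hp.out).2 hrp))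
      have hfr := Sylow.normalizer_sup_eq_top (R.subtype hRM)
      rw [Sylow.coe_subtype, Subgroup.map_subgroupOf_eq_of_le hRM] at hfr
      set NR := Subgroup.normalizer ((R : Subgroup G) : Set G) with hNR
      have hpN : p ∣ Nat.card NR := by
        have hd := card_sup_dvd NR M
        rw [hfr, Subgroup.card_top] at hd
        exact (hp.out.dvd_mul.1 (hpG.trans hd)).resolve_left hpM
      obtain ⟨⟨w, hwN⟩, hw⟩ := exists_prime_orderOf_dvd_card' p hpN
      rw [Subgroup.orderOf_mk] at hw
      have hcomm : ∀ x ∈ (R : Subgroup G), Commute x w := by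
        intro x hx
        have hcop : (orderOf x).Coprime (orderOf w) := by
          obtain ⟨i, hi⟩ := IsPGroup.iff_orderOf.1 R.isPGroup' ⟨x, hx⟩
          rw [Subgroup.orderOf_mk] at hi
          rw [hi, hw]
          exact Nat.Coprime.pow_left i ((Nat.coprime_primes hr hp.out).2 hrp)
        by_cases hNtop : NR = ⊤
        · haveI : (R : Subgroup G).Normal := Subgroup.normalizer_eq_top_iff.1 hNtop
          refine Cfsg.Agent.CN.commute_of_coprime (K := Subgroup.zpowers w ⊔ (R : Subgroup G)) ?_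
            (Subgroup.mem_sup_right hx) (Subgroup.mem_sup_left (Subgroup.mem_zpowers w)) hcop
          refine hnil _ (fun he => ?_) ?_
          · have hd := card_sup_dvd (Subgroup.zpowers w) (R : Subgroup G)
            rw [he, Subgroup.card_top, Nat.card_zpowers, hw, hcardG, mul_comm p] at hd
            have hd2 := Nat.dvd_of_mul_dvd_mul_right hp.out.pos hd
            have heq : (R : Subgroup G) = M :=
              Subgroup.eq_of_le_of_card_ge hRM (Nat.le_of_dvd Nat.card_pos hd2)
            exact hMn (heq ▸ R.isPGroup'.isNilpotent)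
          · exact hw ▸ Subgroup.orderOf_dvd_natCard _ (Subgroup.mem_sup_left (Subgroup.mem_zpowers w))
        · exact Cfsg.Agent.CN.commute_of_coprime (hnil _ hNtop hpN) (Subgroup.le_normalizer hx) hwN hcop
      have hWidx : (Subgroup.zpowers w).index = Nat.card M := by
        have e := (Subgroup.zpowers w).card_mul_index
        rw [Nat.card_zpowers, hw, hcardG] at e
        exact Nat.eq_of_mul_eq_mul_left hp.out.pos e
      let Pw : Sylow p G := (IsPGroup.of_card (n := 1) (by rw [Nat.card_zpowers, hw, pow_one] :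
        Nat.card (Subgroup.zpowers w) = p ^ 1)).toSylow (hWidx ▸ hpM)
      obtain ⟨g, hg⟩ := MulAction.exists_smul_eq G Pz Pw
      have hzg : g * z * g⁻¹ ∈ Subgroup.zpowers w := by
        have e : ((g • Pz : Sylow p G) : Subgroup G) = Subgroup.zpowers w := congrArg (fun S : Sylow p G => (S : Subgroup G)) hg
        rw [← e]
        exact ⟨z, Subgroup.mem_zpowers z, rfl⟩
      have hle : (R : Subgroup G).map (MulAut.conj g⁻¹).toMonoidHom ≤ C := by
        rintro _ ⟨x, hx, rfl⟩
        obtain ⟨i, hi⟩ := Subgroup.mem_zpowers_iff.1 hzg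
        have hxc : x * (g * z * g⁻¹) = (g * z * g⁻¹) * x := by rw [← hi]; exact ((hcomm x hx).zpow_right i).eq
        rw [Subgroup.mem_centralizer_singleton_iff]
        show g⁻¹ * x * g⁻¹⁻¹ * z = z * (g⁻¹ * x * g⁻¹⁻¹)
        calc g⁻¹ * x * g⁻¹⁻¹ * z = g⁻¹ * (x * (g * z * g⁻¹)) * g := by group
          _ = g⁻¹ * ((g * z * g⁻¹) * x) * g := by rw [hxc]
          _ = z * (g⁻¹ * x * g⁻¹⁻¹) := by group
      refine hR.trans ?_
      rw [← Subgroup.card_map_of_injective (K := (R : Subgroup G)) (f := (MulAut.conj g⁻¹).toMonoidHom) (MulAut.conj g⁻¹).injective]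
      exact Subgroup.card_dvd_of_le hle
    refine ⟨Subgroup.zpowers z, ?_, by rw [Nat.card_zpowers, hz], ?_⟩
    · refine ⟨fun u hu a => ?_⟩
      obtain ⟨i, rfl⟩ := Subgroup.mem_zpowers_iff.1 hu
      have hc : Commute a z := Subgroup.mem_centralizer_singleton_iff.1 (hCtop.ge (Subgroup.mem_top a))
      rw [(hc.zpow_right i).eq, mul_inv_cancel_right]
      exact hu
    · intro m _
      rw [Subgroup.mem_centralizer_iff]
      intro u hu
      obtain ⟨i, rfl⟩ := Subgroup.mem_zpowers_iff.1 hu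
      have hc : Commute m z := Subgroup.mem_centralizer_singleton_iff.1 (hCtop.ge (Subgroup.mem_top m))
      exact (hc.zpow_right i).eq.symm
  -- the case `O_p(G) ≠ 1`
  set U := Cfsg.pCore p G with hUdef
  have hUp : IsPGroup p U := Cfsg.Agent.PBasic.pCore_isPGroup p G
  haveI hUn : U.Normal := by
    haveI := Cfsg.Agent.PBasic.pCore_characteristic p G
    exact Subgroup.normal_of_characteristic _
  obtain ⟨k, hk⟩ := IsPGroup.iff_card.1 hUp
  have hk0 : k ≠ 0 := by
    rintro rfl
    exact hU ((Subgroup.card_eq_one).1 (by rw [hk, pow_zero]))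
  have hpU : p ∣ Nat.card U := hk ▸ dvd_pow_self p hk0
  have hcop : (Nat.card U).Coprime (Nat.card M) := hk ▸ Nat.Coprime.pow_left k ((hp.out.coprime_iff_not_dvd).2 hpM)
  have hWtop : ∀ W : Subgroup G, W ≤ U → W ≠ ⊥ → M ≤ Subgroup.normalizer (W : Set G) → W = U := by
    intro W hWU hW hMW
    have htop : M ⊔ W = ⊤ := hM.2 _ (left_lt_sup.2 fun hle => hW (by
      rw [← inf_eq_left.2 hle]
      exact le_bot_iff.1 ((inf_le_inf_right M hWU).trans (Subgroup.inf_eq_bot_of_coprime hcop).le)))
    haveI : W.Normal := by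
      rw [← Subgroup.normalizer_eq_top_iff, eq_top_iff, ← htop]
      exact sup_le hMW Subgroup.le_normalizer
    have hd := card_sup_dvd M W
    rw [htop, Subgroup.card_top] at hd
    refine Subgroup.eq_of_le_of_card_ge hWU (Nat.le_of_dvd Nat.card_pos ?_)
    exact hcop.dvd_of_dvd_mul_right ((Subgroup.card_subgroup_dvd_card U).trans hd)
  have hcardG : Nat.card G = Nat.card U * Nat.card M := by
    refine Nat.dvd_antisymm ?_ (hcop.mul_dvd_of_dvd_of_dvd (Subgroup.card_subgroup_dvd_card U)
      (Subgroup.card_subgroup_dvd_card M))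
    have htop : M ⊔ U = ⊤ := hM.2 _ (left_lt_sup.2 fun hle => hpM (hpU.trans (Subgroup.card_dvd_of_le hle)))
    have := card_sup_dvd M U
    rwa [htop, Subgroup.card_top] at this
  have hMU : ∀ m ∈ M, ∀ u ∈ U, m * u = u * m := by
    intro m hm u hu
    have hlt : Subgroup.zpowers m < M := lt_of_le_of_ne (Subgroup.zpowers_le.2 hm) fun he => hMn (by
      haveI : IsCyclic M := he ▸ (inferInstance : IsCyclic (Subgroup.zpowers m))
      letI := IsCyclic.commGroup (α := M)
      infer_instance)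
    have hn := hsmall U (Subgroup.zpowers m) hUn hpU (by
      rw [hcardG]
      refine Nat.mul_lt_mul_of_pos_left ?_ Nat.card_pos
      refine lt_of_le_of_ne (Subgroup.card_le_of_le hlt.le) fun he => hlt.ne (Subgroup.eq_of_le_of_card_ge hlt.le he.ge))
    refine Cfsg.Agent.CN.commute_of_coprime hn (Subgroup.mem_sup_left (Subgroup.mem_zpowers m))
      (Subgroup.mem_sup_right hu) ?_
    exact (hcop.symm.coprime_dvd_left (Subgroup.orderOf_dvd_natCard M hm)).coprime_dvd_right
      (Subgroup.orderOf_dvd_natCard U hu)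
  obtain ⟨⟨w, hwU⟩, hw⟩ := exists_prime_orderOf_dvd_card' p hpU
  rw [Subgroup.orderOf_mk] at hw
  have hW : Subgroup.zpowers w = U := hWtop _ (Subgroup.zpowers_le.2 hwU) (fun he => by
      rw [Subgroup.zpowers_eq_bot] at he
      rw [he, orderOf_one] at hw
      exact hp.out.one_lt.ne hw) (fun m hm => Subgroup.mem_normalizer_iff.2 fun u => by
    constructor
    · intro hu
      rwa [hMU m hm u ((Subgroup.zpowers_le.2 hwU) hu), mul_inv_cancel_right]
    · intro hu
      have h5 : m * u * m⁻¹ = u :=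
        mul_left_cancel (a := m) ((hMU m hm _ ((Subgroup.zpowers_le.2 hwU) hu)).trans (inv_mul_cancel_right _ _))
      rwa [h5] at hu)
  refine ⟨U, hUn, ?_, fun m hm => Subgroup.mem_centralizer_iff.2 fun u hu => (hMU m hm u hu).symm⟩
  rw [← hW, Nat.card_zpowers, hw]

/-- Maximal subgroups of order divisible by `p` nilpotent. -/
theorem result {G : Type*} [Group G] [Finite G] (p : ℕ) (hp : p.Prime) (hpG : p ∣ Nat.card G) :
    (∀ M : Subgroup G, IsCoatom M → p ∣ Nat.card M → Group.IsNilpotent M) ↔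
      (Group.IsNilpotent G ∨ Cfsg.IsMinimalNonNilpotent G ∨
        ∃ Z K : Subgroup G, Z.Normal ∧ K.Normal ∧ Z ⊓ K = ⊥ ∧ Z ⊔ K = ⊤ ∧ Nat.card Z = p ∧
          Cfsg.IsMinimalNonNilpotent K ∧ ¬ p ∣ Nat.card K) := by
  haveI := Fact.mk hp
  refine ⟨forward p hpG, ?_⟩
  rintro (hn | hn | ⟨Z, K, hZ, hK, hinf, hsup, hZp, hKn, hpK⟩) M hM hpM
  · exact inferInstance
  · exact hn.2 M hM.1
  obtain ⟨⟨z, hzM⟩, hz⟩ := exists_prime_orderOf_dvd_card' p hpM
  rw [Subgroup.orderOf_mk] at hz
  have hZidx : Z.index ∣ Nat.card K := by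
    haveI := hZ
    rw [← Subgroup.relIndex_top_right, ← hsup, sup_comm, Subgroup.relIndex_sup_right]
    exact Subgroup.relIndex_dvd_card Z K
  have hzZ : Subgroup.zpowers z ≤ Z := by
    haveI := hZ
    refine le_of_coprime_index ?_
    rw [Nat.card_zpowers, hz]
    exact hp.coprime_iff_not_dvd.2 fun hd => hpK (hd.trans hZidx)
  have hZM : Z ≤ M := by
    rw [← Subgroup.eq_of_le_of_card_ge hzZ (by rw [Nat.card_zpowers, hz, hZp])]
    exact Subgroup.zpowers_le.2 hzM
  haveI := hK
  haveI := hZ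
  have hcomm : ∀ a ∈ Z, ∀ b ∈ K, a * b = b * a := fun a ha b hb =>
    Subgroup.commute_of_normal_of_disjoint Z K hZ hK (disjoint_iff.2 hinf) a b ha hb
  have hcyc : ∀ a ∈ Z, ∀ b ∈ Z, a * b = b * a := by
    haveI : IsCyclic Z := isCyclic_of_prime_card hZp
    letI := IsCyclic.commGroup (α := Z)
    exact fun a ha b hb => congrArg Subtype.val (mul_comm (⟨a, ha⟩ : Z) ⟨b, hb⟩)
  have hcentral : ∀ a ∈ Z, ∀ g : G, a * g = g * a := by
    intro a ha g
    obtain ⟨z', hz', k', hk', rfl⟩ := Subgroup.mem_sup_of_normal_left.1 (hsup.ge (Subgroup.mem_top g))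
    rw [← mul_assoc, hcyc a ha z' hz', mul_assoc, hcomm a ha k' hk', mul_assoc]
  have hMK : Group.IsNilpotent ↥(M ⊓ K) := by
    have hne : (M ⊓ K).subgroupOf K ≠ ⊤ := fun he => hM.1 (eq_top_iff.2 (hsup ▸
      sup_le hZM ((Subgroup.subgroupOf_eq_top.1 he).trans inf_le_left)))
    haveI := hKn.2 _ hne
    exact Group.nilpotent_of_mulEquiv (Subgroup.subgroupOfEquivOfLe inf_le_right)
  let f : ↥(M ⊓ K) →* ↥M ⧸ Z.subgroupOf M := (QuotientGroup.mk' _).comp (Subgroup.inclusion inf_le_left)
  have hf : Function.Surjective f := by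
    intro q
    obtain ⟨⟨m, hm⟩, rfl⟩ := QuotientGroup.mk_surjective q
    obtain ⟨z', hz', k', hk', hzk⟩ := Subgroup.mem_sup_of_normal_left.1 (hsup.ge (Subgroup.mem_top m))
    have hkM : k' ∈ M := by
      have e : k' = z'⁻¹ * m := eq_inv_mul_of_mul_eq hzk
      rw [e]; exact M.mul_mem (M.inv_mem (hZM hz')) hm
    refine ⟨⟨k', hkM, hk'⟩, QuotientGroup.eq.2 ?_⟩
    show k'⁻¹ * m ∈ Z
    rw [← hzk, ← mul_assoc, ← hcentral z' hz' k'⁻¹, mul_assoc, inv_mul_cancel, mul_one]
    exact hz'
  haveI : Group.IsNilpotent (↥M ⧸ Z.subgroupOf M) := Group.nilpotent_of_surjective f hf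
  refine Subgroup.isNilpotent_of_ker_le_center (QuotientGroup.mk' (Z.subgroupOf M)) ?_
  rw [QuotientGroup.ker_mk']
  intro a ha
  rw [Subgroup.mem_center_iff]
  exact fun b => Subtype.ext (hcentral a ha b).symm

end Cfsg.Agent.S4242
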