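import Cfsg.Statements.S4248
import Cfsg.Agent.Lib.Partition.Main

set_option autoImplicit false
open Cfsg

namespace Cfsg.Agent.S4248

/-- Let G be a finite group admitting a nontrivial partition: a family of at least two nontrivial subgroups such that every non-identity element of G lies in exactly one member. Then G is isomorphic to the symmetric group of degree 4; or, for some prime p, the Hughes subgroup generated by the elements g with g^p ≠ 1 is proper (G a p-group or a group of Hughes–Thompson type); or G is a Frobenius group; or G is isomorphic to PSL(2, q) with q ≥ 4, to PGL(2, q) with q ≥ 5 odd, or to a Suzuki group. -/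
theorem result {G : Type*} [Group G] [Finite G] (S : Set (Subgroup G)) (hS2 : ∃ H ∈ S, ∃ K ∈ S, H ≠ K)
    (hS1 : ∀ H ∈ S, H ≠ ⊥) (hpart : ∀ g : G, g ≠ 1 → ∃! H : Subgroup G, H ∈ S ∧ g ∈ H) :
    Nonempty (G ≃* Equiv.Perm (Fin 4)) ∨
    (∃ p : ℕ, p.Prime ∧ Subgroup.closure {g : G | g ^ p ≠ 1} ≠ ⊤) ∨
    (∃ H : Subgroup G, Cfsg.IsFrobeniusComplement H) ∨
    (∃ (F : Type) (_ : Field F) (_ : Fintype F), 4 ≤ Fintype.card F ∧
        Nonempty (G ≃* Matrix.ProjectiveSpecialLinearGroup (Fin 2) F)) ∨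
    (∃ (F : Type) (_ : Field F) (_ : Fintype F), 5 ≤ Fintype.card F ∧ Odd (Fintype.card F) ∧
        Nonempty (G ≃* (GL (Fin 2) F ⧸ Subgroup.center (GL (Fin 2) F)))) ∨
    Cfsg.Lie.IsoSuzuki G := by
  classical
  obtain ⟨P⟩ := Partition.exists_part S hS2 hS1 hpart
  by_cases hF : ∃ H : Subgroup G, Cfsg.IsFrobeniusComplement H
  · exact Or.inr (Or.inr (Or.inl hF))
  have hnil : ∀ g : G, g ≠ 1 → Group.IsNilpotent (P.comp g) := fun g hg => P.nilpotent hF hg
  by_cases hG : Partition.NoSol G
  · haveI : Nontrivial G := by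
      obtain ⟨H, hH, -⟩ := hS2
      obtain ⟨⟨g, hgH⟩, hg⟩ := Subgroup.ne_bot_iff_exists_ne_one.1 (hS1 H hH)
      exact ⟨⟨g, 1, fun e => hg (Subtype.ext e)⟩⟩
    exact Or.inr (Or.inr (Or.inr (Partition.named P hG hnil)))
  · unfold Partition.NoSol at hG
    push Not at hG
    obtain ⟨L, hLn, hLs, hL⟩ := hG
    rcases P.baer_of_solvable hL with h | h | h
    · exact Or.inl h
    · exact Or.inr (Or.inl h)
    · exact Or.inr (Or.inr (Or.inl h))

end Cfsg.Agent.S4248
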