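import Cfsg.Statements.S4249
import Cfsg.Agent.Lib.FiniteGroup.Kegel

set_option autoImplicit false
open Cfsg

namespace Cfsg.Agent.S4249

/-- Let G be a finite group and p a prime such that G is not a p-group, and suppose the Hughes subgroup H_p(G), generated by all elements g with g^p ≠ 1, is a proper subgroup. Then H_p(G) is nilpotent and has index p in G. -/
theorem result {G : Type*} [Group G] [Finite G] (p : ℕ) (hp : p.Prime) (hG : ¬ IsPGroup p G)
    (hH : Subgroup.closure {g : G | g ^ p ≠ 1} ≠ ⊤) :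
    Group.IsNilpotent (Subgroup.closure {g : G | g ^ p ≠ 1}) ∧ (Subgroup.closure {g : G | g ^ p ≠ 1}).index = p := by
  classical
  haveI : Fact p.Prime := ⟨hp⟩
  set H := Subgroup.closure {g : G | g ^ p ≠ 1} with hHdef
  have hout : ∀ g, g ∉ H → g ^ p = 1 := fun g hg => by_contra fun h => hg (Subgroup.subset_closure h)
  haveI hHn : H.Normal := by
    refine Subgroup.Normal.mk fun a ha g => ?_
    have hle : H ≤ H.comap (MulAut.conj g).toMonoidHom := by
      rw [hHdef, Subgroup.closure_le]
      intro b hb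
      show g * b * g⁻¹ ∈ H
      refine Subgroup.subset_closure (fun h => hb ?_)
      rw [conj_pow, mul_inv_eq_one] at h
      simpa using h
    exact hle ha
  obtain ⟨x₀, hx₀⟩ : ∃ x, x ∉ H := by
    by_contra h
    push Not at h
    exact hH (eq_top_iff.2 fun y _ => h y)
  have hnil : Group.IsNilpotent H := by
    set X := H ⊔ Subgroup.zpowers x₀ with hXdef
    have hidx : (H.subgroupOf X).index = p := by
      have hmap : (Subgroup.zpowers x₀).subgroupOf X ⊔ H.subgroupOf X = ⊤ := by
        rw [← Subgroup.subgroupOf_sup le_sup_right le_sup_left]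
        exact Subgroup.subgroupOf_eq_top.2 (le_of_eq (sup_comm H (Subgroup.zpowers x₀)))
      have hx1 : x₀ ≠ 1 := fun e => hx₀ (e ▸ H.one_mem)
      have hcard : Nat.card (Subgroup.zpowers x₀) = p := by
        rw [Nat.card_zpowers]; exact orderOf_eq_prime (hout x₀ hx₀) hx1
      have h1 : (H.subgroupOf X).index ∣ p := by
        rw [← Subgroup.relIndex_top_right, ← hmap, Subgroup.relIndex_sup_right]
        refine (Subgroup.relIndex_dvd_card _ _).trans ?_
        rw [Nat.card_congr (Subgroup.subgroupOfEquivOfLe (le_sup_right : Subgroup.zpowers x₀ ≤ X)).toEquiv, hcard]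
      refine ((Nat.dvd_prime hp).1 h1).resolve_left fun e => hx₀ ?_
      exact Subgroup.relIndex_eq_one.1 e (Subgroup.mem_sup_right (Subgroup.mem_zpowers x₀))
    haveI := KegelHughes.isNilpotent_of_outside (H.subgroupOf X) hp hidx
      (fun y hy => Subtype.ext (hout _ hy))
    exact KegelHughes.isNilpotent_of_injective'
      (f := (Subgroup.subgroupOfEquivOfLe (le_sup_left : H ≤ X)).symm.toMonoidHom) (MulEquiv.injective _)
  refine ⟨hnil, ?_⟩
  have hKp : IsPGroup p (G ⧸ H) := by
    intro k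
    obtain ⟨g, rfl⟩ := QuotientGroup.mk_surjective k
    refine ⟨1, ?_⟩
    rw [pow_one, ← QuotientGroup.mk_pow]
    by_cases hg : g ∈ H
    · exact (QuotientGroup.eq_one_iff _).2 (H.pow_mem hg p)
    · rw [hout g hg]; rfl
  obtain ⟨k, hk⟩ := IsPGroup.iff_card.1 hKp
  have hidx : H.index = p ^ k := hk
  rcases k with _ | _ | k
  · exact absurd (Subgroup.index_eq_one.1 (by simpa using hidx)) hH
  · simpa using hidx
  exfalso
  -- a prime `q ≠ p` dividing `|H|`
  obtain ⟨q, hq, hqG, hqp⟩ : ∃ q, q.Prime ∧ q ∣ Nat.card G ∧ q ≠ p := by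
    by_contra hcon
    push Not at hcon
    exact hG (IsPGroup.of_card (Nat.eq_prime_pow_of_unique_prime_dvd Nat.card_pos.ne'
      fun hd hdG => hcon _ hd hdG))
  haveI : Fact q.Prime := ⟨hq⟩
  have hqH : q ∣ Nat.card H := by
    rw [← H.card_mul_index, hidx] at hqG
    exact (hq.dvd_mul.1 hqG).resolve_right fun h => hqp ((Nat.prime_dvd_prime_iff_eq hq hp).1 (hq.dvd_of_dvd_pow h))
  obtain ⟨Q⟩ : Nonempty (Sylow q H) := inferInstance
  haveI := hnil
  have hSn : ∀ {r : ℕ} [Fact r.Prime] (R : Sylow r H), (R : Subgroup H).Normal :=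
    fun R => Sylow.normal_of_normalizerCondition Group.normalizerCondition_of_isNilpotent R
  haveI := hSn Q
  haveI := Q.characteristic_of_normal (hSn Q)
  -- a central element of `H` of `q`-power order
  haveI : Nontrivial (Q : Subgroup H) := (Subgroup.nontrivial_iff_ne_bot _).2 (Q.ne_bot_of_dvd_card hqH)
  obtain ⟨⟨a, haz⟩, ha1⟩ := @exists_ne _ Q.isPGroup'.center_nontrivial 1
  have hac : Subgroup.centralizer ({(a : H)} : Set H) = ⊤ := by
    refine Subgroup.eq_top_of_card_eq _ (Nat.dvd_antisymm (Subgroup.card_subgroup_dvd_card _) ?_)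
    rw [Nat.dvd_iff_prime_pow_dvd_dvd]
    intro r m hr hd
    haveI : Fact r.Prime := ⟨hr⟩
    obtain ⟨R⟩ : Nonempty (Sylow r H) := inferInstance
    have hle : (R : Subgroup H) ≤ Subgroup.centralizer ({(a : H)} : Set H) := by
      intro b hb
      rw [Subgroup.mem_centralizer_singleton_iff]
      by_cases hrq : r = q
      · subst hrq
        have hb' : b ∈ (Q : Subgroup H) := by
          haveI := Sylow.unique_of_normal Q (hSn Q)
          rwa [Subsingleton.elim Q R]
        exact congrArg Subtype.val (Subgroup.mem_center_iff.1 haz ⟨b, hb'⟩)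
      · exact (Subgroup.commute_of_normal_of_disjoint _ _ (hSn R) (hSn Q)
          (IsPGroup.disjoint_of_ne r q hrq _ _ R.isPGroup' Q.isPGroup') b a hb a.2).eq
    refine dvd_trans ?_ (Subgroup.card_dvd_of_le hle)
    rw [R.card_eq_multiplicity]
    exact pow_dvd_pow _ ((Nat.Prime.pow_dvd_iff_le_factorization hr Nat.card_pos.ne').1 hd)
  set M := (Q : Subgroup H).map H.subtype ⊓ Subgroup.centralizer (H : Set G) with hM
  haveI : ((Q : Subgroup H).map H.subtype).Normal := ConjAct.normal_of_characteristic_of_normal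
  haveI hMn : M.Normal := Subgroup.normal_inf_normal _ _
  have hMH : M ≤ H := inf_le_left.trans (Subgroup.map_subtype_le _)
  have hMab : ∀ u ∈ M, ∀ w ∈ M, u * w = w * u := fun u hu w hw => hw.2 u (hMH hu)
  have hMq : IsPGroup q M := (Q.isPGroup'.map H.subtype).to_le inf_le_left
  have hvM : ((a : H) : G) ∈ M := by
    refine ⟨⟨(a : H), a.2, rfl⟩, fun b hb => ?_⟩
    have h1 : (⟨b, hb⟩ : H) ∈ Subgroup.centralizer ({(a : H)} : Set H) := hac ▸ Subgroup.mem_top _
    exact congrArg Subtype.val (Subgroup.mem_centralizer_singleton_iff.1 h1)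
  letI cg : CommGroup M :=
    { (inferInstance : Group M) with mul_comm := fun u w => Subtype.ext (hMab u u.2 w w.2) }
  let ρ : G ⧸ H →* AddMonoid.End (Additive M) := QuotientGroup.lift H (KegelHughes.conjEnd M) (by
    intro g hg
    rw [MonoidHom.mem_ker]
    refine AddMonoidHom.ext fun v => ?_
    apply Additive.toMul.injective
    apply Subtype.ext
    refine (KegelHughes.conjEnd_apply M g v).trans ?_
    rw [(Additive.toMul v).2.2 g hg, mul_inv_cancel_right]
    rfl)
  haveI : Nontrivial (G ⧸ H) := QuotientGroup.nontrivial_iff.2 hH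
  obtain ⟨⟨z₀, hz₀⟩, hz₀1⟩ := @exists_ne _ hKp.center_nontrivial 1
  have hz1 : z₀ ≠ 1 := fun e => hz₀1 (Subtype.ext e)
  have hexp : ∀ c : G ⧸ H, c ^ p = 1 := fun c => by
    obtain ⟨g, rfl⟩ := QuotientGroup.mk_surjective c
    rw [← QuotientGroup.mk_pow]
    by_cases hg : g ∈ H
    · exact (QuotientGroup.eq_one_iff _).2 (H.pow_mem hg p)
    · rw [hout g hg]; rfl
  obtain ⟨c₀, hc₀⟩ : ∃ c : G ⧸ H, c ∉ Subgroup.zpowers z₀ := by
    by_contra hcon
    push Not at hcon
    have := congrArg (fun A : Subgroup (G ⧸ H) => Nat.card A) (eq_top_iff.2 fun c _ => hcon c : Subgroup.zpowers z₀ = ⊤)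
    simp only [Nat.card_zpowers, orderOf_eq_prime (hexp z₀) hz1, Nat.card_congr (Subgroup.topEquiv).toEquiv, hk] at this
    have h2 : p ^ 1 = p ^ (k + 1 + 1) := by rw [pow_one]; exact this
    have := Nat.pow_right_injective hp.two_le h2
    omega
  have hnorm : ∀ j, ∀ v : Additive M, ∑ i ∈ Finset.range p, ρ ((z₀ ^ j * c₀) ^ i) v = 0 := by
    intro j v
    obtain ⟨y, hy⟩ := QuotientGroup.mk_surjective (z₀ ^ j * c₀)
    have hyH : y ∉ H := by
      intro hyH
      rw [← QuotientGroup.eq_one_iff, hy] at hyH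
      refine hc₀ ?_
      rw [eq_inv_of_mul_eq_one_right hyH]
      exact Subgroup.inv_mem _ (Subgroup.pow_mem _ (Subgroup.mem_zpowers z₀) j)
    have h0 := KegelHughes.norm_eq_zero M hMab y (hout y hyH) (fun w hw => hout _ fun h => hyH (by
      have := H.mul_mem (H.inv_mem (hMH hw)) h
      rwa [inv_mul_cancel_left] at this)) v
    rw [← hy]
    exact h0
  have key := KegelHughes.nsmul_fixed_of_norms ρ hp c₀ z₀
    (Subgroup.mem_center_iff.1 hz₀ c₀) (hexp z₀) hnorm (Additive.ofMul ⟨((a : H) : G), hvM⟩)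
  obtain ⟨g, rfl⟩ := QuotientGroup.mk_surjective z₀
  have hgH : g ∉ H := fun h => hz1 ((QuotientGroup.eq_one_iff g).2 h)
  set v : M := ⟨((a : H) : G), hvM⟩
  have hcop : ∀ u : M, u ^ p = 1 → u = 1 := by
    intro u hu
    obtain ⟨m, hm⟩ := IsPGroup.iff_orderOf.1 hMq u
    rw [← orderOf_eq_one_iff]
    exact Nat.eq_one_of_dvd_coprimes (Nat.Coprime.pow_left m ((Nat.coprime_primes hq hp).2 hqp))
      (hm ▸ dvd_rfl) (orderOf_dvd_of_pow_eq_one hu)
  have hfix : Additive.toMul (KegelHughes.conjEnd M g (Additive.ofMul v)) = v := by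
    have h1 : Additive.toMul (KegelHughes.conjEnd M g (Additive.ofMul v)) ^ p = v ^ p :=
      congrArg Additive.toMul key
    rw [← mul_inv_eq_one]
    refine hcop _ ?_
    rw [mul_pow, inv_pow, h1, mul_inv_cancel]
  have hcomm : Commute ((v : M) : G) g := by
    have h1 := congrArg Subtype.val hfix
    rw [KegelHughes.conjEnd_apply] at h1
    exact (mul_inv_eq_iff_eq_mul.1 h1).symm
  have hvg : ((v : M) : G) * g ∉ H := fun h => hgH (by
    have := H.mul_mem (H.inv_mem (hMH v.2)) h
    rwa [inv_mul_cancel_left] at this)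
  have hvp := hout _ hvg
  rw [hcomm.mul_pow, hout g hgH, mul_one] at hvp
  have hv1 : ((a : H) : G) = 1 := congrArg Subtype.val (hcop v (Subtype.ext hvp))
  exact ha1 (Subtype.ext (Subtype.ext (Subtype.ext hv1)))

end Cfsg.Agent.S4249
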