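import Cfsg.Statements.S4250
import Cfsg.Agent.Lib.Transfer.Alperin
import Mathlib.GroupTheory.Focal

set_option autoImplicit false
open Cfsg
open scoped commutatorElement Pointwise

namespace Cfsg.Agent.S4250

open Cfsg.Agent.Alperin

variable {G : Type*} [Group G] [Finite G] (p : ℕ) [Fact p.Prime] (P : Sylow p G)

/-- The right-hand side of the local form of the focal subgroup theorem. -/
abbrev rhs : Subgroup G :=
  ⁅(P : Subgroup G), Subgroup.normalizer ((P : Subgroup G) : Set G)⁆ ⊔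
    ⨆ (Q : Sylow p G) (_ : Tame P Q)
      (x : G) (_ : x ∈ Subgroup.normalizer (((P : Subgroup G) ⊓ (Q : Subgroup G) : Subgroup G) : Set G) ∧ ∃ k : ℕ, orderOf x = p ^ k),
      ⁅(P : Subgroup G) ⊓ (Q : Subgroup G), Subgroup.zpowers x⁆

theorem rhs_le : rhs p P ≤ (P : Subgroup G) ⊓ commutator G := by
  refine sup_le (le_inf (Subgroup.le_normalizer_iff_commutator_le_left.1 le_rfl)
    (Subgroup.commutator_mono le_top le_top)) ?_
  refine iSup_le fun Q => iSup_le fun _ => iSup_le fun x => iSup_le fun hx =>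
    le_inf (le_trans (Subgroup.le_normalizer_iff_commutator_le_left.1 (Subgroup.zpowers_le.2 hx.1)) inf_le_left)
      (Subgroup.commutator_mono le_top le_top)

theorem key : ∀ A : Subgroup G, A ≤ (P : Subgroup G) → ∀ g : G, cjs g (A : Set G) ⊆ (P : Set G) →
    ∀ a ∈ A, a⁻¹ * (g⁻¹ * a * g) ∈ rhs p P := by
  suffices H : ∀ n : ℕ, ∀ A : Subgroup G, A ≤ (P : Subgroup G) → Nat.card (P : Subgroup G) < n + Nat.card A →
      ∀ g : G, cjs g (A : Set G) ⊆ (P : Set G) → ∀ a ∈ A, a⁻¹ * (g⁻¹ * a * g) ∈ rhs p P from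
    fun A hA g hg a ha => H (Nat.card (P : Subgroup G)) A hA (Nat.lt_add_of_pos_right Nat.card_pos) g hg a ha
  intro n
  induction n with
  | zero =>
    intro A hA hn
    have := Nat.le_of_dvd Nat.card_pos (Subgroup.card_dvd_of_le hA)
    omega
  | succ n ih =>
    intro A hA hn g hg
    have step : ∀ Q : Sylow p G, Tame P Q →
        Nat.card A ≤ Nat.card ((P : Subgroup G) ⊓ (Q : Subgroup G) : Subgroup G) →
        ∀ x ∈ Subgroup.normalizer (((P : Subgroup G) ⊓ (Q : Subgroup G) : Subgroup G) : Set G),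
        ∀ a ∈ (P : Subgroup G) ⊓ (Q : Subgroup G), a⁻¹ * (x⁻¹ * a * x) ∈ rhs p P := by
      intro Q hQ hAH x hx
      set H := (P : Subgroup G) ⊓ (Q : Subgroup G) with hH
      set N := Subgroup.normalizer (H : Set G) with hN
      set S := (P : Subgroup G) ⊓ N with hS
      have hHS : H ≤ S := le_inf inf_le_left Subgroup.le_normalizer
      by_cases hSH : H = (P : Subgroup G)
      · intro a ha
        refine Subgroup.mem_sup_left ?_
        rw [show a⁻¹ * (x⁻¹ * a * x) = ⁅a⁻¹, x⁻¹⁆ by rw [commutatorElement_def]; group]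
        refine Subgroup.commutator_mem_commutator ((P : Subgroup G).inv_mem (hSH ▸ ha)) (inv_mem ?_)
        rw [hN, hSH] at hx
        exact hx
      have hlt : H < S := by
        have h1 := Cfsg.Agent.Fusion.lt_inf_normalizer (Cfsg.Agent.Fusion.sylow_isNilpotent P) (lt_of_le_of_ne inf_le_left hSH)
        exact h1
      have hcardlt : Nat.card H < Nat.card S := lt_of_not_ge fun h =>
        hlt.ne (Subgroup.eq_of_le_of_card_ge hlt.le h)
      -- `M` is generated by the `p`-elements of `N`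
      set M := Subgroup.closure {y : G | y ∈ N ∧ ∃ k : ℕ, orderOf y = p ^ k} with hM
      have hMN : M ≤ N := (Subgroup.closure_le _).2 fun y hy => hy.1
      have hSp : IsPGroup p S := P.isPGroup'.to_le inf_le_left
      have hpM : ∀ T : Subgroup G, IsPGroup p T → T ≤ N → T ≤ M := by
        intro T hT hTN y hy
        obtain ⟨k, hk⟩ := IsPGroup.iff_orderOf.1 hT ⟨y, hy⟩
        exact Subgroup.subset_closure ⟨hTN hy, k, by rw [← hk, Subgroup.orderOf_mk]⟩
      have hSidx : ¬ p ∣ S.relIndex N := hQ.1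
      have hxS : cj x S ≤ N := by
        rw [← cj_eq_of_mem_normalizer (Subgroup.le_normalizer hx : x ∈ Subgroup.normalizer (N : Set G))]
        exact cj_mono x inf_le_right
      have hxSp : IsPGroup p (cj x S) := hSp.of_equiv (Subgroup.equivSMul (MulAut.conj x⁻¹) S)
      have hidxM : ∀ T : Subgroup G, IsPGroup p T → T ≤ N → ¬ p ∣ T.relIndex N → ¬ p ∣ T.relIndex M := by
        intro T hT hTN hTi hd
        exact hTi (hd.trans (Dvd.intro _ (Subgroup.relIndex_mul_relIndex T M N (hpM T hT hTN) hMN)))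
      have hxSidx : ¬ p ∣ (cj x S).relIndex N := by
        have := relIndex_cj x S N
        rw [cj_eq_of_mem_normalizer (Subgroup.le_normalizer hx : x ∈ Subgroup.normalizer (N : Set G))] at this
        rwa [this]
      obtain ⟨w, hwM, hw⟩ := exists_conj_sylow hSp hxSp (hpM S hSp inf_le_right) (hpM _ hxSp hxS)
        (hidxM S hSp inf_le_right hSidx) (hidxM _ hxSp hxS hxSidx)
      set z := x * w⁻¹ with hz
      have hzN : z ∈ N := N.mul_mem hx (N.inv_mem (hMN hwM))
      have hzS : cj z S = S := by rw [hz, ← cj_cj, ← hw, cj_cj, mul_inv_cancel, cj, inv_one, map_one, one_smul]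
      have hconj : ∀ y ∈ N, ∀ b ∈ H, y⁻¹ * b * y ∈ H := fun y hy b hb =>
        (Subgroup.mem_normalizer_iff''.1 hy b).1 hb
      have hmem : ∀ y ∈ M, ∀ b ∈ H, b⁻¹ * (y⁻¹ * b * y) ∈ rhs p P := by
        intro y hy
        induction hy using Subgroup.closure_induction with
        | mem y hy =>
          intro b hb
          refine Subgroup.mem_sup_right ?_
          refine Subgroup.mem_iSup_of_mem Q (Subgroup.mem_iSup_of_mem hQ
            (Subgroup.mem_iSup_of_mem y (Subgroup.mem_iSup_of_mem hy ?_)))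
          rw [show b⁻¹ * (y⁻¹ * b * y) = ⁅b⁻¹, y⁻¹⁆ by rw [commutatorElement_def]; group]
          exact Subgroup.commutator_mem_commutator (inv_mem hb) (inv_mem (Subgroup.mem_zpowers y))
        | one => intro b _; simp
        | mul y₁ y₂ h₁ _ ih₁ ih₂ =>
          intro b hb
          have hb' := hconj y₁ (hMN h₁) b hb
          have := mul_mem (ih₁ b hb) (ih₂ _ hb')
          rwa [show b⁻¹ * (y₁⁻¹ * b * y₁) * ((y₁⁻¹ * b * y₁)⁻¹ * (y₂⁻¹ * (y₁⁻¹ * b * y₁) * y₂)) =
            b⁻¹ * ((y₁ * y₂)⁻¹ * b * (y₁ * y₂)) by group] at this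
        | inv y hy ih =>
          intro b hb
          have hb' : y * b * y⁻¹ ∈ H := (Subgroup.mem_normalizer_iff.1 (hMN hy) b).1 hb
          have := inv_mem (ih _ hb')
          rwa [show ((y * b * y⁻¹)⁻¹ * (y⁻¹ * (y * b * y⁻¹) * y))⁻¹ = b⁻¹ * (y⁻¹⁻¹ * b * y⁻¹) by group] at this
      intro a ha
      have h1 : a⁻¹ * (z⁻¹ * a * z) ∈ rhs p P := ih S inf_le_left (by omega) z
        (by rw [← coe_cj, hzS]; exact fun y hy => hy.1) a (hHS ha)
      have h2 := hmem w hwM _ (hconj z hzN a ha)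
      have := mul_mem h1 h2
      rwa [show a⁻¹ * (z⁻¹ * a * z) * ((z⁻¹ * a * z)⁻¹ * (w⁻¹ * (z⁻¹ * a * z) * w)) =
        a⁻¹ * ((z * w)⁻¹ * a * (z * w)) by group, hz, inv_mul_cancel_right] at this
    have hchain := chain_of_conj P (A : Set G) g hA hg
    have main : ∀ (B : Set G) (g : G), Chain P B g → Nat.card A ≤ B.ncard →
        ∀ a ∈ B, a⁻¹ * (g⁻¹ * a * g) ∈ rhs p P := by
      intro B g hB
      induction hB with
      | nil => intro _ a _; simp
      | @cons B x g Q hQ hx hBH _ ihc =>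
        intro hc a ha
        have hAH : Nat.card A ≤ Nat.card ((P : Subgroup G) ⊓ (Q : Subgroup G) : Subgroup G) := by
          refine hc.trans ((Set.ncard_le_ncard hBH (Set.toFinite _)).trans (le_of_eq ?_))
          exact (Nat.card_coe_set_eq _).symm
        have hinj : Function.Injective (fun a : G => x⁻¹ * a * x) := fun u v e =>
          mul_left_cancel (mul_right_cancel e)
        have h1 := step Q hQ hAH x hx a (hBH ha)
        have h2 := ihc (by rw [cjs, Set.ncard_image_of_injective _ hinj]; exact hc) _ ⟨a, ha, rfl⟩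
        have := mul_mem h1 h2
        rwa [show a⁻¹ * (x⁻¹ * a * x) * ((x⁻¹ * a * x)⁻¹ * (g⁻¹ * (x⁻¹ * a * x) * g)) =
          a⁻¹ * ((x * g)⁻¹ * a * (x * g)) by group] at this
    exact main _ g hchain (le_of_eq (Nat.card_coe_set_eq _))

/-- Let P be a Sylow p-subgroup of a finite group G. Call an intersection H = P ∩ Q with a Sylow p-subgroup Q tame when N_P(H) and N_Q(H) are Sylow p-subgroups of N_G(H). Then P ∩ G′ is generated by [P, N_G(P)] together with the commutator subgroups [P ∩ Q, ⟨x⟩] for all tame intersections P ∩ Q and all p-elements x of N_G(P ∩ Q). -/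
theorem result {G : Type*} [Group G] [Finite G] (p : ℕ) [Fact p.Prime] (P : Sylow p G) :
    (P : Subgroup G) ⊓ commutator G =
      ⁅(P : Subgroup G), Subgroup.normalizer ((P : Subgroup G) : Set G)⁆ ⊔
        ⨆ (Q : Sylow p G) (_ : (¬ p ∣ ((P : Subgroup G) ⊓ Subgroup.normalizer (((P : Subgroup G) ⊓ (Q : Subgroup G) : Subgroup G) : Set G)).relIndex (Subgroup.normalizer (((P : Subgroup G) ⊓ (Q : Subgroup G) : Subgroup G) : Set G)) ∧ ¬ p ∣ ((Q : Subgroup G) ⊓ Subgroup.normalizer (((P : Subgroup G) ⊓ (Q : Subgroup G) : Subgroup G) : Set G)).relIndex (Subgroup.normalizer (((P : Subgroup G) ⊓ (Q : Subgroup G) : Subgroup G) : Set G))))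
          (x : G) (_ : x ∈ Subgroup.normalizer (((P : Subgroup G) ⊓ (Q : Subgroup G) : Subgroup G) : Set G) ∧ ∃ k : ℕ, orderOf x = p ^ k),
          ⁅(P : Subgroup G) ⊓ (Q : Subgroup G), Subgroup.zpowers x⁆ := by
  classical
  have hF := rhs_le p P
  refine le_antisymm ?_ hF
  rw [inf_comm, Subgroup.commutator_inf_eq_focalSubgroup, Subgroup.focalSubgroup_def, Subgroup.closure_le]
  rintro _ ⟨hz, x, hx, u, rfl⟩
  have h2 : u * x⁻¹ * u⁻¹ ∈ (P : Subgroup G) := by
    have := (P : Subgroup G).mul_mem ((P : Subgroup G).inv_mem hx) hz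
    rwa [commutatorElement_def, show x⁻¹ * (x * u * x⁻¹ * u⁻¹) = u * x⁻¹ * u⁻¹ by group] at this
  have := key p P (Subgroup.zpowers x⁻¹) (Subgroup.zpowers_le.2 ((P : Subgroup G).inv_mem hx)) u⁻¹
    (by
      rintro _ ⟨_, ⟨i, rfl⟩, rfl⟩
      show u⁻¹⁻¹ * x⁻¹ ^ i * u⁻¹ ∈ (P : Subgroup G)
      rw [inv_inv, ← conj_zpow]
      exact (P : Subgroup G).zpow_mem h2 i) x⁻¹ (Subgroup.mem_zpowers _)
  rw [inv_inv, inv_inv] at this
  rw [SetLike.mem_coe, commutatorElement_def]
  show x * u * x⁻¹ * u⁻¹ ∈ rhs p P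
  rwa [show x * u * x⁻¹ * u⁻¹ = x * (u * x⁻¹ * u⁻¹) by group]

end Cfsg.Agent.S4250
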