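import Cfsg.Statements.S4251
import Cfsg.Agent.Lib.Transfer.Alperin

set_option autoImplicit false
open Cfsg
open scoped Pointwise

namespace Cfsg.Agent.S4251

/-- Let P be a Sylow p-subgroup of a finite group G. Call an intersection H = P ∩ Q with a Sylow p-subgroup Q tame when N_P(H) and N_Q(H) are Sylow p-subgroups of N_G(H). If N_G(H)/C_G(H) is a p-group for every nontrivial tame intersection H = P ∩ Q, then G has a normal p-complement. -/
theorem result {G : Type*} [Group G] [Finite G] (p : ℕ) [Fact p.Prime] (P : Sylow p G)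
    (h : ∀ Q : Sylow p G, (P : Subgroup G) ⊓ (Q : Subgroup G) ≠ ⊥ → (¬ p ∣ ((P : Subgroup G) ⊓ Subgroup.normalizer (((P : Subgroup G) ⊓ (Q : Subgroup G) : Subgroup G) : Set G)).relIndex (Subgroup.normalizer (((P : Subgroup G) ⊓ (Q : Subgroup G) : Subgroup G) : Set G)) ∧ ¬ p ∣ ((Q : Subgroup G) ⊓ Subgroup.normalizer (((P : Subgroup G) ⊓ (Q : Subgroup G) : Subgroup G) : Set G)).relIndex (Subgroup.normalizer (((P : Subgroup G) ⊓ (Q : Subgroup G) : Subgroup G) : Set G))) →
      IsPGroup p (Subgroup.normalizer (((P : Subgroup G) ⊓ (Q : Subgroup G) : Subgroup G) : Set G) ⧸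
        (Subgroup.centralizer (((P : Subgroup G) ⊓ (Q : Subgroup G) : Subgroup G) : Set G)).subgroupOf
          (Subgroup.normalizer (((P : Subgroup G) ⊓ (Q : Subgroup G) : Subgroup G) : Set G)))) :
    Cfsg.HasNormalPComplement p G := by
  classical
  have main : ∀ (B : Set G) (g : G), Alperin.Chain P B g → ∀ a ∈ B, a ∈ (P : Subgroup G) →
      ∃ v ∈ (P : Subgroup G), v⁻¹ * a * v = g⁻¹ * a * g := by
    intro B g hB
    induction hB with
    | nil => intro a _ _; exact ⟨1, one_mem _, rfl⟩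
    | @cons B x g Q hQ hx hBH _ ihc =>
      intro a ha haP
      set H := (P : Subgroup G) ⊓ (Q : Subgroup G) with hH
      have hxH : x⁻¹ * a * x ∈ H := (Subgroup.mem_normalizer_iff''.1 hx a).1 (hBH ha)
      obtain ⟨v, hvP, hv0⟩ := ihc _ ⟨a, ha, rfl⟩ hxH.1
      have hv : v⁻¹ * (x⁻¹ * a * x) * v = g⁻¹ * (x⁻¹ * a * x) * g := hv0
      by_cases hbot : H = ⊥
      · have h1 : a = 1 := (Subgroup.eq_bot_iff_forall _).1 hbot a (hBH ha)
        exact ⟨1, one_mem _, by rw [h1]; simp⟩
      set N := Subgroup.normalizer (H : Set G) with hN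
      set C := (Subgroup.centralizer (H : Set G)).subgroupOf N with hC
      set S := (P : Subgroup G).subgroupOf N with hS
      have hq : IsPGroup p (N ⧸ C) := h Q hbot hQ
      have htop : S ⊔ C = ⊤ := by
        rw [← Subgroup.index_eq_one]
        obtain ⟨k, hk⟩ := IsPGroup.iff_card.1 hq
        have h1 : (S ⊔ C).index ∣ C.index := Subgroup.index_dvd_of_le le_sup_right
        have h2 : (S ⊔ C).index ∣ S.index := Subgroup.index_dvd_of_le le_sup_left
        have h3 : ¬ p ∣ S.index := by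
          have := hQ.1
          rw [Subgroup.inf_relIndex_right] at this
          exact this
        rw [Subgroup.index_eq_card C, hk] at h1
        exact Nat.eq_one_of_dvd_coprimes
          (Nat.Coprime.pow_left k ((Nat.Prime.coprime_iff_not_dvd (Fact.out : p.Prime)).2 h3)) h1 h2
      have hmem : (⟨x, hx⟩ : N) ∈ (↑(C ⊔ S) : Set N) := by rw [sup_comm, htop]; trivial
      rw [Subgroup.normal_mul] at hmem
      obtain ⟨c, hc, s, hs, hcs⟩ := hmem
      have hcs' : (c : G) * (s : G) = x := congrArg Subtype.val hcs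
      have hca : (c : G)⁻¹ * a * (c : G) = a := by
        rw [mul_assoc, (show a * (c : G) = (c : G) * a from hc a (hBH ha)), inv_mul_cancel_left]
      refine ⟨(s : G) * v, (P : Subgroup G).mul_mem hs hvP, ?_⟩
      have h4 : x⁻¹ * a * x = (s : G)⁻¹ * a * (s : G) := by
        rw [← hcs', show ((c : G) * (s : G))⁻¹ * a * ((c : G) * (s : G)) =
          (s : G)⁻¹ * ((c : G)⁻¹ * a * (c : G)) * (s : G) by group, hca]
      rw [show ((s : G) * v)⁻¹ * a * ((s : G) * v) = v⁻¹ * ((s : G)⁻¹ * a * (s : G)) * v by group, ← h4, hv]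
      group
  refine Fusion.hasNormalPComplement_of_controlsFusion P fun x hx g hg => ?_
  obtain ⟨v, hv, he⟩ := main {x} g⁻¹ (Alperin.chain_of_conj P {x} g⁻¹ (Set.singleton_subset_iff.2 hx)
    (by rintro _ ⟨_, rfl, rfl⟩; rw [inv_inv]; exact hg)) x rfl hx
  refine ⟨v⁻¹, inv_mem hv, ?_⟩
  rw [inv_inv, he, inv_inv]

end Cfsg.Agent.S4251
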