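import Cfsg.Statements.S4253


set_option autoImplicit false
open Cfsg
open scoped Pointwise

namespace Cfsg.Agent.S4253

/-- Let H be a Frobenius complement in a finite group G (a nontrivial proper subgroup meeting each conjugate gHg⁻¹ with g outside H trivially). Then in the action of G on the left cosets of H by left multiplication, no non-identity element of G fixes two distinct cosets. -/
theorem result {G : Type*} [Group G] [Finite G] (H : Subgroup G) (hH : Cfsg.IsFrobeniusComplement H)
    (g : G) (hg : g ≠ 1) (a b : G ⧸ H) (ha : g • a = a) (hb : g • b = b) : a = b := by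
  classical
  obtain ⟨a, rfl⟩ := QuotientGroup.mk_surjective a
  obtain ⟨b, rfl⟩ := QuotientGroup.mk_surjective b
  have ha' : a⁻¹ * g * a ∈ H := by
    have := QuotientGroup.eq.1 ha.symm
    simpa [mul_assoc] using this
  have hb' : b⁻¹ * g * b ∈ H := by
    have := QuotientGroup.eq.1 hb.symm
    simpa [mul_assoc] using this
  rw [QuotientGroup.eq]
  by_contra hne
  have h := hH.2.2 (a⁻¹ * b) hne
  have hmem : a⁻¹ * g * a ∈ H ⊓ (MulAut.conj (a⁻¹ * b) • H) := by
    refine ⟨ha', b⁻¹ * g * b, hb', ?_⟩
    simp [mul_assoc]
  rw [h, Subgroup.mem_bot] at hmem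
  exact hg (by simpa [mul_assoc] using congrArg (fun t => a * t * a⁻¹) hmem)

end Cfsg.Agent.S4253
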