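import Cfsg.Statements.S4257
import Cfsg.Agent.Lib.FGStruct.ClassSizeGraph

set_option autoImplicit false
open Cfsg

namespace Cfsg.Agent.S4257

/-- Let G be a finite group. Call a prime a vertex if it divides some conjugacy class size of G, and two distinct vertices adjacent if their product divides some class size. If this graph is connected, then its diameter is at most 3: any two distinct vertices p and q are adjacent, or joined through one or two intermediate vertices. -/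
theorem result {G : Type*} [Group G] [Finite G]
    (hconn : ∀ S : Set ℕ, (∃ p ∈ S, (p.Prime ∧ ∃ g : G, p ∣ (Subgroup.centralizer ({g} : Set G)).index)) → (∃ q ∉ S, (q.Prime ∧ ∃ g : G, q ∣ (Subgroup.centralizer ({g} : Set G)).index)) →
      ∃ p q : ℕ, (p.Prime ∧ ∃ g : G, p ∣ (Subgroup.centralizer ({g} : Set G)).index) ∧ (q.Prime ∧ ∃ g : G, q ∣ (Subgroup.centralizer ({g} : Set G)).index) ∧ p ∈ S ∧ q ∉ S ∧ (∃ g : G, p * q ∣ (Subgroup.centralizer ({g} : Set G)).index))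
    (p q : ℕ) (hp : (p.Prime ∧ ∃ g : G, p ∣ (Subgroup.centralizer ({g} : Set G)).index)) (hq : (q.Prime ∧ ∃ g : G, q ∣ (Subgroup.centralizer ({g} : Set G)).index)) (hpq : p ≠ q) :
    (∃ g : G, p * q ∣ (Subgroup.centralizer ({g} : Set G)).index) ∨ (∃ r : ℕ, (r.Prime ∧ ∃ g : G, r ∣ (Subgroup.centralizer ({g} : Set G)).index) ∧ r ≠ p ∧ r ≠ q ∧ (∃ g : G, p * r ∣ (Subgroup.centralizer ({g} : Set G)).index) ∧ (∃ g : G, r * q ∣ (Subgroup.centralizer ({g} : Set G)).index)) ∨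
      (∃ r s : ℕ, (r.Prime ∧ ∃ g : G, r ∣ (Subgroup.centralizer ({g} : Set G)).index) ∧ (s.Prime ∧ ∃ g : G, s ∣ (Subgroup.centralizer ({g} : Set G)).index) ∧ r ≠ p ∧ s ≠ q ∧ r ≠ s ∧ r ≠ q ∧ s ≠ p ∧
        (∃ g : G, p * r ∣ (Subgroup.centralizer ({g} : Set G)).index) ∧ (∃ g : G, r * s ∣ (Subgroup.centralizer ({g} : Set G)).index) ∧ (∃ g : G, s * q ∣ (Subgroup.centralizer ({g} : Set G)).index)) := by
  by_contra hcon
  push Not at hcon
  obtain ⟨hA, hB, hC⟩ := hcon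
  have sym : ∀ a b : ℕ, ClassSizeGraph.Adj G a b → ClassSizeGraph.Adj G b a :=
    fun a b ⟨x, hd⟩ => ⟨x, by rwa [mul_comm]⟩
  -- no walk of length two
  have two : ∀ w, (w.Prime ∧ ∃ g : G, w ∣ SingularClasses.cl g) → ClassSizeGraph.Near G p w →
      ClassSizeGraph.Near G w q → False := by
    intro w hw a b
    rcases a with rfl | ⟨g, hg⟩
    · rcases b with b | ⟨g, hg⟩
      · exact hpq b
      · exact hA g hg
    rcases b with rfl | ⟨g', hg'⟩
    · exact hA g hg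
    by_cases e1 : w = p
    · exact hA g' (e1 ▸ hg')
    by_cases e2 : w = q
    · exact hA g (e2 ▸ hg)
    exact hB w hw e1 e2 ⟨g, hg⟩ g' hg'
  refine ClassSizeGraph.not_far hconn hp hq fun m t t' ht ht' h1 h2 hn hn' => ?_
  have hn2 : ClassSizeGraph.Near G t' q := hn'.imp Eq.symm (sym _ _)
  have hmid : ClassSizeGraph.Near G t t' := ClassSizeGraph.near_of_dvd ht ht' h1 h2
  have hvt : t.Prime ∧ ∃ g : G, t ∣ SingularClasses.cl g := ⟨ht, m, h1⟩
  have hvt' : t'.Prime ∧ ∃ g : G, t' ∣ SingularClasses.cl g := ⟨ht', m, h2⟩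
  by_cases ett : t = t'
  · exact two t hvt hn (ett ▸ hn2)
  by_cases ept : p = t
  · exact two t' hvt' (ept ▸ hmid) hn2
  by_cases etq : t' = q
  · exact two t hvt hn (etq ▸ hmid)
  by_cases etp : t' = p
  · exact two p hp (Or.inl rfl) (etp ▸ hn2)
  by_cases eq' : t = q
  · exact two t hvt hn (Or.inl eq')
  obtain ⟨g1, hg1⟩ := hn.resolve_left ept
  obtain ⟨g2, hg2⟩ := hmid.resolve_left ett
  obtain ⟨g3, hg3⟩ := hn2.resolve_left etq
  exact hC t t' hvt hvt' (Ne.symm ept) etq ett eq' etp ⟨g1, hg1⟩ ⟨g2, hg2⟩ g3 hg3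

end Cfsg.Agent.S4257
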