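import Cfsg.Statements.S4260


set_option autoImplicit false
open Cfsg

namespace Cfsg.Agent.S4260

/-- Let H be a Hall subgroup of a finite group G (the order of H is coprime to its index) such that x^[G : H] lies in H for every x in G. Then H is normal in G. -/
theorem result {G : Type*} [Group G] [Finite G] (H : Subgroup G) (hHall : (Nat.card H).Coprime H.index)
    (hexp : ∀ x : G, x ^ H.index ∈ H) : H.Normal := by
  classical
  haveI : Fintype G := Fintype.ofFinite G
  have key : ∀ y : G, (orderOf y).Coprime H.index → y ∈ H := by
    intro y hy
    obtain ⟨c, hc⟩ := exists_pow_eq_self_of_coprime hy.symm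
    rw [← hc]
    exact pow_mem (hexp y) c
  refine ⟨fun a ha g => key _ ?_⟩
  have : orderOf (g * a * g⁻¹) = orderOf a := by
    have := orderOf_injective (MulAut.conj g).toMonoidHom (MulEquiv.injective _) a
    simpa using this
  rw [this]
  exact Nat.Coprime.coprime_dvd_left (Subgroup.orderOf_dvd_natCard H ha) hHall

end Cfsg.Agent.S4260
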