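import Cfsg.Statements.S4261
import Cfsg.Agent.Lib.FiniteGroup.IndexBasics
import Mathlib.GroupTheory.Nilpotent
import Mathlib.Algebra.Group.Subgroup.Order

set_option autoImplicit false
open Cfsg

namespace Cfsg.Agent.S4261

/-- Let M be a maximal subgroup of a finite solvable group G such that x^[G : M] lies in M for every x in G. Then M is normal in G. -/
theorem result {G : Type*} [Group G] [Finite G] (hG : Group.IsSolvable G) (M : Subgroup G) (hM : IsCoatom M)
    (hexp : ∀ x : G, x ^ M.index ∈ M) : M.Normal := by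
  classical
  set K := M.normalCore with hK
  set π := QuotientGroup.mk' K with hπdef
  have hπ : Function.Surjective π := QuotientGroup.mk'_surjective K
  have hker : π.ker = K := QuotientGroup.ker_mk' K
  have hKM : π.ker ≤ M := hker.le.trans (Subgroup.normalCore_le M)
  set M' := M.map π with hM'
  have hidx : M'.index = M.index := Subgroup.index_map_eq M hπ hKM
  have hcomap : M'.comap π = M := Subgroup.comap_map_eq_self hKM
  have hM'c : IsCoatom M' := by
    refine ⟨fun h => hM.1 (by rw [← hcomap, h, Subgroup.comap_top]), fun L hL => ?_⟩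
    have hlt : M < L.comap π := by
      have := (Subgroup.comap_lt_comap_of_surjective hπ).2 hL
      rwa [hcomap] at this
    rw [← Subgroup.map_comap_eq_self_of_surjective hπ L, hM.2 _ hlt,
      Subgroup.map_top_of_surjective π hπ]
  have hcore : ∀ L : Subgroup (G ⧸ K), L.Normal → L ≤ M' → L = ⊥ := by
    intro L hL hle
    have h1 : L.comap π ≤ K := by
      haveI := hL.comap π
      exact Subgroup.normal_le_normalCore.2 ((Subgroup.comap_mono hle).trans hcomap.le)
    rw [← Subgroup.map_comap_eq_self_of_surjective hπ L, Subgroup.map_eq_bot_iff, hker]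
    exact h1
  haveI := hG
  haveI : Group.IsSolvable (G ⧸ K) := inferInstance
  obtain ⟨n, hn⟩ := (this : Group.IsSolvable (G ⧸ K)).solvable
  have hne : ∃ m, derivedSeries (G ⧸ K) m = ⊥ := ⟨n, hn⟩
  rcases Nat.eq_zero_or_pos (Nat.find hne) with h0 | hpos
  · have h := Nat.find_spec hne
    rw [h0, derivedSeries_zero] at h
    exfalso
    apply hM'c.1
    rw [eq_top_iff, h]
    exact bot_le
  set A := derivedSeries (G ⧸ K) (Nat.find hne - 1) with hA
  haveI hAn : A.Normal := derivedSeries_normal _ _
  have hAne : A ≠ ⊥ := Nat.find_min hne (by omega)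
  have hAc : IsMulCommutative A := by
    rw [← Subgroup.commutator_self_eq_bot_iff]
    have h := Nat.find_spec hne
    rw [show Nat.find hne = (Nat.find hne - 1) + 1 by omega, derivedSeries_succ] at h
    exact h
  obtain ⟨p, hp, hpA⟩ := Nat.exists_prime_and_dvd (n := Nat.card A)
    (fun h => hAne (Subgroup.card_eq_one.1 h))
  haveI := Fact.mk hp
  let B : Subgroup (G ⧸ K) :=
    { carrier := {a | a ∈ A ∧ a ^ p = 1}
      one_mem' := ⟨one_mem _, one_pow _⟩
      mul_mem' := fun {a b} ha hb => ⟨mul_mem ha.1 hb.1, by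
        have hc : Commute a b := congrArg Subtype.val (hAc.is_comm.comm ⟨a, ha.1⟩ ⟨b, hb.1⟩)
        rw [hc.mul_pow, ha.2, hb.2, one_mul]⟩
      inv_mem' := fun {a} ha => ⟨inv_mem ha.1, by rw [inv_pow, ha.2, inv_one]⟩ }
  have hBn : B.Normal := ⟨fun b hb g => ⟨hAn.conj_mem b hb.1 g, by rw [conj_pow, hb.2, mul_one, mul_inv_cancel]⟩⟩
  have hBne : B ≠ ⊥ := by
    obtain ⟨a, ha⟩ := exists_prime_orderOf_dvd_card' p hpA
    intro h
    have hmem : (a : G ⧸ K) ∈ B := ⟨a.2, by
      have := pow_orderOf_eq_one a
      rw [ha] at this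
      exact congrArg Subtype.val this⟩
    rw [h, Subgroup.mem_bot] at hmem
    have : a = 1 := Subtype.ext hmem
    rw [this, orderOf_one] at ha
    exact hp.one_lt.ne ha
  have hnle : ¬ B ≤ M' := fun h => hBne (hcore B hBn h)
  have hsup : M' ⊔ B = ⊤ := by
    by_contra h
    have := hM'c.2 (M' ⊔ B) (lt_of_le_of_ne le_sup_left (fun e => hnle (e ▸ le_sup_right)))
    exact h this
  have hBp : IsPGroup p B := fun b => ⟨1, Subtype.ext (by rw [pow_one]; exact b.2.2)⟩
  obtain ⟨k, hk⟩ := hBp.index (M'.subgroupOf B)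
  have hMk : M'.index = p ^ k := by
    rw [← Subgroup.relIndex_top_right, ← hsup, FiniteGroup.relIndex_sup_of_normal]
    exact hk
  -- all `p'`-elements lie in `M'`
  let L : Subgroup (G ⧸ K) := Subgroup.closure {x | (orderOf x).Coprime p}
  have hLn : L.Normal := by
    refine ⟨fun a ha g => ?_⟩
    have h : L.map (MulAut.conj g).toMonoidHom ≤ L := by
      rw [MonoidHom.map_closure]
      refine Subgroup.closure_mono ?_
      rintro _ ⟨x, hx, rfl⟩
      simp only [Set.mem_setOf_eq]
      rw [orderOf_injective _ (MulEquiv.injective _)]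
      exact hx
    exact h ⟨a, ha, rfl⟩
  have hL : L = ⊥ := by
    refine hcore L hLn ((Subgroup.closure_le _).2 fun x hx => ?_)
    obtain ⟨c, hc⟩ := exists_pow_eq_self_of_coprime (Nat.Coprime.pow_left k (Nat.Coprime.symm hx))
    rw [← hc]
    refine pow_mem ?_ c
    obtain ⟨y, rfl⟩ := hπ x
    rw [← hMk, hidx, ← map_pow]
    exact Subgroup.mem_map_of_mem π (hexp y)
  have hPG : IsPGroup p (G ⧸ K) := by
    intro x
    have h0 : orderOf x ≠ 0 := (orderOf_pos x).ne'
    refine ⟨(orderOf x).factorization p, ?_⟩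
    set m := p ^ (orderOf x).factorization p
    have hdvd : m ∣ orderOf x := Nat.ordProj_dvd _ _
    have hmem : x ^ m ∈ L := Subgroup.subset_closure (by
      simp only [Set.mem_setOf_eq]
      rw [orderOf_pow_of_dvd (pow_ne_zero _ hp.ne_zero) hdvd]
      exact (Nat.coprime_ordCompl hp h0).symm)
    rw [hL, Subgroup.mem_bot] at hmem
    exact hmem
  haveI := hPG.isNilpotent
  have hM'n : M'.Normal :=
    Subgroup.NormalizerCondition.normal_of_coatom M' normalizerCondition_of_isNilpotent hM'c
  rw [← hcomap]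
  exact hM'n.comap π

end Cfsg.Agent.S4261
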