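import Cfsg.Statements.S4262
import Cfsg.Agent.Lib.PLocal.ZJNPC
import Cfsg.Agent.Lib.PLocal.FixedPointFree
import Cfsg.Agent.Lib.Solvable.Fitting
import Cfsg.Agent.Lib.Char.Burnside

set_option autoImplicit false
open Cfsg

namespace Cfsg.Agent.S4262

section

variable {G : Type*} [Group G] [Finite G]
  (h : ∀ g : G, g ∉ Subgroup.center G → IsCoatom (Subgroup.centralizer ({g} : Set G)))

include h in
/-- Commuting non-central elements of coprime orders have the same centralizer. -/
theorem centralizer_eq {u v : G} (hu : u ∉ Subgroup.center G) (hv : v ∉ Subgroup.center G)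
    (hc : Commute u v) (hco : (orderOf u).Coprime (orderOf v)) :
    Subgroup.centralizer ({u} : Set G) = Subgroup.centralizer ({v} : Set G) := by
  have key : ∀ {a b : G}, a ∉ Subgroup.center G → Commute a b →
      (orderOf a).Coprime (orderOf b) →
      Subgroup.centralizer ({a * b} : Set G) = Subgroup.centralizer ({a} : Set G) := by
    intro a b ha hab hco
    have hmem : a ∈ Subgroup.zpowers (a * b) := by
      have h1 : (a * b) ^ orderOf b = a ^ orderOf b := by
        rw [hab.mul_pow, pow_orderOf_eq_one, mul_one]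
      obtain ⟨m, hm⟩ := exists_pow_eq_self_of_coprime (x := a) hco.symm
      refine Subgroup.mem_zpowers_iff.2 ⟨((orderOf b * m : ℕ) : ℤ), ?_⟩
      rw [zpow_natCast, pow_mul, h1, hm]
    obtain ⟨i, hi⟩ := Subgroup.mem_zpowers_iff.1 hmem
    have hle : Subgroup.centralizer ({a * b} : Set G) ≤ Subgroup.centralizer ({a} : Set G) := by
      intro c hc
      rw [Subgroup.mem_centralizer_singleton_iff, ← hi]
      exact (Commute.zpow_right (Subgroup.mem_centralizer_singleton_iff.1 hc) i).eq
    have hnc : a * b ∉ Subgroup.center G := fun hz => ha (hi ▸ zpow_mem hz i)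
    exact hle.eq_or_lt.resolve_right fun hlt => (h a ha).1 ((h _ hnc).2 _ hlt)
  rw [← key hu hc hco, hc.eq, key hv hc.symm hco.symm]

omit [Finite G] in
theorem coprime_of_ne {p q i j : ℕ} {u v : G} (hp : p.Prime) (hq : q.Prime) (hne : q ≠ p)
    (hu : orderOf u = q ^ i) (hv : orderOf v = p ^ j) : (orderOf u).Coprime (orderOf v) := by
  rw [hu, hv]; exact ((Nat.coprime_primes hq hp).2 hne).pow _ _

include h in
/-- The centralizer of a non-central element of prime power order is nilpotent. -/
theorem isNilpotent_centralizer {p : ℕ} (hp : p.Prime) {x : G} (hx : x ∉ Subgroup.center G)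
    {k : ℕ} (hk : orderOf x = p ^ k) :
    Group.IsNilpotent (Subgroup.centralizer ({x} : Set G)) := by
  haveI := Fact.mk hp
  set M := Subgroup.centralizer ({x} : Set G) with hM
  have hcen : ∀ {q : ℕ}, q.Prime → q ≠ p → ∀ P : Sylow q M,
      (P : Subgroup M) ≤ Subgroup.center M := by
    intro q hq hne P y hy
    haveI := Fact.mk hq
    obtain ⟨i, hi⟩ := IsPGroup.iff_orderOf.1 P.isPGroup' ⟨y, hy⟩
    rw [Subgroup.orderOf_mk, ← Subgroup.orderOf_coe] at hi
    rw [Subgroup.mem_center_iff]
    intro m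
    apply Subtype.ext
    by_cases hyc : (y : G) ∈ Subgroup.center G
    · exact Subgroup.mem_center_iff.1 hyc m
    have heq := centralizer_eq h hyc hx (Subgroup.mem_centralizer_singleton_iff.1 y.2)
      (coprime_of_ne hp hq hne hi hk)
    exact Subgroup.mem_centralizer_singleton_iff.1 (heq.symm ▸ m.2 :
      (m : G) ∈ Subgroup.centralizer ({(y : G)} : Set G))
  refine ((Group.isNilpotent_of_finite_tfae (G := M)).out 0 3).2 ?_
  intro q hq P
  by_cases hne : q = p
  · subst hne
    rw [← Subgroup.normalizer_eq_top_iff]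
    refine Cfsg.Agent.FittingCores.eq_top_of_forall_sylow_le fun r hr => ?_
    by_cases hrq : r = q
    · subst hrq
      exact ⟨P, Subgroup.le_normalizer⟩
    · haveI := Fact.mk hr
      exact ⟨default, (hcen hr hrq default).trans (Subgroup.center_le_normalizer _)⟩
  · refine ⟨fun n hn g => ?_⟩
    rw [Subgroup.mem_center_iff.1 (hcen hq.out hne P hn) g, mul_inv_cancel_right]
    exact hn

include h in
theorem isSolvable_of_normal {p : ℕ} (hp : p.Prime) {x : G} (hx : x ∉ Subgroup.center G)
    {k : ℕ} (hk : orderOf x = p ^ k) (hn : (Subgroup.centralizer ({x} : Set G)).Normal) :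
    Group.IsSolvable G := by
  set M := Subgroup.centralizer ({x} : Set G) with hM
  haveI := hn
  haveI : Group.IsNilpotent M := isNilpotent_centralizer h hp hx hk
  set f := QuotientGroup.mk' M with hf
  obtain ⟨g, hg⟩ : ∃ g : G, g ∉ M := by
    by_contra hcon
    push Not at hcon
    exact (h x hx).1 (eq_top_iff.2 fun g _ => hcon g)
  haveI : IsCyclic (G ⧸ M) := by
    refine ⟨f g, fun y => ?_⟩
    have hlt : M < (Subgroup.zpowers (f g)).comap f := by
      refine lt_of_le_of_ne (fun m hm => ?_) fun he => hg (he ▸ Subgroup.mem_zpowers (f g))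
      rw [Subgroup.mem_comap, show f m = 1 from (QuotientGroup.eq_one_iff m).2 hm]
      exact one_mem _
    obtain ⟨z, rfl⟩ := QuotientGroup.mk'_surjective M y
    exact ((h x hx).2 _ hlt ▸ Subgroup.mem_top z : z ∈ (Subgroup.zpowers (f g)).comap f)
  haveI := IsCyclic.isMulCommutative (α := G ⧸ M)
  haveI : Group.IsSolvable (G ⧸ M) := Group.isSolvable_of_comm fun a b => mul_comm' a b
  exact Group.isSolvable_of_ker_le_range M.subtype f
    (le_of_eq (by rw [hf, QuotientGroup.ker_mk', Subgroup.range_subtype]))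

/-- Either a normal complement, or a non-central normal `q`-subgroup. -/
def Bad (q : ℕ) (G : Type*) [Group G] : Prop :=
  ∃ W : Subgroup G, W.Normal ∧ IsPGroup q W ∧ ¬ W ≤ Subgroup.center G

include h in
theorem complement_or_bad {q : ℕ} [hq : Fact q.Prime] (hq2 : q ≠ 2) :
    Cfsg.HasNormalPComplement q G ∨ Bad q G := by
  by_cases hc : ∀ Q : Sylow q G, (Q : Subgroup G) ≤ Subgroup.center G
  · exact Or.inl (Cfsg.Agent.Fusion.hasNormalPComplement_of_normalizer_le_centralizer default
      fun g _ => Subgroup.mem_centralizer_iff.2 fun m hm =>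
        (Subgroup.mem_center_iff.1 (hc default hm) g).symm)
  push Not at hc
  obtain ⟨Q, hQ⟩ := hc
  obtain ⟨x, hxQ, hx⟩ := SetLike.not_le_iff_exists.1 hQ
  obtain ⟨k, hk⟩ := IsPGroup.iff_orderOf.1 Q.isPGroup' ⟨x, hxQ⟩
  rw [Subgroup.orderOf_mk] at hk
  set M := Subgroup.centralizer ({x} : Set G) with hM
  haveI : Group.IsNilpotent M := isNilpotent_centralizer h hq.out hx hk
  obtain ⟨R₀⟩ : Nonempty (Sylow q M) := inferInstance
  haveI hR₀n : (R₀ : Subgroup M).Normal := by
    have hiff : Group.IsNilpotent M ↔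
        ∀ (p : ℕ) (_hp : Fact p.Prime) (P : Sylow p M), (P : Subgroup M).Normal :=
      (Group.isNilpotent_of_finite_tfae (G := M)).out 0 3
    exact hiff.1 ‹_› q hq R₀
  set R := (R₀ : Subgroup M).map M.subtype with hR
  have hMR : M ≤ Subgroup.normalizer (R : Set G) := by
    have h1 := Subgroup.le_normalizer_map M.subtype (H := (R₀ : Subgroup M))
    rwa [Subgroup.normalizer_eq_top_iff.2 hR₀n, ← MonoidHom.range_eq_map,
      Subgroup.range_subtype] at h1
  have hxM : x ∈ M := Subgroup.mem_centralizer_singleton_iff.2 rfl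
  have hxR : x ∈ R := by
    have hx' : (⟨x, hxM⟩ : M) ∈ (R₀ : Subgroup M) := by
      obtain ⟨P, hP⟩ := (IsPGroup.of_card (G := Subgroup.zpowers (⟨x, hxM⟩ : M)) (p := q) (n := k)
        (by rw [Nat.card_zpowers, Subgroup.orderOf_mk, hk])).exists_le_sylow
      haveI := Sylow.unique_of_normal R₀ hR₀n
      rw [Subsingleton.elim P R₀] at hP
      exact hP (Subgroup.mem_zpowers _)
    exact ⟨_, hx', rfl⟩
  have hRp : IsPGroup q R := R₀.isPGroup'.map _
  rcases hMR.eq_or_lt with heq | hlt
  swap
  · exact Or.inr ⟨R, Subgroup.normalizer_eq_top_iff.1 ((h x hx).2 _ hlt), hRp,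
      fun hle => hx (hle hxR)⟩
  -- `R` is a Sylow subgroup of `G`
  have hidx : ¬ q ∣ R.index := by
    intro hdvd
    obtain ⟨n, hn⟩ := IsPGroup.iff_card.1 hRp
    have hd : q ^ (n + 1) ∣ Nat.card G := by
      rw [← R.card_mul_index, hn, pow_succ]
      exact Nat.mul_dvd_mul_left _ hdvd
    obtain ⟨K, hK, hRK⟩ := Sylow.exists_subgroup_card_pow_succ hd hn
    have hKp : IsPGroup q K := IsPGroup.of_card hK
    haveI : (R.subgroupOf K).Normal := by
      refine Subgroup.normal_of_index_eq_minFac_card ?_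
      have h1 : (R.subgroupOf K).index * Nat.card R = Nat.card K := by
        rw [← Nat.card_congr (Subgroup.subgroupOfEquivOfLe hRK).toEquiv, mul_comm]
        exact Subgroup.card_mul_index _
      rw [hn, hK, pow_succ, mul_comm (q ^ n)] at h1
      rw [Nat.eq_of_mul_eq_mul_right (pow_pos hq.out.pos n) h1, hK, Nat.pow_minFac (by omega),
        hq.out.minFac_eq]
    have hKM : K ≤ M := by
      rw [heq]; exact (Subgroup.normal_subgroupOf_iff_le_normalizer hRK).1 inferInstance
    have hmax := R₀.is_maximal' (hKp.of_equiv (Subgroup.subgroupOfEquivOfLe hKM).symm)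
      fun r hr => hRK ⟨r, hr, rfl⟩
    have hKR : K = R := by
      rw [hR, ← hmax, Subgroup.map_subgroupOf_eq_of_le hKM]
    rw [hKR, hn, pow_succ] at hK
    exact absurd hK (Nat.ne_of_lt (lt_mul_of_one_lt_right (pow_pos hq.out.pos n) hq.out.one_lt))
  let S : Sylow q G := hRp.toSylow hidx
  have hS : (S : Subgroup G) = R := rfl
  set W := Cfsg.Agent.ZJ.zJ q False (S : Subgroup G) with hW
  have hxW : x ∈ W := by
    have hxc : ∀ a ∈ (S : Subgroup G), a * x = x * a := by
      rintro _ ⟨a, -, rfl⟩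
      exact Subgroup.mem_centralizer_singleton_iff.1 a.2
    obtain ⟨A, hA⟩ := Cfsg.Agent.ZJ.exists_isMaxIn q False (S : Subgroup G)
    refine ⟨Cfsg.Agent.ZJ.le_jSub hA (Cfsg.Agent.ZJ.mem_of_centralizes hA hxR
      (fun a ha => hxc a (hA.1 ha)) False.elim), ?_⟩
    exact Subgroup.mem_centralizer_iff.2 fun a ha => hxc a (Cfsg.Agent.ZJ.jSub_le _ ha)
  have hMW : M ≤ Subgroup.normalizer (W : Set G) := by
    intro m hm
    have hSm : (S : Subgroup G).map (MulAut.conj m).toMonoidHom = S := by
      rw [hS]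
      ext y
      rw [Subgroup.mem_map_equiv, MulAut.conj_symm_apply]
      exact (Subgroup.mem_normalizer_iff''.1 (hMR hm) y).symm
    have hz := Cfsg.Agent.ZJ.zJ_map (p := q) (e := False) (S := (S : Subgroup G))
      (MulAut.conj m).toMonoidHom (MulAut.conj m).injective.injOn
    rw [hSm, ← hW] at hz
    rw [Subgroup.mem_normalizer_iff]
    intro y
    conv_rhs => rw [← hz, Subgroup.mem_map_equiv, MulAut.conj_symm_apply]
    rw [show m⁻¹ * (m * y * m⁻¹) * m = y by group]
  rcases hMW.eq_or_lt with heW | hlW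
  · left
    refine Cfsg.Agent.ZJNPC.hasNormalPComplement_of_zJ hq2 False S ?_
    rw [← hW, ← heW]
    exact Cfsg.Agent.FixedPointFreeThompson.hasNormalPComplement_of_nilpotent
  · exact Or.inr ⟨W, Subgroup.normalizer_eq_top_iff.1 ((h x hx).2 _ hlW),
      hRp.to_le (Cfsg.Agent.ZJ.zJ_le _), fun hle => hx (hle hxW)⟩

include h in
theorem isSolvable_of_two_bad {q r : ℕ} [hq : Fact q.Prime] [hr : Fact r.Prime] (hne : q ≠ r)
    (hW : Bad q G) (hW' : Bad r G) : Group.IsSolvable G := by
  obtain ⟨W, hWn, hWp, hWc⟩ := hW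
  obtain ⟨V, hVn, hVp, hVc⟩ := hW'
  obtain ⟨w, hwW, hw⟩ := SetLike.not_le_iff_exists.1 hWc
  obtain ⟨v, hvV, hv⟩ := SetLike.not_le_iff_exists.1 hVc
  obtain ⟨i, hi⟩ := IsPGroup.iff_orderOf.1 hWp ⟨w, hwW⟩
  obtain ⟨j, hj⟩ := IsPGroup.iff_orderOf.1 hVp ⟨v, hvV⟩
  rw [Subgroup.orderOf_mk] at hi hj
  have hdis : Disjoint W V := IsPGroup.disjoint_of_ne q r hne W V hWp hVp
  refine isSolvable_of_normal h hq.out hw hi ⟨fun c hc g => ?_⟩
  have hw' : g⁻¹ * w * g ∈ W := by simpa using hWn.conj_mem w hwW g⁻¹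
  have hw'c : g⁻¹ * w * g ∉ Subgroup.center G := fun hz => hw (by
    have := (inferInstance : (Subgroup.center G).Normal).conj_mem _ hz g
    simpa [mul_assoc] using this)
  have hord : orderOf (g⁻¹ * w * g) = q ^ i := by
    rw [← hi]
    simpa using (MulEquiv.orderOf_eq (MulAut.conj g⁻¹) w)
  have e1 := centralizer_eq h hw hv (Subgroup.commute_of_normal_of_disjoint W V hWn hVn hdis w v hwW hvV)
    (coprime_of_ne hr.out hq.out hne hi hj)
  have e2 := centralizer_eq h hw'c hv
    (Subgroup.commute_of_normal_of_disjoint W V hWn hVn hdis _ v hw' hvV)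
    (coprime_of_ne hr.out hq.out hne hord hj)
  have hc' : c * (g⁻¹ * w * g) = (g⁻¹ * w * g) * c := by
    have : c ∈ Subgroup.centralizer ({g⁻¹ * w * g} : Set G) := by rw [e2, ← e1]; exact hc
    exact Subgroup.mem_centralizer_singleton_iff.1 this
  rw [Subgroup.mem_centralizer_singleton_iff]
  calc g * c * g⁻¹ * w = g * (c * (g⁻¹ * w * g)) * g⁻¹ := by group
    _ = g * ((g⁻¹ * w * g) * c) * g⁻¹ := by rw [hc']
    _ = w * (g * c * g⁻¹) := by group

/-- Common normal complement for a set of primes. -/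
theorem exists_common_complement (s : Finset ℕ)
    (hs : ∀ q ∈ s, q.Prime ∧ Cfsg.HasNormalPComplement q G) :
    ∃ (K : Subgroup G) (_ : K.Normal), Group.IsSolvable (G ⧸ K) ∧
      ∀ q ∈ s, ¬ q ∣ Nat.card K := by
  classical
  induction s using Finset.induction_on with
  | empty =>
    refine ⟨⊤, inferInstance, ?_, by simp⟩
    haveI := QuotientGroup.subsingleton_quotient_top (G := G)
    exact Group.isSolvable_of_comm fun a b => Subsingleton.elim _ _
  | @insert q s hq ih =>
    obtain ⟨K, hK, hKs, hKd⟩ := ih fun r hr => hs r (Finset.mem_insert_of_mem hr)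
    obtain ⟨hqp, hqc⟩ := hs q (Finset.mem_insert_self q s)
    haveI := Fact.mk hqp
    obtain ⟨N, hN, hNc, k, hNi⟩ := Cfsg.Agent.PBasic.hasNormalPComplement_iff.1 hqc
    haveI := hN
    haveI : Group.IsSolvable (G ⧸ N) := by
      haveI : Group.IsNilpotent (G ⧸ N) := (IsPGroup.of_card (p := q) (n := k) hNi).isNilpotent
      infer_instance
    refine ⟨K ⊓ N, inferInstance, ?_, ?_⟩
    · refine Group.isSolvable_of_isSolvable_injective
        (f := (QuotientGroup.lift (K ⊓ N) ((QuotientGroup.mk' K).prod (QuotientGroup.mk' N))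
          (fun g hg => ?_))) ?_
      · simpa [MonoidHom.mem_ker, Prod.ext_iff] using hg
      · rw [injective_iff_map_eq_one]
        intro a
        induction a using QuotientGroup.induction_on with
        | _ g =>
          intro hg
          simpa [QuotientGroup.eq_one_iff, Prod.ext_iff] using hg
    · intro r hr hd
      rcases Finset.mem_insert.1 hr with rfl | hr
      · exact hqp.coprime_iff_not_dvd.1 (Nat.coprime_comm.1 hNc)
          (hd.trans (Subgroup.card_dvd_of_le inf_le_right))
      · exact hKd r hr (hd.trans (Subgroup.card_dvd_of_le inf_le_left))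

include h in
theorem isSolvable_main : Group.IsSolvable G := by
  classical
  obtain ⟨r, hr, hgood⟩ : ∃ r : ℕ, r.Prime ∧ (Group.IsSolvable G ∨
      ∀ q : ℕ, q.Prime → q ≠ 2 → q ≠ r → Cfsg.HasNormalPComplement q G) := by
    by_cases hb : ∃ r : ℕ, r.Prime ∧ r ≠ 2 ∧ Bad r G
    · obtain ⟨r, hr, -, hbad⟩ := hb
      haveI := Fact.mk hr
      refine ⟨r, hr, ?_⟩
      by_cases hb2 : ∃ q : ℕ, q.Prime ∧ q ≠ r ∧ Bad q G
      · obtain ⟨q, hq, hne, hbad'⟩ := hb2
        haveI := Fact.mk hq
        exact Or.inl (isSolvable_of_two_bad h hne hbad' hbad)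
      · refine Or.inr fun q hq hq2 hne => ?_
        haveI := Fact.mk hq
        exact (complement_or_bad h hq2).resolve_right fun hbad' => hb2 ⟨q, hq, hne, hbad'⟩
    · refine ⟨2, Nat.prime_two, Or.inr fun q hq hq2 _ => ?_⟩
      haveI := Fact.mk hq
      exact (complement_or_bad h hq2).resolve_right fun hbad' => hb ⟨q, hq, hq2, hbad'⟩
  rcases hgood with hs | hgood
  · exact hs
  obtain ⟨K, hK, hKs, hKd⟩ := exists_common_complement
    ((Nat.card G).primeFactors.filter fun q => q ≠ 2 ∧ q ≠ r) (G := G) fun q hq => by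
      obtain ⟨h1, h2, h3⟩ := Finset.mem_filter.1 hq
      exact ⟨Nat.prime_of_mem_primeFactors h1, hgood q (Nat.prime_of_mem_primeFactors h1) h2 h3⟩
  haveI : Group.IsSolvable K := by
    refine Cfsg.Agent.Char.isSolvable_of_card_pq 2 r Nat.prime_two hr _ K rfl ?_
    have hn : Nat.card K ≠ 0 := Nat.card_pos.ne'
    have hall : ∀ {d : ℕ}, d.Prime → d ∣ ordCompl[2] (Nat.card K) → d = r := fun {d} hd hdd => by
      by_contra hne
      have hdK : d ∣ Nat.card K := hdd.trans (Nat.ordCompl_dvd _ _)
      have hd2 : d ≠ 2 := fun h2 => Nat.not_dvd_ordCompl Nat.prime_two hn (h2 ▸ hdd)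
      exact hKd d (Finset.mem_filter.2 ⟨Nat.mem_primeFactors.2
        ⟨hd, hdK.trans K.card_subgroup_dvd_card, Nat.card_pos.ne'⟩, hd2, hne⟩) hdK
    refine ⟨(Nat.card K).factorization 2, (ordCompl[2] (Nat.card K)).primeFactorsList.length, ?_⟩
    conv_lhs => rw [← Nat.ordProj_mul_ordCompl_eq_self (Nat.card K) 2]
    congr 1
    exact Nat.eq_prime_pow_of_unique_prime_dvd (Nat.ordCompl_pos 2 hn).ne' hall
  haveI := hKs
  exact Group.isSolvable_of_ker_le_range K.subtype (QuotientGroup.mk' K)
    (le_of_eq (by rw [QuotientGroup.ker_mk', Subgroup.range_subtype]))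

end

/-- Let G be a finite group in which the centralizer of every non-central element is a maximal subgroup of G. Then G is solvable. -/
theorem result {G : Type*} [Group G] [Finite G]
    (h : ∀ g : G, g ∉ Subgroup.center G → IsCoatom (Subgroup.centralizer ({g} : Set G))) :
    Group.IsSolvable G := by
  exact isSolvable_main h

end Cfsg.Agent.S4262
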