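import Cfsg.Statements.S4263
import Cfsg.Agent.Lib.FiniteGroup.FittingPow
import Cfsg.Agent.S0010

set_option autoImplicit false
open Cfsg

namespace Cfsg.Agent.S4263

/-- Let G be a finite group. An element x lies in the Fitting subgroup F(G) if and only if, for every subgroup H of G, the power x^[G : H] lies in H. -/
theorem result {G : Type*} [Group G] [Finite G] (x : G) :
    x ∈ Cfsg.fittingSubgroup G ↔ ∀ H : Subgroup G, x ^ H.index ∈ H := by
  constructor
  · intro hx H
    exact FiniteGroup.pow_index_mem_sup_pCores _ (fun p hp => Nat.prime_of_mem_primeFactors hp) H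
      (FiniteGroup.fittingSubgroup_le_sup_pCores hx)
  · intro h
    refine FiniteGroup.mem_of_primePow_mem _ x fun p hp y hy hk => ?_
    haveI := Fact.mk hp
    have hyP : ∀ P : Sylow p G, y ∈ (P : Subgroup G) := by
      intro P
      obtain ⟨k, hk⟩ := hk
      obtain ⟨m, rfl⟩ := Subgroup.mem_zpowers_iff.1 hy
      have h1 : (x ^ m) ^ (P : Subgroup G).index ∈ (P : Subgroup G) := by
        rw [← zpow_natCast, ← zpow_mul, mul_comm, zpow_mul, zpow_natCast]
        exact zpow_mem (h _) m
      have hco : (orderOf (x ^ m)).Coprime (P : Subgroup G).index := by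
        rw [hk]
        exact Nat.Coprime.pow_left _ (hp.coprime_iff_not_dvd.2 P.not_dvd_index)
      obtain ⟨c, hc⟩ := exists_pow_eq_self_of_coprime hco.symm
      rw [← hc]
      exact pow_mem h1 c
    have hI : (⨅ P : Sylow p G, (P : Subgroup G)) ≤ Cfsg.pCore p G := (S0010.result p).ge
    have hN : (Cfsg.pCore p G).Normal := FiniteGroup.pCore_normal p
    exact le_sSup (s := {N : Subgroup G | N.Normal ∧ Group.IsNilpotent N})
      ⟨hN, (FiniteGroup.pCore_isPGroup p).isNilpotent⟩ (hI (Subgroup.mem_iInf.2 hyP))

end Cfsg.Agent.S4263
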