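import Cfsg.Statements.S4265
import Cfsg.Agent.Lib.SolClasses.Main
import Mathlib.RingTheory.Jacobson.Ring
import Mathlib.RingTheory.FiniteType
import Mathlib.RingTheory.Adjoin.FG
import Mathlib.RingTheory.IntegralClosure.IsIntegralClosure.Basic
import Mathlib.Analysis.Complex.Basic

set_option autoImplicit false
set_option linter.style.haveILetI false
open Cfsg

namespace Cfsg.Agent.S4265

open Cfsg.Agent.SolClasses

theorem int_jacobson : IsJacobsonRing ℤ := by
  rw [isJacobsonRing_iff_prime_eq]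
  intro P hP
  by_cases h : P = ⊥
  · subst h
    refine le_antisymm (fun x hx => ?_) Ideal.le_jacobson
    rw [Ideal.mem_bot]
    by_contra hx0
    obtain ⟨q, hq, hqp⟩ := Nat.exists_infinite_primes (x.natAbs + 1)
    have hmax : (Ideal.span {(q : ℤ)}).IsMaximal :=
      PrincipalIdealRing.isMaximal_of_irreducible (Nat.prime_iff_prime_int.1 hqp).irreducible
    have h1 : x ∈ Ideal.span {(q : ℤ)} := Ideal.mem_sInf.1 hx ⟨bot_le, hmax⟩
    rw [Ideal.mem_span_singleton, Int.natCast_dvd] at h1
    have := Nat.le_of_dvd (Int.natAbs_pos.2 hx0) h1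
    omega
  · haveI := hP.isMaximal h
    exact Ideal.jacobson_eq_self_of_isMaximal

/-- A field that is a finitely generated module over the integers is finite. -/
theorem field_finite (K : Type) [Field K] [Module.Finite ℤ K] : Finite K := by
  obtain ⟨p, hchar⟩ := CharP.exists K
  have hp : p ≠ 0 := by
    rintro rfl
    haveI : CharZero K := CharP.charP_to_charZero K
    have hint : Algebra.IsIntegral ℤ K := Algebra.IsIntegral.of_finite ℤ K
    exact Int.not_isField (isField_of_isIntegral_of_isField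
      (RingHom.injective_int (algebraMap ℤ K)) (Field.toIsField K))
  refine Module.finite_of_fg_torsion _ fun {v} => ?_
  refine ⟨⟨(p : ℤ), mem_nonZeroDivisors_of_ne_zero (Int.natCast_ne_zero.2 hp)⟩, ?_⟩
  show (p : ℤ) • v = 0
  rw [zsmul_eq_mul, Int.cast_natCast, CharP.cast_eq_zero, zero_mul]

/-- Let G be a finite solvable subgroup of GL_r(ℂ), r ≥ 1, with Fitting subgroup F(G) normal in G. Then for every subgroup H of G the quotient H/(H ∩ F(G)) has at most 3^{r−1} conjugacy classes. -/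
theorem result (r : ℕ) (hr : 1 ≤ r) (G : Subgroup (GL (Fin r) ℂ)) [Finite ↥G] (hsolv : Group.IsSolvable ↥G) [hF : (Cfsg.fittingSubgroup ↥G).Normal] (H : Subgroup ↥G) : Nat.card (ConjClasses (↥H ⧸ (Cfsg.fittingSubgroup ↥G).subgroupOf H)) ≤ 3 ^ (r - 1) := by
  classical
  haveI := Fintype.ofFinite G
  let mat : G → Matrix (Fin r) (Fin r) ℂ := fun g => ((g : GL (Fin r) ℂ) : Matrix (Fin r) (Fin r) ℂ)
  have hmat1 : ∀ g, g ≠ 1 → ∃ i j, mat g i j - (1 : Matrix (Fin r) (Fin r) ℂ) i j ≠ 0 := by
    intro g hg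
    by_contra hc
    push Not at hc
    exact hg (Subtype.ext (Units.ext (Matrix.ext fun i j => sub_eq_zero.1 (hc i j))))
  let δ : G → ℂ := fun g => if h : g = 1 then 1 else
    mat g (hmat1 g h).choose (hmat1 g h).choose_spec.choose -
      (1 : Matrix (Fin r) (Fin r) ℂ) (hmat1 g h).choose (hmat1 g h).choose_spec.choose
  have hδ : ∀ g, δ g ≠ 0 := fun g => by
    by_cases h : g = 1
    · simp [δ, h]
    · simp only [δ, dif_neg h]
      exact (hmat1 g h).choose_spec.choose_spec
  set D : ℂ := (Nat.card G : ℂ) * ∏ g : G, δ g with hD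
  have hD0 : D ≠ 0 := mul_ne_zero (Nat.cast_ne_zero.2 Nat.card_pos.ne')
    (Finset.prod_ne_zero_iff.2 fun g _ => hδ g)
  let S : Set ℂ := Set.range (fun z : G × Fin r × Fin r => mat z.1 z.2.1 z.2.2) ∪ {D⁻¹}
  have hSfin : S.Finite := (Set.finite_range _).union (Set.finite_singleton _)
  set R : Subalgebra ℤ ℂ := Algebra.adjoin ℤ S with hR
  haveI : Algebra.FiniteType ℤ R :=
    (Subalgebra.fg_iff_finiteType R).1 (Subalgebra.fg_adjoin_finset hSfin.toFinset |> fun h => by
      rwa [Set.Finite.coe_toFinset, ← hR] at h)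
  have hent : ∀ g i j, mat g i j ∈ R := fun g i j => Algebra.subset_adjoin (Or.inl ⟨(g, i, j), rfl⟩)
  have hinv : D⁻¹ ∈ R := Algebra.subset_adjoin (Or.inr rfl)
  obtain ⟨I, hI⟩ := Ideal.exists_maximal R
  haveI := hI
  letI : Field (R ⧸ I) := Ideal.Quotient.field I
  haveI : Algebra.FiniteType ℤ (R ⧸ I) :=
    Algebra.FiniteType.of_surjective (Ideal.Quotient.mkₐ ℤ I) (Ideal.Quotient.mkₐ_surjective ℤ I)
  haveI := int_jacobson
  haveI : Module.Finite ℤ (R ⧸ I) := finite_of_finite_type_of_isJacobsonRing ℤ (R ⧸ I)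
  haveI : Finite (R ⧸ I) := field_finite (R ⧸ I)
  let φ : R →+* R ⧸ I := Ideal.Quotient.mk I
  let N : G → Matrix (Fin r) (Fin r) R := fun g i j => ⟨mat g i j, hent g i j⟩
  have hN : ∀ g, (R.val.toRingHom.mapMatrix) (N g) = mat g := fun g => rfl
  have hNinj : Function.Injective (R.val.toRingHom.mapMatrix : Matrix (Fin r) (Fin r) R →+* _) :=
    Matrix.map_injective Subtype.val_injective
  have hNmul : ∀ g h, N (g * h) = N g * N h := fun g h => hNinj (by
    rw [map_mul, hN, hN, hN]
    simp only [mat, Subgroup.coe_mul, Units.val_mul])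
  have hN1 : N 1 = 1 := hNinj (by
    rw [map_one, hN]
    simp only [mat, OneMemClass.coe_one, Units.val_one])
  let ρ : G →* Module.End (R ⧸ I) (Fin r → R ⧸ I) :=
    { toFun := fun g => Matrix.toLinAlgEquiv' (φ.mapMatrix (N g))
      map_one' := by rw [hN1, map_one, map_one]
      map_mul' := fun g h => by rw [hNmul, map_mul, map_mul] }
  have hunit : ∀ (x : ℂ) (hx : x ∈ R) (y : ℂ), x * y = D → y ∈ R → φ ⟨x, hx⟩ ≠ 0 := by
    intro x hx y hxy hy h0
    have h1 : (⟨x, hx⟩ : R) * (⟨y, hy⟩ * ⟨D⁻¹, hinv⟩) = 1 := Subtype.ext (by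
      show x * (y * D⁻¹) = 1
      rw [← mul_assoc, hxy, mul_inv_cancel₀ hD0])
    have h2 := congrArg φ h1
    rw [map_mul, h0, zero_mul, map_one] at h2
    exact zero_ne_one h2
  have hδR : ∀ g, δ g ∈ R := fun g => by
    by_cases h : g = 1
    · simp only [δ, dif_pos h]; exact one_mem R
    · simp only [δ, dif_neg h]
      refine sub_mem (hent _ _ _) ?_
      rw [Matrix.one_apply]
      split_ifs
      · exact one_mem R
      · exact zero_mem R
  have hρ : Function.Injective ρ := by
    rw [injective_iff_map_eq_one]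
    intro g hg
    by_contra hne
    have hg' : φ.mapMatrix (N g) = 1 := Matrix.toLinAlgEquiv'.injective (hg.trans (map_one _).symm)
    refine hunit (δ g) (hδR g) ((Nat.card G : ℂ) * ∏ h ∈ Finset.univ.erase g, δ h) ?_ ?_ ?_
    · rw [hD, ← Finset.mul_prod_erase Finset.univ δ (Finset.mem_univ g)]; ring
    · exact mul_mem (natCast_mem R _) (prod_mem fun h _ => hδR h)
    set i := (hmat1 g hne).choose
    set j := (hmat1 g hne).choose_spec.choose
    have e : (⟨δ g, hδR g⟩ : R) = N g i j - (1 : Matrix (Fin r) (Fin r) R) i j := Subtype.ext (by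
      simp only [δ, dif_neg hne]
      rw [Matrix.one_apply, Matrix.one_apply]
      split_ifs <;> simp [N, mat, i, j])
    rw [e, map_sub]
    have h3 : φ (N g i j) = φ ((1 : Matrix (Fin r) (Fin r) R) i j) := by
      have h4 := congrFun (congrFun (hg'.trans (map_one φ.mapMatrix).symm) i) j
      exact h4
    rw [h3, sub_self]
  have hcop : ¬ ringChar (R ⧸ I) ∣ Nat.card G := by
    intro hd
    have h0 : ((Nat.card G : ℕ) : R ⧸ I) = 0 := (ringChar.spec (R ⧸ I) _).2 hd
    refine hunit (Nat.card G : ℂ) (natCast_mem R _) (∏ g, δ g) hD.symm (prod_mem fun h _ => hδR h) ?_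
    rw [show (⟨(Nat.card G : ℂ), natCast_mem R _⟩ : R) = ((Nat.card G : ℕ) : R) from rfl, map_natCast, h0]
  haveI : Nontrivial (Fin r → R ⧸ I) := by
    haveI : Nonempty (Fin r) := ⟨⟨0, by omega⟩⟩
    infer_instance
  have hmain := (bound r (Fin r → R ⧸ I) G ρ (Module.finrank_fin_fun _) hρ hsolv hcop).1
  set Φ := Cfsg.fittingSubgroup G
  let f : H →* G ⧸ Φ := (QuotientGroup.mk' Φ).comp H.subtype
  have hker : f.ker = Φ.subgroupOf H := by
    ext x
    exact QuotientGroup.eq_one_iff _
  haveI : (Φ.subgroupOf H).Normal := hF.subgroupOf H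
  refine le_trans (le_of_eq (classes_congr
    ((QuotientGroup.quotientMulEquivOfEq hker.symm).trans (QuotientGroup.quotientKerEquivRange f)))) ?_
  exact hmain f.range bot_le

end Cfsg.Agent.S4265
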