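import Cfsg.Statements.S4269
import Cfsg.Agent.Lib.Solvable.Fitting

set_option autoImplicit false
open Cfsg

open scoped Pointwise commutatorElement

namespace Cfsg.Agent.S4269

/-- Let G be a finite group, V an abelian normal subgroup and H a subgroup with HV = G. Then H is pronormal in G (H and gHg⁻¹ are conjugate inside the subgroup they generate, for every g) if and only if every H-invariant subgroup U of V satisfies U = N_U(H)·[H, U], that is, U is the join of U ∩ N_G(H) and the commutator subgroup [H, U]. -/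
theorem result {G : Type*} [Group G] [Finite G]
    (V : Subgroup G) [V.Normal] (hV : IsMulCommutative ↥V) (H : Subgroup G) (hHV : H ⊔ V = ⊤) :
    Cfsg.IsPronormal H ↔
      ∀ U : Subgroup G, U ≤ V → (∀ h ∈ H, U.map (MulAut.conj h).toMonoidHom = U) →
        U = (U ⊓ Subgroup.normalizer (H : Set G)) ⊔ ⁅H, U⁆ := by
  have hVc : ∀ a ∈ V, ∀ b ∈ V, a * b = b * a := fun a ha b hb => setLike_mul_comm ha hb
  have hmap : ∀ a b : G, H.map (MulAut.conj (a * b)).toMonoidHom =
      (H.map (MulAut.conj b).toMonoidHom).map (MulAut.conj a).toMonoidHom := fun a b => by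
    rw [Subgroup.map_map]
    congr 1
    ext g
    simp [mul_assoc]
  have hnorm : ∀ n : G, n ∈ Subgroup.normalizer (H : Set G) ↔ H.map (MulAut.conj n).toMonoidHom = H := by
    intro n
    rw [Subgroup.mem_normalizer_iff]
    constructor
    · intro h
      refine le_antisymm ?_ fun k hk => ?_
      · rintro _ ⟨k, hk, rfl⟩
        exact (h k).1 hk
      · exact ⟨n⁻¹ * k * n, (h _).2 (by rwa [show n * (n⁻¹ * k * n) * n⁻¹ = k by group]),
          by simp [mul_assoc]⟩
    · intro h k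
      refine ⟨fun hk => h ▸ ⟨k, hk, rfl⟩, fun hk => ?_⟩
      rw [← h] at hk
      obtain ⟨k', hk', he⟩ := hk
      simp only [MulEquiv.coe_toMonoidHom, MulAut.conj_apply, mul_left_inj, mul_right_inj] at he
      exact he ▸ hk'
  -- conjugates in `[H, U]`
  have hW : ∀ U : Subgroup G, (∀ h ∈ H, U.map (MulAut.conj h).toMonoidHom = U) →
      ⁅H, U⁆ ≤ U ∧ H ≤ Subgroup.normalizer ((⁅H, U⁆ : Subgroup G) : Set G) := by
    intro U hU
    refine ⟨Subgroup.commutator_le.2 fun h hh u hu => ?_, ?_⟩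
    · rw [commutatorElement_def]
      exact U.mul_mem (hU h hh ▸ ⟨u, hu, rfl⟩) (U.inv_mem hu)
    · have hHm : ∀ h ∈ H, H.map (MulAut.conj h).toMonoidHom = H := fun h hh =>
        (hnorm h).1 (Subgroup.le_normalizer hh)
      have hle : ∀ h ∈ H, ∀ k ∈ ⁅H, U⁆, h * k * h⁻¹ ∈ ⁅H, U⁆ := by
        intro h hh k hk
        have : k ∈ (⁅H, U⁆ : Subgroup G) := hk
        have h2 : (⁅H, U⁆ : Subgroup G).map (MulAut.conj h).toMonoidHom = ⁅H, U⁆ := by
          rw [Subgroup.map_commutator, hHm h hh, hU h hh]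
        exact h2 ▸ ⟨k, hk, rfl⟩
      intro h hh
      refine Subgroup.mem_normalizer_iff.2 fun k => ⟨hle h hh k, fun hk => ?_⟩
      have := hle h⁻¹ (H.inv_mem hh) _ hk
      simpa [mul_assoc] using this
  constructor
  · intro hp U hUV hU
    obtain ⟨hWU, hWn⟩ := hW U hU
    refine le_antisymm (fun u hu => ?_) (sup_le inf_le_left hWU)
    obtain ⟨x, hx, hxu⟩ := hp u
    have hle : H ⊔ H.map (MulAut.conj u).toMonoidHom ≤ ⁅H, U⁆ ⊔ H := by
      refine sup_le le_sup_right ?_
      rintro _ ⟨h, hh, rfl⟩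
      rw [MulEquiv.coe_toMonoidHom, MulAut.conj_apply,
        show u * h * u⁻¹ = ⁅h, u⁆⁻¹ * h by rw [commutatorElement_def]; group]
      exact Subgroup.mul_mem_sup (inv_mem (Subgroup.commutator_mem_commutator hh hu)) hh
    have hx' := hle hx
    rw [← SetLike.mem_coe, Subgroup.coe_mul_of_right_le_normalizer_left _ _ hWn] at hx'
    obtain ⟨w, hw, h, hh, rfl⟩ := hx'
    rw [hmap, (hnorm h).1 (Subgroup.le_normalizer hh)] at hxu
    have hn : w⁻¹ * u ∈ Subgroup.normalizer (H : Set G) := by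
      rw [hnorm, hmap, hxu, ← hmap, inv_mul_cancel]
      exact (hnorm 1).1 (one_mem _)
    rw [show u = (w⁻¹ * u) * w by rw [hVc _ (hUV (U.mul_mem (U.inv_mem (hWU hw)) hu)) _ (hUV (hWU hw)),
      mul_inv_cancel_left]]
    exact Subgroup.mul_mem_sup ⟨U.mul_mem (U.inv_mem (hWU hw)) hu, hn⟩ hw
  · intro hc g
    have hg : g ∈ ((V ⊔ H : Subgroup G) : Set G) := by rw [sup_comm, hHV]; trivial
    rw [Subgroup.normal_mul] at hg
    obtain ⟨v, hv, h₀, hh₀, rfl⟩ := hg
    rw [hmap, (hnorm h₀).1 (Subgroup.le_normalizer hh₀)]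
    set J := H ⊔ H.map (MulAut.conj v).toMonoidHom with hJ
    let T : Subgroup G :=
      { carrier := {u | u ∈ V ∧ ∀ h ∈ H, ⁅h, u⁆ ∈ J}
        one_mem' := ⟨V.one_mem, fun h _ => by simp [commutatorElement_def]⟩
        mul_mem' := fun {a b} ha hb => ⟨V.mul_mem ha.1 hb.1, fun h hh => by
          have hnb : ⁅h, b⁆ ∈ V := by
            rw [commutatorElement_def]
            exact V.mul_mem (Subgroup.Normal.conj_mem inferInstance b hb.1 h) (V.inv_mem hb.1)
          rw [show ⁅h, a * b⁆ = ⁅h, a⁆ * (a * ⁅h, b⁆ * a⁻¹) by simp only [commutatorElement_def]; group,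
            hVc a ha.1 _ hnb, mul_inv_cancel_right]
          exact J.mul_mem (ha.2 h hh) (hb.2 h hh)⟩
        inv_mem' := fun {a} ha => ⟨V.inv_mem ha.1, fun h hh => by
          have hna : ⁅h, a⁆⁻¹ ∈ V := V.inv_mem (by
            rw [commutatorElement_def]
            exact V.mul_mem (Subgroup.Normal.conj_mem inferInstance a ha.1 h) (V.inv_mem ha.1))
          rw [show ⁅h, a⁻¹⁆ = a⁻¹ * ⁅h, a⁆⁻¹ * a by simp only [commutatorElement_def]; group,
            hVc a⁻¹ (V.inv_mem ha.1) _ hna, inv_mul_cancel_right]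
          exact J.inv_mem (ha.2 h hh)⟩ }
    set U := Subgroup.closure {u : G | ∃ k ∈ H, u = k * v * k⁻¹} with hUdef
    have hUT : U ≤ T := by
      rw [hUdef, Subgroup.closure_le]
      rintro _ ⟨k, hk, rfl⟩
      refine ⟨Subgroup.Normal.conj_mem inferInstance v hv k, fun h hh => ?_⟩
      have hkJ : k ∈ J := Subgroup.mem_sup_left hk
      have h0 : ∀ a ∈ H, ⁅a, v⁆ ∈ J := fun a ha => by
        rw [show ⁅a, v⁆ = a * (v * a⁻¹ * v⁻¹) by rw [commutatorElement_def]; group]
        exact J.mul_mem (Subgroup.mem_sup_left ha)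
          (Subgroup.mem_sup_right ⟨a⁻¹, H.inv_mem ha, rfl⟩)
      rw [show ⁅h, k * v * k⁻¹⁆ = k * ⁅k⁻¹ * h * k, v⁆ * k⁻¹ by simp only [commutatorElement_def]; group]
      exact J.mul_mem (J.mul_mem hkJ (h0 _ (H.mul_mem (H.mul_mem (H.inv_mem hk) hh) hk))) (J.inv_mem hkJ)
    have hUV : U ≤ V := hUT.trans fun u hu => hu.1
    have hUle : ∀ h ∈ H, U.map (MulAut.conj h).toMonoidHom ≤ U := by
      intro h hh
      rw [hUdef, MonoidHom.map_closure, Subgroup.closure_le]
      rintro _ ⟨_, ⟨k, hk, rfl⟩, rfl⟩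
      refine Subgroup.subset_closure ⟨h * k, H.mul_mem hh hk, ?_⟩
      simp [mul_assoc]
    have hU : ∀ h ∈ H, U.map (MulAut.conj h).toMonoidHom = U := fun h hh =>
      le_antisymm (hUle h hh) fun u hu =>
        ⟨h⁻¹ * u * h, hUle h⁻¹ (H.inv_mem hh) ⟨u, hu, by simp⟩, by simp [mul_assoc]⟩
    have hvU : v ∈ U := Subgroup.subset_closure ⟨1, H.one_mem, by simp⟩
    obtain ⟨hWU, -⟩ := hW U hU
    rw [hc U hUV hU, ← SetLike.mem_coe, Subgroup.coe_mul_of_left_le_normalizer_right] at hvU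
    swap
    · intro a ha
      refine Subgroup.mem_normalizer_iff.2 fun k => ⟨fun hk => ?_, fun hk => ?_⟩
      · rw [hVc a (hUV ha.1) k (hUV (hWU hk)), mul_inv_cancel_right]; exact hk
      · have hk' : a * k * a⁻¹ ∈ ⁅H, U⁆ := hk
        have hkV := hUV (hWU hk')
        have h2 : k = a⁻¹ * (a * k * a⁻¹) * a := by group
        rw [h2, hVc a⁻¹ (V.inv_mem (hUV ha.1)) _ hkV, inv_mul_cancel_right]
        exact hk'
    obtain ⟨n, hn, w, hw, hnw⟩ := hvU
    refine ⟨w, (Subgroup.commutator_le.2 fun h hh u hu => (hUT hu).2 h hh) hw, ?_⟩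
    simp only at hnw
    rw [← hnw, hVc n (hUV hn.1) w (hUV (hWU hw)), hmap, (hnorm n).1 hn.2]

end Cfsg.Agent.S4269
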