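import Cfsg.Prelude.Def_HallClasses
import Mathlib.GroupTheory.Sylow
import Mathlib.GroupTheory.QuotientGroup.Basic

/-!
Extensions and pronormality of overgroups of Sylow subgroups (Frattini arguments).
-/

set_option autoImplicit false

namespace Cfsg.Agent.S4270

variable {G : Type*} [Group G]

/-- conjugate subgroup -/
abbrev cj (H : Subgroup G) (g : G) : Subgroup G := H.map (MulAut.conj g).toMonoidHom

theorem mem_cj {H : Subgroup G} {g y : G} : y ∈ cj H g ↔ g⁻¹ * y * g ∈ H := by
  constructor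
  · rintro ⟨h, hh, rfl⟩
    have : g⁻¹ * (MulAut.conj g).toMonoidHom h * g = h := by simp [mul_assoc]
    rwa [this]
  · intro h
    exact ⟨_, h, by simp [mul_assoc]⟩

theorem cj_cj (H : Subgroup G) (a b : G) : cj (cj H b) a = cj H (a * b) := by
  ext y
  simp only [mem_cj, mul_inv_rev, mul_assoc]

theorem cj_one (H : Subgroup G) : cj H 1 = H := by
  ext y
  simp only [mem_cj, inv_one, one_mul, mul_one]

theorem cj_mono {H K : Subgroup G} (h : H ≤ K) (g : G) : cj H g ≤ cj K g := Subgroup.map_mono h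

theorem cj_inf (H K : Subgroup G) (g : G) : cj (H ⊓ K) g = cj H g ⊓ cj K g := by
  ext y
  simp only [mem_cj, Subgroup.mem_inf]

theorem mem_normalizer_iff_cj {H : Subgroup G} {n : G} :
    n ∈ Subgroup.normalizer (H : Set G) ↔ cj H n = H := by
  constructor
  · intro h
    ext y
    rw [mem_cj, Subgroup.mem_normalizer_iff.1 h, show n * (n⁻¹ * y * n) * n⁻¹ = y by group]
  · intro h
    rw [Subgroup.mem_normalizer_iff]
    intro y
    conv_rhs => rw [← h, mem_cj]
    rw [show n⁻¹ * (n * y * n⁻¹) * n = y by group]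

theorem cj_eq_self {H : Subgroup G} {h : G} (hh : h ∈ H) : cj H h = H :=
  mem_normalizer_iff_cj.1 (Subgroup.le_normalizer hh)

theorem cj_normal {A : Subgroup G} [hA : A.Normal] (g : G) : cj A g = A :=
  mem_normalizer_iff_cj.1 (by rw [Subgroup.normalizer_eq_top]; exact Subgroup.mem_top g)

/-- containing a Sylow subgroup is the same as having index prime to `p` -/
theorem sylow_le_iff [Finite G] (p : ℕ) [Fact p.Prime] (K : Subgroup G) :
    (∃ P : Sylow p G, (P : Subgroup G) ≤ K) ↔ ¬ p ∣ K.index := by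
  constructor
  · rintro ⟨P, hP⟩ hd
    exact P.not_dvd_index (hd.trans (Subgroup.index_dvd_of_le hP))
  · intro hK
    obtain ⟨Q⟩ := (inferInstance : Nonempty (Sylow p K))
    have hidx : ¬ p ∣ ((Q : Subgroup K).map K.subtype).index := by
      rw [Subgroup.index_map_subtype]
      exact fun hd => ((Nat.Prime.dvd_mul Fact.out).1 hd).elim Q.not_dvd_index hK
    exact ⟨(Q.2.map K.subtype).toSylow hidx, Subgroup.map_subtype_le _⟩

/-- two conjugates of a subgroup of `p'`-index, both inside `B`, are conjugate by an element of `B` -/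
theorem conj_in [Finite G] {p : ℕ} [Fact p.Prime] {B T : Subgroup G} (hTp : IsPGroup p T) (hTB : T ≤ B)
    (hi : ¬ p ∣ T.relIndex B) {x : G} (hx : cj T x ≤ B) : ∃ c ∈ B, cj T x = cj T c := by
  rw [Subgroup.relIndex] at hi
  have hp1 : IsPGroup p (T.subgroupOf B) := hTp.of_equiv (Subgroup.subgroupOfEquivOfLe hTB).symm
  have hp2 : IsPGroup p ((cj T x).subgroupOf B) :=
    ((hTp.map (MulAut.conj x).toMonoidHom)).of_equiv (Subgroup.subgroupOfEquivOfLe hx).symm
  have hcard : Nat.card (cj T x) = Nat.card T :=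
    Subgroup.card_map_of_injective (MulAut.conj x).injective
  have hi2 : ¬ p ∣ (cj T x).relIndex B := by
    have h1 := Subgroup.card_mul_index (T.subgroupOf B)
    have h2 := Subgroup.card_mul_index ((cj T x).subgroupOf B)
    rw [Nat.card_congr (Subgroup.subgroupOfEquivOfLe hTB).toEquiv] at h1
    rw [Nat.card_congr (Subgroup.subgroupOfEquivOfLe hx).toEquiv, hcard] at h2
    have : (cj T x).relIndex B = T.relIndex B :=
      Nat.eq_of_mul_eq_mul_left Nat.card_pos (h2.trans h1.symm)
    rwa [this]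
  rw [Subgroup.relIndex] at hi2
  obtain ⟨c, hc⟩ := MulAction.exists_smul_eq B (hp1.toSylow hi) (hp2.toSylow hi2)
  refine ⟨(c : G), c.2, ?_⟩
  have hc' := congrArg (fun P : Sylow p B => ((P : Subgroup B).map B.subtype)) hc
  simp only [IsPGroup.toSylow_coe, Sylow.coe_subgroup_smul] at hc'
  rw [Subgroup.map_subgroupOf_eq_of_le hx] at hc'
  rw [← hc']
  ext y
  constructor
  · rintro ⟨b, ⟨t, ht, rfl⟩, rfl⟩
    exact ⟨(t : G), ht, rfl⟩
  · rintro ⟨t, ht, rfl⟩
    exact ⟨_, ⟨⟨t, hTB ht⟩, ht, rfl⟩, rfl⟩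

/-- Sylow overgroups are pronormal when the Sylow subgroups are self-normalizing -/
theorem pronormal_of_selfNorm [Finite G] {p : ℕ} [Fact p.Prime]
    (h : ∀ P : Sylow p G, Subgroup.normalizer ((P : Subgroup G) : Set G) = P) (K : Subgroup G)
    (hK : ∃ P : Sylow p G, (P : Subgroup G) ≤ K) : Cfsg.IsPronormal K := by
  intro g
  obtain ⟨P, hP⟩ := hK
  obtain ⟨j, hj, hje⟩ := conj_in P.2 (hP.trans (le_sup_left (b := cj K g)))
    (fun hd => P.not_dvd_index (hd.trans (Dvd.intro _ (Subgroup.relIndex_mul_index (hP.trans le_sup_left)))))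
    ((cj_mono hP g).trans le_sup_right)
  refine ⟨j, hj, ?_⟩
  have hn : cj (P : Subgroup G) (j⁻¹ * g) = P := by rw [← cj_cj, hje, cj_cj, inv_mul_cancel, cj_one]
  rw [← mem_normalizer_iff_cj, h P] at hn
  show cj K g = cj K j
  calc cj K g = cj (cj K (j⁻¹ * g)) j := by rw [cj_cj, mul_inv_cancel_left]
    _ = cj K j := by rw [cj_eq_self (hP hn)]

theorem normalizer_eq_of_selfNorm [Finite G] {p : ℕ} [Fact p.Prime]
    (h : ∀ P : Sylow p G, Subgroup.normalizer ((P : Subgroup G) : Set G) = P) (K : Subgroup G)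
    (hK : ∃ P : Sylow p G, (P : Subgroup G) ≤ K) : Subgroup.normalizer (K : Set G) = K := by
  obtain ⟨P, hP⟩ := hK
  refine le_antisymm (fun n hn => ?_) Subgroup.le_normalizer
  obtain ⟨k, hk, hke⟩ := conj_in P.2 hP
    (fun hd => P.not_dvd_index (hd.trans (Dvd.intro _ (Subgroup.relIndex_mul_index hP))))
    ((cj_mono hP n).trans (mem_normalizer_iff_cj.1 hn).le)
  have h2 : cj (P : Subgroup G) (k⁻¹ * n) = P := by rw [← cj_cj, hke, cj_cj, inv_mul_cancel, cj_one]
  rw [← mem_normalizer_iff_cj, h P] at h2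
  simpa using K.mul_mem hk (hP h2)

/-- pronormality passes to conjugates -/
theorem pronormal_cj {H : Subgroup G} (hH : Cfsg.IsPronormal H) (a : G) : Cfsg.IsPronormal (cj H a) := by
  intro g
  obtain ⟨x, hx, hxe⟩ := hH (a⁻¹ * g * a)
  refine ⟨a * x * a⁻¹, ?_, ?_⟩
  · have h1 : a * x * a⁻¹ ∈ cj (H ⊔ cj H (a⁻¹ * g * a)) a := ⟨x, hx, by simp⟩
    rw [show cj (H ⊔ cj H (a⁻¹ * g * a)) a = cj H a ⊔ cj (cj H (a⁻¹ * g * a)) a from Subgroup.map_sup _ _ _,
      cj_cj, show a * (a⁻¹ * g * a) = g * a by group, ← cj_cj] at h1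
    exact h1
  · show cj (cj H a) g = cj (cj H a) (a * x * a⁻¹)
    calc cj (cj H a) g = cj (cj H (a⁻¹ * g * a)) a := by
          rw [cj_cj, cj_cj]; congr 1; group
      _ = cj (cj H x) a := by rw [show cj H (a⁻¹ * g * a) = cj H x from hxe]
      _ = cj (cj H a) (a * x * a⁻¹) := by rw [cj_cj, cj_cj]; congr 1; group

theorem result {G : Type*} [Group G] [Finite G] {p : ℕ} [Fact p.Prime]
    (A : Subgroup G) [A.Normal] (hA : (∀ K : Subgroup ↥A, (∃ P : Sylow p ↥A, (P : Subgroup ↥A) ≤ K) → Cfsg.IsPronormal K)) (hQ : (∀ K : Subgroup (G ⧸ A), (∃ P : Sylow p (G ⧸ A), (P : Subgroup (G ⧸ A)) ≤ K) → Cfsg.IsPronormal K))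
    (T : Subgroup G) (hT : ∃ P : Sylow p ↥A, (P : Subgroup ↥A).map A.subtype = T) [(T.subgroupOf (Subgroup.normalizer (T : Set G))).Normal] :
    (∀ K : Subgroup G, (∃ P : Sylow p G, (P : Subgroup G) ≤ K) → Cfsg.IsPronormal K) ↔
      ((∀ K : Subgroup (↥(Subgroup.normalizer (T : Set G)) ⧸ T.subgroupOf (Subgroup.normalizer (T : Set G))), (∃ P : Sylow p (↥(Subgroup.normalizer (T : Set G)) ⧸ T.subgroupOf (Subgroup.normalizer (T : Set G))), (P : Subgroup (↥(Subgroup.normalizer (T : Set G)) ⧸ T.subgroupOf (Subgroup.normalizer (T : Set G)))) ≤ K) → Cfsg.IsPronormal K) ∧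
        ∀ K : Subgroup G, (∃ P : Sylow p G, (P : Subgroup G) ≤ K) →
          (Subgroup.normalizer (K : Set G)).map (QuotientGroup.mk' A) = Subgroup.normalizer ((K.map (QuotientGroup.mk' A) : Subgroup (G ⧸ A)) : Set (G ⧸ A))) := by
  obtain ⟨PA, hPA⟩ := hT
  have hTA : T ≤ A := hPA ▸ Subgroup.map_subtype_le _
  have hTp : IsPGroup p T := hPA ▸ PA.2.map _
  have hTi : ¬ p ∣ T.relIndex A := by
    have : T.subgroupOf A = PA := by
      rw [← hPA]; exact Subgroup.comap_map_eq_self_of_injective A.subtype_injective _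
    rw [Subgroup.relIndex, this]
    exact PA.not_dvd_index
  have hTmax : ∀ S : Subgroup G, IsPGroup p S → S ≤ A → T ≤ S → S = T := by
    intro S hS hSA hTS
    have h1 : (PA : Subgroup A) ≤ S.subgroupOf A := fun x hx =>
      hTS (hPA ▸ Subgroup.mem_map_of_mem _ hx)
    have h2 := PA.3 (hS.of_equiv (Subgroup.subgroupOfEquivOfLe hSA).symm) h1
    rw [← hPA, ← h2, Subgroup.map_subgroupOf_eq_of_le hSA]
  set N := Subgroup.normalizer (T : Set G) with hNdef
  set TN := T.subgroupOf N with hTNdef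
  -- a Sylow subgroup of `G` inside `N`, and inside any suitable subgroup
  have hNS : ∀ H : Subgroup G, T ≤ H → ¬ p ∣ H.index → ¬ p ∣ (H ⊓ N).index := by
    intro H hTH hH
    obtain ⟨Q, hQT⟩ := (hTp.of_equiv (Subgroup.subgroupOfEquivOfLe hTH).symm).exists_le_sylow
    set Q' := (Q : Subgroup H).map H.subtype with hQ'
    have hQi : ¬ p ∣ Q'.index := by
      rw [hQ', Subgroup.index_map_subtype]
      exact fun hd => ((Nat.Prime.dvd_mul Fact.out).1 hd).elim Q.not_dvd_index hH
    have hTQ : T ≤ Q' := fun t ht => ⟨⟨t, hTH ht⟩, hQT ht, rfl⟩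
    have hint : Q' ⊓ A = T :=
      hTmax _ ((Q.2.map _).to_le inf_le_left) inf_le_right (le_inf hTQ hTA)
    have hQH : Q' ≤ H := Subgroup.map_subtype_le _
    have hQN : Q' ≤ N := fun q hq => by
      rw [hNdef, mem_normalizer_iff_cj, ← hint, cj_inf, cj_eq_self hq, cj_normal]
    exact fun hd => hQi (hd.trans (Subgroup.index_dvd_of_le (le_inf hQH hQN)))
  have hNi : ¬ p ∣ N.index := by
    have := hNS ⊤ le_top (by rw [Subgroup.index_top]; exact (Fact.out : p.Prime).not_dvd_one)
    rwa [top_inf_eq] at this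
  have hqmap : ∀ H : Subgroup G, ¬ p ∣ H.index →
      ∃ P : Sylow p (G ⧸ A), (P : Subgroup (G ⧸ A)) ≤ H.map (QuotientGroup.mk' A) := by
    intro H hH
    rw [sylow_le_iff]
    exact fun hd => hH (hd.trans (Subgroup.index_map_dvd _ (QuotientGroup.mk'_surjective A)))
  constructor
  · intro hG
    refine ⟨fun Kb hKb g => ?_, fun K hK => ?_⟩
    · rw [sylow_le_iff] at hKb
      set π := QuotientGroup.mk' TN with hπ
      obtain ⟨n, rfl⟩ := QuotientGroup.mk'_surjective TN g
      set K := (Kb.comap π).map N.subtype with hKdef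
      have hKi : ¬ p ∣ K.index := by
        rw [hKdef, Subgroup.index_map_subtype, Subgroup.index_comap_of_surjective _ (QuotientGroup.mk'_surjective TN)]
        exact fun hd => ((Nat.Prime.dvd_mul Fact.out).1 hd).elim hKb hNi
      obtain ⟨x, hx, hxe⟩ := hG K ((sylow_le_iff p K).2 hKi) (n : G)
      have hcj : ∀ m : N, cj K (m : G) = (cj (Kb.comap π) m).map N.subtype := by
        intro m
        simp only [cj, hKdef, Subgroup.map_map]
        rfl
      have hx' : x ∈ ((Kb.comap π) ⊔ cj (Kb.comap π) n).map N.subtype := by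
        rw [Subgroup.map_sup, ← hcj]; exact hx
      obtain ⟨y, hy, rfl⟩ := hx'
      have hye : cj (Kb.comap π) n = cj (Kb.comap π) y :=
        Subgroup.map_injective N.subtype_injective (by rw [← hcj, ← hcj]; exact hxe)
      have hpush : ∀ m : N, (cj (Kb.comap π) m).map π = cj Kb (π m) := by
        intro m
        conv_rhs => rw [← Subgroup.map_comap_eq_self_of_surjective (QuotientGroup.mk'_surjective TN) Kb]
        simp only [cj, Subgroup.map_map]
        congr 1
      refine ⟨π y, ?_, ?_⟩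
      · have := Subgroup.mem_map_of_mem π hy
        rwa [Subgroup.map_sup, hpush, Subgroup.map_comap_eq_self_of_surjective (QuotientGroup.mk'_surjective TN)] at this
      · show cj Kb (π n) = cj Kb (π y)
        rw [← hpush, ← hpush, hye]
    · refine le_antisymm (Subgroup.le_normalizer_map _) fun z hz => ?_
      obtain ⟨g, rfl⟩ := QuotientGroup.mk'_surjective A z
      rw [mem_normalizer_iff_cj] at hz
      set KA := K ⊔ A with hKA
      have hgK : cj K g ≤ KA := by
        rintro _ ⟨k, hk, rfl⟩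
        have h1 : QuotientGroup.mk' A (g * k * g⁻¹) ∈ K.map (QuotientGroup.mk' A) := by
          rw [← hz, mem_cj]
          exact ⟨k, hk, by simp only [← map_inv, ← map_mul]; congr 1; group⟩
        have h2 : g * k * g⁻¹ ∈ (K.map (QuotientGroup.mk' A)).comap (QuotientGroup.mk' A) := h1
        rw [Subgroup.comap_map_eq, QuotientGroup.ker_mk'] at h2
        exact h2
      obtain ⟨x, hx, hxe⟩ := hG K hK g
      have hx' : x ∈ KA := (sup_le le_sup_left hgK : K ⊔ cj K g ≤ KA) hx
      have hn : x⁻¹ * g ∈ Subgroup.normalizer (K : Set G) := by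
        rw [mem_normalizer_iff_cj, ← cj_cj, show cj K g = cj K x from hxe, cj_cj, inv_mul_cancel, cj_one]
      have hle : K.map (QuotientGroup.mk' A) ≤ (Subgroup.normalizer (K : Set G)).map (QuotientGroup.mk' A) :=
        Subgroup.map_mono Subgroup.le_normalizer
      have hxm : QuotientGroup.mk' A x ∈ K.map (QuotientGroup.mk' A) := by
        have h3 := Subgroup.mem_map_of_mem (QuotientGroup.mk' A) hx'
        rwa [hKA, Subgroup.map_sup, QuotientGroup.map_mk'_self, sup_bot_eq] at h3
      have := Subgroup.mul_mem _ (hle hxm) (Subgroup.mem_map_of_mem (QuotientGroup.mk' A) hn)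
      rwa [← map_mul, mul_inv_cancel_left] at this
  · rintro ⟨hN, hM⟩
    -- the statement for subgroups containing `T`
    suffices main : ∀ H : Subgroup G, T ≤ H → ¬ p ∣ H.index → Cfsg.IsPronormal H by
      intro H₀ hH₀
      rw [sylow_le_iff] at hH₀
      obtain ⟨P, hP⟩ := (sylow_le_iff p H₀).2 hH₀
      obtain ⟨S, hS⟩ := hTp.exists_le_sylow
      obtain ⟨a, ha⟩ := MulAction.exists_smul_eq G P S
      have hTH : T ≤ cj H₀ a := by
        refine hS.trans ?_
        rw [← ha, Sylow.coe_subgroup_smul]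
        exact Subgroup.map_mono hP
      have hidx : (cj H₀ a).index = H₀.index := by
        have h1 := Subgroup.card_mul_index (cj H₀ a)
        rw [← Subgroup.card_mul_index H₀, Subgroup.card_map_of_injective (MulAut.conj a).injective] at h1
        exact Nat.eq_of_mul_eq_mul_left Nat.card_pos h1
      have := pronormal_cj (main _ hTH (by rw [hidx]; exact hH₀)) a⁻¹
      rwa [cj_cj, inv_mul_cancel, cj_one] at this
    intro H hTH hH g
    set q := QuotientGroup.mk' A with hq
    have hqcj : ∀ (S : Subgroup G) (m : G), (cj S m).map q = cj (S.map q) (q m) := by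
      intro S m
      simp only [cj, Subgroup.map_map]
      congr 1
    -- modulo `A`
    obtain ⟨xb, hxb, hxbe⟩ := hQ _ (hqmap H hH) (q g)
    have hxb' : xb ∈ (H ⊔ cj H g).map q := by rw [Subgroup.map_sup, hqcj]; exact hxb
    obtain ⟨x, hx, rfl⟩ := hxb'
    have hnq : q (x⁻¹ * g) ∈ Subgroup.normalizer ((H.map q : Subgroup (G ⧸ A)) : Set (G ⧸ A)) := by
      rw [mem_normalizer_iff_cj, map_mul, map_inv, ← cj_cj,
        show cj (H.map q) (q g) = cj (H.map q) (q x) from hxbe, cj_cj, inv_mul_cancel, cj_one]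
    rw [← hM H ((sylow_le_iff p H).2 hH)] at hnq
    obtain ⟨n, hn, hne⟩ := hnq
    set a := x⁻¹ * g * n⁻¹ with hadef
    have ha : a ∈ A := by
      rw [← QuotientGroup.eq_one_iff (N := A)]
      show q a = 1
      rw [hadef, map_mul, map_inv q n, hne, mul_inv_cancel]
    have hga : cj H g = cj H (x * a) := by
      conv_lhs => rw [show g = x * a * n by rw [hadef]; group, ← cj_cj, mem_normalizer_iff_cj.1 hn]
    suffices h2 : ∃ y ∈ H ⊔ cj H a, cj H a = cj H y by
      obtain ⟨y, hy, hye⟩ := h2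
      have hle : H ⊔ cj H a ≤ H ⊔ cj H g := by
        refine sup_le le_sup_left fun z hz => ?_
        have h3 : x * z * x⁻¹ ∈ cj H g := by
          rw [hga, ← cj_cj, mem_cj, show x⁻¹ * (x * z * x⁻¹) * x = z by group]
          exact hz
        have h4 := Subgroup.mul_mem _ (Subgroup.mul_mem _ (Subgroup.inv_mem _ hx)
          (Subgroup.mem_sup_right h3)) hx
        rwa [show x⁻¹ * (x * z * x⁻¹) * x = z by group] at h4
      refine ⟨x * y, Subgroup.mul_mem _ hx (hle hy), ?_⟩
      show cj H g = cj H (x * y)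
      rw [hga, ← cj_cj, hye, cj_cj]
    set J := H ⊔ cj H a with hJ
    set B := H ⊓ A with hB
    have hTB : T ≤ B := le_inf hTH hTA
    have hTBi : ¬ p ∣ T.relIndex B :=
      fun hd => hTi (hd.trans (Dvd.intro _ (Subgroup.relIndex_mul_relIndex T B A hTB inf_le_right)))
    have hBA : ¬ p ∣ (B.subgroupOf A).index :=
      fun hd => hTi (hd.trans (Subgroup.relIndex_dvd_of_le_left A hTB))
    -- inside `A`
    obtain ⟨b, hb, hbe⟩ := hA _ ((sylow_le_iff p _).2 hBA) ⟨a, ha⟩
    have hAcj : ∀ m : A, (cj (B.subgroupOf A) m).map A.subtype = cj B (m : G) := by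
      intro m
      conv_rhs => rw [← Subgroup.map_subgroupOf_eq_of_le (show B ≤ A from inf_le_right)]
      simp only [cj, Subgroup.map_map]
      rfl
    have hbJ : (b : G) ∈ J := by
      have h3 := Subgroup.mem_map_of_mem A.subtype hb
      rw [Subgroup.map_sup, hAcj, Subgroup.map_subgroupOf_eq_of_le inf_le_right] at h3
      exact (sup_le_sup inf_le_left (cj_mono inf_le_left a)) h3
    have hbe' : cj B a = cj B (b : G) := by
      have h3 := congrArg (Subgroup.map A.subtype) (show cj (B.subgroupOf A) ⟨a, ha⟩ = cj (B.subgroupOf A) b from hbe)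
      rwa [hAcj, hAcj] at h3
    set a' := (b : G)⁻¹ * a with ha'def
    have ha'B : cj B a' = B := by rw [ha'def, ← cj_cj, hbe', cj_cj, inv_mul_cancel, cj_one]
    obtain ⟨c, hc, hce⟩ := conj_in hTp hTB hTBi (x := a') ((cj_mono hTB a').trans ha'B.le)
    set m := c⁻¹ * a' with hmdef
    have hmN : m ∈ N := by
      rw [hNdef, mem_normalizer_iff_cj, hmdef, ← cj_cj, hce, cj_cj, inv_mul_cancel, cj_one]
    have hmB : cj B m = B := by rw [hmdef, ← cj_cj, ha'B, cj_eq_self (inv_mem hc)]
    have ham : a = (b : G) * c * m := by rw [hmdef, ha'def]; group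
    have hbc : (b : G) * c ∈ J := mul_mem hbJ (Subgroup.mem_sup_left hc.1)
    have hJm : cj H m ≤ J := by
      intro z hz
      have h3 : (b : G) * c * z * ((b : G) * c)⁻¹ ∈ cj H a := by
        rw [ham, ← cj_cj, mem_cj]
        convert hz using 1
        group
      have h4 := Subgroup.mul_mem _ (Subgroup.mul_mem _ (Subgroup.inv_mem _ hbc)
        (Subgroup.mem_sup_right h3)) hbc
      rwa [show ((b : G) * c)⁻¹ * ((b : G) * c * z * ((b : G) * c)⁻¹) * ((b : G) * c) = z by group] at h4
    -- inside the normalizer of `T`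
    set L := H ⊓ N with hL
    have hLi : ¬ p ∣ L.index := hNS H hTH hH
    set π := QuotientGroup.mk' TN with hπ
    set LN := L.subgroupOf N with hLN
    have hker : π.ker ≤ LN := by
      rw [hπ, QuotientGroup.ker_mk']
      intro t ht
      exact ⟨hTH ht, t.2⟩
    have hLq : ∃ P : Sylow p (N ⧸ TN), (P : Subgroup (N ⧸ TN)) ≤ LN.map π := by
      rw [sylow_le_iff]
      refine fun hd => hLi ((hd.trans (Subgroup.index_map_dvd _ (QuotientGroup.mk'_surjective TN))).trans ?_)
      exact Dvd.intro _ (Subgroup.relIndex_mul_index (inf_le_right : L ≤ N))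
    obtain ⟨yb, hyb, hybe⟩ := hN _ hLq (π ⟨m, hmN⟩)
    have hπcj : ∀ w : N, (cj LN w).map π = cj (LN.map π) (π w) := by
      intro w
      simp only [cj, Subgroup.map_map]
      congr 1
    have hyb' : yb ∈ (LN ⊔ cj LN ⟨m, hmN⟩).map π := by rw [Subgroup.map_sup, hπcj]; exact hyb
    obtain ⟨y, hy, rfl⟩ := hyb'
    have hker' : ∀ w : N, π.ker ≤ cj LN w := by
      intro w
      refine le_of_eq_of_le ?_ (cj_mono hker w)
      rw [cj_normal]
    have hye : cj LN ⟨m, hmN⟩ = cj LN y := by
      have h3 : (cj LN ⟨m, hmN⟩).map π = (cj LN y).map π := by rw [hπcj, hπcj]; exact hybe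
      exact Subgroup.map_injective_of_ker_le π (hker' _) (hker' _) h3
    have hNcj : ∀ w : N, (cj LN w).map N.subtype = cj L (w : G) := by
      intro w
      conv_rhs => rw [← Subgroup.map_subgroupOf_eq_of_le (show L ≤ N from inf_le_right)]
      simp only [cj, Subgroup.map_map]
      rfl
    have hy' : (y : G) ∈ L ⊔ cj L m := by
      have h3 := Subgroup.mem_map_of_mem N.subtype hy
      rwa [Subgroup.map_sup, hNcj, Subgroup.map_subgroupOf_eq_of_le inf_le_right] at h3
    have hye' : cj L m = cj L (y : G) := by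
      have h3 := congrArg (Subgroup.map N.subtype) hye
      rwa [hNcj, hNcj] at h3
    have hLB : L ≤ Subgroup.normalizer (B : Set G) := fun l hl => by
      rw [mem_normalizer_iff_cj, hB, cj_inf, cj_eq_self hl.1, cj_normal]
    have hyB : cj B (y : G) = B := by
      rw [← mem_normalizer_iff_cj]
      refine (sup_le hLB ?_ : L ⊔ cj L m ≤ Subgroup.normalizer (B : Set G)) hy'
      intro z hz
      have h3 := hLB (mem_cj.1 hz)
      have hm' := (mem_normalizer_iff_cj (H := B)).2 hmB
      have h4 := Subgroup.mul_mem _ (Subgroup.mul_mem _ hm' h3) (Subgroup.inv_mem _ hm')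
      rwa [show m * (m⁻¹ * z * m) * m⁻¹ = z by group] at h4
    have hHBL : H = B ⊔ L := by
      refine le_antisymm (fun h hh => ?_) (sup_le inf_le_left inf_le_left)
      obtain ⟨e, he, hee⟩ := conj_in hTp hTB hTBi (x := h)
        ((cj_mono hTB h).trans (le_of_eq (by rw [hB, cj_inf, cj_eq_self hh, cj_normal])))
      have h3 : e⁻¹ * h ∈ L := by
        refine ⟨H.mul_mem (H.inv_mem he.1) hh, ?_⟩
        show e⁻¹ * h ∈ N
        rw [hNdef, mem_normalizer_iff_cj, ← cj_cj, hee, cj_cj, inv_mul_cancel, cj_one]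
      simpa using Subgroup.mul_mem_sup he h3
    have hHm : cj H m = cj H (y : G) := by
      conv_lhs => rw [hHBL]
      conv_rhs => rw [hHBL]
      show (B ⊔ L).map _ = (B ⊔ L).map _
      rw [Subgroup.map_sup, Subgroup.map_sup]
      show cj B m ⊔ cj L m = cj B (y : G) ⊔ cj L (y : G)
      rw [hmB, hyB, hye']
    refine ⟨(b : G) * c * (y : G), mul_mem hbc ?_, ?_⟩
    · exact (sup_le ((inf_le_left : L ≤ H).trans le_sup_left)
        ((cj_mono inf_le_left m).trans hJm) : L ⊔ cj L m ≤ J) hy'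
    · show cj H a = cj H ((b : G) * c * (y : G))
      rw [ham, ← cj_cj, hHm, cj_cj]

end Cfsg.Agent.S4270
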