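import Cfsg.Statements.S4272
import Cfsg.Agent.Lib.ReeTwoTrans.Main
import Cfsg.Agent.Lib.PiWalter.Main
import Cfsg.Agent.Lib.NoField.Result
import Cfsg.Agent.Lib.Walter4.Rank4
import Mathlib.LinearAlgebra.Projectivization.Action

set_option autoImplicit false
open Cfsg

namespace Cfsg.Agent.S4272

universe u

open MulAction

/-- A doubly transitive action of a simple group on a set with two points is faithful. -/
theorem faithful_of {G : Type u} [Group G] [IsSimpleGroup G] {Ω : Type} [MulAction G Ω]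
    [IsMultiplyPretransitive G Ω 2] {a b : Ω} (hab : a ≠ b) : FaithfulSMul G Ω := by
  haveI := isPretransitive_of_is_two_pretransitive (G := G) (α := Ω)
  refine ⟨fun {x y} h => ?_⟩
  rcases (inferInstance : (toPermHom G Ω).ker.Normal).eq_bot_or_eq_top with hb | ht
  · exact (MonoidHom.ker_eq_bot_iff _).1 hb (Equiv.ext h)
  · exfalso
    obtain ⟨g, hg⟩ := exists_smul_eq G a b
    have h1 : toPermHom G Ω g = 1 := MonoidHom.mem_ker.1 (ht ▸ Subgroup.mem_top g)
    exact hab (((Equiv.Perm.ext_iff.1 h1 a).symm.trans hg))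

/-- An action given by a homomorphism onto the permutations of a surjective model. -/
theorem two_of_equivariant {H : Type*} [Group H] {G : Type u} [Group G] {Ω : Type} [MulAction H Ω]
    [MulAction G Ω] [IsMultiplyPretransitive H Ω 2] (h : ∀ x : H, ∃ g : G, ∀ a : Ω, g • a = x • a) :
    IsMultiplyPretransitive G Ω 2 := by
  have h2 : IsMultiplyPretransitive H Ω 2 := inferInstance
  rw [is_two_pretransitive_iff] at h2 ⊢
  intro a b c d hab hcd
  obtain ⟨x, h1, h1'⟩ := h2 hab hcd
  obtain ⟨g, hg⟩ := h x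
  exact ⟨g, (hg a).trans h1, (hg b).trans h1'⟩

/-- `PSL₂` acts doubly transitively. -/
theorem psl_action {G : Type u} [Group G] [IsSimpleGroup G] {F : Type} [Field F] [Fintype F]
    (e : G ≃* Matrix.ProjectiveSpecialLinearGroup (Fin 2) F) :
    ∃ (Ω : Type) (_ : Fintype Ω) (_ : MulAction G Ω), FaithfulSMul G Ω ∧ IsMultiplyPretransitive G Ω 2 := by
  classical
  let φ : Matrix.ProjectiveSpecialLinearGroup (Fin 2) F →* Equiv.Perm (Projectivization F (Fin 2 → F)) :=
    QuotientGroup.lift _ (toPermHom (Matrix.SpecialLinearGroup (Fin 2) F) (Projectivization F (Fin 2 → F)))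
      (le_of_eq Projectivization.SL_mulAction_ker.symm)
  haveI : Finite (Projectivization F (Fin 2 → F)) := inferInstance
  letI : MulAction G (Projectivization F (Fin 2 → F)) := MulAction.compHom _ (φ.comp e.toMonoidHom)
  haveI : IsMultiplyPretransitive G (Projectivization F (Fin 2 → F)) 2 := by
    refine two_of_equivariant (H := Matrix.SpecialLinearGroup (Fin 2) F) fun x =>
      ⟨e.symm (QuotientGroup.mk x), fun a => ?_⟩
    show φ (e (e.symm (QuotientGroup.mk x))) a = x • a
    rw [e.apply_symm_apply]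
    rfl
  have h0 : (![1, 0] : Fin 2 → F) ≠ 0 := fun h => by simpa using congrFun h 0
  have h1 : (![0, 1] : Fin 2 → F) ≠ 0 := fun h => by simpa using congrFun h 1
  have hne : Projectivization.mk F _ h0 ≠ Projectivization.mk F _ h1 := by
    intro h
    obtain ⟨c, hc⟩ := (Projectivization.mk_eq_mk_iff' F _ _ h0 h1).1 h
    simpa using congrFun hc 0
  exact ⟨_, Fintype.ofFinite _, inferInstance, faithful_of hne, inferInstance⟩

/-- A doubly transitive coset space, moved to a set of numbers. -/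
theorem coset_action {G : Type u} [Group G] [Finite G] [IsSimpleGroup G] {B : Subgroup G} (hB : B ≠ ⊤)
    [IsMultiplyPretransitive G (G ⧸ B) 2] :
    ∃ (Ω : Type) (_ : Fintype Ω) (_ : MulAction G Ω), FaithfulSMul G Ω ∧ IsMultiplyPretransitive G Ω 2 := by
  classical
  let ε : G ⧸ B ≃ Fin (Nat.card (G ⧸ B)) := Finite.equivFin _
  letI : MulAction G (Fin (Nat.card (G ⧸ B))) :=
    { smul := fun g x => ε (g • ε.symm x)
      one_smul := fun x => show ε ((1 : G) • ε.symm x) = x by rw [one_smul, ε.apply_symm_apply]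
      mul_smul := fun g h x => show ε ((g * h) • ε.symm x) = ε (g • ε.symm (ε (h • ε.symm x))) by
        rw [ε.symm_apply_apply, mul_smul] }
  have h2 : IsMultiplyPretransitive G (G ⧸ B) 2 := inferInstance
  haveI : IsMultiplyPretransitive G (Fin (Nat.card (G ⧸ B))) 2 := by
    rw [is_two_pretransitive_iff] at h2 ⊢
    intro a b c d hab hcd
    obtain ⟨g, h1, h1'⟩ := h2 (fun h => hab (ε.symm.injective h) : ε.symm a ≠ ε.symm b)
      (fun h => hcd (ε.symm.injective h) : ε.symm c ≠ ε.symm d)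
    exact ⟨g, (congrArg ε h1).trans (ε.apply_symm_apply c), (congrArg ε h1').trans (ε.apply_symm_apply d)⟩
  obtain ⟨g, hg⟩ : ∃ g : G, g ∉ B := by
    by_contra h
    push Not at h
    exact hB ((Subgroup.eq_top_iff' B).2 h)
  have hne : ε ((1 : G) : G ⧸ B) ≠ ε ((g : G) : G ⧸ B) := fun h => hg (by
    simpa using QuotientGroup.eq.1 (ε.injective h))
  exact ⟨_, inferInstance, inferInstance, faithful_of hne, inferInstance⟩

/-- A group of Ree order with centraliser `2 × PSL₂(q)` has such an action. -/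
theorem ree_action {G : Type u} [Group G] [Finite G] [IsSimpleGroup G]
    (hab : ∀ P : Sylow 2 G, ∀ a b : P, a * b = b * a) {F : Type} [Field F] [Fintype F] (t : G)
    (ht : orderOf t = 2)
    (e : Subgroup.centralizer ({t} : Set G) ≃*
      Multiplicative (ZMod 2) × Matrix.ProjectiveSpecialLinearGroup (Fin 2) F)
    {m : ℕ} (hm : 1 ≤ m) (hq : Fintype.card F = 3 ^ (2 * m + 1))
    (hcard : Nat.card G = (3 ^ (2 * m + 1)) ^ 3 * ((3 ^ (2 * m + 1)) ^ 3 + 1) * (3 ^ (2 * m + 1) - 1)) :
    ∃ (Ω : Type) (_ : Fintype Ω) (_ : MulAction G Ω), FaithfulSMul G Ω ∧ IsMultiplyPretransitive G Ω 2 := by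
  classical
  have h27 : 27 ≤ Fintype.card F := by
    rw [hq]
    exact le_trans (by norm_num) (Nat.pow_le_pow_right (by norm_num) (show 3 ≤ 2 * m + 1 by omega))
  haveI := Fintype.ofFinite G
  have h8 : Fintype.card F % 8 = 3 := by
    rw [hq, pow_succ, pow_mul, Nat.mul_mod, Nat.pow_mod]
    norm_num
  obtain ⟨Q, hQ, ⟨E⟩⟩ := JanThom.exists_setup hab ht (Or.inl h8) (by omega) e
  haveI := E.finite_L
  haveI := Fintype.ofFinite (Matrix.ProjectiveSpecialLinearGroup (Fin 2) F)
  obtain ⟨y, u, hy, hu2, hu1, huτ, huσ, huinv, hyu⟩ := E.exists_isY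
  have hfree := JanThom.Setup.free_of_setup E hy hu2 hu1 huτ huσ huinv hyu
  obtain ⟨T⟩ := E.exists_tfam hy hu2 huτ huσ huinv hfree
  obtain ⟨N⟩ := PiWalter.exists_named T
  have hQ' : Q = ((Fintype.card F : ℕ) : ℤ) := by
    rw [← hQ, Int.natCast_natAbs, abs_of_pos N.pos]
  have h1q : 1 ≤ 3 ^ (2 * m + 1) := Nat.one_le_pow _ _ (by norm_num)
  have H : PiWalter.IsReeSetup E := by
    refine ⟨N.pos, ?_, hab, PiWalter.centT_of_setup hy hfree⟩
    rw [hcard, hQ', hq]
    push_cast [Nat.cast_sub h1q]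
    ring
  obtain ⟨B, hB, h2⟩ := ReeTwoTrans.exists_two_trans H ⟨2 * m + 1, hQ.trans hq⟩
  haveI := h2
  exact coset_action hB


/-- Let G be a finite non-abelian simple group whose Sylow 2-subgroups are abelian. If G admits no faithful doubly transitive action on a finite set, then G has order 175560 (the order of the first Janko group). -/
theorem result {G : Type*} [Group G] [Finite G] [IsSimpleGroup G] (hG : ¬ IsMulCommutative G) (P : Sylow 2 G) (hP : IsMulCommutative (P : Subgroup G)) (hno : ∀ (Ω : Type) [Fintype Ω] [MulAction G Ω] [FaithfulSMul G Ω], ¬ MulAction.IsMultiplyPretransitive G Ω 2) : Nat.card G = 175560 := by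
  classical
  by_contra hne
  obtain ⟨Ω, i1, i2, hfa, h2⟩ : ∃ (Ω : Type) (_ : Fintype Ω) (_ : MulAction G Ω),
      FaithfulSMul G Ω ∧ IsMultiplyPretransitive G Ω 2 := by
    have hab : ∀ S : Sylow 2 G, IsMulCommutative (S : Subgroup G) := fun S =>
      ⟨⟨fun a b => (P.equiv S).symm.injective (by rw [map_mul, map_mul, hP.is_comm.comm])⟩⟩
    rcases Walter4.good G ‹_› hG hab with ⟨F, _, _, -, ⟨e⟩⟩ | ⟨-, S, hE, hL, hcore⟩
    · exact psl_action e
    haveI : Nontrivial ↥(S : Subgroup G) := Finite.one_lt_card_iff_nontrivial.1 (by rw [hE.card]; norm_num)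
    obtain ⟨⟨a, ha⟩, hane⟩ := exists_ne (1 : ↥(S : Subgroup G))
    have ha1 : a ≠ 1 := fun h => hane (Subtype.ext h)
    have hat : orderOf a = 2 := orderOf_eq_prime (by rw [pow_two]; exact hE.sq a ha) ha1
    obtain ⟨F, _, _, -, hF3, ⟨e⟩⟩ := NoField.noFieldStmt G (S : Subgroup G) hG hE hL hcore a ha ha1
    have hab' : ∀ S : Sylow 2 G, ∀ a b : S, a * b = b * a := fun S a b => (hab S).is_comm.comm a b
    rcases S0343.result hab' (by omega : 3 ≤ Fintype.card F) a hat ⟨e⟩ with ⟨m, hm, hq, hcard⟩ | ⟨-, hJ⟩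
    · exact ree_action hab' a hat e hm hq hcard
    · exact absurd hJ.2 hne
  exact @hno Ω i1 i2 hfa h2

end Cfsg.Agent.S4272
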