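import Cfsg.Statements.S4274
import Cfsg.Agent.Lib.FGStruct.J1Order.Exclude
-- import your own Cfsg.Agent.* helpers here

set_option autoImplicit false
open Cfsg

namespace Cfsg.Agent.S4274


/-- A group of order properly dividing 175560 has a normal Sylow 19-subgroup. -/
theorem normal_of_lt.{v} : ∀ n : ℕ, ∀ (G : Type v) [Group G] [Finite G], Nat.card G = n → n ∣ 175560 →
    ¬ (IsSimpleGroup G ∧ n = 175560) → ∀ P : Sylow 19 G, (P : Subgroup G).Normal := by
  intro n
  induction n using Nat.strong_induction_on with
  | _ n ih =>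
  intro G _ _ hn hdvd hns P
  haveI hp19 : Fact (Nat.Prime 19) := ⟨by norm_num⟩
  by_cases hdn : 19 ∣ n
  swap
  · obtain ⟨k, hk⟩ := IsPGroup.iff_card.1 P.isPGroup'
    rcases k with _ | k
    · rw [Subgroup.card_eq_one.1 (hk.trans (pow_zero _))]; infer_instance
    · exact absurd (((dvd_pow_self 19 k.succ_ne_zero).trans (dvd_of_eq hk.symm)).trans
        ((Subgroup.card_subgroup_dvd_card _).trans (dvd_of_eq hn))) hdn
  have hd2 : ¬ 19 * 19 ∣ Nat.card G := fun h => absurd ((h.trans (dvd_of_eq hn)).trans hdvd) (by decide)
  have hall := J1Order.card_sylow_prime (hn.symm ▸ hdn) hd2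
  by_cases hS : IsSimpleGroup G
  · by_cases hc : IsMulCommutative G
    · exact ⟨fun x hx g => by rwa [hc.is_comm.comm g x, mul_inv_cancel_right]⟩
    · exact absurd (hn.symm ▸ hdn) (J1Order.not_dvd_of_simple hc (hn.symm ▸ hdvd)
        (fun h => hns ⟨hS, hn.symm.trans h⟩))
  have h19 : Nontrivial G := Finite.one_lt_card_iff_nontrivial.1 (by
    have := Nat.le_of_dvd (hn ▸ Nat.card_pos) hdn
    omega)
  obtain ⟨N, hNn, hNb, hNt⟩ : ∃ N : Subgroup G, N.Normal ∧ N ≠ ⊥ ∧ N ≠ ⊤ := by
    by_contra h
    push Not at h
    exact hS ⟨fun H hH => or_iff_not_imp_left.2 fun hb => h H hH hb⟩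
  have hNlt : Nat.card N < n := hn ▸ lt_of_le_of_ne (Subgroup.card_le_card_group N)
    (fun h => hNt (Subgroup.eq_top_of_card_eq N h))
  have hNd : Nat.card N ∣ n := hn ▸ Subgroup.card_subgroup_dvd_card N
  have hnle : n ≤ 175560 := Nat.le_of_dvd (by norm_num) hdvd
  have step : ∀ (K : Subgroup G), K.Normal → (P : Subgroup G) ≤ K →
      (∀ R : Sylow 19 K, (R : Subgroup K).Normal) → (P : Subgroup G).Normal := by
    intro K hK hPK hR
    haveI := hR (P.subtype hPK)
    haveI hch := Sylow.characteristic_of_normal (P.subtype hPK) inferInstance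
    have e : (P : Subgroup G) = ((P.subtype hPK : Sylow 19 K) : Subgroup K).map K.subtype := by
      rw [Sylow.coe_subtype, Subgroup.map_subgroupOf_eq_of_le hPK]
    rw [e]
    infer_instance
  by_cases hN19 : 19 ∣ Nat.card N
  · refine step N hNn ?_ (ih _ hNlt N rfl (hNd.trans hdvd) (fun h => by omega))
    obtain ⟨x, hx⟩ := exists_prime_orderOf_dvd_card' (G := N) 19 hN19
    obtain ⟨R, hR⟩ := J1Order.sylow_eq_zpowers hall (x := (x : G)) (by rw [Subgroup.orderOf_coe, hx])
    obtain ⟨g, hg⟩ := MulAction.exists_smul_eq G R P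
    intro y hy
    rw [← hg, Sylow.smul_def, Sylow.pointwise_smul_def, hR, Subgroup.mem_pointwise_smul_iff_inv_smul_mem] at hy
    have h2 := (Subgroup.zpowers_le.2 x.2) hy
    have h3 := hNn.conj_mem _ h2 g
    simpa [mul_assoc] using h3
  · have hqlt : Nat.card (G ⧸ N) < n := by
      have := Subgroup.card_eq_card_quotient_mul_card_subgroup N
      have h1 : 1 < Nat.card N := (Subgroup.one_lt_card_iff_ne_bot _).2 hNb
      have h0 : 0 < Nat.card (G ⧸ N) := Nat.card_pos
      have : Nat.card (G ⧸ N) * 1 < Nat.card (G ⧸ N) * Nat.card N := Nat.mul_lt_mul_of_pos_left h1 h0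
      omega
    have hsurj := QuotientGroup.mk'_surjective N
    have hQn := ih _ hqlt (G ⧸ N) rfl ((Subgroup.card_quotient_dvd_card N).trans (hn.symm ▸ hdvd))
      (fun h => by omega) (P.mapSurjective hsurj)
    set K := (P : Subgroup G) ⊔ N with hK
    have hKe : K = ((P.mapSurjective hsurj : Sylow 19 (G ⧸ N)) : Subgroup (G ⧸ N)).comap (QuotientGroup.mk' N) := by
      rw [Sylow.coe_mapSurjective, Subgroup.comap_map_eq, QuotientGroup.ker_mk']
    have hKn : K.Normal := hKe ▸ hQn.comap _
    obtain ⟨v, hv⟩ := exists_prime_orderOf_dvd_card' (G := (P : Subgroup G)) 19 (dvd_of_eq (hall P).symm)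
    have hcomm : N ≤ Subgroup.centralizer ((P : Subgroup G) : Set G) := by
      suffices hcard : Nat.card N ≤ Nat.card (Subgroup.centralizer ((P : Subgroup G) : Set G) ⊓ N : Subgroup G) by
        exact (Subgroup.eq_of_le_of_card_ge inf_le_right hcard).ge.trans inf_le_left
      refine Nat.le_of_dvd Nat.card_pos ?_
      rw [← Nat.factorization_prime_le_iff_dvd Nat.card_pos.ne' Nat.card_pos.ne']
      intro r hr
      haveI : Fact r.Prime := ⟨hr⟩
      obtain ⟨R⟩ : Nonempty (Sylow r N) := inferInstance
      rw [← hr.pow_dvd_iff_le_factorization Nat.card_pos.ne', ← R.card_eq_multiplicity]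
      have hRlt : Nat.card (R : Subgroup N) < 19 := by
        obtain ⟨k, hk⟩ := IsPGroup.iff_card.1 R.isPGroup'
        have hd : r ^ k ∣ n := hk ▸ (Subgroup.card_subgroup_dvd_card _).trans hNd
        have hr19 : r ^ k ≠ 1 → r ≠ 19 := fun hne e => hN19 (e ▸ (dvd_pow_self r (fun h0 : k = 0 => hne (by
          rw [h0, pow_zero]))).trans ((dvd_of_eq hk.symm).trans (Subgroup.card_subgroup_dvd_card _)))
        rw [hk]
        by_contra hge
        push Not at hge
        have hne : r ^ k ≠ 1 := by omega
        have hmem := J1Order.mem_divs (hd.trans hdvd)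
        have hpp : ∀ m ∈ J1Order.divs, 19 ≤ m → (m % 19 = 0 ∨ 2 ≤ ([2, 3, 5, 7, 11].filter fun p => m % p = 0).length) := by
          decide +kernel
        rcases hpp _ hmem hge with h | h
        · exact hr19 hne ((Nat.prime_dvd_prime_iff_eq hp19.out hr).1
            (hp19.out.dvd_of_dvd_pow (Nat.dvd_of_mod_eq_zero h))).symm
        · have hall2 : ∀ p ∈ ([2, 3, 5, 7, 11].filter fun p => (r ^ k) % p = 0), p = r := by
            intro p hp
            obtain ⟨hp1, hp2⟩ := List.mem_filter.1 hp
            have hpp : p.Prime := by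
              simp only [List.mem_cons, List.not_mem_nil, or_false] at hp1
              rcases hp1 with rfl | rfl | rfl | rfl | rfl <;> norm_num
            exact (Nat.prime_dvd_prime_iff_eq hpp hr).1
              (hpp.dvd_of_dvd_pow (Nat.dvd_of_mod_eq_zero (of_decide_eq_true hp2)))
          have hnd : ([2, 3, 5, 7, 11].filter fun p => (r ^ k) % p = 0).Nodup :=
            List.Nodup.filter _ (by decide)
          generalize ([2, 3, 5, 7, 11].filter fun p => (r ^ k) % p = 0) = l at h hall2 hnd
          match l, h, hall2, hnd with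
          | a :: b :: _, _, hall2, hnd =>
            have ha := hall2 a List.mem_cons_self
            have hb := hall2 b (List.mem_cons_of_mem _ List.mem_cons_self)
            exact (List.nodup_cons.1 hnd).1 (ha.trans hb.symm ▸ List.mem_cons_self)
      set R' : Subgroup G := (R : Subgroup N).map N.subtype with hR'
      have hR'card : Nat.card R' = Nat.card (R : Subgroup N) :=
        (Nat.card_congr ((R : Subgroup N).equivMapOfInjective N.subtype N.subtype_injective).toEquiv).symm
      have hfr := Sylow.normalizer_sup_eq_top R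
      have h19M : 19 ∣ Nat.card (Subgroup.normalizer (R' : Set G)) := by
        have h19G : 19 ∣ Nat.card G := hn.symm ▸ hdn
        rw [← Subgroup.card_mul_index N] at h19G
        refine ((hp19.out.dvd_mul.1 h19G).resolve_left hN19).trans ?_
        rw [← Subgroup.relIndex_top_right N, ← hfr, ← hR', Subgroup.relIndex_sup_right]
        exact Subgroup.index_dvd_card _
      obtain ⟨x, hx⟩ := exists_prime_orderOf_dvd_card' 19 h19M
      obtain ⟨T, hT⟩ := J1Order.sylow_eq_zpowers hall (x := (x : G)) (by rw [Subgroup.orderOf_coe, hx])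
      obtain ⟨g, hg⟩ := MulAction.exists_smul_eq G T P
      have hxC : R' ≤ Subgroup.centralizer ((Subgroup.zpowers (x : G) : Subgroup G) : Set G) := by
        intro w hw
        rw [J1Order.mem_cent_zpowers]
        set f : MulAut R' := Subgroup.normalizerMonoidHom R' x with hf
        have hf19 : f ^ 19 = 1 := by rw [hf, ← map_pow, ← hx, pow_orderOf_eq_one, map_one]
        have hpg : IsPGroup 19 (Subgroup.zpowers f) := by
          rintro ⟨y, hy⟩
          refine ⟨1, Subtype.ext ?_⟩
          obtain ⟨j, rfl⟩ := Subgroup.mem_zpowers_iff.1 hy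
          show (f ^ j) ^ (19 ^ 1) = 1
          rw [pow_one, ← zpow_natCast, zpow_comm, zpow_natCast, hf19, one_zpow]
        have hw2 : f ⟨w, hw⟩ = ⟨w, hw⟩ := by
          have hd : MulAction.period f (⟨w, hw⟩ : R') ∣ 19 :=
            (MulAction.period_dvd_orderOf _ _).trans (orderOf_dvd_of_pow_eq_one hf19)
          rcases (Nat.dvd_prime hp19.out).1 hd with h | h
          · have := MulAction.pow_period_smul f (⟨w, hw⟩ : R')
            rwa [h, pow_one] at this
          · exfalso
            have hinj : Function.Injective fun i : Fin 19 => (f ^ (i : ℕ)) • (⟨w, hw⟩ : R') := by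
              intro i j e
              refine Fin.ext ?_
              have e' : f ^ (i : ℕ) • (⟨w, hw⟩ : R') = f ^ (j : ℕ) • (⟨w, hw⟩ : R') := e
              rcases le_total (i : ℕ) j with hle | hle
              · have h2 : f ^ ((j : ℕ) - i) • (⟨w, hw⟩ : R') = ⟨w, hw⟩ := by
                  apply MulAction.injective (f ^ (i : ℕ))
                  simp only
                  rw [← mul_smul, ← pow_add, Nat.add_sub_cancel' hle, ← e']
                rw [MulAction.pow_smul_eq_iff_period_dvd, h] at h2
                have := i.isLt; have := j.isLt; omega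
              · have h2 : f ^ ((i : ℕ) - j) • (⟨w, hw⟩ : R') = ⟨w, hw⟩ := by
                  apply MulAction.injective (f ^ (j : ℕ))
                  simp only
                  rw [← mul_smul, ← pow_add, Nat.add_sub_cancel' hle, e']
                rw [MulAction.pow_smul_eq_iff_period_dvd, h] at h2
                have := i.isLt; have := j.isLt; omega
            have := Nat.card_le_card_of_injective _ hinj
            rw [Nat.card_eq_fintype_card, Fintype.card_fin, hR'card] at this
            omega
        have e := congrArg Subtype.val hw2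
        have e' : (x : G) * w * (x : G)⁻¹ = w := e
        rw [mul_inv_eq_iff_eq_mul] at e'
        exact e'.symm
      have hgR : R'.map (MulAut.conj g).toMonoidHom ≤ Subgroup.centralizer ((P : Subgroup G) : Set G) ⊓ N := by
        rintro _ ⟨w, hw, rfl⟩
        refine ⟨?_, hNn.conj_mem w (by obtain ⟨v, -, rfl⟩ := hw; exact v.2) g⟩
        refine Subgroup.mem_centralizer_iff.2 fun y hy => ?_
        rw [SetLike.mem_coe, ← hg, Sylow.smul_def, Sylow.pointwise_smul_def, hT,
          Subgroup.mem_pointwise_smul_iff_inv_smul_mem] at hy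
        have h1 := Subgroup.mem_centralizer_iff.1 (hxC hw) _ hy
        have h2 := congrArg (fun t => g * t * g⁻¹) h1
        simpa [mul_assoc] using h2
      have := Subgroup.card_dvd_of_le hgR
      rwa [← Nat.card_congr (R'.equivMapOfInjective _ (MulAut.conj g).injective).toEquiv, hR'card] at this
    refine step K hKn le_sup_left fun R => ?_
    haveI : Fact (Nat.Prime 19) := hp19
    have hPn : ((P.subtype (le_sup_left : (P : Subgroup G) ≤ K)) : Subgroup K).Normal := by
      have hle : K ≤ Subgroup.normalizer ((P : Subgroup G) : Set G) :=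
        sup_le Subgroup.le_normalizer (hcomm.trans (Small.centralizer_le_normalizer _))
      rw [Sylow.coe_subtype]
      exact Subgroup.normal_subgroupOf_of_le_normalizer hle
    letI := Sylow.unique_of_normal (P.subtype (le_sup_left : (P : Subgroup G) ≤ K)) hPn
    rw [Subsingleton.elim R (P.subtype le_sup_left)]
    exact hPn

/-- A finite group of order 175560 = 2³·3·5·7·11·19 is either simple or has a normal Sylow 19-subgroup. -/
theorem result {G : Type*} [Group G] [Finite G] (hG : Nat.card G = 175560) : IsSimpleGroup G ∨ ∀ P : Sylow 19 G, (P : Subgroup G).Normal := by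
  classical
  by_cases h : IsSimpleGroup G
  · exact Or.inl h
  · exact Or.inr (normal_of_lt _ G hG dvd_rfl (fun hh => h hh.1))

end Cfsg.Agent.S4274
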