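import Cfsg.Statements.S4275


set_option autoImplicit false
open Cfsg

namespace Cfsg.Agent.S4275

/-- Let G be a transitive group of permutations of a finite set Ω, let o ∈ Ω, and let α be an automorphism of G. Then α is induced by conjugation by a permutation of Ω normalizing G if and only if the image under α of the stabilizer of o fixes some point of Ω. -/
theorem result {Ω : Type*} [Fintype Ω] (G : Subgroup (Equiv.Perm Ω)) (htr : MulAction.IsPretransitive G Ω) (o : Ω) (α : G ≃* G) : (∃ σ : Equiv.Perm Ω, σ ∈ Subgroup.normalizer (G : Set (Equiv.Perm Ω)) ∧ ∀ g : G, ((α g : G) : Equiv.Perm Ω) = σ * (g : Equiv.Perm Ω) * σ⁻¹) ↔ ∃ ω : Ω, ∀ g ∈ (MulAction.stabilizer G o).map α.toMonoidHom, g • ω = ω := by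
  classical
  have hst : ∀ (g h : G), g • o = h • o → g⁻¹ * h ∈ MulAction.stabilizer G o := fun g h e => by
    rw [MulAction.mem_stabilizer_iff, mul_smul, ← e, inv_smul_smul]
  constructor
  · rintro ⟨σ, hσn, hσ⟩
    refine ⟨σ o, ?_⟩
    rintro _ ⟨h, hh, rfl⟩
    have : ((h : G) : Equiv.Perm Ω) o = o := MulAction.mem_stabilizer_iff.1 hh
    show ((α h : G) : Equiv.Perm Ω) (σ o) = σ o
    rw [hσ h]
    simp [Equiv.Perm.mul_apply, this]
  · rintro ⟨ω, hω⟩
    choose rep hrep using fun z : Ω => htr.exists_smul_eq o z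
    let s : Ω → Ω := fun z => α (rep z) • ω
    have hs : ∀ g : G, s (g • o) = α g • ω := by
      intro g
      have h1 := hω _ ⟨_, hst g (rep (g • o)) (hrep _).symm, rfl⟩
      simp only [MulEquiv.coe_toMonoidHom, map_mul, map_inv, mul_smul] at h1
      rw [inv_smul_eq_iff] at h1
      exact h1
    have hsurj : Function.Surjective s := by
      intro z
      obtain ⟨g, rfl⟩ := htr.exists_smul_eq ω z
      exact ⟨α.symm g • o, by rw [hs, MulEquiv.apply_symm_apply]⟩
    let σ : Equiv.Perm Ω := Equiv.ofBijective s ⟨Finite.injective_iff_surjective.2 hsurj, hsurj⟩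
    have key : ∀ g : G, ((α g : G) : Equiv.Perm Ω) = σ * (g : Equiv.Perm Ω) * σ⁻¹ := by
      intro g
      apply eq_mul_inv_of_mul_eq
      ext z
      obtain ⟨h, rfl⟩ := htr.exists_smul_eq o z
      show α g • s (h • o) = s (g • h • o)
      rw [← mul_smul g h, hs, hs, map_mul, mul_smul]
    refine ⟨σ, ?_, key⟩
    rw [Subgroup.mem_normalizer_iff]
    intro π
    constructor
    · intro hπ
      rw [← key ⟨π, hπ⟩]
      exact (α ⟨π, hπ⟩).2
    · intro hπ
      obtain ⟨g, hg⟩ : ∃ g : G, α g = ⟨_, hπ⟩ := ⟨α.symm ⟨_, hπ⟩, α.apply_symm_apply _⟩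
      have h2 := key g
      rw [hg] at h2
      have h3 : π = (g : Equiv.Perm Ω) := mul_left_cancel (mul_right_cancel h2)
      rw [h3]
      exact g.2

end Cfsg.Agent.S4275
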