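import Mathlib.GroupTheory.GroupAction.MultipleTransitivity
import Mathlib.GroupTheory.OrderOfElement
import Mathlib.Data.Matrix.Mul
import Mathlib.Algebra.BigOperators.Ring.Finset
import Mathlib.Data.Rat.Lemmas
import Mathlib.FieldTheory.Finite.Basic
import Mathlib.Tactic.LinearCombination
import Mathlib.Tactic.Ring

/-!
An odd-order automorphism of a doubly transitive group: the square of the incidence matrix of the
twisted symmetric design forces the design to be trivial.
-/

set_option autoImplicit false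
set_option linter.style.haveILetI false
set_option linter.unusedSectionVars false

namespace Cfsg.Agent.S4276

open Finset Matrix

variable {G : Type*} [Group G] {Ω : Type*} [Fintype Ω] [DecidableEq Ω] [MulAction G Ω]

/-- invariance of a matrix under `x ↦ g • x`, `y ↦ γ g • y` -/
private def IsTw (γ : MulAut G) (A : Matrix Ω Ω ℚ) : Prop := ∀ g x y, A (g • x) (γ g • y) = A x y

/-- a set invariant under the image of the stabilizer of `o` -/
private def Inv (o : Ω) (γ : MulAut G) (D : Finset Ω) : Prop := ∀ g : G, g • o = o → ∀ y ∈ D, γ g • y ∈ D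

open Classical in
private noncomputable def inc (o : Ω) (γ : MulAut G) (D : Finset Ω) : Matrix Ω Ω ℚ :=
  Matrix.of fun x y => if ∃ g : G, g • o = x ∧ (γ g)⁻¹ • y ∈ D then 1 else 0

private def J : Matrix Ω Ω ℚ := Matrix.of fun _ _ => 1

variable {o : Ω} {γ : MulAut G}

private theorem inc_self {D : Finset Ω} (hD : Inv o γ D) (y : Ω) : inc o γ D o y = if y ∈ D then 1 else 0 := by
  rw [inc, Matrix.of_apply]
  by_cases hy : y ∈ D
  · rw [if_pos hy, if_pos ⟨1, one_smul G o, by rwa [map_one, inv_one, one_smul]⟩]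
  · rw [if_neg hy, if_neg]
    rintro ⟨g, hg, h⟩
    have := hD g hg _ h
    rw [smul_inv_smul] at this
    exact hy this

private theorem inc_tw (D : Finset Ω) : IsTw γ (inc o γ D) := by
  intro g x y
  rw [inc, Matrix.of_apply, Matrix.of_apply]
  congr 1
  refine propext ⟨?_, ?_⟩
  · rintro ⟨g', hg', h⟩
    refine ⟨g⁻¹ * g', by rw [mul_smul, hg', inv_smul_smul], ?_⟩
    rwa [map_mul, map_inv, _root_.mul_inv_rev, inv_inv, mul_smul]
  · rintro ⟨g', hg', h⟩
    refine ⟨g * g', by rw [mul_smul, hg'], ?_⟩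
    rwa [map_mul, _root_.mul_inv_rev, mul_smul, inv_smul_smul]

private theorem tw_mul {γ' : MulAut G} {A B : Matrix Ω Ω ℚ} (hA : IsTw γ A) (hB : IsTw γ' B) : IsTw (γ' * γ) (A * B) := by
  intro g x y
  rw [Matrix.mul_apply, Matrix.mul_apply, ← Equiv.sum_comp (MulAction.toPerm (γ g))]
  refine Finset.sum_congr rfl fun z _ => ?_
  rw [MulAction.toPerm_apply, hA, MulAut.mul_apply, hB]

private theorem tw_transpose_mul {A B : Matrix Ω Ω ℚ} (hA : IsTw γ A) (hB : IsTw γ B) :
    IsTw (1 : MulAut G) (Aᵀ * B) := by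
  intro g x y
  obtain ⟨g, rfl⟩ := γ.surjective g
  rw [MulAut.one_apply, Matrix.mul_apply, Matrix.mul_apply, ← Equiv.sum_comp (MulAction.toPerm g)]
  refine Finset.sum_congr rfl fun z _ => ?_
  rw [MulAction.toPerm_apply, Matrix.transpose_apply, Matrix.transpose_apply, hA, hB]

private theorem tw_mul_transpose {A : Matrix Ω Ω ℚ} (hA : IsTw γ A) : IsTw (1 : MulAut G) (A * Aᵀ) := by
  intro g x y
  rw [MulAut.one_apply, Matrix.mul_apply, Matrix.mul_apply, ← Equiv.sum_comp (MulAction.toPerm (γ g))]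
  refine Finset.sum_congr rfl fun z _ => ?_
  rw [MulAction.toPerm_apply, Matrix.transpose_apply, Matrix.transpose_apply, hA, hA]

private theorem two_valued (h2 : MulAction.IsMultiplyPretransitive G Ω 2) (hn : 2 ≤ Fintype.card Ω)
    {A : Matrix Ω Ω ℚ} (hA : IsTw (1 : MulAut G) A) : ∃ a b : ℚ, A = a • (1 : Matrix Ω Ω ℚ) + b • J := by
  obtain ⟨x₀, y₀, hne⟩ := Fintype.exists_pair_of_one_lt_card (α := Ω) (by omega)
  rw [MulAction.is_two_pretransitive_iff] at h2
  refine ⟨A x₀ x₀ - A x₀ y₀, A x₀ y₀, ?_⟩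
  ext x y
  simp only [Matrix.add_apply, Matrix.smul_apply, J, Matrix.of_apply, smul_eq_mul, mul_one]
  by_cases hxy : x = y
  · subst hxy
    rw [Matrix.one_apply_eq, mul_one, sub_add_cancel]
    by_cases hx : x = x₀
    · rw [hx]
    · obtain ⟨z, hz⟩ := Fintype.exists_ne_of_one_lt_card (by omega) x
      obtain ⟨g, hg, -⟩ := h2 (a := x₀) (b := y₀) (c := x) (d := z) hne hz.symm
      rw [← hg]
      exact hA g x₀ x₀
  · obtain ⟨g, hg, hg'⟩ := h2 (a := x₀) (b := y₀) (c := x) (d := y) hne hxy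
    rw [Matrix.one_apply_ne hxy, mul_zero, zero_add, ← hg, ← hg']
    exact hA g x₀ y₀

private theorem mulJ (A : Matrix Ω Ω ℚ) (x y : Ω) : (A * (J : Matrix Ω Ω ℚ)) x y = ∑ z, A x z := by
  simp [Matrix.mul_apply, J]

private theorem Jmul (A : Matrix Ω Ω ℚ) (x y : Ω) : ((J : Matrix Ω Ω ℚ) * A) x y = ∑ z, A z y := by
  simp [Matrix.mul_apply, J]

variable (h2 : MulAction.IsMultiplyPretransitive G Ω 2) (hn : 2 ≤ Fintype.card Ω)

include h2 hn

private theorem pretransitive : MulAction.IsPretransitive G Ω := by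
  refine ⟨fun x y => ?_⟩
  obtain ⟨z, hz⟩ := Fintype.exists_ne_of_one_lt_card (by omega) x
  obtain ⟨w, hw⟩ := Fintype.exists_ne_of_one_lt_card (by omega) y
  obtain ⟨g, hg, -⟩ := (MulAction.is_two_pretransitive_iff.1 h2) hz.symm hw.symm
  exact ⟨g, hg⟩

private theorem row_sum {D : Finset Ω} (hD : Inv o γ D) (x : Ω) : ∑ y, inc o γ D x y = (#D : ℚ) := by
  haveI := pretransitive h2 hn
  obtain ⟨g, rfl⟩ := MulAction.exists_smul_eq G o x
  rw [← Equiv.sum_comp (MulAction.toPerm (γ g))]
  simp only [MulAction.toPerm_apply, inc_tw D g, inc_self hD]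
  simp

private theorem col_sum {D : Finset Ω} (hD : Inv o γ D) (y : Ω) : ∑ x, inc o γ D x y = (#D : ℚ) := by
  haveI := pretransitive h2 hn
  have hconst : ∀ y', ∑ x, inc o γ D x y' = ∑ x, inc o γ D x y := by
    intro y'
    obtain ⟨g, rfl⟩ := MulAction.exists_smul_eq G y y'
    obtain ⟨g, rfl⟩ := γ.surjective g
    rw [← Equiv.sum_comp (MulAction.toPerm g)]
    simp only [MulAction.toPerm_apply, inc_tw D g]
  have h := Finset.sum_comm (s := (univ : Finset Ω)) (t := (univ : Finset Ω)) (f := fun a b => inc o γ D a b)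
  simp only [row_sum h2 hn hD, hconst, Finset.sum_const, Finset.card_univ, nsmul_eq_mul] at h
  exact mul_left_cancel₀ (by simp; omega) h.symm

private theorem design {D : Finset Ω} (hD : Inv o γ D) :
    ∃ s l : ℚ, inc o γ D * (inc o γ D)ᵀ = s • (1 : Matrix Ω Ω ℚ) + l • J ∧
      ∃ lz : ℤ, l = lz ∧ s = (#D : ℚ) - l ∧ s * ((Fintype.card Ω : ℚ) - 1) = (#D : ℚ) * ((Fintype.card Ω : ℚ) - #D) := by
  obtain ⟨s, l, h⟩ := two_valued h2 hn (tw_mul_transpose (inc_tw (o := o) (γ := γ) D))
  obtain ⟨x, hx⟩ := Fintype.exists_ne_of_one_lt_card (by omega) o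
  have hsq : ∀ a b, inc o γ D a b * inc o γ D a b = inc o γ D a b := by
    intro a b
    rw [inc, Matrix.of_apply]
    split_ifs <;> norm_num
  have hdiag : s + l = #D := by
    have h1 := congrFun (congrFun h o) o
    simp only [Matrix.mul_apply, Matrix.transpose_apply, hsq, row_sum h2 hn hD, Matrix.add_apply, Matrix.smul_apply,
      Matrix.one_apply_eq, J, Matrix.of_apply, smul_eq_mul, mul_one] at h1
    exact h1.symm
  refine ⟨s, l, h, ∑ z, (if inc o γ D o z * inc o γ D x z = 1 then 1 else 0), ?_, by linarith, ?_⟩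
  · have h1 := congrFun (congrFun h o) x
    simp only [Matrix.mul_apply, Matrix.transpose_apply, Matrix.add_apply, Matrix.smul_apply,
      Matrix.one_apply_ne hx.symm, J, Matrix.of_apply, smul_eq_mul, mul_zero, zero_add, mul_one] at h1
    rw [← h1, Int.cast_sum]
    refine Finset.sum_congr rfl fun z _ => ?_
    simp only [inc, Matrix.of_apply]
    split_ifs <;> simp_all
  · have h1 : ∑ y, (inc o γ D * (inc o γ D)ᵀ) o y = (#D : ℚ) * #D := by
      simp only [Matrix.mul_apply, Matrix.transpose_apply]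
      rw [Finset.sum_comm]
      simp only [← Finset.mul_sum, col_sum h2 hn hD]
      rw [← Finset.sum_mul, row_sum h2 hn hD]
    rw [h] at h1
    simp only [Matrix.add_apply, Matrix.smul_apply, J, Matrix.of_apply, smul_eq_mul, mul_one, Finset.sum_add_distrib,
      ← Finset.mul_sum, Finset.sum_const, Finset.card_univ, nsmul_eq_mul, Matrix.one_apply, Finset.sum_ite_eq,
      mem_univ, if_true] at h1
    linear_combination (Fintype.card Ω : ℚ) * hdiag - h1

private theorem order_pos {D : Finset Ω} (hne : D.Nonempty) (hlt : #D < Fintype.card Ω) {s : ℚ}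
    (hs : s * ((Fintype.card Ω : ℚ) - 1) = (#D : ℚ) * ((Fintype.card Ω : ℚ) - #D)) : 0 < s := by
  have h1 : (1 : ℚ) ≤ #D := by exact_mod_cast hne.card_pos
  have h3 : (#D : ℚ) + 1 ≤ Fintype.card Ω := by exact_mod_cast hlt
  have h4 : 0 < (#D : ℚ) * ((Fintype.card Ω : ℚ) - #D) := mul_pos (by linarith) (by linarith)
  rw [← hs] at h4
  exact (mul_pos_iff_of_pos_right (by linarith)).1 h4

/-- all twisted matrices come from one proper incidence matrix -/
private theorem tw_eq {D : Finset Ω} (hD : Inv o γ D) (hne : D.Nonempty) (hlt : #D < Fintype.card Ω)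
    {A : Matrix Ω Ω ℚ} (hA : IsTw γ A) (c : ℚ) (hcol : ∀ y, ∑ x, A x y = c) :
    ∃ a b : ℚ, A = a • inc o γ D + b • J := by
  obtain ⟨s, l, hTT, lz, -, hs1, hs⟩ := design h2 hn hD
  have hs0 : s ≠ 0 := (order_pos h2 hn hne hlt hs).ne'
  obtain ⟨u, v, huv⟩ := two_valued h2 hn (tw_transpose_mul (inc_tw (o := o) (γ := γ) D) hA)
  have h := congrArg (fun M => inc o γ D * M) huv
  rw [← Matrix.mul_assoc, hTT, Matrix.add_mul, Matrix.smul_mul, Matrix.smul_mul, Matrix.one_mul, Matrix.mul_add,
    Matrix.mul_smul, Matrix.mul_smul, Matrix.mul_one] at h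
  refine ⟨u / s, (v * #D - l * c) / s, ?_⟩
  ext x y
  have h1 := congrFun (congrFun h x) y
  simp only [Matrix.add_apply, Matrix.smul_apply, smul_eq_mul, mulJ, Jmul, row_sum h2 hn hD, hcol] at h1
  simp only [Matrix.add_apply, Matrix.smul_apply, smul_eq_mul, J, Matrix.of_apply, mul_one]
  field_simp
  linear_combination h1

private theorem step {D : Finset Ω} (hD : Inv o γ D) (hne : D.Nonempty) (hlt : #D < Fintype.card Ω)
    (hcop : (#D).Coprime (Fintype.card Ω)) :
    ∃ D' : Finset Ω, Inv o (γ * γ) D' ∧ D'.Nonempty ∧ #D' < Fintype.card Ω ∧ (#D').Coprime (Fintype.card Ω) ∧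
      (#D' = 1 ∨ #D' = Fintype.card Ω - 1) := by
  classical
  haveI := pretransitive h2 hn
  obtain ⟨s, l, hTT, lz, hlz, hs1, hs⟩ := design h2 hn hD
  have hspos := order_pos h2 hn hne hlt hs
  set T := inc o γ D with hT
  set P := T * T with hP
  have hPtw : IsTw (γ * γ) P := tw_mul (inc_tw D) (inc_tw D)
  have hPcol : ∀ y, ∑ x, P x y = (#D : ℚ) * #D := by
    intro y
    simp only [hP, Matrix.mul_apply]
    rw [Finset.sum_comm]
    simp only [← Finset.sum_mul, hT, col_sum h2 hn hD]
    rw [← Finset.mul_sum, col_sum h2 hn hD]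
  have hProw : ∀ x, ∑ y, P x y = (#D : ℚ) * #D := by
    intro x
    simp only [hP, Matrix.mul_apply]
    rw [Finset.sum_comm]
    simp only [← Finset.mul_sum, hT, row_sum h2 hn hD]
    rw [← Finset.sum_mul, row_sum h2 hn hD]
  have hPP : P * Pᵀ = (s * s) • (1 : Matrix Ω Ω ℚ) + (s * l + l * (#D * #D)) • J := by
    rw [hP, Matrix.transpose_mul, Matrix.mul_assoc T T, ← Matrix.mul_assoc T Tᵀ Tᵀ, hTT, Matrix.add_mul,
      Matrix.smul_mul, Matrix.smul_mul, Matrix.one_mul, Matrix.mul_add, Matrix.mul_smul, Matrix.mul_smul, hTT]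
    ext x y
    simp only [Matrix.add_apply, Matrix.smul_apply, smul_eq_mul, Matrix.mul_apply, J, Matrix.of_apply, one_mul,
      mul_one, Matrix.transpose_apply, hT, row_sum h2 hn hD]
    rw [← Finset.sum_mul, row_sum h2 hn hD]
    ring
  obtain ⟨x₁, hx₁⟩ := Fintype.exists_ne_of_one_lt_card (by omega) o
  -- two values in the base row
  obtain ⟨y₀, y₁, hy⟩ : ∃ y₀ y₁, P o y₀ ≠ P o y₁ := by
    by_contra h
    push Not at h
    have hc : ∀ x y, P x y = P o o := by
      intro x y
      obtain ⟨g, rfl⟩ := MulAction.exists_smul_eq G o x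
      rw [show y = (γ * γ) g • (((γ * γ) g)⁻¹ • y) by rw [smul_inv_smul], hPtw]
      exact h _ _
    have e1 := congrFun (congrFun hPP o) o
    have e2 := congrFun (congrFun hPP o) x₁
    simp only [Matrix.mul_apply, Matrix.transpose_apply, hc, Matrix.add_apply, Matrix.smul_apply, Matrix.one_apply_eq,
      Matrix.one_apply_ne hx₁.symm, J, Matrix.of_apply, smul_eq_mul, mul_one, mul_zero, zero_add] at e1 e2
    nlinarith
  set D' : Finset Ω := univ.filter fun y => P o y = P o y₀ with hD'
  have hD'inv : Inv o (γ * γ) D' := by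
    intro g hg y hy'
    simp only [hD', mem_filter, mem_univ, true_and] at hy' ⊢
    rw [← hy']
    conv_lhs => rw [← hg]
    exact hPtw g o y
  have hD'ne : D'.Nonempty := ⟨y₀, by simp [hD']⟩
  have hy₁ : y₁ ∉ D' := by simp [hD', Ne.symm hy]
  have hD'lt : #D' < Fintype.card Ω := Finset.card_lt_univ_of_notMem hy₁
  obtain ⟨a, b, hab⟩ := tw_eq h2 hn hD'inv hD'ne hD'lt hPtw _ hPcol
  obtain ⟨s', l', hTT', lz', hlz', hs1', hs'⟩ := design h2 hn hD'inv
  have hs'pos := order_pos h2 hn hD'ne hD'lt hs'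
  set T' := inc o (γ * γ) D' with hT'
  obtain ⟨b0, hb0⟩ : ∃ z : ℤ, P o y₀ = z ∧ ∀ y, ∃ w : ℤ, P o y = w := by
    have hint : ∀ y, ∃ w : ℤ, P o y = w := by
      intro y
      refine ⟨∑ z, (if T o z = 1 then 1 else 0) * (if T z y = 1 then 1 else 0), ?_⟩
      rw [hP, Matrix.mul_apply, Int.cast_sum]
      refine Finset.sum_congr rfl fun z _ => ?_
      have h01 : ∀ u v, T u v = 0 ∨ T u v = 1 := fun u v => by
        simp only [hT, inc, Matrix.of_apply]
        split_ifs
        · exact Or.inr rfl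
        · exact Or.inl rfl
      rcases h01 o z with e | e <;> rcases h01 z y with e' | e' <;> simp [e, e']
    obtain ⟨z, hz⟩ := hint y₀
    exact ⟨z, hz, hint⟩
  obtain ⟨b1, hb1⟩ := hb0.2 y₁
  have hbv : b = b1 := by
    have := congrFun (congrFun hab o) y₁
    simp only [Matrix.add_apply, Matrix.smul_apply, smul_eq_mul, hT', inc_self hD'inv, if_neg hy₁, mul_zero, zero_add,
      J, Matrix.of_apply, mul_one, hb1] at this
    exact this.symm
  have hav : a = ((b0 - b1 : ℤ) : ℚ) := by
    have := congrFun (congrFun hab o) y₀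
    simp only [Matrix.add_apply, Matrix.smul_apply, smul_eq_mul, hT', inc_self hD'inv,
      if_pos (show y₀ ∈ D' by simp [hD']), J, Matrix.of_apply, mul_one, hb0.1, hbv] at this
    push_cast
    linarith
  set α : ℤ := b0 - b1 with hα
  -- row sums
  have hrow : (#D : ℚ) * #D = a * #D' + b * Fintype.card Ω := by
    rw [← hProw o, hab]
    simp only [Matrix.add_apply, Matrix.smul_apply, smul_eq_mul, J, Matrix.of_apply, mul_one, Finset.sum_add_distrib,
      ← Finset.mul_sum, hT', row_sum h2 hn hD'inv, Finset.sum_const, Finset.card_univ, nsmul_eq_mul]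
    ring
  -- the orders
  have hord : s * s = a * a * s' := by
    have hent : ∀ x y, (P * Pᵀ) x y = a * a * ((s' • (1 : Matrix Ω Ω ℚ) + l' • (J : Matrix Ω Ω ℚ)) x y) +
        (2 * a * b * #D' + b * b * Fintype.card Ω) := by
      intro x y
      rw [← hTT', hab]
      simp only [Matrix.mul_apply, Matrix.transpose_apply, Matrix.add_apply, Matrix.smul_apply, smul_eq_mul, J,
        Matrix.of_apply, mul_one]
      calc ∑ z, (a * T' x z + b) * (a * T' y z + b)
          = ∑ z, (a * a * (T' x z * T' y z) + a * b * T' x z + a * b * T' y z + b * b) :=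
            Finset.sum_congr rfl fun z _ => by ring
        _ = _ := by
            simp only [Finset.sum_add_distrib, ← Finset.mul_sum, hT', row_sum h2 hn hD'inv, Finset.sum_const,
              Finset.card_univ, nsmul_eq_mul]
            ring
    have e1 := hent o o
    have e2 := hent o x₁
    rw [hPP] at e1 e2
    simp only [Matrix.add_apply, Matrix.smul_apply, Matrix.one_apply_eq, Matrix.one_apply_ne hx₁.symm, J,
      Matrix.of_apply, smul_eq_mul, mul_one, mul_zero, zero_add] at e1 e2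
    linear_combination e1 - e2
  -- arithmetic
  set n := Fintype.card Ω with hnn
  set k := #D with hk
  set k' := #D' with hk'
  have ha0 : α ≠ 0 := fun h => by
    rw [hav, h] at hord
    push_cast at hord
    nlinarith
  set S : ℤ := (k : ℤ) - lz with hS
  set S' : ℤ := (k' : ℤ) - lz' with hS'
  have eS : s = (S : ℚ) := by rw [hs1, hlz, hS]; push_cast; ring
  have eS' : s' = (S' : ℚ) := by rw [hs1', hlz', hS']; push_cast; ring
  have z1 : S * S = α * α * S' := by
    rw [eS, eS', hav] at hord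
    exact_mod_cast hord
  have z2 : (k : ℤ) * k = α * k' + b1 * n := by
    rw [hav, hbv] at hrow
    exact_mod_cast hrow
  have z3 : S * ((n : ℤ) - 1) = (k : ℤ) * (n - k) := by
    rw [eS] at hs
    exact_mod_cast hs
  have z3' : S' * ((n : ℤ) - 1) = (k' : ℤ) * (n - k') := by
    rw [eS'] at hs'
    exact_mod_cast hs'
  have zS' : 0 < S' := by
    rw [eS'] at hs'pos
    exact_mod_cast hs'pos
  have hdvd : α ∣ S := (Int.pow_dvd_pow_iff two_ne_zero).1 ⟨S', by rw [sq, sq, z1]⟩
  obtain ⟨m, hm⟩ := hdvd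
  have hm2 : S' = m * m := by
    rw [hm] at z1
    exact (mul_left_cancel₀ (mul_ne_zero ha0 ha0) (by linear_combination z1)).symm
  have hSk : (n : ℤ) ∣ S - (k : ℤ) * k := ⟨S - k, by linear_combination -z3⟩
  have hcopk : IsCoprime (n : ℤ) ((k : ℤ) * k) := by
    have := Nat.isCoprime_iff_coprime.2 hcop.symm
    exact this.mul_right this
  have hcopS : IsCoprime (n : ℤ) S := by
    obtain ⟨c, hc⟩ := hSk
    rw [show S = (k : ℤ) * k + n * c by linarith]
    exact hcopk.add_mul_left_right c
  -- `α k' ≡ α m` modulo `n`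
  have hkm : (n : ℤ) ∣ (k' : ℤ) - m := by
    refine (IsCoprime.of_mul_right_left (hm ▸ hcopS : IsCoprime (n : ℤ) (α * m))).dvd_of_dvd_mul_left ?_
    obtain ⟨c, hc⟩ := hSk
    exact ⟨-b1 - c, by linear_combination -z2 + hm - hc⟩
  have hkn : (k' : ℤ) + 1 ≤ n := by exact_mod_cast hD'lt
  have hk1 : (1 : ℤ) ≤ k' := by exact_mod_cast hD'ne.card_pos
  have hn2 : (2 : ℤ) ≤ n := by exact_mod_cast hn
  have hle1 : S' ≤ k' := by
    refine le_of_mul_le_mul_right (a := (n : ℤ) - 1) ?_ (by omega)
    rw [z3']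
    exact mul_le_mul_of_nonneg_left (by omega) (by omega)
  have hle2 : S' ≤ n - k' := by
    refine le_of_mul_le_mul_right (a := (n : ℤ) - 1) ?_ (by omega)
    rw [z3', mul_comm]
    exact mul_le_mul_of_nonneg_left (by omega) (by omega)
  have hm0 : m ≠ 0 := fun h => by rw [h, mul_zero] at hm2; omega
  have hend : k' = 1 ∨ k' = n - 1 := by
    rcases lt_or_gt_of_ne hm0 with hneg | hpos
    · right
      have h1 : -m ≤ S' := by rw [hm2]; nlinarith
      obtain ⟨c, hc⟩ := hkm
      have hc1 : c = 1 := by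
        have hcl : 0 < c := by nlinarith
        have hcu : c ≤ 1 := by nlinarith
        omega
      subst hc1
      have h2' : m * m ≤ -m := by rw [← hm2]; omega
      have : m = -1 := by nlinarith
      omega
    · left
      have h1 : m ≤ S' := by rw [hm2]; nlinarith
      obtain ⟨c, hc⟩ := hkm
      have hc0 : c = 0 := by
        have hcl : c < 1 := by nlinarith
        have hcu : -1 < c := by nlinarith
        omega
      subst hc0
      have h2' : m * m ≤ m := by rw [← hm2]; omega
      have : m = 1 := by nlinarith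
      omega
  refine ⟨D', hD'inv, hD'ne, hD'lt, ?_, hend⟩
  rcases hend with h | h <;> rw [← hk', h]
  · exact Nat.coprime_one_left n
  · exact (Nat.coprime_self_sub_left (by omega : 1 ≤ n)).2 (Nat.coprime_one_left n)

omit h2 hn

theorem main {α : MulAut G} (h2 : MulAction.IsMultiplyPretransitive G Ω 2) (o : Ω) (hα : Odd (orderOf α)) (ω : Ω)
    (hk : (Nat.card (MulAction.orbit ((MulAction.stabilizer G o).map α.toMonoidHom) ω)).Coprime (Fintype.card Ω)) :
    (∃ σ : Equiv.Perm Ω, ∀ (g : G) (x : Ω), α g • σ x = σ (g • x)) ∧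
      (Nat.card (MulAction.orbit ((MulAction.stabilizer G o).map α.toMonoidHom) ω) = 1 ∨
        Nat.card (MulAction.orbit ((MulAction.stabilizer G o).map α.toMonoidHom) ω) = Fintype.card Ω - 1) := by
  classical
  rcases Nat.lt_or_ge (Fintype.card Ω) 2 with hsmall | hn
  · haveI : Subsingleton Ω := Fintype.card_le_one_iff_subsingleton.1 (by omega)
    refine ⟨⟨Equiv.refl Ω, fun g x => Subsingleton.elim _ _⟩, Or.inl ?_⟩
    haveI : Nonempty (MulAction.orbit ((MulAction.stabilizer G o).map α.toMonoidHom) ω) :=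
      ⟨⟨ω, MulAction.mem_orbit_self ω⟩⟩
    exact Nat.card_of_subsingleton (Classical.arbitrary _)
  set O := MulAction.orbit ((MulAction.stabilizer G o).map α.toMonoidHom) ω with hO
  set D := O.toFinset with hDdef
  have hcard : Nat.card O = #D := by rw [Nat.card_eq_fintype_card, hDdef, Set.toFinset_card]
  rw [hcard] at hk
  have hDinv : Inv o α D := by
    intro g hg y hy
    rw [hDdef, Set.mem_toFinset] at hy ⊢
    obtain ⟨m, rfl⟩ := hy
    exact ⟨⟨α g * m, mul_mem (Subgroup.mem_map_of_mem _ hg) m.2⟩, mul_smul _ _ _⟩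
  have hDne : D.Nonempty := ⟨ω, by rw [hDdef, Set.mem_toFinset]; exact MulAction.mem_orbit_self ω⟩
  have hDlt : #D < Fintype.card Ω := by
    refine lt_of_le_of_ne (Finset.card_le_univ D) fun h => ?_
    rw [h, Nat.coprime_self] at hk
    omega
  have hiter : ∀ i : ℕ, ∃ D' : Finset Ω, Inv o (α ^ (2 ^ i)) D' ∧ D'.Nonempty ∧ #D' < Fintype.card Ω ∧
      (#D').Coprime (Fintype.card Ω) := by
    intro i
    induction i with
    | zero => exact ⟨D, by rwa [pow_zero, pow_one], hDne, hDlt, hk⟩
    | succ i ih =>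
      obtain ⟨D', e1, e2, e3, e4⟩ := ih
      obtain ⟨D'', f1, f2, f3, f4, -⟩ := step h2 hn e1 e2 e3 e4
      exact ⟨D'', by rwa [pow_succ, mul_two, pow_add], f2, f3, f4⟩
  obtain ⟨i, hi⟩ : ∃ i, α ^ (2 ^ i) * α ^ (2 ^ i) = α := by
    have hrpos : 0 < orderOf α := hα.pos
    refine ⟨Nat.totient (orderOf α) - 1, ?_⟩
    have h := Nat.ModEq.pow_totient (Nat.coprime_two_left.2 hα)
    have htot : 0 < Nat.totient (orderOf α) := Nat.totient_pos.2 hrpos
    rw [← pow_add, ← two_mul, ← pow_succ', Nat.sub_add_cancel htot]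
    conv_rhs => rw [← pow_one α]
    exact pow_eq_pow_iff_modEq.2 h
  obtain ⟨D', e1, e2, e3, e4⟩ := hiter i
  obtain ⟨D₂, f1, f2, f3, -, f5⟩ := step h2 hn e1 e2 e3 e4
  rw [hi] at f1
  -- `D` is `D₂` or its complement
  obtain ⟨a, b, hab⟩ := tw_eq h2 hn f1 f2 f3 (inc_tw (o := o) (γ := α) D) _ (col_sum h2 hn hDinv)
  obtain ⟨y₀, hy₀⟩ := f2
  have hrow : ∀ y, (if y ∈ D then (1 : ℚ) else 0) = a * (if y ∈ D₂ then (1 : ℚ) else 0) + b := by
    intro y
    have h := congrFun (congrFun hab o) y
    simpa [inc_self hDinv, inc_self f1, J] using h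
  have hor : D = D₂ ∨ D = D₂ᶜ := by
    by_cases h : y₀ ∈ D
    · left
      ext y
      have h0 := hrow y₀
      rw [if_pos h, if_pos hy₀] at h0
      refine ⟨fun hy => ?_, fun hy => ?_⟩
      · by_contra hy'
        have h1 := hrow y
        rw [if_pos hy, if_neg hy'] at h1
        have hab' : D = univ := eq_univ_of_forall fun z => by
          by_contra hz
          have h3 := hrow z
          rw [if_neg hz] at h3
          split_ifs at h3 <;> linarith
        rw [hab', Finset.card_univ] at hDlt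
        omega
      · by_contra hy'
        have h1 := hrow y
        rw [if_neg hy', if_pos hy] at h1
        linarith
    · right
      ext y
      rw [mem_compl]
      have h0 := hrow y₀
      rw [if_neg h, if_pos hy₀] at h0
      refine ⟨fun hy hy' => ?_, fun hy => ?_⟩
      · have h1 := hrow y
        rw [if_pos hy, if_pos hy'] at h1
        linarith
      · by_contra hy'
        have h1 := hrow y
        rw [if_neg hy', if_neg hy] at h1
        obtain ⟨z, hz⟩ := hDne
        have h3 := hrow z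
        rw [if_pos hz] at h3
        split_ifs at h3 <;> linarith
  refine ⟨?_, ?_⟩
  swap
  · rw [hcard]
    rcases hor with h | h
    · rw [h]; exact f5
    · rw [h, Finset.card_compl]; omega
  -- a fixed point
  obtain ⟨w, hw⟩ : ∃ w : Ω, ∀ g : G, g • o = o → α g • w = w := by
    rcases f5 with h | h
    · obtain ⟨w, hw⟩ := Finset.card_eq_one.1 h
      refine ⟨w, fun g hg => ?_⟩
      simpa [hw] using f1 g hg w (by rw [hw]; exact mem_singleton_self w)
    · obtain ⟨w, hw⟩ := Finset.card_eq_one.1 (show #D₂ᶜ = 1 by rw [Finset.card_compl]; omega)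
      refine ⟨w, fun g hg => ?_⟩
      by_contra hne
      have hmem : α g • w ∈ D₂ := by
        by_contra hh
        rw [← mem_compl, hw, mem_singleton] at hh
        exact hne hh
      have hg' : g⁻¹ • o = o := by rw [inv_smul_eq_iff, hg]
      have := f1 g⁻¹ hg' _ hmem
      rw [map_inv, inv_smul_smul] at this
      have hwn : w ∉ D₂ := by rw [← mem_compl, hw]; exact mem_singleton_self w
      exact hwn this
  haveI := pretransitive h2 hn
  choose t ht using fun x : Ω => MulAction.exists_smul_eq G o x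
  have key : ∀ (g : G) (x : Ω), α g • (α (t x) • w) = α (t (g • x)) • w := by
    intro g x
    have hfix : ((t (g • x))⁻¹ * (g * t x)) • o = o := by rw [mul_smul, mul_smul, ht, inv_smul_eq_iff, ht]
    have := hw _ hfix
    rw [map_mul, map_inv, map_mul, mul_smul, inv_smul_eq_iff, mul_smul] at this
    exact this
  have hsurj : Function.Surjective (fun x => α (t x) • w) := by
    intro y
    obtain ⟨g, rfl⟩ := MulAction.exists_smul_eq G (α (t o) • w) y
    obtain ⟨g, rfl⟩ := α.surjective g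
    exact ⟨g • o, (key g o).symm⟩
  exact ⟨Equiv.ofBijective _ ⟨Finite.injective_iff_surjective.2 hsurj, hsurj⟩, key⟩

theorem result {Ω : Type*} [Fintype Ω] (G : Subgroup (Equiv.Perm Ω)) (h2 : MulAction.IsMultiplyPretransitive G Ω 2) (o : Ω) (α : MulAut G) (hα : Odd (orderOf α)) (ω : Ω) (hk : (Nat.card (MulAction.orbit ((MulAction.stabilizer G o).map α.toMonoidHom) ω)).Coprime (Fintype.card Ω)) : (∃ σ : Equiv.Perm Ω, σ ∈ Subgroup.normalizer (G : Set (Equiv.Perm Ω)) ∧ ∀ g : G, ((α g : G) : Equiv.Perm Ω) = σ * (g : Equiv.Perm Ω) * σ⁻¹) ∧ (Nat.card (MulAction.orbit ((MulAction.stabilizer G o).map α.toMonoidHom) ω) = 1 ∨ Nat.card (MulAction.orbit ((MulAction.stabilizer G o).map α.toMonoidHom) ω) = Fintype.card Ω - 1) := by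
  classical
  obtain ⟨⟨σ, hσ⟩, hsize⟩ := main h2 o hα ω hk
  have hconj : ∀ g : G, ((α g : G) : Equiv.Perm Ω) = σ * (g : Equiv.Perm Ω) * σ⁻¹ := by
    intro g
    refine Equiv.ext fun x => ?_
    have h := hσ g (σ.symm x)
    simpa [Subgroup.smul_def] using h
  refine ⟨⟨σ, ?_, hconj⟩, hsize⟩
  rw [Subgroup.mem_normalizer_iff]
  intro x
  refine ⟨fun hx => ?_, fun hx => ?_⟩
  · rw [← hconj ⟨x, hx⟩]
    exact (α ⟨x, hx⟩).2
  · obtain ⟨g, hg⟩ := α.surjective ⟨_, hx⟩
    have h := hconj g
    rw [hg] at h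
    have : x = (g : Equiv.Perm Ω) := by
      simpa using h
    rw [this]
    exact g.2

end Cfsg.Agent.S4276
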