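import Cfsg.Prelude.Def_KGroupFacts
import Mathlib.RingTheory.Polynomial.Cyclotomic.Roots
import Mathlib.RingTheory.RootsOfUnity.Complex
import Mathlib.GroupTheory.Sylow
import Mathlib.GroupTheory.Solvable
import Mathlib.GroupTheory.SpecificGroups.Cyclic
import Mathlib.Algebra.BigOperators.Ring.Finset
import Mathlib.Data.Nat.Prime.Factorial

/-!
The automorphisms of a simple group with a subgroup of prime index `p` which fix an element of order `p`
commute, by comparing the circulant incidence matrices attached to them.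
-/

set_option autoImplicit false
set_option linter.style.haveILetI false

namespace Cfsg.Agent.S4277

open scoped Pointwise
open Finset

variable {G : Type*} [Group G] {p : ℕ}

private def pu (u : G) (i : ZMod p) : G := u ^ i.val

private theorem pu_add [NeZero p] {u : G} (hu : u ^ p = 1) (i j : ZMod p) : pu u (i + j) = pu u i * pu u j := by
  rw [pu, pu, pu, ← pow_add, ZMod.val_add]
  exact (pow_eq_pow_mod _ hu).symm

private theorem pu_zero (u : G) : pu u (0 : ZMod p) = 1 := by rw [pu, ZMod.val_zero, pow_zero]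

private theorem pu_neg [NeZero p] {u : G} (hu : u ^ p = 1) (i : ZMod p) : pu u (-i) = (pu u i)⁻¹ := by
  apply eq_inv_of_mul_eq_one_left
  rw [← pu_add hu, neg_add_cancel, pu_zero]

/-- proper nonempty sets of roots of unity have nonzero products of sums, so their convolution is not constant -/
private theorem conv_not_const [hp : Fact p.Prime] (D E : Finset (ZMod p)) (hD : D.Nonempty) (hD' : D ≠ univ)
    (hE : E.Nonempty) (hE' : E ≠ univ) :
    ¬ ∀ m : ZMod p, #(univ.filter fun d => d ∈ D ∧ m - d ∈ E) = #(univ.filter fun d => d ∈ D ∧ (0 : ZMod p) - d ∈ E) := by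
  intro hc
  obtain ⟨ζ, hζ⟩ : ∃ ζ : ℂ, IsPrimitiveRoot ζ p := ⟨_, Complex.isPrimitiveRoot_exp p hp.out.ne_zero⟩
  set z : ZMod p → ℂ := fun i => ζ ^ i.val with hz
  have zadd : ∀ i j, z (i + j) = z i * z j := by
    intro i j
    simp only [hz, ← pow_add, ZMod.val_add]
    exact (pow_eq_pow_mod _ hζ.pow_eq_one).symm
  have key : ∀ α : ZMod p → ℚ, (∑ i, (α i : ℂ) * z i = 0 ↔ ∀ i j, α i = α j) := by
    intro α
    have hbij : Function.Bijective (fun i : Fin p => ((i : ℕ) : ZMod p)) := by
      refine (Fintype.bijective_iff_injective_and_card _).2 ⟨fun a b h => ?_, by simp⟩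
      have := congrArg ZMod.val h
      simp only [ZMod.val_natCast_of_lt a.2, ZMod.val_natCast_of_lt b.2] at this
      exact Fin.ext this
    have hsum : ∑ i, (α i : ℂ) * z i = ∑ i : Fin p, (α ((i : ℕ) : ZMod p) : ℂ) * ζ ^ (i : ℕ) := by
      rw [← (Equiv.ofBijective _ hbij).sum_comp]
      refine Finset.sum_congr rfl fun i _ => ?_
      simp only [Equiv.ofBijective_apply, hz, ZMod.val_natCast_of_lt i.2]
    rw [hsum, IsPrimitiveRoot.sum_eq_zero_iff_forall_eq hp.out hζ]
    refine ⟨fun h i j => ?_, fun h i j => h _ _⟩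
    obtain ⟨a, rfl⟩ := hbij.2 i
    obtain ⟨b, rfl⟩ := hbij.2 j
    exact h a b
  have hne : ∀ S : Finset (ZMod p), S.Nonempty → S ≠ univ → ∑ i ∈ S, z i ≠ 0 := by
    intro S hS hS' h0
    obtain ⟨a, ha⟩ := hS
    obtain ⟨b, hb⟩ : ∃ b, b ∉ S := by
      by_contra h
      push Not at h
      exact hS' (eq_univ_of_forall h)
    have h := (key fun i => if i ∈ S then 1 else 0).1 (by
      rw [← h0, ← Finset.sum_filter_add_sum_filter_not univ (· ∈ S)]
      rw [Finset.sum_congr rfl (g := fun i => z i) (fun i hi => by simp [(mem_filter.1 hi).2]),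
        Finset.sum_congr (s₁ := univ.filter (¬ · ∈ S)) rfl (g := fun _ => (0 : ℂ)) (fun i hi => by simp [(mem_filter.1 hi).2])]
      simp) a b
    simp [ha, hb] at h
  refine mul_ne_zero (hne D hD hD') (hne E hE hE') ?_
  set C := #(univ.filter fun d => d ∈ D ∧ (0 : ZMod p) - d ∈ E) with hC
  calc (∑ d ∈ D, z d) * ∑ e ∈ E, z e
      = ∑ d ∈ D, ∑ m : ZMod p, (if m - d ∈ E then z m else 0) := by
        rw [Finset.sum_mul]
        refine Finset.sum_congr rfl fun d _ => ?_
        rw [Finset.mul_sum, ← Equiv.sum_comp (Equiv.addLeft d) (fun m => if m - d ∈ E then z m else 0)]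
        simp only [Equiv.coe_addLeft, add_sub_cancel_left]
        rw [← Finset.sum_filter, show univ.filter (· ∈ E) = E by ext; simp]
        exact Finset.sum_congr rfl fun e _ => (zadd d e).symm
    _ = ∑ m : ZMod p, (C : ℂ) * z m := by
        rw [Finset.sum_comm]
        refine Finset.sum_congr rfl fun m _ => ?_
        rw [← Finset.sum_filter, Finset.sum_const, nsmul_eq_mul, ← hc m]
        congr 3
        ext d
        simp
    _ = 0 := by
        have h := (key fun _ => (C : ℚ)).2 fun _ _ => rfl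
        simpa using h

section incidence

variable [Finite G] (H : Subgroup G)

/-- the orbit of the base point under the image of `H` -/
private def orb (b : MulAut G) : Set (G ⧸ H) := MulAction.orbit (H.map b.toMonoidHom) ((1 : G) : G ⧸ H)

/-- incidence between points for `id` and points for `b` -/
private def Inc (b : MulAut G) (x y : G ⧸ H) : Prop := ∃ g : G, (g : G ⧸ H) = x ∧ (b g)⁻¹ • y ∈ orb H b

private theorem inc_iff (b : MulAut G) (g : G) (y : G ⧸ H) : Inc H b (g : G ⧸ H) y ↔ (b g)⁻¹ • y ∈ orb H b := by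
  refine ⟨?_, fun h => ⟨g, rfl, h⟩⟩
  rintro ⟨g', hg', h⟩
  have hmem : g⁻¹ * g' ∈ H := by
    rw [← QuotientGroup.eq]
    exact hg'.symm
  obtain ⟨⟨m, hm⟩, hme⟩ := h
  refine ⟨⟨b (g⁻¹ * g') * m, mul_mem (Subgroup.mem_map_of_mem _ hmem) hm⟩, ?_⟩
  show (b (g⁻¹ * g') * m) • ((1 : G) : G ⧸ H) = (b g)⁻¹ • y
  rw [mul_smul, show m • ((1 : G) : G ⧸ H) = (b g')⁻¹ • y from hme, ← mul_smul, map_mul, map_inv, mul_inv_cancel_right]

private theorem inc_smul (b : MulAut G) (g : G) (x y : G ⧸ H) : Inc H b (g • x) (b g • y) ↔ Inc H b x y := by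
  induction x using QuotientGroup.induction_on with | H a => ?_
  rw [show g • ((a : G) : G ⧸ H) = ((g * a : G) : G ⧸ H) from rfl, inc_iff, inc_iff, map_mul, mul_inv_rev, mul_smul,
    inv_smul_smul]

/-- number of two-step paths -/
private noncomputable def paths (b b' : MulAut G) (x y : G ⧸ H) : ℕ :=
  Nat.card {z : G ⧸ H // Inc H b' x z ∧ Inc H b z y}

private theorem paths_smul (b b' : MulAut G) (g : G) (x y : G ⧸ H) :
    paths H b b' (g • x) (b (b' g) • y) = paths H b b' x y := by
  refine (Nat.card_congr (Equiv.subtypeEquiv (MulAction.toPerm (b' g)) fun z => ?_)).symm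
  rw [MulAction.toPerm_apply, inc_smul, inc_smul]

variable [hp : Fact p.Prime]

private theorem commute_of_fix {u : G} (hu : orderOf u = p) (hidx : H.index = p) (hpH : ¬ p ∣ Nat.card H)
    [IsSimpleGroup G] {b b' : MulAut G} (hb : b u = u) (hb' : b' u = u) : b * b' = b' * b := by
  classical
  haveI := Fintype.ofFinite (G ⧸ H)
  have hup : u ^ p = 1 := hu ▸ pow_orderOf_eq_one u
  let e : ZMod p → G ⧸ H := fun i => (pu u i : G)
  have hfix : ∀ {c : MulAut G}, c u = u → ∀ i : ZMod p, c (pu u i) = pu u i := by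
    intro c hc i
    rw [pu, map_pow, hc]
  have hebij : Function.Bijective e := by
    refine (Nat.bijective_iff_injective_and_card e).2 ⟨fun i j hij => ?_, ?_⟩
    · have h : (pu u i)⁻¹ * pu u j ∈ H := QuotientGroup.eq.1 hij
      rw [← pu_neg hup, ← pu_add hup] at h
      by_contra hne
      have h0 : -i + j ≠ 0 := fun h0 => hne (neg_add_eq_zero.1 h0)
      have hv : ¬ p ∣ (-i + j).val := fun hd => h0 (by
        rw [← ZMod.val_eq_zero]
        exact Nat.eq_zero_of_dvd_of_lt hd (ZMod.val_lt _))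
      have ho : orderOf (pu u (-i + j)) = p := by
        rw [pu, orderOf_pow, hu, (hp.out.coprime_iff_not_dvd.2 hv).gcd_eq_one, Nat.div_one]
      exact hpH (ho ▸ Subgroup.orderOf_dvd_natCard H h)
    · rw [Nat.card_zmod, ← Subgroup.index_eq_card, hidx]
  -- difference sets
  let D : MulAut G → Finset (ZMod p) := fun c => univ.filter fun i => e i ∈ orb H c
  have hDmem : ∀ (c : MulAut G) (i : ZMod p), i ∈ D c ↔ e i ∈ orb H c := by simp [D]
  have hDne : ∀ c, (D c).Nonempty := fun c =>
    ⟨0, (hDmem c 0).2 (by simp only [e, pu_zero]; exact MulAction.mem_orbit_self _)⟩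
  have hDuniv : ∀ c, D c ≠ univ := by
    intro c h
    have hall : orb H c = Set.univ := Set.eq_univ_of_forall fun y => by
      obtain ⟨i, rfl⟩ := hebij.2 y
      exact (hDmem c i).1 (h ▸ mem_univ i)
    have h1 : Nat.card (MulAction.orbit (H.map c.toMonoidHom) ((1 : G) : G ⧸ H)) ∣ Nat.card (H.map c.toMonoidHom) := by
      rw [Nat.card_congr (MulAction.orbitEquivQuotientStabilizer _ _)]
      exact Subgroup.card_quotient_dvd_card _
    rw [show MulAction.orbit (H.map c.toMonoidHom) ((1 : G) : G ⧸ H) = Set.univ from hall,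
      Nat.card_congr (Equiv.Set.univ (G ⧸ H)), ← Subgroup.index_eq_card, hidx,
      Subgroup.card_map_of_injective (f := c.toMonoidHom) c.injective] at h1
    exact hpH h1
  have hInc : ∀ {c : MulAut G}, c u = u → ∀ i k, Inc H c (e i) (e k) ↔ k - i ∈ D c := by
    intro c hc i k
    rw [inc_iff, hfix hc, hDmem]
    have : (pu u i)⁻¹ • e k = e (k - i) := by
      show (((pu u i)⁻¹ * pu u k : G) : G ⧸ H) = ((pu u (k - i) : G) : G ⧸ H)
      rw [← pu_neg hup, ← pu_add hup, neg_add_eq_sub]
    rw [this]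
  let cnt : MulAut G → MulAut G → ZMod p → ℕ := fun c c' m => #(univ.filter fun d => d ∈ D c' ∧ m - d ∈ D c)
  have hcnt : ∀ {c c' : MulAut G}, c u = u → c' u = u → ∀ i j, paths H c c' (e i) (e j) = cnt c c' (j - i) := by
    intro c c' hc hc' i j
    show Nat.card _ = _
    rw [← Nat.card_congr (Equiv.subtypeEquivOfSubtype ((Equiv.addLeft i).trans (Equiv.ofBijective e hebij))),
      Nat.card_eq_fintype_card, Fintype.card_subtype]
    congr 1
    refine Finset.filter_congr fun d _ => ?_
    simp only [Equiv.trans_apply, Equiv.coe_addLeft, Equiv.ofBijective_apply, hInc hc, hInc hc',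
      add_sub_cancel_left, sub_add_eq_sub_sub]
  have hsymm : ∀ m, cnt b b' m = cnt b' b m := by
    intro m
    refine Finset.card_bij' (fun d _ => m - d) (fun d _ => m - d) ?_ ?_ ?_ ?_
    all_goals intro d hd
    all_goals simp_all [sub_sub_cancel]
  have hpaths : ∀ x y, paths H b b' x y = paths H b' b x y := by
    intro x y
    obtain ⟨i, rfl⟩ := hebij.2 x
    obtain ⟨j, rfl⟩ := hebij.2 y
    rw [hcnt hb hb', hcnt hb' hb, hsymm]
  let N : Subgroup G :=
    { carrier := {h | ∀ x y, paths H b b' x (h • y) = paths H b b' x y}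
      one_mem' := fun x y => by rw [one_smul]
      mul_mem' := fun {a c} ha hc x y => by rw [mul_smul, ha, hc]
      inv_mem' := fun {a} ha x y => by rw [← ha x (a⁻¹ • y), smul_inv_smul] }
  haveI hN : N.Normal := ⟨fun h hh z x y => by
    obtain ⟨w, rfl⟩ : ∃ w, b (b' w) = z := ⟨b'.symm (b.symm z), by simp⟩
    conv_lhs => rw [show x = w • (w⁻¹ • x) by rw [smul_inv_smul], mul_smul, mul_smul, paths_smul, hh]
    conv_rhs => rw [show x = w • (w⁻¹ • x) by rw [smul_inv_smul],
      show y = b (b' w) • ((b (b' w))⁻¹ • y) by rw [smul_inv_smul], paths_smul]⟩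
  have hmem : ∀ g, b' (b g) * (b (b' g))⁻¹ ∈ N := by
    intro g x y
    rw [show x = g • (g⁻¹ • x) by rw [smul_inv_smul], show y = b (b' g) • ((b (b' g))⁻¹ • y) by rw [smul_inv_smul],
      paths_smul, mul_smul, inv_smul_smul, hpaths (g • g⁻¹ • x), paths_smul, ← hpaths]
  rcases hN.eq_bot_or_eq_top with h | h
  · refine MulEquiv.ext fun g => ?_
    have := hmem g
    rw [h, Subgroup.mem_bot, mul_inv_eq_one] at this
    exact this.symm
  · exfalso
    refine conv_not_const (D b') (D b) (hDne _) (hDuniv _) (hDne _) (hDuniv _) fun m => ?_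
    have h1 : pu u m ∈ N := h ▸ Subgroup.mem_top _
    have h2 := h1 (e 0) (e 0)
    have h3 : pu u m • e 0 = e m := by
      show ((pu u m * pu u 0 : G) : G ⧸ H) = ((pu u m : G) : G ⧸ H)
      rw [pu_zero, mul_one]
    rw [h3, hcnt hb hb', hcnt hb hb', sub_zero, sub_zero] at h2
    exact h2

end incidence

theorem result {G : Type*} [Group G] [Finite G] [IsSimpleGroup G] (H : Subgroup G) (hH : H.index.Prime) : Group.IsSolvable (Cfsg.Out G) := by
  obtain ⟨p, hp, hidx⟩ : ∃ p, Nat.Prime p ∧ H.index = p := ⟨_, hH, rfl⟩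
  haveI := Fact.mk hp
  have hHtop : H ≠ ⊤ := fun h => hp.ne_one (by rw [← hidx, h, Subgroup.index_top])
  have hcore : H.normalCore = ⊥ := (inferInstance : H.normalCore.Normal).eq_bot_or_eq_top.resolve_right
    fun h => hHtop (top_unique (h.ge.trans H.normalCore_le))
  haveI := Fintype.ofFinite (G ⧸ H)
  have hdvd : Nat.card G ∣ p.factorial := by
    have hinj : Function.Injective (MulAction.toPermHom G (G ⧸ H)) := by
      rw [← MonoidHom.ker_eq_bot_iff, ← Subgroup.normalCore_eq_ker, hcore]
    have h := Subgroup.card_dvd_of_injective _ hinj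
    classical
    rwa [Nat.card_eq_fintype_card (α := Equiv.Perm (G ⧸ H)), Fintype.card_perm, ← Nat.card_eq_fintype_card, ← Subgroup.index_eq_card, hidx] at h
  have hcard : Nat.card H * p = Nat.card G := hidx ▸ H.card_mul_index
  have hpH : ¬ p ∣ Nat.card H := by
    intro hd
    have h1 : Nat.card H * p ∣ (p - 1).factorial * p := by
      rw [hcard, mul_comm, Nat.mul_factorial_pred hp.ne_zero]; exact hdvd
    exact absurd ((Nat.Prime.dvd_factorial hp).1 (hd.trans ((Nat.mul_dvd_mul_iff_right hp.pos).1 h1))) (by have := hp.pos; omega)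
  obtain ⟨u, hu⟩ := exists_prime_orderOf_dvd_card' (G := G) p (hcard ▸ dvd_mul_left p _)
  set P := Subgroup.zpowers u with hP
  have hPc : Nat.card P = p := by rw [hP, Nat.card_zpowers, hu]
  have hPp : IsPGroup p P := IsPGroup.of_card (n := 1) (by rw [hPc, pow_one])
  have hPi : ¬ p ∣ P.index := by
    have h1 := P.card_mul_index
    rw [hPc, ← hcard, mul_comm (Nat.card H)] at h1
    rwa [Nat.eq_of_mul_eq_mul_left hp.pos h1]
  set N := MulAction.stabilizer (MulAut G) P with hN
  let ψ : N →* MulAut P := MonoidHom.mk'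
    (fun α => ((α : MulAut G).subgroupMap P).trans (MulEquiv.subgroupCongr α.2))
    (fun α β => by ext x; rfl)
  haveI : Group.IsSolvable ψ.ker := by
    refine Group.isSolvable_of_comm fun a c => ?_
    have hfix : ∀ d : ψ.ker, ((d : N) : MulAut G) u = u := fun d =>
      congrArg Subtype.val (congrArg (fun f : MulAut P => f ⟨u, Subgroup.mem_zpowers u⟩) d.2)
    refine Subtype.ext (Subtype.ext ?_)
    exact commute_of_fix H hu hidx hpH (hfix a) (hfix c)
  haveI : Group.IsSolvable (MulAut P) :=
    Group.isSolvable_of_isSolvable_injective (f := (IsCyclic.mulAutMulEquiv P).toMonoidHom)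
      (IsCyclic.mulAutMulEquiv P).injective
  haveI : Group.IsSolvable N := Group.isSolvable_of_ker_le_range ψ.ker.subtype ψ (by rw [Subgroup.range_subtype])
  refine Group.isSolvable_of_surjective (f := (QuotientGroup.mk' (Cfsg.Inn G)).comp N.subtype) fun x => ?_
  obtain ⟨α, rfl⟩ := QuotientGroup.mk'_surjective _ x
  have hαp : IsPGroup p (α • P : Subgroup G) := hPp.of_equiv (Subgroup.equivSMul α P)
  have hαi : ¬ p ∣ (α • P : Subgroup G).index := by
    have h1 := (α • P : Subgroup G).card_mul_index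
    rw [← Nat.card_congr (Subgroup.equivSMul α P).toEquiv, ← P.card_mul_index] at h1
    rwa [Nat.eq_of_mul_eq_mul_left Nat.card_pos h1]
  obtain ⟨g, hg⟩ := MulAction.exists_smul_eq G (hαp.toSylow hαi) (hPp.toSylow hPi)
  have hg' := congrArg (fun S : Sylow p G => (S : Subgroup G)) hg
  simp only [Sylow.coe_subgroup_smul, IsPGroup.toSylow_coe] at hg'
  refine ⟨⟨MulAut.conj g * α, by rw [hN, MulAction.mem_stabilizer_iff, mul_smul]; exact hg'⟩, ?_⟩
  show QuotientGroup.mk' (Cfsg.Inn G) (MulAut.conj g * α) = _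
  rw [map_mul]
  refine mul_eq_right.2 ?_
  exact (QuotientGroup.eq_one_iff _).2 ⟨g, rfl⟩

end Cfsg.Agent.S4277
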