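import Cfsg.Statements.S4281
import Cfsg.Agent.Lib.ChevOdd.ChecksE8
import Cfsg.Agent.Lib.ChevOdd.Classes

set_option autoImplicit false
open scoped BigOperators
open Cfsg Cfsg.Agent

namespace Cfsg.Agent.S4281

/-- In the Chevalley group of type E₈ over a finite field of odd order q there are exactly two conjugacy classes of involutions; the centralizer of an involution in one class has order q⁵⁶(q⁸ − 1)·∏_{i=1}^{7}(q^{2i} − 1), and in the other class q⁶⁴(q² − 1)²(q⁶ − 1)(q⁸ − 1)(q¹⁰ − 1)(q¹² − 1)(q¹⁴ − 1)(q¹⁸ − 1). -/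
theorem result {F : Type*} [Field F] [Fintype F] (hF : Odd (Fintype.card F)) : ∃ s t : ↥(Cfsg.Lie.chevE8.group F), orderOf s = 2 ∧ orderOf t = 2 ∧ ¬ IsConj s t ∧ (∀ u : ↥(Cfsg.Lie.chevE8.group F), orderOf u = 2 → IsConj u s ∨ IsConj u t) ∧ Nat.card (Subgroup.centralizer ({s} : Set ↥(Cfsg.Lie.chevE8.group F))) = Fintype.card F ^ 56 * (Fintype.card F ^ 8 - 1) * ∏ i ∈ Finset.Icc 1 7, (Fintype.card F ^ (2 * i) - 1) ∧ Nat.card (Subgroup.centralizer ({t} : Set ↥(Cfsg.Lie.chevE8.group F))) = Fintype.card F ^ 64 * (Fintype.card F ^ 2 - 1) ^ 2 * (Fintype.card F ^ 6 - 1) * (Fintype.card F ^ 8 - 1) * (Fintype.card F ^ 10 - 1) * (Fintype.card F ^ 12 - 1) * (Fintype.card F ^ 14 - 1) * (Fintype.card F ^ 18 - 1) := by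
  obtain ⟨s, t, os, ot, hne, hcl, cs, ct⟩ := ChevOdd.two_classes (F := F) ChevOdd.E8.okb ChevOdd.E8.oka
    ChevOdd.E8.pairs hF ChevOdd.E8.card_diag (by decide +kernel) (by decide) (by decide) (by decide)
    (by decide) (by decide)
  refine ⟨s, t, os, ot, hne, hcl, cs.trans ?_, ct.trans ?_⟩
  · simp only [ChevOdd.E8.certb, List.map_cons, List.map_nil, List.prod_cons, List.prod_nil]
    rw [show Finset.Icc 1 7 = ({1, 2, 3, 4, 5, 6, 7} : Finset ℕ) by decide]
    simp only [Finset.prod_insert, Finset.mem_insert, Finset.mem_singleton, Finset.prod_singleton,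
      OfNat.one_ne_ofNat, OfNat.ofNat_ne_one, Nat.reduceEqDiff, or_self, not_false_eq_true, Nat.reduceMul]
    ring
  · simp only [ChevOdd.E8.certa, List.map_cons, List.map_nil, List.prod_cons, List.prod_nil]
    ring

end Cfsg.Agent.S4281
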