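import Cfsg.Statements.S4282
import Cfsg.Agent.Lib.Solvable.HHCritical

set_option autoImplicit false
open Cfsg

namespace Cfsg.Agent.S4282

/-- A critical case behind the Hall–Higman theorem. Let p ≠ q be primes and G a finite group generated by a normal q-subgroup Q and a cyclic p-subgroup generated by x, such that the centralizer of every non-identity element of that cyclic subgroup is its product with the centre of G. Let K be an algebraically closed field of characteristic p and ρ a faithful representation of G on a nonzero finite-dimensional K-space whose restriction to Q is irreducible. If s is the least exponent with (ρ(x) − 1)^s = 0, then |⟨x⟩| − 1 ≤ s ≤ |⟨x⟩|; and if s = |⟨x⟩| − 1 then |⟨x⟩| − 1 is a power of q and Q is non-abelian. -/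
theorem result {G : Type*} [Group G] [Finite G] (p q : ℕ) [Fact p.Prime] [Fact q.Prime] (hpq : p ≠ q) (Q : Subgroup G) [Q.Normal] (hQ : IsPGroup q Q) (x : G) (hx : IsPGroup p (Subgroup.zpowers x)) (hgen : Q ⊔ Subgroup.zpowers x = ⊤) (hC : ∀ y ∈ Subgroup.zpowers x, y ≠ 1 → Subgroup.centralizer ({y} : Set G) = Subgroup.zpowers x ⊔ Subgroup.center G) {K : Type*} [Field K] [IsAlgClosed K] [CharP K p] {V : Type*} [AddCommGroup V] [Module K V] [FiniteDimensional K V] [Nontrivial V] (ρ : Representation K G V) (hfaith : Function.Injective ρ) (hirr : ∀ W : Submodule K V, (∀ g ∈ Q, Submodule.map (ρ g) W ≤ W) → W = ⊥ ∨ W = ⊤) (s : ℕ) (hs : (ρ x - 1) ^ s = 0) (hmin : ∀ k < s, (ρ x - 1) ^ k ≠ 0) : Nat.card (Subgroup.zpowers x) - 1 ≤ s ∧ s ≤ Nat.card (Subgroup.zpowers x) ∧ (s = Nat.card (Subgroup.zpowers x) - 1 → (∃ b : ℕ, Nat.card (Subgroup.zpowers x) - 1 = q ^ b) ∧ ¬ IsMulCommutative Q) := by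
  set X := Subgroup.zpowers x with hX
  obtain ⟨n, hn⟩ := hx.exists_card_eq
  rw [hn]
  have hirr' : ∀ W : Submodule K V, (∀ t : Q, ∀ v ∈ W, ρ (t : G) v ∈ W) → W = ⊥ ∨ W = ⊤ :=
    fun W hW => hirr W fun g hg => by
      rintro _ ⟨v, hv, rfl⟩
      exact hW ⟨g, hg⟩ v hv
  have hord : orderOf x = p ^ n := by rw [← hn, Nat.card_zpowers]
  have hlow : ∀ k, (ρ x - 1) ^ k ≠ 0 → k < s := fun k hk => by
    by_contra hle
    exact hk (pow_eq_zero_of_le (not_lt.1 hle) hs)
  have hupp : s ≤ p ^ n := by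
    by_contra hgt
    refine hmin _ (not_le.1 hgt) ?_
    have h : ((Polynomial.X : Polynomial K) - 1) ^ p ^ n = Polynomial.X ^ p ^ n - 1 := by
      rw [sub_pow_char_pow, one_pow]
    have h' := congrArg (Polynomial.aeval (ρ x)) h
    simp only [map_pow, map_sub, Polynomial.aeval_X, map_one] at h'
    rw [h', ← map_pow, ← hord, pow_orderOf_eq_one, map_one, sub_self]
  rcases Nat.eq_zero_or_pos n with rfl | hn0
  · have h0 : 0 < s := hlow 0 (by rw [pow_zero]; exact one_ne_zero)
    rw [pow_zero] at hupp ⊢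
    refine ⟨Nat.zero_le _, hupp, fun h => ?_⟩
    omega
  rcases HHCritical.main Q hQ hpq x n hn0 hord hgen hC ρ hfaith hirr' with h | ⟨m, -, hm, hab, h⟩
  · have := hlow _ h
    exact ⟨by omega, hupp, fun he => by omega⟩
  · have := hlow _ h
    exact ⟨by omega, hupp, fun _ => ⟨⟨m, hm⟩, hab⟩⟩

end Cfsg.Agent.S4282
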