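import Cfsg.Statements.S4283
import Cfsg.Agent.Lib.FiniteGroup.FrobKernelQuat

set_option autoImplicit false
open Cfsg

namespace Cfsg.Agent.S4283

/-- Let G be a finite group with centre Z and let K, H be abelian subgroups of G containing Z such that G/Z is a Frobenius group with complement H/Z and kernel K/Z. Then the conjugacy class sizes of G are exactly 1, [G : K] and [G : H], and these two indices are coprime. (This is the converse half of the characterization of finite groups whose conjugacy class sizes are exactly 1, m and n with m and n coprime.) -/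
theorem result {G : Type*} [Group G] [Finite G] (K H : Subgroup G) (hZK : Subgroup.center G ≤ K) (hZH : Subgroup.center G ≤ H) (hK : IsMulCommutative K) (hH : IsMulCommutative H) (hFrob : Cfsg.IsFrobeniusComplement (H.map (QuotientGroup.mk' (Subgroup.center G)))) (hker : Cfsg.frobeniusKernel (H.map (QuotientGroup.mk' (Subgroup.center G))) = (K.map (QuotientGroup.mk' (Subgroup.center G)) : Set (G ⧸ Subgroup.center G))) : Set.range (fun x : G => (Subgroup.centralizer ({x} : Set G)).index) = ({1, K.index, H.index} : Set ℕ) ∧ K.index.Coprime H.index := by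

  set Z := Subgroup.center G with hZdef
  set π := QuotientGroup.mk' Z with hπ
  obtain ⟨K', hd⟩ := Cfsg.Agent.FrobData.exists_data hFrob
  have hK' : K' = K.map π := SetLike.coe_injective ((Cfsg.Agent.FrobKernelQuat.kernel_eq hd).symm.trans hker)
  subst hK'
  have hcK : (K.map π).comap π = K := by
    rw [Subgroup.comap_map_eq, QuotientGroup.ker_mk', sup_eq_left.2 hZK]
  have hcH : (H.map π).comap π = H := by
    rw [Subgroup.comap_map_eq, QuotientGroup.ker_mk', sup_eq_left.2 hZH]
  have hπ1 : ∀ x : G, π x = 1 ↔ x ∈ Z := fun x => QuotientGroup.eq_one_iff x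
  have cK : ∀ x ∈ K, x ∉ Z → Subgroup.centralizer ({x} : Set G) = K := by
    intro x hx hxZ
    refine le_antisymm (fun y hy => ?_) (fun y hy => ?_)
    · rw [← hcK, Subgroup.mem_comap]
      rcases hd.decomp (π y) with h1 | ⟨k, hk, a, ha, ha1, hya⟩
      · exact h1
      · exfalso
        refine hxZ ((hπ1 x).1 ?_)
        have hc : π y * π x = π x * π y := by
          rw [← map_mul, ← map_mul, Subgroup.mem_centralizer_singleton_iff.1 hy]
        have hmem : k⁻¹ * π x * k ∈ K.map π :=
          mul_mem (mul_mem (inv_mem hk) (Subgroup.mem_map_of_mem π hx)) hk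
        have := hd.fpf ha ha1 hmem (by
          rw [hya] at hc
          calc a * (k⁻¹ * π x * k) = k⁻¹ * ((k * a * k⁻¹) * π x) * k := by group
            _ = k⁻¹ * (π x * (k * a * k⁻¹)) * k := by rw [hc]
            _ = k⁻¹ * π x * k * a := by group)
        calc π x = k * (k⁻¹ * π x * k) * k⁻¹ := by group
          _ = 1 := by rw [this]; group
    · exact Subgroup.mem_centralizer_singleton_iff.2
        (congrArg Subtype.val (hK.1.1 ⟨y, hy⟩ ⟨x, hx⟩))
  have cH : ∀ x ∈ H, x ∉ Z → Subgroup.centralizer ({x} : Set G) = H := by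
    intro x hx hxZ
    refine le_antisymm (fun y hy => ?_) (fun y hy => ?_)
    · rw [← hcH, Subgroup.mem_comap]
      by_contra hn
      refine hxZ ((hπ1 x).1 (hd.mal _ hn _ (Subgroup.mem_map_of_mem π hx) ?_))
      rw [← map_mul, Subgroup.mem_centralizer_singleton_iff.1 hy, map_mul, mul_inv_cancel_right]
      exact Subgroup.mem_map_of_mem π hx
    · exact Subgroup.mem_centralizer_singleton_iff.2
        (congrArg Subtype.val (hH.1.1 ⟨y, hy⟩ ⟨x, hx⟩))
  have hiK : K.index = Nat.card (H.map π) := by
    rw [← hd.compl.symm.index_eq_card, ← Subgroup.index_comap_of_surjective (K.map π)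
      (QuotientGroup.mk'_surjective Z), hcK]
  have hiH : H.index = Nat.card (K.map π) := by
    rw [← hd.compl.index_eq_card, ← Subgroup.index_comap_of_surjective (H.map π)
      (QuotientGroup.mk'_surjective Z), hcH]
  refine ⟨?_, hiK ▸ hiH ▸ hd.coprime.symm⟩
  apply Set.Subset.antisymm
  · rintro _ ⟨x, rfl⟩
    by_cases hxZ : x ∈ Z
    · refine Or.inl ?_
      change (Subgroup.centralizer ({x} : Set G)).index = 1
      rw [Subgroup.index_eq_one, Subgroup.centralizer_eq_top_iff_subset, Set.singleton_subset_iff]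
      exact hxZ
    rcases hd.decomp (π x) with hxK | ⟨k, ⟨k₀, hk₀, rfl⟩, a, ha, ha1, hxa⟩
    · refine Or.inr (Or.inl ?_)
      change (Subgroup.centralizer ({x} : Set G)).index = K.index
      rw [cK x (hcK ▸ (hxK : x ∈ (K.map π).comap π)) hxZ]
    · refine Or.inr (Or.inr ?_)
      change (Subgroup.centralizer ({x} : Set G)).index = H.index
      have hh : k₀⁻¹ * x * k₀ ∈ H := by
        rw [← hcH, Subgroup.mem_comap, map_mul, map_mul, hxa, map_inv]
        convert ha using 1
        group
      have hhZ : k₀⁻¹ * x * k₀ ∉ Z := fun h => hxZ (by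
        have h' := (inferInstance : Z.Normal).conj_mem _ h k₀
        simpa [mul_assoc] using h')
      have hcx : Subgroup.centralizer ({x} : Set G) = H.map (MulAut.conj k₀).toMonoidHom := by
        rw [← cH _ hh hhZ]
        ext y
        rw [Subgroup.mem_map_equiv, Subgroup.mem_centralizer_singleton_iff,
          Subgroup.mem_centralizer_singleton_iff, MulAut.conj_symm_apply]
        constructor
        · intro h
          calc k₀⁻¹ * y * k₀ * (k₀⁻¹ * x * k₀) = k₀⁻¹ * (y * x) * k₀ := by group
            _ = k₀⁻¹ * (x * y) * k₀ := by rw [h]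
            _ = k₀⁻¹ * x * k₀ * (k₀⁻¹ * y * k₀) := by group
        · intro h
          calc y * x = k₀ * (k₀⁻¹ * y * k₀ * (k₀⁻¹ * x * k₀)) * k₀⁻¹ := by group
            _ = k₀ * (k₀⁻¹ * x * k₀ * (k₀⁻¹ * y * k₀)) * k₀⁻¹ := by rw [h]
            _ = x * y := by group
      rw [hcx]
      exact Subgroup.index_map_equiv H (MulAut.conj k₀)
  · rintro n (rfl | rfl | rfl)
    · refine ⟨1, ?_⟩
      change (Subgroup.centralizer ({(1 : G)} : Set G)).index = 1
      rw [Subgroup.index_eq_one, Subgroup.centralizer_eq_top_iff_subset, Set.singleton_subset_iff]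
      exact one_mem (Subgroup.center G)
    · obtain ⟨⟨_, x, hx, rfl⟩, hx1⟩ := Subgroup.ne_bot_iff_exists_ne_one.1 hd.kne
      refine ⟨x, ?_⟩
      change (Subgroup.centralizer ({x} : Set G)).index = _
      rw [cK x hx fun hZ => hx1 (Subtype.ext ((hπ1 x).2 hZ))]
    · obtain ⟨⟨_, x, hx, rfl⟩, hx1⟩ := Subgroup.ne_bot_iff_exists_ne_one.1 hd.hne
      refine ⟨x, ?_⟩
      change (Subgroup.centralizer ({x} : Set G)).index = _
      rw [cH x hx fun hZ => hx1 (Subtype.ext ((hπ1 x).2 hZ))]

end Cfsg.Agent.S4283
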