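import Cfsg.Agent.S4276
import Mathlib.GroupTheory.GroupAction.Quotient
import Mathlib.GroupTheory.Index

set_option autoImplicit false

namespace Cfsg.Agent.S4290

theorem result {Ω : Type*} [Fintype Ω] (G : Subgroup (Equiv.Perm Ω)) (h2 : MulAction.IsMultiplyPretransitive G Ω 2) (o : Ω) (hHall : (Nat.card (MulAction.stabilizer G o)).Coprime (MulAction.stabilizer G o).index) (α : MulAut G) (hα : Odd (orderOf α)) : ∃ σ : Equiv.Perm Ω, σ ∈ Subgroup.normalizer (G : Set (Equiv.Perm Ω)) ∧ ∀ g : G, ((α g : G) : Equiv.Perm Ω) = σ * (g : Equiv.Perm Ω) * σ⁻¹ := by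
  classical
  haveI : Finite G := Finite.of_injective _ Subtype.val_injective
  haveI : MulAction.IsPretransitive G Ω := by
    rcases subsingleton_or_nontrivial Ω with hs | hs
    · exact ⟨fun x y => ⟨1, Subsingleton.elim _ _⟩⟩
    · refine ⟨fun x y => ?_⟩
      obtain ⟨z, hz⟩ := exists_ne x
      obtain ⟨w, hw⟩ := exists_ne y
      obtain ⟨g, hg, -⟩ := (MulAction.is_two_pretransitive_iff.1 h2) hz.symm hw.symm
      exact ⟨g, hg⟩
  refine (S4276.result G h2 o α hα o ?_).1
  have hidx : (MulAction.stabilizer G o).index = Fintype.card Ω := by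
    rw [MulAction.index_stabilizer_of_transitive, Nat.card_eq_fintype_card]
  refine Nat.Coprime.coprime_dvd_left ?_ (hidx ▸ hHall)
  rw [Nat.card_congr (MulAction.orbitEquivQuotientStabilizer _ o),
    ← Subgroup.card_map_of_injective (f := α.toMonoidHom) α.injective]
  exact Subgroup.card_quotient_dvd_card _

end Cfsg.Agent.S4290
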