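import Cfsg.Statements.S4293
import Cfsg.Agent.Lib.FiniteGroup.FrobComplement
import Mathlib.RingTheory.IntegralClosure.IntegrallyClosed
import Mathlib.RingTheory.IntegralClosure.IsIntegral.Basic
import Mathlib.GroupTheory.FiniteAbelian.Basic
import Mathlib.Algebra.CharP.Algebra
import Mathlib.Algebra.CharP.Lemmas
import Mathlib.RingTheory.Adjoin.Basic
import Mathlib.RingTheory.Int.Basic
import Mathlib.RingTheory.EuclideanDomain
import Mathlib.Algebra.Ring.GeomSum

set_option autoImplicit false
open Cfsg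

namespace Cfsg.Agent.S4293

/-- A nontrivial finite subgroup of the multiplicative group of a division ring occurs as a Frobenius complement of some finite Frobenius group. -/
theorem result {D : Type*} [DivisionRing D] (H : Subgroup Dˣ) [Finite H] (hH : H ≠ ⊥) :
    ∃ (L : Type) (_ : Group L) (_ : Finite L) (C : Subgroup L), Cfsg.IsFrobeniusComplement C ∧ Nonempty (H ≃* C) := by
  classical
  haveI : Nontrivial H := (Subgroup.nontrivial_iff_ne_bot H).2 hH
  let S : Set D := Set.range fun h : H => ((h : Dˣ) : D)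
  set R := AddSubgroup.closure S with hRdef
  have hSfin : S.Finite := Set.finite_range _
  have hone : (1 : D) ∈ R := AddSubgroup.subset_closure ⟨1, rfl⟩
  -- the prime
  obtain ⟨q, hq, hqH, hq1⟩ : ∃ q : ℕ, q.Prime ∧ ¬ q ∣ Nat.card H ∧ ∀ w ∈ R, q • w ≠ 1 := by
    rcases CharP.char_is_prime_or_zero D (ringChar D) with hp | hp
    · refine ⟨ringChar D, hp, fun hd => ?_, fun w _ e => ?_⟩
      · haveI : Fact (ringChar D).Prime := ⟨hp⟩
        haveI : CharP D (ringChar D) := ringChar.charP D
        obtain ⟨h, hh⟩ := exists_prime_orderOf_dvd_card' (G := H) (ringChar D) hd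
        have h1 : (((h : Dˣ) : D) - 1) ^ ringChar D = 0 := by
          rw [sub_pow_char_of_commute _ (Commute.one_right _), one_pow, ← Units.val_pow_eq_pow_val,
            ← SubmonoidClass.coe_pow, ← hh, pow_orderOf_eq_one]
          simp
        have h2 : h = 1 := Subtype.ext (Units.ext (sub_eq_zero.1 (eq_zero_of_pow_eq_zero h1)))
        rw [h2, orderOf_one] at hh
        exact hp.ne_one hh.symm
      · rw [nsmul_eq_mul, ringChar.Nat.cast_ringChar, zero_mul] at e
        exact zero_ne_one e
    · haveI : CharZero D := by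
        haveI : CharP D 0 := hp ▸ ringChar.charP D
        exact CharP.charP_to_charZero D
      obtain ⟨q, hqn, hq⟩ := Nat.exists_infinite_primes (Nat.card H + 1)
      refine ⟨q, hq, fun hd => absurd (Nat.le_of_dvd Nat.card_pos hd) (by omega), fun w hw e => ?_⟩
      letI : Algebra ℚ D := DivisionRing.toRatAlgebra
      let M : Submonoid D :=
        { carrier := S
          one_mem' := ⟨1, rfl⟩
          mul_mem' := by rintro _ _ ⟨a, rfl⟩ ⟨b, rfl⟩; exact ⟨a * b, rfl⟩ }
      have hA : (Algebra.adjoin ℤ S).toSubmodule = Submodule.span ℤ S := by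
        rw [Algebra.adjoin_eq_span, show Submonoid.closure S = M from Submonoid.closure_eq M]
        rfl
      have hint : IsIntegral ℤ w := by
        refine IsIntegral.of_mem_of_fg (Algebra.adjoin ℤ S) (hA ▸ Submodule.fg_span hSfin) w ?_
        have hle : R ≤ (Algebra.adjoin ℤ S).toSubmodule.toAddSubgroup :=
          (AddSubgroup.closure_le _).2 fun x hx => Algebra.subset_adjoin hx
        exact hle hw
      have hq0 : (q : D) ≠ 0 := Nat.cast_ne_zero.2 hq.ne_zero
      have hwq : w = algebraMap ℚ D ((q : ℚ)⁻¹) := by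
        rw [map_inv₀, map_natCast]
        exact eq_inv_of_mul_eq_one_right (by rwa [nsmul_eq_mul] at e)
      rw [hwq, isIntegral_algebraMap_iff (algebraMap ℚ D).injective, IsIntegrallyClosed.isIntegral_iff] at hint
      obtain ⟨m, hm⟩ := hint
      have h1 : ((m * q : ℤ) : ℚ) = 1 := by
        push_cast
        rw [show (m : ℚ) = (q : ℚ)⁻¹ from hm, inv_mul_cancel₀ (Nat.cast_ne_zero.2 hq.ne_zero)]
      have h2 : m * q = 1 := by exact_mod_cast h1
      have h3 : q ∣ 1 := Int.natCast_dvd_natCast.1 ⟨m, by rw [mul_comm]; exact_mod_cast h2.symm⟩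
      exact hq.ne_one (Nat.dvd_one.1 h3)
  -- the module
  have hmul : ∀ (h : H) (r : D), r ∈ R → ((h : Dˣ) : D) * r ∈ R := by
    intro h r hr
    induction hr using AddSubgroup.closure_induction with
    | mem x hx => obtain ⟨a, rfl⟩ := hx; exact AddSubgroup.subset_closure ⟨h * a, rfl⟩
    | zero => rw [mul_zero]; exact zero_mem _
    | add x y _ _ hx hy => rw [mul_add]; exact add_mem hx hy
    | neg x _ hx => rw [mul_neg]; exact neg_mem hx
  set N : AddSubgroup R := (nsmulAddMonoidHom q : R →+ R).range with hN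
  let act : H → (R →+ R) := fun h => AddMonoidHom.mk' (fun r => ⟨((h : Dˣ) : D) * r, hmul h r r.2⟩)
    (fun a b => Subtype.ext (mul_add _ _ _))
  have hactN : ∀ h, N ≤ N.comap (act h) := by
    rintro h _ ⟨w, rfl⟩
    exact ⟨act h w, (map_nsmul (act h) q w).symm⟩
  let ρ : H →* AddMonoid.End (R ⧸ N) :=
    { toFun := fun h => QuotientAddGroup.map N N (act h) (hactN h)
      map_one' := AddMonoidHom.ext fun v => by
        obtain ⟨r, rfl⟩ := QuotientAddGroup.mk_surjective v
        exact congrArg _ (Subtype.ext (one_mul _))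
      map_mul' := fun a b => AddMonoidHom.ext fun v => by
        obtain ⟨r, rfl⟩ := QuotientAddGroup.mk_surjective v
        exact congrArg _ (Subtype.ext (mul_assoc _ _ _)) }
  have hqv : ∀ v : R ⧸ N, q • v = 0 := fun v => by
    obtain ⟨r, rfl⟩ := QuotientAddGroup.mk_surjective v
    rw [← QuotientAddGroup.mk_nsmul, QuotientAddGroup.eq_zero_iff]
    exact ⟨r, rfl⟩
  haveI : Finite (R ⧸ N) := by
    haveI : Finite S := hSfin.to_subtype
    haveI : AddGroup.FG R := AddGroup.closure_finite_fg S
    haveI : Module.Finite ℤ (R ⧸ N) := Module.Finite.iff_addGroup_fg.mpr inferInstance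
    refine Module.finite_of_fg_torsion _ fun {v} => ?_
    refine ⟨⟨(q : ℤ), mem_nonZeroDivisors_of_ne_zero (Int.natCast_ne_zero.2 hq.ne_zero)⟩, ?_⟩
    show (q : ℤ) • v = 0
    rw [natCast_zsmul, hqv v]
  haveI : Nontrivial (R ⧸ N) := by
    refine ⟨⟨QuotientAddGroup.mk ⟨1, hone⟩, 0, fun e => ?_⟩⟩
    rw [QuotientAddGroup.eq_zero_iff] at e
    obtain ⟨w, hw⟩ := e
    exact hq1 w w.2 (congrArg Subtype.val hw)
  obtain ⟨L, i1, i2, C, hC, hiso, -⟩ := FrobCompl.exists_frobenius_small (R ⧸ N) ρ (fun h h1 v hv => by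
    have hfix : ∀ i : ℕ, ρ (h ^ i) v = v := fun i => by
      induction i with
      | zero => rw [pow_zero, map_one]; rfl
      | succ i ih => rw [pow_succ, map_mul]; show ρ (h ^ i) (ρ h v) = v; rw [hv, ih]
    have hgeom : (∑ i ∈ Finset.range (orderOf h), ((h : Dˣ) : D) ^ i) = 0 := by
      have hne : ((h : Dˣ) : D) - 1 ≠ 0 := fun e => h1 (Subtype.ext (Units.ext (sub_eq_zero.1 e)))
      have := geom_sum_mul ((h : Dˣ) : D) (orderOf h)
      rw [← Units.val_pow_eq_pow_val, ← SubmonoidClass.coe_pow, pow_orderOf_eq_one,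
        OneMemClass.coe_one, Units.val_one, sub_self] at this
      exact (mul_eq_zero.1 this).resolve_right hne
    have hn : orderOf h • v = 0 := by
      obtain ⟨r, rfl⟩ := QuotientAddGroup.mk_surjective v
      have hs : ∀ k : ℕ, k • (r : R ⧸ N) = ((∑ i ∈ Finset.range k, act (h ^ i) r : R) : R ⧸ N) := by
        intro k
        induction k with
        | zero => simp
        | succ k ih =>
          rw [Finset.sum_range_succ, QuotientAddGroup.mk_add, ← ih, succ_nsmul]
          congr 1
          exact (hfix k).symm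
      rw [hs, QuotientAddGroup.eq_zero_iff]
      convert zero_mem N
      apply Subtype.ext
      rw [AddSubgroup.val_finsetSum, AddSubgroup.coe_zero]
      show ∑ i ∈ Finset.range (orderOf h), (((h ^ i : H) : Dˣ) : D) * (r : D) = 0
      rw [← Finset.sum_mul]
      simp only [SubmonoidClass.coe_pow, Units.val_pow_eq_pow_val]
      rw [hgeom, zero_mul]
    have hcop : Nat.Coprime (orderOf h) q :=
      ((Nat.Prime.coprime_iff_not_dvd hq).2 fun hd => hqH (hd.trans (orderOf_dvd_natCard h))).symm
    have h2 : addOrderOf v = 1 := Nat.eq_one_of_dvd_coprimes hcop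
      (addOrderOf_dvd_of_nsmul_eq_zero hn) (addOrderOf_dvd_of_nsmul_eq_zero (hqv v))
    exact AddMonoid.addOrderOf_eq_one_iff.1 h2)
  exact ⟨L, i1, i2, C, hC, hiso⟩

end Cfsg.Agent.S4293
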