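import Cfsg.Statements.S4294
import Cfsg.Agent.S4293
import Cfsg.Agent.S3359
import Cfsg.Agent.Lib.DivRingFG.Quat
import Cfsg.Agent.Lib.DivRingFG.SL25
import Mathlib.RingTheory.LittleWedderburn
import Mathlib.Algebra.Algebra.ZMod
import Mathlib.RingTheory.Adjoin.Basic
import Mathlib.GroupTheory.Perm.Cycle.Type

set_option autoImplicit false
set_option linter.style.haveILetI false
open Cfsg

namespace Cfsg.Agent.S4294

open Cfsg.Agent.DivRingFG Cfsg.Agent.DivRingFG.SL25

universe u

/-- In positive characteristic a finite subgroup is commutative. -/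
theorem charZero_of_nonsolvable {D : Type u} [DivisionRing D] (H : Subgroup Dˣ) [Finite H]
    (hH : ¬ Group.IsSolvable H) : CharZero D := by
  rcases CharP.char_is_prime_or_zero D (ringChar D) with hp | hp
  · exfalso
    haveI : Fact (ringChar D).Prime := ⟨hp⟩
    haveI : CharP D (ringChar D) := ringChar.charP D
    letI : Algebra (ZMod (ringChar D)) D := ZMod.algebra D (ringChar D)
    set N : Submonoid D := H.toSubmonoid.map (Units.coeHom D) with hN
    have hfin : (N : Set D).Finite := by
      rw [hN, Submonoid.coe_map]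
      exact (Set.toFinite (H : Set Dˣ)).image _
    set A := Algebra.adjoin (ZMod (ringChar D)) (N : Set D)
    haveI : Module.Finite (ZMod (ringChar D)) A := by
      have h := Algebra.adjoin_eq_span (R := ZMod (ringChar D)) (N : Set D)
      rw [Submonoid.closure_eq] at h
      have : Module.Finite (ZMod (ringChar D)) (Subalgebra.toSubmodule A) := by
        rw [h]; exact Module.Finite.span_of_finite _ hfin
      exact this
    haveI : Finite A := Module.finite_of_finite (ZMod (ringChar D))
    have hcomm := (Finite.isDomain_to_isField A).mul_comm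
    refine hH (Group.isSolvable_of_comm fun a b => ?_)
    apply Subtype.ext
    apply Units.ext
    have := congrArg Subtype.val
      (hcomm ⟨((a : Dˣ) : D), Algebra.subset_adjoin ⟨a, a.2, rfl⟩⟩
        ⟨((b : Dˣ) : D), Algebra.subset_adjoin ⟨b, b.2, rfl⟩⟩)
    simpa using this
  · haveI : CharP D 0 := hp ▸ ringChar.charP D
    exact CharP.charP_to_charZero D

/-- A finite non-solvable subgroup of the multiplicative group of a division ring is isomorphic to the binary icosahedral group SL(2,5). -/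
theorem result {D : Type*} [DivisionRing D] (H : Subgroup Dˣ) [Finite H] (hH : ¬ Group.IsSolvable H) :
    Nonempty (H ≃* Matrix.SpecialLinearGroup (Fin 2) (ZMod 5)) := by
  classical
  haveI := charZero_of_nonsolvable H hH
  have hne : H ≠ ⊥ := by
    rintro rfl
    exact hH inferInstance
  obtain ⟨G₀, hG₀, hidx, S, M, hsup, -, hcomm, ⟨φ⟩, -, hM⟩ :=
    Cfsg.Agent.S3359.result hH (Cfsg.Agent.S4293.result H hne)
  let ψ : M5 →* H := S.subtype.comp φ.symm.toMonoidHom
  have hψinj : Function.Injective ψ := Subtype.val_injective.comp φ.symm.injective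
  have hψmem : ∀ x, ψ x ∈ S := fun x => (φ.symm x).2
  have hψsurj : ∀ s ∈ S, ∃ x, ψ x = s := fun s hs => ⟨φ ⟨s, hs⟩, by simp [ψ]⟩
  let ι : H →* D := (Units.coeHom D).comp H.subtype
  have hιinj : Function.Injective ι := fun a b h => Subtype.ext (Units.ext h)
  let f : M5 →* D := ι.comp ψ
  have hfinj : Function.Injective f := hιinj.comp hψinj
  have hneg : f NegOne = -1 := by
    have h : f NegOne * f NegOne = 1 := by rw [← map_mul, NegOne_sq, map_one]
    exact (mul_self_eq_one_iff.1 h).resolve_left fun h1 =>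
      NegOne_ne (hfinj (h1.trans (map_one f).symm))
  have hz : f (T 1) ^ 5 = 1 := by rw [← map_pow, T1_pow, map_one]
  have hz1 : f (T 1) ≠ 1 := fun h => T1_ne (hfinj (h.trans (map_one f).symm))
  have hy : f Y0 * f Y0 = -1 := by rw [← map_mul, Y0_sq, hneg]
  -- the factor `M` is trivial
  have hMbot : M = ⊥ := by
    rw [← Subgroup.card_eq_one]
    by_contra hM1
    obtain ⟨p, hp, hpd⟩ := Nat.exists_prime_and_dvd hM1
    haveI : Fact p.Prime := ⟨hp⟩
    obtain ⟨m, hm⟩ := exists_prime_orderOf_dvd_card' (G := M) p hpd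
    have hp30 : ¬ p ∣ 30 := fun hd =>
      hp.one_lt.ne' (Nat.dvd_one.1 (hM.gcd_eq_one ▸ Nat.dvd_gcd hpd hd))
    have hp7 : 7 ≤ p := by
      by_contra hlt
      push Not at hlt
      interval_cases p <;> norm_num at *
    have hcm : ∀ x, Commute (ι (m : H)) (f x) := fun x =>
      ((show Commute (ψ x) (m : H) from hcomm _ (hψmem x) _ m.2).map ι).symm
    refine dic_times_prime_absurd hz hz1 hy ?_ (hcm (T 1)) (hcm Y0) hp hp7 ?_ ?_
    · rw [← map_pow, ← map_mul, ← map_mul, Y0_T]
    · rw [← map_pow, ← SubmonoidClass.coe_pow, ← hm, pow_orderOf_eq_one]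
      simp
    · intro h
      have h1 : m = 1 := Subtype.ext (hιinj (h.trans (map_one ι).symm))
      rw [h1, orderOf_one] at hm
      exact hp.ne_one hm.symm
  rw [hMbot, sup_bot_eq] at hsup
  subst hsup
  rcases hidx with hidx | hidx
  · rw [Subgroup.index_eq_one] at hidx
    exact ⟨((Subgroup.topEquiv (G := H)).symm.trans (MulEquiv.subgroupCongr hidx.symm)).trans φ⟩
  exfalso
  -- an element outside `S` normalising the cyclic group generated by `T 1`
  obtain ⟨g₀, hg₀⟩ : ∃ g, g ∉ S := by
    by_contra h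
    push Not at h
    rw [(Subgroup.eq_top_iff' S).2 h, Subgroup.index_top] at hidx
    omega
  have hout : ∀ {g : H} (x : M5), g ∉ S → ψ x * g ∉ S := fun x hg h =>
    hg ((Subgroup.mul_mem_cancel_left S (hψmem x)).1 h)
  obtain ⟨g₁, hg₁, b, hb0, hb⟩ :
      ∃ g, g ∉ S ∧ ∃ b, b ≠ 0 ∧ g * ψ (T 1) * g⁻¹ = ψ (T b) := by
    obtain ⟨X, hX⟩ := hψsurj _ (hG₀.conj_mem _ (hψmem (T 1)) g₀)
    have hX5 : X ^ 5 = 1 := hψinj (by
      rw [map_pow, hX, conj_pow, ← map_pow, T1_pow, map_one, mul_one, mul_inv_cancel])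
    obtain ⟨s, b, hs⟩ := conj_to_T hX5
    refine ⟨ψ s * g₀, hout s hg₀, b, ?_, ?_⟩
    · rintro rfl
      rw [T_zero, conj_eq_one_iff] at hs
      rw [hs, map_one, eq_comm, conj_eq_one_iff] at hX
      exact T1_ne (hψinj (hX.trans (map_one ψ).symm))
    · rw [← hs, map_mul, map_mul, map_inv, hX]
      group
  obtain ⟨g, hg, hg12⟩ : ∃ g, g ∉ S ∧
      (g * ψ (T 1) * g⁻¹ = ψ (T 1) ∨ g * ψ (T 1) * g⁻¹ = ψ (T 2)) := by
    have key : ∀ {c d}, b = c → Y0 * T c * Y0⁻¹ = T d →
        ψ Y0 * g₁ * ψ (T 1) * (ψ Y0 * g₁)⁻¹ = ψ (T d) := by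
      rintro c d rfl h
      rw [← h, map_mul, map_mul, map_inv, ← hb]
      group
    have hcases : ∀ b : ZMod 5, b ≠ 0 → b = 1 ∨ b = 2 ∨ b = 3 ∨ b = 4 := by decide
    rcases hcases b hb0 with h | h | h | h
    · exact ⟨g₁, hg₁, Or.inl (h ▸ hb)⟩
    · exact ⟨g₁, hg₁, Or.inr (h ▸ hb)⟩
    · exact ⟨_, hout Y0 hg₁, Or.inr (key h Y0_T3)⟩
    · exact ⟨_, hout Y0 hg₁, Or.inl (key h Y0_T4)⟩
  obtain ⟨x, hx⟩ := hψsurj (g * g) ((Subgroup.mul_mem_iff_of_index_two hidx).2 Iff.rfl)
  rcases hg12 with h1 | h2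
  · -- `g` centralises `T 1`
    rw [mul_inv_eq_iff_eq_mul] at h1
    have hxc : x * T 1 = T 1 * x := hψinj (by
      rw [map_mul, map_mul, hx, mul_assoc, h1, ← mul_assoc, h1, mul_assoc])
    have hcg : ∀ k, Commute g (ψ (T k)) := fun k => by
      rw [T_pow, map_pow]
      exact (show Commute g (ψ (T 1)) from h1).pow_right _
    obtain ⟨k, hk⟩ := comm_T1 hxc
    set t := T (-(3 : ZMod 5) * k) with ht
    obtain ⟨e, he⟩ : ∃ e, e = g * ψ t := ⟨_, rfl⟩
    have heS : e ∉ S := fun h => hg ((Subgroup.mul_mem_cancel_right S (hψmem t)).1 (he ▸ h))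
    have hee : e * e = ψ (x * t * t) := by
      rw [he, map_mul, map_mul, hx]
      rw [show g * ψ t * (g * ψ t) = g * (ψ t * g) * ψ t by group,
        show ψ t * g = g * ψ t from (hcg _).eq.symm]
      group
    have htt : T k * t * t = 1 := by
      rw [ht, T_add, T_add, ← T_zero]
      congr 1
      have h5 : (5 : ZMod 5) = 0 := rfl
      linear_combination (-1 : ZMod 5) * k * h5
    rcases hk with rfl | rfl
    · rw [htt, map_one] at hee
      have h : ι e * ι e = 1 := by rw [← map_mul, hee, map_one]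
      rcases mul_self_eq_one_iff.1 h with h | h
      · exact heS (by rw [hιinj (h.trans (map_one ι).symm)]; exact S.one_mem)
      · exact heS (by rw [hιinj (h.trans hneg.symm)]; exact hψmem _)
    · rw [mul_assoc NegOne, mul_assoc NegOne, htt, mul_one] at hee
      have he1 : ι e * ι e = -1 := by rw [← map_mul, hee]; exact hneg
      have hcentral : ∀ s : H, e * e * s = s * (e * e) := fun s => hιinj (by
        rw [map_mul, map_mul, map_mul, map_mul, ← mul_assoc, he1, mul_assoc (ι s),
          he1, neg_one_mul, mul_neg_one])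
      let α : M5 ≃* M5 := φ.symm.trans ((MulAut.conjNormal e : MulAut S).trans φ)
      have hα : ∀ y, ψ (α y) = e * ψ y * e⁻¹ := fun y => by
        simp [α, ψ, MulAut.conjNormal_apply]
      have hαT : α (T 1) = T 1 := hψinj (by
        rw [hα, mul_inv_eq_iff_eq_mul]
        rw [he]
        exact ((show Commute g (ψ (T 1)) from h1).mul_left
          (by rw [ht]; exact ((show Commute _ _ from (T_add _ _).trans ((congrArg T (add_comm _ _)).trans (T_add _ _).symm)).map ψ))).eq)
      have hα2 : ∀ y, α (α y) = y := fun y => hψinj (by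
        rw [hα, hα, show e * (e * ψ y * e⁻¹) * e⁻¹ = e * e * ψ y * (e * e)⁻¹ by group,
          hcentral, mul_inv_cancel_right])
      have hcy : Commute (ι e) (f Y0) := by
        have := hα Y0
        rw [aut_fix_Y0 α hαT hα2, eq_mul_inv_iff_mul_eq] at this
        exact ((show Commute e (ψ Y0) from this.symm).map ι)
      have h0 : (ι e - f Y0) * (ι e + f Y0) = 0 := by
        rw [sub_mul, mul_add (ι e), mul_add (f Y0), he1, hy, hcy.eq]
        abel
      rcases mul_eq_zero.1 h0 with h | h
      · exact heS (by rw [hιinj (sub_eq_zero.1 h : ι e = ι (ψ Y0))]; exact hψmem _)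
      · have h' : ι e = ι (ψ (NegOne * Y0)) := by
          show ι e = f (NegOne * Y0)
          rw [map_mul, hneg, neg_one_mul]
          exact eq_neg_of_add_eq_zero_left h
        exact heS (by rw [hιinj h']; exact hψmem _)
  · -- `g` squares `T 1`
    rw [mul_inv_eq_iff_eq_mul, T2_eq, map_pow] at h2
    have hxc : x * T 1 = T 1 ^ 4 * x := hψinj (by
      rw [map_mul, map_mul, map_pow, hx, mul_assoc, h2]
      have h' : g * ψ (T 1) ^ 2 = ψ (T 1) ^ 4 * g := by
        have := (show SemiconjBy g (ψ (T 1)) (ψ (T 1) ^ 2) from h2).pow_right 2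
        rw [← pow_mul] at this
        exact this
      rw [← mul_assoc, h', mul_assoc])
    refine semilinear_absurd (z := f (T 1)) (g := ι g) hz hz1 ?_ ?_
    · have := congrArg ι h2
      rw [map_mul, map_mul, map_pow] at this
      exact this
    · rw [← map_mul, ← map_mul, ← hx, ← map_mul, invert_T1 hxc]
      exact hneg

end Cfsg.Agent.S4294
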