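import Cfsg.Statements.S4295
import Cfsg.Agent.Lib.FiniteGroup.FrobKernelQuat

set_option autoImplicit false
open Cfsg

namespace Cfsg.Agent.S4295

/-- A module of order `s * s` with two anticommuting square roots of `-1`, for odd `s`. -/
theorem exists_pair_module : ∀ s : ℕ, Odd s →
    ∃ (M : Type) (_ : AddCommGroup M) (_ : Finite M) (A X : M ≃+ M),
      (∀ v, A (A v) = -v) ∧ (∀ v, X (X v) = -v) ∧ (∀ v, X (A v) = -(A (X v))) ∧ Nat.card M = s * s := by
  intro s
  induction s using Nat.strong_induction_on with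
  | _ s ih =>
    intro hs
    by_cases hs1 : s = 1
    · subst hs1
      exact ⟨PUnit, inferInstance, inferInstance, AddEquiv.refl _, AddEquiv.refl _,
        fun v => rfl, fun v => rfl, fun v => rfl, by simp⟩
    obtain ⟨q, hq, t, rfl⟩ := Nat.exists_prime_and_dvd hs1
    haveI : Fact q.Prime := ⟨hq⟩
    have ht0 : 0 < t := by
      rcases Nat.eq_zero_or_pos t with rfl | h
      · simp at hs
      · exact h
    obtain ⟨M, iM, iF, A, X, hA, hX, hAX, hcard⟩ :=
      ih t (lt_mul_of_one_lt_left ht0 hq.one_lt) (Nat.odd_mul.1 hs).2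
    obtain ⟨a, b, hab⟩ := ZMod.sq_add_sq q (-1)
    let A₀ : (ZMod q × ZMod q) ≃+ (ZMod q × ZMod q) :=
      { toFun := fun v => (-v.2, v.1)
        invFun := fun v => (v.2, -v.1)
        left_inv := fun v => by simp
        right_inv := fun v => by simp
        map_add' := fun x y => by simp [add_comm] }
    have hX₀ : ∀ v : ZMod q × ZMod q,
        ((a * (a * v.1 + b * v.2) + b * (b * v.1 - a * v.2)), (b * (a * v.1 + b * v.2) - a * (b * v.1 - a * v.2))) =
          (-v.1, -v.2) := fun v =>
      Prod.ext (by linear_combination v.1 * hab) (by linear_combination v.2 * hab)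
    let X₀ : (ZMod q × ZMod q) ≃+ (ZMod q × ZMod q) :=
      { toFun := fun v => (a * v.1 + b * v.2, b * v.1 - a * v.2)
        invFun := fun v => (-(a * v.1 + b * v.2), -(b * v.1 - a * v.2))
        left_inv := fun v => Prod.ext
          (by linear_combination (-v.1) * hab) (by linear_combination (-v.2) * hab)
        right_inv := fun v => Prod.ext
          (by linear_combination (-v.1) * hab) (by linear_combination (-v.2) * hab)
        map_add' := fun x y => Prod.ext
          (by simp only [Prod.fst_add, Prod.snd_add]; ring) (by simp only [Prod.fst_add, Prod.snd_add]; ring) }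
    refine ⟨(ZMod q × ZMod q) × M, inferInstance, inferInstance, AddEquiv.prodCongr A₀ A,
      AddEquiv.prodCongr X₀ X, fun v => Prod.ext rfl (hA v.2), fun v => Prod.ext ?_ (hX v.2),
      fun v => Prod.ext ?_ (hAX v.2), ?_⟩
    · exact hX₀ v.1
    · show (a * -v.1.2 + b * v.1.1, b * -v.1.2 - a * v.1.1) =
        (-(-(b * v.1.1 - a * v.1.2)), -(a * v.1.1 + b * v.1.2))
      exact Prod.ext (by ring) (by ring)
    · rw [Nat.card_prod, Nat.card_prod, Nat.card_zmod, hcard]
      ring

/-- For a natural number m the following are equivalent: (a) some finite group has a Frobenius complement isomorphic to the quaternion group of order 8 whose Frobenius kernel (the identity together with the elements lying in no conjugate of the complement) has exactly m elements; (b) m is an odd perfect square greater than 1. -/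
theorem result (m : ℕ) :
    (∃ (L : Type) (_ : Group L) (_ : Finite L) (H : Subgroup L), Cfsg.IsFrobeniusComplement H ∧
        Nonempty (H ≃* QuaternionGroup 2) ∧ Nat.card (Cfsg.frobeniusKernel H) = m) ↔
    (Odd m ∧ IsSquare m ∧ 1 < m) := by
  constructor
  · rintro ⟨L, _, _, H, hH, ⟨e⟩, rfl⟩
    obtain ⟨K, hK⟩ := FrobData.exists_data hH
    rw [FrobKernelQuat.card_frobeniusKernel hK]
    have hb : orderOf (e.symm (QuaternionGroup.a 1)) = 4 := by
      rw [MulEquiv.orderOf_eq, QuaternionGroup.orderOf_a_one]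
    obtain ⟨h1, h2⟩ := FrobKernelQuat.kernel_odd_square hK (g := e.symm (QuaternionGroup.xa 0)) hb
      (by rw [← map_mul, ← map_mul]; exact congrArg e.symm (by decide))
      (by rw [← map_inv, ← map_mul, ← map_mul, ← map_inv]; exact congrArg e.symm (by decide))
    exact ⟨h1, h2, (Subgroup.one_lt_card_iff_ne_bot K).2 hK.kne⟩
  · rintro ⟨hodd, ⟨s, rfl⟩, hm⟩
    have hs : Odd s := (Nat.odd_mul.1 hodd).1
    obtain ⟨M, iM, iF, A, X, hA, hX, hAX, hcard⟩ := exists_pair_module s hs
    haveI : Nontrivial M := Finite.one_lt_card_iff_nontrivial.1 (hcard ▸ hm)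
    haveI : Nontrivial (QuaternionGroup 2) := ⟨⟨1, QuaternionGroup.a 1, by decide⟩⟩
    obtain ⟨ρ, hρ⟩ := FrobCompl.exists_quat (n := 2) A X
      (fun v => by show A (A (A (A v))) = v; rw [hA, hA, neg_neg])
      (fun v => by show _ = A (A v); rw [hA, hX])
      (fun v => by rw [hAX, map_neg, hA, neg_neg])
    have hdec : ∀ q : QuaternionGroup 2, q ≠ 1 → q = QuaternionGroup.a 2 ∨ q * q = QuaternionGroup.a 2 := by
      decide
    obtain ⟨L, i1, i2, C, hC, ⟨e⟩, hk⟩ := FrobCompl.exists_frobenius_add M ρ (fun q hq v hv => by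
      have h2 : ρ (QuaternionGroup.a 2) v = v := by
        rcases hdec q hq with rfl | e
        · exact hv
        · rw [← e, map_mul]
          show ρ q (ρ q v) = v
          rw [hv, hv]
      rw [(hρ 2 v).1] at h2
      have h3 : A (A v) = v := h2
      rw [hA, neg_eq_iff_add_eq_zero, ← two_nsmul] at h3
      have h4 : addOrderOf v = 1 := Nat.eq_one_of_dvd_coprimes
        ((Nat.coprime_two_left).2 (hcard ▸ hodd)) (addOrderOf_dvd_of_nsmul_eq_zero h3) (addOrderOf_dvd_natCard v)
      exact AddMonoid.addOrderOf_eq_one_iff.1 h4)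
    exact ⟨L, i1, i2, C, hC, ⟨e.symm⟩, hk.trans hcard⟩

end Cfsg.Agent.S4295
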