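import Cfsg.Statements.S4296
import Cfsg.Agent.Lib.FiniteGroup.FrobKernelQuat

set_option autoImplicit false
open Cfsg

namespace Cfsg.Agent.S4296

/-- Let H be a Frobenius complement in a finite group, and suppose some Sylow subgroup of H is not cyclic. Then the number of elements of the Frobenius kernel (the identity together with the elements lying in no conjugate of H) is an odd perfect square. -/
theorem result {L : Type*} [Group L] [Finite L] (H : Subgroup L) (hF : Cfsg.IsFrobeniusComplement H)
    (hZ : ∃ (p : ℕ) (_ : Fact p.Prime) (P : Sylow p H), ¬ IsCyclic P) :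
    Odd (Nat.card (Cfsg.frobeniusKernel H)) ∧ IsSquare (Nat.card (Cfsg.frobeniusKernel H)) := by
  obtain ⟨K, hK⟩ := FrobData.exists_data hF
  obtain ⟨p, hp, P, hP⟩ := hZ
  haveI := hp
  obtain ⟨b, g, hb, hgb, hconj⟩ := FrobKernelQuat.exists_pair hK.abCyclic P hP
  rw [FrobKernelQuat.card_frobeniusKernel hK]
  exact FrobKernelQuat.kernel_odd_square hK hb hgb hconj

end Cfsg.Agent.S4296
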