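import Cfsg.Statements.S4297
import Cfsg.Agent.Lib.FiniteGroup.FrobComplement

set_option autoImplicit false
open Cfsg

namespace Cfsg.Agent.S4297

/-- For every n ≥ 2 the dicyclic group of order 4n (generated by an element a of order 2n and an element x with x² = aⁿ and x a x⁻¹ = a⁻¹) occurs as a Frobenius complement of some finite Frobenius group. -/
theorem result (n : ℕ) (hn : 2 ≤ n) :
    ∃ (L : Type) (_ : Group L) (_ : Finite L) (H : Subgroup L), Cfsg.IsFrobeniusComplement H ∧ Nonempty (H ≃* QuaternionGroup n) := by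
  haveI : NeZero n := ⟨by omega⟩
  haveI : NeZero (2 * n) := ⟨by omega⟩
  haveI : Nontrivial (QuaternionGroup n) := ⟨⟨1, QuaternionGroup.xa 0, fun e => by cases e⟩⟩
  obtain ⟨p, hp, hp2, hpn⟩ := Nat.exists_prime_gt_modEq_one 2 (NeZero.ne (2 * n))
  haveI : Fact p.Prime := ⟨hp⟩
  obtain ⟨g, hg⟩ := IsCyclic.exists_ofOrder_eq_natCard (α := (ZMod p)ˣ)
  have hdvd : 2 * n ∣ orderOf g := by
    rw [hg, Nat.card_units, Nat.card_zmod]
    exact (Nat.modEq_iff_dvd' hp.one_le).1 hpn.symm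
  set z : (ZMod p)ˣ := g ^ (orderOf g / (2 * n)) with hzdef
  have hz : orderOf z = 2 * n := orderOf_pow_orderOf_div (orderOf_pos g).ne' hdvd
  have hzn : ((z ^ n : (ZMod p)ˣ) : ZMod p) = -1 := by
    have h1 : ((z ^ n : (ZMod p)ˣ) : ZMod p) ^ 2 = 1 ^ 2 := by
      rw [one_pow, ← Units.val_pow_eq_pow_val, ← pow_mul, mul_comm, ← hz, pow_orderOf_eq_one]
      rfl
    refine (eq_or_eq_neg_of_sq_eq_sq _ _ h1).resolve_left fun e => ?_
    have h2 := Nat.le_of_dvd (by omega) (hz ▸ orderOf_dvd_of_pow_eq_one (Units.ext e : z ^ n = 1))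
    omega
  have h2ne : (2 : ZMod p) ≠ 0 := by
    intro e
    have : ((2 : ℕ) : ZMod p) = 0 := e
    rw [ZMod.natCast_eq_zero_iff] at this
    have := Nat.le_of_dvd (by norm_num) this
    omega
  let A : (ZMod p × ZMod p) ≃+ (ZMod p × ZMod p) :=
    { toFun := fun v => ((z : ZMod p) * v.1, ((z⁻¹ : (ZMod p)ˣ) : ZMod p) * v.2)
      invFun := fun v => (((z⁻¹ : (ZMod p)ˣ) : ZMod p) * v.1, (z : ZMod p) * v.2)
      left_inv := fun v => Prod.ext (Units.inv_mul_cancel_left z v.1) (Units.mul_inv_cancel_left z v.2)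
      right_inv := fun v => Prod.ext (Units.mul_inv_cancel_left z v.1) (Units.inv_mul_cancel_left z v.2)
      map_add' := fun a b => Prod.ext (mul_add _ _ _) (mul_add _ _ _) }
  let X : (ZMod p × ZMod p) ≃+ (ZMod p × ZMod p) :=
    { toFun := fun v => (-v.2, v.1)
      invFun := fun v => (v.2, -v.1)
      left_inv := fun v => by simp
      right_inv := fun v => by simp
      map_add' := fun a b => by simp [add_comm] }
  have hAk : ∀ (k : ℕ) (v : ZMod p × ZMod p), (⇑A)^[k] v =
      (((z ^ k : (ZMod p)ˣ) : ZMod p) * v.1, (((z ^ k)⁻¹ : (ZMod p)ˣ) : ZMod p) * v.2) := by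
    intro k
    induction k with
    | zero => intro v; simp
    | succ k ih =>
      intro v
      rw [Function.iterate_succ_apply', ih]
      show ((z : ZMod p) * _, ((z⁻¹ : (ZMod p)ˣ) : ZMod p) * _) = _
      rw [← mul_assoc, ← mul_assoc, ← Units.val_mul, ← Units.val_mul, ← pow_succ', ← mul_inv_rev, ← pow_succ]
  obtain ⟨ρ, hρ⟩ := FrobCompl.exists_quat (n := n) A X
    (fun v => by rw [hAk, ← hz, pow_orderOf_eq_one]; simp)
    (fun v => by
      have hinv : (((z ^ n)⁻¹ : (ZMod p)ˣ) : ZMod p) = -1 := by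
        rw [show (z ^ n)⁻¹ = z ^ n from inv_eq_of_mul_eq_one_right (Units.ext (by
          rw [Units.val_mul, hzn]; simp))]
        exact hzn
      rw [hAk, hzn, hinv]
      show (-v.1, -v.2) = _
      simp)
    (fun v => by
      show ((z : ZMod p) * -(((z⁻¹ : (ZMod p)ˣ) : ZMod p) * v.2),
        ((z⁻¹ : (ZMod p)ˣ) : ZMod p) * ((z : ZMod p) * v.1)) = (-v.2, v.1)
      rw [mul_neg, Units.mul_inv_cancel_left, Units.inv_mul_cancel_left])
  obtain ⟨L, i1, i2, D, hD, ⟨e⟩, -⟩ := FrobCompl.exists_frobenius_add (ZMod p × ZMod p) ρ (fun q hq v hv => by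
    rcases q with i | i
    · rw [(hρ i v).1, hAk] at hv
      have hi : z ^ i.val ≠ 1 := fun e => hq (by
        have h1 := hz ▸ orderOf_dvd_of_pow_eq_one e
        have h2 : i.val = 0 := Nat.eq_zero_of_dvd_of_lt h1 (ZMod.val_lt i)
        rw [(ZMod.val_eq_zero i).1 h2]
        rfl)
      have hv1 := congrArg Prod.fst hv
      have hv2 := congrArg Prod.snd hv
      simp only at hv1 hv2
      refine Prod.ext ?_ ?_
      · by_contra h0
        exact hi (Units.ext (mul_right_cancel₀ h0 (hv1.trans (one_mul v.1).symm)))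
      · by_contra h0
        exact hi (inv_eq_one.1 (Units.ext (mul_right_cancel₀ h0 (hv2.trans (one_mul v.2).symm))))
    · rw [(hρ i v).2, hAk] at hv
      have hv1 : -((((z ^ i.val)⁻¹ : (ZMod p)ˣ) : ZMod p) * v.2) = v.1 := congrArg Prod.fst hv
      have hv2 : ((z ^ i.val : (ZMod p)ˣ) : ZMod p) * v.1 = v.2 := congrArg Prod.snd hv
      rw [← hv2, ← mul_assoc, Units.inv_mul, one_mul] at hv1
      have h0 : v.1 = 0 := by
        have : (2 : ZMod p) * v.1 = 0 := by linear_combination -hv1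
        exact (mul_eq_zero.1 this).resolve_left h2ne
      exact Prod.ext h0 (by rw [← hv2, h0, mul_zero]; rfl))
  exact ⟨L, i1, i2, D, hD, ⟨e.symm⟩⟩

end Cfsg.Agent.S4297
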