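import Cfsg.Statements.S4298
import Cfsg.Agent.Lib.FiniteGroup.FrobComplement
import Mathlib.LinearAlgebra.Matrix.SpecialLinearGroup

set_option autoImplicit false
open Cfsg

namespace Cfsg.Agent.S4298

abbrev Q3 := ZMod 3 × ZMod 3 × ZMod 3 × ZMod 3
abbrev Q5 := ZMod 5 × ZMod 5 × ZMod 5 × ZMod 5

def mul3 (x y : Q3) : Q3 :=
  (x.1 * y.1 + x.2.1 * y.2.2.1, x.1 * y.2.1 + x.2.1 * y.2.2.2,
    x.2.2.1 * y.1 + x.2.2.2 * y.2.2.1, x.2.2.1 * y.2.1 + x.2.2.2 * y.2.2.2)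

def mul5 (x y : Q5) : Q5 :=
  (x.1 * y.1 + x.2.1 * y.2.2.1, x.1 * y.2.1 + x.2.1 * y.2.2.2,
    x.2.2.1 * y.1 + x.2.2.2 * y.2.2.1, x.2.2.1 * y.2.1 + x.2.2.2 * y.2.2.2)

/-- The elements of `SL(2, 3)`. -/
def elts : List Q3 := [(0,1,2,0), (0,1,2,1), (0,1,2,2), (0,2,1,0), (0,2,1,1), (0,2,1,2), (1,0,0,1), (1,0,1,1), (1,0,2,1), (1,1,0,1), (1,1,1,2), (1,1,2,0), (1,2,0,1), (1,2,1,0), (1,2,2,2), (2,0,0,2), (2,0,1,2), (2,0,2,2), (2,1,0,2), (2,1,1,1), (2,1,2,0), (2,2,0,2), (2,2,1,0), (2,2,2,1)]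

/-- An embedding of `SL(2, 3)` into the matrices over the field of five elements. -/
def img (x : Q3) : Q5 :=
  match x.1.val, x.2.1.val, x.2.2.1.val, x.2.2.2.val with
  | 0, 1, 2, 0 => (0,4,1,0)
  | 0, 1, 2, 1 => (2,4,3,4)
  | 0, 1, 2, 2 => (3,2,1,1)
  | 0, 2, 1, 0 => (0,1,4,0)
  | 0, 2, 1, 1 => (2,3,4,4)
  | 0, 2, 1, 2 => (3,1,2,1)
  | 1, 0, 0, 1 => (1,0,0,1)
  | 1, 0, 1, 1 => (1,2,1,3)
  | 1, 0, 2, 1 => (3,3,4,1)
  | 1, 1, 0, 1 => (1,1,2,3)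
  | 1, 1, 1, 2 => (0,2,2,0)
  | 1, 1, 2, 0 => (4,2,1,2)
  | 1, 2, 0, 1 => (3,4,3,1)
  | 1, 2, 1, 0 => (4,1,2,2)
  | 1, 2, 2, 2 => (3,0,0,2)
  | 2, 0, 0, 2 => (4,0,0,4)
  | 2, 0, 1, 2 => (2,2,1,4)
  | 2, 0, 2, 2 => (4,3,4,2)
  | 2, 1, 0, 2 => (2,1,2,4)
  | 2, 1, 1, 1 => (2,0,0,3)
  | 2, 1, 2, 0 => (1,4,3,3)
  | 2, 2, 0, 2 => (4,4,3,2)
  | 2, 2, 1, 0 => (1,3,4,3)
  | 2, 2, 2, 1 => (0,3,3,0)
  | _, _, _, _ => (0, 0, 0, 0)

def act (x : Q5) : AddMonoid.End (ZMod 5 × ZMod 5) :=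
  AddMonoidHom.mk' (fun v => (x.1 * v.1 + x.2.1 * v.2, x.2.2.1 * v.1 + x.2.2.2 * v.2)) (fun v w => by
    refine Prod.ext ?_ ?_ <;> simp only [Prod.fst_add, Prod.snd_add] <;> ring)

theorem act_mul (x y : Q5) : act (mul5 x y) = act x * act y := by
  refine AddMonoidHom.ext fun v => Prod.ext ?_ ?_
  · show (x.1 * y.1 + x.2.1 * y.2.2.1) * v.1 + (x.1 * y.2.1 + x.2.1 * y.2.2.2) * v.2 =
      x.1 * (y.1 * v.1 + y.2.1 * v.2) + x.2.1 * (y.2.2.1 * v.1 + y.2.2.2 * v.2)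
    ring
  · show (x.2.2.1 * y.1 + x.2.2.2 * y.2.2.1) * v.1 + (x.2.2.1 * y.2.1 + x.2.2.2 * y.2.2.2) * v.2 =
      x.2.2.1 * (y.1 * v.1 + y.2.1 * v.2) + x.2.2.2 * (y.2.2.1 * v.1 + y.2.2.2 * v.2)
    ring

set_option maxRecDepth 100000 in
theorem elts_all : ∀ a b c d : ZMod 3, a * d - b * c = 1 → (a, b, c, d) ∈ elts := by decide

set_option maxRecDepth 100000 in
set_option maxHeartbeats 4000000 in
theorem img_mul : ∀ x ∈ elts, ∀ y ∈ elts, img (mul3 x y) = mul5 (img x) (img y) := by decide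

set_option maxRecDepth 100000 in
set_option maxHeartbeats 4000000 in
theorem img_fpf : ∀ x ∈ elts, x ≠ (1, 0, 0, 1) → ∀ v : ZMod 5 × ZMod 5,
    ((img x).1 * v.1 + (img x).2.1 * v.2, (img x).2.2.1 * v.1 + (img x).2.2.2 * v.2) = v → v = 0 := by
  decide

/-- The group SL(2,3) of order 24 (the binary tetrahedral group) occurs as a Frobenius complement of some finite Frobenius group. -/
theorem result :
    ∃ (L : Type) (_ : Group L) (_ : Finite L) (H : Subgroup L), Cfsg.IsFrobeniusComplement H ∧ Nonempty (H ≃* Matrix.SpecialLinearGroup (Fin 2) (ZMod 3)) := by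
  let ent : Matrix.SpecialLinearGroup (Fin 2) (ZMod 3) → Q3 := fun M =>
    ((M : Matrix (Fin 2) (Fin 2) (ZMod 3)) 0 0, (M : Matrix (Fin 2) (Fin 2) (ZMod 3)) 0 1,
      (M : Matrix (Fin 2) (Fin 2) (ZMod 3)) 1 0, (M : Matrix (Fin 2) (Fin 2) (ZMod 3)) 1 1)
  have hmem : ∀ M, ent M ∈ elts := fun M => elts_all _ _ _ _ (by
    rw [← Matrix.det_fin_two]; exact M.2)
  have hmul : ∀ M N, ent (M * N) = mul3 (ent M) (ent N) := fun M N => by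
    refine Prod.ext ?_ (Prod.ext ?_ (Prod.ext ?_ ?_)) <;>
      simp [ent, mul3, Matrix.SpecialLinearGroup.coe_mul, Matrix.mul_apply, Fin.sum_univ_two]
  haveI : Nontrivial (Matrix.SpecialLinearGroup (Fin 2) (ZMod 3)) :=
    ⟨⟨1, ⟨!![1, 1; 0, 1], by decide⟩, fun e => absurd (congrArg (fun M => (ent M).2.1) e) (by decide)⟩⟩
  let ρ : Matrix.SpecialLinearGroup (Fin 2) (ZMod 3) →* AddMonoid.End (ZMod 5 × ZMod 5) :=
    { toFun := fun M => act (img (ent M))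
      map_one' := by
        have e : img (ent 1) = (1, 0, 0, 1) := by decide
        rw [e]
        exact AddMonoidHom.ext fun v => Prod.ext
          (show 1 * v.1 + 0 * v.2 = v.1 by rw [one_mul, zero_mul, add_zero])
          (show 0 * v.1 + 1 * v.2 = v.2 by rw [one_mul, zero_mul, zero_add])
      map_mul' := fun M N => by
        rw [hmul, img_mul _ (hmem M) _ (hmem N), act_mul] }
  haveI : Fact (1 < 5) := ⟨by norm_num⟩
  obtain ⟨L, i1, i2, D, hD, ⟨e⟩, -⟩ := FrobCompl.exists_frobenius_add (ZMod 5 × ZMod 5) ρ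
    (fun M hM v hv => img_fpf _ (hmem M) (fun he => hM (by
      apply Subtype.ext
      ext i j
      fin_cases i <;> fin_cases j
      · exact congrArg (fun t : Q3 => t.1) he
      · exact congrArg (fun t : Q3 => t.2.1) he
      · exact congrArg (fun t : Q3 => t.2.2.1) he
      · exact congrArg (fun t : Q3 => t.2.2.2) he)) v hv)
  exact ⟨L, i1, i2, D, hD, ⟨e.symm⟩⟩

end Cfsg.Agent.S4298
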