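import Cfsg.Statements.S4299
import Cfsg.Agent.Lib.FiniteGroup.FrobComplement

set_option autoImplicit false
open Cfsg

namespace Cfsg.Agent.S4299

/-- Every nontrivial finite cyclic group occurs as a Frobenius complement of some finite Frobenius group. -/
theorem result {C : Type*} [Group C] [Finite C] [IsCyclic C] [Nontrivial C] :
    ∃ (L : Type) (_ : Group L) (_ : Finite L) (H : Subgroup L), Cfsg.IsFrobeniusComplement H ∧ Nonempty (C ≃* H) := by
  obtain ⟨p, hp, -, hpn⟩ := Nat.exists_prime_gt_modEq_one 0 (Nat.card_pos (α := C)).ne'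
  haveI : Fact p.Prime := ⟨hp⟩
  obtain ⟨g, hg⟩ := IsCyclic.exists_ofOrder_eq_natCard (α := (ZMod p)ˣ)
  have hdvd : Nat.card C ∣ orderOf g := by
    rw [hg, Nat.card_units, Nat.card_zmod]
    exact (Nat.modEq_iff_dvd' hp.one_le).1 hpn.symm
  have hord : orderOf (g ^ (orderOf g / Nat.card C)) = Nat.card C :=
    orderOf_pow_orderOf_div (orderOf_pos g).ne' hdvd
  let e : C ≃* Subgroup.zpowers (g ^ (orderOf g / Nat.card C)) :=
    mulEquivOfCyclicCardEq (by rw [Nat.card_zpowers, hord])
  obtain ⟨L, i1, i2, D, hD, hiso, -⟩ := FrobCompl.exists_frobenius_add (ZMod p)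
    (((Module.toAddMonoidEnd (ZMod p) (ZMod p)).toMonoidHom.comp (Units.coeHom (ZMod p))).comp
      ((Subgroup.zpowers (g ^ (orderOf g / Nat.card C))).subtype.comp e.toMonoidHom))
    (fun c hc v hv => by
      have hv' : (((e c : Subgroup.zpowers _) : (ZMod p)ˣ) : ZMod p) * v = v := hv
      by_contra hv0
      refine hc (e.injective ?_)
      rw [map_one]
      apply Subtype.ext
      apply Units.ext
      exact mul_right_cancel₀ hv0 (hv'.trans (one_mul v).symm))
  exact ⟨L, i1, i2, D, hD, hiso⟩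

end Cfsg.Agent.S4299
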