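import Cfsg.Statements.S4300


set_option autoImplicit false
open Cfsg

namespace Cfsg.Agent.S4300

/-- Let G act faithfully and primitively on a set X, and suppose the stabilizer of some point is a simple group. Then either G is simple, or G has a normal subgroup, neither trivial nor the whole group, that acts regularly on X (transitively with trivial point stabilizers). -/
theorem result {G : Type*} [Group G] {X : Type*} [MulAction G X] [FaithfulSMul G X]
    (hprim : MulAction.IsPreprimitive G X) (x : X) (hsimple : IsSimpleGroup (MulAction.stabilizer G x)) :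
    IsSimpleGroup G ∨ ∃ N : Subgroup G, N.Normal ∧ N ≠ ⊥ ∧ N ≠ ⊤ ∧
      MulAction.IsPretransitive N X ∧ ∀ y : X, MulAction.stabilizer N y = ⊥ := by
  classical
  by_cases hs : IsSimpleGroup G
  · exact Or.inl hs
  right
  haveI : Nontrivial G := Subgroup.subtype_injective (MulAction.stabilizer G x) |>.nontrivial
  have hN : ∃ N : Subgroup G, N.Normal ∧ N ≠ ⊥ ∧ N ≠ ⊤ := by
    by_contra h
    refine hs { eq_bot_or_eq_top_of_normal := fun H hH => ?_ }
    by_contra h'
    push Not at h'
    exact h ⟨H, hH, h'.1, h'.2⟩
  obtain ⟨N, hNn, hNb, hNt⟩ := hN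
  haveI := hprim
  have hfp : MulAction.fixedPoints N X ≠ .univ := by
    intro h
    apply hNb
    rw [Subgroup.eq_bot_iff_forall]
    intro n hn
    refine eq_of_smul_eq_smul (α := X) fun y => ?_
    have hy : y ∈ MulAction.fixedPoints N X := by rw [h]; trivial
    rw [one_smul]
    exact hy ⟨n, hn⟩
  have htN : MulAction.IsPretransitive N X := MulAction.IsQuasiPreprimitive.isPretransitive_of_normal hfp
  refine ⟨N, hNn, hNb, hNt, htN, ?_⟩
  have hx : N.subgroupOf (MulAction.stabilizer G x) = ⊥ := by
    rcases hsimple.eq_bot_or_eq_top_of_normal _ (hNn.subgroupOf _) with h | h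
    · exact h
    · exfalso
      refine hNt (eq_top_iff.2 fun g _ => ?_)
      obtain ⟨n, hn⟩ := htN.exists_smul_eq x (g • x)
      have hs' : (n : G)⁻¹ * g ∈ MulAction.stabilizer G x := by
        rw [MulAction.mem_stabilizer_iff, mul_smul, inv_smul_eq_iff]
        exact hn.symm
      have hmem := Subgroup.subgroupOf_eq_top.1 h hs'
      have := mul_mem n.2 hmem
      rwa [mul_inv_cancel_left] at this
  intro y
  rw [Subgroup.eq_bot_iff_forall]
  intro n hn
  obtain ⟨m, rfl⟩ := htN.exists_smul_eq x y
  have hmn : ((m : G)⁻¹ * n * m) ∈ MulAction.stabilizer G x := by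
    rw [MulAction.mem_stabilizer_iff, mul_smul, mul_smul, inv_smul_eq_iff]
    exact MulAction.mem_stabilizer_iff.1 hn
  have hmem : (⟨_, hmn⟩ : MulAction.stabilizer G x) ∈ N.subgroupOf (MulAction.stabilizer G x) :=
    mul_mem (mul_mem (inv_mem m.2) n.2) m.2
  rw [hx, Subgroup.mem_bot] at hmem
  have h := congrArg (fun t => (m : G) * t * (m : G)⁻¹) (congrArg Subtype.val hmem)
  apply Subtype.ext
  simpa [mul_assoc] using h

end Cfsg.Agent.S4300
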