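import Cfsg.Statements.S4301


set_option autoImplicit false
open Cfsg

namespace Cfsg.Agent.S4301

/-- One-point extension of a multiply transitive group. Let X be a set and G a group of permutations of Option X (the set X with one extra point ∗ = none) all of whose elements fix ∗, such that G is k-transitive on the points of X for some k ≥ 2, X having at least k points. Suppose a permutation h of Option X and an element g of G satisfy: h interchanges ∗ with a point x of X and fixes a point y of X; g interchanges x and y; (g h)³ and h² lie in G; and for every f in G fixing x, the product h f h lies in G and fixes x. Then an element of the group generated by G and h fixes ∗ exactly when it lies in G, and that group acts (k+1)-transitively on Option X. -/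
theorem result {X : Type*} (G : Subgroup (Equiv.Perm (Option X))) (hfix : ∀ f ∈ G, f none = none)
    (k : ℕ) (hk : 2 ≤ k) (hkX : Nonempty (Fin k ↪ X))
    (htrans : ∀ a b : Fin k ↪ X, ∃ f ∈ G, ∀ i, f (some (a i)) = some (b i))
    (h g : Equiv.Perm (Option X)) (hg : g ∈ G) (x y : X)
    (h1 : h none = some x) (h2 : h (some x) = none) (h3 : h (some y) = some y)
    (h4 : g (some x) = some y) (h5 : g (some y) = some x)
    (h6 : (g * h) ^ 3 ∈ G) (h7 : h ^ 2 ∈ G)
    (h8 : ∀ f ∈ G, f (some x) = some x → h * f * h ∈ G ∧ (h * f * h) (some x) = some x) :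
    (∀ f ∈ Subgroup.closure ((G : Set (Equiv.Perm (Option X))) ∪ {h}), f none = none ↔ f ∈ G) ∧
      MulAction.IsMultiplyPretransitive (Subgroup.closure ((G : Set (Equiv.Perm (Option X))) ∪ {h})) (Option X) (k + 1) := by
  classical
  obtain ⟨e₀⟩ := hkX
  have hext : ∀ u v : X, u ≠ v → ∃ e : Fin k ↪ X, e ⟨0, by omega⟩ = u ∧ e ⟨1, by omega⟩ = v := by
    intro u v huv
    set i0 : Fin k := ⟨0, by omega⟩
    set i1 : Fin k := ⟨1, by omega⟩
    set e1 : Fin k ↪ X := e₀.trans (Equiv.swap (e₀ i0) u).toEmbedding with he1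
    have h0 : e1 i0 = u := by simp [he1]
    refine ⟨e1.trans (Equiv.swap (e1 i1) v).toEmbedding, ?_, by simp⟩
    have hne : e1 i1 ≠ u := fun e => by
      have := e1.injective (e.trans h0.symm)
      simp [i0, i1] at this
    simp only [Function.Embedding.trans_apply, Equiv.coe_toEmbedding, h0]
    exact Equiv.swap_apply_of_ne_of_ne hne.symm huv
  have hsome : ∀ f ∈ G, ∀ z : X, ∃ w : X, f (some z) = some w := by
    intro f hf z
    rcases hfz : f (some z) with _ | w
    · have := f.injective (hfz.trans (hfix f hf).symm)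
      simp at this
    · exact ⟨w, rfl⟩
  have hxy : x ≠ y := fun e => by
    rw [← e, h2] at h3
    simp at h3
  -- the double coset decomposition of `G`
  have hdec : ∀ f ∈ G, f (some x) = some x ∨ ∃ u ∈ G, ∃ v ∈ G,
      u (some x) = some x ∧ v (some x) = some x ∧ f = u * g * v := by
    intro f hf
    by_cases hfx : f (some x) = some x
    · exact Or.inl hfx
    obtain ⟨w, hw⟩ := hsome f hf x
    have hwx : w ≠ x := fun e => hfx (e ▸ hw)
    obtain ⟨a, ha0, ha1⟩ := hext x y hxy
    obtain ⟨b, hb0, hb1⟩ := hext x w hwx.symm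
    obtain ⟨u, hu, hu'⟩ := htrans a b
    have hux := hu' ⟨0, by omega⟩
    have huy := hu' ⟨1, by omega⟩
    rw [ha0, hb0] at hux
    rw [ha1, hb1] at huy
    refine Or.inr ⟨u, hu, g⁻¹ * u⁻¹ * f, G.mul_mem (G.mul_mem (G.inv_mem hg) (G.inv_mem hu)) hf, hux, ?_,
      by group⟩
    show g⁻¹ (u⁻¹ (f (some x))) = some x
    rw [hw, ← huy]
    simp only [Equiv.Perm.inv_def, Equiv.symm_apply_apply, Equiv.symm_apply_eq]
    exact h4.symm
  set U : Set (Equiv.Perm (Option X)) := {f | f ∈ G ∨ ∃ a ∈ G, ∃ b ∈ G, f = a * h * b} with hU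
  have hUl : ∀ a ∈ G, ∀ f ∈ U, a * f ∈ U := by
    rintro a ha f (hf | ⟨b, hb, c, hc, rfl⟩)
    · exact Or.inl (G.mul_mem ha hf)
    · exact Or.inr ⟨a * b, G.mul_mem ha hb, c, hc, by group⟩
  have hUr : ∀ a ∈ G, ∀ f ∈ U, f * a ∈ U := by
    rintro a ha f (hf | ⟨b, hb, c, hc, rfl⟩)
    · exact Or.inl (G.mul_mem hf ha)
    · exact Or.inr ⟨b, hb, c * a, G.mul_mem hc ha, by group⟩
  have hhgh : h * g * h ∈ U := by
    refine Or.inr ⟨g⁻¹ * (g * h) ^ 3, G.mul_mem (G.inv_mem hg) h6,
      (h ^ 2)⁻¹ * g⁻¹, G.mul_mem (G.inv_mem h7) (G.inv_mem hg), ?_⟩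
    simp only [pow_succ, pow_zero, one_mul]
    group
  have hhfh : ∀ f ∈ G, h * f * h ∈ U := by
    intro f hf
    rcases hdec f hf with hfx | ⟨u, hu, v, hv, hux, hvx, rfl⟩
    · exact Or.inl (h8 f hf hfx).1
    · have hmid : h⁻¹ * g * h⁻¹ ∈ U := by
        have e : h⁻¹ * g * h⁻¹ = (h ^ 2)⁻¹ * (h * g * h) * (h ^ 2)⁻¹ := by
          simp only [pow_succ, pow_zero, one_mul]; group
        rw [e]
        exact hUr _ (G.inv_mem h7) _ (hUl _ (G.inv_mem h7) _ hhgh)
      have e : h * (u * g * v) * h = (h * u * h) * (h⁻¹ * g * h⁻¹) * (h * v * h) := by group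
      rw [e]
      exact hUr _ (h8 v hv hvx).1 _ (hUl _ (h8 u hu hux).1 _ hmid)
  let S : Subgroup (Equiv.Perm (Option X)) :=
    { carrier := U
      one_mem' := Or.inl G.one_mem
      mul_mem' := by
        rintro a b (ha | ⟨a1, ha1, a2, ha2, rfl⟩) hb
        · exact hUl _ ha _ hb
        rcases hb with hb | ⟨b1, hb1, b2, hb2, rfl⟩
        · exact hUr _ hb _ (Or.inr ⟨a1, ha1, a2, ha2, rfl⟩)
        · have e : a1 * h * a2 * (b1 * h * b2) = a1 * (h * (a2 * b1) * h) * b2 := by group
          rw [e]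
          exact hUr _ hb2 _ (hUl _ ha1 _ (hhfh _ (G.mul_mem ha2 hb1)))
      inv_mem' := by
        rintro a (ha | ⟨a1, ha1, a2, ha2, rfl⟩)
        · exact Or.inl (G.inv_mem ha)
        · refine Or.inr ⟨a2⁻¹, G.inv_mem ha2, (h ^ 2)⁻¹ * a1⁻¹, G.mul_mem (G.inv_mem h7) (G.inv_mem ha1), ?_⟩
          simp only [pow_succ, pow_zero, one_mul]; group }
  set K := Subgroup.closure ((G : Set (Equiv.Perm (Option X))) ∪ {h}) with hK
  have hKS : K ≤ S := by
    rw [hK, Subgroup.closure_le]
    rintro f (hf | rfl)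
    · exact Or.inl hf
    · exact Or.inr ⟨1, G.one_mem, 1, G.one_mem, by group⟩
  have hGK : G ≤ K := fun f hf => Subgroup.subset_closure (Or.inl hf)
  have hhK : h ∈ K := Subgroup.subset_closure (Or.inr rfl)
  refine ⟨fun f hf => ⟨fun hn => ?_, fun hG => hfix f hG⟩, ?_⟩
  · rcases hKS hf with hfG | ⟨a, ha, b, hb, rfl⟩
    · exact hfG
    · exfalso
      obtain ⟨w, hw⟩ := hsome a ha x
      simp only [Equiv.Perm.mul_apply, hfix b hb, h1, hw] at hn
      simp at hn
  -- transitivity
  have hnorm : ∀ a : Fin (k + 1) ↪ Option X, ∃ f ∈ K, f (a 0) = none := by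
    intro a
    rcases ha : a 0 with _ | z
    · exact ⟨1, K.one_mem, rfl⟩
    · set i0 : Fin k := ⟨0, by omega⟩
      obtain ⟨f, hf, hf'⟩ := htrans (e₀.trans (Equiv.swap (e₀ i0) z).toEmbedding)
        (e₀.trans (Equiv.swap (e₀ i0) x).toEmbedding)
      have h9 := hf' i0
      simp only [Function.Embedding.trans_apply, Equiv.coe_toEmbedding, Equiv.swap_apply_left] at h9
      exact ⟨h * f, K.mul_mem hhK (hGK hf), by rw [Equiv.Perm.mul_apply, h9, h2]⟩
  rw [MulAction.isMultiplyPretransitive_iff]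
  intro a b
  obtain ⟨fa, hfa, hfa0⟩ := hnorm a
  obtain ⟨fb, hfb, hfb0⟩ := hnorm b
  have hne : ∀ (c : Fin (k + 1) ↪ Option X) (f : Equiv.Perm (Option X)), f (c 0) = none →
      ∀ i : Fin k, ∃ w : X, f (c i.succ) = some w := by
    intro c f hc i
    rcases hci : f (c i.succ) with _ | w
    · exact absurd (c.injective (f.injective (hci.trans hc.symm))) (Fin.succ_ne_zero i)
    · exact ⟨w, rfl⟩
  choose wa hwa using hne a fa hfa0
  choose wb hwb using hne b fb hfb0
  obtain ⟨m, hm, hm'⟩ := htrans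
    ⟨wa, fun i j e => Fin.succ_injective _ (a.injective (fa.injective (by rw [hwa, hwa, e])))⟩
    ⟨wb, fun i j e => Fin.succ_injective _ (b.injective (fb.injective (by rw [hwb, hwb, e])))⟩
  refine ⟨⟨fb⁻¹ * m * fa, K.mul_mem (K.mul_mem (K.inv_mem hfb) (hGK hm)) hfa⟩, ?_⟩
  refine DFunLike.ext _ _ fun i => ?_
  show fb⁻¹ (m (fa (a i))) = b i
  refine Fin.cases ?_ (fun j => ?_) i
  · rw [hfa0, hfix m hm, ← hfb0, Equiv.Perm.inv_def, Equiv.symm_apply_apply]
  · have h9 := hm' j
    rw [hwa, show m (some (wa j)) = some (wb j) from h9, ← hwb, Equiv.Perm.inv_def, Equiv.symm_apply_apply]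

end Cfsg.Agent.S4301
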