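import Cfsg.Statements.S4303
import Cfsg.Agent.Lib.FiniteGroup.SylowNumbers

set_option autoImplicit false
universe u
open Cfsg

namespace Cfsg.Agent.S4303

/-- For a finite group `G` and a prime `p`, the number of Sylow `p`-subgroups of `G` is a product of natural numbers each of which is either a prime power congruent to 1 modulo `p` or the number of Sylow `p`-subgroups of some finite simple group. -/
theorem result {G : Type u} [Group G] [Finite G]
    (p : ℕ) [Fact p.Prime] :
    ∃ l : List ℕ, l.prod = Nat.card (Sylow p G) ∧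
      ∀ m ∈ l, (IsPrimePow m ∧ m % p = 1) ∨
        ∃ (S : Type u) (_ : Group S) (_ : Finite S), IsSimpleGroup S ∧ m = Nat.card (Sylow p S) := by
  classical
  refine SylowNumbers.induction_sylow p (fun n => ∃ l : List ℕ, l.prod = n ∧
      ∀ m ∈ l, (IsPrimePow m ∧ m % p = 1) ∨
        ∃ (S : Type u) (_ : Group S) (_ : Finite S), IsSimpleGroup S ∧ m = Nat.card (Sylow p S))
    ?_ ?_ (fun _ _ => True) (fun _ _ _ _ => trivial) (fun _ _ _ _ _ => trivial) ?_ G trivial
  · rintro a b - - ⟨l, rfl, hl⟩ ⟨m, rfl, hm⟩
    exact ⟨l ++ m, List.prod_append, fun x hx => (List.mem_append.1 hx).elim (hl x) (hm x)⟩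
  · intro n hn hgood
    refine ⟨n.primeFactors.toList.map fun l => l ^ n.factorization l, ?_, ?_⟩
    · rw [Finset.prod_map_toList]
      exact (Nat.prod_factorization_eq_prod_primeFactors (fun l e => l ^ e)).symm.trans
        (Nat.prod_factorization_pow_eq_self hn)
    · intro m hm
      obtain ⟨l, hl, rfl⟩ := List.mem_map.1 hm
      rw [Finset.mem_toList] at hl
      have hlp := Nat.prime_of_mem_primeFactors hl
      refine Or.inl ⟨hlp.isPrimePow.pow ?_, hgood l hlp⟩
      exact (hlp.factorization_pos_of_dvd hn (Nat.dvd_of_mem_primeFactors hl)).ne'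
  · intro S _ _ hS _
    exact ⟨[Nat.card (Sylow p S)], List.prod_singleton, fun m hm => Or.inr
      ⟨S, inferInstance, inferInstance, hS, List.mem_singleton.1 hm⟩⟩

end Cfsg.Agent.S4303
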