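import Cfsg.Statements.S4305
import Cfsg.Agent.Lib.FiniteGroup.S3Fpf.Reduction

set_option autoImplicit false
open Cfsg

namespace Cfsg.Agent.S4305

/-- Let the symmetric group of degree 3 act by automorphisms on a finite solvable group `G` of order prime to 6, so that only the identity of `G` is fixed by all of it. Then the derived subgroup of `G` is nilpotent. -/
theorem result {G : Type*} [Group G] [Finite G] [Group.IsSolvable G]
    [MulDistribMulAction (Equiv.Perm (Fin 3)) G] (hcop : (Nat.card G).Coprime 6)
    (hfpf : ∀ g : G, (∀ a : Equiv.Perm (Fin 3), a • g = g) → g = 1) :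
    Group.IsNilpotent ↥(commutator G) := by
  let c : Equiv.Perm (Fin 3) := Equiv.swap 0 1 * Equiv.swap 1 2
  let s : Equiv.Perm (Fin 3) := Equiv.swap 0 1
  let D : Cfsg.Agent.S3Fpf.Act G :=
    { α := MulDistribMulAction.toMulAut (Equiv.Perm (Fin 3)) G c
      τ := MulDistribMulAction.toMulAut (Equiv.Perm (Fin 3)) G s
      α3 := fun x => by
        change c • c • c • x = x
        rw [smul_smul, smul_smul, show c * c * c = 1 by decide, one_smul]
      τ2 := fun x => by
        change s • s • x = x
        rw [smul_smul, show s * s = 1 by decide, one_smul]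
      rel := fun x => by
        change s • c • x = c • c • s • x
        rw [smul_smul, smul_smul, smul_smul, show s * c = c * c * s by decide, mul_assoc]
      fpf := fun x h1 h2 => hfpf x fun a => by
        replace h1 : c • x = x := h1
        replace h2 : s • x = x := h2
        have key : ∀ a : Equiv.Perm (Fin 3),
            a = 1 ∨ a = c ∨ a = c * c ∨ a = s ∨ a = c * s ∨ a = c * c * s := by decide
        rcases key a with rfl | rfl | rfl | rfl | rfl | rfl <;>
          simp only [one_smul, mul_smul, h1, h2] }
  have h6 : (Nat.card G).Coprime (2 * 3) := hcop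
  exact Cfsg.Agent.S3Fpf.isNilpotent_commutator (Nat.card G) G D rfl
    (Nat.Coprime.coprime_mul_right_right h6) (Nat.Coprime.coprime_mul_left_right h6)

end Cfsg.Agent.S4305
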