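import Cfsg.Statements.S4314
import Mathlib.GroupTheory.Sylow
import Mathlib.GroupTheory.Nilpotent
import Mathlib.GroupTheory.GroupAction.Quotient
import Mathlib.GroupTheory.SpecificGroups.Cyclic
import Mathlib.Data.Finite.Perm

set_option autoImplicit false
open Cfsg
open scoped commutatorElement

namespace Cfsg.Agent.S4314

variable {G : Type*} [Group G]

/-- The elements commuting with `g` modulo `K`. -/
def centMod (K : Subgroup G) [K.Normal] (g : G) : Subgroup G :=
  (Subgroup.centralizer ({((g : G) : G ⧸ K)} : Set (G ⧸ K))).comap (QuotientGroup.mk' K)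

theorem centralizer_le_centMod (K : Subgroup G) [K.Normal] (g : G) :
    Subgroup.centralizer ({g} : Set G) ≤ centMod K g := fun u hu => by
  rw [centMod, Subgroup.mem_comap, Subgroup.mem_centralizer_singleton_iff]
  exact congrArg (QuotientGroup.mk' K) (Subgroup.mem_centralizer_singleton_iff.1 hu)

theorem le_centMod (K : Subgroup G) [K.Normal] (g : G) : K ≤ centMod K g := fun u hu => by
  rw [centMod, Subgroup.mem_comap, Subgroup.mem_centralizer_singleton_iff]
  simp [(QuotientGroup.eq_one_iff u).2 hu]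

theorem center_eq_bot_of_card_mul [Finite G] {p r : ℕ} (hp : p.Prime) (hr : r.Prime)
    (hc : Nat.card G = p * r) (hna : ¬ IsMulCommutative G) : Subgroup.center G = ⊥ := by
  by_contra hne
  refine hna ?_
  have hdvd : Nat.card (Subgroup.center G) ∣ p * r := hc ▸ Subgroup.card_subgroup_dvd_card _
  have hci := (Subgroup.center G).card_mul_index
  rw [hc] at hci
  have h1 : Nat.card (Subgroup.center G) ≠ 1 := fun h => hne ((Subgroup.card_eq_one).1 h)
  obtain ⟨a, b, ha, hb, hab⟩ := Nat.dvd_mul.1 hdvd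
  have hcyc : IsCyclic (G ⧸ Subgroup.center G) := by
    have hidx : Nat.card (G ⧸ Subgroup.center G) = (Subgroup.center G).index := rfl
    rcases (Nat.dvd_prime hp).1 ha with rfl | rfl <;> rcases (Nat.dvd_prime hr).1 hb with rfl | rfl
    · exact absurd (by simpa using hab.symm) h1
    · haveI := Fact.mk hp
      refine isCyclic_of_prime_card (p := p) ?_
      rw [hidx]
      rw [← hab, one_mul, mul_comm p] at hci
      exact Nat.eq_of_mul_eq_mul_left hr.pos hci
    · haveI := Fact.mk hr
      refine isCyclic_of_prime_card (p := r) ?_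
      rw [hidx]
      rw [← hab, mul_one] at hci
      exact Nat.eq_of_mul_eq_mul_left hp.pos hci
    · haveI : Subsingleton (G ⧸ Subgroup.center G) := by
        refine (Nat.card_eq_one_iff_unique.1 ?_).1
        rw [hidx]
        rw [← hab] at hci
        exact Nat.eq_of_mul_eq_mul_left (Nat.mul_pos hp.pos hr.pos) (hci.trans (mul_one _).symm)
      infer_instance
  exact ⟨⟨commutative_of_cyclic_center_quotient (QuotientGroup.mk' (Subgroup.center G))
    (by rw [QuotientGroup.ker_mk'])⟩⟩

/-- Class sizes `1` or prime. -/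
theorem result {G : Type*} [Group G] [Finite G]
    (h : ∀ x : G, (Subgroup.centralizer ({x} : Set G)).index = 1 ∨ ((Subgroup.centralizer ({x} : Set G)).index).Prime) :
    Subgroup.upperCentralSeries G 2 = ⊤ ∨
      ∃ p q : ℕ, p.Prime ∧ q.Prime ∧ p ≠ q ∧ Nat.card (G ⧸ Subgroup.center G) = p * q ∧ ¬ IsMulCommutative (G ⧸ Subgroup.center G) := by
  classical
  -- every centralizer has index `≤ 1` or prime, so a subgroup above it is either it or everything
  have habove : ∀ (x : G) (L : Subgroup G), Subgroup.centralizer ({x} : Set G) ≤ L → L ≠ ⊤ →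
      Subgroup.centralizer ({x} : Set G) = L ∧ L.index.Prime := by
    intro x L hL hne
    have hd := Subgroup.index_dvd_of_le hL
    rcases h x with h1 | hpr
    · exact absurd (Subgroup.index_eq_one.1 (Nat.dvd_one.1 (h1 ▸ hd))) hne
    · rcases (Nat.dvd_prime hpr).1 hd with h2 | h2
      · exact absurd (Subgroup.index_eq_one.1 h2) hne
      · refine ⟨Subgroup.eq_of_le_of_card_ge hL ?_, h2 ▸ hpr⟩
        have e1 := L.card_mul_index
        rw [h2, ← (Subgroup.centralizer ({x} : Set G)).card_mul_index] at e1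
        exact (Nat.eq_of_mul_eq_mul_right hpr.pos e1).le
  by_cases hall : ∀ x : G, (Subgroup.centralizer ({x} : Set G)).Normal
  · left
    rw [eq_top_iff]
    intro a _
    rw [Subgroup.mem_upperCentralSeries_succ_iff]
    intro b
    rw [Subgroup.upperCentralSeries_one, Subgroup.mem_center_iff]
    intro z
    haveI := hall z
    refine (Subgroup.mem_centralizer_singleton_iff.1 (?_ : ⁅a, b⁆ ∈ Subgroup.centralizer ({z} : Set G))).symm
    have hq : IsMulCommutative (G ⧸ Subgroup.centralizer ({z} : Set G)) := by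
      rcases h z with h1 | hpr
      · haveI : Subsingleton (G ⧸ Subgroup.centralizer ({z} : Set G)) := (Nat.card_eq_one_iff_unique.1 h1).1
        exact ⟨⟨fun _ _ => Subsingleton.elim _ _⟩⟩
      · haveI : Fact (Nat.card (G ⧸ Subgroup.centralizer ({z} : Set G))).Prime := ⟨hpr⟩
        haveI : IsCyclic (G ⧸ Subgroup.centralizer ({z} : Set G)) := isCyclic_of_prime_card rfl
        letI := IsCyclic.commGroup (α := G ⧸ Subgroup.centralizer ({z} : Set G))
        exact ⟨⟨mul_comm⟩⟩
    rw [← QuotientGroup.eq_one_iff, ← QuotientGroup.mk'_apply, map_commutatorElement, commutatorElement_eq_one_iff_mul_comm]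
    exact hq.is_comm.comm _ _
  right
  obtain ⟨x, hx⟩ := not_forall.1 hall
  set H := Subgroup.centralizer ({x} : Set G) with hH
  have hp : H.index.Prime := (h x).resolve_left fun h1 => hx (by rw [show H = ⊤ from Subgroup.index_eq_one.1 h1]; infer_instance)
  set p := H.index with hpdef
  haveI := Fact.mk hp
  let π := MulAction.toPermHom G (G ⧸ H)
  have hcardJ : Nat.card (G ⧸ H) = p := rfl
  haveI : Fintype (G ⧸ H) := Fintype.ofFinite _
  set K := H.normalCore with hKdef
  have hKker : K = π.ker := Subgroup.normalCore_eq_ker H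
  have hKH : K ≤ H := H.normalCore_le
  -- a transitive element
  obtain ⟨g, hg⟩ : ∃ g : G, ∀ a : G, ∃ i : ℕ, (g ^ i)⁻¹ * a ∈ H := by
    have hpd : p ∣ Nat.card π.range := by
      rw [← Subgroup.index_ker, ← hKker]
      exact Subgroup.index_dvd_of_le hKH
    obtain ⟨⟨_, g, rfl⟩, hσ⟩ := exists_prime_orderOf_dvd_card' p hpd
    replace hσ : orderOf (π g) = p := (Subgroup.orderOf_coe _).trans hσ
    obtain ⟨j, hj⟩ : ∃ j, π g j ≠ j := by
      by_contra hne
      push Not at hne
      rw [show π g = 1 from Equiv.ext hne, orderOf_one] at hσ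
      exact hp.one_lt.ne hσ
    have hper : Function.minimalPeriod (π g) j = p := by
      refine Function.minimalPeriod_eq_prime ?_ hj
      show (⇑(π g))^[p] j = j
      rw [← Equiv.Perm.coe_pow, ← hσ, pow_orderOf_eq_one]
      rfl
    have hsurj : Function.Surjective fun i : Fin p => (π g ^ (i : ℕ)) j := by
      refine ((Fintype.bijective_iff_injective_and_card _).2 ⟨fun a b hab => ?_, ?_⟩).2
      · apply Fin.ext
        refine Function.iterate_injOn_Iio_minimalPeriod (f := π g) (x := j) (by simpa [hper] using a.2)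
          (by simpa [hper] using b.2) ?_
        simpa [Equiv.Perm.coe_pow] using hab
      · rw [Fintype.card_fin, ← Nat.card_eq_fintype_card]
        exact hcardJ.symm
    refine ⟨g, fun a => ?_⟩
    obtain ⟨i, hi⟩ := hsurj ((1 : G) : G ⧸ H)
    obtain ⟨k, hk⟩ := hsurj ((a : G) : G ⧸ H)
    have hpj : (π g ^ p) j = j := by rw [← hσ, pow_orderOf_eq_one]; rfl
    refine ⟨p - i + k, QuotientGroup.eq.1 ?_⟩
    have e1 : ((g ^ (p - (i : ℕ) + k) : G) : G ⧸ H) = (π g ^ (p - (i : ℕ) + k)) ((1 : G) : G ⧸ H) := by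
      rw [← map_pow]
      show _ = g ^ (p - (i : ℕ) + k) • ((1 : G) : G ⧸ H)
      rw [MulAction.Quotient.smul_coe, smul_eq_mul, mul_one]
    rw [e1, ← hi, ← hk, ← Equiv.Perm.mul_apply, ← pow_add, show p - (i : ℕ) + k + i = k + p by omega,
      pow_add, Equiv.Perm.mul_apply, hpj]
  -- `M ∩ H ≤ K` for the elements commuting with `g` modulo `K`
  set M := centMod K g with hM
  have hKM : K ≤ M := le_centMod K g
  have hgM : g ∈ M := centralizer_le_centMod K g (Subgroup.mem_centralizer_singleton_iff.2 rfl)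
  have hMpow : ∀ u ∈ M, ∀ i : ℕ, ((g ^ i)⁻¹ * u⁻¹ * g ^ i * u) ∈ K := by
    intro u hu i
    rw [← QuotientGroup.eq_one_iff]
    rw [hM, centMod, Subgroup.mem_comap, Subgroup.mem_centralizer_singleton_iff] at hu
    have hc : Commute (u : G ⧸ K) ((g : G ⧸ K) ^ i) := (show Commute (u : G ⧸ K) (g : G ⧸ K) from hu).pow_right i
    simp only [QuotientGroup.mk_mul, QuotientGroup.mk_inv, QuotientGroup.mk_pow]
    calc ((g : G ⧸ K) ^ i)⁻¹ * (u : G ⧸ K)⁻¹ * (g : G ⧸ K) ^ i * (u : G ⧸ K)
        = ((g : G ⧸ K) ^ i)⁻¹ * (u : G ⧸ K)⁻¹ * ((g : G ⧸ K) ^ i * (u : G ⧸ K)) := by group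
      _ = ((g : G ⧸ K) ^ i)⁻¹ * (u : G ⧸ K)⁻¹ * ((u : G ⧸ K) * (g : G ⧸ K) ^ i) := by rw [hc.eq]
      _ = 1 := by group
  have hMH : M ⊓ H ≤ K := by
    rintro u ⟨hu, huH⟩
    rw [hKker, MonoidHom.mem_ker]
    refine Equiv.ext fun j => ?_
    obtain ⟨a, rfl⟩ := QuotientGroup.mk_surjective j
    show u • ((a : G) : G ⧸ H) = a
    obtain ⟨i, hi⟩ := hg a
    rw [MulAction.Quotient.smul_coe, smul_eq_mul, QuotientGroup.eq]
    have h2 := hMpow u hu i
    have e : (u * a)⁻¹ * a = ((g ^ i)⁻¹ * a)⁻¹ * (((g ^ i)⁻¹ * u⁻¹ * g ^ i * u) * u⁻¹) * ((g ^ i)⁻¹ * a) := by group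
    rw [e]
    exact H.mul_mem (H.mul_mem (H.inv_mem hi) (H.mul_mem (hKH h2) (H.inv_mem huH))) hi
  have hrelK : K.relIndex M = p := by
    have e1 : (M ⊓ H) = K := le_antisymm hMH (le_inf hKM hKH)
    rw [← e1, inf_comm, Subgroup.inf_relIndex_right]
    have e2 : MulAction.stabilizer M ((1 : G) : G ⧸ H) = H.subgroupOf M := by
      ext u
      rw [MulAction.mem_stabilizer_iff, Subgroup.mem_subgroupOf]
      show (((u : G) * 1 : G) : G ⧸ H) = ((1 : G) : G ⧸ H) ↔ (u : G) ∈ H
      rw [mul_one, QuotientGroup.eq, mul_one, Subgroup.inv_mem_iff]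
    have e3 : MulAction.orbit M ((1 : G) : G ⧸ H) = Set.univ := by
      refine Set.eq_univ_of_forall fun j => ?_
      obtain ⟨a, rfl⟩ := QuotientGroup.mk_surjective j
      obtain ⟨i, hi⟩ := hg a
      refine ⟨⟨g ^ i, M.pow_mem hgM i⟩, ?_⟩
      show ((g ^ i * 1 : G) : G ⧸ H) = a
      rw [mul_one]
      exact QuotientGroup.eq.2 hi
    rw [Subgroup.relIndex, ← e2, MulAction.index_stabilizer, e3, Set.ncard_univ]
    rfl
  have hMtop : M ≠ ⊤ := by
    intro he
    refine hx ?_
    have e : H = K := le_antisymm (fun u hu => hMH ⟨he ▸ Subgroup.mem_top u, hu⟩) hKH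
    rw [e]
    exact H.normalCore_normal
  have hr : M.index.Prime := (habove g M (centralizer_le_centMod K g) hMtop).2
  set r := M.index with hrdef
  have hKidx : K.index = p * r := by rw [← Subgroup.relIndex_mul_index hKM, hrelK]
  have hpr : p ≠ r := by
    intro he
    have h1 : K.index ∣ p.factorial := by
      rw [hKker, Subgroup.index_ker]
      refine (Subgroup.card_subgroup_dvd_card _).trans ?_
      rw [Nat.card_perm, hcardJ]
    rw [hKidx, ← he, ← Nat.mul_factorial_pred hp.ne_zero] at h1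
    have h2 := (Nat.Prime.dvd_factorial hp).1 (Nat.dvd_of_mul_dvd_mul_left hp.pos h1)
    have := hp.pos
    omega
  have hcardQ : Nat.card (G ⧸ K) = p * r := hKidx
  have hnaQ : ¬ IsMulCommutative (G ⧸ K) := by
    intro hc
    refine hx ⟨fun u hu a => ?_⟩
    have h1 : ((a * u * a⁻¹ * u⁻¹ : G) : G ⧸ K) = 1 := by
      simp only [QuotientGroup.mk_mul, QuotientGroup.mk_inv]
      rw [hc.is_comm.comm (a : G ⧸ K) (u : G ⧸ K)]
      group
    have h2 := H.mul_mem (hKH ((QuotientGroup.eq_one_iff _).1 h1)) hu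
    rwa [inv_mul_cancel_right] at h2
  have hout : ∀ u : G, u ∉ K → ∀ k ∈ K, k * u = u * k := by
    intro u hu k hk
    have hne : centMod K u ≠ ⊤ := by
      intro he
      refine hu ((QuotientGroup.eq_one_iff u).1 (Subgroup.mem_bot.1 ?_))
      rw [← center_eq_bot_of_card_mul hp hr hcardQ hnaQ, Subgroup.mem_center_iff]
      intro a
      obtain ⟨a, rfl⟩ := QuotientGroup.mk_surjective a
      have h1 : a ∈ centMod K u := he ▸ Subgroup.mem_top a
      rw [centMod, Subgroup.mem_comap, Subgroup.mem_centralizer_singleton_iff] at h1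
      exact h1
    have h1 := (habove u _ (centralizer_le_centMod K u) hne).1.ge (le_centMod K u hk)
    exact Subgroup.mem_centralizer_singleton_iff.1 h1
  have hKZ : K = Subgroup.center G := by
    refine le_antisymm (fun k hk => Subgroup.mem_center_iff.2 fun a => ?_) ?_
    · by_cases ha : a ∈ K
      · have hgK : g ∉ K := by
          intro hgK
          refine hx ?_
          have e : H = ⊤ := eq_top_iff.2 fun b _ => by
            obtain ⟨i, hi⟩ := hg b
            have := H.mul_mem (H.pow_mem (hKH hgK) i) hi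
            rwa [mul_inv_cancel_left] at this
          rw [e]; infer_instance
        have h1 := hout (a * g) (fun h' => hgK ((Subgroup.mul_mem_cancel_left K ha).1 h')) k hk
        rw [← mul_assoc, mul_assoc a g k, ← hout g hgK k hk, ← mul_assoc] at h1
        exact (mul_right_cancel h1).symm
      · exact (hout a ha k hk).symm
    · refine Subgroup.normal_le_normalCore.2 fun u hu => ?_
      exact Subgroup.mem_centralizer_singleton_iff.2 (Subgroup.mem_center_iff.1 hu x).symm
  refine ⟨p, r, hp, hr, hpr, ?_, ?_⟩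
  · rw [← hcardQ]; exact Nat.card_congr (QuotientGroup.quotientMulEquivOfEq hKZ.symm).toEquiv
  · intro hc
    refine hnaQ ⟨⟨fun a b => ?_⟩⟩
    apply (QuotientGroup.quotientMulEquivOfEq hKZ).injective
    rw [map_mul, map_mul]
    exact hc.is_comm.comm _ _

end Cfsg.Agent.S4314
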