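import Cfsg.Statements.S4316
import Cfsg.Agent.Lib.RankThreeDerived.Core
import Mathlib.GroupTheory.SemidirectProduct

set_option autoImplicit false
universe u
open Cfsg

namespace Cfsg.Agent.S4316

/-- There is a function `f` of two natural-number arguments with the following property. Let `q` be a prime and `A` an elementary abelian group of order `q³` acting by automorphisms on a finite group `G` of order prime to `q`, and suppose that for every non-identity `a ∈ A` the derived subgroup of the fixed-point subgroup `C_G(a)` has order at most `m`. Then the derived subgroup of `G` has order at most `f(q, m)`. -/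
theorem result :
    ∃ f : ℕ → ℕ → ℕ, ∀ (q m : ℕ) (A G : Type u) [Group A] [Finite A] [Group G] [Finite G] [MulDistribMulAction A G],
      q.Prime → Nat.card A = q ^ 3 → (∀ a b : A, a * b = b * a) → (∀ a : A, a ^ q = 1) → ¬ q ∣ Nat.card G →
      (∀ a : A, a ≠ 1 → Nat.card ↥(commutator ↥(FixedPoints.subgroup (Subgroup.zpowers a) G)) ≤ m) →
      Nat.card ↥(commutator G) ≤ f q m := by
  refine ⟨RankThreeDerived.bound, fun q m A G => ?_⟩
  intro _ _ _ _ _ hq hA hcomm hexp hcop hm
  haveI := Fact.mk hq
  let φ : A →* MulAut G := MulDistribMulAction.toMulAut A G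
  haveI : Finite (G ⋊[φ] A) :=
    Finite.of_injective (fun x => (x.left, x.right)) fun x y h => by
      simp only [Prod.mk.injEq] at h
      exact SemidirectProduct.ext h.1 h.2
  let il : G →* G ⋊[φ] A := SemidirectProduct.inl
  let ir : A →* G ⋊[φ] A := SemidirectProduct.inr
  have hir : Function.Injective ir := SemidirectProduct.inr_injective
  have hil : Function.Injective il := SemidirectProduct.inl_injective
  have hconj : ∀ (a : A) (g : G), ir a * il g * (ir a)⁻¹ = il (a • g) := fun a g => by
    rw [← map_inv, ← SemidirectProduct.inl_aut]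
    rfl
  have hcA : Nat.card ir.range = q ^ 3 := by
    rw [← Nat.card_congr (MonoidHom.ofInjective hir).toEquiv, hA]
  have hEA : IsElementaryAbelian q ir.range := by
    refine ⟨⟨⟨?_⟩⟩, ?_⟩
    · rintro ⟨_, a, rfl⟩ ⟨_, b, rfl⟩
      exact Subtype.ext (show ir a * ir b = ir b * ir a by rw [← map_mul, ← map_mul, hcomm])
    · rintro _ ⟨a, rfl⟩
      rw [← map_pow, hexp, map_one]
  have hN : ir.range ≤ Subgroup.normalizer (il.range : Set (G ⋊[φ] A)) := by
    rintro _ ⟨a, rfl⟩
    rw [Subgroup.mem_normalizer_iff]
    refine fun x => ⟨?_, ?_⟩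
    · rintro ⟨g, rfl⟩
      exact ⟨a • g, (hconj a g).symm⟩
    · rintro ⟨g, hg⟩
      refine ⟨a⁻¹ • g, ?_⟩
      rw [← hconj, map_inv, hg]
      group
  have hcK : Nat.card il.range = Nat.card G :=
    (Nat.card_congr (MonoidHom.ofInjective hil).toEquiv).symm
  have hfix : ∀ a : A, il.range ⊓ Subgroup.centralizer {ir a} =
      (FixedPoints.subgroup (Subgroup.zpowers a) G).map il := by
    intro a
    ext x
    constructor
    · rintro ⟨⟨g, rfl⟩, hx⟩
      refine ⟨g, fun b => ?_, rfl⟩
      have h1 : a • g = g := hil (by
        rw [← hconj, ← Subgroup.mem_centralizer_singleton_iff.1 hx, mul_inv_cancel_right])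
      obtain ⟨k, hk⟩ := Subgroup.mem_zpowers_iff.1 b.2
      show (b : A) • g = g
      rw [← hk]
      exact MulAction.mem_stabilizer_iff.1
        (Subgroup.zpow_mem _ (MulAction.mem_stabilizer_iff.2 h1) k)
    · rintro ⟨g, hg, rfl⟩
      refine ⟨⟨g, rfl⟩, Subgroup.mem_centralizer_singleton_iff.2 ?_⟩
      have h1 : a • g = g := hg ⟨a, Subgroup.mem_zpowers a⟩
      exact (eq_mul_inv_iff_mul_eq.1 ((congrArg il h1.symm).trans (hconj a g).symm))
  have key := RankThreeDerived.main (A := ir.range) (K := il.range) (q := q) (m := m) hEA hcA hN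
    (by
      rw [hcA, hcK]
      exact ((Nat.Prime.coprime_iff_not_dvd hq).2 hcop).pow_left 3)
    (by
      rintro _ ⟨a, rfl⟩ ha1
      have hne : a ≠ 1 := fun h => ha1 (by rw [h, map_one])
      refine le_trans (le_of_eq ?_) (hm a hne)
      rw [RankThreeDerived.der, hfix, ← Subgroup.map_commutator,
        Subgroup.card_map_of_injective hil, ← Subgroup.map_subtype_commutator,
        Subgroup.card_map_of_injective (Subgroup.subtype_injective _)])
  have hcomm' : (commutator G).map il = ⁅il.range, il.range⁆ := by
    rw [commutator_def, Subgroup.map_commutator, ← MonoidHom.range_eq_map]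
  rw [← hcomm', Subgroup.card_map_of_injective hil] at key
  exact key

end Cfsg.Agent.S4316
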