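import Mathlib

set_option autoImplicit false
set_option linter.style.haveILetI false

namespace Cfsg.Agent.S4320

open Classical in
/-- a section of the abelianization fixing one -/
private noncomputable def sec (G : Type*) [Group G] (q : Abelianization G) : G :=
  if q = 1 then 1 else Function.surjInv (f := (Abelianization.of : G →* Abelianization G)) QuotientGroup.mk_surjective q

variable {G : Type*} [Group G]

private theorem sec_one : sec G 1 = 1 := by rw [sec, if_pos rfl]

private theorem of_sec (q : Abelianization G) : Abelianization.of (sec G q) = q := by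
  by_cases h : q = 1
  · subst h; rw [sec_one, map_one]
  · rw [sec, if_neg h]; exact Function.surjInv_eq (f := (Abelianization.of : G →* Abelianization G)) QuotientGroup.mk_surjective q

private theorem mem_comm_iff {x : G} : x ∈ commutator G ↔ Abelianization.of x = 1 := by
  rw [← MonoidHom.mem_ker, Abelianization.ker_of]

/-- a coset of the commutator subgroup as an element of the abelianization -/
private abbrev ab {G : Type*} [Group G] (q : G ⧸ commutator G) : Abelianization G := q

private noncomputable def rel (G : Type*) [Group G] : AddSubgroup (G →₀ ℤ) :=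
  AddSubgroup.closure {v | ∃ a g : G, a ∈ commutator G ∧
    v = Finsupp.single (a * g) 1 - Finsupp.single a 1 - Finsupp.single g 1}

private abbrev M (G : Type*) [Group G] := (G →₀ ℤ) ⧸ rel G

private noncomputable def e (g : G) : M G := QuotientAddGroup.mk (Finsupp.single g 1)

private theorem e_mul {a : G} (ha : a ∈ commutator G) (g : G) : e (a * g) = e a + e g := by
  have h : (QuotientAddGroup.mk (Finsupp.single (a * g) 1 - Finsupp.single a 1 - Finsupp.single g 1) : M G) = 0 :=
    (QuotientAddGroup.eq_zero_iff _).2 (AddSubgroup.subset_closure ⟨a, g, ha, rfl⟩)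
  rw [QuotientAddGroup.mk_sub, QuotientAddGroup.mk_sub, sub_sub, sub_eq_zero] at h
  exact h

private theorem hom_ext {N : Type*} [AddCommGroup N] {f f' : M G →+ N} (h : ∀ g, f (e g) = f' (e g)) :
    f = f' := by
  apply AddMonoidHom.ext
  intro m
  obtain ⟨v, rfl⟩ := QuotientAddGroup.mk_surjective m
  have : f.comp (QuotientAddGroup.mk' (rel G)) = f'.comp (QuotientAddGroup.mk' (rel G)) := by
    apply Finsupp.addHom_ext
    intro g n
    have hn : Finsupp.single g n = n • Finsupp.single g (1 : ℤ) := by simp
    rw [hn, map_zsmul, map_zsmul]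
    exact congrArg _ (h g)
  exact DFunLike.congr_fun this v

private noncomputable def actFree (x : G) : (G →₀ ℤ) →+ M G :=
  Finsupp.liftAddHom fun h => zmultiplesHom (M G) (e (x * h) - e x)

private theorem actFree_single (x h : G) : actFree x (Finsupp.single h 1) = e (x * h) - e x := by
  simp [actFree]

private noncomputable def act (x : G) : M G →+ M G :=
  QuotientAddGroup.lift (rel G) (actFree x) (by
    refine (AddSubgroup.closure_le _).2 ?_
    rintro _ ⟨a, g, ha, rfl⟩
    show actFree x _ = 0
    rw [map_sub, map_sub, actFree_single, actFree_single, actFree_single]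
    have ha' : x * a * x⁻¹ ∈ commutator G := Subgroup.Normal.conj_mem inferInstance a ha x
    rw [show x * (a * g) = x * a * x⁻¹ * (x * g) by group, e_mul ha',
      show x * a = x * a * x⁻¹ * x by group, e_mul ha',
      show x * a * x⁻¹ * x * x⁻¹ = x * a * x⁻¹ by group]
    abel)

private theorem act_e (x h : G) : act x (e h) = e (x * h) - e x := actFree_single x h

private theorem act_congr {x y : G} (h : Abelianization.of x = Abelianization.of y) : act x = act y := by
  have ha : x * y⁻¹ ∈ commutator G := by
    rw [mem_comm_iff, map_mul, map_inv, h, mul_inv_cancel]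
  refine hom_ext fun g => ?_
  rw [act_e, act_e, show x * g = x * y⁻¹ * (y * g) by group, e_mul ha,
    show e x = e (x * y⁻¹ * y) by rw [inv_mul_cancel_right], e_mul ha]
  abel

private noncomputable def rep : Abelianization G →* Module.End ℤ (M G) where
  toFun q := (act (sec G q)).toIntLinearMap
  map_one' := by
    apply LinearMap.toAddMonoidHom_injective
    refine hom_ext fun g => ?_
    show act (sec G 1) (e g) = e g
    rw [act_e, sec_one, one_mul]
    have : e (1 : G) = 0 := by
      have h := e_mul (one_mem (commutator G)) (1 : G)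
      rw [one_mul] at h
      exact left_eq_add.1 h
    rw [this, sub_zero]
  map_mul' p q := by
    apply LinearMap.toAddMonoidHom_injective
    refine hom_ext fun g => ?_
    show act (sec G (p * q)) (e g) = act (sec G p) (act (sec G q) (e g))
    rw [act_congr (y := sec G p * sec G q) (by rw [of_sec, map_mul, of_sec, of_sec]), act_e, act_e,
      map_sub, act_e, act_e, mul_assoc]
    abel

private abbrev R (G : Type*) [Group G] := MonoidAlgebra ℤ (Abelianization G)

private noncomputable def phi : R G →ₐ[ℤ] Module.End ℤ (M G) :=
  MonoidAlgebra.lift ℤ (Module.End ℤ (M G)) (Abelianization G) rep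

private noncomputable def eps : R G →ₐ[ℤ] ℤ := MonoidAlgebra.lift ℤ ℤ (Abelianization G) 1

private noncomputable def projR : M G →+ R G :=
  QuotientAddGroup.lift (rel G)
    (Finsupp.liftAddHom fun g => zmultiplesHom (R G) (MonoidAlgebra.of ℤ _ (Abelianization.of g) - 1)) (by
    refine (AddSubgroup.closure_le _).2 ?_
    rintro _ ⟨a, g, ha, rfl⟩
    show (Finsupp.liftAddHom _) _ = (0 : R G)
    simp only [map_sub, Finsupp.liftAddHom_apply_single, zmultiplesHom_apply, one_smul, map_mul,
      mem_comm_iff.1 ha, one_mul, map_one]
    abel)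

private theorem projR_e (g : G) : projR (e g) = MonoidAlgebra.of ℤ _ (Abelianization.of g) - 1 := by
  show (Finsupp.liftAddHom fun g => zmultiplesHom (R G)
    (MonoidAlgebra.of ℤ _ (Abelianization.of g) - 1)) (Finsupp.single g 1) = _
  simp

private theorem projR_phi (r : R G) (m : M G) : projR (phi r m) = r * projR m := by
  induction r using MonoidAlgebra.induction_on with
  | of q =>
    have h0 : (projR.comp (act (sec G q)) : M G →+ R G) =
        (AddMonoidHom.mulLeft (MonoidAlgebra.of ℤ _ q)).comp projR := by
      refine hom_ext fun g => ?_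
      show projR (act (sec G q) (e g)) = MonoidAlgebra.of ℤ _ q * projR (e g)
      rw [act_e, map_sub, projR_e, projR_e, projR_e, map_mul, of_sec, map_mul, mul_sub, mul_one]
      abel
    have h1 : phi (MonoidAlgebra.of ℤ _ q) = rep q := MonoidAlgebra.lift_of _ q
    rw [h1]
    exact DFunLike.congr_fun h0 m
  | add a b ha hb => rw [map_add, LinearMap.add_apply, map_add, ha, hb, add_mul]
  | smul c a ha => rw [map_smul, LinearMap.smul_apply, map_zsmul, ha, smul_mul_assoc]

/-- the augmentation multiples -/
private noncomputable def aug (G : Type*) [Group G] [Fintype G] : AddSubgroup (M G) where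
  carrier := {m | ∃ c : G → R G, (∀ g, eps (c g) = 0) ∧ m = ∑ g, phi (c g) (e g)}
  zero_mem' := ⟨0, fun g => by simp, by simp⟩
  add_mem' := by
    rintro _ _ ⟨c, hc, rfl⟩ ⟨d, hd, rfl⟩
    exact ⟨c + d, fun g => by simp [hc g, hd g], by simp [Finset.sum_add_distrib]⟩
  neg_mem' := by
    rintro _ ⟨c, hc, rfl⟩
    exact ⟨-c, fun g => by simp [hc g], by simp [Finset.sum_neg_distrib]⟩

private theorem sub_mem_aug [Fintype G] (x h : G) : e (x * h) - e x - e h ∈ aug G := by
  classical
  refine ⟨Pi.single h (MonoidAlgebra.of ℤ _ (Abelianization.of x) - 1), fun g => ?_, ?_⟩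
  · by_cases hg : g = h
    · subst hg
      rw [Pi.single_eq_same, map_sub, map_one, eps, MonoidAlgebra.lift_of]
      simp
    · rw [Pi.single_eq_of_ne hg, map_zero]
  · rw [Finset.sum_eq_single h (fun g _ hg => by rw [Pi.single_eq_of_ne hg, map_zero, LinearMap.zero_apply])
      (fun hh => absurd (Finset.mem_univ h) hh), Pi.single_eq_same, map_sub, map_one, phi,
      MonoidAlgebra.lift_of, LinearMap.sub_apply, Module.End.one_apply]
    show e (x * h) - e x - e h = act (sec G (Abelianization.of x)) (e h) - e h
    rw [act_congr (of_sec (Abelianization.of x)), act_e]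

private theorem norm_annihilates [Fintype G] [Fintype (Abelianization G)] (g : G) :
    phi (∑ q : Abelianization G, MonoidAlgebra.of ℤ _ q) (e g) = 0 := by
  classical
  let Φ : (G → ℤ) →+ Additive (Abelianization G) :=
    { toFun := fun v => ∑ x, v x • Additive.ofMul (Abelianization.of x)
      map_zero' := by simp
      map_add' := fun v w => by simp [add_smul, Finset.sum_add_distrib] }
  have hΦ : Function.Surjective Φ := fun q => by
    obtain ⟨x, hx⟩ := (QuotientGroup.mk_surjective (Additive.toMul q) : ∃ x : G, Abelianization.of x = Additive.toMul q)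
    refine ⟨Pi.single x 1, ?_⟩
    show ∑ y, (Pi.single x 1 : G → ℤ) y • Additive.ofMul (Abelianization.of y) = q
    rw [Finset.sum_eq_single x (fun y _ hy => by rw [Pi.single_eq_of_ne hy, zero_smul])
      (fun hh => absurd (Finset.mem_univ x) hh), Pi.single_eq_same, one_smul]
    exact congrArg Additive.ofMul hx
  let L := Φ.ker
  have hidx : L.index = Nat.card (Abelianization G) := by
    rw [AddSubgroup.index_ker, AddMonoidHom.range_eq_top.2 hΦ, AddSubgroup.card_top]
    rfl
  have hfin : Module.finrank ℤ L.toIntSubmodule = Fintype.card G := by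
    refine le_antisymm ((Submodule.finrank_le _).trans_eq (Module.finrank_fintype_fun_eq_card ℤ)) ?_
    have hk : ∀ v : G → ℤ, (Nat.card (Abelianization G)) • v ∈ L := by
      intro v
      show Φ _ = 0
      rw [map_nsmul]
      exact (card_nsmul_eq_zero' (G := Additive (Abelianization G)) (x := Φ v))
    let j : (G → ℤ) →ₗ[ℤ] L.toIntSubmodule :=
      LinearMap.codRestrict L.toIntSubmodule
        ((Nat.card (Abelianization G) : ℤ) • (LinearMap.id : (G → ℤ) →ₗ[ℤ] (G → ℤ))) (fun v => by
          show ((Nat.card (Abelianization G) : ℤ) • v) ∈ L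
          rw [natCast_zsmul]; exact hk v)
    have hj : Function.Injective j := fun v w h => by
      funext x
      have := congrFun (congrArg Subtype.val h) x
      simpa [j] using this
    refine (Module.finrank_fintype_fun_eq_card ℤ).ge.trans ?_
    exact LinearMap.finrank_le_finrank_of_injective hj
  let b : Module.Basis G ℤ L.toIntSubmodule :=
    (Module.finBasisOfFinrankEq ℤ L.toIntSubmodule hfin).reindex (Fintype.equivFin G).symm
  have hdetV : ((Matrix.of fun i x => ((b i : G → ℤ)) x).det).natAbs = Nat.card (Abelianization G) := by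
    rw [← hidx, AddSubgroup.index_eq_natAbs_det (Pi.basisFun ℤ G) L b, Module.Basis.det_apply,
      ← Matrix.det_transpose]
    rfl
  -- express every relation by a row with the same augmentation
  have hrow : ∀ i, ∃ μ : G → R G, (∀ x, eps (μ x) = ((b i : G → ℤ)) x) ∧ ∑ x, phi (μ x) (e x) = 0 := by
    intro i
    let ψ : G →* Multiplicative (M G ⧸ aug G) :=
      { toFun := fun x => Multiplicative.ofAdd (QuotientAddGroup.mk (e x))
        map_one' := by
          have h := e_mul (one_mem (commutator G)) (1 : G)
          rw [one_mul, left_eq_add] at h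
          rw [h]; rfl
        map_mul' := fun x h => by
          show Multiplicative.ofAdd _ = Multiplicative.ofAdd
            ((QuotientAddGroup.mk (e x) : M G ⧸ aug G) + QuotientAddGroup.mk (e h))
          refine congrArg Multiplicative.ofAdd ?_
          rw [← QuotientAddGroup.mk_add, QuotientAddGroup.eq_iff_sub_mem]
          rw [← sub_sub]
          exact sub_mem_aug x h }
    have h1 : ∑ x, ((b i : G → ℤ)) x • (QuotientAddGroup.mk (e x) : M G ⧸ aug G) = 0 := by
      have h2 := congrArg (MonoidHom.toAdditiveLeft (Abelianization.lift (A := Multiplicative (M G ⧸ aug G)) ψ)) (b i).2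
      rw [map_zero] at h2
      refine Eq.trans ?_ h2
      show _ = MonoidHom.toAdditiveLeft (Abelianization.lift (A := Multiplicative (M G ⧸ aug G)) ψ)
        (∑ x, ((b i : G → ℤ)) x • Additive.ofMul (Abelianization.of x))
      rw [map_sum]
      refine Finset.sum_congr rfl fun x _ => ?_
      rw [map_zsmul]
      congr 1
    have h3 : ∑ x, ((b i : G → ℤ)) x • e x ∈ aug G := by
      rw [← QuotientAddGroup.eq_zero_iff]
      simp only [QuotientAddGroup.mk_sum, QuotientAddGroup.mk_zsmul]
      exact h1
    obtain ⟨c, hc, hceq⟩ := h3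
    refine ⟨fun x => algebraMap ℤ (R G) (((b i : G → ℤ)) x) - c x,
      fun x => by rw [map_sub, hc, sub_zero, AlgHom.commutes]; rfl, ?_⟩
    simp only [map_sub, AlgHom.commutes, LinearMap.sub_apply, Finset.sum_sub_distrib]
    rw [← hceq, sub_eq_zero]
    exact Finset.sum_congr rfl fun x _ => by rw [Module.algebraMap_end_apply]
  choose μ hμ hμ0 using hrow
  let A : Matrix G G (R G) := Matrix.of μ
  have hdet0 : ∀ h, phi A.det (e h) = 0 := by
    intro h
    have h1 : ∑ x, phi ((A.adjugate * A) h x) (e x) = 0 := by
      simp only [Matrix.mul_apply, map_sum, LinearMap.sum_apply, map_mul, Module.End.mul_apply]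
      rw [Finset.sum_comm]
      refine Finset.sum_eq_zero fun i _ => ?_
      rw [← map_sum]
      show phi _ (∑ x, phi (μ i x) (e x)) = 0
      rw [hμ0, map_zero]
    rw [Matrix.adjugate_mul] at h1
    rw [Finset.sum_eq_single h (fun x _ hx => by
      rw [Matrix.smul_apply, Matrix.one_apply_ne (Ne.symm hx), smul_zero, map_zero, LinearMap.zero_apply])
      (fun hh => absurd (Finset.mem_univ h) hh), Matrix.smul_apply, Matrix.one_apply_eq] at h1
    simpa using h1
  have heps : (eps A.det).natAbs = Nat.card (Abelianization G) := by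
    rw [← hdetV, AlgHom.map_det]
    congr 2
    ext i x
    exact hμ i x
  -- the determinant is the norm up to sign
  have hconst : ∀ q, A.det.coeff q = A.det.coeff 1 := by
    intro q
    have h1 := congrArg projR (hdet0 (sec G q))
    rw [map_zero, projR_phi, projR_e, of_sec, mul_sub, mul_one, sub_eq_zero] at h1
    have h2 := congrArg (fun r : R G => r.coeff q) h1
    simp only [MonoidAlgebra.of_apply] at h2
    rw [MonoidAlgebra.coeff_mul_single_eq_coeff_mul (1 : Abelianization G) (fun z _ => mul_eq_right)] at h2
    simpa using h2.symm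
  have hD : A.det = (A.det.coeff 1) • ∑ q : Abelianization G, MonoidAlgebra.of ℤ _ q := by
    refine MonoidAlgebra.ext (Finsupp.ext fun q => ?_)
    rw [hconst q]
    simp [-zsmul_eq_mul, MonoidAlgebra.of_apply, Finsupp.single_apply]
  have hc : (A.det.coeff 1).natAbs = 1 := by
    have hsum : eps (∑ q : Abelianization G, MonoidAlgebra.of ℤ _ q) = Nat.card (Abelianization G) := by
      simp [eps, Nat.card_eq_fintype_card]
    rw [hD, map_smul, hsum, smul_eq_mul, Int.natAbs_mul, Int.natAbs_natCast] at heps
    exact Nat.eq_of_mul_eq_mul_right Nat.card_pos (heps.trans (one_mul _).symm)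
  have h := hdet0 g
  rw [hD, map_smul, LinearMap.smul_apply] at h
  rcases Int.natAbs_eq_iff.1 hc with h1 | h1
  · rwa [h1, Nat.cast_one, one_smul] at h
  · rwa [h1, Nat.cast_one, neg_one_smul, neg_eq_zero] at h

private theorem sec_quot (g : G) : g * (sec G (Abelianization.of g))⁻¹ ∈ commutator G := by
  rw [mem_comm_iff, map_mul, map_inv, of_sec, mul_inv_cancel]

private noncomputable def projA : M G →+ Additive (Abelianization (commutator G)) :=
  QuotientAddGroup.lift (rel G)
    (Finsupp.liftAddHom fun g => zmultiplesHom _
      (Additive.ofMul (Abelianization.of (⟨_, sec_quot g⟩ : commutator G)))) (by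
    refine (AddSubgroup.closure_le _).2 ?_
    rintro _ ⟨a, g, ha, rfl⟩
    show (Finsupp.liftAddHom _) _ = (0 : Additive (Abelianization (commutator G)))
    simp only [map_sub, Finsupp.liftAddHom_apply_single, zmultiplesHom_apply, one_smul]
    have h : (⟨_, sec_quot (a * g)⟩ : commutator G) = ⟨_, sec_quot a⟩ * ⟨_, sec_quot g⟩ := by
      refine Subtype.ext ?_
      show a * g * _ = a * _ * (g * _)
      rw [map_mul, mem_comm_iff.1 ha, one_mul, sec_one]
      group
    rw [h, map_mul, ofMul_mul]
    abel)

private theorem projA_e (a : commutator G) : projA (e (a : G)) = Additive.ofMul (Abelianization.of a) := by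
  show (Finsupp.liftAddHom fun g => zmultiplesHom _
      (Additive.ofMul (Abelianization.of (⟨_, sec_quot g⟩ : commutator G)))) (Finsupp.single (a : G) 1) = _
  rw [Finsupp.liftAddHom_apply_single, zmultiplesHom_apply, one_smul]
  congr 2
  refine Subtype.ext ?_
  show (a : G) * _ = a
  rw [mem_comm_iff.1 a.2, sec_one, inv_one, mul_one]

theorem result {G : Type*} [Group G] [Finite G] :
    MonoidHom.transfer (Abelianization.of : ↥(commutator G) →* Abelianization ↥(commutator G)) =
      (1 : G →* Abelianization ↥(commutator G)) := by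
  classical
  haveI : Fintype G := Fintype.ofFinite G
  letI : Fintype (Abelianization G) := Subgroup.fintypeQuotientOfFiniteIndex (H := commutator G)
  refine MonoidHom.ext fun g => ?_
  let s : G ⧸ commutator G → G := fun q => (sec G (ab q)⁻¹)⁻¹
  have hs : ∀ q, (s q : G ⧸ commutator G) = q := fun q => by
    have h : Abelianization.of ((sec G (ab q)⁻¹)⁻¹) = (ab q) := by
      rw [map_inv, of_sec]
      exact inv_inv (ab q)
    exact h
  let T : (commutator G).LeftTransversal := ⟨Set.range s, Subgroup.isComplement_range_left hs⟩
  rw [MonoidHom.transfer_def _ T, Subgroup.leftTransversals.diff]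
  have ha : ∀ r : Abelianization G, sec G r * g * (sec G (r * Abelianization.of g))⁻¹ ∈ commutator G := by
    intro r
    rw [mem_comm_iff, map_mul, map_mul, map_inv, of_sec, of_sec, mul_inv_cancel]
  have key : ∏ r : Abelianization G, Abelianization.of (⟨_, ha r⟩ : commutator G) = 1 := by
    have h0 := norm_annihilates g
    have hre : ∀ r : Abelianization G, phi (MonoidAlgebra.of ℤ _ r) (e g) =
        e ((⟨_, ha r⟩ : commutator G) : G) + (e (sec G (r * Abelianization.of g)) - e (sec G r)) := by
      intro r
      rw [phi, MonoidAlgebra.lift_of]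
      show act (sec G r) (e g) = _
      rw [act_e]
      have : e (sec G r * g) = e ((⟨_, ha r⟩ : commutator G) : G) + e (sec G (r * Abelianization.of g)) := by
        rw [← e_mul (ha r), inv_mul_cancel_right]
      rw [this]
      abel
    rw [map_sum, LinearMap.sum_apply, Finset.sum_congr rfl fun r _ => hre r, Finset.sum_add_distrib,
      Finset.sum_sub_distrib,
      show ∑ r, e (sec G (r * Abelianization.of g)) = ∑ r, e (sec G r) from
        Equiv.sum_comp (Equiv.mulRight (Abelianization.of g)) (fun r => e (sec G r)),
      sub_self, add_zero] at h0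
    have h1 := congrArg projA h0
    rw [map_zero, map_sum, Finset.sum_congr rfl fun r _ => projA_e _, ← ofMul_prod] at h1
    exact Additive.ofMul.injective h1
  rw [MonoidHom.one_apply, ← key]
  refine Fintype.prod_equiv ((Equiv.inv (Abelianization G)) : G ⧸ commutator G ≃ Abelianization G) _ _
    fun (q : G ⧸ commutator G) => ?_
  congr 1
  refine Subtype.ext ?_
  show (T.2.leftQuotientEquiv q : G)⁻¹ * ((g • T).2.leftQuotientEquiv q : G) = _
  have hsl : ∀ z : G ⧸ commutator G, (T.2.leftQuotientEquiv z : G) = s z :=
    Subgroup.IsComplement.leftQuotientEquiv_apply hs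
  erw [Subgroup.smul_apply_eq_smul_apply_inv_smul, hsl, hsl]
  show ((sec G (ab q)⁻¹)⁻¹)⁻¹ *
      (g * (sec G (ab (g⁻¹ • q))⁻¹)⁻¹) =
    sec G (ab q)⁻¹ * g *
      (sec G ((ab q)⁻¹ * Abelianization.of g))⁻¹
  have h : (ab (g⁻¹ • q))⁻¹ =
      (ab q)⁻¹ * Abelianization.of g := by
    obtain ⟨x, rfl⟩ := QuotientGroup.mk_surjective q
    show (Abelianization.of (g⁻¹ * x))⁻¹ = (Abelianization.of x)⁻¹ * Abelianization.of g
    rw [map_mul, map_inv, mul_inv_rev, inv_inv]
  rw [h, inv_inv, mul_assoc]

end Cfsg.Agent.S4320
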