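import Cfsg.Statements.S4321
import Cfsg.Agent.Lib.FGStruct.SingularClasses

set_option autoImplicit false
open Cfsg

namespace Cfsg.Agent.S4321

/-- Let `G` be a finite group and `p` a prime not dividing the order of the centre of `G`. Consider the primes dividing the size of some conjugacy class of a `p`-singular element (an element of order divisible by `p`), two of them adjacent when their product divides such a class size. Then any two distinct such primes are joined by a path with at most 3 edges (the graph is connected of diameter at most 3). -/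
theorem result {G : Type*} [Group G] [Finite G] (p : ℕ) [Fact p.Prime]
    (hZ : ¬ p ∣ Nat.card ↥(Subgroup.center G)) (r s : ℕ) (hr : (r.Prime ∧ ∃ x : G, p ∣ orderOf x ∧ r ∣ (Subgroup.centralizer ({x} : Set G)).index)) (hs : (s.Prime ∧ ∃ x : G, p ∣ orderOf x ∧ s ∣ (Subgroup.centralizer ({x} : Set G)).index)) (hrs : r ≠ s) :
    (∃ x : G, p ∣ orderOf x ∧ r * s ∣ (Subgroup.centralizer ({x} : Set G)).index) ∨ (∃ t : ℕ, (t.Prime ∧ ∃ x : G, p ∣ orderOf x ∧ t ∣ (Subgroup.centralizer ({x} : Set G)).index) ∧ t ≠ r ∧ t ≠ s ∧ (∃ x : G, p ∣ orderOf x ∧ r * t ∣ (Subgroup.centralizer ({x} : Set G)).index) ∧ (∃ x : G, p ∣ orderOf x ∧ t * s ∣ (Subgroup.centralizer ({x} : Set G)).index)) ∨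
      (∃ t u : ℕ, (t.Prime ∧ ∃ x : G, p ∣ orderOf x ∧ t ∣ (Subgroup.centralizer ({x} : Set G)).index) ∧ (u.Prime ∧ ∃ x : G, p ∣ orderOf x ∧ u ∣ (Subgroup.centralizer ({x} : Set G)).index) ∧ t ≠ r ∧ u ≠ s ∧ t ≠ u ∧ (∃ x : G, p ∣ orderOf x ∧ r * t ∣ (Subgroup.centralizer ({x} : Set G)).index) ∧ (∃ x : G, p ∣ orderOf x ∧ t * u ∣ (Subgroup.centralizer ({x} : Set G)).index) ∧ (∃ x : G, p ∣ orderOf x ∧ u * s ∣ (Subgroup.centralizer ({x} : Set G)).index)) := by
  obtain ⟨u, v, hu, hv, h1, h2, h3⟩ := SingularClasses.exists_walk hZ (r := r) (s := s) hr hs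
  have sym : ∀ a b : ℕ, SingularClasses.Adj p G a b → SingularClasses.Adj p G b a :=
    fun a b ⟨x, hx, hd⟩ => ⟨x, hx, by rwa [mul_comm]⟩
  -- walks of length at most two
  have two : ∀ w, SingularClasses.Vert p G w → (r = w ∨ SingularClasses.Adj p G r w) →
      (w = s ∨ SingularClasses.Adj p G w s) →
      SingularClasses.Adj p G r s ∨ ∃ t, SingularClasses.Vert p G t ∧ t ≠ r ∧ t ≠ s ∧
        SingularClasses.Adj p G r t ∧ SingularClasses.Adj p G t s := by
    intro w hw a b
    by_cases e1 : w = r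
    · rcases b with b | b
      · exact absurd (e1 ▸ b) hrs
      · exact Or.inl (e1 ▸ b)
    by_cases e2 : w = s
    · exact Or.inl ((e2 ▸ a).resolve_left hrs)
    exact Or.inr ⟨w, hw, e1, e2, a.resolve_left (Ne.symm e1), b.resolve_left e2⟩
  by_cases hru : r = u
  · subst hru
    exact (two v hv h2 h3).imp id Or.inl
  by_cases hvs : v = s
  · subst hvs
    exact (two u hu h1 h2).imp id Or.inl
  by_cases huv : u = v
  · subst huv
    exact (two u hu h1 h3).imp id Or.inl
  have a1 := h1.resolve_left hru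
  have a2 := h2.resolve_left huv
  have a3 := h3.resolve_left hvs
  by_cases hrv : r = v
  · subst hrv; exact Or.inl a3
  by_cases hsu : u = s
  · subst hsu; exact Or.inl a1
  exact Or.inr (Or.inr ⟨u, v, hu, hv, Ne.symm hru, hvs, huv, a1, a2, a3⟩)

end Cfsg.Agent.S4321
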