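import Cfsg.Statements.S4323
import Cfsg.Agent.Lib.AbelianFixed.Main
import Mathlib.GroupTheory.SemidirectProduct
-- import your own Cfsg.Agent.* helpers here

set_option autoImplicit false
open Cfsg

namespace Cfsg.Agent.S4323

/-- Let `q` be a prime and `A` a non-cyclic group of order `q²` acting by automorphisms on a finite group `G` of order prime to `q`, such that the fixed-point subgroup `C_G(a)` is abelian for every non-identity `a ∈ A`. Then `G` is solvable. -/
theorem result {A G : Type*} [Group A] [Finite A]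
    [Group G] [Finite G] [MulDistribMulAction A G] (q : ℕ) (hq : q.Prime) (hA : Nat.card A = q ^ 2) (hnc : ¬ IsCyclic A)
    (hcop : ¬ q ∣ Nat.card G) (h : ∀ a : A, a ≠ 1 → IsMulCommutative ↥(FixedPoints.subgroup (Subgroup.zpowers a) G)) :
    Group.IsSolvable G := by
  let φ : A →* MulAut G := MulDistribMulAction.toMulAut A G
  haveI : Finite (G ⋊[φ] A) :=
    Finite.of_injective (fun x => (x.left, x.right)) fun x y h => by
      simp only [Prod.mk.injEq] at h
      exact SemidirectProduct.ext h.1 h.2
  let il : G →* G ⋊[φ] A := SemidirectProduct.inl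
  let ir : A →* G ⋊[φ] A := SemidirectProduct.inr
  have hir : Function.Injective ir := SemidirectProduct.inr_injective
  have hil : Function.Injective il := SemidirectProduct.inl_injective
  have hconj : ∀ (a : A) (g : G), ir a * il g * (ir a)⁻¹ = il (a • g) := fun a g => by
    rw [← map_inv, ← SemidirectProduct.inl_aut]
    rfl
  haveI := Fact.mk hq
  have hcomm : ∀ a b : A, a * b = b * a :=
    fun a b => IsPGroup.commutative_of_card_eq_prime_sq hA a b
  have hexp : ∀ a : A, a ^ q = 1 := by
    intro a
    have hd : orderOf a ∣ q ^ 2 := hA ▸ orderOf_dvd_natCard a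
    obtain ⟨i, hi, hie⟩ := (Nat.dvd_prime_pow hq).1 hd
    refine orderOf_dvd_iff_pow_eq_one.1 ?_
    have hi1 : i ≤ 1 := by
      by_contra hcon
      have h2 : i = 2 := by omega
      exact hnc (isCyclic_of_orderOf_eq_card a (by rw [hie, h2, hA]))
    rw [hie]
    exact (pow_dvd_pow q hi1).trans (pow_one q).dvd
  have hset : AbelianFixed.Setup q ir.range il.range := by
    refine ⟨hq, ?_, ?_, ?_, ?_, ?_, ?_⟩
    · rw [← Nat.card_congr (MonoidHom.ofInjective hir).toEquiv, hA]
    · rintro _ ⟨a, rfl⟩ _ ⟨b, rfl⟩
      rw [← map_mul, ← map_mul, hcomm]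
    · rintro _ ⟨a, rfl⟩
      rw [← map_pow, hexp, map_one]
    · rintro _ ⟨a, rfl⟩
      rw [Subgroup.mem_normalizer_iff]
      refine fun x => ⟨?_, ?_⟩
      · rintro ⟨g, rfl⟩
        exact ⟨a • g, (hconj a g).symm⟩
      · rintro ⟨g, hg⟩
        refine ⟨a⁻¹ • g, ?_⟩
        rw [← hconj, map_inv, hg]
        group
    · rwa [← Nat.card_congr (MonoidHom.ofInjective hil).toEquiv]
    · rintro _ ⟨a, rfl⟩ ha1 _ ⟨x, rfl⟩ _ ⟨y, rfl⟩ hx hy
      have hne : a ≠ 1 := fun e => ha1 (by rw [e, map_one])
      have hfix : ∀ g : G, ir a * il g = il g * ir a →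
          g ∈ FixedPoints.subgroup (Subgroup.zpowers a) G := by
        intro g hg b
        have h1 : a • g = g := hil (by rw [← hconj, hg, mul_inv_cancel_right])
        obtain ⟨k, hk⟩ := Subgroup.mem_zpowers_iff.1 b.2
        show (b : A) • g = g
        rw [← hk]
        exact MulAction.mem_stabilizer_iff.1
          (Subgroup.zpow_mem _ (MulAction.mem_stabilizer_iff.2 h1) k)
      rw [← map_mul, ← map_mul]
      exact congrArg il (congrArg Subtype.val
        ((h a hne).is_comm.comm ⟨x, hfix x hx⟩ ⟨y, hfix y hy⟩))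
  have := AbelianFixed.solvable hset
  exact solvable_of_solvable_injective (f := il.rangeRestrict) fun x y e =>
    hil (congrArg Subtype.val e)

end Cfsg.Agent.S4323
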