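import Cfsg.Statements.S4325
import Cfsg.Agent.Lib.FiniteGroup.PermSmall
import Mathlib.Data.Nat.Prime.Factorial

set_option autoImplicit false
open Cfsg

namespace Cfsg.Agent.S4325

/-- Let r be a prime and m a natural number with m + 1 < r, and let π be a set of primes containing every prime below r but not r itself. Then in the symmetric group of degree r any m transpositions generate a π-subgroup, while O_π of the symmetric group is trivial. (So no bound on the number of conjugates that works for all π exists in the π-radical analogue of the Baer–Suzuki Theorem.) -/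
theorem result (r m : ℕ) (hr : r.Prime)
    (hm : m + 1 < r) (π : Set ℕ) (hπ : ∀ q : ℕ, q.Prime → q < r → q ∈ π) (hrπ : r ∉ π)
    (t : Fin m → Equiv.Perm (Fin r)) (ht : ∀ i, (t i).IsSwap) :
    Cfsg.IsPiSubgroup π (Subgroup.closure (Set.range t)) ∧ Cfsg.piCore π (Equiv.Perm (Fin r)) = ⊥ := by
  classical
  constructor
  · intro q hq hd
    obtain ⟨f, φ, hφ, hcard⟩ := PermSmall.exists_fibre_embedding (List.ofFn t) (by
      intro σ hσ
      obtain ⟨i, rfl⟩ := List.mem_ofFn.1 hσ
      exact ht i)
    have he : Set.range t = {σ | σ ∈ List.ofFn t} := by ext; simp [List.mem_ofFn]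
    rw [he] at hd
    have h2 := hd.trans (Subgroup.card_dvd_of_injective φ hφ)
    rw [Nat.card_pi] at h2
    obtain ⟨b, -, hb⟩ := (Prime.dvd_finset_prod_iff hq.prime _).1 h2
    rw [Nat.card_perm, hq.dvd_factorial] at hb
    have h3 := hcard b
    rw [List.length_ofFn] at h3
    exact hπ q hq (by omega)
  · rw [eq_bot_iff]
    refine sSup_le fun N hN => ?_
    haveI := hN.1
    by_contra hne
    obtain ⟨σ, hσ, hσ1⟩ : ∃ σ ∈ N, σ ≠ 1 := by
      by_contra hcon
      push Not at hcon
      exact hne fun σ hσ => Subgroup.mem_bot.2 (hcon σ hσ)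
    obtain ⟨a, hab⟩ : ∃ a, σ a ≠ a := by
      by_contra hcon
      push Not at hcon
      exact hσ1 (Equiv.ext hcon)
    have horb : ∀ c, ∃ τ : N, (τ : Equiv.Perm (Fin r)) a = c := by
      intro c
      by_cases hc : c = a
      · exact ⟨1, hc.symm⟩
      refine ⟨⟨_, hN.1.conj_mem σ hσ (Equiv.swap (σ a) c)⟩, ?_⟩
      simp [Equiv.Perm.mul_apply, Equiv.swap_inv, Equiv.swap_apply_of_ne_of_ne (Ne.symm hab) (Ne.symm hc)]
    have horbit : MulAction.orbit N a = Set.univ := Set.eq_univ_of_forall fun c => by
      obtain ⟨τ, hτ⟩ := horb c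
      exact ⟨τ, hτ⟩
    have hcard : r ∣ Nat.card N := by
      refine ⟨Nat.card (MulAction.stabilizer N a), ?_⟩
      rw [Nat.card_congr (MulAction.orbitProdStabilizerEquivGroup N a).symm, Nat.card_prod, horbit]
      simp
    exact hrπ (hN.2 r hr hcard)

end Cfsg.Agent.S4325
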