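import Cfsg.Statements.S4326


set_option autoImplicit false
open Pointwise
open Cfsg
open scoped Pointwise

namespace Cfsg.Agent.S4326

/-- Let G be a finite group, p a prime, x an automorphism of G of p-power order and M the subgroup of fixed points of x. Suppose that p divides the index of M and that either M is self-normalizing or M has trivial center. Then some conjugate of M is mapped onto itself by x but is not fixed elementwise by x. -/
theorem result {G : Type*} [Group G] [Finite G]
    (p : ℕ) [Fact p.Prime] (x : MulAut G) (hx : ∃ k : ℕ, orderOf x = p ^ k) (M : Subgroup G)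
    (hM : ∀ g : G, g ∈ M ↔ x g = g) (hp : p ∣ M.index)
    (hself : Subgroup.normalizer (M : Set G) = M ∨ Subgroup.center M = ⊥) :
    ∃ g : G, (∀ y ∈ MulAut.conj g • M, x y ∈ MulAut.conj g • M) ∧ ∃ y ∈ MulAut.conj g • M, x y ≠ y := by
  classical
  obtain ⟨k, hk⟩ := hx
  -- the automorphisms fixing `M` pointwise act on the cosets of `M`
  let A : Subgroup (MulAut G) :=
    { carrier := {f | ∀ y ∈ M, f y = y}
      one_mem' := fun y _ => rfl
      mul_mem' := fun {f g} hf hg y hy => by rw [MulAut.mul_apply, hg y hy, hf y hy]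
      inv_mem' := fun {f} hf y hy => by
        nth_rewrite 1 [← hf y hy]
        exact MulAut.inv_apply_self _ f y }
  letI act : MulAction A (G ⧸ M) :=
    { smul := fun f => Quotient.map' (fun g => (f : MulAut G) g) (fun a b hab => by
        rw [QuotientGroup.leftRel_apply] at hab ⊢
        have : ((f : MulAut G) a)⁻¹ * (f : MulAut G) b = (f : MulAut G) (a⁻¹ * b) := by simp
        rw [this, f.2 _ hab]
        exact hab)
      one_smul := fun q => by induction q using QuotientGroup.induction_on with | _ g => rfl
      mul_smul := fun f f' q => by induction q using QuotientGroup.induction_on with | _ g => rfl }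
  have hxA : x ∈ A := fun y hy => (hM y).1 hy
  have hX : IsPGroup p (Subgroup.zpowers (⟨x, hxA⟩ : A)) :=
    IsPGroup.of_card (n := k) (by rw [Nat.card_zpowers, Subgroup.orderOf_mk, hk])
  have hone : ((1 : G) : G ⧸ M) ∈ MulAction.fixedPoints (Subgroup.zpowers (⟨x, hxA⟩ : A)) (G ⧸ M) := by
    intro f
    show (((f : A) : MulAut G) 1 : G ⧸ M) = _
    rw [map_one]
  obtain ⟨q, hq, hne⟩ := hX.exists_fixed_point_of_prime_dvd_card_of_fixed_point (G ⧸ M)
    (by rw [← Subgroup.index_eq_card]; exact hp) hone
  obtain ⟨g, rfl⟩ := QuotientGroup.mk_surjective q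
  have hgM : g ∉ M := fun h => hne ((QuotientGroup.eq.2 (by simpa using h)))
  have hfix : ((x g : G) : G ⧸ M) = (g : G ⧸ M) := hq ⟨_, Subgroup.mem_zpowers _⟩
  have hm : g⁻¹ * x g ∈ M := QuotientGroup.eq.1 hfix.symm
  set m := g⁻¹ * x g with hmdef
  have hxg : x g = g * m := by rw [hmdef]; group
  have hxy : ∀ y ∈ M, x (g * y * g⁻¹) = g * (m * y * m⁻¹) * g⁻¹ := by
    intro y hy
    rw [map_mul, map_mul, map_inv, (hM y).1 hy, hxg]
    group
  refine ⟨g, ?_, ?_⟩
  · rintro _ ⟨y, hy, rfl⟩
    refine ⟨m * y * m⁻¹, mul_mem (mul_mem hm hy) (inv_mem hm), ?_⟩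
    simp only [MulDistribMulAction.toMonoidEnd_apply, MulDistribMulAction.toMonoidHom_apply, MulAut.smul_def, MulAut.conj_apply]
    rw [hxy y hy]
  · by_contra hcon
    push Not at hcon
    have hcent : ∀ y ∈ M, g * y * g⁻¹ ∈ M := fun y hy => (hM _).2 (hcon _ ⟨y, hy, by simp⟩)
    apply hgM
    rcases hself with h | h
    · rw [← h, Subgroup.mem_normalizer_iff]
      intro y
      refine ⟨hcent y, fun hy => ?_⟩
      have heq : M.map (MulAut.conj g).toMonoidHom = M := by
        refine Subgroup.eq_of_le_of_card_ge ?_ ?_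
        · rintro _ ⟨z, hz, rfl⟩; simpa using hcent z hz
        · exact (Subgroup.card_map_of_injective (MulAut.conj g).injective).ge
      rw [← heq] at hy
      obtain ⟨z, hz, hz'⟩ := hy
      have : z = y := (MulAut.conj g).injective hz'
      exact this ▸ hz
    · have hmz : (⟨m, hm⟩ : M) ∈ Subgroup.center M := Subgroup.mem_center_iff.2 fun y => by
        apply Subtype.ext
        have h1 := hxy y y.2
        rw [(hM _).1 (hcent y y.2)] at h1
        have h2 : (y : G) = m * y * m⁻¹ := mul_left_cancel (mul_right_cancel h1)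
        show (y : G) * m = m * y
        nth_rewrite 1 [h2]
        group
      rw [h, Subgroup.mem_bot] at hmz
      have : m = 1 := congrArg Subtype.val hmz
      rw [this, mul_one] at hxg
      exact (hM g).2 hxg

end Cfsg.Agent.S4326
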