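import Cfsg.Statements.S4331
import Cfsg.Agent.Lib.LocalEven.Wielandt
import Cfsg.Agent.Lib.Transfer.Basic
import Mathlib.GroupTheory.SemidirectProduct
import Mathlib.LinearAlgebra.Matrix.GeneralLinearGroup.Defs
import Mathlib.LinearAlgebra.Matrix.Notation

set_option autoImplicit false
open Cfsg

namespace Cfsg.Agent.S4331

section
open scoped Pointwise

variable {V H : Type} [CommGroup V] [Group H] [Finite V] [Finite H]

/-- The construction: an abelian 3-group extended by a 2-group transitive on its non-identity elements. -/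
theorem general [Fact (Nat.Prime 3)] (φ : H →* MulAut V) (hH : IsPGroup 2 H) (hV : ∀ v : V, v ^ 3 = 1)
    (a : H) (ha2 : a * a = 1) (v0 : V) (hv0 : v0 ≠ 1) (hfix : φ a v0 = v0)
    (hstab : ∀ h : H, φ h v0 = v0 → h = 1 ∨ h = a) (htrans : ∀ v : V, v ≠ 1 → ∃ h : H, φ h v0 = v)
    (hmove : ∃ v : V, φ a v ≠ v) :
    ∃ (G : Type) (_ : Group G) (_ : Finite G) (A : Subgroup G), Group.IsSolvable G ∧ Nat.card A = 2 ∧
      (∀ c : G, ∃ g : G, IsConj c g ∧ (A.subgroupOf (A ⊔ Subgroup.zpowers g)).IsSubnormal) ∧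
      ¬ A ≤ Cfsg.pCore 2 G := by
  classical
  haveI : Fact (Nat.Prime 2) := ⟨Nat.prime_two⟩
  haveI : Finite (V ⋊[φ] H) := Finite.of_equiv _ SemidirectProduct.equivProd.symm
  set x : V ⋊[φ] H := SemidirectProduct.inr a with hx
  have ha1 : a ≠ 1 := fun e => by
    obtain ⟨v, hv⟩ := hmove
    exact hv (by rw [e, map_one]; rfl)
  refine ⟨V ⋊[φ] H, inferInstance, inferInstance, Subgroup.zpowers x, ?_, ?_, ?_, ?_⟩
  · haveI : Group.IsSolvable V := Group.isSolvable_of_comm fun u v => mul_comm u v
    haveI := hH.isNilpotent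
    exact Group.isSolvable_of_ker_le_range (SemidirectProduct.inl : V →* V ⋊[φ] H) SemidirectProduct.rightHom
      (le_of_eq SemidirectProduct.range_inl_eq_ker_rightHom.symm)
  · rw [Nat.card_zpowers, hx, orderOf_injective _ SemidirectProduct.inr_injective]
    exact orderOf_eq_prime (by rw [pow_two, ha2]) ha1
  · intro c
    set R := (SemidirectProduct.inr : H →* V ⋊[φ] H).range with hR
    have hRp : IsPGroup 2 R := hH.of_surjective SemidirectProduct.inr.rangeRestrict
      SemidirectProduct.inr.rangeRestrict_surjective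
    have hinR : ∀ g ∈ R, ((Subgroup.zpowers x).subgroupOf (Subgroup.zpowers x ⊔ Subgroup.zpowers g)).IsSubnormal := by
      intro g hg
      haveI : Group.IsNilpotent ↥(Subgroup.zpowers x ⊔ Subgroup.zpowers g) :=
        (hRp.to_le (sup_le (Subgroup.zpowers_le.2 ⟨a, rfl⟩) (Subgroup.zpowers_le.2 hg))).isNilpotent
      exact Cfsg.Agent.LEWielandt.isSubnormal_of_isNilpotent _
    have hcomm : ∀ g, Commute x g →
        ((Subgroup.zpowers x).subgroupOf (Subgroup.zpowers x ⊔ Subgroup.zpowers g)).IsSubnormal := by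
      intro g hg
      refine Subgroup.Normal.isSubnormal (Subgroup.normal_subgroupOf_of_le_normalizer
        (sup_le Subgroup.le_normalizer ((Subgroup.zpowers_le.2 ?_).trans (Subgroup.centralizer_le_normalizer _))))
      rintro _ ⟨i, rfl⟩
      exact (hg.zpow_left i).eq
    -- `c ^ (2 ^ k)` lies in the kernel
    obtain ⟨k, hk⟩ := hH c.right
    have hright : (c ^ 2 ^ k).right = 1 := by
      rw [← SemidirectProduct.rightHom_eq_right, map_pow]
      exact hk
    set w := (c ^ 2 ^ k).left with hwdef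
    have hcw : c ^ 2 ^ k = SemidirectProduct.inl w := SemidirectProduct.ext rfl hright
    by_cases hw : w = 1
    · -- a `2`-element is conjugate into the complement
      have hc2 : IsPGroup 2 (Subgroup.zpowers c) := by
        rintro ⟨y, hy⟩
        obtain ⟨i, rfl⟩ := Subgroup.mem_zpowers_iff.1 hy
        refine ⟨k, Subtype.ext ?_⟩
        show (c ^ i) ^ 2 ^ k = 1
        rw [← zpow_natCast (c ^ i), zpow_comm, zpow_natCast, hcw, hw, map_one, one_zpow]
      obtain ⟨Q, hQ⟩ := hc2.exists_le_sylow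
      have hidx : ¬ 2 ∣ R.index := by
        have hcard := R.card_mul_index
        have e1 : Nat.card R = Nat.card H :=
          (Nat.card_congr (MonoidHom.ofInjective SemidirectProduct.inr_injective).toEquiv).symm
        rw [e1, SemidirectProduct.card, mul_comm (Nat.card V)] at hcard
        rw [Nat.eq_of_mul_eq_mul_left Nat.card_pos hcard]
        intro hd
        obtain ⟨t, ht⟩ := exists_prime_orderOf_dvd_card' (G := V) 2 hd
        have h3 := orderOf_dvd_of_pow_eq_one (hV t)
        rw [ht] at h3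
        omega
      obtain ⟨n, hn⟩ := MulAction.exists_smul_eq (V ⋊[φ] H) Q (hRp.toSylow hidx)
      refine ⟨n * c * n⁻¹, isConj_iff.2 ⟨n, rfl⟩, hinR _ ?_⟩
      have h2 : MulAut.conj n • (Q : Subgroup (V ⋊[φ] H)) = R :=
        congrArg (fun S : Sylow 2 (V ⋊[φ] H) => (S : Subgroup (V ⋊[φ] H))) hn
      rw [← h2]
      exact ⟨c, hQ (Subgroup.mem_zpowers c), rfl⟩
    -- move the kernel part to `v0`
    obtain ⟨h, hh⟩ := htrans w hw
    set n : V ⋊[φ] H := SemidirectProduct.inr h with hn
    set d := n⁻¹ * c * n with hd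
    have hdk : d ^ 2 ^ k = SemidirectProduct.inl v0 := by
      have e : d = n⁻¹ * c * n⁻¹⁻¹ := by rw [inv_inv]
      rw [e, conj_pow, hcw, inv_inv, hn, ← map_inv, ← SemidirectProduct.inl_aut_inv, ← hh,
        MulAut.inv_apply_self]
    have hcd : IsConj c d := isConj_iff.2 ⟨n⁻¹, by rw [inv_inv]⟩
    have hdr : φ d.right v0 = v0 := by
      have h1 : d * SemidirectProduct.inl v0 = SemidirectProduct.inl v0 * d := by
        rw [← hdk, ← pow_succ, ← pow_succ']
      have h2 := congrArg SemidirectProduct.left h1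
      simp only [SemidirectProduct.mul_left, SemidirectProduct.left_inl, SemidirectProduct.right_inl,
        map_one, MulAut.one_apply] at h2
      rw [mul_comm v0] at h2
      exact mul_left_cancel h2
    rcases hstab _ hdr with hr | hr
    · -- `d` lies in the kernel, hence in `⟨v0⟩`
      have hdl : d = SemidirectProduct.inl d.left := SemidirectProduct.ext rfl hr
      refine ⟨d, hcd, hcomm d ?_⟩
      have hu : φ a d.left = d.left := by
        have h1 : d.left ^ 2 ^ k = v0 := SemidirectProduct.inl_injective (by rw [map_pow, ← hdl, hdk])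
        have hcop : Nat.Coprime (2 ^ k) 3 := Nat.Coprime.pow_left k (by norm_num)
        obtain ⟨j, -, hj⟩ := Nat.exists_mul_mod_eq_one_of_coprime hcop (by norm_num)
        have h2 : d.left = v0 ^ j := by
          rw [← h1, ← pow_mul, pow_eq_pow_mod _ (hV d.left), hj, pow_one]
        rw [h2, map_pow, hfix]
      refine SemidirectProduct.ext ?_ ?_
      · rw [SemidirectProduct.mul_left x d, SemidirectProduct.mul_left d x, hr, map_one]
        show 1 * φ a d.left = d.left * 1
        rw [one_mul, mul_one, hu]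
      · rw [SemidirectProduct.mul_right x d, SemidirectProduct.mul_right d x, hr, mul_one, one_mul]
    · -- `d = (u, a)`: translate so that `a` fixes the translation part
      set u := d.left with hu
      set e := φ a u * u⁻¹ with he
      have hφe : φ a e = e⁻¹ := by
        rw [he, map_mul, map_inv, ← MulAut.mul_apply, ← map_mul, ha2, map_one, MulAut.one_apply,
          mul_inv_rev, inv_inv]
      set m : V ⋊[φ] H := SemidirectProduct.inl e with hm
      refine ⟨m * d * m⁻¹, hcd.trans (isConj_iff.2 ⟨m, rfl⟩), hcomm _ ?_⟩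
      have hl : (m * d * m⁻¹).left = u * e ^ 2 := by
        rw [hm, ← map_inv]
        simp only [SemidirectProduct.mul_left, SemidirectProduct.mul_right, SemidirectProduct.left_inl,
          SemidirectProduct.right_inl, map_one, MulAut.one_apply, one_mul, hr]
        rw [map_inv, hφe, inv_inv]
        rw [← hu, mul_comm e u, mul_assoc, pow_two]
      have hr' : (m * d * m⁻¹).right = a := by
        rw [hm, ← map_inv]
        simp only [SemidirectProduct.mul_right, SemidirectProduct.right_inl, one_mul, mul_one, hr]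
      have hfixl : φ a (u * e ^ 2) = u * e ^ 2 := by
        rw [map_mul, map_pow, hφe, show φ a u = u * e by rw [he, mul_comm, inv_mul_cancel_right],
          mul_assoc]
        congr 1
        rw [inv_pow, mul_inv_eq_iff_eq_mul, ← pow_add, show 2 + 2 = 3 + 1 from rfl, pow_succ, hV, one_mul]
      refine SemidirectProduct.ext ?_ ?_
      · rw [SemidirectProduct.mul_left x (m * d * m⁻¹), SemidirectProduct.mul_left (m * d * m⁻¹) x, hl, hr']
        show 1 * φ a (u * e ^ 2) = u * e ^ 2 * φ a 1
        rw [one_mul, map_one, mul_one, hfixl]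
      · rw [SemidirectProduct.mul_right x (m * d * m⁻¹), SemidirectProduct.mul_right (m * d * m⁻¹) x, hr']
        rfl
  · intro hle
    obtain ⟨v, hv⟩ := hmove
    have hN := PBasic.pCore_isPGroup 2 (V ⋊[φ] H)
    haveI : ((SemidirectProduct.inl : V →* V ⋊[φ] H).range).Normal := by
      rw [SemidirectProduct.range_inl_eq_ker_rightHom]; infer_instance
    have h3 : IsPGroup 3 (SemidirectProduct.inl : V →* V ⋊[φ] H).range := by
      rintro ⟨_, t, rfl⟩
      refine ⟨1, Subtype.ext ?_⟩
      show (SemidirectProduct.inl t : V ⋊[φ] H) ^ 3 ^ 1 = 1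
      rw [pow_one, ← map_pow, hV, map_one]
    have hc : Commute x (SemidirectProduct.inl v) := Subgroup.commute_of_normal_of_disjoint
      (Cfsg.pCore 2 (V ⋊[φ] H)) _ inferInstance inferInstance
      (IsPGroup.disjoint_of_ne 2 3 (by norm_num) _ _ hN h3) _ _
      (hle (Subgroup.mem_zpowers x)) ⟨v, rfl⟩
    refine hv ?_
    have := congrArg SemidirectProduct.left hc.eq
    simpa [hx] using this

end

abbrev M2 := Matrix (Fin 2) (Fin 2) (ZMod 3)

def J : M2 := !![0, 2; 1, 0]

/-- The normalizer of a Singer cycle in `GL(2, 3)`. -/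
def Hs : Subgroup M2ˣ where
  carrier := {M | (M : M2) * J = J * (M : M2) ∨ (M : M2) * J = -(J * (M : M2))}
  one_mem' := Or.inl (by simp)
  mul_mem' := by
    intro A B hA hB
    simp only [Set.mem_setOf_eq, Units.val_mul] at hA hB ⊢
    rcases hB with hB | hB <;> rcases hA with hA | hA
    · left; rw [mul_assoc, hB, ← mul_assoc, hA, mul_assoc]
    · right; rw [mul_assoc, hB, ← mul_assoc, hA, neg_mul, mul_assoc]
    · right; rw [mul_assoc, hB, mul_neg, ← mul_assoc, hA, mul_assoc]
    · left; rw [mul_assoc, hB, mul_neg, ← mul_assoc, hA, neg_mul, neg_neg, mul_assoc]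
  inv_mem' := by
    intro A hA
    simp only [Set.mem_setOf_eq] at hA ⊢
    rcases hA with hA | hA
    · left
      calc (↑A⁻¹ : M2) * J = ↑A⁻¹ * (J * ↑A) * ↑A⁻¹ := by simp [mul_assoc]
        _ = ↑A⁻¹ * (↑A * J) * ↑A⁻¹ := by rw [hA]
        _ = _ := by simp [← mul_assoc]
    · right
      have hA' : J * (A : M2) = -((A : M2) * J) := by rw [hA, neg_neg]
      calc (↑A⁻¹ : M2) * J = ↑A⁻¹ * (J * ↑A) * ↑A⁻¹ := by simp [mul_assoc]
        _ = ↑A⁻¹ * (-(↑A * J)) * ↑A⁻¹ := by rw [hA']
        _ = _ := by simp [← mul_assoc]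

def actEquiv (h : Hs) : MulAut (Multiplicative (Fin 2 → ZMod 3)) where
  toFun v := Multiplicative.ofAdd ((((h : M2ˣ) : M2)).mulVec (Multiplicative.toAdd v))
  invFun v := Multiplicative.ofAdd ((((h : M2ˣ)⁻¹ : M2ˣ) : M2).mulVec (Multiplicative.toAdd v))
  left_inv v := by
    show Multiplicative.ofAdd _ = v
    rw [toAdd_ofAdd, Matrix.mulVec_mulVec, ← Units.val_mul, inv_mul_cancel, Units.val_one, Matrix.one_mulVec,
      ofAdd_toAdd]
  right_inv v := by
    show Multiplicative.ofAdd _ = v
    rw [toAdd_ofAdd, Matrix.mulVec_mulVec, ← Units.val_mul, mul_inv_cancel, Units.val_one, Matrix.one_mulVec,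
      ofAdd_toAdd]
  map_mul' v w := congrArg Multiplicative.ofAdd (Matrix.mulVec_add _ _ _)

def φ : Hs →* MulAut (Multiplicative (Fin 2 → ZMod 3)) where
  toFun := actEquiv
  map_one' := MulEquiv.ext fun v => by
    show Multiplicative.ofAdd _ = v
    rw [OneMemClass.coe_one, Units.val_one, Matrix.one_mulVec, ofAdd_toAdd]
    rfl
  map_mul' g h := MulEquiv.ext fun v => by
    show Multiplicative.ofAdd _ = Multiplicative.ofAdd _
    show _ = Multiplicative.ofAdd (((g : M2ˣ) : M2).mulVec (((h : M2ˣ) : M2).mulVec (Multiplicative.toAdd v)))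
    rw [Matrix.mulVec_mulVec]
    rfl

theorem cube (v : Multiplicative (Fin 2 → ZMod 3)) : v ^ 3 = 1 := by
  apply Multiplicative.toAdd.injective
  funext i
  have : ∀ c : ZMod 3, 3 • c = 0 := by decide
  exact this _

def aU : M2ˣ := ⟨!![1, 0; 0, 2], !![1, 0; 0, 2], by decide, by decide⟩

def aH : Hs := ⟨aU, Or.inr (by decide)⟩

theorem a_sq : aH * aH = 1 := Subtype.ext (Units.ext (by decide))

def v0 : Multiplicative (Fin 2 → ZMod 3) := Multiplicative.ofAdd ![1, 0]

theorem a_moves : ∃ v, φ aH v ≠ v :=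
  ⟨Multiplicative.ofAdd ![0, 1], by decide⟩

theorem v0_ne : v0 ≠ 1 := by decide

theorem a_fix : φ aH v0 = v0 := by decide

theorem eta (A : M2) : A = !![A 0 0, A 0 1; A 1 0, A 1 1] := Matrix.eta_fin_two A

set_option maxRecDepth 100000 in
set_option maxHeartbeats 4000000 in
theorem exp8_aux : ∀ a b c d : ZMod 3,
    (!![a, b; c, d] * J = J * !![a, b; c, d] ∨ !![a, b; c, d] * J = -(J * !![a, b; c, d])) →
      a * d - b * c ≠ 0 →
        (!![a, b; c, d] * !![a, b; c, d]) * (!![a, b; c, d] * !![a, b; c, d]) *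
          ((!![a, b; c, d] * !![a, b; c, d]) * (!![a, b; c, d] * !![a, b; c, d])) = (1 : M2) := by
  decide

set_option maxRecDepth 100000 in
set_option maxHeartbeats 4000000 in
theorem stab_aux : ∀ a b c d : ZMod 3,
    (!![a, b; c, d] * J = J * !![a, b; c, d] ∨ !![a, b; c, d] * J = -(J * !![a, b; c, d])) →
      a * d - b * c ≠ 0 → a = 1 → c = 0 → (!![a, b; c, d] : M2) = 1 ∨ (!![a, b; c, d] : M2) = !![1, 0; 0, 2] := by
  decide

theorem det_ne (h : Hs) : ((h : M2ˣ) : M2) 0 0 * ((h : M2ˣ) : M2) 1 1 -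
    ((h : M2ˣ) : M2) 0 1 * ((h : M2ˣ) : M2) 1 0 ≠ 0 := by
  rw [← Matrix.det_fin_two]
  haveI : Fact (Nat.Prime 3) := ⟨by norm_num⟩
  exact ((Matrix.isUnit_iff_isUnit_det _).1 (h : M2ˣ).isUnit).ne_zero

theorem exp8 (h : Hs) : h ^ 2 ^ 3 = 1 := by
  apply Subtype.ext
  apply Units.ext
  have := exp8_aux _ _ _ _ (by rw [← eta]; exact h.2) (det_ne h)
  rw [← eta] at this
  show (((h ^ 2 ^ 3 : Hs) : M2ˣ) : M2) = 1
  rw [SubmonoidClass.coe_pow, Units.val_pow_eq_pow_val]
  have h8 : ∀ M : M2, M ^ (2 ^ 3) = M * M * (M * M) * (M * M * (M * M)) := fun M => by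
    rw [show (2 : ℕ) ^ 3 = ((1 + 1) + (1 + 1)) + ((1 + 1) + (1 + 1)) from rfl]
    simp only [pow_add, pow_one]
  rw [h8, this]

theorem stab (h : Hs) (hh : φ h v0 = v0) : h = 1 ∨ h = aH := by
  have h1 : (((h : M2ˣ) : M2)).mulVec ![1, 0] = ![1, 0] := congrArg Multiplicative.toAdd hh
  have ha : ((h : M2ˣ) : M2) 0 0 = 1 := by
    have := congrFun h1 0
    simpa [Matrix.mulVec, dotProduct, Fin.sum_univ_two] using this
  have hc : ((h : M2ˣ) : M2) 1 0 = 0 := by
    have := congrFun h1 1
    simpa [Matrix.mulVec, dotProduct, Fin.sum_univ_two] using this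
  rcases stab_aux _ _ _ _ (by rw [← eta]; exact h.2) (det_ne h) ha hc with e | e
  · left
    rw [← eta] at e
    exact Subtype.ext (Units.ext e)
  · right
    rw [← eta] at e
    exact Subtype.ext (Units.ext e)

set_option maxRecDepth 100000 in
theorem trans_aux : ∀ x y : ZMod 3, ¬ (x = 0 ∧ y = 0) →
    !![x, -y; y, x] * ((x * x + y * y) • !![x, y; -y, x]) = (1 : M2) ∧
      ((x * x + y * y) • !![x, y; -y, x]) * !![x, -y; y, x] = (1 : M2) ∧
      !![x, -y; y, x] * J = J * !![x, -y; y, x] ∧ (!![x, -y; y, x] : M2).mulVec ![1, 0] = ![x, y] := by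
  decide

theorem trans (v : Multiplicative (Fin 2 → ZMod 3)) (hv : v ≠ 1) : ∃ h : Hs, φ h v0 = v := by
  set f := Multiplicative.toAdd v with hf
  have hne : ¬ (f 0 = 0 ∧ f 1 = 0) := fun e => hv (Multiplicative.toAdd.injective (by
    funext i
    fin_cases i
    · exact e.1
    · exact e.2))
  obtain ⟨h1, h2, h3, h4⟩ := trans_aux (f 0) (f 1) hne
  refine ⟨⟨⟨_, _, h1, h2⟩, Or.inl h3⟩, ?_⟩
  apply Multiplicative.toAdd.injective
  refine h4.trans ?_
  funext i
  fin_cases i <;> rfl

/-- There is a finite solvable group G with a subgroup A of order 2 such that every conjugacy class of G contains an element g for which A is subnormal in the subgroup generated by A and g, and yet A is not contained in O_2(G). (So the corresponding criteria for odd primes fail at the prime 2, even for solvable groups.) -/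
theorem result :
    ∃ (G : Type) (_ : Group G) (_ : Finite G) (A : Subgroup G), Group.IsSolvable G ∧ Nat.card A = 2 ∧
      (∀ c : G, ∃ g : G, IsConj c g ∧ (A.subgroupOf (A ⊔ Subgroup.zpowers g)).IsSubnormal) ∧
      ¬ A ≤ Cfsg.pCore 2 G := by
  haveI : Fact (Nat.Prime 3) := ⟨by norm_num⟩
  exact general φ (by
      intro h
      refine ⟨3, ?_⟩
      exact exp8 h) (fun v => cube v) aH a_sq v0
    v0_ne a_fix stab trans a_moves

end Cfsg.Agent.S4331
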