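import Cfsg.Statements.S4332
import Mathlib.GroupTheory.Perm.Cycle.Type
import Mathlib.GroupTheory.SpecificGroups.Alternating.Simple
import Mathlib.GroupTheory.IsSubnormal
import Mathlib.Data.Fintype.Perm
-- import your own Cfsg.Agent.* helpers here

set_option autoImplicit false
open Pointwise
open Cfsg

namespace Cfsg.Agent.S4332

open scoped Pointwise

/-- Representatives of the classes, with inverses. -/
def repList : List (List (Fin 8) × List (Fin 8)) := [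
  ([3, 4, 5, 1, 2, 6, 7, 0], [7, 3, 4, 0, 1, 2, 5, 6]),
  ([3, 4, 5, 1, 2, 6, 0, 7], [6, 3, 4, 0, 1, 2, 5, 7]),
  ([3, 4, 5, 1, 2, 0, 7, 6], [5, 3, 4, 0, 1, 2, 7, 6]),
  ([3, 4, 5, 1, 2, 0, 6, 7], [5, 3, 4, 0, 1, 2, 6, 7]),
  ([3, 4, 6, 1, 5, 0, 7, 2], [5, 3, 7, 0, 1, 4, 2, 6]),
  ([3, 4, 6, 1, 5, 0, 2, 7], [5, 3, 6, 0, 1, 4, 2, 7]),
  ([0, 1, 2, 4, 5, 6, 7, 3], [0, 1, 2, 7, 3, 4, 5, 6]),
  ([3, 4, 5, 1, 0, 6, 7, 2], [4, 3, 7, 0, 1, 2, 5, 6]),
  ([3, 4, 5, 1, 0, 6, 2, 7], [4, 3, 6, 0, 1, 2, 5, 7]),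
  ([3, 4, 5, 1, 0, 2, 7, 6], [4, 3, 5, 0, 1, 2, 7, 6]),
  ([3, 4, 5, 1, 0, 2, 6, 7], [4, 3, 5, 0, 1, 2, 6, 7]),
  ([0, 1, 2, 4, 5, 6, 3, 7], [0, 1, 2, 6, 3, 4, 5, 7]),
  ([1, 2, 0, 4, 5, 3, 7, 6], [2, 0, 1, 5, 3, 4, 7, 6]),
  ([1, 2, 0, 4, 5, 3, 6, 7], [2, 0, 1, 5, 3, 4, 6, 7]),
  ([1, 2, 0, 4, 3, 6, 5, 7], [2, 0, 1, 4, 3, 6, 5, 7]),
  ([1, 2, 0, 4, 3, 5, 6, 7], [2, 0, 1, 4, 3, 5, 6, 7]),
  ([1, 2, 0, 3, 4, 5, 6, 7], [2, 0, 1, 3, 4, 5, 6, 7]),
  ([3, 4, 5, 0, 1, 2, 7, 6], [3, 4, 5, 0, 1, 2, 7, 6]),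
  ([1, 0, 2, 4, 3, 6, 5, 7], [1, 0, 2, 4, 3, 6, 5, 7]),
  ([1, 0, 2, 4, 3, 5, 6, 7], [1, 0, 2, 4, 3, 5, 6, 7]),
  ([1, 0, 2, 3, 4, 5, 6, 7], [1, 0, 2, 3, 4, 5, 6, 7]),
  ([0, 1, 2, 3, 4, 5, 6, 7], [0, 1, 2, 3, 4, 5, 6, 7])]

/-- A representative as a permutation. -/
def rep (i : Fin 22) : Equiv.Perm (Fin 8) :=
  if h : (∀ x : Fin 8, (repList.getD i ([], [])).2.getD ((repList.getD i ([], [])).1.getD x 0) 0 = x) ∧
      ∀ x : Fin 8, (repList.getD i ([], [])).1.getD ((repList.getD i ([], [])).2.getD x 0) 0 = x then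
    ⟨fun x => (repList.getD i ([], [])).1.getD x 0, fun x => (repList.getD i ([], [])).2.getD x 0, h.1, h.2⟩
  else 1

/-- The numbers of fixed points of the powers. -/
def invariant (p : Equiv.Perm (Fin 8)) : List ℕ :=
  (List.range 9).map fun k => (Finset.univ.filter fun x => (⇑p)^[k] x = x).card

/-- The standard three-cycle. -/
def s0 : Equiv.Perm (Fin 8) := Equiv.swap 0 1 * Equiv.swap 1 2

/-- Multiplicity vectors of partitions of eight. -/
def countVectors : Finset (ℕ × ℕ × ℕ × ℕ × ℕ × ℕ × ℕ × ℕ) :=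
  (Finset.range 9 ×ˢ Finset.range 5 ×ˢ Finset.range 3 ×ˢ Finset.range 3 ×ˢ Finset.range 2 ×ˢ Finset.range 2 ×ˢ
    Finset.range 2 ×ˢ Finset.range 2).filter fun v =>
      v.1 + 2 * v.2.1 + 3 * v.2.2.1 + 4 * v.2.2.2.1 + 5 * v.2.2.2.2.1 + 6 * v.2.2.2.2.2.1 +
        7 * v.2.2.2.2.2.2.1 + 8 * v.2.2.2.2.2.2.2 = 8

theorem rep_facts : (∀ i j : Fin 22, invariant (rep i) = invariant (rep j) → i = j) ∧
    (∀ i : Fin 22, ∀ x, (rep i * s0 * (rep i)⁻¹ * s0) x = (s0 * (rep i * s0 * (rep i)⁻¹)) x) ∧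
    s0.support.card = 3 ∧ (countVectors).card = 22 := by
  refine ⟨?_, ?_, ?_, ?_⟩ <;> decide +kernel

theorem card_partition : Fintype.card (Nat.Partition 8) ≤ 22 := by
  classical
  rw [← rep_facts.2.2.2, ← Finset.card_univ]
  let v : Nat.Partition 8 → ℕ × ℕ × ℕ × ℕ × ℕ × ℕ × ℕ × ℕ := fun q =>
    (q.parts.count 1, q.parts.count 2, q.parts.count 3, q.parts.count 4, q.parts.count 5, q.parts.count 6,
      q.parts.count 7, q.parts.count 8)
  have hle : ∀ q : Nat.Partition 8, ∀ k ∈ q.parts, 1 ≤ k ∧ k ≤ 8 := fun q k hk =>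
    ⟨q.parts_pos hk, (Multiset.le_sum_of_mem hk).trans_eq q.parts_sum⟩
  refine Finset.card_le_card_of_injOn v (fun q _ => ?_) fun a _ b _ e => ?_
  · have h : q.parts.sum = ∑ k ∈ Finset.Icc 1 8, q.parts.count k * k := by
      rw [Finset.sum_multiset_count_of_subset q.parts (Finset.Icc 1 8) fun k hk =>
        Finset.mem_Icc.2 (hle q k (Multiset.mem_toFinset.1 hk))]
      simp
    rw [q.parts_sum] at h
    simp [Finset.sum_Icc_succ_top] at h
    simp only [Finset.mem_coe, countVectors, Finset.mem_filter, Finset.mem_product, Finset.mem_range, v]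
    omega
  · refine Nat.Partition.ext (Multiset.ext.2 fun k => ?_)
    simp only [v, Prod.mk.injEq] at e
    obtain ⟨e1, e2, e3, e4, e5, e6, e7, e8⟩ := e
    by_cases hk : 1 ≤ k ∧ k ≤ 8
    · obtain ⟨h1, h8⟩ := hk
      interval_cases k <;> assumption
    · rw [Multiset.count_eq_zero.2 fun h => hk (hle a k h), Multiset.count_eq_zero.2 fun h => hk (hle b k h)]

theorem invariant_conj {a b : Equiv.Perm (Fin 8)} (h : IsConj a b) : invariant a = invariant b := by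
  obtain ⟨g, hg⟩ := isConj_iff.1 h
  refine List.map_congr_left fun k _ => ?_
  rw [← Equiv.Perm.coe_pow, ← Equiv.Perm.coe_pow]
  refine Finset.card_bij (fun x _ => g x) (fun x hx => ?_) (fun x _ y _ e => g.injective e) (fun y hy => ?_)
  · simp only [Finset.mem_filter, Finset.mem_univ, true_and] at hx ⊢
    rw [← hg, conj_pow]; simp [hx]
  · simp only [Finset.mem_filter, Finset.mem_univ, true_and] at hy
    refine ⟨g⁻¹ y, ?_, by simp⟩
    simp only [Finset.mem_filter, Finset.mem_univ, true_and]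
    rw [← hg, conj_pow] at hy
    simpa [Equiv.Perm.inv_eq_iff_eq, eq_comm] using (congrArg (⇑g⁻¹) hy)

theorem exists_rep (c : Equiv.Perm (Fin 8)) : ∃ i, IsConj c (rep i) := by
  classical
  let f : Fin 22 → ((Fintype.card (Fin 8)).Partition) := fun i => (rep i).partition
  have hf : Function.Injective f := fun i j e =>
    rep_facts.1 i j (invariant_conj (Equiv.Perm.partition_eq_of_isConj.2 e))
  have hb : Function.Bijective f := by
    refine hf.bijective_of_nat_card_le ?_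
    rw [Nat.card_fin, Nat.card_eq_fintype_card]
    exact card_partition
  obtain ⟨i, hi⟩ := hb.2 c.partition
  exact ⟨i, Equiv.Perm.partition_eq_of_isConj.2 hi.symm⟩

theorem subnormal_of_commute {G : Type*} [Group G] (a b : G) (h : Commute a b) :
    ((Subgroup.zpowers a).subgroupOf (Subgroup.zpowers a ⊔ Subgroup.zpowers b)).IsSubnormal := by
  refine Subgroup.IsSubnormal.step _ ⊤ le_top Subgroup.IsSubnormal.top ?_
  refine ⟨fun n hn g => ?_⟩
  have hn' : ((n : ↥(Subgroup.zpowers a ⊔ Subgroup.zpowers b)) : G) ∈ Subgroup.zpowers a := hn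
  have hle : Subgroup.zpowers a ⊔ Subgroup.zpowers b ≤ Subgroup.centralizer ({a} : Set G) := by
    rw [sup_le_iff, Subgroup.zpowers_le, Subgroup.zpowers_le]
    refine ⟨?_, ?_⟩ <;> rw [Subgroup.mem_centralizer_iff] <;> simp [h.eq]
  obtain ⟨k, hk⟩ := Subgroup.mem_zpowers_iff.1 hn'
  have hg : Commute a ((g : ↥(Subgroup.zpowers a ⊔ Subgroup.zpowers b)) : G) :=
    Subgroup.mem_centralizer_iff.1 (hle g.1.2) a rfl
  show ((g : ↥(Subgroup.zpowers a ⊔ Subgroup.zpowers b)) : G) * _ * ((g : ↥(Subgroup.zpowers a ⊔ Subgroup.zpowers b)) : G)⁻¹ ∈ Subgroup.zpowers a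
  rw [← hk, ((hg.zpow_left k).symm).eq, mul_inv_cancel_right, hk]
  exact hn'

/-- In the symmetric group of degree 8, let A be the subgroup generated by a 3-cycle. Then every conjugacy class contains an element g for which A is subnormal in the subgroup generated by A and its conjugate by g, although O_3 of the symmetric group of degree 8 is trivial. -/
theorem result
    (σ : Equiv.Perm (Fin 8)) (hσ : σ.IsThreeCycle) :
    (∀ c : Equiv.Perm (Fin 8), ∃ g : Equiv.Perm (Fin 8), IsConj c g ∧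
      ((Subgroup.zpowers σ).subgroupOf (Subgroup.zpowers σ ⊔ MulAut.conj g • Subgroup.zpowers σ)).IsSubnormal) ∧
    Cfsg.pCore 3 (Equiv.Perm (Fin 8)) = ⊥ := by
  refine ⟨fun c => ?_, ?_⟩
  · obtain ⟨h, hh⟩ : ∃ h : Equiv.Perm (Fin 8), h * s0 * h⁻¹ = σ := by
      refine isConj_iff.1 (Equiv.Perm.isConj_iff_cycleType_eq.2 ?_)
      rw [(card_support_eq_three_iff.1 rep_facts.2.2.1 : s0.IsThreeCycle), hσ]
    obtain ⟨i, hi⟩ := exists_rep c
    refine ⟨h * rep i * h⁻¹, hi.trans (isConj_iff.2 ⟨h, rfl⟩), ?_⟩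
    have e : MulAut.conj (h * rep i * h⁻¹) • Subgroup.zpowers σ =
        Subgroup.zpowers (h * (rep i * s0 * (rep i)⁻¹) * h⁻¹) := by
      rw [Subgroup.pointwise_smul_def]
      show (Subgroup.zpowers σ).map _ = _
      erw [MonoidHom.map_zpowers]
      congr 1
      show h * rep i * h⁻¹ * σ * (h * rep i * h⁻¹)⁻¹ = _
      rw [← hh]; group
    rw [e, ← hh]
    refine subnormal_of_commute _ _ ?_
    show h * s0 * h⁻¹ * (h * (rep i * s0 * (rep i)⁻¹) * h⁻¹) = h * (rep i * s0 * (rep i)⁻¹) * h⁻¹ * (h * s0 * h⁻¹)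
    have hc : rep i * s0 * (rep i)⁻¹ * s0 = s0 * (rep i * s0 * (rep i)⁻¹) := Equiv.ext (rep_facts.2.1 i)
    calc h * s0 * h⁻¹ * (h * (rep i * s0 * (rep i)⁻¹) * h⁻¹)
        = h * (s0 * (rep i * s0 * (rep i)⁻¹)) * h⁻¹ := by group
      _ = h * (rep i * s0 * (rep i)⁻¹ * s0) * h⁻¹ := by rw [hc]
      _ = _ := by group
  · rw [Cfsg.pCore, sSup_eq_bot]
    rintro N ⟨hN, hp⟩
    haveI := hN
    haveI : IsSimpleGroup (alternatingGroup (Fin 8)) := alternatingGroup.isSimpleGroup (by simp)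
    have h8 : Nat.card (alternatingGroup (Fin 8)) = 20160 := by
      have h := two_mul_card_alternatingGroup (α := Fin 8)
      rw [Fintype.card_perm, Fintype.card_fin] at h
      rw [show Nat.factorial 8 = 40320 from rfl] at h
      rw [Nat.card_eq_fintype_card]; omega
    obtain ⟨k, hk⟩ := IsPGroup.iff_card.1 hp
    rcases (inferInstance : (N.subgroupOf (alternatingGroup (Fin 8))).Normal).eq_bot_or_eq_top with e | e
    · have hd : Nat.card N ∣ 2 := by
        have hinj : Function.Injective ((Equiv.Perm.sign : Equiv.Perm (Fin 8) →* ℤˣ).comp N.subtype) := by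
          rw [← MonoidHom.ker_eq_bot_iff, eq_bot_iff]
          intro x hx
          have hx' : (x : Equiv.Perm (Fin 8)) ∈ alternatingGroup (Fin 8) := hx
          have : (⟨(x : Equiv.Perm (Fin 8)), hx'⟩ : alternatingGroup (Fin 8)) ∈ N.subgroupOf _ := x.2
          rw [e, Subgroup.mem_bot, Subtype.ext_iff] at this
          exact Subgroup.mem_bot.2 (Subtype.ext this)
        have h := Subgroup.card_dvd_of_injective _ hinj
        rwa [Nat.card_eq_fintype_card (α := ℤˣ), Fintype.card_units_int] at h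
      rw [hk] at hd
      rcases k with _ | k
      · exact Subgroup.card_eq_one.1 (by rw [hk, pow_zero])
      · exact absurd ((dvd_pow_self 3 (Nat.succ_ne_zero k)).trans hd) (by norm_num)
    · have hle : alternatingGroup (Fin 8) ≤ N := Subgroup.subgroupOf_eq_top.1 e
      have hd := Subgroup.card_dvd_of_le hle
      rw [h8, hk] at hd
      have h5 : Nat.Prime 5 := by norm_num
      have := h5.dvd_of_dvd_pow ((by norm_num : 5 ∣ 20160).trans hd)
      norm_num at this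

end Cfsg.Agent.S4332
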