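import Cfsg.Statements.S4333
import Cfsg.Agent.Lib.LocalEven.Wielandt

set_option autoImplicit false
open Pointwise
open Cfsg
open scoped Pointwise

namespace Cfsg.Agent.S4333

universe u

theorem aux : ∀ (n : ℕ) (G : Type u) [Group G] [Finite G], Nat.card G ≤ n → ∀ A : Subgroup G,
    (∀ a ∈ A, ∀ g : G, (A.subgroupOf (A ⊔ MulAut.conj (g⁻¹ * a * g) • A)).IsSubnormal) → A.IsSubnormal := by
  intro n
  induction n with
  | zero => intro G _ _ hn; exact absurd hn (Nat.not_le.2 Nat.card_pos)
  | succ n ih =>
    intro G _ _ hn A h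
    by_contra hns
    have hsub : ∀ H : Subgroup G, H ≠ ⊤ → A ≤ H → (A.subgroupOf H).IsSubnormal := by
      intro H hH hAH
      have hlt : Nat.card ↥H ≤ n := by
        have h1 : Nat.card ↥H < Nat.card G :=
          lt_of_le_of_ne (Subgroup.card_le_card_group H) fun he => hH (Subgroup.eq_top_of_card_eq H he)
        omega
      refine ih ↥H hlt _ fun a ha g => ?_
      set x : H := g⁻¹ * a * g with hx
      set T := A.subgroupOf H ⊔ MulAut.conj x • A.subgroupOf H with hT
      have hmap : T.map H.subtype = A ⊔ MulAut.conj ((g : G)⁻¹ * (a : G) * (g : G)) • A := by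
        rw [hT, Subgroup.map_sup, Subgroup.map_subgroupOf_eq_of_le hAH]
        congr 1
        show ((A.subgroupOf H).map (MulAut.conj x).toMonoidHom).map H.subtype =
          A.map (MulAut.conj (x : G)).toMonoidHom
        conv_rhs => rw [← Subgroup.map_subgroupOf_eq_of_le hAH]
        rw [Subgroup.map_map, Subgroup.map_map]
        congr 1
      let e : ↥T →* ↥(A ⊔ MulAut.conj ((g : G)⁻¹ * (a : G) * (g : G)) • A) :=
        (H.subtype.comp T.subtype).codRestrict _ fun t => hmap ▸ ⟨t, t.2, rfl⟩
      exact (h (a : G) ha (g : G)).comap e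
    obtain ⟨M, hM, hAM, hall⟩ := Cfsg.Agent.LEWielandt.zipper A hsub hns
    have hconj : ∀ a ∈ A, ∀ g : G, MulAut.conj (g⁻¹ * a * g) • A ≤ M := by
      intro a ha g
      by_cases htop : A ⊔ MulAut.conj (g⁻¹ * a * g) • A = ⊤
      · refine absurd ?_ hns
        have h1 := (h a ha g).trans le_sup_left
        exact h1 (htop ▸ Subgroup.IsSubnormal.top)
      · exact le_sup_right.trans (hall _ htop le_sup_left)
    -- every conjugate of an element of `A` lies in `M`
    have hmem : ∀ a ∈ A, ∀ g : G, g⁻¹ * a * g ∈ M := by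
      intro a ha g
      by_cases hn : M.Normal
      · exact hn.conj_mem' a (hAM ha) g
      set x := g⁻¹ * a * g with hx
      have hAx : A ≤ MulAut.conj x⁻¹ • M := by
        rw [map_inv, Subgroup.subset_pointwise_smul_iff, inv_inv]
        exact hconj a ha g
      have hne : MulAut.conj x⁻¹ • M ≠ ⊤ := fun e => hM.1 (by
        rw [← inv_smul_smul (MulAut.conj x⁻¹) M, e]
        exact eq_top_iff.2 fun y _ => Subgroup.mem_inv_pointwise_smul_iff.2 (Subgroup.mem_top _))
      have hle := hall _ hne hAx
      have heq : MulAut.conj x⁻¹ • M = M :=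
        Subgroup.eq_of_le_of_card_ge hle (Nat.card_congr (Subgroup.equivSMul (MulAut.conj x⁻¹) M).toEquiv).le
      have hxN : x⁻¹ ∈ Subgroup.normalizer (M : Set G) := Subgroup.mem_normalizer_iff_map_conj_eq.2 heq
      have hNM : Subgroup.normalizer (M : Set G) = M := by
        refine (Subgroup.le_normalizer.eq_of_not_lt fun hlt => hn ?_).symm
        exact Subgroup.normalizer_eq_top_iff.1 (hM.2 _ hlt)
      rw [hNM] at hxN
      exact inv_mem_iff.1 hxN
    have hncl' : Subgroup.normalClosure (A : Set G) ≤ M := by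
      refine (Subgroup.closure_le _).2 fun y hy => ?_
      obtain ⟨a, ha, hc⟩ := Group.mem_conjugatesOfSet_iff.1 hy
      obtain ⟨g, rfl⟩ := isConj_iff.1 hc
      have := hmem a ha g⁻¹
      rwa [inv_inv] at this
    refine hns (Subgroup.IsSubnormal.trans (Subgroup.le_normalClosure) (hsub _ ?_ Subgroup.le_normalClosure)
      Subgroup.normalClosure_normal.isSubnormal)
    exact fun htop => hM.1 (top_le_iff.1 (htop ▸ hncl'))

/-- Let A be a subgroup of a finite group G. If A is subnormal in the subgroup generated by A and its conjugate by g⁻¹ a g, for every a ∈ A and every g ∈ G, then A is subnormal in G. (A sharpening of Wielandt's subnormality criterion: only conjugates of A by conjugates of elements of A are needed.) -/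
theorem result {G : Type*} [Group G] [Finite G]
    (A : Subgroup G)
    (h : ∀ a ∈ A, ∀ g : G, (A.subgroupOf (A ⊔ MulAut.conj (g⁻¹ * a * g) • A)).IsSubnormal) :
    A.IsSubnormal := by
  exact aux _ G le_rfl A h

end Cfsg.Agent.S4333
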