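import Cfsg.Agent.Lib.Transfer.Fusion
import Cfsg.Agent.Lib.FiniteGroup.FittingPow
import Cfsg.Agent.Lib.CN.Basic
import Cfsg.Prelude.Def_HallClasses
import Mathlib.GroupTheory.NoncommCoprod

set_option autoImplicit false
set_option linter.style.haveILetI false

namespace Cfsg.Agent.S4334

open Cfsg.Agent
open scoped Pointwise

variable {G : Type*} [Group G] [Finite G] {H : Subgroup G}

/-- conjugate into the given subgroup -/
private def InH (H K : Subgroup G) : Prop := ∃ g : G, ∀ x ∈ K, g * x * g⁻¹ ∈ H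

omit [Finite G] in
private theorem commute_conj {g x y : G} (h : Commute (g * x * g⁻¹) (g * y * g⁻¹)) : Commute x y :=
  (SemiconjBy.conj_iff).1 h

private theorem sylow_le (π : Set ℕ) (hH : Cfsg.IsPiHall π H) {b : ℕ} [Fact b.Prime] (hb : b ∈ π) :
    ∃ B : Sylow b G, (B : Subgroup G) ≤ H := by
  obtain ⟨S⟩ : Nonempty (Sylow b H) := inferInstance
  have hS : Nat.card ((S : Subgroup H).map H.subtype) = b ^ (Nat.card G).factorization b := by
    rw [← Nat.card_congr ((S : Subgroup H).equivMapOfInjective _ H.subtype_injective).toEquiv,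
      S.card_eq_multiplicity, ← H.card_mul_index,
      Nat.factorization_mul Nat.card_pos.ne' Subgroup.index_ne_zero_of_finite, Finsupp.add_apply,
      Nat.factorization_eq_zero_of_not_dvd (hH.2 b Fact.out hb), add_zero]
  exact ⟨Sylow.ofCard _ hS, fun x hx => Subgroup.map_subtype_le (S : Subgroup H) hx⟩

private theorem mem_centralizer_of {Q : Subgroup G} {b : ℕ} [hb : Fact b.Prime] (B : Sylow b G)
    (hB : ∀ x ∈ Q, ∀ y ∈ (B : Subgroup G), Commute x y) {g : G}
    (hg : g ∈ Subgroup.normalizer (Q : Set G)) {k : ℕ} (hgo : orderOf g = b ^ k) :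
    g ∈ Subgroup.centralizer (Q : Set G) := by
  set C := Subgroup.centralizer (Q : Set G) with hC
  set N := Subgroup.normalizer (Q : Set G) with hN
  have hCN : C ≤ N := by
    intro c hc
    rw [hN, Subgroup.mem_normalizer_iff]
    intro x
    constructor
    · intro hx
      rwa [← hc x hx, mul_inv_cancel_right]
    · intro hx
      have h1 : c * x * c⁻¹ * c = c * (c * x * c⁻¹) := hc _ hx
      rw [inv_mul_cancel_right] at h1
      rwa [← mul_left_cancel h1] at hx
  have hBC : (B : Subgroup G) ≤ C := fun y hy => Subgroup.mem_centralizer_iff.2 fun x hx => hB x hx y hy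
  haveI : (C.subgroupOf N).Normal := by
    refine ⟨fun c hc n => ?_⟩
    rw [Subgroup.mem_subgroupOf] at hc ⊢
    rw [hC, Subgroup.mem_centralizer_iff] at hc ⊢
    intro x hx
    show x * ((n : G) * c * (n : G)⁻¹) = (n : G) * c * (n : G)⁻¹ * x
    have hx' : (n : G)⁻¹ * x * (n : G) ∈ Q := by
      have := (Subgroup.mem_normalizer_iff.1 (inv_mem (n.2 : (n : G) ∈ N)) x).1 hx
      rwa [inv_inv] at this
    have h1 := hc _ hx'
    calc x * ((n : G) * c * (n : G)⁻¹) = (n : G) * ((n : G)⁻¹ * x * (n : G) * c) * (n : G)⁻¹ := by group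
      _ = (n : G) * ((c : G) * ((n : G)⁻¹ * x * (n : G))) * (n : G)⁻¹ := by rw [h1]
      _ = _ := by group
  have hidx : ¬ b ∣ (C.subgroupOf N).index := by
    intro hd
    apply B.not_dvd_index
    refine hd.trans ((Subgroup.relIndex_dvd_of_le_left N hBC).trans ?_)
    exact Dvd.intro _ (Subgroup.relIndex_mul_index (hBC.trans hCN))
  have hg1 : (QuotientGroup.mk' (C.subgroupOf N)) ⟨g, hg⟩ = 1 := by
    rw [← orderOf_eq_one_iff]
    refine Nat.eq_one_of_dvd_coprimes ((hb.out.coprime_iff_not_dvd.2 hidx).pow_left k) ?_ ?_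
    · rw [← hgo, ← Subgroup.orderOf_mk g hg]; exact orderOf_map_dvd _ _
    · exact orderOf_dvd_natCard _
  exact (QuotientGroup.eq_one_iff (N := C.subgroupOf N) _).1 hg1

omit [Finite G] in
private theorem le_range {Hs Ht : Subgroup G} (hjoin : Hs ⊔ Ht = H)
    (hcomm : ∀ a ∈ Hs, ∀ b ∈ Ht, a * b = b * a) :
    H ≤ (MonoidHom.noncommCoprod Hs.subtype Ht.subtype
      (fun (a : Hs) (b : Ht) => (hcomm (a : G) a.2 (b : G) b.2 : _))).range := by
  rw [← hjoin, sup_le_iff]
  exact ⟨fun x hx => ⟨(⟨x, hx⟩, 1), mul_one x⟩, fun x hx => ⟨(1, ⟨x, hx⟩), one_mul x⟩⟩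

private theorem decomp {Hs Ht : Subgroup G} (hjoin : Hs ⊔ Ht = H)
    (hcomm : ∀ a ∈ Hs, ∀ b ∈ Ht, a * b = b * a) {h : G} (hh : h ∈ H) :
    ∃ s ∈ Hs, ∃ t ∈ Ht, s * t = h := by
  obtain ⟨⟨s, t⟩, hst⟩ := le_range hjoin hcomm hh
  exact ⟨s, s.2, t, t.2, hst⟩

theorem result {G : Type*} [Group G] [Finite G]
    (σ τ π : Set ℕ) (hπ : π = σ ∪ τ) (hd : Disjoint σ τ) (H Hs Ht : Subgroup G) (hH : Cfsg.IsPiHall π H)
    (hs : Cfsg.IsPiSubgroup σ Hs) (ht : Cfsg.IsPiSubgroup τ Ht) (hsn : Group.IsNilpotent Hs)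
    (hjoin : Hs ⊔ Ht = H) (hcomm : ∀ a ∈ Hs, ∀ b ∈ Ht, a * b = b * a) (hD : Cfsg.IsDPiGroup τ G) :
    Cfsg.IsDPiGroup π G := by
  have hHs : Hs ≤ H := hjoin ▸ le_sup_left
  have hHt : Ht ≤ H := hjoin ▸ le_sup_right
  have hdisj : Hs ⊓ Ht = ⊥ := by
    rw [← Subgroup.card_eq_one]
    by_contra hne
    obtain ⟨r, hr, hrd⟩ := Nat.exists_prime_and_dvd hne
    exact Set.disjoint_left.1 hd (hs r hr (hrd.trans (Subgroup.card_dvd_of_le inf_le_left)))
      (ht r hr (hrd.trans (Subgroup.card_dvd_of_le inf_le_right)))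
  -- elements of coprime order commute when one of the primes lies in `σ`
  have hcommH : ∀ (a : ℕ), a.Prime → a ∈ σ → ∀ x ∈ H, ∀ y ∈ H, (∃ i, orderOf x = a ^ i) →
      (orderOf y).Coprime a → Commute x y := by
    intro a ha haσ x hx y hy ⟨i, hxo⟩ hya
    have comp : ∀ h ∈ H, ∃ s ∈ Hs, ∃ t ∈ Ht, s * t = h ∧ orderOf s ∣ orderOf h ∧ orderOf t ∣ orderOf h := by
      intro h hh
      obtain ⟨s, hs', t, ht', hst⟩ := decomp hjoin hcomm hh
      have hc : Commute s t := hcomm s hs' t ht'
      have h1 : s ^ orderOf h * t ^ orderOf h = 1 := by rw [← hc.mul_pow, hst, pow_orderOf_eq_one]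
      have h2 : s ^ orderOf h ∈ Hs ⊓ Ht :=
        ⟨pow_mem hs' _, by rw [eq_inv_of_mul_eq_one_left h1]; exact Ht.inv_mem (Ht.pow_mem ht' _)⟩
      rw [hdisj, Subgroup.mem_bot] at h2
      rw [h2, one_mul] at h1
      exact ⟨s, hs', t, ht', hst, orderOf_dvd_of_pow_eq_one h2, orderOf_dvd_of_pow_eq_one h1⟩
    obtain ⟨s, hs', t, ht', hst, hso, hto⟩ := comp x hx
    have ht1 : t = 1 := by
      rw [← orderOf_eq_one_iff]
      by_contra hne
      obtain ⟨r, hr, hrd⟩ := Nat.exists_prime_and_dvd hne
      have hra : r = a := (Nat.prime_dvd_prime_iff_eq hr ha).1 (hr.dvd_of_dvd_pow (hxo ▸ hrd.trans hto))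
      exact Set.disjoint_left.1 hd haσ
        (hra ▸ ht r hr (hrd.trans (Subgroup.orderOf_dvd_natCard Ht ht')))
    rw [ht1, mul_one] at hst
    subst hst
    obtain ⟨s', hs'', t', ht'', hst', hso', -⟩ := comp y hy
    rw [← hst']
    refine Commute.mul_right (CN.commute_of_coprime hsn hs' hs'' ?_) (hcomm s hs' t' ht'')
    rw [hxo]
    exact ((hya.coprime_dvd_left hso').pow_right i).symm
  -- Hall's conclusion
  have main : ∀ (n : ℕ) (K : Subgroup G), Nat.card K = n → Cfsg.IsPiSubgroup π K → InH H K := by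
    intro n
    induction n using Nat.strong_induction_on with
    | _ n ih =>
      intro K hn hK
      subst hn
      by_cases hKσ : ∃ a : ℕ, a.Prime ∧ a ∈ σ ∧ a ∣ Nat.card K
      swap
      · have hKτ : Cfsg.IsPiSubgroup τ K := fun r hr hrd =>
          (hπ ▸ hK r hr hrd : r ∈ σ ∪ τ).resolve_left fun h => hKσ ⟨r, hr, h, hrd⟩
        obtain ⟨M, hKM, hM⟩ := Finite.exists_le_maximal (p := Cfsg.IsPiSubgroup τ) hKτ
        have hHtmax : Maximal (Cfsg.IsPiSubgroup τ) Ht := by
          refine ⟨ht, fun T hT hle => ?_⟩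
          refine Subgroup.relIndex_eq_one.1 ?_
          by_contra hne
          obtain ⟨r, hr, hrd⟩ := Nat.exists_prime_and_dvd hne
          have hrτ : r ∈ τ := hT r hr (hrd.trans (Subgroup.relIndex_dvd_card _ _))
          have h1 : r ∣ Ht.index := by
            rw [← Subgroup.relIndex_mul_index hle]; exact hrd.mul_right _
          rw [← Subgroup.relIndex_mul_index hHt] at h1
          rcases (Nat.Prime.dvd_mul hr).1 h1 with h2 | h2
          · have h3 : r ∣ Nat.card Hs := by
              have hcard : Nat.card H ∣ Nat.card Hs * Nat.card Ht := by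
                rw [← Nat.card_prod]
                exact (Subgroup.card_dvd_of_le (le_range hjoin hcomm)).trans (Subgroup.card_range_dvd _)
              have h4 : Ht.relIndex H * Nat.card Ht = Nat.card H := by
                rw [mul_comm]; exact PBasic.card_mul_relIndex hHt
              rw [← h4] at hcard
              exact h2.trans (Nat.dvd_of_mul_dvd_mul_right Nat.card_pos hcard)
            exact Set.disjoint_left.1 hd (hs r hr h3) hrτ
          · exact hH.2 r hr (hπ ▸ Or.inr hrτ) h2
        obtain ⟨g, hg⟩ := hD Ht M hHtmax hM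
        refine ⟨g⁻¹, fun x hx => hHt ?_⟩
        obtain ⟨y, hy, hyx⟩ := hg ▸ hKM hx
        have : g⁻¹ * x * g⁻¹⁻¹ = y := by
          rw [← hyx]
          show g⁻¹ * (g * y * g⁻¹) * g⁻¹⁻¹ = y
          group
        rwa [this]
      obtain ⟨a, ha, haσ, hadvd⟩ := hKσ
      haveI := Fact.mk ha
      have hproper : ∀ L : Subgroup K, L ≠ ⊤ → InH H (L.map K.subtype) := by
        intro L hL
        refine ih _ ?_ _ rfl fun r hr hrd =>
          hK r hr (hrd.trans (Subgroup.card_dvd_of_le (Subgroup.map_subtype_le L)))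
        rw [← Nat.card_congr (L.equivMapOfInjective _ K.subtype_injective).toEquiv]
        exact lt_of_le_of_ne (Subgroup.card_le_card_group L) fun e => hL (Subgroup.eq_top_of_card_eq L e)
      -- a normal subgroup is centralised by the elements it can be normalised by
      have hcent : ∀ (Q : Subgroup K), Q ≠ ⊤ → ∀ (c b : ℕ), c.Prime → b.Prime → c ≠ b →
          (c ∈ σ ∨ b ∈ σ) → IsPGroup c Q → b ∈ π → ∀ g : K, (∃ k, orderOf g = b ^ k) →
          g ∈ Subgroup.normalizer (Q : Set K) → g ∈ Subgroup.centralizer (Q : Set K) := by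
        intro Q hQ c b hc hb hcb hσ hQp hbπ g ⟨k, hgo⟩ hgN
        haveI := Fact.mk hb
        haveI := Fact.mk hc
        obtain ⟨w, hw⟩ := hproper Q hQ
        obtain ⟨B, hBH⟩ := sylow_le π hH hbπ
        have hB : ∀ x ∈ Q.map K.subtype, ∀ y ∈ ((w⁻¹ • B : Sylow b G) : Subgroup G), Commute x y := by
          rintro _ ⟨x, hx, rfl⟩ y hy
          rw [Sylow.coe_subgroup_smul, Subgroup.mem_pointwise_smul_iff_inv_smul_mem, ← map_inv,
            MulAut.smul_def, MulAut.conj_apply, inv_inv] at hy
          obtain ⟨i, hi⟩ := IsPGroup.iff_orderOf.1 hQp ⟨x, hx⟩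
          rw [Subgroup.orderOf_mk] at hi
          obtain ⟨j, hj⟩ := IsPGroup.iff_orderOf.1 B.isPGroup' ⟨_, hy⟩
          rw [Subgroup.orderOf_mk] at hj
          have hxo : orderOf (w * (x : G) * w⁻¹) = c ^ i := by
            rw [← MulAut.conj_apply, MulEquiv.orderOf_eq, Subgroup.orderOf_coe, hi]
          have hxH := hw _ (Subgroup.mem_map_of_mem K.subtype hx)
          have hcop : Nat.Coprime c b := (Nat.coprime_primes hc hb).2 hcb
          refine commute_conj (g := w) ?_
          rcases hσ with h | h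
          · exact hcommH c hc h _ hxH _ (hBH hy) ⟨i, hxo⟩ (by rw [hj]; exact hcop.symm.pow_left j)
          · exact (hcommH b hb h _ (hBH hy) _ hxH ⟨j, hj⟩ (by rw [Subgroup.subtype_apply, hxo]; exact hcop.pow_left i)).symm
        have hgN' : (g : G) ∈ Subgroup.normalizer ((Q.map K.subtype : Subgroup G) : Set G) :=
          Q.le_normalizer_map K.subtype (Subgroup.mem_map_of_mem K.subtype hgN)
        have := mem_centralizer_of (w⁻¹ • B) hB hgN' ((Subgroup.orderOf_coe g).trans hgo)
        exact fun x hx => Subtype.ext (this (x : G) (Subgroup.mem_map_of_mem K.subtype hx))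
      -- a normal complement
      have hnpc : Cfsg.HasNormalPComplement a K := by
        refine Fusion.hasNormalPComplement_of_frobenius fun D hD g hgN hgo => ?_
        refine FiniteGroup.mem_of_primePow_mem _ g fun b hb y hy ⟨k, hyo⟩ => ?_
        by_cases hy1 : y = 1
        · rw [hy1]; exact one_mem _
        have hk : k ≠ 0 := by rintro rfl; exact hy1 (orderOf_eq_one_iff.1 (by rw [hyo, pow_zero]))
        have hbG : b ∣ orderOf g :=
          (dvd_pow_self b hk).trans (hyo ▸ orderOf_dvd_of_mem_zpowers hy)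
        have hab : a ≠ b := fun e => ha.ne_one (Nat.eq_one_of_dvd_coprimes hgo (e ▸ hbG) dvd_rfl)
        have hDt : D ≠ ⊤ := fun e => by
          have hyD : y ∈ D := e ▸ Subgroup.mem_top y
          obtain ⟨i, hi⟩ := IsPGroup.iff_orderOf.1 hD ⟨y, hyD⟩
          rw [Subgroup.orderOf_mk, hyo] at hi
          exact hab ((Nat.prime_dvd_prime_iff_eq hb ha).1
            (hb.dvd_of_dvd_pow (hi ▸ dvd_pow_self b hk))).symm
        refine hcent D hDt a b ha hb hab (Or.inl haσ) hD ?_ y ⟨k, hyo⟩
          (Subgroup.zpowers_le.2 hgN hy)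
        refine hK b hb (hbG.trans ?_)
        exact orderOf_dvd_natCard g
      obtain ⟨N, hNn, hNc, l, hl⟩ := PBasic.hasNormalPComplement_iff.1 hnpc
      haveI := hNn
      obtain ⟨P⟩ : Nonempty (Sylow a K) := inferInstance
      have hNt : N ≠ ⊤ := fun e => by
        rw [e, Subgroup.card_top] at hNc
        exact ha.ne_one (Nat.eq_one_of_dvd_coprimes hNc hadvd dvd_rfl)
      have hsup : (P : Subgroup K) ⊔ N = ⊤ := PBasic.sylow_sup_eq_top P (IsPGroup.of_card hl)
      -- the Sylow subgroup centralises the complement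
      have hPN : N ≤ Subgroup.centralizer (P : Set K) := by
        have hle : ∀ b : ℕ, b.Prime → b ^ (Nat.card N).factorization b ∣
            Nat.card (N ⊓ Subgroup.centralizer (P : Set K) : Subgroup K) := by
          intro b hb
          haveI := Fact.mk hb
          by_cases hbN : b ∣ Nat.card N
          swap
          · rw [Nat.factorization_eq_zero_of_not_dvd hbN, pow_zero]; exact one_dvd _
          have hab : b ≠ a := fun e => ha.ne_one (Nat.eq_one_of_dvd_coprimes hNc (e ▸ hbN) dvd_rfl)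
          obtain ⟨S₀⟩ : Nonempty (Sylow b N) := inferInstance
          set S := (S₀ : Subgroup N).map N.subtype with hS
          have hfr : Subgroup.normalizer (S : Set K) ⊔ N = ⊤ := Sylow.normalizer_sup_eq_top S₀
          obtain ⟨Q⟩ : Nonempty (Sylow a (Subgroup.normalizer (S : Set K))) := inferInstance
          set Q' := (Q : Subgroup (Subgroup.normalizer (S : Set K))).map
            (Subgroup.normalizer (S : Set K)).subtype with hQ'
          have hQc : Nat.card Q' = a ^ (Nat.card K).factorization a := by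
            rw [hQ', ← Nat.card_congr ((Q : Subgroup (Subgroup.normalizer (S : Set K))).equivMapOfInjective _
              (Subgroup.normalizer (S : Set K)).subtype_injective).toEquiv, Q.card_eq_multiplicity]
            congr 1
            have hidx : ¬ a ∣ (Subgroup.normalizer (S : Set K)).index := by
              intro hd'
              have h1 : (Subgroup.normalizer (S : Set K)).index ∣ Nat.card N := by
                rw [← Subgroup.relIndex_top_right, ← hfr,
                  PBasic.relIndex_eq_relIndex_sup_left (Subgroup.normalizer (S : Set K)) N]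
                exact Subgroup.relIndex_dvd_card _ _
              exact ha.ne_one (Nat.eq_one_of_dvd_coprimes hNc (hd'.trans h1) dvd_rfl)
            rw [← (Subgroup.normalizer (S : Set K)).card_mul_index,
              Nat.factorization_mul Nat.card_pos.ne' Subgroup.index_ne_zero_of_finite, Finsupp.add_apply,
              Nat.factorization_eq_zero_of_not_dvd hidx, add_zero]
          have hSp : IsPGroup b S := S₀.isPGroup'.map _
          have hSN : S ≤ N := Subgroup.map_subtype_le _
          have hSt : S ≠ ⊤ := fun e => hNt (top_le_iff.1 (e ▸ hSN))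
          have hQS : ∀ q ∈ Q', q ∈ Subgroup.centralizer (S : Set K) := by
            intro q hq
            have hQp : IsPGroup a Q' := IsPGroup.of_card hQc
            obtain ⟨i, hi⟩ := IsPGroup.iff_orderOf.1 hQp ⟨q, hq⟩
            rw [Subgroup.orderOf_mk] at hi
            exact hcent S hSt b a hb ha hab (Or.inr haσ) hSp (hπ ▸ Or.inl haσ) q ⟨i, hi⟩
              (Subgroup.map_subtype_le _ hq)
          obtain ⟨u, hu⟩ := MulAction.exists_smul_eq K (Sylow.ofCard Q' hQc) P
          have hu' : MulAut.conj u • Q' = (P : Subgroup K) := by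
            rw [← hu, Sylow.coe_subgroup_smul]; rfl
          have hle' : MulAut.conj u • S ≤ N ⊓ Subgroup.centralizer (P : Set K) := by
            intro z hz
            rw [Subgroup.mem_pointwise_smul_iff_inv_smul_mem, ← map_inv, MulAut.smul_def,
              MulAut.conj_apply, inv_inv] at hz
            refine ⟨?_, ?_⟩
            · have := hNn.conj_mem _ (hSN hz) u
              rwa [show u * (u⁻¹ * z * u) * u⁻¹ = z by group] at this
            · intro x hx
              replace hx : x ∈ (P : Subgroup K) := hx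
              rw [← hu', Subgroup.mem_pointwise_smul_iff_inv_smul_mem, ← map_inv,
                MulAut.smul_def, MulAut.conj_apply, inv_inv] at hx
              have h1 : Commute (u⁻¹ * z * u⁻¹⁻¹) (u⁻¹ * x * u⁻¹⁻¹) := by
                rw [inv_inv]; exact (hQS _ hx _ hz)
              exact ((SemiconjBy.conj_iff).1 h1).symm
          refine dvd_trans ?_ (Subgroup.card_dvd_of_le hle')
          rw [← Nat.card_congr (Subgroup.equivSMul (MulAut.conj u) S).toEquiv, hS,
            ← Nat.card_congr ((S₀ : Subgroup N).equivMapOfInjective _ N.subtype_injective).toEquiv,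
            S₀.card_eq_multiplicity]
        have : N ⊓ Subgroup.centralizer (P : Set K) = N := by
          refine Subgroup.eq_of_le_of_card_ge inf_le_left (Nat.le_of_dvd Nat.card_pos ?_)
          refine (Nat.dvd_iff_prime_pow_dvd_dvd _ _).2 fun b i hb hbi => ?_
          refine (Nat.pow_dvd_pow b ?_).trans (hle b hb)
          exact (hb.pow_dvd_iff_le_factorization Nat.card_pos.ne').1 hbi
        exact inf_eq_left.1 this
      -- embed
      obtain ⟨g, hg⟩ := hproper N hNt
      haveI := Fact.mk ha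
      obtain ⟨B, hBH⟩ := sylow_le π hH (b := a) (hπ ▸ Or.inl haσ)
      set C := Subgroup.centralizer ((N.map K.subtype : Subgroup G) : Set G) with hC
      have hBC : (((g⁻¹ • B : Sylow a G)) : Subgroup G) ≤ C := by
        intro y hy
        rw [Sylow.coe_subgroup_smul, Subgroup.mem_pointwise_smul_iff_inv_smul_mem, ← map_inv,
          MulAut.smul_def, MulAut.conj_apply, inv_inv] at hy
        rintro _ ⟨x, hx, rfl⟩
        obtain ⟨j, hj⟩ := IsPGroup.iff_orderOf.1 B.isPGroup' ⟨_, hy⟩
        rw [Subgroup.orderOf_mk] at hj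
        refine (commute_conj (g := g) (hcommH a ha haσ _ (hBH hy) _
          (hg _ (Subgroup.mem_map_of_mem K.subtype hx)) ⟨j, hj⟩ ?_)).symm
        rw [← MulAut.conj_apply, MulEquiv.orderOf_eq, Subgroup.subtype_apply, Subgroup.orderOf_coe]
        exact PBasic.coprime_orderOf_of_mem hNc hx
      have hPC : (P : Subgroup K).map K.subtype ≤ C := by
        rintro _ ⟨x, hx, rfl⟩ _ ⟨y, hy, rfl⟩
        exact congrArg Subtype.val (hPN hy x hx).symm
      obtain ⟨T, hT⟩ := ((P.isPGroup'.map K.subtype).comap_subtype (K := C)).exists_le_sylow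
      obtain ⟨c, hc⟩ := MulAction.exists_smul_eq C ((g⁻¹ • B : Sylow a G).subtype hBC) T
      refine ⟨g * (c : G)⁻¹, ?_⟩
      have hKle : K ≤ (H.comap (MulAut.conj (g * (c : G)⁻¹)).toMonoidHom) := by
        have : (⊤ : Subgroup K).map K.subtype = K := by rw [← MonoidHom.range_eq_map, Subgroup.range_subtype]
        rw [← this, ← hsup, Subgroup.map_sup, sup_le_iff]
        refine ⟨?_, ?_⟩
        · intro x hx
          show g * (c : G)⁻¹ * x * (g * (c : G)⁻¹)⁻¹ ∈ H
          have h1 : (⟨x, hPC hx⟩ : C) ∈ (T : Subgroup C) := hT hx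
          rw [← hc, Sylow.coe_subgroup_smul, Subgroup.mem_pointwise_smul_iff_inv_smul_mem, ← map_inv,
            MulAut.smul_def, MulAut.conj_apply, inv_inv, Sylow.coe_subtype, Subgroup.mem_subgroupOf,
            Sylow.coe_subgroup_smul, Subgroup.mem_pointwise_smul_iff_inv_smul_mem, ← map_inv,
            MulAut.smul_def, MulAut.conj_apply, inv_inv] at h1
          rw [show g * (c : G)⁻¹ * x * (g * (c : G)⁻¹)⁻¹ = g * ((c : G)⁻¹ * x * (c : G)) * g⁻¹ by group]
          exact hBH h1
        · intro x hx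
          show g * (c : G)⁻¹ * x * (g * (c : G)⁻¹)⁻¹ ∈ H
          have h1 : x * (c : G) = (c : G) * x := c.2 x hx
          rw [show g * (c : G)⁻¹ * x * (g * (c : G)⁻¹)⁻¹ = g * ((c : G)⁻¹ * (x * (c : G))) * g⁻¹ by group,
            h1, inv_mul_cancel_left]
          exact hg x hx
      exact fun x hx => hKle hx
  -- maximal subgroups are conjugate
  intro A B hA hB
  have hmax : ∀ A : Subgroup G, Maximal (Cfsg.IsPiSubgroup π) A →
      ∃ g : G, A = H.map (MulAut.conj g).toMonoidHom := by
    intro A hA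
    obtain ⟨g, hg⟩ := main _ A rfl hA.1
    refine ⟨g⁻¹, le_antisymm ?_ (hA.2 ?_ ?_)⟩
    · intro x hx
      exact ⟨g * x * g⁻¹, hg x hx, by show g⁻¹ * (g * x * g⁻¹) * g⁻¹⁻¹ = x; group⟩
    · intro r hr hrd
      exact hH.1 r hr (hrd.trans (Subgroup.card_map_dvd _ _))
    · intro x hx
      exact ⟨g * x * g⁻¹, hg x hx, by show g⁻¹ * (g * x * g⁻¹) * g⁻¹⁻¹ = x; group⟩
  obtain ⟨u, rfl⟩ := hmax A hA
  obtain ⟨v, rfl⟩ := hmax B hB
  refine ⟨v * u⁻¹, ?_⟩
  rw [Subgroup.map_map]
  congr 1
  ext x
  show v * x * v⁻¹ = v * u⁻¹ * (u * x * u⁻¹) * (v * u⁻¹)⁻¹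
  group

end Cfsg.Agent.S4334
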