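import Cfsg.Statements.S4337
import Cfsg.Agent.Lib.FiniteGroup.PermSmall

set_option autoImplicit false
open Cfsg

namespace Cfsg.Agent.S4337

/-- In a finite symmetric group, any three transpositions generate a solvable subgroup. -/
theorem result (n : ℕ) (a b c : Equiv.Perm (Fin n))
    (ha : a.IsSwap) (hb : b.IsSwap) (hc : c.IsSwap) :
    Group.IsSolvable (Subgroup.closure ({a, b, c} : Set (Equiv.Perm (Fin n)))) := by
  obtain ⟨f, φ, hφ, hcard⟩ := PermSmall.exists_fibre_embedding [a, b, c] (by
    intro σ hσ
    rcases List.mem_cons.1 hσ with rfl | hσ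
    · exact ha
    rcases List.mem_cons.1 hσ with rfl | hσ
    · exact hb
    rcases List.mem_cons.1 hσ with rfl | hσ
    · exact hc
    · simp at hσ)
  have he : ({a, b, c} : Set (Equiv.Perm (Fin n))) = {σ | σ ∈ [a, b, c]} := by ext; simp
  rw [he]
  haveI := PermSmall.isSolvable_pi (fun b => Equiv.Perm {x // f x = b})
    fun b => PermSmall.isSolvable_perm_of_card_le_four (hcard b)
  exact Group.isSolvable_of_isSolvable_injective hφ

end Cfsg.Agent.S4337
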