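import Cfsg.Statements.S4339
import Cfsg.Agent.Lib.SylowNumPSquare.Simple
import Cfsg.Agent.Lib.FiniteGroup.SylowNumbers
import Cfsg.Agent.Lib.PLocal.PSolvable

set_option autoImplicit false
set_option linter.style.haveILetI false
open Cfsg

namespace Cfsg.Agent.S4339

universe u

/-- In a `p`-solvable group every prime-power part of the number of Sylow `p`-subgroups is `1` modulo `p`. -/
theorem good_of_psolvable (G : Type u) [Group G] [Finite G] (p : ℕ) [hp : Fact p.Prime]
    (h : Cfsg.IsPSolvable p G) : SylowNumbers.Good p (Nat.card (Sylow p G)) := by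
  refine SylowNumbers.induction_sylow p (SylowNumbers.Good p)
    (fun a b ha0 hb0 ha hb => ha.mul hb ha0 hb0) (fun n _ hn => hn)
    (fun G' i => @Cfsg.IsPSolvable p G' i) (fun G' _ H hG => PSolvable.subgroup H hG)
    (fun G' _ H _ hG => PSolvable.quotient H hG) ?_ G h
  intro T _ _ hT hsol
  obtain ⟨n, H, h0, hlast, -, hnorm, hfac⟩ := hsol
  obtain ⟨i, hib, hit⟩ : ∃ i : Fin n, H i.castSucc = ⊥ ∧ H i.succ = ⊤ := by
    by_contra hcon
    push Not at hcon
    haveI := hT
    have hall : ∀ i : Fin (n + 1), H i = ⊥ := by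
      intro i
      induction i using Fin.induction with
      | zero => exact h0
      | succ i ih => exact ((hnorm i.succ).eq_bot_or_eq_top).resolve_right (hcon i ih)
    exact bot_ne_top ((hall (Fin.last n)).symm.trans hlast)
  have hc := hfac i
  rw [hib, hit, Subgroup.relIndex_bot_left, Subgroup.card_top] at hc
  obtain ⟨P⟩ : Nonempty (Sylow p T) := inferInstance
  have h1 : Nat.card (Sylow p T) = 1 := by
    rw [Sylow.card_eq_index_normalizer P, Subgroup.index_eq_one]
    have hPn : (P : Subgroup T).Normal := by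
      rcases hc with ⟨m, hm⟩ | hco
      · have : (P : Subgroup T) = ⊤ := by
          have hT2 : IsPGroup p (⊤ : Subgroup T) := IsPGroup.of_card (n := m) (by rw [Subgroup.card_top, hm])
          exact (P.3 hT2 le_top).symm
        rw [this]; infer_instance
      · have : (P : Subgroup T) = ⊥ := by
          refine Subgroup.card_eq_one.1 ?_
          rw [P.card_eq_multiplicity, Nat.factorization_eq_zero_of_not_dvd
            (hp.out.coprime_iff_not_dvd.1 hco.symm), pow_zero]
        rw [this]; infer_instance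
    exact Subgroup.normalizer_eq_top_iff.2 hPn
  rw [h1]
  exact SylowNumbers.good_one

/-- A number below `p²` all of whose prime-power parts are `1` modulo `p` is a prime power. -/
theorem exists_prime_pow {p n : ℕ} (hn : n < p ^ 2) (hn0 : n ≠ 0) (hg : SylowNumbers.Good p n) :
    ∃ q k : ℕ, q.Prime ∧ n = q ^ k := by
  rcases eq_or_ne n 1 with rfl | h1
  · exact ⟨2, 0, Nat.prime_two, rfl⟩
  obtain ⟨l, hl, hln⟩ := Nat.exists_prime_and_dvd h1
  refine ⟨l, n.factorization l, hl, ?_⟩
  by_contra hne
  have hd : l ^ n.factorization l ∣ n := Nat.ordProj_dvd n l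
  obtain ⟨m, hm⟩ := hd
  have hm1 : m ≠ 1 := fun h => hne (by rw [h, mul_one] at hm; exact hm)
  obtain ⟨r, hr, hrm⟩ := Nat.exists_prime_and_dvd hm1
  have hrl : r ≠ l := by
    rintro rfl
    refine Nat.pow_succ_factorization_not_dvd hn0 hl ?_
    rw [pow_succ]
    obtain ⟨c, hc⟩ := hrm
    exact ⟨c, hm.trans (by rw [hc, mul_assoc])⟩
  have hbig : ∀ x : ℕ, x.Prime → x ∣ n → p < x ^ n.factorization x := by
    intro x hx hxn
    have h2 : 1 < x ^ n.factorization x :=
      Nat.one_lt_pow (Nat.one_le_iff_ne_zero.1 ((hx.dvd_iff_one_le_factorization hn0).1 hxn)) hx.one_lt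
    by_contra hle
    push Not at hle
    have h3 := hg x hx
    rcases eq_or_lt_of_le hle with h | h
    · rw [h, Nat.mod_self] at h3; exact zero_ne_one h3
    · rw [Nat.mod_eq_of_lt h] at h3; omega
  have hrn : r ∣ n := hrm.trans ⟨_, hm.trans (mul_comm _ _)⟩
  have h4 : l ^ n.factorization l * r ^ n.factorization r ∣ n :=
    (Nat.Coprime.pow _ _ ((Nat.coprime_primes hl hr).2 (Ne.symm hrl))).mul_dvd_of_dvd_of_dvd
      (Nat.ordProj_dvd n l) (Nat.ordProj_dvd n r)
  have h5 := Nat.le_of_dvd (Nat.pos_of_ne_zero hn0) h4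
  have h6 := Nat.mul_le_mul (hbig l hl hln).le (hbig r hr hrn).le
  rw [← pow_two] at h6
  omega

/-- Fewer than `p²` Sylow subgroups in prime power number give `p`-solvability. -/
theorem psolvable_of_prime_pow (p : ℕ) [hp : Fact p.Prime] (hM : ¬ (3 < p ∧ ∃ k : ℕ, p + 1 = 2 ^ k)) :
    ∀ (n : ℕ) (G : Type u) [Group G] [Finite G], Nat.card G = n → Nat.card (Sylow p G) < p ^ 2 →
      (∃ q k : ℕ, q.Prime ∧ Nat.card (Sylow p G) = q ^ k) → Cfsg.IsPSolvable p G := by
  intro n
  induction n using Nat.strong_induction_on with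
  | _ n ih =>
    intro G _ _ hn hlt ⟨q, k, hq, hk⟩
    by_cases hK : ∃ K : Subgroup G, K.Normal ∧ K ≠ ⊥ ∧ K ≠ ⊤
    · obtain ⟨K, hKn, hK1, hKtop⟩ := hK
      obtain ⟨P⟩ : Nonempty (Sylow p G) := inferInstance
      have hmul := SylowNumbers.card_sylow_eq_mul P K _ rfl
      have hd1 : Nat.card (Sylow p (G ⧸ K)) ∣ Nat.card (Sylow p G) :=
        ⟨_, hmul.trans (mul_assoc _ _ _)⟩
      have hd2 : Nat.card (Sylow p K) ∣ Nat.card (Sylow p G) :=
        ⟨_, hmul.trans (by rw [mul_comm (Nat.card (Sylow p (G ⧸ K))), mul_assoc])⟩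
      have key : ∀ d : ℕ, d ∣ Nat.card (Sylow p G) → d < p ^ 2 ∧ ∃ q k : ℕ, q.Prime ∧ d = q ^ k :=
        fun d hd => by
          obtain ⟨j, -, hj⟩ := (Nat.dvd_prime_pow hq).1 (hk ▸ hd)
          exact ⟨(Nat.le_of_dvd Nat.card_pos hd).trans_lt hlt, q, j, hq, hj⟩
      have hcard := Subgroup.card_eq_card_quotient_mul_card_subgroup K
      have h2 : 1 < Nat.card K := (Subgroup.one_lt_card_iff_ne_bot K).2 hK1
      have h3 : 1 < Nat.card (G ⧸ K) := by
        have := Subgroup.index_ne_zero_of_finite (H := K)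
        have h1 : K.index ≠ 1 := fun e => hKtop (Subgroup.index_eq_one.1 e)
        show 1 < K.index
        omega
      refine PSolvable.of_extension K ?_ ?_
      · exact ih _ (by rw [← hn, hcard]; exact lt_mul_of_one_lt_left Nat.card_pos h3) K rfl
          (key _ hd2).1 (key _ hd2).2
      · exact ih _ (by rw [← hn, hcard]; exact lt_mul_of_one_lt_right Nat.card_pos h2) _ rfl
          (key _ hd1).1 (key _ hd1).2
    · rcases subsingleton_or_nontrivial G with hG1 | hG1
      · exact PSolvable.of_coprime (by rw [Nat.card_unique]; exact Nat.coprime_one_left p)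
      haveI : IsSimpleGroup G := ⟨fun K hKn => by
        by_contra hcon
        push Not at hcon
        exact hK ⟨K, hKn, hcon.1, hcon.2⟩⟩
      by_cases hdiv : p ∣ Nat.card G
      · by_cases hna : IsMulCommutative G
        · letI : CommGroup G := { ‹Group G› with mul_comm := hna.is_comm.comm }
          exact PSolvable.of_solvable inferInstance
        · exact absurd (SylowNumPSquare.simple_pp hna p hdiv hlt hq hk) hM
      · exact PSolvable.of_coprime (Nat.coprime_comm.1 (hp.out.coprime_iff_not_dvd.2 hdiv))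

/-- Let G be a finite group and p a prime such that it is not the case that p > 3 with p + 1 a power of 2. If the number of Sylow p-subgroups of G is less than p², then G is p-solvable if and only if that number is a power of a prime (possibly 1). -/
theorem result {G : Type*} [Group G] [Finite G]
    (p : ℕ) [Fact p.Prime] (hp : ¬ (3 < p ∧ ∃ k : ℕ, p + 1 = 2 ^ k)) (hn : Nat.card (Sylow p G) < p ^ 2) :
    Cfsg.IsPSolvable p G ↔ ∃ q k : ℕ, q.Prime ∧ Nat.card (Sylow p G) = q ^ k := by
  exact ⟨fun h => exists_prime_pow hn Nat.card_pos.ne' (good_of_psolvable G p h),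
    psolvable_of_prime_pow p hp _ G rfl hn⟩

end Cfsg.Agent.S4339
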