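import Cfsg.Statements.S4342


set_option autoImplicit false
open Cfsg

namespace Cfsg.Agent.S4342

/-- Let H be a normal subgroup of a finite group G and p a prime not dividing the index of H. Then the number of Sylow p-subgroups of H/Z(H) equals the number of Sylow p-subgroups of G. -/
theorem result {G : Type*} [Group G] [Finite G]
    (p : ℕ) [Fact p.Prime] (H : Subgroup G) [H.Normal] (hp : ¬ p ∣ H.index) :
    Nat.card (Sylow p (H ⧸ Subgroup.center H)) = Nat.card (Sylow p G) := by
  classical
  have hle : ∀ P : Sylow p G, (P : Subgroup G) ≤ H := by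
    intro P
    obtain ⟨k, hk⟩ := P.isPGroup'.index (H.subgroupOf P)
    rw [← Subgroup.relIndex_eq_one]
    show (H.subgroupOf P).index = 1
    rw [hk]
    rcases Nat.eq_zero_or_pos k with rfl | hpos
    · rfl
    · exfalso
      refine hp ?_
      refine dvd_trans ?_ (Subgroup.relIndex_dvd_index_of_normal (H := H) (K := (P : Subgroup G)))
      show p ∣ (H.subgroupOf P).index
      rw [hk]
      exact dvd_pow_self p hpos.ne'
  let e1 : Sylow p G → Sylow p H := fun P => P.subtype (hle P)
  have he1 : Function.Bijective e1 := by
    refine ⟨fun P Q h => Sylow.subtype_injective h, fun R => ?_⟩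
    obtain ⟨Q, hQ⟩ := R.exists_comap_subtype_eq
    exact ⟨Q, Sylow.ext hQ⟩
  set π := QuotientGroup.mk' (Subgroup.center H) with hπ
  have hsurj : Function.Surjective π := QuotientGroup.mk'_surjective _
  let e2 : Sylow p H → Sylow p (H ⧸ Subgroup.center H) := fun R => R.mapSurjective hsurj
  have he2 : Function.Bijective e2 := by
    refine ⟨fun P Q h => ?_, Sylow.mapSurjective_surjective hsurj p⟩
    have h' : (P : Subgroup H).map π = (Q : Subgroup H).map π := by
      exact congrArg (fun R : Sylow p (H ⧸ Subgroup.center H) => R.toSubgroup) h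
    have hQP : (Q : Subgroup H) ≤ Subgroup.normalizer ((P : Subgroup H) : Set H) := by
      refine le_trans (Subgroup.le_comap_map π Q) ?_
      rw [← h', Subgroup.comap_map_eq, QuotientGroup.ker_mk']
      refine sup_le Subgroup.le_normalizer ?_
      exact Subgroup.center_le_normalizer _
    have h2 : (Q : Subgroup H) ⊓ Subgroup.normalizer ((P : Subgroup H) : Set H) =
        (Q : Subgroup H) ⊓ (P : Subgroup H) := Q.isPGroup'.inf_normalizer_sylow P
    rw [inf_eq_left.2 hQP] at h2
    exact Sylow.ext (Q.3 P.isPGroup' (inf_eq_left.1 h2.symm))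
  exact (Nat.card_eq_of_bijective _ he2).symm.trans (Nat.card_eq_of_bijective _ he1).symm

end Cfsg.Agent.S4342
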