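import Cfsg.Statements.S4343
import Cfsg.Agent.Lib.FiniteGroup.SylowCount

set_option autoImplicit false
open Cfsg
open scoped Pointwise commutatorElement

namespace Cfsg.Agent.S4343

/-- Let S be a finite non-abelian simple group and p a prime dividing its order. If S has fewer than p² Sylow p-subgroups, then its Sylow p-subgroups have order p. -/
theorem result {S : Type*} [Group S] [Finite S]
    [IsSimpleGroup S] (hS : ¬ IsMulCommutative S) (p : ℕ) [Fact p.Prime] (hp : p ∣ Nat.card S)
    (hn : Nat.card (Sylow p S) < p ^ 2) (P : Sylow p S) : Nat.card P = p := by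
  classical
  have hp' : p.Prime := Fact.out
  set m := Nat.card (P : Subgroup S) with hm
  have hcardP : ∀ R : Sylow p S, Nat.card (R : Subgroup S) = m := fun R => by
    rw [hm, R.card_eq_multiplicity, P.card_eq_multiplicity]
  have hP1 : (P : Subgroup S) ≠ ⊥ := P.ne_bot_of_dvd_card hp
  have hnotP : ∀ R : Sylow p S, (R : Subgroup S) ≠ ⊤ := by
    intro R e
    haveI : Group.IsNilpotent S := ((R.isPGroup').of_equiv
      ((MulEquiv.subgroupCongr e).trans Subgroup.topEquiv)).isNilpotent
    exact hS ⟨⟨fun a b => IsSimpleGroup.comm_iff_isSolvable.2 inferInstance a b⟩⟩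
  have hcore : ∀ D : Subgroup S, D.Normal → (∀ R : Sylow p S, D ≤ R) → D = ⊥ := by
    intro D hD hle
    rcases IsSimpleGroup.eq_bot_or_eq_top_of_normal D hD with e | e
    · exact e
    · exact absurd (top_le_iff.1 (e ▸ hle P)) (hnotP P)
  have hidx : ∀ P Q : Sylow p S, P ≠ Q → ((Q : Subgroup S)).relIndex P = p := by
    intro P Q hne
    have hstab : MulAction.stabilizer (P : Subgroup S) Q = (Q : Subgroup S).subgroupOf P := by
      ext x
      rw [MulAction.mem_stabilizer_iff, Subgroup.mem_subgroupOf]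
      exact Cfsg.Agent.SylowCount.smul_eq_iff_mem P Q x.2
    have horb : Nat.card (MulAction.orbit (P : Subgroup S) Q) = (Q : Subgroup S).relIndex P := by
      rw [Nat.card_congr (MulAction.orbitEquivQuotientStabilizer (P : Subgroup S) Q), hstab]
      rfl
    obtain ⟨k, hk⟩ := P.isPGroup'.card_orbit Q
    rw [horb] at hk
    have hlt : p ^ k < p ^ 2 := by
      rw [← hk, ← horb]
      exact lt_of_le_of_lt (Nat.card_le_card_of_injective _ Subtype.val_injective) hn
    have hk2 : k < 2 := (Nat.pow_lt_pow_iff_right hp'.one_lt).1 hlt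
    interval_cases k
    · exact absurd (Cfsg.Agent.SylowCount.sylow_eq_of_le
        (Subgroup.relIndex_eq_one.1 (hk.trans (pow_zero p)))) hne
    · rw [hk, pow_one]
  have hinfcard : ∀ P Q : Sylow p S, P ≠ Q →
      Nat.card ((Q : Subgroup S) ⊓ P : Subgroup S) * p = m := by
    intro P Q hne
    have := Subgroup.relIndex_mul_relIndex ⊥ ((Q : Subgroup S) ⊓ P) P bot_le inf_le_right
    rw [Subgroup.relIndex_bot_left, Subgroup.inf_relIndex_right, hidx P Q hne, Subgroup.relIndex_bot_left,
      hcardP] at this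
    exact this
  -- the commutator subgroup of a Sylow subgroup lies in every Sylow subgroup
  have hcommle : ∀ P Q : Sylow p S, ⁅(P : Subgroup S), (P : Subgroup S)⁆ ≤ Q := by
    intro P Q
    by_cases hne : P = Q
    · subst hne; exact Subgroup.commutator_le_self _
    haveI := P.isPGroup'.isNilpotent
    have hidx' : ((Q : Subgroup S).subgroupOf P).index = p := hidx P Q hne
    haveI hn1 : ((Q : Subgroup S).subgroupOf P).Normal := by
      obtain ⟨k, hk⟩ := IsPGroup.iff_card.1 P.isPGroup'
      refine Subgroup.normal_of_index_eq_minFac_card ?_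
      have hk0 : k ≠ 0 := fun e => (P.ne_bot_of_dvd_card hp) (Subgroup.card_eq_one.1 (by rw [hk, e, pow_zero]))
      rw [hidx', hk, hp'.pow_minFac hk0]
    haveI : IsCyclic ((P : Subgroup S) ⧸ (Q : Subgroup S).subgroupOf P) :=
      isCyclic_of_prime_card hidx'
    rw [Subgroup.commutator_le]
    intro a ha b hb
    have hc : QuotientGroup.mk' ((Q : Subgroup S).subgroupOf P) ⁅(⟨a, ha⟩ : (P : Subgroup S)), ⟨b, hb⟩⁆ = 1 := by
      rw [map_commutatorElement, commutatorElement_eq_one_iff_mul_comm]
      exact (IsCyclic.commutative (α := (P : Subgroup S) ⧸ (Q : Subgroup S).subgroupOf P)).is_comm.comm _ _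
    exact (QuotientGroup.eq_one_iff (N := (Q : Subgroup S).subgroupOf P) ⁅(⟨a, ha⟩ : (P : Subgroup S)), ⟨b, hb⟩⁆).1 hc
  have hab : ∀ R : Sylow p S, ∀ a ∈ (R : Subgroup S), ∀ b ∈ (R : Subgroup S), a * b = b * a := by
    intro R a ha b hb
    set D : Subgroup S := ⨅ Q : Sylow p S, (Q : Subgroup S) with hD
    have hDn : D.Normal := by
      refine ⟨fun d hd g => ?_⟩
      rw [hD, Subgroup.mem_iInf] at hd ⊢
      intro Q
      have h1 := hd (g⁻¹ • Q)
      rw [Sylow.coe_subgroup_smul, Subgroup.mem_pointwise_smul_iff_inv_smul_mem] at h1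
      simpa [← map_inv] using h1
    have : ⁅a, b⁆ ∈ D := by
      rw [hD, Subgroup.mem_iInf]
      exact fun Q => hcommle R Q (Subgroup.commutator_mem_commutator ha hb)
    rw [hcore D hDn (fun Q => iInf_le _ Q), Subgroup.mem_bot] at this
    exact commutatorElement_eq_one_iff_mul_comm.1 this
  -- Brodkey
  obtain ⟨Q, hQ⟩ : ∃ Q : Sylow p S, P ≠ Q := by
    by_contra hcon
    push Not at hcon
    refine hP1 (hcore P ?_ fun R => le_of_eq (congrArg _ (hcon R)))
    refine Subgroup.normalizer_eq_top_iff.1 (eq_top_iff.2 fun g _ => ?_)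
    exact Sylow.smul_eq_iff_mem_normalizer.1 (hcon (g • P)).symm
  set D := (Q : Subgroup S) ⊓ P with hD
  have hDcard := hinfcard P Q hQ
  suffices hD1 : D = ⊥ by
    show m = p
    have h9 := hDcard
    rw [← hD, hD1, Subgroup.card_bot, one_mul] at h9
    exact h9.symm
  set C := Subgroup.centralizer (D : Set S) with hC
  have hPC : (P : Subgroup S) ≤ C := fun x hx d hd => hab P d hd.2 x hx
  have hQC : (Q : Subgroup S) ≤ C := fun x hx d hd => hab Q d hd.1 x hx
  have hall : ∀ R : Sylow p S, D ≤ R := by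
    intro R
    obtain ⟨T, hT⟩ := (R.isPGroup'.comap_subtype (K := C)).exists_le_sylow
    obtain ⟨c, hc⟩ := MulAction.exists_smul_eq C (Q.subtype hQC) T
    -- `R' = c⁻¹ • R` meets `C` inside `Q`
    set R' := (c : S)⁻¹ • R with hR'
    have hR'C : ∀ x ∈ (R' : Subgroup S), x ∈ C → x ∈ (Q : Subgroup S) := by
      intro x hx hxC
      rw [hR', Sylow.coe_subgroup_smul, Subgroup.mem_pointwise_smul_iff_inv_smul_mem] at hx
      have hx' : (c : S) * x * (c : S)⁻¹ ∈ (R : Subgroup S) := by simpa [← map_inv] using hx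
      have h1 : (⟨(c : S) * x * (c : S)⁻¹, C.mul_mem (C.mul_mem c.2 hxC) (C.inv_mem c.2)⟩ : C) ∈
          (T : Subgroup C) := hT hx'
      rw [← hc, Sylow.coe_subgroup_smul, Subgroup.mem_pointwise_smul_iff_inv_smul_mem] at h1
      have h2 : ((MulAut.conj c)⁻¹ • (⟨(c : S) * x * (c : S)⁻¹,
          C.mul_mem (C.mul_mem c.2 hxC) (C.inv_mem c.2)⟩ : C) : C) = ⟨x, hxC⟩ := by
        rw [← map_inv]
        apply Subtype.ext
        simp [mul_assoc]
      rw [h2] at h1
      exact h1
    have hsub : (R' : Subgroup S) ⊓ P ≤ D := fun x hx => ⟨hR'C x hx.1 (hPC hx.2), hx.2⟩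
    have hDR' : D ≤ R' := by
      by_cases hne : P = R'
      · exact hne ▸ inf_le_right
      refine (Subgroup.eq_of_le_of_card_ge hsub ?_).ge.trans inf_le_left
      have h3 := hinfcard P R' hne
      rw [← hDcard] at h3
      exact (Nat.eq_of_mul_eq_mul_right hp'.pos h3).ge
    intro d hd
    have h4 := hDR' hd
    rw [hR', Sylow.coe_subgroup_smul, Subgroup.mem_pointwise_smul_iff_inv_smul_mem] at h4
    have h5 : (c : S) * d * (c : S)⁻¹ ∈ (R : Subgroup S) := by simpa [← map_inv] using h4
    have h6 : d * (c : S) = (c : S) * d := c.2 d hd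
    rwa [← h6, mul_inv_cancel_right] at h5
  set D' : Subgroup S := ⨅ R : Sylow p S, (R : Subgroup S) with hD'
  have hD'n : D'.Normal := by
    refine ⟨fun d hd g => ?_⟩
    rw [hD', Subgroup.mem_iInf] at hd ⊢
    intro R
    have h1 := hd (g⁻¹ • R)
    rw [Sylow.coe_subgroup_smul, Subgroup.mem_pointwise_smul_iff_inv_smul_mem] at h1
    simpa [← map_inv] using h1
  exact le_bot_iff.1 ((le_iInf hall).trans (hcore D' hD'n fun R => iInf_le _ R).le)

end Cfsg.Agent.S4343
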