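import Cfsg.Statements.S4344


set_option autoImplicit false
open Cfsg

namespace Cfsg.Agent.S4344

/-- Let S be a finite non-abelian simple group, M a maximal subgroup of S and C a cyclic normal subgroup of M. If a Sylow p-subgroup P of S (for a prime p dividing the order of S) is contained in C, then the number of Sylow p-subgroups of S equals the index of M. -/
theorem result {S : Type*} [Group S] [Finite S]
    [IsSimpleGroup S] (hS : ¬ IsMulCommutative S) (p : ℕ) [Fact p.Prime] (hp : p ∣ Nat.card S)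
    (M : Subgroup S) (hM : IsCoatom M) (C : Subgroup S) (hCM : C ≤ M) (hCn : (C.subgroupOf M).Normal)
    (hC : IsCyclic C) (P : Sylow p S) (hP : (P : Subgroup S) ≤ C) :
    Nat.card (Sylow p S) = M.index := by
  rw [P.card_eq_index_normalizer]
  suffices h : Subgroup.normalizer (P : Set S) = M by rw [h]
  haveI := hC
  letI : CommGroup C := IsCyclic.commGroup
  have hCN : C ≤ Subgroup.normalizer (P : Set S) := by
    refine Subgroup.le_normalizer_iff.2 fun c hc x hx => ?_
    have h1 : c * x = x * c := congrArg Subtype.val (mul_comm (⟨c, hc⟩ : C) ⟨x, hP hx⟩)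
    rw [h1, mul_inv_cancel_right]
    exact hx
  have hMN : M ≤ Subgroup.normalizer (P : Set S) := by
    refine Subgroup.le_normalizer_iff.2 fun m hm x hx => ?_
    have hQ : IsPGroup p ((P : Subgroup S).map (MulAut.conj m).toMonoidHom) := P.isPGroup'.map _
    have hQC : (P : Subgroup S).map (MulAut.conj m).toMonoidHom ≤ C := by
      rintro _ ⟨y, hy, rfl⟩
      exact hCn.conj_mem ⟨y, hCM (hP hy)⟩ (hP hy) ⟨m, hm⟩
    have h2 := hQ.inf_normalizer_sylow P
    rw [inf_eq_left.2 (hQC.trans hCN)] at h2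
    exact (inf_eq_left.1 h2.symm) ⟨x, hx, rfl⟩
  refine ((eq_or_lt_of_le hMN).resolve_right fun hlt => ?_).symm
  have hPn : (P : Subgroup S).Normal := Subgroup.normalizer_eq_top_iff.1 (hM.2 _ hlt)
  rcases hPn.eq_bot_or_eq_top with h | h
  · exact P.ne_bot_of_dvd_card hp h
  · apply hS
    have hC' : C = ⊤ := top_le_iff.1 (h ▸ hP)
    exact ⟨⟨fun a b => congrArg Subtype.val
      (mul_comm (⟨a, hC' ▸ Subgroup.mem_top a⟩ : C) ⟨b, hC' ▸ Subgroup.mem_top b⟩)⟩⟩

end Cfsg.Agent.S4344
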