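import Cfsg.Statements.S4345
import Cfsg.Agent.Lib.FiniteGroup.SylowNumbers

set_option autoImplicit false
open Cfsg

namespace Cfsg.Agent.S4345

/-- Let G be a finite solvable group and p, ℓ primes. Then the largest power of ℓ dividing the number of Sylow p-subgroups of G is congruent to 1 modulo p. -/
theorem result {G : Type*} [Group G] [Finite G]
    (hG : Group.IsSolvable G) (p ℓ : ℕ) [Fact p.Prime] (hℓ : ℓ.Prime) :
    ℓ ^ (Nat.card (Sylow p G)).factorization ℓ ≡ 1 [MOD p] := by
  have key : SylowNumbers.Good p (Nat.card (Sylow p G)) := by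
    refine SylowNumbers.induction_sylow p (SylowNumbers.Good p) (fun a b ha hb h1 h2 => h1.mul h2 ha hb)
      (fun n _ h => h) (fun H _ => Group.IsSolvable H) (fun H _ K h => ?_) (fun H _ K _ h => ?_) ?_ G hG
    · haveI := h; infer_instance
    · haveI := h; infer_instance
    intro S _ _ hS hsol
    haveI := hS
    obtain ⟨P⟩ : Nonempty (Sylow p S) := inferInstance
    have : Nat.card (Sylow p S) = 1 := by
      rw [SylowNumbers.card_eq P, Subgroup.index_eq_one, Subgroup.normalizer_eq_top_iff]
      refine ⟨fun a ha g => ?_⟩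
      rw [(IsSimpleGroup.comm_iff_isSolvable.2 hsol) g a, mul_inv_cancel_right]
      exact ha
    rw [this]
    exact SylowNumbers.good_one
  show _ % p = 1 % p
  rw [key ℓ hℓ, Nat.one_mod_eq_one.2 (Fact.out : p.Prime).ne_one]

end Cfsg.Agent.S4345
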