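import Cfsg.Statements.S4347


set_option autoImplicit false
open Cfsg
open scoped Pointwise

namespace Cfsg.Agent.S4347

/-- Let G be a finite group and p a prime. Say a Sylow p-subgroup Q is redundant when every element of p-power order lies in some Sylow p-subgroup other than Q. Then G has no redundant Sylow p-subgroup if and only if some element of p-power order lies in exactly one Sylow p-subgroup. -/
theorem result {G : Type*} [Group G] [Finite G]
    (p : ℕ) [Fact p.Prime] :
    (¬ ∃ Q : Sylow p G, ∀ x : G, (∃ k : ℕ, orderOf x = p ^ k) → ∃ P : Sylow p G, P ≠ Q ∧ x ∈ P) ↔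
      ∃ x : G, (∃ k : ℕ, orderOf x = p ^ k) ∧ ∃! P : Sylow p G, x ∈ P := by
  constructor
  · intro h
    obtain ⟨Q⟩ : Nonempty (Sylow p G) := inferInstance
    by_contra hcon
    apply h
    refine ⟨Q, fun x hx => ?_⟩
    by_contra h2
    push Not at h2
    apply hcon
    obtain ⟨k, hk⟩ := hx
    have hp' : IsPGroup p (Subgroup.zpowers x) := IsPGroup.of_card (n := k) (by rw [Nat.card_zpowers, hk])
    obtain ⟨P, hP⟩ := hp'.exists_le_sylow
    refine ⟨x, ⟨k, hk⟩, P, hP (Subgroup.mem_zpowers x), fun P' hP' => ?_⟩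
    have e1 : P' = Q := by_contra fun hne => h2 P' hne hP'
    have e2 : P = Q := by_contra fun hne => h2 P hne (hP (Subgroup.mem_zpowers x))
    rw [e1, e2]
  · rintro ⟨x, ⟨k, hk⟩, P₀, hx₀, huniq⟩ ⟨Q, hQ⟩
    obtain ⟨g, hg⟩ := MulAction.exists_smul_eq G Q P₀
    have ho : orderOf (g⁻¹ * x * g) = orderOf x := by
      have := orderOf_injective (MulAut.conj g⁻¹).toMonoidHom (MulEquiv.injective _) x
      simpa using this
    obtain ⟨P, hne, hP⟩ := hQ (g⁻¹ * x * g) ⟨k, by rw [ho, hk]⟩
    apply hne
    have hxP : x ∈ g • P := by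
      show x ∈ ((g • P : Sylow p G) : Subgroup G)
      rw [Sylow.coe_subgroup_smul, Subgroup.mem_pointwise_smul_iff_inv_smul_mem]
      simpa [mul_assoc] using (show g⁻¹ * x * g ∈ (P : Subgroup G) from hP)
    have := huniq _ hxP
    rw [← hg] at this
    exact smul_left_cancel g this

end Cfsg.Agent.S4347
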