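import Cfsg.Statements.S4348


set_option autoImplicit false
open Cfsg

namespace Cfsg.Agent.S4348

/-- Let G be a finite group, p a prime and P a Sylow p-subgroup of G, and let O_p(G) be the largest normal p-subgroup of G. If P/O_p(G) is cyclic, then some element of p-power order of G lies in exactly one Sylow p-subgroup. -/
theorem result {G : Type*} [Group G] [Finite G]
    (p : ℕ) [Fact p.Prime] (P : Sylow p G)
    [hn : ((Cfsg.pCore p G).subgroupOf (P : Subgroup G)).Normal]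
    (hc : IsCyclic ((P : Subgroup G) ⧸ (Cfsg.pCore p G).subgroupOf (P : Subgroup G))) :
    ∃ x : G, (∃ k : ℕ, orderOf x = p ^ k) ∧ ∃! Q : Sylow p G, x ∈ Q := by
  obtain ⟨x, hx⟩ := IsCyclic.exists_generator (α := (P : Subgroup G) ⧸ (Cfsg.pCore p G).subgroupOf (P : Subgroup G))
  obtain ⟨x, rfl⟩ := QuotientGroup.mk_surjective x
  obtain ⟨k, hk⟩ := IsPGroup.iff_orderOf.1 P.isPGroup' x
  refine ⟨x, ⟨k, (Subgroup.orderOf_coe x).trans hk⟩, P, x.2, fun Q hQ => ?_⟩
  have hO : Cfsg.pCore p G ≤ (Q : Subgroup G) :=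
    sSup_le fun N hN => by haveI := hN.1; exact IsPGroup.le_sylow_of_normal hN.2 Q
  have hPQ : (P : Subgroup G) ≤ (Q : Subgroup G) := by
    intro y hy
    obtain ⟨i, hi⟩ := hx (QuotientGroup.mk ⟨y, hy⟩)
    have hi' : ((x ^ i : (P : Subgroup G)) : (P : Subgroup G) ⧸ (Cfsg.pCore p G).subgroupOf P) =
        QuotientGroup.mk ⟨y, hy⟩ := hi
    rw [QuotientGroup.eq, Subgroup.mem_subgroupOf] at hi'
    have h3 := (Q : Subgroup G).mul_mem ((Q : Subgroup G).zpow_mem hQ i) (hO hi')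
    simpa using h3
  exact Sylow.ext (P.3 Q.isPGroup' hPQ)

end Cfsg.Agent.S4348
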