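import Mathlib.GroupTheory.Perm.Centralizer
import Mathlib.GroupTheory.Perm.Cycle.Type
import Mathlib.GroupTheory.Sylow
import Mathlib.Dynamics.PeriodicPts.Lemmas
import Mathlib.Data.Nat.Factorial.Basic
import Mathlib.Algebra.Group.Conj
import Mathlib.Tactic.Ring
import Mathlib.Tactic.NormNum

/-! `2`-elements of symmetric groups lying in a unique Sylow `2`-subgroup. -/

set_option autoImplicit false
set_option linter.style.haveILetI false

universe u

namespace Cfsg.Agent.S4349

open Equiv

variable {α : Type u}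

private noncomputable def mp (x : Perm α) (a : α) : ℕ := Function.minimalPeriod x a

private def Good (x : Perm α) : Prop :=
  (∀ a b : α, x a ≠ a → mp x a = mp x b → x.SameCycle a b) ∧
    ∀ a b c : α, x a = a → x b = b → x c = c → a = b ∨ a = c ∨ b = c

private theorem fix_iff (x : Perm α) (a : α) (i : ℕ) : (x ^ i) a = a ↔ mp x a ∣ i := by
  rw [Perm.coe_pow]
  exact Function.isPeriodicPt_iff_minimalPeriod_dvd

private theorem fixed_iff (x : Perm α) (a : α) : x a = a ↔ mp x a = 1 := by
  rw [← Nat.dvd_one, ← fix_iff, pow_one]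

private theorem mp_eq_two_pow (x : Perm α) (hx : ∃ k, orderOf x = 2 ^ k) (a : α) : ∃ j, mp x a = 2 ^ j := by
  obtain ⟨k, hk⟩ := hx
  have hd : mp x a ∣ 2 ^ k := by rw [← fix_iff, ← hk, pow_orderOf_eq_one]; rfl
  obtain ⟨j, -, hj⟩ := (Nat.dvd_prime_pow Nat.prime_two).1 hd
  exact ⟨j, hj⟩

private theorem mp_commute {x g : Perm α} (h : g * x = x * g) (a : α) : mp x (g a) = mp x a := by
  have key : ∀ i : ℕ, mp x (g a) ∣ i ↔ mp x a ∣ i := fun i => by
    rw [← fix_iff, ← fix_iff, ← Perm.mul_apply, ← ((show Commute g x from h).pow_right i).eq, Perm.mul_apply,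
      g.injective.eq_iff]
  exact Nat.dvd_antisymm ((key _).2 dvd_rfl) ((key _).1 dvd_rfl)

private theorem half (x : Perm α) (hx : ∃ k, orderOf x = 2 ^ k) (a : α) (ha : x a ≠ a) :
    ∃ h, 0 < h ∧ mp x a = 2 * h := by
  obtain ⟨j, hj⟩ := mp_eq_two_pow x hx a
  rcases j with _ | j
  · exact absurd ((fixed_iff x a).2 (by rw [hj, pow_zero])) ha
  · exact ⟨2 ^ j, pow_pos two_pos j, by rw [hj, pow_succ']⟩

section involution

variable [Finite α] {x w : Perm α}

private theorem w_moved (hx : ∃ k, orderOf x = 2 ^ k) (hg : Good x) (hw : w * w = 1)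
    (hwf : ∀ a b, w a = a → w b = b → a = b) (hc : w * x = x * w) (a : α) (ha : x a ≠ a) :
    w a = (x ^ (mp x a / 2)) a := by
  obtain ⟨h, hh, hm⟩ := half x hx a ha
  obtain ⟨i, hi⟩ := (hg.1 a (w a) ha (mp_commute hc a).symm).exists_nat_pow_eq
  rw [hm, Nat.mul_div_cancel_left h two_pos]
  have hwa : w a ≠ a := fun hwa => ha (hwf (x a) a (by rw [← Perm.mul_apply, hc, Perm.mul_apply, hwa]) hwa)
  have h2i : mp x a ∣ i + i := by
    rw [← fix_iff, pow_add, Perm.mul_apply, hi, ← Perm.mul_apply, ← ((show Commute w x from hc).pow_right i).eq,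
      Perm.mul_apply, hi, ← Perm.mul_apply, hw, Perm.one_apply]
  rw [hm, ← two_mul] at h2i
  obtain ⟨s, rfl⟩ := (Nat.mul_dvd_mul_iff_left two_pos).1 h2i
  obtain ⟨t, rfl | rfl⟩ := Nat.even_or_odd' s
  · exfalso
    apply hwa
    rw [← hi, fix_iff, hm]
    exact ⟨t, by ring⟩
  · rw [← hi, show h * (2 * t + 1) = h + 2 * h * t by ring, pow_add, Perm.mul_apply,
      (fix_iff x a (2 * h * t)).2 (by rw [hm]; exact Dvd.intro _ rfl)]

private theorem w_unique (hx : ∃ k, orderOf x = 2 ^ k) (hg : Good x) {w' : Perm α}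
    (hw : w * w = 1) (hwf : ∀ a b, w a = a → w b = b → a = b) (hc : w * x = x * w)
    (hw' : w' * w' = 1) (hwf' : ∀ a b, w' a = a → w' b = b → a = b) (hc' : w' * x = x * w') : w = w' := by
  refine Equiv.ext fun a => ?_
  by_cases ha : x a = a
  swap
  · rw [w_moved hx hg hw hwf hc a ha, w_moved hx hg hw' hwf' hc' a ha]
  have fixed_img : ∀ (v : Perm α), v * x = x * v → ∀ b, x b = b → x (v b) = v b := fun v hv b hb => by
    rw [← Perm.mul_apply, ← hv, Perm.mul_apply, hb]
  have single : ∀ (v : Perm α), v * v = 1 → (∀ a b, v a = a → v b = b → a = b) → v * x = x * v → v a = a →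
      ∀ b, x b = b → b = a := by
    intro v hv hvf hvc hva b hb
    by_contra hne
    rcases hg.2 a b (v b) ha hb (fixed_img v hvc b hb) with h | h | h
    · exact hne h.symm
    · exact hne (v.injective (h.symm.trans hva.symm))
    · exact hne (hvf b a h.symm hva)
  by_cases h1 : w a = a
  · rw [h1, single w hw hwf hc h1 _ (fixed_img w' hc' a ha)]
  by_cases h2 : w' a = a
  · exact absurd (single w' hw' hwf' hc' h2 _ (fixed_img w hc a ha)) h1
  rcases hg.2 a (w a) (w' a) ha (fixed_img w hc a ha) (fixed_img w' hc' a ha) with h | h | h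
  · exact absurd h.symm h1
  · exact absurd h.symm h2
  · exact h

end involution

/-- every Sylow `2`-subgroup centralizes an involution with at most one fixed point -/
private theorem exists_central {α : Type u} [Finite α] (hn : 2 ≤ Nat.card α) (P : Sylow 2 (Perm α)) :
    ∃ w : Perm α, w * w = 1 ∧ (∀ a b, w a = a → w b = b → a = b) ∧ ∀ g ∈ P, g * w = w * g := by
  classical
  haveI := Fintype.ofFinite α
  rw [Nat.card_eq_fintype_card] at hn
  obtain ⟨m, hm⟩ : ∃ m, m = Fintype.card α / 2 := ⟨_, rfl⟩
  obtain ⟨z, hz⟩ := (Equiv.Perm.exists_with_cycleType_iff α (m := Multiset.replicate m 2)).2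
    ⟨by rw [Multiset.sum_replicate, smul_eq_mul]; omega, fun a ha => (Multiset.eq_of_mem_replicate ha).ge⟩
  have hz2 : z * z = 1 := by
    rw [← sq, ← orderOf_dvd_iff_pow_eq_one, ← Equiv.Perm.lcm_cycleType, hz, Multiset.lcm_dvd]
    exact fun b hb => (Multiset.eq_of_mem_replicate hb).dvd
  have hsupp : z.support.card = 2 * m := by
    rw [← Equiv.Perm.sum_cycleType, hz, Multiset.sum_replicate, smul_eq_mul, mul_comm]
  have hzf : ∀ a b, z a = a → z b = b → a = b := by
    intro a b ha hb
    by_contra hne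
    have hsub : ({a, b} : Finset α) ⊆ z.supportᶜ := by
      intro c hc
      rw [Finset.mem_compl, Perm.mem_support, not_not]
      rcases Finset.mem_insert.1 hc with rfl | hc
      exacts [ha, by rw [Finset.mem_singleton.1 hc]; exact hb]
    have := Finset.card_le_card hsub
    rw [Finset.card_pair hne, Finset.card_compl, hsupp] at this
    omega
  set C := Subgroup.centralizer ({z} : Set (Perm α)) with hC
  have hidx : ¬ 2 ∣ C.index := by
    obtain ⟨o, ho, hfac⟩ : ∃ o, Odd o ∧ (2 * m).factorial = 2 ^ m * m.factorial * o := by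
      clear hm hz hsupp
      induction m with
      | zero => exact ⟨1, odd_one, by simp⟩
      | succ k ih =>
        obtain ⟨o, ho, hk⟩ := ih
        refine ⟨o * (2 * k + 1), ho.mul ⟨k, rfl⟩, ?_⟩
        rw [show 2 * (k + 1) = 2 * k + 1 + 1 by ring, Nat.factorial_succ, Nat.factorial_succ, hk, Nat.factorial_succ,
          pow_succ]
        ring
    have hcard : Nat.card C = 2 ^ m * m.factorial := by
      have hc := Equiv.Perm.nat_card_centralizer z
      rw [hz, Multiset.sum_replicate, smul_eq_mul, Multiset.prod_replicate, Multiset.toFinset_replicate,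
        if_neg (by omega), Finset.prod_singleton, Multiset.count_replicate_self,
        show (Fintype.card α - m * 2).factorial = 1 from Nat.factorial_eq_one.2 (by omega), one_mul] at hc
      exact hc
    have hall := Subgroup.card_mul_index C
    rw [hcard, Nat.card_eq_fintype_card, Fintype.card_perm] at hall
    obtain ⟨o', ho', hfac'⟩ : ∃ o', Odd o' ∧ (Fintype.card α).factorial = 2 ^ m * m.factorial * o' := by
      rcases (show Fintype.card α = 2 * m ∨ Fintype.card α = 2 * m + 1 by omega) with h | h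
      · exact ⟨o, ho, by rw [h, hfac]⟩
      · exact ⟨o * (2 * m + 1), ho.mul ⟨m, rfl⟩, by rw [h, Nat.factorial_succ, hfac]; ring⟩
    rw [hfac'] at hall
    rw [Nat.eq_of_mul_eq_mul_left (by positivity) hall, ← even_iff_two_dvd, Nat.not_even_iff_odd]
    exact ho'
  obtain ⟨Q⟩ := (inferInstance : Nonempty (Sylow 2 C))
  have hQp : IsPGroup 2 ((Q : Subgroup C).map C.subtype) := Q.2.map _
  have hQi : ¬ 2 ∣ ((Q : Subgroup C).map C.subtype).index := by
    rw [Subgroup.index_map_subtype, Nat.prime_two.dvd_mul, not_or]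
    exact ⟨Q.not_dvd_index, hidx⟩
  obtain ⟨g, hg⟩ := MulAction.exists_smul_eq (Perm α) (hQp.toSylow hQi) P
  refine ⟨g * z * g⁻¹, ?_, ?_, ?_⟩
  · rw [show g * z * g⁻¹ * (g * z * g⁻¹) = g * (z * z) * g⁻¹ by group, hz2, mul_one, mul_inv_cancel]
  · intro a b ha hb
    refine g⁻¹.injective (hzf _ _ ?_ ?_)
    · conv_rhs => rw [← ha]
      simp
    · conv_rhs => rw [← hb]
      simp
  · intro h hh
    rw [← hg] at hh
    have hh' : h ∈ ((g • hQp.toSylow hQi : Sylow 2 (Perm α)) : Subgroup (Perm α)) := hh
    rw [Sylow.coe_subgroup_smul] at hh'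
    obtain ⟨k, hk, rfl⟩ := hh'
    have hk' : k ∈ (Q : Subgroup C).map C.subtype := hk
    obtain ⟨⟨k', hkC⟩, -, rfl⟩ := hk'
    show g * k' * g⁻¹ * (g * z * g⁻¹) = g * z * g⁻¹ * (g * k' * g⁻¹)
    rw [show g * k' * g⁻¹ * (g * z * g⁻¹) = g * (k' * z) * g⁻¹ by group,
      Subgroup.mem_centralizer_singleton_iff.1 hkC]
    group

private theorem unique_of_good : ∀ (N : ℕ) {α : Type u} [Finite α], Nat.card α ≤ N → ∀ x : Perm α,
    (∃ k, orderOf x = 2 ^ k) → Good x → ∀ P P' : Sylow 2 (Perm α), x ∈ P → x ∈ P' → P = P' := by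
  intro N
  induction N with
  | zero =>
    intro α _ hcard x _ _ P P' _ _
    haveI : Subsingleton α := (Finite.card_le_one_iff_subsingleton).1 (by omega)
    exact Sylow.ext (Subsingleton.elim _ _)
  | succ N ih =>
    intro α _ hcard x hx hg P P' hxP hxP'
    by_cases h2 : Nat.card α < 2
    · haveI : Subsingleton α := (Finite.card_le_one_iff_subsingleton).1 (by omega)
      exact Sylow.ext (Subsingleton.elim _ _)
    push Not at h2
    classical
    obtain ⟨w, hw, hwf, hwP⟩ := exists_central h2 P
    obtain ⟨w', hw', hwf', hwP'⟩ := exists_central h2 P'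
    have hc : w * x = x * w := (hwP x hxP).symm
    obtain rfl : w = w' := w_unique hx hg hw hwf hc hw' hwf' (hwP' x hxP').symm
    have hww : ∀ a, w (w a) = a := fun a => by rw [← Perm.mul_apply, hw, Perm.one_apply]
    let s : Setoid α :=
      { r := fun a b => a = b ∨ w a = b
        iseqv := ⟨fun a => Or.inl rfl,
          fun {a b} h => h.elim (fun e => Or.inl e.symm) fun e => Or.inr (by rw [← e, hww]),
          fun {a b c} h h' => by
            rcases h with rfl | rfl
            · exact h'
            · rcases h' with rfl | rfl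
              · exact Or.inr rfl
              · exact Or.inl (hww a).symm⟩ }
    let C := Subgroup.centralizer ({w} : Set (Perm α))
    have hcompat : ∀ g : C, ∀ a b : α, (a = b ∨ w a = b) → ((g : Perm α) a = (g : Perm α) b ∨ w ((g : Perm α) a) = (g : Perm α) b) := by
      intro g a b h
      rcases h with rfl | rfl
      · exact Or.inl rfl
      · right
        rw [← Perm.mul_apply, ← Subgroup.mem_centralizer_singleton_iff.1 g.2, Perm.mul_apply]
    let ψ : C →* Perm (Quotient s) :=
      { toFun := fun g =>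
          { toFun := Quotient.map (g : Perm α) (hcompat g)
            invFun := Quotient.map ((g⁻¹ : C) : Perm α) (hcompat g⁻¹)
            left_inv := fun q => Quotient.inductionOn q fun a => by
              show Quotient.mk s (((g⁻¹ : C) : Perm α) ((g : Perm α) a)) = Quotient.mk s a
              simp
            right_inv := fun q => Quotient.inductionOn q fun a => by
              show Quotient.mk s ((g : Perm α) (((g⁻¹ : C) : Perm α) a)) = Quotient.mk s a
              simp }
        map_one' := Equiv.ext fun q => Quotient.inductionOn q fun a => rfl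
        map_mul' := fun g g' => Equiv.ext fun q => Quotient.inductionOn q fun a => rfl }
    have hxC : x ∈ C := Subgroup.mem_centralizer_singleton_iff.2 hc.symm
    set X := ψ ⟨x, hxC⟩ with hX
    have hXpow : ∀ (i : ℕ) (a : α), (X ^ i) (Quotient.mk s a) = Quotient.mk s ((x ^ i) a) := fun i a => by
      rw [hX, ← map_pow]; rfl
    have hXfix : ∀ (i : ℕ) (a : α), mp X (Quotient.mk s a) ∣ i ↔ ((x ^ i) a = a ∨ (x ^ i) a = w a) := fun i a => by
      rw [← fix_iff, hXpow, Quotient.eq]
      show ((x ^ i) a = a ∨ w ((x ^ i) a) = a) ↔ _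
      constructor <;> rintro (h | h)
      · exact Or.inl h
      · exact Or.inr (by rw [← w.injective.eq_iff, h, hww])
      · exact Or.inl h
      · exact Or.inr (by rw [h, hww])
    have hXmoved : ∀ a, x a ≠ a → mp X (Quotient.mk s a) = mp x a / 2 := by
      intro a ha
      obtain ⟨h, hh, hm⟩ := half x hx a ha
      have hwa : w a = (x ^ h) a := by
        rw [w_moved hx hg hw hwf hc a ha, hm, Nat.mul_div_cancel_left h two_pos]
      rw [hm, Nat.mul_div_cancel_left h two_pos]
      refine Nat.dvd_antisymm ((hXfix h a).2 (Or.inr hwa.symm)) ?_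
      rcases (hXfix _ a).1 (dvd_refl (mp X (Quotient.mk s a))) with h1 | h1
      · exact dvd_trans (dvd_mul_left h 2) (hm ▸ (fix_iff x a _).1 h1)
      · have h3 : (x ^ (h + mp X (Quotient.mk s a))) a = a := by
          rw [pow_add, Perm.mul_apply, h1, hwa, ← Perm.mul_apply, ← pow_add, fix_iff, hm, two_mul]
        rw [fix_iff, hm] at h3
        exact (Nat.dvd_add_right dvd_rfl).1 (dvd_trans (dvd_mul_left h 2) h3)
    have hXfixed : ∀ a, x a = a → mp X (Quotient.mk s a) = 1 := fun a ha =>
      Nat.dvd_one.1 ((hXfix 1 a).2 (Or.inl (by rw [pow_one, ha])))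
    have hXo : ∃ k, orderOf X = 2 ^ k := by
      obtain ⟨k, hk⟩ := hx
      have hd : orderOf X ∣ 2 ^ k := hk ▸ (orderOf_map_dvd ψ (⟨x, hxC⟩ : C)).trans (Subgroup.orderOf_mk x hxC).dvd
      obtain ⟨j, -, hj⟩ := (Nat.dvd_prime_pow Nat.prime_two).1 hd
      exact ⟨j, hj⟩
    have hXgood : Good X := by
      constructor
      · intro A B hA hAB
        induction A using Quotient.inductionOn with | h a => ?_
        induction B using Quotient.inductionOn with | h b => ?_
        have ha : x a ≠ a := fun h => hA ((fixed_iff X _).2 (hXfixed a h))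
        have hb : x b ≠ b := fun h => hA ((fixed_iff X _).2 (hAB.trans (hXfixed b h)))
        rw [hXmoved a ha, hXmoved b hb] at hAB
        obtain ⟨h, -, hm⟩ := half x hx a ha
        obtain ⟨h', -, hm'⟩ := half x hx b hb
        obtain ⟨i, hi⟩ := (hg.1 a b ha (by omega)).exists_nat_pow_eq
        exact ⟨(i : ℤ), by rw [zpow_natCast, hXpow, hi]⟩
      · intro A B D hA hB hD
        induction A using Quotient.inductionOn with | h a => ?_
        induction B using Quotient.inductionOn with | h b => ?_
        induction D using Quotient.inductionOn with | h d => ?_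
        have small : ∀ a, X (Quotient.mk s a) = Quotient.mk s a → x a ≠ a → mp x a = 2 := by
          intro a hA ha
          rw [fixed_iff, hXmoved a ha] at hA
          obtain ⟨h, hh, hm⟩ := half x hx a ha
          omega
        have sameF : ∀ a b, x a = a → x b = b → Quotient.mk s a = Quotient.mk s b := by
          intro a b ha hb
          refine Quotient.sound ?_
          by_contra hcon
          obtain ⟨hab, hwab⟩ := not_or.1 hcon
          have hwa : x (w a) = w a := by rw [← Perm.mul_apply, ← hc, Perm.mul_apply, ha]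
          have hwb : x (w b) = w b := by rw [← Perm.mul_apply, ← hc, Perm.mul_apply, hb]
          rcases hg.2 a b (w a) ha hb hwa with h | h | h
          · exact hab h
          · rcases hg.2 a b (w b) ha hb hwb with h' | h' | h'
            · exact hab h'
            · exact hwab (by rw [h', hww])
            · exact hab (hwf a b h.symm h'.symm)
          · exact hwab h.symm
        have sameT : ∀ a b, x a ≠ a → mp x a = 2 → mp x b = 2 → Quotient.mk s a = Quotient.mk s b := by
          intro a b ha h2a h2b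
          refine Quotient.sound ?_
          obtain ⟨i, hi⟩ := (hg.1 a b ha (h2a.trans h2b.symm)).exists_nat_pow_eq
          obtain ⟨t, rfl | rfl⟩ := Nat.even_or_odd' i
          · exact Or.inl (((fix_iff x a _).2 (by rw [h2a]; exact Dvd.intro _ rfl)).symm.trans hi)
          · right
            rw [w_moved hx hg hw hwf hc a ha, h2a, ← hi, show 2 * t + 1 = 1 + 2 * t by ring, pow_add, Perm.mul_apply,
              (fix_iff x a (2 * t)).2 (by rw [h2a]; exact Dvd.intro _ rfl)]
        by_cases ha : x a = a <;> by_cases hb : x b = b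
        · exact Or.inl (sameF a b ha hb)
        · by_cases hd : x d = d
          · exact Or.inr (Or.inl (sameF a d ha hd))
          · exact Or.inr (Or.inr (sameT b d hb (small b hB hb) (small d hD hd)))
        · by_cases hd : x d = d
          · exact Or.inr (Or.inr (sameF b d hb hd))
          · exact Or.inr (Or.inl (sameT a d ha (small a hA ha) (small d hD hd)))
        · exact Or.inl (sameT a b ha (small a hA ha) (small b hB hb))
    have hlt : Nat.card (Quotient s) ≤ N := by
      haveI := Fintype.ofFinite α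
      haveI := Fintype.ofFinite (Quotient s)
      rw [Nat.card_eq_fintype_card] at hcard h2
      have hlt' : Fintype.card (Quotient s) < Fintype.card α := by
        refine Fintype.card_lt_of_surjective_not_injective _ Quotient.mk_surjective fun hinj => ?_
        obtain ⟨a, b, hab⟩ := Fintype.exists_pair_of_one_lt_card (α := α) (by omega)
        have hfix : ∀ c, w c = c := fun c => hinj (Quotient.sound (Or.inr (hww c)))
        exact hab (hwf a b (hfix a) (hfix b))
      rw [Nat.card_eq_fintype_card]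
      omega
    have hPC : (P : Subgroup (Perm α)) ≤ C := fun g hg => Subgroup.mem_centralizer_singleton_iff.2 (hwP g hg)
    have hP'C : (P' : Subgroup (Perm α)) ≤ C := fun g hg => Subgroup.mem_centralizer_singleton_iff.2 (hwP' g hg)
    have himg : ∀ Q : Sylow 2 (Perm α), (Q : Subgroup (Perm α)) ≤ C → x ∈ Q →
        ∃ B : Sylow 2 (Perm (Quotient s)), X ∈ B ∧ ((Q : Subgroup (Perm α)).subgroupOf C).map ψ ≤ B := by
      intro Q hQ hxQ
      obtain ⟨B, hB⟩ := ((Q.2.comap_of_injective C.subtype C.subtype_injective).map ψ).exists_le_sylow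
      exact ⟨B, hB (Subgroup.mem_map_of_mem ψ (show (⟨x, hxC⟩ : C) ∈ _ from hxQ)), hB⟩
    obtain ⟨B, hXB, hB⟩ := himg P hPC hxP
    obtain ⟨B', hXB', hB'⟩ := himg P' hP'C hxP'
    obtain rfl : B = B' := ih hlt X hXo hXgood B B' hXB hXB'
    set K := ((B : Subgroup (Perm (Quotient s))).comap ψ).map C.subtype
    have hker : IsPGroup 2 ψ.ker := by
      intro g
      refine ⟨1, ?_⟩
      apply Subtype.ext
      apply Subtype.ext
      refine Equiv.ext fun a => ?_
      have hga : ∀ a, ((g : C) : Perm α) a = a ∨ w (((g : C) : Perm α) a) = a := fun a =>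
        Quotient.exact (congrArg (fun σ : Perm (Quotient s) => σ (Quotient.mk s a)) (MonoidHom.mem_ker.1 g.2))
      show (((g : C) : Perm α) ^ (2 ^ 1)) a = a
      rw [pow_one, sq, Perm.mul_apply]
      rcases hga a with h | h
      · rw [h, h]
      · have hga' : ((g : C) : Perm α) a = w a := by rw [← w.injective.eq_iff, h, hww]
        rw [hga', ← Perm.mul_apply, Subgroup.mem_centralizer_singleton_iff.1 (g : C).2, Perm.mul_apply, h]
    have hK : IsPGroup 2 K := (B.2.comap_of_ker_isPGroup ψ hker).map _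
    have hle : ∀ Q : Sylow 2 (Perm α), (Q : Subgroup (Perm α)) ≤ C →
        ((Q : Subgroup (Perm α)).subgroupOf C).map ψ ≤ B → (Q : Subgroup (Perm α)) ≤ K := fun Q hQ hQB g hg =>
      ⟨⟨g, hQ hg⟩, hQB (Subgroup.mem_map_of_mem ψ (show (⟨g, hQ hg⟩ : C) ∈ _ from hg)), rfl⟩
    exact Sylow.ext ((P.3 hK (hle P hPC hB)).symm.trans (P'.3 hK (hle P' hP'C hB')))

/-- a transposition whose conjugates under `x` commute lies in every-unique Sylow subgroup of `x` -/
private theorem swap_mem {α : Type u} [Finite α] [DecidableEq α] (x : Perm α) (hx : ∃ k, orderOf x = 2 ^ k)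
    (P : Sylow 2 (Perm α)) (huniq : ∀ Q : Sylow 2 (Perm α), x ∈ Q → Q = P) (a b : α)
    (h1 : ∀ i : ℕ, (x ^ i) a = a ↔ (x ^ i) b = b) (h2 : ∀ i : ℕ, (x ^ i) a = b → (x ^ i) b = a) :
    swap a b ∈ P := by
  obtain ⟨k, hk⟩ := hx
  set T : Set (Perm α) := Set.range fun i : ℕ => swap ((x ^ i) a) ((x ^ i) b) with hT
  have hcomm : ∀ s ∈ T, ∀ t ∈ T, s * t = t * s := by
    rintro _ ⟨i, rfl⟩ _ ⟨j, rfl⟩
    dsimp only
    obtain ⟨e, he⟩ : ∃ e : ℕ, x ^ e * x ^ j = 1 := by
      refine ⟨(orderOf x - 1) * j, ?_⟩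
      have := orderOf_pos x
      rw [← pow_add, show (orderOf x - 1) * j + j = orderOf x * j by
        rw [Nat.sub_mul, one_mul, Nat.sub_add_cancel (Nat.le_mul_of_pos_left j this)], pow_mul, pow_orderOf_eq_one, one_pow]
    have tr : ∀ c d : α, (x ^ i) c = (x ^ j) d ↔ (x ^ (e + i)) c = d := fun c d => by
      have hd : (x ^ e) ((x ^ j) d) = d := by rw [← Perm.mul_apply, he, Perm.one_apply]
      rw [pow_add, Perm.mul_apply]
      exact ⟨fun h => by rw [h, hd], fun h => (x ^ e).injective (h.trans hd.symm)⟩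
    by_cases heq : swap ((x ^ i) a) ((x ^ i) b) = swap ((x ^ j) a) ((x ^ j) b)
    · simp only [heq]
    by_cases hi : (x ^ i) a = (x ^ i) b
    · rw [hi, swap_self, ← Perm.one_def, one_mul, mul_one]
    by_cases hj : (x ^ j) a = (x ^ j) b
    · rw [hj, swap_self, ← Perm.one_def, mul_one, one_mul]
    haveI := Fintype.ofFinite α
    refine (Equiv.Perm.disjoint_iff_disjoint_support.2 ?_).commute.eq
    rw [Perm.support_swap hi, Perm.support_swap hj, Finset.disjoint_left]
    intro c hc hc'
    apply heq
    simp only [Finset.mem_insert, Finset.mem_singleton] at hc hc'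
    rcases hc with rfl | rfl <;> rcases hc' with h | h
    · rw [h, (tr b b).2 ((h1 _).1 ((tr a a).1 h))]
    · have := (tr b a).2 (h2 _ ((tr a b).1 h))
      rw [h, this, swap_comm]
    · have hb' := (tr b a).1 h
      -- the partner relation is symmetric
      obtain ⟨e', he'⟩ : ∃ e' : ℕ, x ^ e' * x ^ (e + i) = 1 := by
        refine ⟨(orderOf x - 1) * (e + i), ?_⟩
        have := orderOf_pos x
        rw [← pow_add, show (orderOf x - 1) * (e + i) + (e + i) = orderOf x * (e + i) by
          rw [Nat.sub_mul, one_mul, Nat.sub_add_cancel (Nat.le_mul_of_pos_left _ this)], pow_mul, pow_orderOf_eq_one, one_pow]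
      have hq : (x ^ e') a = b := by rw [← hb', ← Perm.mul_apply, he', Perm.one_apply]
      have hq2 := h2 _ hq
      have hab : (x ^ (e + i)) a = b := by
        rw [← hq2, ← Perm.mul_apply, ← pow_add, add_comm, pow_add, he', Perm.one_apply]
      have := (tr a b).2 hab
      rw [h, this, swap_comm]
    · rw [h, (tr a a).2 ((h1 _).2 ((tr b b).1 h))]
  set R := Subgroup.closure T with hR
  have hRcomm : IsMulCommutative R := Subgroup.isMulCommutative_closure hcomm
  have hR2 : IsPGroup 2 R := by
    rintro ⟨g, hg⟩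
    refine ⟨1, Subtype.ext ?_⟩
    show g ^ (2 ^ 1) = 1
    rw [pow_one]
    induction hg using Subgroup.closure_induction with
    | mem s hs => obtain ⟨i, rfl⟩ := hs; rw [sq, swap_mul_self]
    | one => rw [one_pow]
    | mul s t hs ht hs2 ht2 =>
      rw [(show Commute s t from congrArg Subtype.val (hRcomm.is_comm.comm ⟨s, hs⟩ ⟨t, ht⟩)).mul_pow, hs2, ht2, one_mul]
    | inv s _ hs2 => rw [inv_pow, hs2, inv_one]
  have hconj : ∀ (i : ℕ), ∀ t ∈ R, x ^ i * t * (x ^ i)⁻¹ ∈ R := by
    intro i t ht
    induction ht using Subgroup.closure_induction with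
    | mem s hs =>
      obtain ⟨j, rfl⟩ := hs
      refine Subgroup.subset_closure ⟨i + j, ?_⟩
      show swap ((x ^ (i + j)) a) ((x ^ (i + j)) b) = x ^ i * swap ((x ^ j) a) ((x ^ j) b) * (x ^ i)⁻¹
      rw [pow_add, Perm.mul_apply, Perm.mul_apply, ← Equiv.swap_apply_apply]
    | one => rw [mul_one, mul_inv_cancel]; exact R.one_mem
    | mul s t _ _ hs ht =>
      rw [show x ^ i * (s * t) * (x ^ i)⁻¹ = (x ^ i * s * (x ^ i)⁻¹) * (x ^ i * t * (x ^ i)⁻¹) by group]
      exact R.mul_mem hs ht
    | inv s _ hs =>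
      rw [show x ^ i * s⁻¹ * (x ^ i)⁻¹ = (x ^ i * s * (x ^ i)⁻¹)⁻¹ by group]
      exact R.inv_mem hs
  have hnorm : Subgroup.zpowers x ≤ Subgroup.normalizer (R : Set (Perm α)) := by
    refine Subgroup.zpowers_le.2 (Subgroup.mem_normalizer_iff.2 fun t => ⟨fun ht => ?_, fun ht => ?_⟩)
    · simpa using hconj 1 t ht
    · have h3 := hconj (orderOf x - 1) _ ht
      have hinv : x ^ (orderOf x - 1) = x⁻¹ := eq_inv_of_mul_eq_one_left (by
        rw [← pow_succ, Nat.sub_add_cancel (orderOf_pos x), pow_orderOf_eq_one])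
      rwa [hinv, show x⁻¹ * (x * t * x⁻¹) * x⁻¹⁻¹ = t by group] at h3
  have hz : IsPGroup 2 (Subgroup.zpowers x) := IsPGroup.of_card (n := k) (by rw [Nat.card_zpowers, hk])
  have hsup : IsPGroup 2 (R ⊔ Subgroup.zpowers x : Subgroup (Perm α)) := hR2.to_sup_of_normal_left' hz hnorm
  obtain ⟨Q, hQ⟩ := hsup.exists_le_sylow
  rw [← huniq Q (hQ (Subgroup.mem_sup_right (Subgroup.mem_zpowers x)))]
  refine hQ (Subgroup.mem_sup_left (Subgroup.subset_closure ⟨0, ?_⟩))
  simp

theorem result (n : ℕ) (hn : 2 ≤ n)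
    (x : Equiv.Perm (Fin n)) (hx : ∃ k : ℕ, orderOf x = 2 ^ k) :
    (∃! P : Sylow 2 (Equiv.Perm (Fin n)), x ∈ P) ↔ (n ≤ x.support.card + 2 ∧ x.cycleType.Nodup) := by
  classical
  have hper : ∀ a, x a ≠ a → mp x a = (x.cycleOf a).support.card := by
    intro a ha
    have hcyc := Equiv.Perm.isCycle_cycleOf x ha
    have ha' : x.cycleOf a a ≠ a := by rwa [Equiv.Perm.cycleOf_apply_self]
    rw [← hcyc.orderOf]
    have key : ∀ i : ℕ, mp x a ∣ i ↔ orderOf (x.cycleOf a) ∣ i := fun i => by
      rw [← fix_iff, orderOf_dvd_iff_pow_eq_one, hcyc.pow_eq_one_iff' ha', Equiv.Perm.cycleOf_pow_apply_self]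
    exact Nat.dvd_antisymm ((key _).2 dvd_rfl) ((key _).1 dvd_rfl)
  have hgood : (n ≤ x.support.card + 2 ∧ x.cycleType.Nodup) ↔ Good x := by
    constructor
    · rintro ⟨hf, hnd⟩
      constructor
      · intro a b ha hab
        have hb : x b ≠ b := fun h => ha ((fixed_iff x a).2 (hab.trans ((fixed_iff x b).1 h)))
        rw [hper a ha, hper b hb] at hab
        rw [Equiv.Perm.cycleType_def] at hnd
        have heq : x.cycleOf a = x.cycleOf b := Multiset.inj_on_of_nodup_map hnd _
          (Finset.mem_def.1 (Equiv.Perm.cycleOf_mem_cycleFactorsFinset_iff.2 (Equiv.Perm.mem_support.2 ha))) _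
          (Finset.mem_def.1 (Equiv.Perm.cycleOf_mem_cycleFactorsFinset_iff.2 (Equiv.Perm.mem_support.2 hb))) hab
        have hb' : b ∈ (x.cycleOf a).support := by
          rw [heq, Equiv.Perm.mem_support, Equiv.Perm.cycleOf_apply_self]; exact hb
        exact (Equiv.Perm.mem_support_cycleOf_iff.1 hb').1
      · intro a b c ha hb hc
        by_contra hcon
        simp only [not_or] at hcon
        have hsub : ({a, b, c} : Finset (Fin n)) ⊆ x.supportᶜ := by
          intro d hd
          rw [Finset.mem_compl, Equiv.Perm.mem_support, not_not]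
          simp only [Finset.mem_insert, Finset.mem_singleton] at hd
          rcases hd with rfl | rfl | rfl <;> assumption
        have h3 := Finset.card_le_card hsub
        rw [Finset.card_compl, Fintype.card_fin, Finset.card_insert_of_notMem (by simp [hcon.1, hcon.2.1]),
          Finset.card_pair hcon.2.2] at h3
        omega
    · rintro ⟨h1, h2⟩
      constructor
      · by_contra hcon
        have h3 : 3 ≤ x.supportᶜ.card := by rw [Finset.card_compl, Fintype.card_fin]; omega
        obtain ⟨a, b, c, ha, hb, hc, hab, hac, hbc⟩ := Finset.two_lt_card_iff.1 h3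
        rw [Finset.mem_compl, Equiv.Perm.mem_support, not_not] at ha hb hc
        rcases h2 a b c ha hb hc with h | h | h
        exacts [hab h, hac h, hbc h]
      · rw [Equiv.Perm.cycleType_def]
        refine Multiset.Nodup.map_on (fun f hf g hg hfg => ?_) x.cycleFactorsFinset.nodup
        rw [Finset.mem_val] at hf hg
        obtain ⟨hf1, hf2⟩ := Equiv.Perm.mem_cycleFactorsFinset_iff.1 hf
        obtain ⟨hg1, hg2⟩ := Equiv.Perm.mem_cycleFactorsFinset_iff.1 hg
        obtain ⟨a, ha⟩ : f.support.Nonempty :=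
          Finset.nonempty_iff_ne_empty.2 fun h => hf1.ne_one (Equiv.Perm.support_eq_empty_iff.1 h)
        obtain ⟨b, hb⟩ : g.support.Nonempty :=
          Finset.nonempty_iff_ne_empty.2 fun h => hg1.ne_one (Equiv.Perm.support_eq_empty_iff.1 h)
        have hfa := Equiv.Perm.cycle_is_cycleOf ha hf
        have hgb := Equiv.Perm.cycle_is_cycleOf hb hg
        have hxa : x a ≠ a := by rw [← hf2 a ha]; exact Equiv.Perm.mem_support.1 ha
        have hxb : x b ≠ b := by rw [← hg2 b hb]; exact Equiv.Perm.mem_support.1 hb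
        have hsc : x.SameCycle a b := h1 a b hxa (by
          rw [hper a hxa, hper b hxb, ← hfa, ← hgb]; exact hfg)
        rw [hfa, hgb]
        exact hsc.cycleOf_eq
  rw [hgood]
  constructor
  · rintro ⟨P, hP, huniq⟩
    have hmem : ∀ a b, (∀ i : ℕ, (x ^ i) a = a ↔ (x ^ i) b = b) → (∀ i : ℕ, (x ^ i) a = b → (x ^ i) b = a) →
        swap a b ∈ P := fun a b => swap_mem x hx P (fun Q hQ => huniq Q hQ) a b
    have hno : ∀ a b c : Fin n, a ≠ b → a ≠ c → b ≠ c → swap a b ∈ P → swap a c ∈ P → False := by
      intro a b c hab hac hbc h1 h2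
      have h3 := Subgroup.orderOf_dvd_natCard (P : Subgroup (Perm (Fin n))) ((P : Subgroup (Perm (Fin n))).mul_mem h1 h2)
      obtain ⟨m, hm⟩ := IsPGroup.iff_card.1 P.2
      rw [(Equiv.Perm.isThreeCycle_swap_mul_swap_same hab hac hbc).orderOf, hm] at h3
      have := Nat.prime_three.dvd_of_dvd_pow h3
      omega
    constructor
    · intro a b ha hab
      by_contra hns
      obtain ⟨h, hh, hm⟩ := half x hx a ha
      set c := (x ^ h) a with hc
      have hne : a ≠ b := fun e => hns (e ▸ Equiv.Perm.SameCycle.refl x a)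
      have hac : a ≠ c := fun e => by
        have := Nat.le_of_dvd hh (hm ▸ (fix_iff x a h).1 e.symm)
        omega
      have hbc : b ≠ c := fun e => hns ⟨(h : ℤ), by rw [zpow_natCast, e]⟩
      refine hno a b c hne hac hbc (hmem a b (fun i => by rw [fix_iff, fix_iff, hab]) fun i hi => absurd ⟨(i : ℤ), by rw [zpow_natCast, hi]⟩ hns) ?_
      refine hmem a c (fun i => ?_) fun i hi => ?_
      · rw [hc, ← Perm.mul_apply, ← pow_add, add_comm, pow_add, Perm.mul_apply, (x ^ h).injective.eq_iff]
      · rw [hc, ← Perm.mul_apply, ← pow_add, add_comm, pow_add, Perm.mul_apply, hi, hc, ← Perm.mul_apply, ← pow_add, fix_iff, hm, two_mul]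
    · intro a b c ha hb hc
      by_contra hcon
      simp only [not_or] at hcon
      have hfixpow : ∀ d, x d = d → ∀ i : ℕ, (x ^ i) d = d := fun d hd i =>
        (fix_iff x d i).2 (by rw [(fixed_iff x d).1 hd]; exact one_dvd i)
      have hpair : ∀ d, x d = d → ∀ e, x e = e → swap d e ∈ P := fun d hd e he =>
        hmem d e (fun i => iff_of_true (hfixpow d hd i) (hfixpow e he i))
          fun i hi => by rw [hfixpow d hd i] at hi; rw [hfixpow e he i, hi]
      exact hno a b c hcon.1 hcon.2.1 hcon.2.2 (hpair a ha b hb) (hpair a ha c hc)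
  · intro hg
    obtain ⟨k, hk⟩ := hx
    obtain ⟨P, hP⟩ := (IsPGroup.of_card (n := k) (by rw [Nat.card_zpowers, hk]) : IsPGroup 2 (Subgroup.zpowers x)).exists_le_sylow
    exact ⟨P, hP (Subgroup.mem_zpowers x), fun Q hQ =>
      unique_of_good (Nat.card (Fin n)) le_rfl x ⟨k, hk⟩ hg Q P hQ (hP (Subgroup.mem_zpowers x))⟩

end Cfsg.Agent.S4349
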