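import Cfsg.Statements.S4351
import Cfsg.Agent.Lib.CNSimple.CITStructure
import Cfsg.Agent.Lib.SzRecog.Named
import Cfsg.Agent.Lib.SzFpf.Group
import Cfsg.Agent.Lib.Suzuki.Minor
import Cfsg.Agent.S3050

set_option autoImplicit false
open Cfsg

namespace Cfsg.Agent.S4351

universe u

open Cfsg.Agent.CNSimple

/-- An element of odd prime order centralises no non-trivial element of a `2`-subgroup. -/
theorem fpf_of_cit {G : Type u} [Group G] [Finite G] (hc : CIT G) {X : Subgroup G} (hX : IsPGroup 2 X)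
    {p : ℕ} (hp : p.Prime) (hp2 : p ≠ 2) {g : G} (hg : orderOf g = p) {x : G} (hx : x ∈ X)
    (hgx : g * x = x * g) : x = 1 := by
  haveI : Fact (Nat.Prime 2) := ⟨Nat.prime_two⟩
  by_contra hx1
  obtain ⟨k, hk⟩ := hX ⟨x, hx⟩
  have hk' : x ^ (2 ^ k) = 1 := congrArg Subtype.val hk
  obtain ⟨j, -, hj⟩ := (Nat.dvd_prime_pow Nat.prime_two).1 (orderOf_dvd_of_pow_eq_one hk')
  rcases j with _ | j
  · exact hx1 (orderOf_eq_one_iff.1 (hj.trans (pow_zero 2)))
  have ht : orderOf (x ^ (2 ^ j)) = 2 := by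
    rw [orderOf_pow, hj, Nat.gcd_eq_right (pow_dvd_pow 2 j.le_succ), pow_succ,
      Nat.mul_div_cancel_left _ (pow_pos Nat.two_pos j)]
  have hmem : g ∈ Subgroup.centralizer ({x ^ (2 ^ j)} : Set G) :=
    Subgroup.mem_centralizer_singleton_iff.2 (Commute.pow_right (show Commute g x from hgx) _).eq
  obtain ⟨i, hi⟩ := hc _ ht ⟨g, hmem⟩
  have hd : p ∣ 2 ^ i := hg ▸ orderOf_dvd_of_pow_eq_one (congrArg Subtype.val hi)
  exact hp2 ((Nat.prime_dvd_prime_iff_eq hp Nat.prime_two).1 (hp.dvd_of_dvd_pow hd))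

/-- A normal `2`-subgroup with quotient `PSL(2, 2 ^ n)` in a CIT group is elementary abelian. -/
theorem elementary_psl {G : Type u} [Group G] [Finite G] (hc : CIT G) {X : Subgroup G} [X.Normal]
    (hX : IsPGroup 2 X) (F : Type) [Field F] [Fintype F] [CharP F 2] (h4 : 4 ≤ Fintype.card F)
    (f : G ⧸ X ≃* Matrix.ProjectiveSpecialLinearGroup (Fin 2) F) :
    IsMulCommutative X ∧ ∀ x ∈ X, x * x = 1 := by
  haveI : Fact (Nat.Prime 3) := ⟨Nat.prime_three⟩
  obtain ⟨n, -, hn⟩ := FiniteField.card F 2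
  have h3 : 3 ∣ Nat.card G := by
    have := EPPO.three_dvd_psl F
    rw [← Nat.card_congr f.toEquiv] at this
    exact this.trans (Subgroup.card_quotient_dvd_card X)
  obtain ⟨x, hx⟩ := exists_prime_orderOf_dvd_card' 3 h3
  have hinj : Function.Injective (QuotientGroup.mk' (Subgroup.center (Matrix.SpecialLinearGroup (Fin 2) F))) := by
    rw [← MonoidHom.ker_eq_bot_iff, QuotientGroup.ker_mk', Subgroup.eq_bot_iff_forall]
    intro z hz
    obtain ⟨r, hr, hz⟩ := Matrix.SpecialLinearGroup.mem_center_iff.1 hz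
    rw [Fintype.card_fin] at hr
    have : r = 1 := (CharTwo.sq_inj.1 (hr.trans (one_pow 2).symm))
    exact Subtype.ext (by rw [← hz, this, map_one]; rfl)
  let e : Matrix.SpecialLinearGroup (Fin 2) F ≃* Matrix.ProjectiveSpecialLinearGroup (Fin 2) F :=
    MulEquiv.ofBijective _ ⟨hinj, QuotientGroup.mk'_surjective _⟩
  have h := (S3050.result X hX n (by
    by_contra hlt
    have : (n : ℕ) = 1 := by have := n.pos; omega
    rw [this] at hn; omega) F hn (f.trans e.symm) x hx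
    fun q hq hxq => fpf_of_cit hc hX Nat.prime_three (by norm_num) hx hq (mul_inv_eq_iff_eq_mul.1 hxq)).1
  exact ⟨h.1, fun a ha => by rw [← pow_two]; exact h.2 a ha⟩

/-- A normal `2`-subgroup with quotient a Suzuki group in a CIT group is elementary abelian. -/
theorem elementary_suzuki {G : Type u} [Group G] [Finite G] (hc : CIT G) {X : Subgroup G} [X.Normal]
    (hX : IsO2 X) (hs : Cfsg.IsSuzuki (G ⧸ X)) : IsMulCommutative X ∧ ∀ x ∈ X, x * x = 1 := by
  obtain ⟨hsimple, k, hk, hcard⟩ := hs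
  haveI := hsimple
  have h3 : ¬ 3 ∣ Nat.card (G ⧸ X) := hcard ▸ EPPO.not_three_dvd_suzuki k
  have hna : ∃ a b : G ⧸ X, a * b ≠ b * a := by
    by_contra h
    push Not at h
    letI : CommGroup (G ⧸ X) := { (inferInstance : Group (G ⧸ X)) with mul_comm := h }
    have hp := IsSimpleGroup.prime_card (α := G ⧸ X)
    rw [hcard] at hp
    have h4 : 2 ^ (2 * k + 1) ∣ 2 ^ (2 * k + 1) * 2 ^ (2 * k + 1) := dvd_mul_right _ _
    have h2 : (2 : ℕ) ∣ (2 ^ (2 * k + 1)) ^ 2 * ((2 ^ (2 * k + 1)) ^ 2 + 1) * (2 ^ (2 * k + 1) - 1) :=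
      Dvd.dvd.mul_right (Dvd.dvd.mul_right (dvd_pow (dvd_pow_self 2 (by omega)) (by norm_num)) _) _
    have := (Nat.prime_dvd_prime_iff_eq Nat.prime_two hp).1 h2
    have h8 : 8 ≤ 2 ^ (2 * k + 1) := (Nat.pow_le_pow_right Nat.two_pos (show 3 ≤ 2 * k + 1 by omega))
    generalize 2 ^ (2 * k + 1) = q at this h8
    have h64 : 64 ≤ q ^ 2 * (q ^ 2 + 1) * (q - 1) := by
      calc 64 ≤ q ^ 2 := by nlinarith
        _ ≤ q ^ 2 * (q ^ 2 + 1) := Nat.le_mul_of_pos_right _ (by omega)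
        _ ≤ _ := Nat.le_mul_of_pos_right _ (by omega)
    omega
  rcases SzRecog.simple_list hna (Or.inr (hX.quotient_cit hc)) with ⟨F, i1, i2, -, ⟨f⟩⟩ | ⟨F, i1, i2, hF, ⟨f⟩⟩ |
    ⟨F, i1, i2, m, hm, hF, ⟨f⟩⟩
  · exact absurd (Nat.card_congr f.toEquiv ▸ EPPO.three_dvd_psl F) h3
  · exact absurd (by rw [Nat.card_congr f.toEquiv, EPPO.card_psl34 hF]; norm_num) h3
  · have h : Suzuki.SzField F m := ⟨hm, hF⟩
    let e : G ⧸ X ≃* Cfsg.Sz F m := f.trans (Suzuki.minorEquiv h).symm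
    let P : G →* Cfsg.Sz F m := e.toMonoidHom.comp (QuotientGroup.mk' X)
    have hker : P.ker = X := by
      rw [← QuotientGroup.ker_mk' X]; ext x; simp [P, MonoidHom.mem_ker]
    obtain ⟨hab, hsq⟩ := SzFpf.elementary h _ G P (e.surjective.comp (QuotientGroup.mk'_surjective X))
      (hker ▸ hX.isPGroup)
      (fun g hg x hx => fpf_of_cit hc hX.isPGroup (p := 5) (by norm_num) (by norm_num) hg (hker ▸ hx)) le_rfl
    rw [hker] at hab hsq
    exact ⟨⟨⟨fun a b => Subtype.ext (hab a a.2 b b.2)⟩⟩, hsq⟩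

/-- Let G be a finite non-solvable group in which the centralizer of every non-identity element is nilpotent. Then G is a non-abelian simple group; or G has a normal subgroup of index 2 isomorphic to PSL(2, 9); or G has a nontrivial normal elementary abelian 2-subgroup N such that G/N is isomorphic to PSL(2, q) for some q = 2ⁿ ≥ 4 or is a simple group of Suzuki type (simple, of the order of a Suzuki group). -/
theorem result {G : Type*} [Group G] [Finite G] (hG : ¬ Group.IsSolvable G)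
    (hCN : ∀ x : G, x ≠ 1 → Group.IsNilpotent (Subgroup.centralizer ({x} : Set G))) :
    (IsSimpleGroup G ∧ ¬ IsMulCommutative G) ∨
    (∃ (N : Subgroup G), N.Normal ∧ N.index = 2 ∧ ∃ (F : Type) (_ : Field F) (_ : Fintype F), Fintype.card F = 9 ∧
        Nonempty (N ≃* Matrix.ProjectiveSpecialLinearGroup (Fin 2) F)) ∨
    (∃ (N : Subgroup G) (_ : N.Normal), N ≠ ⊥ ∧ IsPGroup 2 N ∧ IsMulCommutative N ∧ (∀ x ∈ N, x * x = 1) ∧
        ((∃ (F : Type) (_ : Field F) (_ : Fintype F), CharP F 2 ∧ 4 ≤ Fintype.card F ∧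
            Nonempty (G ⧸ N ≃* Matrix.ProjectiveSpecialLinearGroup (Fin 2) F)) ∨ Cfsg.IsSuzuki (G ⧸ N))) := by
  rcases cn_structure hCN hG with h | h | ⟨X, hXn, hX1, hX, hc, hq⟩
  · exact Or.inl h
  · exact Or.inr (Or.inl h)
  refine Or.inr (Or.inr ⟨X, hXn, hX1, hX.isPGroup, ?_⟩)
  rcases hq with ⟨F, i1, i2, hF, h4, ⟨f⟩⟩ | hs
  · exact ⟨(elementary_psl hc hX.isPGroup F h4 f).1, (elementary_psl hc hX.isPGroup F h4 f).2,
      Or.inl ⟨F, i1, i2, hF, h4, ⟨f⟩⟩⟩
  · exact ⟨(elementary_suzuki hc hX hs).1, (elementary_suzuki hc hX hs).2, Or.inr hs⟩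

end Cfsg.Agent.S4351
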