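import Cfsg.Statements.S4354
import Cfsg.Agent.Lib.Small.PPrimeClassSimple

set_option autoImplicit false
open Cfsg

namespace Cfsg.Agent.S4354

/-- Let G be a finite group and p a prime such that the Sylow p-subgroups of G are non-abelian while every element of p-power order has conjugacy class size prime to p, and suppose no nontrivial proper normal subgroup N of G has this property and no quotient G/N by such an N has it. Then G is simple. -/
theorem result {G : Type*} [Group G] [Finite G]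
    (p : ℕ) [Fact p.Prime] (h : ((∃ P : Sylow p G, ¬ IsMulCommutative P) ∧ ∀ x : G, (∃ k : ℕ, orderOf x = p ^ k) → ¬ p ∣ (Subgroup.centralizer ({x} : Set G)).index))
    (hmin : ∀ (N : Subgroup G) [N.Normal], N ≠ ⊥ → N ≠ ⊤ →
      ¬ ((∃ P : Sylow p N, ¬ IsMulCommutative P) ∧ ∀ x : N, (∃ k : ℕ, orderOf x = p ^ k) → ¬ p ∣ (Subgroup.centralizer ({x} : Set N)).index) ∧
      ¬ ((∃ P : Sylow p (G ⧸ N), ¬ IsMulCommutative P) ∧ ∀ x : (G ⧸ N), (∃ k : ℕ, orderOf x = p ^ k) → ¬ p ∣ (Subgroup.centralizer ({x} : Set (G ⧸ N))).index)) :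
    IsSimpleGroup G := by
  refine PPrimeClass.isSimple h.1 h.2 (fun N _ h1 h2 S => ?_) (fun N _ h1 h2 S => ?_)
  · by_contra hS
    refine (hmin N h1 h2).1 ⟨⟨S, hS⟩, fun x hx => ?_⟩
    obtain ⟨k, hk⟩ := hx
    obtain ⟨Q, hQ⟩ := PPrimeClass.exists_sylow_le_centralizer
      (h.2 x ⟨k, by rw [Subgroup.orderOf_coe, hk]⟩)
    refine fun hd => PPrimeClass.not_dvd_index_inf Q N (hd.trans (Subgroup.index_dvd_of_le ?_))
    intro y hy
    rw [Subgroup.mem_centralizer_singleton_iff]
    exact Subtype.ext (Subgroup.mem_centralizer_singleton_iff.mp (hQ hy))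
  · by_contra hS
    refine (hmin N h1 h2).2 ⟨⟨S, hS⟩, fun y hy => ?_⟩
    obtain ⟨k, hk⟩ := hy
    obtain ⟨g, rfl⟩ := QuotientGroup.mk'_surjective N y
    set f := QuotientGroup.mk' N
    -- the `p`-part of a lift
    obtain ⟨a, m, hm, hgm⟩ := Nat.exists_eq_pow_mul_and_not_dvd
      (orderOf_pos g).ne' p (Fact.out : p.Prime).ne_one
    have hco : Nat.Coprime m (p ^ k) :=
      (((Fact.out : p.Prime).coprime_iff_not_dvd.mpr hm).pow_left k).symm
    obtain ⟨e, he0, he1⟩ := Nat.chineseRemainder hco 0 1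
    have hpow : (g ^ e) ^ (p ^ a) = 1 := by
      rw [← pow_mul]
      refine orderOf_dvd_iff_pow_eq_one.mp ?_
      rw [hgm, mul_comm e]
      exact mul_dvd_mul_left _ (Nat.modEq_zero_iff_dvd.mp he0)
    have hfe : f (g ^ e) = f g := by
      rw [map_pow]
      refine pow_eq_pow_iff_modEq.mpr (by rw [hk]; exact he1) |>.trans (pow_one _)
    obtain ⟨i, -, hi⟩ := (Nat.dvd_prime_pow (Fact.out : p.Prime)).mp (orderOf_dvd_of_pow_eq_one hpow)
    obtain ⟨Q, hQ⟩ := PPrimeClass.exists_sylow_le_centralizer (h.2 _ ⟨i, hi⟩)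
    intro hd
    have hle : (Q : Subgroup G).map f ≤ Subgroup.centralizer ({f g} : Set (G ⧸ N)) := by
      rintro _ ⟨c, hc, rfl⟩
      rw [Subgroup.mem_centralizer_singleton_iff, ← hfe, ← map_mul, ← map_mul,
        Subgroup.mem_centralizer_singleton_iff.mp (hQ hc)]
    exact Q.not_dvd_index ((hd.trans (Subgroup.index_dvd_of_le hle)).trans
      (Subgroup.index_map_dvd _ (QuotientGroup.mk'_surjective N)))

end Cfsg.Agent.S4354
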