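import Cfsg.Agent.S4357

/-! Redundant Sylow subgroups of `PSL₂(q)`. -/

set_option autoImplicit false

namespace Cfsg.Agent.S4356

theorem result {F : Type*} [Field F] [Fintype F] (p : ℕ) [Fact p.Prime] :
    (∃ Q : Sylow p (Matrix.ProjectiveSpecialLinearGroup (Fin 2) F), ∀ x : Matrix.ProjectiveSpecialLinearGroup (Fin 2) F,
        (∃ k : ℕ, orderOf x = p ^ k) → ∃ P : Sylow p (Matrix.ProjectiveSpecialLinearGroup (Fin 2) F), P ≠ Q ∧ x ∈ P) ↔
      (p = 2 ∧ (¬ ∃ k : ℕ, Fintype.card F + 1 = 2 ^ k) ∧ (¬ ∃ k : ℕ, Fintype.card F = 2 ^ k) ∧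
        ¬ ∃ k : ℕ, Fintype.card F = 2 ^ k + 1) := by
  classical
  refine Iff.trans ?_ (Cfsg.Agent.S4357.result (F := F) p)
  exact (RedundantSylow.transfer (p := p)
    (QuotientGroup.mk' (Subgroup.center (Matrix.SpecialLinearGroup (Fin 2) F)))
    (QuotientGroup.mk'_surjective _) (le_of_eq (QuotientGroup.ker_mk' _))).symm

end Cfsg.Agent.S4356
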