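import Cfsg.Agent.Lib.Classical.DicksonTori
import Cfsg.Agent.Lib.Classical.SL2SylowNormalizer
import Cfsg.Agent.Lib.Classical.SL2Sylow
import Cfsg.Agent.Lib.Classical.PSL2Products
import Cfsg.Agent.Lib.FGStruct.RedundantSylow
import Mathlib.RingTheory.IntegralDomain

/-! Redundant Sylow subgroups of `SL₂(q)`. -/

set_option autoImplicit false
set_option linter.style.haveILetI false

namespace Cfsg.Agent.S4357

open Matrix TwoByTwo

variable {F : Type*} [Field F]

local notation "SL2" => Matrix.SpecialLinearGroup (Fin 2) F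

private theorem scalar_of_isSc {x : SL2} (h : PStable.IsSc x) : IsScalar x.1 := by
  obtain ⟨c, hc⟩ := h
  rw [hc]
  simp [IsScalar]

private theorem notScalar {x : SL2} (h : x ∉ Subgroup.center SL2) : ¬ IsScalar x.1 := fun hs =>
  h ((PSL2Products.mem_center_iff x).2 hs)

private theorem center_sq {x : SL2} (h : x ∈ Subgroup.center SL2) : x * x = 1 :=
  SL2SylowNormalizer.mul_self_of_scalar ((PSL2Products.mem_center_iff x).1 h)

/-- two commuting-generated Sylow subgroups coincide -/
private theorem eq_of_le_abelian {G : Type*} [Group G] {p : ℕ} (P Q : Sylow p G) (C : Subgroup G)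
    (hC : ∀ a ∈ C, ∀ b ∈ C, a * b = b * a) (hP : (P : Subgroup G) ≤ C) (hQ : (Q : Subgroup G) ≤ C) : P = Q := by
  have hn : (Q : Subgroup G) ≤ Subgroup.normalizer ((P : Subgroup G) : Set G) := fun y hy =>
    Subgroup.centralizer_le_normalizer _ (Subgroup.mem_centralizer_iff.2 fun x hx => hC x (hP hx) y (hQ hy))
  have hsup : IsPGroup p ((P : Subgroup G) ⊔ (Q : Subgroup G) : Subgroup G) := P.2.to_sup_of_normal_left' Q.2 hn
  exact Sylow.ext ((P.3 hsup le_sup_left).symm.trans (Q.3 hsup le_sup_right))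

variable [Fintype F]

private theorem sq_one_central (h2 : (2 : F) ≠ 0) {x : SL2} (h : x * x = 1) : x ∈ Subgroup.center SL2 :=
  SL2Inv.mem_center_iff.2 (SL2Inv.eq_or_eq_negOne_of_mul_self h2 h)

private theorem semisimple (hodd : Odd (Fintype.card F)) {x : SL2} (hx : ∃ j, orderOf x = 2 ^ j)
    (hxc : x ∉ Subgroup.center SL2) :
    ¬ PStable.IsSc x ∧ Matrix.trace (x : Matrix (Fin 2) (Fin 2) F) ^ 2 ≠ 4 := by
  haveI := Fact.mk (CharP.char_is_prime F (ringChar F))
  refine Dickson.semis_of_pow (ringChar F) fun h => hxc (sq_one_central (SL2BorelTorus.two_ne_zero_of_odd_card hodd) ?_)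
  have hc : x ^ ringChar F ∈ Subgroup.center SL2 := by
    rw [← QuotientGroup.eq_one_iff]
    rw [← map_pow] at h
    exact h
  have h1 : orderOf x ∣ ringChar F * 2 := by
    rw [orderOf_dvd_iff_pow_eq_one, pow_mul, sq]
    exact center_sq hc
  obtain ⟨j, hj⟩ := hx
  have hp2 : ringChar F ≠ 2 := fun h2 =>
    SL2BorelTorus.two_ne_zero_of_odd_card hodd (by
      have := CharP.cast_eq_zero F (ringChar F)
      rwa [h2, Nat.cast_two] at this)
  rw [hj] at h1
  have h3 : 2 ^ j ∣ 2 :=
    (((Nat.coprime_primes Nat.prime_two (CharP.char_is_prime F (ringChar F))).2 (Ne.symm hp2)).pow_left j).dvd_of_dvd_mul_left h1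
  rw [← sq]
  exact orderOf_dvd_iff_pow_eq_one.1 (hj ▸ h3)

private theorem card_torus_cases (hodd : Odd (Fintype.card F)) {x : SL2} (hx : ∃ j, orderOf x = 2 ^ j)
    (hxc : x ∉ Subgroup.center SL2) :
    Nat.card (SL2Tori.torus x) = Fintype.card F + 1 ∨ Nat.card (SL2Tori.torus x) = Fintype.card F - 1 := by
  obtain ⟨h1, h2⟩ := semisimple hodd hx hxc
  have e : PStable.cent (⊤ : Subgroup SL2) x = SL2Tori.torus x := by
    unfold PStable.cent
    rw [top_inf_eq]
  have := Dickson.card_cent_top h1 h2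
  rwa [e, Nat.card_eq_fintype_card (α := F)] at this

private theorem sylow_two_noncomm (hodd : Odd (Fintype.card F)) (P : Sylow 2 SL2) :
    ∃ a ∈ P, ∃ b ∈ P, a * b ≠ b * a := by
  haveI := Fact.mk (CharP.char_is_prime F (ringChar F))
  have hp2 : ringChar F ≠ 2 := fun h2 =>
    SL2BorelTorus.two_ne_zero_of_odd_card hodd (by
      have := CharP.cast_eq_zero F (ringChar F)
      rwa [h2, Nat.cast_two] at this)
  obtain ⟨Q, hQ, a, ha, b, hb, hab⟩ := SL2Sylow.exists_noncomm_twoGroup (F := F) (ringChar F) hp2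
  obtain ⟨P', hP'⟩ := hQ.exists_le_sylow
  obtain ⟨e⟩ : Nonempty ((P' : Subgroup SL2) ≃* (P : Subgroup SL2)) := ⟨Sylow.equiv P' P⟩
  refine ⟨e ⟨a, hP' ha⟩, SetLike.coe_mem _, e ⟨b, hP' hb⟩, SetLike.coe_mem _, fun h => hab ?_⟩
  rw [← Subgroup.coe_mul, ← Subgroup.coe_mul, ← map_mul, ← map_mul] at h
  exact congrArg Subtype.val (e.injective (Subtype.ext h))

/-- when neither `q - 1` nor `q + 1` is a power of two every Sylow `2`-subgroup is redundant -/
private theorem redundant_two (hodd : Odd (Fintype.card F))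
    (h1 : ¬ ∃ k : ℕ, Fintype.card F + 1 = 2 ^ k) (h2 : ¬ ∃ k : ℕ, Fintype.card F = 2 ^ k + 1) (Q : Sylow 2 SL2) :
    RedundantSylow.Redundant Q := by
  intro x hx
  by_contra hcon
  push Not at hcon
  -- the centralizer of `x` normalizes `Q`
  have hnorm : ∀ g : SL2, g * x = x * g → ∀ n ∈ Q, g * n * g⁻¹ ∈ Q := by
    intro g hg n hn
    obtain ⟨k, hk⟩ := hx
    obtain ⟨P₀, hP₀⟩ := (IsPGroup.of_card (n := k) (by rw [Nat.card_zpowers, hk]) : IsPGroup 2 (Subgroup.zpowers x)).exists_le_sylow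
    have hxQ : x ∈ Q := by
      by_contra hxQ
      exact hcon P₀ (fun he => hxQ (he ▸ hP₀ (Subgroup.mem_zpowers x))) (hP₀ (Subgroup.mem_zpowers x))
    have hgQ : g • Q = Q := by
      by_contra hne
      refine hcon (g • Q) hne ?_
      show x ∈ ((g • Q : Sylow 2 SL2) : Subgroup SL2)
      rw [Sylow.coe_subgroup_smul]
      exact ⟨x, hxQ, by show g * x * g⁻¹ = x; rw [hg, mul_inv_cancel_right]⟩
    have h5 : g * n * g⁻¹ ∈ ((g • Q : Sylow 2 SL2) : Subgroup SL2) := by
      rw [Sylow.coe_subgroup_smul]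
      exact ⟨n, hn, rfl⟩
    rwa [hgQ] at h5
  -- a non-central element of `Q` with centralizer inside that of `x`
  obtain ⟨w, hwQ, hwc, hwx⟩ : ∃ w ∈ Q, w ∉ Subgroup.center SL2 ∧ ∀ g, g * w = w * g → g * x = x * g := by
    obtain ⟨k, hk⟩ := hx
    obtain ⟨P₀, hP₀⟩ := (IsPGroup.of_card (n := k) (by rw [Nat.card_zpowers, hk]) : IsPGroup 2 (Subgroup.zpowers x)).exists_le_sylow
    have hxQ : x ∈ Q := by
      by_contra hxQ
      exact hcon P₀ (fun he => hxQ (he ▸ hP₀ (Subgroup.mem_zpowers x))) (hP₀ (Subgroup.mem_zpowers x))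
    by_cases hxc : x ∈ Subgroup.center SL2
    · obtain ⟨a, ha, b, hb, hab⟩ := sylow_two_noncomm hodd Q
      exact ⟨a, ha, fun hac => hab (Subgroup.mem_center_iff.1 hac b).symm, fun g _ => Subgroup.mem_center_iff.1 hxc g⟩
    · exact ⟨x, hxQ, hxc, fun g hg => hg⟩
  have hw2 : ∃ j, orderOf w = 2 ^ j := by
    obtain ⟨j, hj⟩ := IsPGroup.exists_orderOf_eq_pow Q.2 ⟨w, hwQ⟩
    exact ⟨j, by rw [← hj, Subgroup.orderOf_mk]⟩
  have hns := notScalar hwc
  obtain ⟨r, hr, hrd, hro⟩ : ∃ r : ℕ, r.Prime ∧ r ∣ Nat.card (SL2Tori.torus w) ∧ Odd r := by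
    rcases Nat.eq_two_pow_or_exists_odd_prime_and_dvd (Nat.card (SL2Tori.torus w)) with ⟨k, hk⟩ | h
    · rcases card_torus_cases hodd hw2 hwc with hc | hc
      · exact absurd ⟨k, hc ▸ hk⟩ h1
      · refine absurd ⟨k, ?_⟩ h2
        have := Fintype.card_pos (α := F)
        omega
    · exact h
  haveI := Fact.mk hr
  obtain ⟨⟨y, hyT⟩, hy⟩ := exists_prime_orderOf_dvd_card' r hrd
  rw [Subgroup.orderOf_mk] at hy
  have hyc : y ∉ Subgroup.center SL2 := fun h => by
    have : r ∣ 2 := hy ▸ orderOf_dvd_of_pow_eq_one (by rw [sq]; exact center_sq h)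
    rw [(Nat.prime_dvd_prime_iff_eq hr Nat.prime_two).1 this] at hro
    exact absurd hro (by decide)
  have hty : SL2Tori.torus y = SL2Tori.torus w := SL2Tori.torus_eq hns hyT (notScalar hyc)
  have hyw : y * w = w * y := Subgroup.mem_centralizer_singleton_iff.1 hyT
  have hfix : ∀ n ∈ (Q : Subgroup SL2), y * n = n * y := by
    refine RedundantSylow.fixes_of_self_centralizing Q.2 ?_ (hnorm y (hwx y hyw)) fun c hc hcomm => ?_
    · rw [hy]
      exact (Nat.coprime_primes hr Nat.prime_two).2 fun h => by rw [h] at hro; exact absurd hro (by decide)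
    · have hct : c ∈ SL2Tori.torus w := Subgroup.mem_centralizer_singleton_iff.2 (hcomm w hwQ hyw)
      rw [← hty] at hct
      exact (Subgroup.mem_centralizer_singleton_iff.1 hct).symm
  obtain ⟨a, ha, b, hb, hab⟩ := sylow_two_noncomm hodd Q
  exact hab (SL2Tori.torus_comm (notScalar hyc) a (Subgroup.mem_centralizer_singleton_iff.2 (hfix a ha).symm)
    b (Subgroup.mem_centralizer_singleton_iff.2 (hfix b hb).symm))

/-- when `q - 1` or `q + 1` is a power of two some element lies in a unique Sylow `2`-subgroup -/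
private theorem unique_two (hodd : Odd (Fintype.card F)) {x : SL2} {k : ℕ} (hk : 2 ≤ k)
    (hq : Fintype.card F + 1 = 2 ^ k ∨ Fintype.card F = 2 ^ k + 1)
    (hxo : orderOf x = 2 ^ k) (hxT : Nat.card (SL2Tori.torus x) = 2 ^ k) :
    ∀ P P' : Sylow 2 SL2, x ∈ P → x ∈ P' → P = P' := by
  have h2 := SL2BorelTorus.two_ne_zero_of_odd_card hodd
  have h4 : 4 ≤ 2 ^ k := le_trans (by norm_num) (Nat.pow_le_pow_right two_pos hk)
  have hxc : x ∉ Subgroup.center SL2 := fun h => by
    have := Nat.le_of_dvd two_pos (hxo ▸ orderOf_dvd_of_pow_eq_one (show x ^ 2 = 1 by rw [sq]; exact center_sq h))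
    omega
  obtain ⟨hsc, hτ⟩ := semisimple hodd ⟨k, hxo⟩ hxc
  set A := SL2Tori.torus x with hA
  have hAz : A = Subgroup.zpowers x :=
    (Subgroup.eq_of_le_of_card_ge (Subgroup.zpowers_le.2 (Subgroup.mem_centralizer_singleton_iff.2 rfl))
      (by rw [Nat.card_zpowers, hxo, hxT])).symm
  -- the normalizer of the torus
  have hpm : ∀ n ∈ Subgroup.normalizer (A : Set SL2), n * x * n⁻¹ = x ∨ n * x * n⁻¹ = x⁻¹ := by
    intro n hn
    have hm : n * x * n⁻¹ ∈ A := (Subgroup.mem_normalizer_iff.1 hn x).1 (Subgroup.mem_centralizer_singleton_iff.2 rfl)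
    exact Dickson.commute_eq_or_inv' hsc (Subgroup.mem_centralizer_singleton_iff.1 hm).symm
      (SL2Tori.trace_conj n x) hτ
  have hN : Nat.card (Subgroup.normalizer (A : Set SL2)) ≤ 2 * Nat.card A := by
    have hfix : ∀ n, n * x * n⁻¹ = x → n ∈ A := fun n h =>
      Subgroup.mem_centralizer_singleton_iff.2 (mul_inv_eq_iff_eq_mul.1 h)
    by_cases h : ∃ n₀ ∈ Subgroup.normalizer (A : Set SL2), n₀ * x * n₀⁻¹ = x⁻¹
    · obtain ⟨n₀, -, h0⟩ := h
      have hsub : (Subgroup.normalizer (A : Set SL2) : Set SL2) ⊆ (A : Set SL2) ∪ (fun a => n₀ * a) '' (A : Set SL2) := by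
        intro n hn
        rcases hpm n hn with h | h
        · exact Or.inl (hfix n h)
        · refine Or.inr ⟨n₀⁻¹ * n, hfix _ ?_, mul_inv_cancel_left n₀ n⟩
          calc n₀⁻¹ * n * x * (n₀⁻¹ * n)⁻¹ = n₀⁻¹ * (n * x * n⁻¹) * n₀ := by group
            _ = n₀⁻¹ * (n₀ * x * n₀⁻¹) * n₀ := by rw [h, h0]
            _ = x := by group
      have h8 := (Set.ncard_le_ncard hsub (Set.toFinite _)).trans (Set.ncard_union_le _ _)
      have h9 := Set.ncard_image_le (f := fun a : SL2 => n₀ * a) (s := (A : Set SL2)) (Set.toFinite _)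
      have e1 : (A : Set SL2).ncard = Nat.card A := rfl
      have e2 : (Subgroup.normalizer (A : Set SL2) : Set SL2).ncard = Nat.card (Subgroup.normalizer (A : Set SL2)) := rfl
      omega
    · push Not at h
      have : Subgroup.normalizer (A : Set SL2) ≤ A := fun n hn => hfix n ((hpm n hn).resolve_right (h n hn))
      have := Subgroup.card_le_of_le this
      omega
  have hP : ∀ P : Sylow 2 SL2, x ∈ P → (P : Subgroup SL2) = Subgroup.normalizer (A : Set SL2) := by
    intro P hxP
    have hAP : A ≤ (P : Subgroup SL2) := by rw [hAz]; exact Subgroup.zpowers_le.2 hxP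
    obtain ⟨m, hm⟩ := IsPGroup.iff_card.1 P.2
    have hmk : m ≤ k + 1 := by
      have hd : 2 ^ m ∣ Fintype.card F * (Fintype.card F ^ 2 - 1) := by
        have := Subgroup.card_subgroup_dvd_card (P : Subgroup SL2)
        rwa [Dickson.card_sl2_eq, Nat.card_eq_fintype_card (α := F), hm] at this
      have hsq : Fintype.card F ^ 2 - 1 = (Fintype.card F + 1) * (Fintype.card F - 1) := by
        simpa using Nat.sq_sub_sq (Fintype.card F) 1
      obtain ⟨j, rfl⟩ : ∃ j, k = j + 2 := ⟨k - 2, by omega⟩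
      have hpk : 2 ^ (j + 2) = 2 * (2 * 2 ^ j) := by ring
      obtain ⟨o, ho, hfac⟩ : ∃ o, Odd o ∧ Fintype.card F * (Fintype.card F ^ 2 - 1) = 2 ^ (j + 2 + 1) * o := by
        rcases hq with hq | hq
        · refine ⟨Fintype.card F * (2 * 2 ^ j - 1), hodd.mul ⟨2 ^ j - 1, ?_⟩, ?_⟩
          · have := Nat.one_le_two_pow (n := j); omega
          · rw [hsq, hq, show Fintype.card F - 1 = 2 * (2 * 2 ^ j - 1) by omega]; ring
        · refine ⟨Fintype.card F * (2 * 2 ^ j + 1), hodd.mul ⟨2 ^ j, rfl⟩, ?_⟩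
          rw [hsq, show Fintype.card F - 1 = 2 ^ (j + 2) by omega,
            show Fintype.card F + 1 = 2 * (2 * 2 ^ j + 1) by omega]
          ring
      rw [hfac] at hd
      exact (Nat.pow_dvd_pow_iff_le_right one_lt_two).1
        (((Nat.coprime_two_left.2 ho).pow_left m).dvd_of_dvd_mul_right hd)
    have hne : A ≠ (P : Subgroup SL2) := fun he => by
      obtain ⟨a, ha, b, hb, hab⟩ := sylow_two_noncomm hodd P
      exact hab (SL2Tori.torus_comm (notScalar hxc) a (he ▸ ha : a ∈ A) b (he ▸ hb : b ∈ A))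
    have hkm : k < m := by
      by_contra hle
      exact hne (Subgroup.eq_of_le_of_card_ge hAP (by rw [hm, hxT]; exact Nat.pow_le_pow_right two_pos (by omega)))
    have hm' : m = k + 1 := by omega
    have hPN : (P : Subgroup SL2) ≤ Subgroup.normalizer (A : Set SL2) := by
      haveI : (A.subgroupOf (P : Subgroup SL2)).Normal := by
        refine Subgroup.normal_of_index_eq_two ?_
        have h5 := Subgroup.card_mul_index (A.subgroupOf (P : Subgroup SL2))
        rw [Nat.card_congr (Subgroup.subgroupOfEquivOfLe hAP).toEquiv, hxT, hm, hm', pow_succ] at h5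
        exact Nat.eq_of_mul_eq_mul_left (by positivity) h5
      exact Subgroup.normal_subgroupOf_iff_le_normalizer hAP |>.1 this
    refine Subgroup.eq_of_le_of_card_ge hPN ?_
    rw [hm, hm', pow_succ, ← hxT, mul_comm]
    exact hN
  exact fun P P' h h' => Sylow.ext ((hP P h).trans (hP P' h').symm)

theorem result {F : Type*} [Field F] [Fintype F] (p : ℕ) [Fact p.Prime] :
    (∃ Q : Sylow p (Matrix.SpecialLinearGroup (Fin 2) F), ∀ x : Matrix.SpecialLinearGroup (Fin 2) F,
        (∃ k : ℕ, orderOf x = p ^ k) → ∃ P : Sylow p (Matrix.SpecialLinearGroup (Fin 2) F), P ≠ Q ∧ x ∈ P) ↔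
      (p = 2 ∧ (¬ ∃ k : ℕ, Fintype.card F + 1 = 2 ^ k) ∧ (¬ ∃ k : ℕ, Fintype.card F = 2 ^ k) ∧
        ¬ ∃ k : ℕ, Fintype.card F = 2 ^ k + 1) := by
  classical
  constructor
  · rintro ⟨Q, hQ⟩
    have hp : p.Prime := Fact.out
    by_cases hcase : p = 2 ∧ Odd (Fintype.card F)
    · obtain ⟨rfl, hodd⟩ := hcase
      have hpow : ∀ k : ℕ, 2 ≤ k → (Fintype.card F + 1 = 2 ^ k ∨ Fintype.card F = 2 ^ k + 1) →
          ∀ x : Matrix.SpecialLinearGroup (Fin 2) F, orderOf x = 2 ^ k → Nat.card (SL2Tori.torus x) = 2 ^ k → False := by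
        intro k hk hq x hxo hxT
        obtain ⟨P, hPQ, hxP⟩ := hQ x ⟨k, hxo⟩
        obtain ⟨g, hg⟩ := MulAction.exists_smul_eq (Matrix.SpecialLinearGroup (Fin 2) F) P Q
        obtain ⟨P', hP', hy⟩ := hQ (g * x * g⁻¹) ⟨k, (orderOf_injective (MulAut.conj g).toMonoidHom (MulAut.conj g).injective x).trans hxo⟩
        have hmem : x ∈ g⁻¹ • P' := by
          show x ∈ ((g⁻¹ • P' : Sylow 2 _) : Subgroup _)
          rw [Sylow.coe_subgroup_smul]
          exact ⟨g * x * g⁻¹, hy, by show g⁻¹ * (g * x * g⁻¹) * g⁻¹⁻¹ = x; group⟩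
        have := unique_two hodd hk hq hxo hxT _ _ hxP hmem
        exact hP' (by rw [← hg, this, smul_inv_smul])
      refine ⟨rfl, ?_, ?_, ?_⟩
      · rintro ⟨k, hk⟩
        have h3 := Fintype.one_lt_card (α := F)
        have hk2 : 2 ≤ k := by
          rcases k with _ | _ | k <;> first | omega | (norm_num at hk; omega)
        obtain ⟨g, hg⟩ := SL2Tori.exists_noEigen (F := F)
        haveI := SL2Tori.isCyclic_torus hg
        obtain ⟨⟨x, hx⟩, hgen⟩ := IsCyclic.exists_ofOrder_eq_natCard (α := SL2Tori.torus g)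
        rw [Subgroup.orderOf_mk, SL2Tori.card_torus hg, Nat.card_eq_fintype_card, hk] at hgen
        refine hpow k hk2 (Or.inl hk) x hgen ?_
        rw [SL2Tori.torus_eq (SL2Tori.not_scalar hg) hx (notScalar fun hc => ?_), SL2Tori.card_torus hg,
          Nat.card_eq_fintype_card, hk]
        have h4 : 4 ≤ 2 ^ k := le_trans (by norm_num) (Nat.pow_le_pow_right two_pos hk2)
        have := Nat.le_of_dvd two_pos (hgen ▸ orderOf_dvd_of_pow_eq_one (show x ^ 2 = 1 by rw [sq]; exact center_sq hc))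
        omega
      · rintro ⟨k, hk⟩
        rcases k with _ | k
        · simp at hk
          exact absurd (Fintype.one_lt_card (α := F)) (by omega)
        · rw [hk, pow_succ] at hodd
          exact absurd hodd (by simp [Nat.even_iff, parity_simps])
      · rintro ⟨k, hk⟩
        have h3 := Fintype.one_lt_card (α := F)
        rcases k with _ | _ | k
        · rw [pow_zero] at hk
          rw [hk] at hodd
          exact absurd hodd (by decide)
        · -- `q = 3`
          norm_num at hk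
          obtain ⟨g, hg⟩ := SL2Tori.exists_noEigen (F := F)
          haveI := SL2Tori.isCyclic_torus hg
          obtain ⟨⟨x, hx⟩, hgen⟩ := IsCyclic.exists_ofOrder_eq_natCard (α := SL2Tori.torus g)
          rw [Subgroup.orderOf_mk, SL2Tori.card_torus hg, Nat.card_eq_fintype_card, hk] at hgen
          refine hpow 2 le_rfl (Or.inl (by omega)) x (by simpa using hgen) ?_
          rw [SL2Tori.torus_eq (SL2Tori.not_scalar hg) hx (notScalar fun hc => ?_), SL2Tori.card_torus hg,
            Nat.card_eq_fintype_card, hk]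
          · norm_num
          have := Nat.le_of_dvd two_pos (hgen ▸ orderOf_dvd_of_pow_eq_one (show x ^ 2 = 1 by rw [sq]; exact center_sq hc))
          omega
        · obtain ⟨a, ha⟩ := IsCyclic.exists_ofOrder_eq_natCard (α := Fˣ)
          rw [Nat.card_units, Nat.card_eq_fintype_card, hk, Nat.add_sub_cancel] at ha
          let f : Fˣ →* Matrix.SpecialLinearGroup (Fin 2) F :=
            { toFun := fun u => ⟨!![(u : F), 0; 0, ((u⁻¹ : Fˣ) : F)], by simp [Matrix.det_fin_two_of]⟩
              map_one' := by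
                apply Subtype.ext
                show !![((1 : Fˣ) : F), 0; 0, (((1 : Fˣ)⁻¹ : Fˣ) : F)] = (1 : Matrix (Fin 2) (Fin 2) F)
                ext i j
                fin_cases i <;> fin_cases j <;> simp
              map_mul' := fun u v => by
                apply Subtype.ext
                show !![((u * v : Fˣ) : F), 0; 0, (((u * v)⁻¹ : Fˣ) : F)] =
                  !![(u : F), 0; 0, ((u⁻¹ : Fˣ) : F)] * !![(v : F), 0; 0, ((v⁻¹ : Fˣ) : F)]
                rw [Matrix.mul_fin_two]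
                ext i j
                fin_cases i <;> fin_cases j <;> simp [mul_comm] }
          have hinj : Function.Injective f := fun u v h => by
            have := congrArg (fun M : Matrix.SpecialLinearGroup (Fin 2) F => M.1 0 0) h
            exact Units.ext this
          have hxo : orderOf (f a) = 2 ^ (k + 2) := by rw [orderOf_injective f hinj, ha]
          refine hpow (k + 2) (by omega) (Or.inr hk) (f a) hxo ?_
          have h4 : 4 ≤ 2 ^ (k + 2) := le_trans (by norm_num) (Nat.pow_le_pow_right two_pos (show 2 ≤ k + 2 by omega))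
          have hxc : f a ∉ Subgroup.center (Matrix.SpecialLinearGroup (Fin 2) F) := fun hc => by
            have := Nat.le_of_dvd two_pos (hxo ▸ orderOf_dvd_of_pow_eq_one (show f a ^ 2 = 1 by rw [sq]; exact center_sq hc))
            omega
          rcases card_torus_cases hodd ⟨_, hxo⟩ hxc with hc | hc
          · exfalso
            have hd : orderOf (f a) ∣ Nat.card (SL2Tori.torus (f a)) :=
              Subgroup.orderOf_dvd_natCard _ (Subgroup.mem_centralizer_singleton_iff.2 rfl)
            rw [hxo, hc, hk, add_assoc, Nat.dvd_add_right dvd_rfl] at hd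
            have := Nat.le_of_dvd (by norm_num) hd
            omega
          · rw [hc, hk, Nat.add_sub_cancel]
    · exfalso
      have habel : ∀ (P : Sylow p (Matrix.SpecialLinearGroup (Fin 2) F)), ∀ z ∈ P,
          z ∈ Subgroup.center (Matrix.SpecialLinearGroup (Fin 2) F) → z = 1 := by
        intro P z hz hzc
        obtain ⟨j, hj⟩ := IsPGroup.exists_orderOf_eq_pow P.2 ⟨z, hz⟩
        rw [Subgroup.orderOf_mk] at hj
        by_cases hp2 : p = 2
        · have hev : ¬ Odd (Fintype.card F) := fun h => hcase ⟨hp2, h⟩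
          haveI : CharP F 2 := by
            obtain ⟨n, hc, hn⟩ := FiniteField.card F (ringChar F)
            have : ringChar F = 2 := by
              by_contra hne
              exact hev (hn ▸ (hc.odd_of_ne_two hne).pow)
            exact ringChar.of_eq this
          rw [SL2Orders.center_eq_bot] at hzc
          exact Subgroup.mem_bot.1 hzc
        · refine orderOf_eq_one_iff.1 (Nat.eq_one_of_dvd_coprimes
            (((Nat.coprime_primes hp Nat.prime_two).2 hp2).pow_left j) (hj ▸ dvd_rfl) ?_)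
          exact orderOf_dvd_of_pow_eq_one (by rw [sq]; exact center_sq hzc)
      by_cases hQ1 : (Q : Subgroup (Matrix.SpecialLinearGroup (Fin 2) F)) = ⊥
      · obtain ⟨P, hPQ, -⟩ := hQ 1 ⟨0, by simp⟩
        refine hPQ (Sylow.ext (Q.3 P.2 ?_).symm).symm
        rw [hQ1]
        exact bot_le
      haveI : Nontrivial (Q : Subgroup (Matrix.SpecialLinearGroup (Fin 2) F)) :=
        (Subgroup.nontrivial_iff_ne_bot _).2 hQ1
      haveI := IsPGroup.center_nontrivial Q.2
      obtain ⟨⟨⟨z, hzQ⟩, hzc⟩, hz1⟩ := exists_ne (1 : Subgroup.center (Q : Subgroup (Matrix.SpecialLinearGroup (Fin 2) F)))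
      have hzne : z ≠ 1 := fun h => hz1 (Subtype.ext (Subtype.ext h))
      have hQT : (Q : Subgroup (Matrix.SpecialLinearGroup (Fin 2) F)) ≤ SL2Tori.torus z := fun n hn =>
        Subgroup.mem_centralizer_singleton_iff.2 (congrArg Subtype.val (Subgroup.mem_center_iff.1 hzc ⟨n, hn⟩))
      have hzns := notScalar fun hc => hzne (habel Q z hzQ hc)
      obtain ⟨j, hj⟩ := IsPGroup.exists_orderOf_eq_pow Q.2 ⟨z, hzQ⟩
      obtain ⟨P, hPQ, hzP⟩ := hQ z ⟨j, by rw [← hj, Subgroup.orderOf_mk]⟩
      have hPab : ∀ a ∈ P, ∀ b ∈ P, a * b = b * a := by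
        obtain ⟨e⟩ : Nonempty ((P : Subgroup (Matrix.SpecialLinearGroup (Fin 2) F)) ≃* (Q : Subgroup (Matrix.SpecialLinearGroup (Fin 2) F))) :=
          ⟨Sylow.equiv P Q⟩
        intro a ha b hb
        have h5 : e ⟨a, ha⟩ * e ⟨b, hb⟩ = e ⟨b, hb⟩ * e ⟨a, ha⟩ :=
          Subtype.ext (SL2Tori.torus_comm hzns _ (hQT (SetLike.coe_mem _)) _ (hQT (SetLike.coe_mem _)))
        rw [← map_mul, ← map_mul] at h5
        exact congrArg Subtype.val (e.injective h5)
      exact hPQ (eq_of_le_abelian P Q (SL2Tori.torus z) (SL2Tori.torus_comm hzns)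
        (fun n hn => Subgroup.mem_centralizer_singleton_iff.2 (hPab n hn z hzP)) hQT)
  · rintro ⟨rfl, h1, h0, h2⟩
    have hodd : Odd (Fintype.card F) := by
      obtain ⟨n, hc, hn⟩ := FiniteField.card F (ringChar F)
      by_cases h : ringChar F = 2
      · exact absurd ⟨(n : ℕ), by rw [hn, h]⟩ h0
      · exact hn ▸ (hc.odd_of_ne_two h).pow
    obtain ⟨Q⟩ := (inferInstance : Nonempty (Sylow 2 (Matrix.SpecialLinearGroup (Fin 2) F)))
    exact ⟨Q, redundant_two hodd h1 h2 Q⟩

end Cfsg.Agent.S4357
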