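import Cfsg.Agent.Lib.FGStruct.RedundantSylow
import Mathlib.LinearAlgebra.Matrix.GeneralLinearGroup.Card
import Mathlib.LinearAlgebra.Matrix.GeneralLinearGroup.Defs
import Mathlib.LinearAlgebra.Matrix.Transvection
import Mathlib.LinearAlgebra.Vandermonde
import Mathlib.NumberTheory.Multiplicity
import Mathlib.RingTheory.IntegralDomain
import Mathlib.GroupTheory.SpecificGroups.Cyclic
import Mathlib.Algebra.Ring.GeomSum
import Mathlib.Data.Nat.Factorization.Basic
import Mathlib.Algebra.Field.ZMod
import Mathlib.Tactic.LinearCombination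

/-! `GL_p(q)` with `p ∥ q - 1` has a redundant Sylow `p`-subgroup. -/

set_option autoImplicit false
set_option linter.style.haveILetI false

namespace Cfsg.Agent.S4358

open Matrix

variable {F : Type*} [Field F] {p : ℕ} [hp : Fact p.Prime]

/-- monomial matrix with shift `k` -/
private def mon (c : ZMod p → F) (k : ZMod p) : Matrix (ZMod p) (ZMod p) F :=
  Matrix.of fun i j => if j = i + k then c i else 0

private theorem mon_apply (c : ZMod p → F) (k i j : ZMod p) : mon c k i j = if j = i + k then c i else 0 := rfl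

private theorem mon_mul_apply (c : ZMod p → F) (k : ZMod p) (A : Matrix (ZMod p) (ZMod p) F) (i j : ZMod p) :
    (mon c k * A) i j = c i * A (i + k) j := by
  rw [Matrix.mul_apply, Finset.sum_eq_single (i + k)]
  · rw [mon_apply, if_pos rfl]
  · intro b _ hb; rw [mon_apply, if_neg hb, zero_mul]
  · intro h; exact absurd (Finset.mem_univ _) h

private theorem mul_mon_apply (c : ZMod p → F) (k : ZMod p) (A : Matrix (ZMod p) (ZMod p) F) (i j : ZMod p) :
    (A * mon c k) i j = A i (j - k) * c (j - k) := by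
  rw [Matrix.mul_apply, Finset.sum_eq_single (j - k)]
  · rw [mon_apply, if_pos (sub_add_cancel j k).symm]
  · intro b _ hb; rw [mon_apply, if_neg (fun h => hb (by rw [h, add_sub_cancel_right])), mul_zero]
  · intro h; exact absurd (Finset.mem_univ _) h

private theorem mon_one : mon (fun _ => (1 : F)) (0 : ZMod p) = 1 := by
  ext i j
  rw [mon_apply, add_zero, Matrix.one_apply]
  simp [eq_comm]

private theorem mon_mul (c c' : ZMod p → F) (k k' : ZMod p) :
    mon c k * mon c' k' = mon (fun i => c i * c' (i + k)) (k + k') := by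
  ext i j
  rw [mon_mul_apply, mon_apply, mon_apply, add_assoc, mul_ite, mul_zero]

private theorem mon_pow (c : ZMod p → F) (k : ZMod p) (n : ℕ) :
    mon c k ^ n = mon (fun i => ∏ l ∈ Finset.range n, c (i + (l : ZMod p) * k)) ((n : ZMod p) * k) := by
  induction n with
  | zero => rw [pow_zero, ← mon_one]; simp
  | succ n ih =>
    rw [pow_succ, ih, mon_mul]
    congr 1
    · funext i; rw [Finset.prod_range_succ]
    · push_cast; ring

/-- the product over a cycle of the shift -/
private theorem prod_cycle (c : ZMod p → F) (i : ZMod p) {k : ZMod p} (hk : k ≠ 0) :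
    ∏ l ∈ Finset.range p, c (i + (l : ZMod p) * k) = ∏ j, c j := by
  refine Finset.prod_bij (fun l _ => i + (l : ZMod p) * k) (fun l _ => Finset.mem_univ _) ?_ ?_ (fun l _ => rfl)
  · intro a ha b hb h
    have h' := mul_right_cancel₀ hk (add_left_cancel h)
    rw [ZMod.natCast_eq_natCast_iff', Nat.mod_eq_of_lt (Finset.mem_range.1 ha), Nat.mod_eq_of_lt (Finset.mem_range.1 hb)] at h'
    exact h'
  · intro b _
    refine ⟨((b - i) * k⁻¹).val, Finset.mem_range.2 (ZMod.val_lt _), ?_⟩
    rw [ZMod.natCast_zmod_val, inv_mul_cancel_right₀ hk, add_sub_cancel]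

private def chi (a : F) (j : ZMod p) : F := a ^ j.val

private theorem chi_natCast {a : F} (ha : a ^ p = 1) (n : ℕ) : chi a (n : ZMod p) = a ^ n := by
  rw [chi, ZMod.val_natCast]
  conv_rhs => rw [← Nat.mod_add_div n p, pow_add, pow_mul, ha, one_pow, mul_one]

private theorem chi_add {a : F} (ha : a ^ p = 1) (i j : ZMod p) : chi a (i + j) = chi a i * chi a j := by
  rw [show i + j = ((i.val + j.val : ℕ) : ZMod p) by push_cast; rw [ZMod.natCast_zmod_val, ZMod.natCast_zmod_val],
    chi_natCast ha, pow_add]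
  rfl

private theorem chi_zero (a : F) : chi a (0 : ZMod p) = 1 := by rw [chi, ZMod.val_zero, pow_zero]

private theorem chi_one (a : F) : chi a (1 : ZMod p) = a := by rw [chi, ZMod.val_one, pow_one]

private theorem chi_inj {a b : F} (ha : a ^ p = 1) (hb : b ^ p = 1) {l : ZMod p} (hl : l ≠ 0) (h : chi a l = chi b l) :
    a = b := by
  have hb0 : b ≠ 0 := fun h0 => by rw [h0, zero_pow hp.out.ne_zero] at hb; exact zero_ne_one hb
  have h1 : (a / b) ^ p = 1 := by rw [div_pow, ha, hb, div_one]
  have h2 : (a / b) ^ l.val = 1 := by rw [div_pow, show a ^ l.val = b ^ l.val from h, div_self (pow_ne_zero _ hb0)]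
  have hcop : p.gcd l.val = 1 := (Nat.Prime.coprime_iff_not_dvd hp.out).2 fun hd =>
    hl (ZMod.val_injective p (by rw [Nat.eq_zero_of_dvd_of_lt hd (ZMod.val_lt l), ZMod.val_zero]))
  have h3 := pow_gcd_eq_one.2 ⟨h1, h2⟩
  rw [hcop, pow_one, div_eq_one_iff_eq hb0] at h3
  exact h3

private theorem det_chi_ne_zero (v : ZMod p → F) (hv : Function.Injective v) :
    (Matrix.of fun i j => chi (v i) j).det ≠ 0 := by
  let f : Fin p ≃ ZMod p := Equiv.ofBijective (fun i : Fin p => (i.val : ZMod p))
    ⟨fun a b h => Fin.ext (by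
      have := congrArg ZMod.val h
      simpa [ZMod.val_natCast, Nat.mod_eq_of_lt a.2, Nat.mod_eq_of_lt b.2] using this),
      fun j => ⟨⟨j.val, ZMod.val_lt j⟩, ZMod.natCast_zmod_val j⟩⟩
  rw [← Matrix.det_submatrix_equiv_self f]
  have : (Matrix.of fun i j => chi (v i) j).submatrix f f = vandermonde fun i => v (f i) := by
    ext i j
    rw [Matrix.submatrix_apply, Matrix.of_apply, Matrix.vandermonde_apply]
    show v (f i) ^ ((j.val : ZMod p)).val = _
    rw [ZMod.val_natCast, Nat.mod_eq_of_lt j.2]
  rw [this, det_vandermonde_ne_zero_iff]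
  exact fun a b h => f.injective (hv h)

variable [Fintype F]

private theorem main (hp2 : p ≠ 2) (h1 : p ∣ Fintype.card F - 1) (h2 : ¬ p ^ 2 ∣ Fintype.card F - 1) :
    ∃ Q : Sylow p (GL (ZMod p) F), RedundantSylow.Redundant Q := by
  classical
  have hq := Fintype.one_lt_card (α := F)
  -- roots of unity
  have hμ : Nat.card {a : F // a ^ p = 1} = p := by
    have e : {a : F // a ^ p = 1} ≃ (powMonoidHom p : Fˣ →* Fˣ).ker :=
      { toFun := fun a => ⟨Units.mk0 a.1 (fun h => by have := a.2; rw [h, zero_pow hp.out.ne_zero] at this; exact zero_ne_one this),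
          Units.ext (by simpa using a.2)⟩
        invFun := fun u => ⟨((u : Fˣ) : F), by have := congrArg Units.val (MonoidHom.mem_ker.1 u.2); simpa using this⟩
        left_inv := fun a => rfl
        right_inv := fun u => Subtype.ext (Units.ext rfl) }
    rw [Nat.card_congr e, IsCyclic.card_powMonoidHom_ker, Nat.card_units, Nat.card_eq_fintype_card]
    exact Nat.gcd_eq_right h1
  obtain ⟨ζ, hζ, hζ1⟩ : ∃ ζ : F, ζ ^ p = 1 ∧ ζ ≠ 1 := by
    haveI : Nontrivial {a : F // a ^ p = 1} := Finite.one_lt_card_iff_nontrivial.1 (by rw [hμ]; exact hp.out.one_lt)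
    obtain ⟨a, ha⟩ := exists_ne (⟨1, one_pow p⟩ : {a : F // a ^ p = 1})
    exact ⟨a.1, a.2, fun h => ha (Subtype.ext h)⟩
  have hne : ∀ {c : F}, c ^ p = 1 → c ≠ 0 := fun {c} hc h => by
    rw [h, zero_pow hp.out.ne_zero] at hc; exact zero_ne_one hc
  -- the monomial group
  let M : Submonoid (GL (ZMod p) F) :=
    { carrier := {g | ∃ c k, (∀ i, c i ^ p = 1) ∧ (g : Matrix (ZMod p) (ZMod p) F) = mon c k}
      one_mem' := ⟨fun _ => 1, 0, fun _ => one_pow p, by rw [Units.val_one, mon_one]⟩
      mul_mem' := fun {g g'} hg hg' => by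
        obtain ⟨c, k, hc, e⟩ := hg
        obtain ⟨c', k', hc', e'⟩ := hg'
        exact ⟨fun i => c i * c' (i + k), k + k', fun i => by rw [mul_pow, hc, hc', one_mul],
          by rw [Units.val_mul, e, e', mon_mul]⟩ }
  let Q₀ : Subgroup (GL (ZMod p) F) :=
    { M with
      inv_mem' := fun {g} hg => by
        have h := M.pow_mem hg (orderOf g - 1)
        rwa [show g ^ (orderOf g - 1) = g⁻¹ from eq_inv_of_mul_eq_one_left (by
          rw [← pow_succ, Nat.sub_add_cancel (orderOf_pos g), pow_orderOf_eq_one])] at h }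
  let mk : (ZMod p → {a : F // a ^ p = 1}) × ZMod p → GL (ZMod p) F := fun t =>
    ⟨mon (fun i => (t.1 i).1) t.2, mon (fun i => (t.1 (i - t.2)).1⁻¹) (-t.2), by
      rw [mon_mul, add_neg_cancel]
      convert mon_one (F := F) (p := p) using 2
      funext i
      rw [add_sub_cancel_right, mul_inv_cancel₀ (hne (t.1 i).2)], by
      rw [mon_mul, neg_add_cancel]
      convert mon_one (F := F) (p := p) using 2
      funext i
      rw [← sub_eq_add_neg, inv_mul_cancel₀ (hne (t.1 _).2)]⟩
  have hmk : ∀ t, mk t ∈ Q₀ := fun t => ⟨_, _, fun i => (t.1 i).2, rfl⟩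
  have hcard : Nat.card Q₀ = p ^ (p + 1) := by
    have hb : Function.Bijective (fun t => (⟨mk t, hmk t⟩ : Q₀)) := by
      constructor
      · intro t t' h
        have h' := congrArg (fun g : Q₀ => ((g : GL (ZMod p) F) : Matrix (ZMod p) (ZMod p) F)) h
        simp only [mk] at h'
        have hk : t.2 = t'.2 := by
          by_contra hk
          have := congrFun (congrFun h' 0) (0 + t.2)
          rw [mon_apply, mon_apply, if_pos rfl, if_neg (by simpa using hk)] at this
          exact hne (t.1 0).2 this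
        refine Prod.ext (funext fun i => Subtype.ext ?_) hk
        have := congrFun (congrFun h' i) (i + t.2)
        rw [mon_apply, mon_apply, if_pos rfl, if_pos (by rw [hk])] at this
        exact this
      · rintro ⟨g, c, k, hc, e⟩
        exact ⟨(fun i => ⟨c i, hc i⟩, k), Subtype.ext (Units.ext e.symm)⟩
    rw [← Nat.card_eq_of_bijective _ hb, Nat.card_prod, Nat.card_fun, hμ, Nat.card_zmod, pow_succ]
  have hfac : (Nat.card (GL (ZMod p) F)).factorization p = p + 1 := by
    let f : Fin p ≃ ZMod p := (Fintype.equivFinOfCardEq (ZMod.card p)).symm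
    rw [← Nat.card_congr (Units.mapEquiv (Matrix.reindexAlgEquiv F F f).toMulEquiv).toEquiv, Matrix.card_GL_field]
    have hq0 : ¬ p ∣ Fintype.card F := fun h => by
      have h5 := Nat.dvd_sub h h1
      rw [show Fintype.card F - (Fintype.card F - 1) = 1 by omega] at h5
      exact hp.out.one_lt.ne' (Nat.dvd_one.1 h5)
    have hv1 : padicValNat p (Fintype.card F - 1) = 1 := by
      rw [← Nat.factorization_def _ hp.out]
      have a1 : 1 ≤ (Fintype.card F - 1).factorization p :=
        (hp.out.pow_dvd_iff_le_factorization (by omega)).1 (by rwa [pow_one])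
      have a2 : ¬ 2 ≤ (Fintype.card F - 1).factorization p := fun h =>
        h2 ((hp.out.pow_dvd_iff_le_factorization (by omega)).2 h)
      omega
    have hterm : ∀ i : Fin p, (Fintype.card F ^ p - Fintype.card F ^ (i : ℕ)).factorization p =
        1 + if (i : ℕ) = 0 then 1 else 0 := by
      intro i
      have hi := i.2
      have hsub : Fintype.card F ^ p - Fintype.card F ^ (i : ℕ) = Fintype.card F ^ (i : ℕ) * (Fintype.card F ^ (p - i) - 1) := by
        rw [Nat.mul_sub, mul_one, ← pow_add, Nat.add_sub_cancel' hi.le]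
      have hpos : 1 < Fintype.card F ^ (p - (i : ℕ)) := Nat.one_lt_pow (by omega) hq
      rw [hsub, Nat.factorization_mul (by positivity) (by omega), Finsupp.add_apply, Nat.factorization_pow,
        Finsupp.smul_apply, Nat.factorization_eq_zero_of_not_dvd hq0, smul_zero, zero_add, Nat.factorization_def _ hp.out]
      have := padicValNat.pow_sub_pow (p := p) (hp.out.odd_of_ne_two hp2) hq h1 hq0 (n := p - i) (by omega)
      rw [one_pow] at this
      rw [this, hv1]
      congr 1
      split_ifs with h0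
      · rw [h0, Nat.sub_zero, padicValNat_self]
      · exact padicValNat.eq_zero_of_not_dvd fun hd => by
          have := Nat.le_of_dvd (by omega) hd; omega
    rw [Nat.factorization_prod_apply (fun i _ => by
      have : Fintype.card F ^ (i : ℕ) < Fintype.card F ^ p := Nat.pow_lt_pow_right hq i.2
      omega), Finset.sum_congr rfl fun i _ => hterm i, Finset.sum_add_distrib, Finset.sum_const, Finset.card_univ,
      Fintype.card_fin, smul_eq_mul, mul_one, Fin.sum_univ_eq_sum_range (fun i => if i = 0 then 1 else 0),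
      Finset.sum_ite_eq', if_pos (Finset.mem_range.2 hp.out.pos)]
  let Q : Sylow p (GL (ZMod p) F) := Sylow.ofCard Q₀ (by rw [hcard, hfac])
  have hQ : ∀ g, g ∈ Q ↔ g ∈ Q₀ := fun g => Iff.rfl
  -- moving `Q` away
  have move : ∀ (x g a : GL (ZMod p) F), g * x * g⁻¹ ∈ Q → a ∈ Q → g * a * g⁻¹ ∉ Q → ∃ P : Sylow p (GL (ZMod p) F), P ≠ Q ∧ x ∈ P := by
    intro x g a hx ha hga
    refine ⟨g⁻¹ • Q, fun he => hga ?_, ?_⟩
    · have h5 : g • Q = Q := by conv_lhs => rw [← he]; rw [smul_inv_smul]
      rw [← h5]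
      show g * a * g⁻¹ ∈ ((g • Q : Sylow p _) : Subgroup _)
      rw [Sylow.coe_subgroup_smul]
      exact ⟨a, ha, rfl⟩
    · show x ∈ ((g⁻¹ • Q : Sylow p _) : Subgroup _)
      rw [Sylow.coe_subgroup_smul]
      exact ⟨g * x * g⁻¹, hx, by show g⁻¹ * (g * x * g⁻¹) * g⁻¹⁻¹ = x; group⟩
  -- `g a g⁻¹` outside `Q`
  have outside : ∀ (g a : GL (ZMod p) F), g * a * g⁻¹ ∈ Q → ∃ c' l, (∀ i, c' i ^ p = 1) ∧
      (g : Matrix (ZMod p) (ZMod p) F) * (a : Matrix (ZMod p) (ZMod p) F) = mon c' l * (g : Matrix (ZMod p) (ZMod p) F) := by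
    intro g a h
    obtain ⟨c', l, hc', e⟩ := (hQ _).1 h
    refine ⟨c', l, hc', ?_⟩
    rw [← e, ← Units.val_mul, ← Units.val_mul, inv_mul_cancel_right]
  let cz : ZMod p → {a : F // a ^ p = 1} := fun i => if i = 0 then ⟨ζ, hζ⟩ else ⟨1, one_pow p⟩
  have h10 : (1 : ZMod p) ≠ 0 := one_ne_zero
  have htwo : (2 : ZMod p) ≠ 0 := fun h => hp2 ((Nat.prime_dvd_prime_iff_eq hp.out Nat.prime_two).1
    ((ZMod.natCast_eq_zero_iff 2 p).1 (by simpa using h)))
  -- diagonal elements with pairwise distinct entries
  have distinct : ∀ (x : GL (ZMod p) F) (d : ZMod p → F), (∀ i, d i ^ p = 1) → Function.Injective d →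
      (x : Matrix (ZMod p) (ZMod p) F) = mon d 0 → ∃ P : Sylow p (GL (ZMod p) F), P ≠ Q ∧ x ∈ P := by
    intro x d hd hinj hx
    let V : GL (ZMod p) F := GeneralLinearGroup.mkOfDetNeZero _ (det_chi_ne_zero d hinj)
    let S := mk (fun _ => ⟨1, one_pow p⟩, -1)
    have hxV : x * V = V * S := by
      refine Units.ext ?_
      rw [Units.val_mul, Units.val_mul, hx]
      ext i j
      rw [mon_mul_apply, mul_mon_apply, add_zero, mul_one, sub_neg_eq_add]
      show d i * chi (d i) j = chi (d i) (j + 1)
      rw [chi_add (hd i), chi_one, mul_comm]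
    refine move x V⁻¹ (mk (cz, 0)) (by rw [mul_assoc, inv_inv, hxV, inv_mul_cancel_left]; exact hmk _) (hmk _) fun hcon => ?_
    obtain ⟨c', l, hc', e⟩ := outside _ _ hcon
    have e' : (mk (cz, 0) : GL (ZMod p) F).val * (V : Matrix (ZMod p) (ZMod p) F) = (V : Matrix (ZMod p) (ZMod p) F) * mon c' l := by
      have h5 := congrArg (fun A => (V : Matrix (ZMod p) (ZMod p) F) * A * (V : Matrix (ZMod p) (ZMod p) F)) e
      simp only [← mul_assoc, Units.mul_inv, one_mul] at h5
      rw [mul_assoc (_ * mon c' l), Units.inv_mul, mul_one] at h5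
      exact h5
    have key : ∀ i, (cz i).1 * chi (d i) l = c' 0 := fun i => by
      have := congrFun (congrFun e' i) l
      rw [mon_mul_apply, mul_mon_apply, sub_self, add_zero] at this
      simpa [V, chi_zero] using this
    have h1' := key 1
    have h2' := key (-1)
    simp only [cz, if_neg h10, if_neg (neg_ne_zero.2 h10), one_mul] at h1' h2'
    by_cases hl : l = 0
    · have h0 := key 0
      rw [hl, chi_zero] at h0 h1'
      simp only [cz, if_pos, mul_one] at h0
      exact hζ1 (h0.trans h1'.symm)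
    · have := hinj (chi_inj (hd 1) (hd (-1)) hl (h1'.trans h2'.symm))
      exact htwo (by linear_combination this)
  refine ⟨Q, fun x ⟨n, hn⟩ => ?_⟩
  by_cases hxQ : x ∈ Q
  swap
  · obtain ⟨P, hP⟩ := (IsPGroup.of_card (n := n) (by rw [Nat.card_zpowers, hn]) : IsPGroup p (Subgroup.zpowers x)).exists_le_sylow
    exact ⟨P, fun he => hxQ (he ▸ hP (Subgroup.mem_zpowers x)), hP (Subgroup.mem_zpowers x)⟩
  obtain ⟨d, k, hd, hx⟩ := (hQ x).1 hxQ
  by_cases hk : k = 0
  · subst hk
    by_cases hinj : Function.Injective d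
    · exact distinct x d hd hinj hx
    -- a repeated entry
    obtain ⟨i, j, hdij, hij⟩ : ∃ i j, d i = d j ∧ i ≠ j := by
      simp only [Function.Injective, not_forall] at hinj
      obtain ⟨i, j, h, h'⟩ := hinj
      exact ⟨i, j, h, h'⟩
    let g : GL (ZMod p) F := GeneralLinearGroup.mkOfDetNeZero (transvection i j (1 : F))
      (by rw [det_transvection_of_ne i j hij]; exact one_ne_zero)
    have hgval : ∀ r s, (g : Matrix (ZMod p) (ZMod p) F) r s = (if r = s then (1 : F) else 0) + if i = r ∧ j = s then 1 else 0 := by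
      intro r s
      show transvection i j (1 : F) r s = _
      simp [transvection, Matrix.one_apply, Matrix.single_apply]
    have hcomm : g * x = x * g := by
      refine Units.ext ?_
      rw [Units.val_mul, Units.val_mul, hx]
      ext r s
      rw [mon_mul_apply, mul_mon_apply, sub_zero, add_zero, hgval]
      by_cases h : r = s
      · rw [h, mul_comm]
      · by_cases h' : i = r ∧ j = s
        · obtain ⟨rfl, rfl⟩ := h'
          rw [hdij, mul_comm]
        · rw [if_neg h, if_neg h', add_zero, zero_mul, mul_zero]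
    refine move x g (mk ((fun r => if r = i then ⟨ζ, hζ⟩ else ⟨1, one_pow p⟩), 0)) (by rw [hcomm, mul_inv_cancel_right]; exact hxQ) (hmk _) fun hcon => ?_
    obtain ⟨c', l, hc', e⟩ := outside _ _ hcon
    have eii := congrFun (congrFun e i) i
    have eij := congrFun (congrFun e i) j
    rw [mon_mul_apply, hgval] at eii eij
    simp only [mk] at eii eij
    rw [mul_mon_apply, sub_zero, hgval] at eii eij
    simp [hij, Ne.symm hij] at eii eij
    by_cases hl : l = 0
    · simp [hl, hij] at eii eij
      exact hζ1 (eii.trans eij.symm)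
    · simp [hl] at eii
      exact hne hζ eii
  set lam := ∏ i, d i with hlam
  have hxp : (x : Matrix (ZMod p) (ZMod p) F) ^ p = lam • (1 : Matrix (ZMod p) (ZMod p) F) := by
    rw [hx, mon_pow, ZMod.natCast_self, zero_mul]
    ext r s
    rw [mon_apply, add_zero, prod_cycle d r hk, Matrix.smul_apply, Matrix.one_apply, ← hlam]
    simp [eq_comm]
  by_cases hl1 : lam = 1
  · -- conjugate to a diagonal element
    set w : ZMod p → F := fun i => (∏ l ∈ Finset.range (i * k⁻¹).val, d ((l : ZMod p) * k))⁻¹ with hw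
    have hd0 : ∀ l, d l ≠ 0 := fun l => hne (hd l)
    have hstep : ∀ i, d i * w (i + k) = w i := by
      intro i
      have hm : (i + k) * k⁻¹ = i * k⁻¹ + 1 := by rw [add_mul, mul_inv_cancel₀ hk]
      have hi : ((i * k⁻¹).val : ZMod p) * k = i := by rw [ZMod.natCast_zmod_val, inv_mul_cancel_right₀ hk]
      have hP : ∏ l ∈ Finset.range ((i * k⁻¹).val + 1), d ((l : ZMod p) * k) =
          ∏ l ∈ Finset.range ((i + k) * k⁻¹).val, d ((l : ZMod p) * k) := by
        rw [hm]
        by_cases hlt : (i * k⁻¹).val + 1 < p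
        · congr 2
          rw [ZMod.val_add, ZMod.val_one, Nat.mod_eq_of_lt hlt]
        · have hlast : (i * k⁻¹).val + 1 = p := by have := ZMod.val_lt (i * k⁻¹); omega
          rw [ZMod.val_add, ZMod.val_one, hlast, Nat.mod_self, Finset.prod_range_zero]
          have := prod_cycle d 0 hk
          simp only [zero_add] at this
          rw [this, ← hlam, hl1]
      simp only [hw]
      rw [← hP, Finset.prod_range_succ, hi, mul_inv, ← mul_assoc, mul_comm (d i), mul_assoc,
        mul_inv_cancel₀ (hd0 i), mul_one]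
    let v : ZMod p → F := fun i => chi ζ (i * k⁻¹)
    have hvinj : ∀ i j : ZMod p, chi ζ i = chi ζ j → i = j := by
      intro i j h
      by_contra hij
      refine hζ1 (chi_inj hζ (one_pow p) (sub_ne_zero.2 hij) ?_)
      have h5 := chi_add hζ (i - j) j
      rw [sub_add_cancel, h] at h5
      have : chi ζ j ≠ 0 := pow_ne_zero _ (hne hζ)
      rw [right_eq_mul₀ this] at h5
      rw [h5, chi, one_pow]
    have hdet : (Matrix.of fun i j => w i * chi (v i) j).det ≠ 0 := by
      rw [show (Matrix.of fun i j => w i * chi (v i) j) = Matrix.diagonal w * Matrix.of fun i j => chi (v i) j by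
        ext i j; rw [Matrix.diagonal_mul]; rfl, Matrix.det_mul, Matrix.det_diagonal]
      refine mul_ne_zero (Finset.prod_ne_zero_iff.2 fun i _ => inv_ne_zero (Finset.prod_ne_zero_iff.2 fun l _ => hd0 _))
        (det_chi_ne_zero v fun i j h => ?_)
      exact mul_right_cancel₀ (inv_ne_zero hk) (hvinj _ _ h)
    let V : GL (ZMod p) F := GeneralLinearGroup.mkOfDetNeZero _ hdet
    have hδ : ∀ j : ZMod p, chi ζ j ^ p = 1 := fun j => by rw [chi, ← pow_mul, mul_comm, pow_mul, hζ, one_pow]
    let y := mk ((fun j => ⟨chi ζ j, hδ j⟩), 0)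
    have hxV : x * V = V * y := by
      refine Units.ext ?_
      rw [Units.val_mul, Units.val_mul, hx]
      ext i j
      simp only [y, mk]
      rw [mon_mul_apply, mul_mon_apply, sub_zero]
      show d i * (w (i + k) * chi (v (i + k)) j) = w i * chi (v i) j * chi ζ j
      have hv' : chi (v (i + k)) j = chi (v i) j * chi ζ j := by
        simp only [v]
        rw [add_mul, mul_inv_cancel₀ hk, chi_add hζ, chi_one]
        exact mul_pow _ _ _
      rw [hv', ← mul_assoc, hstep, mul_assoc]
    obtain ⟨P, hPQ, hyP⟩ := distinct y (fun j => chi ζ j) hδ (fun i j h => hvinj i j h) rfl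
    have hxy : V⁻¹ * x * V = y := by rw [mul_assoc, hxV, inv_mul_cancel_left]
    have hmem : ∀ R : Sylow p (GL (ZMod p) F), y ∈ R → x ∈ V • R := fun R hR => by
      show x ∈ ((V • R : Sylow p _) : Subgroup _)
      rw [Sylow.coe_subgroup_smul]
      exact ⟨y, hR, by show V * y * V⁻¹ = x; rw [← hxy]; group⟩
    by_cases hVQ : V • Q = Q
    · refine ⟨V • P, fun he => hPQ ?_, hmem P hyP⟩
      rw [← hVQ] at he
      exact MulAction.injective V he
    · exact ⟨V • Q, hVQ, hmem Q (hmk _)⟩
  · -- `1 + x` commutes with `x` and moves `Q`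
    have hlamp : lam ^ p = 1 := by rw [hlam, ← Finset.prod_pow]; exact Finset.prod_eq_one fun i _ => hd i
    have hlam0 : 1 + lam ≠ 0 := fun h => by
      have hl : lam = -1 := eq_neg_of_add_eq_zero_right h
      rw [hl, (hp.out.odd_of_ne_two hp2).neg_one_pow] at hlamp
      exact hl1 (hl.trans hlamp)
    have hdet : ((1 : Matrix (ZMod p) (ZMod p) F) + x.val).det ≠ 0 := by
      have h5 := mul_neg_geom_sum (-(x.val)) p
      rw [sub_neg_eq_add, (hp.out.odd_of_ne_two hp2).neg_pow, sub_neg_eq_add, hxp,
        show (1 : Matrix (ZMod p) (ZMod p) F) + lam • 1 = (1 + lam) • 1 by rw [add_smul, one_smul]] at h5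
      have h6 := congrArg Matrix.det h5
      rw [Matrix.det_mul, Matrix.det_smul, Matrix.det_one, mul_one] at h6
      exact left_ne_zero_of_mul (h6.trans_ne (pow_ne_zero _ hlam0))
    let g : GL (ZMod p) F := GeneralLinearGroup.mkOfDetNeZero _ hdet
    have hg : ∀ r s, (g : Matrix (ZMod p) (ZMod p) F) r s = (if r = s then 1 else 0) + if s = r + k then d r else 0 := fun r s => by
      show ((1 : Matrix (ZMod p) (ZMod p) F) + x.val) r s = _
      rw [Matrix.add_apply, hx, mon_apply, Matrix.one_apply]
    have hcomm : g * x = x * g := Units.ext (by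
      show (1 + x.val) * x.val = x.val * (1 + x.val)
      rw [add_mul, mul_add, one_mul, mul_one])
    refine move x g (mk (cz, 0)) (by rw [hcomm, mul_inv_cancel_right]; exact hxQ) (hmk _) fun hcon => ?_
    obtain ⟨c', l, hc', e⟩ := outside _ _ hcon
    simp only [mk] at e
    have ee := fun r s => congrFun (congrFun e r) s
    simp only [mul_mon_apply, mon_mul_apply, sub_zero, hg] at ee
    have e0 := ee 0 0
    have e1 := ee 0 k
    have hk2 : k + k ≠ 0 := by rw [← two_mul]; exact mul_ne_zero htwo hk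
    by_cases hl : l = 0
    · simp [hl, cz, hk, Ne.symm hk] at e0 e1
      rw [← e0] at e1
      exact hζ1 (mul_right_cancel₀ (hne (hd 0)) ((one_mul (d 0)).trans e1)).symm
    · by_cases hlk : l = -k
      · subst hlk
        simp [cz, hk, Ne.symm hk, hk2] at e1
        rw [if_neg fun h => hk2 (by linear_combination -h)] at e1
        exact hne (hd 0) e1
      · have h7 : l + k ≠ 0 := fun h => hlk (eq_neg_of_add_eq_zero_left h)
        simp [cz, hk, Ne.symm hk, hl, Ne.symm h7] at e0
        exact hne hζ e0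

theorem result {F : Type*} [Field F] [Fintype F] (p : ℕ) [Fact p.Prime]
    (hp : p ≠ 2) (h1 : p ∣ Fintype.card F - 1) (h2 : ¬ p ^ 2 ∣ Fintype.card F - 1) :
    ∃ Q : Sylow p (Matrix.GeneralLinearGroup (Fin p) F), ∀ x : Matrix.GeneralLinearGroup (Fin p) F,
      (∃ k : ℕ, orderOf x = p ^ k) → ∃ P : Sylow p (Matrix.GeneralLinearGroup (Fin p) F), P ≠ Q ∧ x ∈ P := by
  classical
  let f : Fin p ≃ ZMod p := (Fintype.equivFinOfCardEq (ZMod.card p)).symm
  let e : GL (Fin p) F ≃* GL (ZMod p) F := Units.mapEquiv (Matrix.reindexAlgEquiv F F f).toMulEquiv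
  refine (RedundantSylow.transfer e.toMonoidHom e.surjective ?_).2 (main hp h1 h2)
  intro z hz
  rw [MonoidHom.mem_ker] at hz
  have hz1 : z = 1 := e.injective (hz.trans (map_one e).symm)
  rw [hz1]
  exact Subgroup.one_mem _

end Cfsg.Agent.S4358
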