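import Cfsg.Statements.S4359
import Cfsg.Agent.Lib.FGStruct.ShiftSpan

set_option autoImplicit false
open Pointwise
open Cfsg

namespace Cfsg.Agent.S4359

/-- Let P be a subgroup of a finite group G and g an element such that P ∩ g⁻¹Pg is a normal subgroup of prime index p in g⁻¹Pg. Let n ≥ 1 and let K be the subgroup generated by P and its conjugates g⁻ⁱPgⁱ for i ≤ n. Suppose that g normalizes no non-identity normal subgroup of P and that P meets the center of K trivially. Then the order of P is pᵗ for some t with 1 ≤ t ≤ 3n and t ≠ 3n - 1. -/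
theorem result {G : Type*} [Group G] [Finite G]
    (P : Subgroup G) (g : G) (p : ℕ) (hp : p.Prime)
    (hN : ((P ⊓ MulAut.conj g⁻¹ • P).subgroupOf (MulAut.conj g⁻¹ • P)).Normal)
    (hidx : (P ⊓ MulAut.conj g⁻¹ • P).relIndex (MulAut.conj g⁻¹ • P) = p)
    (n : ℕ) (hn : 1 ≤ n) (K : Subgroup G) (hK : K = ⨆ i ∈ Finset.range (n + 1), MulAut.conj (g ^ i)⁻¹ • P)
    (h1 : ∀ Q : Subgroup G, Q ≤ P → (Q.subgroupOf P).Normal → MulAut.conj g • Q = Q → Q = ⊥)
    (h2 : P ⊓ (Subgroup.center K).map K.subtype = ⊥) :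
    ∃ t : ℕ, Nat.card P = p ^ t ∧ 1 ≤ t ∧ t ≤ 3 * n ∧ t ≠ 3 * n - 1 := by
  haveI : Fact p.Prime := ⟨hp⟩
  obtain ⟨x₀, t, ht1, hP, hcard⟩ := ShiftChain.exists_gen P g hN hidx h1
  have h : ShiftChain.Gen p g x₀ t := ⟨ht1, hcard⟩
  obtain ⟨s, hs⟩ := ShiftChain.exists_span h
  have h23 := hs.two_mul_le h
  have hPt : Nat.card P = p ^ t := by rw [← hP, hcard 0 t le_rfl]
  have hmap : ∀ i : ℕ, MulAut.conj (g ^ i)⁻¹ • P = ShiftChain.W g x₀ i t := fun i => by
    have e := ShiftChain.map_W g x₀ i 0 t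
    rw [add_zero, hP] at e
    rw [← e, ShiftChain.cj, zpow_natCast]
    rfl
  have key : 2 * s ≤ t + n := by
    by_contra hlt
    set z := ShiftChain.X g x₀ ((s : ℤ) - 1) with hz
    have hzP : z ∈ P := by
      rw [← hP]
      exact ShiftChain.mem_W (by have := hs.pos; omega) (by have := hs.le; omega)
    have hKz : K ≤ Subgroup.centralizer ({z} : Set G) := by
      rw [hK]
      refine iSup₂_le fun i hi => ?_
      rw [hmap]
      have := Finset.mem_range.1 hi
      exact hs.central (by omega) (by omega)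
    have hPK : P ≤ K := by
      rw [hK]
      refine le_trans ?_ (le_biSup _ (Finset.mem_range.2 (Nat.succ_pos n)))
      simp
    have hzc : z ∈ P ⊓ (Subgroup.center K).map K.subtype := by
      refine Subgroup.mem_inf.2 ⟨hzP, ⟨⟨z, hPK hzP⟩, ?_, rfl⟩⟩
      exact Subgroup.mem_center_iff.2 fun k =>
        Subtype.ext (Subgroup.mem_centralizer_singleton_iff.1 (hKz k.2))
    rw [h2, Subgroup.mem_bot] at hzc
    have h3 := hcard ((s : ℤ) - 1) 1 ht1
    rw [ShiftChain.W_one, ← hz, hzc, Subgroup.zpowers_one_eq_bot, Subgroup.card_bot, pow_one] at h3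
    exact hp.ne_one h3.symm
  exact ⟨t, hPt, ht1, by omega, by omega⟩

end Cfsg.Agent.S4359
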