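import Cfsg.Statements.S4365
import Mathlib.GroupTheory.Sylow
import Mathlib.GroupTheory.Nilpotent
import Mathlib.Algebra.BigOperators.Fin
import Mathlib.Algebra.BigOperators.Group.Finset.Basic

set_option autoImplicit false
open Cfsg

namespace Cfsg.Agent.S4365

variable {P : Type*} [Group P]

theorem exists_last_power {p : ℕ} (hP : IsPGroup p P) (S : Subgroup P) {v : P} (hv : v ∉ S) :
    ∃ j : ℕ, v ^ p ^ j ∉ S ∧ (v ^ p ^ j) ^ p ∈ S := by
  classical
  obtain ⟨n, hn⟩ := hP v
  have hex : ∃ m, v ^ p ^ m ∈ S := ⟨n, hn ▸ S.one_mem⟩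
  have h0 : Nat.find hex ≠ 0 := fun h0 => hv (by
    have := Nat.find_spec hex
    rwa [h0, pow_zero, pow_one] at this)
  obtain ⟨j, hj⟩ := Nat.exists_eq_succ_of_ne_zero h0
  refine ⟨j, Nat.find_min hex (by omega), ?_⟩
  rw [← pow_mul, ← pow_succ, ← Nat.succ_eq_add_one, ← hj]
  exact Nat.find_spec hex

/-- The centralizer of an element. -/
abbrev C (x : P) : Subgroup P := Subgroup.centralizer ({x} : Set P)

theorem mem_C {x y : P} : y ∈ C x ↔ y * x = x * y := Subgroup.mem_centralizer_singleton_iff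

theorem C_le_C_pow (x : P) (n : ℕ) : C x ≤ C (x ^ n) := fun y hy =>
  mem_C.2 ((show Commute y x from mem_C.1 hy).pow_right n)

theorem mem_center_iff' {x : P} : x ∈ Subgroup.center P ↔ C x = ⊤ := by
  rw [Subgroup.mem_center_iff, eq_top_iff]
  exact ⟨fun h y _ => mem_C.2 (h y), fun h y => mem_C.1 (h (Subgroup.mem_top y))⟩

/-- All noncentral centralizers have one order. -/
def Equi (P : Type*) [Group P] (q : ℕ) : Prop := ∀ x : P, x ∉ Subgroup.center P → (C x).index = q

variable [Finite P] {p q : ℕ} [hp : Fact p.Prime]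

omit hp in
theorem eq_of_le {x y : P} (he : Equi P q) (hx : x ∉ Subgroup.center P) (hy : y ∉ Subgroup.center P)
    (h : C x ≤ C y) : C x = C y := by
  refine Subgroup.eq_of_le_of_card_ge h (le_of_eq ?_)
  have e1 := (C x).card_mul_index
  rw [he x hx, ← (C y).card_mul_index, he y hy] at e1
  exact (Nat.eq_of_mul_eq_mul_right (by
    rw [← he y hy]; exact Nat.pos_of_ne_zero Subgroup.index_ne_zero_of_finite) e1).symm

theorem C_eq_pow (he : Equi P q) {x : P} (hx : x ^ p ∉ Subgroup.center P) : C x = C (x ^ p) :=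
  eq_of_le he (fun h => hx (pow_mem h p)) hx (C_le_C_pow x p)

/-- If `x ^ p` is noncentral then every noncentral element of `C(x)` has centralizer `C(x)`. -/
theorem C_eq_of_mem (hP : IsPGroup p P) (he : Equi P q) {x y : P} (hx : x ^ p ∉ Subgroup.center P)
    (hy : y ∈ C x) (hyZ : y ∉ Subgroup.center P) : C y = C x := by
  have hxZ : x ∉ Subgroup.center P := fun h => hx (pow_mem h p)
  have key : ∀ w : P, w ∈ C x → w ∉ Subgroup.center P → w ^ p ∈ Subgroup.center P → C w = C x := by
    intro w hw hwZ hwp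
    have hc : Commute w x := mem_C.1 hw
    have hle : C (w * x) ≤ C x := by
      intro t ht
      rw [C_eq_pow he hx, mem_C]
      have h1 : Commute t ((w * x) ^ p) := (show Commute t (w * x) from mem_C.1 ht).pow_right p
      rw [hc.mul_pow] at h1
      have h2 : Commute t (w ^ p) := (Subgroup.mem_center_iff.1 hwp t)
      have h3 := h2.inv_right.mul_right h1
      rwa [inv_mul_cancel_left] at h3
    have hwx : w * x ∉ Subgroup.center P := fun h => hxZ (mem_center_iff'.2 (eq_top_iff.2 ((mem_center_iff'.1 h).ge.trans hle)))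
    have heq := eq_of_le he hwx hxZ hle
    refine (eq_of_le he hxZ hwZ fun t ht => mem_C.2 ?_).symm
    have h1 : Commute t x := mem_C.1 ht
    have h2 : Commute t (w * x) := mem_C.1 (heq.ge ht)
    have h3 := h2.mul_right h1.inv_right
    rw [mul_inv_cancel_right] at h3
    exact h3.eq
  obtain ⟨j, hj1, hj2⟩ := exists_last_power hP (Subgroup.center P) hyZ
  have h1 := key _ (pow_mem hy _) hj1 hj2
  rw [← h1]
  exact eq_of_le he hyZ hj1 (C_le_C_pow y _)

theorem C_comm (hP : IsPGroup p P) (he : Equi P q) {x : P} (hx : x ^ p ∉ Subgroup.center P) {a b : P}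
    (ha : a ∈ C x) (hb : b ∈ C x) : a * b = b * a := by
  by_cases hbZ : b ∈ Subgroup.center P
  · exact Subgroup.mem_center_iff.1 hbZ a
  · exact mem_C.1 ((C_eq_of_mem hP he hx hb hbZ).ge ha)

theorem mem_center_of_two (hP : IsPGroup p P) (he : Equi P q) {x t : P} (hx : x ^ p ∉ Subgroup.center P)
    (ht : t ^ p ∉ Subgroup.center P) {y : P} (hy : y ∈ C x) (hy' : y ∈ C t) (hne : C x ≠ C t) :
    y ∈ Subgroup.center P := by
  by_contra hyZ
  exact hne ((C_eq_of_mem hP he hx hy hyZ).symm.trans (C_eq_of_mem hP he ht hy' hyZ))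

/-- Two such centralizers cannot normalize each other. -/
theorem not_normalize (hP : IsPGroup p P) (he : Equi P q) {x t : P} (hx : x ^ p ∉ Subgroup.center P)
    (ht : t ^ p ∉ Subgroup.center P) (hne : C x ≠ C t) (h1 : C x ≤ Subgroup.normalizer (C t : Set P))
    (h2 : C t ≤ Subgroup.normalizer (C x : Set P)) : False := by
  have htZ : t ∉ Subgroup.center P := fun h => ht (pow_mem h p)
  obtain ⟨j, hu1, hu2⟩ := exists_last_power hP (Subgroup.center P) htZ
  set u := t ^ p ^ j with hu
  have htt : u ∈ C t := pow_mem (mem_C.2 rfl) _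
  have hxx : x ∈ C x := mem_C.2 rfl
  set c := x * u * x⁻¹ * u⁻¹ with hc
  have hcx : c ∈ C x := by
    have h := (Subgroup.mem_normalizer_iff.1 (h2 htt) x⁻¹).1 (inv_mem hxx)
    have h' := mul_mem hxx h
    simpa [hc, mul_assoc] using h'
  have hct : c ∈ C t := mul_mem ((Subgroup.mem_normalizer_iff.1 (h1 hxx) u).1 htt) (inv_mem htt)
  have hcZ := mem_center_of_two hP he hx ht hcx hct hne
  have hcomm : ∀ y : P, y * c = c * y := Subgroup.mem_center_iff.1 hcZ
  have hxu : x * u = c * u * x := by rw [hc]; group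
  have hpow : ∀ n : ℕ, x ^ n * u = c ^ n * u * x ^ n := by
    intro n
    induction n with
    | zero => simp
    | succ n ih =>
      calc x ^ (n + 1) * u = x ^ n * (x * u) := by rw [pow_succ, mul_assoc]
        _ = x ^ n * (c * u * x) := by rw [hxu]
        _ = (x ^ n * c) * u * x := by group
        _ = c * (x ^ n * u) * x := by rw [hcomm]; group
        _ = c ^ (n + 1) * u * x ^ (n + 1) := by rw [ih, pow_succ' c, pow_succ x]; group
  have hpow' : ∀ n : ℕ, x * u ^ n = c ^ n * u ^ n * x := by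
    intro n
    induction n with
    | zero => simp
    | succ n ih =>
      calc x * u ^ (n + 1) = (x * u ^ n) * u := by rw [pow_succ, mul_assoc]
        _ = c ^ n * u ^ n * (x * u) := by rw [ih]; group
        _ = c ^ n * u ^ n * (c * u * x) := by rw [hxu]
        _ = c ^ n * (u ^ n * c) * u * x := by group
        _ = c ^ (n + 1) * u ^ (n + 1) * x := by rw [hcomm, pow_succ c, pow_succ u]; group
  have hcp : c ^ p = 1 := by
    have h := hpow' p
    rw [Subgroup.mem_center_iff.1 hu2 x, mul_assoc] at h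
    exact mul_eq_right.1 h.symm
  have hux : u ∈ C x := by
    rw [C_eq_pow he hx, mem_C]
    have h := hpow p
    rw [hcp, one_mul] at h
    exact h.symm
  exact hu1 (mem_center_of_two hP he hx ht hux htt hne)

theorem C_normal (hP : IsPGroup p P) (he : Equi P q) {x : P} (hx : x ^ p ∉ Subgroup.center P) : (C x).Normal := by
  by_contra hn
  set N := Subgroup.normalizer (C x : Set P) with hN
  have hNtop : N < ⊤ := lt_top_iff_ne_top.2 fun h => hn (Subgroup.normalizer_eq_top_iff.1 h)
  haveI : Group.IsNilpotent P := hP.isNilpotent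
  have hlt : N < Subgroup.normalizer (N : Set P) := Group.normalizerCondition_of_isNilpotent N hNtop
  obtain ⟨g, hg, hgN⟩ := SetLike.exists_of_lt hlt
  have hCg : C (g * x * g⁻¹) = (C x).map (MulAut.conj g).toMonoidHom := by
    ext y
    constructor
    · intro hy
      refine ⟨g⁻¹ * y * g, mem_C.2 ?_, by simp [mul_assoc]⟩
      calc g⁻¹ * y * g * x = g⁻¹ * (y * (g * x * g⁻¹)) * g := by group
        _ = g⁻¹ * ((g * x * g⁻¹) * y) * g := by rw [mem_C.1 hy]
        _ = x * (g⁻¹ * y * g) := by group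
    · rintro ⟨w, hw, rfl⟩
      refine mem_C.2 ?_
      show g * w * g⁻¹ * (g * x * g⁻¹) = g * x * g⁻¹ * (g * w * g⁻¹)
      calc g * w * g⁻¹ * (g * x * g⁻¹) = g * (w * x) * g⁻¹ := by group
        _ = g * (x * w) * g⁻¹ := by rw [mem_C.1 hw]
        _ = _ := by group
  have ht : (g * x * g⁻¹) ^ p ∉ Subgroup.center P := by
    rw [conj_pow]
    intro h
    apply hx
    have := (inferInstance : (Subgroup.center P).Normal).conj_mem _ h g⁻¹
    simpa [mul_assoc] using this
  have hNg : N.map (MulAut.conj g).toMonoidHom = N := Subgroup.mem_normalizer_iff_map_conj_eq.1 hg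
  have hne : C x ≠ C (g * x * g⁻¹) := fun h =>
    hgN (Subgroup.mem_normalizer_iff_map_conj_eq.2 (hCg.symm.trans h.symm))
  refine not_normalize hP he hx ht hne ?_ ?_
  · rw [hCg, ← Subgroup.map_equiv_normalizer_eq (C x) (MulAut.conj g)]
    exact le_of_le_of_eq Subgroup.le_normalizer hNg.symm
  · rw [hCg]
    exact le_of_le_of_eq (Subgroup.map_mono Subgroup.le_normalizer) hNg

theorem pow_mem_center_of_pair (hP : IsPGroup p P) (he : Equi P q) {x : P} (hx : x ^ p ∉ Subgroup.center P)
    {u s : P} (hu : u ∉ C x) (hup : u ^ p ∈ Subgroup.center P) (hsp : s ^ p ∈ Subgroup.center P)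
    (hsu : Commute s u) (hs : ∀ i : ℕ, s * u ^ i ∉ C x) : False := by
  haveI hn : (C x).Normal := C_normal hP he hx
  letI : CommGroup ↥(C x) :=
    { (inferInstance : Group ↥(C x)) with mul_comm := fun a b => Subtype.ext (C_comm hP he hx a.2 b.2) }
  let c : P →* MulAut ↥(C x) := MulAut.conjNormal
  let a : ↥(C x) := ⟨x, mem_C.2 rfl⟩
  let Φ : P → ↥(C x) := fun w => ∏ j ∈ Finset.range p, c (w ^ j) a
  have hZmem : ∀ y : P, y ∉ C x → y ^ p ∈ C x → y ^ p ∈ Subgroup.center P := by
    intro y hy hyp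
    by_contra h
    exact hy ((C_eq_of_mem hP he hx hyp h).le (mem_C.2 ((Commute.refl y).pow_right p).eq))
  have hΦ : ∀ w : P, w ∉ C x → w ^ p ∈ Subgroup.center P → (Φ w : P) ∈ Subgroup.center P := by
    intro w hw hwp
    have hpow : ∀ n : ℕ, ((a : P) * w) ^ n = ((∏ j ∈ Finset.range n, c (w ^ j) a : ↥(C x)) : P) * w ^ n := by
      intro n
      induction n with
      | zero => simp
      | succ n ih =>
        rw [pow_succ, ih, Finset.prod_range_succ, Subgroup.coe_mul]
        show _ = _ * (w ^ n * (a : P) * (w ^ n)⁻¹) * w ^ (n + 1)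
        rw [pow_succ w]
        group
    have h1 := hpow p
    have haw : (a : P) * w ∉ C x := fun h => hw (by simpa using mul_mem (inv_mem a.2) h)
    have h2 : ((a : P) * w) ^ p ∈ C x := by
      rw [h1]; exact mul_mem (Φ w).2 ((mem_C.2 (Subgroup.mem_center_iff.1 hwp x).symm))
    have h3 := hZmem _ haw h2
    rw [h1] at h3
    simpa [Φ] using (Subgroup.center P).mul_mem h3 (inv_mem hwp)
  have hfix : ∀ (g : P) (b : ↥(C x)), (b : P) ∈ Subgroup.center P → c g b = b := by
    intro g b hb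
    apply Subtype.ext
    show g * (b : P) * g⁻¹ = b
    rw [Subgroup.mem_center_iff.1 hb g, mul_inv_cancel_right]
  have hmod : ∀ m : ℕ, c (u ^ m) a = c (u ^ (m % p)) a := by
    intro m
    apply Subtype.ext
    show u ^ m * x * (u ^ m)⁻¹ = u ^ (m % p) * x * (u ^ (m % p))⁻¹
    have hz : (u ^ p) ^ (m / p) ∈ Subgroup.center P := pow_mem hup _
    conv_lhs => rw [← Nat.mod_add_div m p, pow_add, pow_mul]
    calc u ^ (m % p) * (u ^ p) ^ (m / p) * x * (u ^ (m % p) * (u ^ p) ^ (m / p))⁻¹
        = u ^ (m % p) * ((u ^ p) ^ (m / p) * x) * ((u ^ p) ^ (m / p))⁻¹ * (u ^ (m % p))⁻¹ := by group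
      _ = u ^ (m % p) * (x * (u ^ p) ^ (m / p)) * ((u ^ p) ^ (m / p))⁻¹ * (u ^ (m % p))⁻¹ := by
          rw [Subgroup.mem_center_iff.1 hz x]
      _ = _ := by group
  have hz := hΦ u hu hup
  have hprod : ∏ i ∈ Finset.range p, Φ (s * u ^ i) = a ^ p * ∏ _j ∈ (Finset.range p).erase 0, Φ u := by
    simp only [Φ]
    rw [Finset.prod_comm, ← Finset.mul_prod_erase _ _ (Finset.mem_range.2 hp.out.pos)]
    congr 1
    · simp
    · refine Finset.prod_congr rfl fun j hj => ?_
      obtain ⟨hj0, hjp⟩ := Finset.mem_erase.1 hj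
      rw [Finset.mem_range] at hjp
      have e : ∀ i, c ((s * u ^ i) ^ j) a = c (s ^ j) (c (u ^ ((i * j) % p)) a) := by
        intro i
        rw [(hsu.pow_right i).mul_pow, ← pow_mul, ← hmod, map_mul]
        rfl
      simp only [e]
      rw [← map_prod (c (s ^ j))]
      have hinj : Set.InjOn (fun i => i * j % p) (Finset.range p) := by
        intro i hi k hk hik
        have h1 : i * j ≡ k * j [MOD p] := hik
        have h2 := h1.cancel_right_of_coprime ((hp.out.coprime_iff_not_dvd).2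
          (fun hd => absurd (Nat.le_of_dvd (Nat.pos_of_ne_zero hj0) hd) (not_le.2 hjp)))
        exact h2.eq_of_lt_of_lt (Finset.mem_range.1 hi) (Finset.mem_range.1 hk)
      have himg : (Finset.range p).image (fun i => i * j % p) = Finset.range p := by
        refine Finset.eq_of_subset_of_card_le (Finset.image_subset_iff.2 fun i _ =>
          Finset.mem_range.2 (Nat.mod_lt _ hp.out.pos)) ?_
        rw [Finset.card_image_of_injOn hinj]
      rw [← Finset.prod_image (f := fun i => c (u ^ i) a) hinj, himg]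
      exact hfix _ _ hz
  apply hx
  have hin : ∀ {b : ↥(C x)}, b ∈ (Subgroup.center P).subgroupOf (C x) ↔ (b : P) ∈ Subgroup.center P := Iff.rfl
  have hL : ∏ i ∈ Finset.range p, Φ (s * u ^ i) ∈ (Subgroup.center P).subgroupOf (C x) := by
    refine prod_mem fun i _ => hin.2 (hΦ _ (hs i) ?_)
    rw [(hsu.pow_right i).mul_pow, ← pow_mul, mul_comm i, pow_mul]
    exact mul_mem hsp (pow_mem hup i)
  rw [hprod] at hL
  have h2 := hin.1 ((Subgroup.mul_mem_cancel_right _ (prod_mem (f := fun _ => Φ u) fun _ _ => hin.2 hz)).1 hL)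
  simpa [a] using h2

/-- Class sizes `{1, p^a}` imply `P/Z(P)` of exponent `p`. -/
theorem result {P : Type*} [Group P] [Finite P] (p : ℕ) [Fact p.Prime]
    (hP : IsPGroup p P) (a : ℕ) (ha : 1 ≤ a)
    (hcs : {k : ℕ | ∃ x : P, (Subgroup.centralizer ({x} : Set P)).index = k} = {1, p ^ a}) (x : P) :
    x ^ p ∈ Subgroup.center P := by
  classical
  by_contra hx
  have he : Equi P (p ^ a) := by
    intro y hy
    have h := hcs.le ⟨y, rfl⟩
    rcases h with h | h
    · exact absurd (mem_center_iff'.2 (Subgroup.index_eq_one.1 h)) hy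
    · exact h
  haveI hn : (C x).Normal := C_normal hP he hx
  have hxZ : x ∉ Subgroup.center P := fun h => hx (pow_mem h p)
  obtain ⟨v, hv⟩ : ∃ v, v ∉ C x := by
    by_contra h
    push Not at h
    exact hxZ (mem_center_iff'.2 (eq_top_iff.2 fun y _ => h y))
  obtain ⟨j, hu, hup'⟩ := exists_last_power hP (C x) hv
  set u := v ^ p ^ j
  have huu : u ∈ C u := mem_C.2 rfl
  have hup : u ^ p ∈ Subgroup.center P := by
    by_contra h
    exact hu ((C_eq_of_mem hP he hx hup' h).le (C_le_C_pow u p huu))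
  have huZ : u ∉ Subgroup.center P := fun h => hu (mem_C.2 (Subgroup.mem_center_iff.1 h x).symm)
  by_cases hcase : ∃ s ∈ C u, ∀ i : ℕ, s * u ^ i ∉ C x
  · obtain ⟨s, hsu, hs⟩ := hcase
    by_cases hsp : s ^ p ∈ Subgroup.center P
    · exact pow_mem_center_of_pair hP he hx hu hup hsp (mem_C.1 hsu) hs
    · have hus : u ∈ C s := mem_C.2 (mem_C.1 hsu).symm
      have hns : (C s).Normal := C_normal hP he hsp
      refine not_normalize hP he hx hsp (fun h => hu (h ▸ hus)) ?_ ?_
      · rw [Subgroup.normalizer_eq_top_iff.2 hns]; exact le_top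
      · rw [Subgroup.normalizer_eq_top_iff.2 hn]; exact le_top
  push Not at hcase
  -- `C(u) = ⟨u⟩ Z`
  have hcover : Function.Surjective (fun iz : Fin p × Subgroup.center P =>
      (⟨u ^ (iz.1 : ℕ) * (iz.2 : P), mul_mem (pow_mem huu _) (mem_C.2 (Subgroup.mem_center_iff.1 iz.2.2 u).symm)⟩ : C u)) := by
    rintro ⟨s, hs⟩
    obtain ⟨i, hi⟩ := hcase s hs
    have hiu : s * u ^ i ∈ C u := mul_mem hs (pow_mem huu i)
    have hiZ : s * u ^ i ∈ Subgroup.center P := by
      by_contra h
      exact hu ((C_eq_of_mem hP he hx hi h).le (mem_C.2 (mem_C.1 hiu).symm))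
    have hpp := Fact.out (p := p.Prime)
    -- `s = u ^ m * z`
    let m := (p - 1) * i
    have h1 : u ^ m * (s * u ^ i) = s * (u ^ p) ^ i := by
      have hc : Commute (u ^ m) s := (show Commute u s from (mem_C.1 hs).symm).pow_left m
      have hmi : m + i = p * i := by
        rw [show m = (p - 1) * i from rfl]
        obtain ⟨k, hk⟩ := Nat.exists_eq_succ_of_ne_zero hpp.ne_zero
        rw [hk, Nat.succ_sub_one, Nat.succ_mul]
      rw [← mul_assoc, hc.eq, mul_assoc, ← pow_add, hmi, pow_mul]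
    refine ⟨(⟨m % p, Nat.mod_lt _ hpp.pos⟩,
      ⟨(u ^ p) ^ (m / p) * (s * u ^ i) * ((u ^ p) ^ i)⁻¹,
        mul_mem (mul_mem (pow_mem hup _) hiZ) (inv_mem (pow_mem hup _))⟩), Subtype.ext ?_⟩
    show u ^ (m % p) * ((u ^ p) ^ (m / p) * (s * u ^ i) * ((u ^ p) ^ i)⁻¹) = s
    calc u ^ (m % p) * ((u ^ p) ^ (m / p) * (s * u ^ i) * ((u ^ p) ^ i)⁻¹)
        = (u ^ (m % p) * (u ^ p) ^ (m / p)) * (s * u ^ i) * ((u ^ p) ^ i)⁻¹ := by group
      _ = u ^ m * (s * u ^ i) * ((u ^ p) ^ i)⁻¹ := by
          rw [← pow_mul u p, ← pow_add, Nat.mod_add_div]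
      _ = s := by rw [h1, mul_inv_cancel_right]
  have hcard : Nat.card (C u) ≤ p * Nat.card (Subgroup.center P) := by
    have := Nat.card_le_card_of_surjective _ hcover
    rwa [Nat.card_prod, Nat.card_fin] at this
  have hZA : Subgroup.center P ≤ C x := fun y hy => mem_C.2 (Subgroup.mem_center_iff.1 hy x).symm
  have hAu : Nat.card (C x) = Nat.card (C u) := by
    have e1 := (C x).card_mul_index
    rw [he x hxZ, ← (C u).card_mul_index, he u huZ] at e1
    exact Nat.eq_of_mul_eq_mul_right (pow_pos (Fact.out (p := p.Prime)).pos a) e1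
  have hrel : (Subgroup.center P).relIndex (C x) ≤ p := by
    have h := Subgroup.card_mul_index ((Subgroup.center P).subgroupOf (C x))
    rw [Nat.card_congr (Subgroup.subgroupOfEquivOfLe hZA).toEquiv, hAu] at h
    rw [← h, mul_comm p] at hcard
    exact Nat.le_of_mul_le_mul_left hcard Nat.card_pos
  obtain ⟨k, hk⟩ := (IsPGroup.iff_card.1 (hP.to_subgroup (C x)))
  have hdvd : (Subgroup.center P).relIndex (C x) ∣ p := by
    obtain ⟨l, -, hl⟩ := (Nat.dvd_prime_pow (Fact.out (p := p.Prime))).1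
      (hk ▸ Subgroup.relIndex_dvd_card (Subgroup.center P) (C x))
    rw [hl] at hrel ⊢
    have : l ≤ 1 := (Nat.pow_le_pow_iff_right (Fact.out (p := p.Prime)).one_lt).1 (by rwa [pow_one])
    exact (pow_dvd_pow p this).trans (pow_one p).dvd
  have hmem := Subgroup.pow_index_mem ((Subgroup.center P).subgroupOf (C x)) (⟨x, mem_C.2 rfl⟩ : C x)
  obtain ⟨d, hd⟩ := hdvd
  refine hx ?_
  rw [hd, pow_mul]
  exact pow_mem hmem d

end Cfsg.Agent.S4365
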