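import Cfsg.Agent.Lib.Solvable.FixedPointFree
import Cfsg.Agent.Lib.PLocal.FixedPointFree
import Mathlib.GroupTheory.SpecificGroups.Quaternion
import Mathlib.GroupTheory.NoncommCoprod

set_option autoImplicit false

namespace Cfsg.Agent.S4370

open Cfsg.Agent
open QuaternionGroup (a xa)

private theorem two_mul_eq_zero {n : ℕ} [NeZero n] {j : ZMod (2 * n)} (h : 2 * j = 0) :
    j = 0 ∨ j = n := by
  have h1 : ((2 * j.val : ℕ) : ZMod (2 * n)) = 0 := by
    rw [Nat.cast_mul, ZMod.natCast_zmod_val]; simpa using h
  rw [ZMod.natCast_eq_zero_iff] at h1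
  obtain ⟨c, hc⟩ := Nat.dvd_of_mul_dvd_mul_left two_pos h1
  have hlt := j.val_lt
  rw [hc, mul_comm 2 n] at hlt
  have hc2 : c < 2 := Nat.lt_of_mul_lt_mul_left hlt
  rw [← ZMod.natCast_zmod_val j, hc]
  interval_cases c <;> simp

private theorem quaternion_centralizer_cyclic {n : ℕ} [NeZero n] (q : QuaternionGroup n)
    (hq : q ∉ Subgroup.center (QuaternionGroup n)) :
    IsCyclic (Subgroup.centralizer ({q} : Set (QuaternionGroup n))) := by
  have hle : ∀ g : QuaternionGroup n, Subgroup.centralizer {q} ≤ Subgroup.zpowers g →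
      IsCyclic (Subgroup.centralizer ({q} : Set (QuaternionGroup n))) :=
    fun g h => Subgroup.isCyclic_of_le h
  have ha : ∀ j : ZMod (2 * n), a j ∈ Subgroup.zpowers (a 1 : QuaternionGroup n) := fun j => by
    rw [← ZMod.natCast_zmod_val j, ← QuaternionGroup.a_one_pow]
    exact Subgroup.pow_mem _ (Subgroup.mem_zpowers _) _
  rcases q with i | i
  · refine hle (a 1) fun y hy => ?_
    rw [Subgroup.mem_centralizer_singleton_iff] at hy
    rcases y with j | j
    · exact ha j
    · exfalso
      refine hq (Subgroup.mem_center_iff.2 fun z => ?_)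
      simp only [QuaternionGroup.a_mul_xa, QuaternionGroup.xa_mul_a, QuaternionGroup.xa.injEq] at hy
      have h2 : i + i = 0 := by linear_combination hy
      rcases z with k | k
      · simp only [QuaternionGroup.a_mul_a, add_comm k i]
      · simp only [QuaternionGroup.a_mul_xa, QuaternionGroup.xa_mul_a, QuaternionGroup.xa.injEq]
        linear_combination h2
  · refine hle (xa i) fun y hy => ?_
    rw [Subgroup.mem_centralizer_singleton_iff] at hy
    have h0 : a (0 : ZMod (2 * n)) ∈ Subgroup.zpowers (xa i) := by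
      rw [QuaternionGroup.a_zero]; exact one_mem _
    have hn : a (n : ZMod (2 * n)) ∈ Subgroup.zpowers (xa i) := by
      rw [← QuaternionGroup.xa_sq i]
      exact Subgroup.pow_mem _ (Subgroup.mem_zpowers _) _
    rcases y with j | j
    · simp only [QuaternionGroup.a_mul_xa, QuaternionGroup.xa_mul_a, QuaternionGroup.xa.injEq] at hy
      have h2 : 2 * j = 0 := by linear_combination -hy
      rcases two_mul_eq_zero h2 with rfl | rfl
      · exact h0
      · exact hn
    · simp only [QuaternionGroup.xa_mul_xa, QuaternionGroup.a.injEq] at hy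
      have h2 : 2 * (j - i) = 0 := by linear_combination -hy
      have hj : xa j = xa i * a (j - i) := by
        rw [QuaternionGroup.xa_mul_a, add_sub_cancel]
      rw [hj]
      refine mul_mem (Subgroup.mem_zpowers _) ?_
      rcases two_mul_eq_zero h2 with h | h <;> rw [h]
      · exact h0
      · exact hn

private theorem prod_centralizer_cyclic {n m : ℕ} [NeZero n] [NeZero m]
    (hco : (4 * n).Coprime m) (v : QuaternionGroup n × Multiplicative (ZMod m))
    (hv : v ∉ Subgroup.center _) :
    IsCyclic (Subgroup.centralizer ({v} : Set (QuaternionGroup n × Multiplicative (ZMod m)))) := by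
  have hq : v.1 ∉ Subgroup.center (QuaternionGroup n) := fun h =>
    hv (Subgroup.mem_center_iff.2 fun z =>
      Prod.ext (Subgroup.mem_center_iff.1 h z.1) (mul_comm _ _))
  haveI := quaternion_centralizer_cyclic v.1 hq
  have hle : Subgroup.centralizer ({v} : Set (QuaternionGroup n × Multiplicative (ZMod m))) ≤
      (Subgroup.centralizer {v.1}).prod ⊤ := by
    intro z hz
    rw [Subgroup.mem_centralizer_singleton_iff] at hz
    exact Subgroup.mem_prod.2
      ⟨Subgroup.mem_centralizer_singleton_iff.2 (congrArg Prod.fst hz), Subgroup.mem_top _⟩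
  haveI : IsCyclic (↥(Subgroup.centralizer {v.1}) × ↥(⊤ : Subgroup (Multiplicative (ZMod m)))) := by
    refine Group.isCyclic_prod_iff.2 ⟨inferInstance, inferInstance, ?_⟩
    refine Nat.Coprime.coprime_dvd_left (Subgroup.card_subgroup_dvd_card _) ?_
    rw [Subgroup.card_top, Nat.card_eq_fintype_card, QuaternionGroup.card,
      Nat.card_congr (Multiplicative.toAdd), Nat.card_zmod]
    exact hco
  haveI : IsCyclic ↥((Subgroup.centralizer {v.1}).prod (⊤ : Subgroup (Multiplicative (ZMod m)))) :=
    (Subgroup.prodEquiv _ _).isCyclic.2 inferInstance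
  exact Subgroup.isCyclic_of_le hle

theorem result {G : Type*} [Group G] [Finite G] (hG : Group.IsNilpotent G)
    (hna : ¬ IsMulCommutative G) :
    (∀ x : G, x ∉ Subgroup.center G → IsCyclic (Subgroup.centralizer ({x} : Set G))) ↔
      ∃ (k m : ℕ), 1 ≤ k ∧ Odd m ∧
        Nonempty (G ≃* QuaternionGroup (2 ^ k) × Multiplicative (ZMod m)) := by
  constructor
  · intro hC
    -- a non-abelian Sylow subgroup
    have hex : ∃ r : ℕ, r.Prime ∧ ∃ x y : G, (∃ i, orderOf x = r ^ i) ∧ (∃ i, orderOf y = r ^ i) ∧
        x * y ≠ y * x := by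
      by_contra h
      push Not at h
      apply hna
      have key : ∀ (r : ℕ), r.Prime → ∀ x : G, (∃ i, orderOf x = r ^ i) →
          x ∈ Subgroup.center G := by
        intro r hr x hx
        haveI := Fact.mk hr
        refine Subgroup.mem_center_iff.2 fun y => ?_
        obtain ⟨u, v, huv, -, -, hu, hv⟩ := PBasic.exists_pPart_mul (p := r) y
        obtain ⟨i, hi⟩ := hx
        have h1 : v * x = x * v := FixedPointFreeThompson.commute_of_nilpotent hi hv
        have h2 : u * x = x * u := h r hr u x hu ⟨i, hi⟩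
        rw [← huv, mul_assoc, h1, ← mul_assoc, h2, mul_assoc]
      have htop : Subgroup.center G = ⊤ := by
        refine Subgroup.eq_top_of_card_eq _ (Nat.dvd_antisymm (Subgroup.card_subgroup_dvd_card _) ?_)
        refine (Nat.dvd_iff_prime_pow_dvd_dvd _ _).2 fun r i hr hri => ?_
        haveI := Fact.mk hr
        obtain ⟨P⟩ : Nonempty (Sylow r G) := inferInstance
        obtain ⟨K, hK⟩ := Sylow.exists_subgroup_card_pow_prime r hri
        have hKc : K ≤ Subgroup.center G := fun x hx => by
          obtain ⟨j, hj⟩ := IsPGroup.iff_orderOf.1 (IsPGroup.of_card hK) ⟨x, hx⟩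
          exact key r hr x ⟨j, by rwa [Subgroup.orderOf_mk] at hj⟩
        exact hK ▸ Subgroup.card_dvd_of_le hKc
      exact ⟨⟨fun x y => Subgroup.mem_center_iff.1 (htop ▸ Subgroup.mem_top y) x⟩⟩
    obtain ⟨r, hr, x, y, ⟨i, hx⟩, ⟨j, hy⟩, hxy⟩ := hex
    haveI := Fact.mk hr
    obtain ⟨R⟩ : Nonempty (Sylow r G) := inferInstance
    haveI : ((R : Subgroup G)).Normal := inferInstance
    have hmemR : ∀ (z : G) (l : ℕ), orderOf z = r ^ l → z ∈ (R : Subgroup G) := by
      intro z l hz
      obtain ⟨Q, hQ⟩ := (IsPGroup.of_card (G := Subgroup.zpowers z)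
        (by rw [Nat.card_zpowers, hz])).exists_le_sylow
      haveI := Sylow.unique_of_normal R inferInstance
      rw [Subsingleton.elim Q R] at hQ
      exact hQ (Subgroup.mem_zpowers z)
    have hxR := hmemR x i hx
    have hyR := hmemR y j hy
    have hxc : x ∉ Subgroup.center G := fun h => hxy (Subgroup.mem_center_iff.1 h y).symm
    -- abelian subgroups of the Sylow subgroup are cyclic
    have hab : AbCyc.AbCyclic (R : Subgroup G) := by
      intro A hA
      have hA' : IsCyclic (A.map (R : Subgroup G).subtype) := by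
        by_cases hcase : ∀ b ∈ A, ((b : (R : Subgroup G)) : G) ∈ Subgroup.center G
        · haveI := hC x hxc
          refine Subgroup.isCyclic_of_le (H' := Subgroup.centralizer ({x} : Set G)) ?_
          rintro _ ⟨b, hb, rfl⟩
          exact Subgroup.mem_centralizer_singleton_iff.2
            (Subgroup.mem_center_iff.1 (hcase b hb) x).symm
        · push Not at hcase
          obtain ⟨b, hb, hbc⟩ := hcase
          haveI := hC _ hbc
          refine Subgroup.isCyclic_of_le (H' := Subgroup.centralizer ({(b : G)} : Set G)) ?_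
          rintro _ ⟨c, hc, rfl⟩
          exact Subgroup.mem_centralizer_singleton_iff.2
            (congrArg Subtype.val (setLike_mul_comm (s := A) hc hb))
      exact (A.equivMapOfInjective _ Subtype.coe_injective).isCyclic.2 hA'
    have hRnc : ∀ (hcomm : ∀ u v : (R : Subgroup G), u * v = v * u), False := fun hcomm =>
      hxy (congrArg Subtype.val (hcomm ⟨x, hxR⟩ ⟨y, hyR⟩))
    rcases FpfStruct.cyclic_or_quaternion R.isPGroup' hab with hcyc | ⟨hr2, k, ⟨e⟩⟩
    · exact (hRnc fun u v => (IsCyclic.commGroup (α := (R : Subgroup G))).mul_comm u v).elim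
    subst hr2
    have hk : 1 ≤ k := by
      rcases k with _ | k
      · exfalso
        refine hRnc (IsPGroup.commutative_of_card_eq_prime_sq (p := 2) ?_)
        rw [Nat.card_congr e.toEquiv, Nat.card_eq_fintype_card, QuaternionGroup.card]
        norm_num
      · exact k.succ_pos
    -- the odd part
    have hnpc : Cfsg.HasNormalPComplement 2 G :=
      FixedPointFreeThompson.hasNormalPComplement_of_nilpotent
    obtain ⟨N, hNn, hNc, l, hl⟩ := PBasic.hasNormalPComplement_iff.1 hnpc
    have hodd : ∀ z ∈ N, (orderOf z).Coprime 2 := fun z hz =>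
      PBasic.coprime_orderOf_of_mem hNc hz
    have hcomm : ∀ (u : (R : Subgroup G)) (v : N), Commute (u : G) (v : G) := by
      intro u v
      obtain ⟨l', hl'⟩ := IsPGroup.iff_orderOf.1 R.isPGroup' u
      exact (FixedPointFreeThompson.commute_of_nilpotent
        (by rwa [← Subgroup.orderOf_coe] at hl') (hodd _ v.2)).symm
    haveI : IsCyclic N := by
      haveI := hC x hxc
      refine Subgroup.isCyclic_of_le (H' := Subgroup.centralizer ({x} : Set G)) fun v hv => ?_
      exact Subgroup.mem_centralizer_singleton_iff.2 (hcomm ⟨x, hxR⟩ ⟨v, hv⟩).symm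
    let φ : ↥(R : Subgroup G) × N →* G :=
      MonoidHom.noncommCoprod (R : Subgroup G).subtype N.subtype hcomm
    have hinj : Function.Injective φ := by
      rw [injective_iff_map_eq_one]
      rintro ⟨u, v⟩ huv
      have huv' : (u : G) * v = 1 := huv
      have hu : (u : G) ∈ N := by
        rw [eq_inv_of_mul_eq_one_left huv']; exact inv_mem v.2
      have hu1 : (u : G) = 1 := PBasic.eq_one_of_isPGroup_of_coprime R.isPGroup' u.2 (hodd _ hu)
      rw [hu1, one_mul] at huv'
      exact Prod.ext (Subtype.ext hu1) (Subtype.ext huv')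
    have hcard : Nat.card (↥(R : Subgroup G) × N) = Nat.card G := by
      have h1 := Subgroup.card_mul_index (R : Subgroup G)
      have h2 := Subgroup.card_mul_index N
      have hR1 : ¬ (2 ∣ (R : Subgroup G).index) := R.not_dvd_index
      obtain ⟨l', hl'⟩ := IsPGroup.iff_card.1 R.isPGroup'
      rw [Nat.card_prod]
      refine Nat.dvd_antisymm ?_ ?_
      · refine Nat.Coprime.mul_dvd_of_dvd_of_dvd ?_ (Subgroup.card_subgroup_dvd_card _)
          (Subgroup.card_subgroup_dvd_card _)
        rw [hl']; exact (Nat.Coprime.pow_right _ hNc).symm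
      · rw [← h2, hl, mul_comm]
        refine Nat.mul_dvd_mul_right ?_ _
        rw [hl']
        refine (Nat.Coprime.dvd_of_dvd_mul_right (k := 2 ^ l) (m := 2 ^ l') (n := (R : Subgroup G).index)
          (Nat.Coprime.pow_left _ (Nat.prime_two.coprime_iff_not_dvd.2 hR1)) ?_)
        rw [← hl', h1]
        exact Dvd.intro_left _ (hl ▸ h2)
    let E : ↥(R : Subgroup G) × N ≃* G :=
      MulEquiv.ofBijective φ ((Nat.bijective_iff_injective_and_card _).2 ⟨hinj, hcard⟩)
    refine ⟨k, Nat.card N, hk, Nat.coprime_two_right.1 hNc, ⟨E.symm.trans ?_⟩⟩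
    exact MulEquiv.prodCongr e (zmodCyclicMulEquiv (G := N) inferInstance).symm
  · rintro ⟨k, m, -, hm, ⟨e⟩⟩ x hx
    haveI : NeZero m := ⟨hm.pos.ne'⟩
    haveI : NeZero (2 ^ k) := ⟨(pow_pos two_pos k).ne'⟩
    have hco : (4 * 2 ^ k).Coprime m := by
      rw [show 4 * 2 ^ k = 2 ^ (k + 2) by rw [pow_add]; ring]
      exact Nat.Coprime.pow_left _ (Nat.coprime_two_left.2 hm)
    have hx' : e x ∉ Subgroup.center _ := fun h => hx (Subgroup.mem_center_iff.2 fun z =>
      e.injective (by rw [map_mul, map_mul]; exact Subgroup.mem_center_iff.1 h (e z)))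
    haveI := prod_centralizer_cyclic hco (e x) hx'
    have hmap : (Subgroup.centralizer ({x} : Set G)).map e.toMonoidHom ≤
        Subgroup.centralizer {e x} := by
      rintro _ ⟨z, hz, rfl⟩
      rw [Subgroup.mem_centralizer_singleton_iff, MulEquiv.coe_toMonoidHom, ← map_mul, ← map_mul,
        Subgroup.mem_centralizer_singleton_iff.1 hz]
    exact ((Subgroup.centralizer ({x} : Set G)).equivMapOfInjective e.toMonoidHom
      e.injective).isCyclic.2 (Subgroup.isCyclic_of_le hmap)

end Cfsg.Agent.S4370
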