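import Cfsg.Statements.S4377


set_option autoImplicit false
open Cfsg

namespace Cfsg.Agent.S4377

theorem card_orderOf_zero {K : Type*} [Group K] [Finite K] : Nat.card {g : K // orderOf g = 0} = 0 := by
  haveI : IsEmpty {g : K // orderOf g = 0} := ⟨fun g => (orderOf_pos g.1).ne' g.2⟩
  exact Nat.card_of_isEmpty

theorem card_pow_eq_one {K : Type*} [Group K] [Finite K] {n : ℕ} (hn : 0 < n) :
    Nat.card {g : K // g ^ n = 1} = ∑ d ∈ n.divisors, Nat.card {g : K // orderOf g = d} := by
  classical
  haveI := Fintype.ofFinite K
  simp only [Nat.card_eq_fintype_card, Fintype.card_subtype]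
  rw [Finset.card_eq_sum_card_fiberwise (f := orderOf) (t := n.divisors) (fun g hg => by
    simp only [Finset.coe_filter, Finset.mem_univ, true_and, Set.mem_setOf_eq] at hg
    exact Finset.mem_coe.2 (Nat.mem_divisors.2 ⟨orderOf_dvd_of_pow_eq_one hg, hn.ne'⟩))]
  refine Finset.sum_congr rfl fun d hd => congrArg Finset.card ?_
  ext g
  simp only [Finset.mem_filter, Finset.mem_univ, true_and]
  exact ⟨fun hg => hg.2, fun hg => ⟨orderOf_dvd_iff_pow_eq_one.1 (hg ▸ Nat.dvd_of_mem_divisors hd), hg⟩⟩

/-- Two finite groups have the same number of elements of each order if and only if, for every n, they have the same number of elements g with gⁿ = 1. -/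
theorem result {G H : Type*} [Group G] [Finite G] [Group H] [Finite H] :
    (∀ n : ℕ, Nat.card {g : G // orderOf g = n} = Nat.card {h : H // orderOf h = n}) ↔
      ∀ n : ℕ, Nat.card {g : G // g ^ n = 1} = Nat.card {h : H // h ^ n = 1} := by
  classical
  haveI : Fintype G := Fintype.ofFinite G
  haveI : Fintype H := Fintype.ofFinite H
  constructor
  · intro h n
    let e : G ≃ H := Equiv.ofFiberEquiv (f := fun g : G => orderOf g) (g := fun x : H => orderOf x)
      (fun k => (Finite.card_eq.1 (h k)).some)
    refine Nat.card_congr (e.subtypeEquiv fun g => ?_)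
    rw [← orderOf_dvd_iff_pow_eq_one, ← orderOf_dvd_iff_pow_eq_one]
    have : orderOf (e g) = orderOf g := Equiv.ofFiberEquiv_map _ g
    rw [this]
  · intro h n
    induction n using Nat.strong_induction_on with | _ n IH =>
    rcases Nat.eq_zero_or_pos n with rfl | hn
    · rw [card_orderOf_zero, card_orderOf_zero]
    have h2 := h n
    rw [card_pow_eq_one hn, card_pow_eq_one hn, ← Nat.cons_self_properDivisors hn.ne', Finset.sum_cons, Finset.sum_cons,
      Finset.sum_congr rfl (fun d hd => IH d (Nat.mem_properDivisors.1 hd).2)] at h2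
    exact Nat.add_right_cancel h2

end Cfsg.Agent.S4377
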