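import Cfsg.Agent.Lib.FGStruct.MaxPrimeIndexShape

set_option autoImplicit false

namespace Cfsg.Agent.S4378

theorem result {G : Type*} [Group G] [Finite G]
    (hG : Group.IsSolvable G)
    (hmax : ∀ M : Subgroup G, IsCoatom M → (∃ K : Subgroup ↥M, K.Normal ∧ ¬ 2 ∣ Nat.card K ∧ ∃ k : ℕ, K.index = 2 ^ k) ∨ (M.index).Prime) :
    ∃ A B C : Subgroup G, A.Normal ∧ B.Normal ∧ C.Normal ∧ A ≤ B ∧ B ≤ C ∧ Odd (Nat.card A) ∧
      (∃ k : ℕ, A.relIndex B = 2 ^ k) ∧ Odd (B.relIndex C) ∧ ∃ k : ℕ, C.index = 2 ^ k := by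
  haveI : Fact (Nat.Prime 2) := ⟨Nat.prime_two⟩
  obtain ⟨A, B, C, hA, hB, hC, -, hAB, hBC, h1, h2, h3, h4⟩ :=
    MaxPrimeShape.shape 2 _ G rfl (PSolvable.of_solvable hG) hmax
  rw [Subgroup.relIndex_bot_left] at h1
  refine ⟨A, B, C, hA, hB, hC, hAB, hBC, ?_, h2, ?_, h4⟩
  · rwa [← Nat.not_even_iff_odd, even_iff_two_dvd]
  · rwa [← Nat.not_even_iff_odd, even_iff_two_dvd]

end Cfsg.Agent.S4378
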