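import Cfsg.Agent.Lib.Solvable.Coprime
import Cfsg.Agent.Lib.Solvable.HHLinear
import Cfsg.Agent.Lib.Transfer.PGroup
import Mathlib.Algebra.Module.ZMod
import Mathlib.GroupTheory.SemidirectProduct

set_option autoImplicit false
set_option linter.style.haveILetI false

namespace Cfsg.Agent.S4381

open Cfsg.Agent
open scoped Pointwise

universe u v

variable {A : Type u} {G : Type v} [Group A] [Group G] [MulDistribMulAction A G]

private def Inv (A : Type u) [Group A] [MulDistribMulAction A G] (H : Subgroup G) : Prop :=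
  ∀ a : A, ∀ x ∈ H, a • x ∈ H

private theorem inv_sup {H K : Subgroup G} (hH : Inv A H) (hK : Inv A K) : Inv A (H ⊔ K) := by
  intro a x hx
  have h1 : (H ⊔ K).map (MulDistribMulAction.toMonoidHom G a) ≤ H ⊔ K := by
    rw [Subgroup.map_sup]
    refine sup_le_sup ?_ ?_
    · rintro _ ⟨y, hy, rfl⟩; exact hH a y hy
    · rintro _ ⟨y, hy, rfl⟩; exact hK a y hy
  exact h1 (Subgroup.mem_map_of_mem _ hx)

private theorem inv_frattini [Finite G] : Inv A (frattini G) := by
  intro a x hx
  have h := Subgroup.characteristic_iff_map_eq.1 (inferInstance : (frattini G).Characteristic)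
    (MulDistribMulAction.toMulEquiv G a)
  rw [← h]
  exact Subgroup.mem_map_of_mem _ hx

variable [Finite A] [Finite G]

private theorem exists_invariant_sylow (hcop : (Nat.card A).Coprime (Nat.card G))
    (hsol : Group.IsSolvable A ∨ Group.IsSolvable G) (p : ℕ) [Fact p.Prime] :
    ∃ P : Sylow p G, Inv A (P : Subgroup G) := by
  set φ : A →* MulAut G := MulDistribMulAction.toMulAut A G
  haveI : Finite (G ⋊[φ] A) := Finite.of_equiv _ SemidirectProduct.equivProd.symm
  set K : Subgroup (G ⋊[φ] A) := (SemidirectProduct.inl : G →* G ⋊[φ] A).range with hK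
  set B : Subgroup (G ⋊[φ] A) := (SemidirectProduct.inr : A →* G ⋊[φ] A).range with hB
  let eK : G ≃* K := MonoidHom.ofInjective SemidirectProduct.inl_injective
  let eB : A ≃* B := MonoidHom.ofInjective SemidirectProduct.inr_injective
  have hKn : K.Normal := by
    rw [hK, SemidirectProduct.range_inl_eq_ker_rightHom]; infer_instance
  have hBK : B ≤ Subgroup.normalizer (K : Set (G ⋊[φ] A)) := by
    rw [Subgroup.normalizer_eq_top]; exact le_top
  have hc : (Nat.card B).Coprime (Nat.card K) := by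
    rwa [← Nat.card_congr eB.toEquiv, ← Nat.card_congr eK.toEquiv]
  have hs : Group.IsSolvable B ∨ Group.IsSolvable K :=
    hsol.imp (fun h => @Group.isSolvable_of_surjective _ _ _ _ eB.toMonoidHom eB.surjective h)
      (fun h => @Group.isSolvable_of_surjective _ _ _ _ eK.toMonoidHom eK.surjective h)
  obtain ⟨P, hP⟩ := CoprimeAct.exists_invariant_sylow hBK hc hs p
  refine ⟨Sylow.comapOfInjective P eK.toMonoidHom eK.injective
    (fun y _ => ⟨eK.symm y, eK.apply_symm_apply y⟩), fun a x hx => ?_⟩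
  change eK x ∈ (P : Subgroup K) at hx
  change eK (a • x) ∈ (P : Subgroup K)
  have h1 := (Subgroup.mem_normalizer_iff.1 (hP (⟨a, rfl⟩ : (SemidirectProduct.inr a) ∈ B))
    ((eK x : K) : G ⋊[φ] A)).1 (Subgroup.mem_map_of_mem K.subtype hx)
  have h2 : (SemidirectProduct.inr a : G ⋊[φ] A) * SemidirectProduct.inl x *
      (SemidirectProduct.inr a)⁻¹ = SemidirectProduct.inl (a • x) := by
    rw [← map_inv]; exact (SemidirectProduct.inl_aut a x).symm
  obtain ⟨y, hy, hye⟩ := h1
  have : y = eK (a • x) := Subtype.ext (hye.trans h2)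
  exact this ▸ hy

private theorem exists_complement {p : ℕ} [hp : Fact p.Prime] (hP : IsPGroup p G)
    (hpA : ¬ p ∣ Nat.card A) {W : Subgroup G} (hW : frattini G ≤ W) (hWA : Inv A W) :
    ∃ K : Subgroup G, frattini G ≤ K ∧ Inv A K ∧ W ⊔ K = ⊤ ∧ W ⊓ K = frattini G := by
  have hcomm : ∀ a b : G, a * b * a⁻¹ * b⁻¹ ∈ frattini G := by
    intro a b
    rw [frattini, Order.radical, Subgroup.mem_iInf]
    intro M
    rw [Subgroup.mem_iInf]
    intro hM
    obtain ⟨hn, hidx⟩ := PGroupBasics.index_of_isCoatom hP hM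
    haveI := hn
    haveI : IsCyclic (G ⧸ M) := isCyclic_of_prime_card (p := p) hidx
    rw [← QuotientGroup.eq_one_iff (N := M)]
    simp only [QuotientGroup.mk_mul, QuotientGroup.mk_inv]
    rw [(IsCyclic.commGroup (α := G ⧸ M)).mul_comm (a : G ⧸ M) (b : G ⧸ M), mul_inv_cancel_right,
      mul_inv_cancel]
  let V := G ⧸ frattini G
  letI : CommGroup V :=
    { (inferInstance : Group V) with
      mul_comm := fun x y => by
        obtain ⟨a, rfl⟩ := QuotientGroup.mk_surjective x
        obtain ⟨b, rfl⟩ := QuotientGroup.mk_surjective y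
        have h := (QuotientGroup.eq_one_iff (N := frattini G) _).2 (hcomm a b)
        simp only [QuotientGroup.mk_mul, QuotientGroup.mk_inv] at h
        rwa [mul_inv_eq_one, mul_inv_eq_iff_eq_mul] at h }
  haveI hmod : Module (ZMod p) (Additive V) := AddCommGroup.zmodModule fun v => by
    obtain ⟨a, ha⟩ := QuotientGroup.mk_surjective (Additive.toMul v)
    refine Additive.toMul.injective ?_
    rw [toMul_nsmul, toMul_zero, ← ha, ← QuotientGroup.mk_pow, QuotientGroup.eq_one_iff]
    exact PGroupBasics.pow_mem_frattini hP a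
  haveI : Module.Finite (ZMod p) (Additive V) := Module.Finite.of_finite
  have hmapA : ∀ a : A, frattini G ≤ (frattini G).comap (MulDistribMulAction.toMonoidHom G a) :=
    fun a x hx => inv_frattini a x hx
  let ρ : A →* Module.End (ZMod p) (Additive V) :=
    { toFun := fun a => (MonoidHom.toAdditive
        (QuotientGroup.map _ (frattini G) (MulDistribMulAction.toMonoidHom G a) (hmapA a))).toZModLinearMap p
      map_one' := LinearMap.ext fun v => by
        obtain ⟨x, hx⟩ := QuotientGroup.mk_surjective (Additive.toMul v)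
        have hv : v = Additive.ofMul (x : V) := by rw [hx]; rfl
        subst hv
        exact congrArg Additive.ofMul (congrArg QuotientGroup.mk (one_smul A x))
      map_mul' := fun a b => LinearMap.ext fun v => by
        obtain ⟨x, hx⟩ := QuotientGroup.mk_surjective (Additive.toMul v)
        have hv : v = Additive.ofMul (x : V) := by rw [hx]; rfl
        subst hv
        exact congrArg Additive.ofMul (congrArg QuotientGroup.mk (mul_smul a b x)) }
  let π : G →* V := QuotientGroup.mk' (frattini G)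
  let F : Submodule (ZMod p) (Additive V) :=
    AddSubgroup.toZModSubmodule p (Subgroup.toAddSubgroup (W.map π))
  obtain ⟨U, hU, hUA⟩ := HHLinear.exists_complement ρ
    (by rw [Ne, ZMod.natCast_eq_zero_iff]; exact hpA) F (fun a v hv => by
      obtain ⟨x, hx, hxv⟩ := hv
      have hv' : v = Additive.ofMul (π x) := congrArg Additive.ofMul hxv.symm
      subst hv'
      exact ⟨a • x, hWA a x hx, rfl⟩)
  let K : Subgroup G :=
    { carrier := {x | Additive.ofMul (π x) ∈ U}
      one_mem' := by rw [Set.mem_setOf, map_one]; exact U.zero_mem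
      mul_mem' := fun {x y} hx hy => by rw [Set.mem_setOf, map_mul]; exact U.add_mem hx hy
      inv_mem' := fun {x} hx => by rw [Set.mem_setOf, map_inv]; exact U.neg_mem hx }
  have hΦK : frattini G ≤ K := fun x hx => by
    show Additive.ofMul (π x) ∈ U
    rw [show π x = 1 from (QuotientGroup.eq_one_iff (N := frattini G) x).2 hx]
    exact U.zero_mem
  refine ⟨K, hΦK, fun a x hx => hUA a _ hx, ?_, ?_⟩
  · rw [eq_top_iff]
    intro g _
    obtain ⟨f, hf, u, hu, hfu⟩ := Submodule.mem_sup.1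
      (show Additive.ofMul (π g) ∈ F ⊔ U by rw [hU.sup_eq_top]; exact Submodule.mem_top)
    obtain ⟨w, hw, hwf⟩ := hf
    have : w⁻¹ * g ∈ K := by
      show Additive.ofMul (π (w⁻¹ * g)) ∈ U
      have : Additive.ofMul (π (w⁻¹ * g)) = u := by
        rw [map_mul, map_inv, ofMul_mul, ofMul_inv, ← hfu,
          show Additive.ofMul (π w) = f from congrArg Additive.ofMul hwf]
        abel
      rwa [this]
    rw [show g = w * (w⁻¹ * g) by group]
    exact Subgroup.mul_mem_sup hw this
  · refine le_antisymm ?_ (le_inf hW hΦK)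
    rintro x ⟨hxW, hxK⟩
    have h0 : Additive.ofMul (π x) ∈ F ⊓ U := ⟨⟨x, hxW, rfl⟩, hxK⟩
    rw [hU.inf_eq_bot, Submodule.mem_bot] at h0
    exact (QuotientGroup.eq_one_iff (N := frattini G) x).1 (congrArg Additive.toMul h0)

omit [Finite A] [Finite G] in
private theorem conj_smul_eq_self {M : Subgroup G} [M.Normal] (c : G) : MulAut.conj c • M = M :=
  Subgroup.Normal.conj_smul_eq_self c M

theorem result {A G : Type*} [Group A] [Finite A]
    [Group G] [Finite G] [MulDistribMulAction A G] (hcop : (Nat.card A).Coprime (Nat.card G)) (hsol : Group.IsSolvable A ∨ Group.IsSolvable G) :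
    ((∀ M N : Subgroup G, (M ≠ ⊤ ∧ (∀ a : A, ∀ x ∈ M, a • x ∈ M) ∧ ∀ L : Subgroup G, M < L → (∀ a : A, ∀ x ∈ L, a • x ∈ L) → L = ⊤) → (N ≠ ⊤ ∧ (∀ a : A, ∀ x ∈ N, a • x ∈ N) ∧ ∀ L : Subgroup G, N < L → (∀ a : A, ∀ x ∈ L, a • x ∈ L) → L = ⊤) →
        ∃ c : G, (∀ a : A, a • c = c) ∧ N = MulAut.conj c • M) ↔
      ((∃ p : ℕ, p.Prime ∧ IsPGroup p G) ∧ ∀ L : Subgroup G, frattini G < L → (∀ a : A, ∀ x ∈ L, a • x ∈ L) → L = ⊤)) ∧
    (((∃ p : ℕ, p.Prime ∧ IsPGroup p G) ∧ ∀ L : Subgroup G, frattini G < L → (∀ a : A, ∀ x ∈ L, a • x ∈ L) → L = ⊤) →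
      ∀ M : Subgroup G, (M ≠ ⊤ ∧ (∀ a : A, ∀ x ∈ M, a • x ∈ M) ∧ ∀ L : Subgroup G, M < L → (∀ a : A, ∀ x ∈ L, a • x ∈ L) → L = ⊤) ↔ (M = frattini G ∧ M ≠ ⊤)) := by
  have key : ((∃ p : ℕ, p.Prime ∧ IsPGroup p G) ∧ ∀ L : Subgroup G, frattini G < L → (∀ a : A, ∀ x ∈ L, a • x ∈ L) → L = ⊤) →
      ∀ M : Subgroup G, (M ≠ ⊤ ∧ (∀ a : A, ∀ x ∈ M, a • x ∈ M) ∧ ∀ L : Subgroup G, M < L → (∀ a : A, ∀ x ∈ L, a • x ∈ L) → L = ⊤) ↔ (M = frattini G ∧ M ≠ ⊤) := by
    rintro ⟨-, hirr⟩ M
    refine ⟨fun ⟨hM, hMA, hmax⟩ => ⟨?_, hM⟩, fun ⟨hMeq, hM⟩ => ⟨hM, ?_, ?_⟩⟩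
    · by_cases h : frattini G = ⊤
      · rcases eq_or_lt_of_le (show M ≤ ⊤ from le_top) with h' | h'
        · exact absurd h' hM
        · haveI : Nontrivial G := by
            by_contra hn
            rw [not_nontrivial_iff_subsingleton] at hn
            exact hM (Subsingleton.elim _ _)
          exact absurd (frattini_nongenerating (show (⊥ : Subgroup G) ⊔ frattini G = ⊤ by
            rw [h, bot_sup_eq])) bot_ne_top
      have hle : M ⊔ frattini G ≠ ⊤ := fun h' => hM (frattini_nongenerating h')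
      have h1 : M ⊔ frattini G = frattini G := by
        rcases eq_or_lt_of_le (show frattini G ≤ M ⊔ frattini G from le_sup_right) with h' | h'
        · exact h'.symm
        · exact absurd (hirr _ h' (inv_sup hMA inv_frattini)) hle
      have hMΦ : M ≤ frattini G := h1 ▸ le_sup_left
      rcases eq_or_lt_of_le hMΦ with h' | h'
      · exact h'
      · exact absurd (hmax _ h' inv_frattini) h
    · rw [hMeq]; exact inv_frattini
    · rw [hMeq]; exact hirr
  refine ⟨⟨fun hconj => ?_, fun h M N hM hN => ?_⟩, key⟩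
  · rcases subsingleton_or_nontrivial G with hG | hG
    · refine ⟨⟨2, Nat.prime_two, IsPGroup.of_card (n := 0) (by rw [pow_zero]; exact Nat.card_of_subsingleton 1)⟩, fun L hL => ?_⟩
      exact absurd (Subsingleton.elim (frattini G) L) hL.ne
    have hexmax : ∀ S : Subgroup G, S ≠ ⊤ → Inv A S → ∃ M : Subgroup G, S ≤ M ∧ M ≠ ⊤ ∧ Inv A M ∧
        ∀ L : Subgroup G, M < L → (∀ a : A, ∀ x ∈ L, a • x ∈ L) → L = ⊤ := by
      intro S hS hSA
      obtain ⟨M, hSM, ⟨hMt, hMA⟩, hmax⟩ := Finite.exists_le_maximal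
        (p := fun T : Subgroup G => T ≠ ⊤ ∧ Inv A T) (a := S) ⟨hS, hSA⟩
      exact ⟨M, hSM, hMt, hMA, fun L hL hLA =>
        by_contra fun hne => hL.not_ge (hmax ⟨hne, hLA⟩ hL.le)⟩
    obtain ⟨M, -, hM, hMA, hMmax⟩ := hexmax ⊥ bot_ne_top fun a x hx => by
      rw [Subgroup.mem_bot] at hx ⊢; rw [hx, smul_one]
    have hp : ∃ p : ℕ, p.Prime ∧ IsPGroup p G := by
      by_contra hno
      push Not at hno
      refine hM (Subgroup.eq_top_of_card_eq _ (Nat.dvd_antisymm (Subgroup.card_subgroup_dvd_card M) ?_))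
      refine (Nat.dvd_iff_prime_pow_dvd_dvd _ _).2 fun p i hpp hi => ?_
      haveI := Fact.mk hpp
      obtain ⟨P, hPA⟩ := exists_invariant_sylow hcop hsol p
      have hPt : (P : Subgroup G) ≠ ⊤ := fun h =>
        hno p hpp ((h ▸ P.isPGroup' : IsPGroup p (⊤ : Subgroup G)).of_equiv Subgroup.topEquiv)
      obtain ⟨N, hPN, hN, hNA, hNmax⟩ := hexmax _ hPt hPA
      obtain ⟨c, -, hc⟩ := hconj M N ⟨hM, hMA, hMmax⟩ ⟨hN, hNA, hNmax⟩
      have hcard : Nat.card N = Nat.card M := by
        rw [hc]; exact (Nat.card_congr (Subgroup.equivSMul (MulAut.conj c) M).toEquiv).symm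
      rw [← hcard]
      refine dvd_trans ?_ (Subgroup.card_dvd_of_le hPN)
      rw [P.card_eq_multiplicity]
      exact Nat.pow_dvd_pow p ((hpp.pow_dvd_iff_le_factorization Nat.card_pos.ne').1 hi)
    obtain ⟨p, hpp, hP⟩ := hp
    refine ⟨⟨p, hpp, hP⟩, fun L hL hLA => by_contra fun hLt => ?_⟩
    haveI := Fact.mk hpp
    have hpA : ¬ p ∣ Nat.card A := by
      obtain ⟨k, hk⟩ := IsPGroup.iff_card.1 hP
      intro hd
      rcases k with _ | k
      · rw [pow_zero] at hk; exact absurd hk (Finite.one_lt_card (α := G)).ne'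
      · exact hpp.ne_one (Nat.eq_one_of_dvd_coprimes hcop hd (hk ▸ dvd_pow_self p k.succ_ne_zero))
    obtain ⟨N, hLN, hN, hNA, hNmax⟩ := hexmax L hLt hLA
    obtain ⟨K, hΦK, hKA, hNK, hinf⟩ := exists_complement hP hpA (hL.le.trans hLN) hNA
    have hKt : K ≠ ⊤ := fun h => by
      rw [h, inf_top_eq] at hinf
      exact (hL.trans_le hLN).ne' hinf
    obtain ⟨N', hKN', hN', hN'A, hN'max⟩ := hexmax K hKt hKA
    obtain ⟨c, -, hc⟩ := hconj N N' ⟨hN, hNA, hNmax⟩ ⟨hN', hN'A, hN'max⟩
    have hnorm : N.Normal := ⟨fun x hx g => by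
      have h1 : g * x * g⁻¹ * x⁻¹ ∈ frattini G := by
        rw [frattini, Order.radical, Subgroup.mem_iInf]
        intro Q
        rw [Subgroup.mem_iInf]
        intro hQ
        obtain ⟨hn, hidx⟩ := PGroupBasics.index_of_isCoatom hP hQ
        haveI := hn
        haveI : IsCyclic (G ⧸ Q) := isCyclic_of_prime_card (p := p) hidx
        rw [← QuotientGroup.eq_one_iff (N := Q)]
        simp only [QuotientGroup.mk_mul, QuotientGroup.mk_inv]
        rw [(IsCyclic.commGroup (α := G ⧸ Q)).mul_comm (g : G ⧸ Q) (x : G ⧸ Q), mul_inv_cancel_right,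
          mul_inv_cancel]
      rw [show g * x * g⁻¹ = (g * x * g⁻¹ * x⁻¹) * x by group]
      exact mul_mem (hLN (hL.le h1)) hx⟩
    rw [conj_smul_eq_self c] at hc
    subst hc
    exact hN (top_le_iff.1 (hNK ▸ sup_le le_rfl hKN'))
  · refine ⟨1, fun a => smul_one a, ?_⟩
    rw [map_one, one_smul, ((key h M).1 hM).1, ((key h N).1 hN).1]

end Cfsg.Agent.S4381
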