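import Cfsg.Statements.S4385
import Cfsg.Agent.Lib.FGStruct.ShiftDihedralCases

set_option autoImplicit false
open Pointwise
open Cfsg

namespace Cfsg.Agent.S4385

/-- Let H be a subgroup of a finite group G whose largest normal 2-subgroup O_2(H) is nontrivial and such that H/O_2(H) is a dihedral group of order at least 4. Let P be a Sylow 2-subgroup of H and S a Sylow 2-subgroup of G containing P. Suppose y ∈ S lies outside P, normalizes P, has y² in the product of P with the centralizer of P in G, and normalizes no non-identity normal subgroup of H contained in P. Then P has order 4, 8 or 16, and H modulo its largest normal subgroup of odd order is isomorphic to the four-group, to the symmetric group of degree 4, or to the direct product of the symmetric group of degree 4 with a group of order 2. -/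
theorem result {G : Type*} [Group G] [Finite G]
    (H : Subgroup G) (hO : Cfsg.pCore 2 ↥H ≠ ⊥) (n : ℕ) (hn : 2 ≤ n) (hdih : Nonempty (↥H ⧸ Cfsg.pCore 2 ↥H ≃* DihedralGroup n))
    (P : Subgroup G) (hPH : P ≤ H) (hP : IsPGroup 2 P) (hPsyl : ¬ 2 ∣ P.relIndex H)
    (S : Sylow 2 G) (hPS : P ≤ (S : Subgroup G)) (y : G) (hyS : y ∈ (S : Subgroup G)) (hyP : y ∉ P)
    (hy2 : y ^ 2 ∈ P ⊔ Subgroup.centralizer (P : Set G)) (hyN : MulAut.conj y • P = P)
    (hyQ : ∀ Q : Subgroup G, Q ≤ P → (Q.subgroupOf H).Normal → MulAut.conj y • Q = Q → Q = ⊥) :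
    (Nat.card P = 4 ∨ Nat.card P = 8 ∨ Nat.card P = 16) ∧
    (Nonempty (↥H ⧸ Cfsg.oddCore ↥H ≃* Multiplicative (ZMod 2) × Multiplicative (ZMod 2)) ∨
     Nonempty (↥H ⧸ Cfsg.oddCore ↥H ≃* Equiv.Perm (Fin 4)) ∨
     Nonempty (↥H ⧸ Cfsg.oddCore ↥H ≃* Equiv.Perm (Fin 4) × Multiplicative (ZMod 2))) := by
  haveI : Fact (Nat.Prime 2) := ⟨Nat.prime_two⟩
  obtain ⟨g, x₀, t, hWP, hWH, hWQ, hset, hsplit⟩ :=
    ShiftChain.exists_setup H hO n hn hdih P hPH hP hPsyl y hy2 hyN hyQ
  obtain ⟨s, hs⟩ := ShiftChain.exists_span hset.gen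
  have h1 := hs.two_mul_le hset.gen
  have h2 := hset.bound hs
  have h3 := hset.two_le
  have h4 := hs.le
  have hh := hset.gen
  have hX : ∀ i : ℤ, 0 ≤ i → i < ((t + 1 : ℕ) : ℤ) → ShiftChain.X g x₀ i ∈ H := fun i h0 h' =>
    hWH ▸ ShiftChain.mem_W h0 (by omega)
  have hcard : Nat.card P = 2 ^ t := by rw [← hWP, hh.card 0 t le_rfl]
  have hcases : (t = 2 ∧ s = 2) ∨ (t = 3 ∧ s = 2) ∨ (t = 4 ∧ s = 3) ∨ (t = 6 ∧ s = 4) := by omega
  rcases hcases with ⟨rfl, rfl⟩ | ⟨rfl, rfl⟩ | ⟨rfl, rfl⟩ | ⟨rfl, rfl⟩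
  · refine ⟨Or.inl hcard, Or.inl ?_⟩
    have S := hsplit ⟨_, hX 0 le_rfl (by norm_num)⟩ ⟨_, hX 2 (by norm_num) (by norm_num)⟩ rfl rfl
    refine S.klein ?_
    rw [← Subgroup.card_map_of_injective H.subtype_injective, hWQ, hh.card 1 (2 - 1) (by norm_num)]
    norm_num
  · refine ⟨Or.inr (Or.inl hcard), Or.inr ?_⟩
    obtain ⟨d1, d2, d3, d4⟩ := ShiftChain.three_data hset hs
    have S := hsplit ⟨_, hX 0 le_rfl (by norm_num)⟩ ⟨_, hX 3 (by norm_num) (by norm_num)⟩ rfl rfl
    refine S.sym_four ⊥ ⟨_, hX 1 (by norm_num) (by norm_num)⟩ ⟨_, hX 2 (by norm_num) (by norm_num)⟩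
      bot_le (by simp) ?_ (Subtype.ext (hh.mul_self_X 1)) (Subtype.ext (hh.mul_self_X 2)) ?_ ?_ ?_
      (Subtype.ext (hs.comm 1 2 (by norm_num) (by norm_num))) (Subtype.ext d1) (Subtype.ext d2)
      (Subtype.ext d3) (Subtype.ext d4)
    · apply Subgroup.map_injective H.subtype_injective
      rw [hWQ, sup_bot_eq, MonoidHom.map_closure, Set.image_pair]
      exact ShiftChain.W_two g x₀ 1
    · intro e
      have e' : ShiftChain.X g x₀ 1 = 1 := congrArg Subtype.val e
      exact hh.notMem_left (a := 1) (k := 0) (by norm_num) (e' ▸ one_mem _)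
    · intro e
      have e' : ShiftChain.X g x₀ 2 = 1 := congrArg Subtype.val e
      exact hh.notMem_left (a := 2) (k := 0) (by norm_num) (e' ▸ one_mem _)
    · intro e
      have e' : ShiftChain.X g x₀ 1 = ShiftChain.X g x₀ 2 := congrArg Subtype.val e
      exact hh.notMem_left (a := 1) (k := 1) (by norm_num)
        (e' ▸ ShiftChain.mem_W le_rfl (by norm_num))
  · refine ⟨Or.inr (Or.inr hcard), Or.inr ?_⟩
    obtain ⟨d1, d2⟩ := ShiftChain.four_data hset hs
    have S := hsplit ⟨_, hX 0 le_rfl (by norm_num)⟩ ⟨_, hX 4 (by norm_num) (by norm_num)⟩ rfl rfl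
    have hc : ∀ i j : ℤ, i - j < 3 → j - i < 3 →
        ShiftChain.X g x₀ i * ShiftChain.X g x₀ j = ShiftChain.X g x₀ j * ShiftChain.X g x₀ i :=
      fun i j a b => hs.comm i j a b
    have hfx : ∀ i j : ℤ, i - j < 3 → j - i < 3 →
        ShiftChain.X g x₀ i * ShiftChain.X g x₀ j * ShiftChain.X g x₀ i = ShiftChain.X g x₀ j := by
      intro i j a b
      rw [hc i j a b, mul_assoc, hh.mul_self_X, mul_one]
    have hconj : ∀ a u v : G, a * a = 1 → a * (u * v) * a = (a * u * a) * (a * v * a) := by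
      intro a u v ha
      simp only [mul_assoc]
      rw [← mul_assoc a a, ha, one_mul]
    have hsq : ∀ u v : G, u * u = 1 → v * v = 1 → u * v = v * u → u * v * (u * v) = 1 := by
      intro u v hu hv huv
      rw [mul_assoc, ← mul_assoc v, ← huv, mul_assoc u v, hv, mul_one, hu]
    set x1 := ShiftChain.X g x₀ 1 with hx1
    set x2 := ShiftChain.X g x₀ 2 with hx2
    set x3 := ShiftChain.X g x₀ 3 with hx3
    have hm1 : x1 ∈ H := hX 1 (by norm_num) (by norm_num)
    have hm2 : x2 ∈ H := hX 2 (by norm_num) (by norm_num)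
    have hm3 : x3 ∈ H := hX 3 (by norm_num) (by norm_num)
    have hprod : x1 * x2 * (x2 * x3) = x1 * x3 := by
      rw [mul_assoc, ← mul_assoc x2, hh.mul_self_X, one_mul]
    refine S.sym_four (Subgroup.zpowers ⟨x2, hm2⟩) (⟨x1, hm1⟩ * ⟨x2, hm2⟩) (⟨x2, hm2⟩ * ⟨x3, hm3⟩)
      ?_ ?_ ?_ ?_ ?_ ?_ ?_ ?_ ?_ ?_ ?_ ?_ ?_
    · refine Subgroup.zpowers_le.2 (Subgroup.mem_center_iff.2 fun u => Subtype.ext ?_)
      exact (ShiftChain.four_center hset hs (hWH.symm ▸ u.2 : (u : G) ∈ ShiftChain.W g x₀ 0 5)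
        (ShiftChain.mem_W le_rfl (by norm_num))).symm
    · exact DihedralTop.orderOf_le_two (Subtype.ext (hh.mul_self_X 2))
    · apply Subgroup.map_injective H.subtype_injective
      rw [hWQ, Subgroup.map_sup, MonoidHom.map_closure, Set.image_pair, MonoidHom.map_zpowers]
      show ShiftChain.W g x₀ 1 3 = Subgroup.closure {x1 * x2, x2 * x3} ⊔ Subgroup.zpowers x2
      refine le_antisymm ((Subgroup.closure_le _).2 ?_) (sup_le ((Subgroup.closure_le _).2 ?_)
        (Subgroup.zpowers_le.2 (ShiftChain.mem_W (by norm_num) (by norm_num))))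
      · rintro _ ⟨i, hi, rfl⟩
        have h2m : x2 ∈ Subgroup.closure {x1 * x2, x2 * x3} ⊔ Subgroup.zpowers x2 :=
          Subgroup.mem_sup_right (Subgroup.mem_zpowers x2)
        have ha : x1 * x2 ∈ Subgroup.closure {x1 * x2, x2 * x3} :=
          Subgroup.subset_closure (Set.mem_insert _ _)
        have hb : x2 * x3 ∈ Subgroup.closure {x1 * x2, x2 * x3} :=
          Subgroup.subset_closure (Set.mem_insert_of_mem _ rfl)
        have hi2 := hi.2
        have hi1 := hi.1
        rcases (show i = 1 ∨ i = 2 ∨ i = 3 by omega) with rfl | rfl | rfl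
        · have := mul_mem (Subgroup.mem_sup_left ha) (inv_mem h2m)
          rwa [mul_inv_cancel_right] at this
        · exact h2m
        · have := mul_mem (inv_mem h2m) (Subgroup.mem_sup_left hb)
          rwa [inv_mul_cancel_left] at this
      · rintro _ (rfl | rfl)
        · exact mul_mem (ShiftChain.mem_W le_rfl (by norm_num)) (ShiftChain.mem_W (by norm_num) (by norm_num))
        · exact mul_mem (ShiftChain.mem_W (by norm_num) (by norm_num)) (ShiftChain.mem_W (by norm_num) (by norm_num))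
    · exact Subtype.ext (hsq _ _ (hh.mul_self_X 1) (hh.mul_self_X 2) (hc 1 2 (by norm_num) (by norm_num)))
    · exact Subtype.ext (hsq _ _ (hh.mul_self_X 2) (hh.mul_self_X 3) (hc 2 3 (by norm_num) (by norm_num)))
    · intro e
      have e' : x1 = x2⁻¹ := eq_inv_of_mul_eq_one_left (congrArg Subtype.val e)
      exact hh.notMem_left (a := 1) (k := 1) (by norm_num) (show x1 ∈ _ from e' ▸ inv_mem
        (ShiftChain.mem_W le_rfl (by norm_num)))
    · intro e
      have e' : x2 = x3⁻¹ := eq_inv_of_mul_eq_one_left (congrArg Subtype.val e)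
      exact hh.notMem_left (a := 2) (k := 1) (by norm_num) (show x2 ∈ _ from e' ▸ inv_mem
        (ShiftChain.mem_W le_rfl (by norm_num)))
    · intro e
      have e' : x1 * x2 = x3 * x2 := (congrArg Subtype.val e).trans (hc 2 3 (by norm_num) (by norm_num))
      exact hh.notMem_left (a := 1) (k := 2) (by norm_num) (show x1 ∈ _ from (mul_right_cancel e') ▸
        ShiftChain.mem_W (by norm_num) (by norm_num))
    · apply Subtype.ext
      show x1 * x2 * (x2 * x3) = x2 * x3 * (x1 * x2)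
      rw [hprod, hc 2 3 (by norm_num) (by norm_num), mul_assoc, ← mul_assoc x2,
        hc 2 1 (by norm_num) (by norm_num), mul_assoc x1, hh.mul_self_X, mul_one, hc 3 1 (by norm_num) (by norm_num)]
    · apply Subtype.ext
      show ShiftChain.X g x₀ 0 * (x1 * x2) * ShiftChain.X g x₀ 0 = x1 * x2
      rw [hconj _ _ _ (hh.mul_self_X 0), hfx 0 1 (by norm_num) (by norm_num), hfx 0 2 (by norm_num) (by norm_num)]
    · apply Subtype.ext
      show ShiftChain.X g x₀ 0 * (x2 * x3) * ShiftChain.X g x₀ 0 = x1 * x2 * (x2 * x3)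
      rw [hconj _ _ _ (hh.mul_self_X 0), hfx 0 2 (by norm_num) (by norm_num), d1, hprod, ← mul_assoc,
        ← mul_assoc, hc 2 1 (by norm_num) (by norm_num), mul_assoc x1, hh.mul_self_X, mul_one]
    · apply Subtype.ext
      show ShiftChain.X g x₀ 4 * (x2 * x3) * ShiftChain.X g x₀ 4 = x2 * x3
      rw [hconj _ _ _ (hh.mul_self_X 4), hfx 4 2 (by norm_num) (by norm_num), hfx 4 3 (by norm_num) (by norm_num)]
    · apply Subtype.ext
      show ShiftChain.X g x₀ 4 * (x1 * x2) * ShiftChain.X g x₀ 4 = x1 * x2 * (x2 * x3)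
      rw [hconj _ _ _ (hh.mul_self_X 4), hfx 4 2 (by norm_num) (by norm_num), d2, hprod,
        mul_assoc (x1 * x2), hc 3 2 (by norm_num) (by norm_num), hprod]
  · exact absurd (hset.not_six hs) id

end Cfsg.Agent.S4385
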