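import Cfsg.Statements.S4387


set_option autoImplicit false
open Pointwise
open Cfsg
open scoped Pointwise

namespace Cfsg.Agent.S4387

/-- Let G be a non-trivial finite group in which any two maximal subgroups are conjugate. Then G is cyclic of prime-power order. -/
theorem result {G : Type*} [Group G] [Finite G] [Nontrivial G]
    (h : ∀ M N : Subgroup G, IsCoatom M → IsCoatom N → ∃ g : G, N = MulAut.conj g • M) :
    IsCyclic G ∧ IsPrimePow (Nat.card G) := by
  classical
  obtain ⟨M, hM, -⟩ := (eq_top_or_exists_le_coatom (⊥ : Subgroup G)).resolve_left bot_ne_top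
  haveI : Fintype G := Fintype.ofFinite G
  haveI : Fintype (G ⧸ M) := Fintype.ofFinite _
  -- an element in no conjugate of `M`
  have hder : ∃ g : G, ∀ x : G ⧸ M, g • x ≠ x := by
    by_contra hcon
    push Not at hcon
    have hb := MulAction.sum_card_fixedBy_eq_card_orbits_mul_card_group G (G ⧸ M)
    haveI : Unique (Quotient (MulAction.orbitRel G (G ⧸ M))) :=
      { default := Quotient.mk'' ((1 : G) : G ⧸ M)
        uniq := fun q => by
          induction q using Quotient.inductionOn' with | _ x =>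
          exact Quotient.eq''.2 (MulAction.exists_smul_eq G _ x) }
    rw [Fintype.card_unique, one_mul] at hb
    have h2 : ∑ g : G, Fintype.card (MulAction.fixedBy (G ⧸ M) g) > ∑ _g : G, 1 := by
      refine Finset.sum_lt_sum (fun g _ => ?_) ⟨1, Finset.mem_univ _, ?_⟩
      · obtain ⟨x, hx⟩ := hcon g
        exact Fintype.card_pos_iff.2 ⟨⟨x, hx⟩⟩
      · have he : MulAction.fixedBy (G ⧸ M) (1 : G) = Set.univ := Set.eq_univ_of_forall fun x => one_smul G x
        rw [Fintype.card_congr (Equiv.setCongr he), Fintype.card_congr (Equiv.Set.univ _)]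
        rw [← Nat.card_eq_fintype_card]
        exact Subgroup.one_lt_index_of_ne_top hM.1
    rw [hb, Finset.sum_const, Finset.card_univ, smul_eq_mul, mul_one] at h2
    exact lt_irrefl _ h2
  obtain ⟨g, hg⟩ := hder
  have hcyc : IsCyclic G := by
    refine ⟨⟨g, fun y => ?_⟩⟩
    rcases eq_top_or_exists_le_coatom (Subgroup.zpowers g) with h' | ⟨N, hN, hle⟩
    · exact Subgroup.mem_zpowers_iff.1 (h'.symm ▸ Subgroup.mem_top y)
    · exfalso
      obtain ⟨c, rfl⟩ := h M N hM hN
      obtain ⟨m, hm, hm'⟩ := hle (Subgroup.mem_zpowers g)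
      refine hg ((c : G) : G ⧸ M) ?_
      have e : g = c * m * c⁻¹ := by rw [← hm']; simp
      show ((g * c : G) : G ⧸ M) = ((c : G) : G ⧸ M)
      rw [QuotientGroup.eq, e]
      have e2 : (c * m * c⁻¹ * c)⁻¹ * c = m⁻¹ := by group
      rw [e2]
      exact inv_mem hm
  refine ⟨hcyc, ?_⟩
  have hone : 1 < Nat.card G := Finite.one_lt_card
  rw [isPrimePow_iff_unique_prime_dvd]
  obtain ⟨p, hp, hpd⟩ := Nat.exists_prime_and_dvd hone.ne'
  refine ⟨p, ⟨hp, hpd⟩, ?_⟩
  rintro q ⟨hq, hqd⟩
  letI := IsCyclic.commGroup (α := G)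
  have key : ∀ r : ℕ, r.Prime → r ∣ Nat.card G → ∃ N : Subgroup G, IsCoatom N ∧ N.index = r := by
    intro r hr hrd
    obtain ⟨a, ha⟩ := IsCyclic.exists_generator (α := G)
    refine ⟨Subgroup.zpowers (a ^ r), ?_, ?_⟩
    · have hidx : (Subgroup.zpowers (a ^ r)).index = r := by
        have h1 := (Subgroup.zpowers (a ^ r)).card_mul_index
        have hord : orderOf a = Nat.card G := orderOf_eq_card_of_forall_mem_zpowers ha
        rw [Nat.card_zpowers, orderOf_pow_of_dvd hr.ne_zero (hord ▸ hrd), hord] at h1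
        have h3 : 0 < Nat.card G / r := Nat.div_pos (Nat.le_of_dvd Nat.card_pos hrd) hr.pos
        exact Nat.eq_of_mul_eq_mul_left h3 (h1.trans (Nat.div_mul_cancel hrd).symm)
      refine ⟨fun ht => ?_, fun L hL => ?_⟩
      · rw [ht, Subgroup.index_top] at hidx
        exact hr.ne_one hidx.symm
      · have h2 := Subgroup.relIndex_mul_index hL.le
        rw [hidx] at h2
        rcases (Nat.dvd_prime hr).1 (Dvd.intro_left _ h2) with h3 | h3
        · exact Subgroup.index_eq_one.1 h3
        · rw [h3] at h2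
          have h4 : (Subgroup.zpowers (a ^ r)).relIndex L = 1 :=
            Nat.eq_of_mul_eq_mul_right hr.pos (h2.trans (one_mul r).symm)
          exact absurd (Subgroup.relIndex_eq_one.1 h4) (not_le_of_gt hL)
    · have h1 := (Subgroup.zpowers (a ^ r)).card_mul_index
      have hord : orderOf a = Nat.card G := orderOf_eq_card_of_forall_mem_zpowers ha
      rw [Nat.card_zpowers, orderOf_pow_of_dvd hr.ne_zero (hord ▸ hrd), hord] at h1
      have h3 : 0 < Nat.card G / r := Nat.div_pos (Nat.le_of_dvd Nat.card_pos hrd) hr.pos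
      exact Nat.eq_of_mul_eq_mul_left h3 (h1.trans (Nat.div_mul_cancel hrd).symm)
  obtain ⟨A, hA, hA'⟩ := key p hp hpd
  obtain ⟨B, hB, hB'⟩ := key q hq hqd
  obtain ⟨c, rfl⟩ := h A B hA hB
  have e : MulAut.conj c • A = A := by
    ext y
    rw [Subgroup.mem_pointwise_smul_iff_inv_smul_mem]
    simp [mul_comm]
  rw [← hA', ← hB', e]

end Cfsg.Agent.S4387
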