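import Cfsg.Statements.S4395
import Cfsg.Agent.Lib.FGStruct.Schmidt.Model
import Cfsg.Agent.Lib.FGStruct.Schmidt.Structure
-- import your own Cfsg.Agent.* helpers here

set_option autoImplicit false
universe u
open Cfsg

namespace Cfsg.Agent.S4395

/-- Let p ≠ q be primes, r ≥ 1, a the multiplicative order of p modulo q, and a₀ = a when a is odd, a₀ = 3a/2 when a is even. Call a finite group minimal non-p-nilpotent when it has no normal p-complement but every proper subgroup has one. Then there is a minimal non-p-nilpotent group G₀ of order p^a₀ · q^r such that every minimal non-p-nilpotent group of order p^t · q^r (any t) is a quotient of G₀ by a central subgroup. -/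
theorem result (p q r : ℕ) [Fact p.Prime] [Fact q.Prime] (hpq : p ≠ q) (hr : 1 ≤ r) (a a₀ : ℕ)
    (ha : a = orderOf (p : ZMod q)) (ha₀ : a₀ = if a % 2 = 1 then a else 3 * a / 2) :
    ∃ (G₀ : Type u) (_ : Group G₀) (_ : Finite G₀),
      (¬ Cfsg.HasNormalPComplement p G₀ ∧ ∀ K : Subgroup G₀, K ≠ ⊤ → Cfsg.HasNormalPComplement p ↥K) ∧ Nat.card G₀ = p ^ a₀ * q ^ r ∧
      ∀ (X : Type u) [Group X] [Finite X], (¬ Cfsg.HasNormalPComplement p X ∧ ∀ K : Subgroup X, K ≠ ⊤ → Cfsg.HasNormalPComplement p ↥K) →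
        (∃ t : ℕ, Nat.card X = p ^ t * q ^ r) → ∃ φ : G₀ →* X, Function.Surjective φ ∧ φ.ker ≤ Subgroup.center G₀ := by
  obtain ⟨F, _, _, _, ζ, R⟩ := SchmidtUniv.exists_rootData hpq ha
  obtain ⟨K, _, ⟨D⟩⟩ := R.exists_commData
  haveI := D.finite
  let e : ULift.{u} (SchmidtUniv.G0 R hr D) ≃* SchmidtUniv.G0 R hr D := MulEquiv.ulift
  have hcov := (SchmidtUniv.π0_cover R hr D).comp_equiv R hr e
  haveI : Finite (ULift.{u} (SchmidtUniv.G0 R hr D)) := Finite.of_equiv _ e.symm.toEquiv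
  refine ⟨ULift.{u} (SchmidtUniv.G0 R hr D), inferInstance, inferInstance,
    ⟨hcov.not_hasNPC R hr hpq, fun K hK => hcov.schmidt R hr hK⟩, ?_, fun X _ _ hX ht => ?_⟩
  · rw [Nat.card_congr e.toEquiv, SchmidtUniv.card_G0 R hr D, ha₀]
  · obtain ⟨t, ht⟩ := ht
    obtain ⟨π, hπ⟩ := SchmidtUniv.exists_cover R hr hpq hX.1 hX.2 ht
    refine SchmidtUniv.universal R hr D hpq hcov ?_ hπ
    rw [← SchmidtUniv.π0_card_ker R hr D]
    refine Nat.card_congr (Equiv.subtypeEquiv e.toEquiv fun y => Iff.rfl)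

end Cfsg.Agent.S4395
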