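import Cfsg.Prelude.Def_CaseTheorems
import Cfsg.Prelude.Def_OddOrderLocal
import Cfsg.Agent.Lib.FiniteGroup.FrattiniAut

/-! `2`-groups of sectional rank at most two are metacyclic. -/

set_option autoImplicit false
set_option linter.style.haveILetI false

universe u

open scoped commutatorElement

namespace Cfsg.Agent.S4397

variable {P : Type u} [Group P]

private theorem pRankLE_of_injective {X Y : Type*} [Group X] [Group Y] [Finite Y] (φ : X →* Y) (hφ : Function.Injective φ)
    {p k : ℕ} (h : Cfsg.PRankLE p k Y) : Cfsg.PRankLE p k X := by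
  intro A hA hexp
  have := h (A.map φ) (Subgroup.map_isMulCommutative A φ) (by
    rintro _ ⟨a, ha, rfl⟩
    rw [← map_pow, hexp a ha, map_one])
  rwa [Subgroup.card_map_of_injective hφ] at this

private theorem sectional_quotient [Finite P] {p k : ℕ} (h : Cfsg.SectionalPRankLE p k P) (N : Subgroup P) [N.Normal] :
    Cfsg.SectionalPRankLE p k (P ⧸ N) := by
  intro H M _
  let f := QuotientGroup.mk' N
  let g : H.comap f →* H := (f.comp (H.comap f).subtype).codRestrict H fun x => x.2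
  have hg : Function.Surjective ((QuotientGroup.mk' M).comp g) := by
    refine (QuotientGroup.mk'_surjective M).comp ?_
    rintro ⟨y, hy⟩
    obtain ⟨x, rfl⟩ := QuotientGroup.mk'_surjective N y
    exact ⟨⟨x, hy⟩, rfl⟩
  let e := QuotientGroup.quotientKerEquivOfSurjective _ hg
  exact pRankLE_of_injective e.symm.toMonoidHom e.symm.injective (h (H.comap f) _)

/-- a cyclic subgroup containing the derived subgroup and supplemented by a cyclic group -/
private theorem metacyclic_of (a b : P) (hgen : Subgroup.closure {a, b} = ⊤) (hn : (Subgroup.zpowers a).Normal) :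
    Cfsg.IsMetacyclic P := by
  refine ⟨Subgroup.zpowers a, hn, inferInstance, ⟨⟨QuotientGroup.mk b, fun q => ?_⟩⟩⟩
  obtain ⟨g, rfl⟩ := QuotientGroup.mk_surjective q
  have hg : g ∈ Subgroup.closure {a, b} := by rw [hgen]; trivial
  show (QuotientGroup.mk g : P ⧸ Subgroup.zpowers a) ∈ Subgroup.zpowers (QuotientGroup.mk b : P ⧸ Subgroup.zpowers a)
  have : Subgroup.closure ({a, b} : Set P) ≤ (Subgroup.zpowers (QuotientGroup.mk b : P ⧸ Subgroup.zpowers a)).comap (QuotientGroup.mk' _) := by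
    rw [Subgroup.closure_le]
    rintro x (rfl | rfl)
    · show (QuotientGroup.mk x : P ⧸ Subgroup.zpowers x) ∈ Subgroup.zpowers (QuotientGroup.mk b : P ⧸ Subgroup.zpowers x)
      rw [(QuotientGroup.eq_one_iff x).2 (Subgroup.mem_zpowers x)]
      exact Subgroup.one_mem _
    · exact Subgroup.mem_zpowers _
  exact this hg

private theorem normal_of_commutator_le {H : Subgroup P} (h : commutator P ≤ H) : H.Normal :=
  ⟨fun x hx g => by
    rw [show g * x * g⁻¹ = ⁅g, x⁆ * x by rw [commutatorElement_def]; group]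
    exact H.mul_mem (h (Subgroup.commutator_mem_commutator (Subgroup.mem_top g) (Subgroup.mem_top x))) hx⟩

variable [Finite P]

/-- A non-trivial normal subgroup of a finite `2`-group meets the centre. -/
private theorem inf_center_ne_bot {N : Subgroup P} [hNn : N.Normal] (hH : IsPGroup 2 P) (hN : N ≠ ⊥) :
    N ⊓ Subgroup.center P ≠ ⊥ := by
  haveI : Group.IsNilpotent P := IsPGroup.isNilpotent hH
  obtain ⟨n, hn⟩ := Group.IsNilpotent.nilpotent' (G := P)
  intro hbot
  apply hN
  have : ∀ i, N ⊓ Subgroup.upperCentralSeries P i = ⊥ := by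
    intro i
    induction i with
    | zero => simp
    | succ i ih =>
      rw [eq_bot_iff]
      intro x hx
      obtain ⟨hxN, hxU⟩ := Subgroup.mem_inf.1 hx
      have hxc : x ∈ Subgroup.center P := by
        rw [Subgroup.mem_center_iff]
        intro y
        have h1 : x * y * x⁻¹ * y⁻¹ ∈ N ⊓ Subgroup.upperCentralSeries P i :=
          Subgroup.mem_inf.2 ⟨by
            have := mul_mem hxN (hNn.conj_mem x⁻¹ (inv_mem hxN) y)
            simpa [mul_assoc] using this,
            (Subgroup.mem_upperCentralSeries_succ_iff.1 hxU) y⟩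
        rw [ih, Subgroup.mem_bot] at h1
        rw [mul_inv_eq_one, mul_inv_eq_iff_eq_mul] at h1
        exact h1.symm
      exact hbot ▸ Subgroup.mem_inf.2 ⟨hxN, hxc⟩
  rw [← this n, hn, inf_top_eq]

private theorem exists_two_gens (h2 : IsPGroup 2 P) (hr : Cfsg.SectionalPRankLE 2 2 P) :
    ∃ a b : P, Subgroup.closure {a, b} = ⊤ := by
  haveI : Group.IsNilpotent P := IsPGroup.isNilpotent h2
  obtain ⟨n, hn⟩ := IsPGroup.iff_card.1 h2
  obtain ⟨r, -, hr'⟩ := (Nat.dvd_prime_pow Nat.prime_two).1 (hn ▸ (frattini P).index_dvd_card)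
  have hexp : ∀ x : P ⧸ frattini P, x ^ 2 = 1 := by
    intro x
    obtain ⟨y, rfl⟩ := QuotientGroup.mk_surjective x
    rw [← QuotientGroup.mk_pow, QuotientGroup.eq_one_iff]
    exact Cfsg.Agent.PGroupBasics.pow_mem_frattini h2 y
  have hcomm : IsMulCommutative (⊤ : Subgroup (P ⧸ frattini P)) := by
    refine ⟨⟨fun x y => Subtype.ext ?_⟩⟩
    have hi : ∀ z : P ⧸ frattini P, z⁻¹ = z := fun z => inv_eq_of_mul_eq_one_right (by rw [← sq, hexp])
    show (x : P ⧸ frattini P) * y = y * x
    rw [← hi (x * y), mul_inv_rev, hi, hi]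
  have hle : r ≤ 2 := by
    have hq : Cfsg.PRankLE 2 2 (P ⧸ frattini P) := by
      let e : (⊤ : Subgroup (P ⧸ frattini P)) ⧸ (⊥ : Subgroup (⊤ : Subgroup (P ⧸ frattini P))) ≃* P ⧸ frattini P :=
        QuotientGroup.quotientBot.trans Subgroup.topEquiv
      exact pRankLE_of_injective e.symm.toMonoidHom e.symm.injective (sectional_quotient hr (frattini P) ⊤ ⊥)
    have h5 := hq ⊤ hcomm fun x _ => hexp x
    rw [Subgroup.card_top, ← Subgroup.index_eq_card, hr'] at h5
    exact (Nat.pow_le_pow_iff_right one_lt_two).1 h5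
  obtain ⟨⟨t, ht⟩, -⟩ := FrattiniAut.exists_generators (p := 2) hn hr'
  have htop := FrattiniAut.closure_eq_top ht
  refine ⟨if h : 0 < r then t ⟨0, h⟩ else 1, if h : 1 < r then t ⟨1, h⟩ else 1, ?_⟩
  rw [eq_top_iff, ← htop, Subgroup.closure_le]
  rintro _ ⟨⟨i, hi⟩, rfl⟩
  refine Subgroup.subset_closure ?_
  rcases (show i = 0 ∨ i = 1 by omega) with rfl | rfl
  · exact Or.inl (by rw [dif_pos hi])
  · exact Or.inr (show t ⟨1, hi⟩ = _ by rw [dif_pos hi])

/-- the case where the derived subgroup is central of exponent two -/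
private theorem small_case (hr : Cfsg.SectionalPRankLE 2 2 P) (h2 : IsPGroup 2 P) (a b : P)
    (hgen : Subgroup.closure {a, b} = ⊤)
    (hcen : ∀ x ∈ commutator P, ∀ g : P, g * x = x * g) (hsq : ∀ x ∈ commutator P, x * x = 1) :
    Cfsg.IsMetacyclic P := by
  set c := ⁅a, b⁆ with hc
  have hcP : c ∈ commutator P := Subgroup.commutator_mem_commutator (Subgroup.mem_top _) (Subgroup.mem_top _)
  set Z := Subgroup.zpowers c with hZ
  haveI hZn : Z.Normal := ⟨fun x hx g => by
    obtain ⟨k, rfl⟩ := Subgroup.mem_zpowers_iff.1 hx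
    rw [((show Commute g c from hcen c hcP g).zpow_right k).eq, mul_inv_cancel_right]
    exact Subgroup.zpow_mem _ (Subgroup.mem_zpowers c) k⟩
  set π := QuotientGroup.mk' Z with hπ
  have hπc : π c = 1 := (QuotientGroup.eq_one_iff c).2 (Subgroup.mem_zpowers c)
  have hab : π a * π b = π b * π a := by
    refine commutatorElement_eq_one_iff_mul_comm.1 ?_
    rw [← map_commutatorElement]; exact hπc
  have hgenπ : Subgroup.closure {π a, π b} = ⊤ := by
    rw [← Set.image_pair, ← MonoidHom.map_closure, hgen, Subgroup.map_top_of_surjective _ (QuotientGroup.mk'_surjective _)]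
  have hcommπ : ∀ x y : P, π x * π y = π y * π x := by
    intro x y
    have hS : ∀ z ∈ ({π a, π b} : Set (P ⧸ Z)), ∀ w ∈ ({π a, π b} : Set (P ⧸ Z)), z * w = w * z := by
      rintro z (rfl | rfl) w (rfl | rfl)
      exacts [rfl, hab, hab.symm, rfl]
    have hm := Subgroup.isMulCommutative_closure hS
    exact congrArg Subtype.val (hm.is_comm.comm ⟨π x, by rw [hgenπ]; trivial⟩ ⟨π y, by rw [hgenπ]; trivial⟩)
  have hder : commutator P ≤ Z := by
    rw [commutator_def, Subgroup.commutator_le]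
    intro x _ y _
    rw [← QuotientGroup.eq_one_iff]
    show π ⁅x, y⁆ = 1
    rw [map_commutatorElement]
    exact commutatorElement_eq_one_iff_mul_comm.2 (hcommπ x y)
  have hcyc : ∀ x y : P, Subgroup.closure {x, y} = ⊤ → c ∈ Subgroup.zpowers x → Cfsg.IsMetacyclic P :=
    fun x y hxy hcx => metacyclic_of x y hxy (normal_of_commutator_le (hder.trans (Subgroup.zpowers_le.2 hcx)))
  by_cases hc1 : c = 1
  · exact hcyc a b hgen (by rw [hc1]; exact Subgroup.one_mem _)
  have hpow : ∀ x : P, ∃ k, orderOf (π x) = 2 ^ k := fun z => IsPGroup.exists_orderOf_eq_pow (h2.to_quotient Z) (π z)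
  -- make the images of the generators independent
  obtain ⟨x, y, hxy, hord, hind, hxy1⟩ : ∃ x y : P, Subgroup.closure {x, y} = ⊤ ∧ orderOf (π y) ≤ orderOf (π x) ∧
      (∀ s : ℕ, π y ^ s ∈ Subgroup.zpowers (π x) → π y ^ s = 1) ∧ ⁅x, y⁆ ≠ 1 := by
    obtain ⟨x, y, hxy, hord, hne⟩ : ∃ x y : P, Subgroup.closure {x, y} = ⊤ ∧ orderOf (π y) ≤ orderOf (π x) ∧ ⁅x, y⁆ ≠ 1 := by
      rcases le_total (orderOf (π b)) (orderOf (π a)) with h | h
      · exact ⟨a, b, hgen, h, hc1⟩
      · exact ⟨b, a, by rw [Set.pair_comm]; exact hgen, h, fun h' => hc1 (by rw [hc, ← commutatorElement_inv, h', inv_one])⟩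
    classical
    have hex : ∃ s : ℕ, 0 < s ∧ π y ^ s ∈ Subgroup.zpowers (π x) :=
      ⟨orderOf (π y), orderOf_pos _, by rw [pow_orderOf_eq_one]; exact Subgroup.one_mem _⟩
    set s := Nat.find hex with hs
    obtain ⟨hs0, hsm⟩ := Nat.find_spec hex
    obtain ⟨t, ht⟩ := Subgroup.mem_zpowers_iff.1 hsm
    have hdiv : ∀ i : ℕ, π y ^ i ∈ Subgroup.zpowers (π x) → s ∣ i := by
      intro i hi
      by_contra hnd
      have hlt := Nat.mod_lt i hs0
      have hmem : π y ^ (i % s) ∈ Subgroup.zpowers (π x) := by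
        have h5 : π y ^ (i % s) = π y ^ i * ((π y ^ s) ^ (i / s))⁻¹ := by
          rw [eq_mul_inv_iff_mul_eq, ← pow_mul, ← pow_add, Nat.mod_add_div]
        rw [h5]
        exact Subgroup.mul_mem _ hi (Subgroup.inv_mem _ (Subgroup.pow_mem _ hsm _))
      exact Nat.find_min hex hlt ⟨Nat.pos_of_ne_zero fun h0 => hnd (Nat.dvd_of_mod_eq_zero h0), hmem⟩
    obtain ⟨w, hw⟩ := hdiv (orderOf (π y)) (by rw [pow_orderOf_eq_one]; exact Subgroup.one_mem _)
    obtain ⟨i, hi⟩ := hpow x
    obtain ⟨j, hj⟩ := hpow y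
    have hdvd : orderOf (π y) ∣ orderOf (π x) := by
      rw [hi, hj] at hord ⊢
      exact pow_dvd_pow 2 ((Nat.pow_le_pow_iff_right one_lt_two).1 hord)
    have hst : (s : ℤ) ∣ t := by
      have h5 : (orderOf (π x) : ℤ) ∣ t * w := by
        rw [orderOf_dvd_iff_zpow_eq_one, zpow_mul, ht, zpow_natCast, ← pow_mul, ← hs, ← hw, pow_orderOf_eq_one]
      have h6 : ((s * w : ℕ) : ℤ) ∣ t * w := (Int.natCast_dvd_natCast.2 (hw ▸ hdvd)).trans h5
      rw [Nat.cast_mul] at h6
      refine (mul_dvd_mul_iff_right ?_).1 h6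
      intro h0
      rw [Nat.cast_eq_zero] at h0
      rw [h0, mul_zero] at hw
      exact (orderOf_pos (π y)).ne' hw
    obtain ⟨q, hq⟩ := hst
    refine ⟨x, y * x ^ (-q), ?_, ?_, ?_, ?_⟩
    · rw [eq_top_iff, ← hxy, Subgroup.closure_le]
      rintro z (rfl | rfl)
      · exact Subgroup.subset_closure (Or.inl rfl)
      · have := Subgroup.mul_mem _ (Subgroup.subset_closure (Or.inr rfl) : z * x ^ (-q) ∈ Subgroup.closure {x, z * x ^ (-q)})
          (Subgroup.zpow_mem _ (Subgroup.subset_closure (Or.inl rfl) : x ∈ Subgroup.closure {x, z * x ^ (-q)}) q)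
        rwa [mul_assoc, ← zpow_add, neg_add_cancel, zpow_zero, mul_one] at this
    · refine Nat.le_of_dvd (orderOf_pos _) (orderOf_dvd_of_pow_eq_one ?_)
      rw [map_mul, map_zpow, (show Commute (π y) (π x ^ (-q)) from ((show Commute (π y) (π x) from hcommπ y x).zpow_right _)).mul_pow,
        orderOf_dvd_iff_pow_eq_one.1 hdvd, one_mul, ← zpow_natCast, ← zpow_mul, mul_comm, zpow_mul, zpow_natCast,
        pow_orderOf_eq_one, one_zpow]
    · intro i hi
      have hcm : Commute (π y) (π x ^ (-q)) := (show Commute (π y) (π x) from hcommπ y x).zpow_right _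
      rw [map_mul, map_zpow, hcm.mul_pow] at hi ⊢
      have h5 : π y ^ i ∈ Subgroup.zpowers (π x) := by
        have := Subgroup.mul_mem _ hi (Subgroup.inv_mem _ (Subgroup.pow_mem _ (Subgroup.zpow_mem _ (Subgroup.mem_zpowers (π x)) (-q)) i))
        rwa [mul_inv_cancel_right] at this
      obtain ⟨l, rfl⟩ := hdiv i h5
      rw [pow_mul, ← ht, hq, ← zpow_natCast, ← zpow_natCast ((π x) ^ (-q)), ← zpow_mul, ← zpow_mul, ← zpow_add]
      convert zpow_zero (π x) using 2
      push_cast
      ring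
    · intro h
      apply hne
      rw [← h, commutatorElement_def, commutatorElement_def]
      group
  set d := ⁅x, y⁆ with hd
  have hdP : d ∈ commutator P := Subgroup.commutator_mem_commutator (Subgroup.mem_top _) (Subgroup.mem_top _)
  have hdc : d = c := by
    obtain ⟨k, hk⟩ := Subgroup.mem_zpowers_iff.1 (hder hdP)
    rcases Int.even_or_odd' k with ⟨l, rfl | rfl⟩
    · exfalso; apply hxy1
      rw [← hk, zpow_mul, zpow_two, hsq c hcP, one_zpow]
    · rw [← hk, zpow_add, zpow_mul, zpow_two, hsq c hcP, one_zpow, one_mul, zpow_one]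
  have hZmem : ∀ z, z ∈ Z → z = 1 ∨ z = c := by
    intro z hz
    obtain ⟨k, rfl⟩ := Subgroup.mem_zpowers_iff.1 hz
    rcases Int.even_or_odd' k with ⟨l, rfl | rfl⟩
    · left; rw [zpow_mul, zpow_two, hsq c hcP, one_zpow]
    · right; rw [zpow_add, zpow_mul, zpow_two, hsq c hcP, one_zpow, one_mul, zpow_one]
  obtain ⟨i, hi⟩ := hpow x
  obtain ⟨j, hj⟩ := hpow y
  have hxpow : x ^ 2 ^ i ∈ Z := by
    rw [← QuotientGroup.eq_one_iff]; show π (x ^ 2 ^ i) = 1
    rw [map_pow, ← hi, pow_orderOf_eq_one]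
  have hypow : y ^ 2 ^ j ∈ Z := by
    rw [← QuotientGroup.eq_one_iff]; show π (y ^ 2 ^ j) = 1
    rw [map_pow, ← hj, pow_orderOf_eq_one]
  rcases hZmem _ hxpow with hx1 | hxc
  swap
  · exact hcyc x y hxy (hxc ▸ Subgroup.pow_mem _ (Subgroup.mem_zpowers x) _)
  rcases hZmem _ hypow with hy1 | hyc
  swap
  · exact hcyc y x (by rw [Set.pair_comm]; exact hxy) (hyc ▸ Subgroup.pow_mem _ (Subgroup.mem_zpowers y) _)
  have hj0 : j ≠ 0 := by
    intro h0
    rw [h0, pow_zero, pow_one] at hy1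
    exact hxy1 (by rw [hd, hy1, commutatorElement_one_right])
  obtain ⟨j, rfl⟩ : ∃ m, j = m + 1 := ⟨j - 1, by omega⟩
  rw [hi, hj] at hord
  have hij := (Nat.pow_le_pow_iff_right one_lt_two).1 hord
  obtain ⟨i, rfl⟩ : ∃ m, i = m + 1 := ⟨i - 1, by omega⟩
  have hcomm_pow : ∀ k : ℕ, ⁅x ^ k, y⁆ = c ^ k := by
    intro k
    induction k with
    | zero => simp
    | succ k ih =>
      have h5 : ⁅x ^ k * x, y⁆ = x ^ k * ⁅x, y⁆ * (x ^ k)⁻¹ * ⁅x ^ k, y⁆ := by
        simp only [commutatorElement_def]; group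
      rw [pow_succ x, h5, ← hd, hdc, ih, hcen c hcP (x ^ k), mul_inv_cancel_right, ← pow_succ']
  by_cases hi0 : i = 0
  · -- `x` and `y` are involutions
    subst hi0
    obtain rfl : j = 0 := by omega
    rw [zero_add, pow_one, sq] at hx1 hy1
    refine hcyc (x * y) y ?_ ?_
    · rw [eq_top_iff, ← hxy, Subgroup.closure_le]
      rintro z (rfl | rfl)
      · have := Subgroup.mul_mem _ (Subgroup.subset_closure (Or.inl rfl) : z * y ∈ Subgroup.closure {z * y, y})
          (Subgroup.inv_mem _ (Subgroup.subset_closure (Or.inr rfl) : y ∈ Subgroup.closure {z * y, y}))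
        rwa [mul_inv_cancel_right] at this
      · exact Subgroup.subset_closure (Or.inr rfl)
    · refine ⟨2, ?_⟩
      show (x * y) ^ (2 : ℤ) = c
      rw [← hdc, hd, commutatorElement_def, inv_eq_of_mul_eq_one_right hx1, inv_eq_of_mul_eq_one_right hy1, zpow_two]
      group
  · exfalso
    set u := x ^ 2 ^ i with hu
    set v := y ^ 2 ^ j with hv
    have hu2 : u * u = 1 := by rw [hu, ← pow_add, ← two_mul, ← pow_succ', hx1]
    have hv2 : v * v = 1 := by rw [hv, ← pow_add, ← two_mul, ← pow_succ', hy1]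
    have huy : Commute u y := by
      refine commutatorElement_eq_one_iff_mul_comm.1 ?_
      obtain ⟨l, rfl⟩ : ∃ l, i = l + 1 := ⟨i - 1, by omega⟩
      rw [hu, hcomm_pow, pow_succ', pow_mul, sq, hsq c hcP, one_pow]
    have huv : Commute u v := huy.pow_right _
    have hcc : ∀ g, Commute g c := fun g => hcen c hcP g
    let f : Fin 2 × Fin 2 × Fin 2 → P := fun t => u ^ (t.1 : ℕ) * v ^ (t.2.1 : ℕ) * c ^ (t.2.2 : ℕ)
    set E := Subgroup.closure ({u, v, c} : Set P) with hE
    have hEc : IsMulCommutative E := Subgroup.isMulCommutative_closure (by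
      rintro z (rfl | rfl | rfl) w (rfl | rfl | rfl)
      exacts [rfl, huv.eq, hcc _, huv.eq.symm, rfl, hcc _, (hcc _).eq.symm, (hcc _).eq.symm, rfl])
    have hexp : ∀ z ∈ E, z ^ 2 = 1 := by
      intro z hz
      induction hz using Subgroup.closure_induction with
      | mem w hw => rcases hw with rfl | rfl | rfl; exacts [by rw [sq, hu2], by rw [sq, hv2], by rw [sq, hsq c hcP]]
      | one => rw [one_pow]
      | mul s t hs ht hs2 ht2 =>
        rw [(show Commute s t from congrArg Subtype.val (hEc.is_comm.comm ⟨s, hs⟩ ⟨t, ht⟩)).mul_pow, hs2, ht2, one_mul]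
      | inv s _ hs2 => rw [inv_pow, hs2, inv_one]
    have hfE : ∀ t, f t ∈ E := fun t => E.mul_mem (E.mul_mem
      (E.pow_mem (Subgroup.subset_closure (Or.inl rfl)) _) (E.pow_mem (Subgroup.subset_closure (Or.inr (Or.inl rfl))) _))
      (E.pow_mem (Subgroup.subset_closure (Or.inr (Or.inr rfl))) _)
    have hfinj : Function.Injective f := by
      have hπu : π u ≠ 1 := by
        rw [hu, map_pow, ne_eq, ← orderOf_dvd_iff_pow_eq_one, hi, Nat.pow_dvd_pow_iff_le_right one_lt_two]
        omega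
      have hπv : π v ≠ 1 := by
        rw [hv, map_pow, ne_eq, ← orderOf_dvd_iff_pow_eq_one, hj, Nat.pow_dvd_pow_iff_le_right one_lt_two]
        omega
      have hker : ∀ t, f t = 1 → t = (0, 0, 0) := by
        rintro ⟨p, q, l⟩ ht
        have h5 : π u ^ (p : ℕ) * π v ^ (q : ℕ) = 1 := by
          have := congrArg π ht
          rwa [map_mul, map_mul, map_pow π c, hπc, one_pow, mul_one, map_one, map_pow π u, map_pow π v] at this
        fin_cases q
        · fin_cases p
          · fin_cases l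
            · rfl
            · simp [f] at ht
              exact absurd ht hc1
          · simp at h5
            exact absurd h5 hπu
        · exfalso
          simp at h5
          apply hπv
          have h6 : π y ^ 2 ^ j ∈ Subgroup.zpowers (π x) := by
            rw [← map_pow, ← hv, eq_inv_of_mul_eq_one_right h5]
            refine Subgroup.inv_mem _ (Subgroup.pow_mem _ ?_ _)
            rw [hu, map_pow]
            exact Subgroup.pow_mem _ (Subgroup.mem_zpowers _) _
          rw [hv, map_pow]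
          exact hind _ h6
      intro s t hst
      have hadd : ∀ (g : P), g * g = 1 → ∀ p q : Fin 2, g ^ (p : ℕ) * (g ^ (q : ℕ))⁻¹ = g ^ ((p + q : Fin 2) : ℕ) := by
        intro g hg p q
        have hgi : g⁻¹ = g := inv_eq_of_mul_eq_one_right hg
        fin_cases p <;> fin_cases q <;> simp [hgi, hg]
      have h5 : f (s.1 + t.1, s.2.1 + t.2.1, s.2.2 + t.2.2) = 1 := by
        simp only [f, ← hadd u hu2, ← hadd v hv2, ← hadd c (hsq c hcP)]
        have k1 : Commute (u ^ (t.1 : ℕ))⁻¹ (v ^ (s.2.1 : ℕ)) := ((huv.pow_pow _ _).inv_left)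
        have e : u ^ (s.1 : ℕ) * (u ^ (t.1 : ℕ))⁻¹ * (v ^ (s.2.1 : ℕ) * (v ^ (t.2.1 : ℕ))⁻¹) *
            (c ^ (s.2.2 : ℕ) * (c ^ (t.2.2 : ℕ))⁻¹) = f s * (f t)⁻¹ := by
          simp only [f, mul_inv_rev]
          have k2 : ∀ z : P, Commute (c ^ (s.2.2 : ℕ)) z := fun z => ((hcc z).symm).pow_left _
          have k3 : ∀ z : P, Commute (c ^ (t.2.2 : ℕ))⁻¹ z := fun z => (((hcc z).symm).pow_left _).inv_left
          calc _ = u ^ (s.1 : ℕ) * ((u ^ (t.1 : ℕ))⁻¹ * v ^ (s.2.1 : ℕ)) * (v ^ (t.2.1 : ℕ))⁻¹ * (c ^ (s.2.2 : ℕ) * (c ^ (t.2.2 : ℕ))⁻¹) := by group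
            _ = u ^ (s.1 : ℕ) * v ^ (s.2.1 : ℕ) * ((u ^ (t.1 : ℕ))⁻¹ * (v ^ (t.2.1 : ℕ))⁻¹) * (c ^ (s.2.2 : ℕ) * (c ^ (t.2.2 : ℕ))⁻¹) := by rw [k1.eq]; group
            _ = u ^ (s.1 : ℕ) * v ^ (s.2.1 : ℕ) * ((v ^ (t.2.1 : ℕ))⁻¹ * (u ^ (t.1 : ℕ))⁻¹) * (c ^ (s.2.2 : ℕ) * (c ^ (t.2.2 : ℕ))⁻¹) := by rw [((huv.pow_pow _ _).inv_inv).eq]
            _ = u ^ (s.1 : ℕ) * v ^ (s.2.1 : ℕ) * ((c ^ (s.2.2 : ℕ) * (c ^ (t.2.2 : ℕ))⁻¹) * ((v ^ (t.2.1 : ℕ))⁻¹ * (u ^ (t.1 : ℕ))⁻¹)) := by
                rw [((k2 _).mul_left (k3 _)).eq]; group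
            _ = _ := by group
        rw [e, hst, mul_inv_cancel]
      have h6 := hker _ h5
      simp only [Prod.mk.injEq] at h6
      have hz : ∀ p q : Fin 2, p + q = 0 → p = q := by decide
      exact Prod.ext (hz _ _ h6.1) (Prod.ext (hz _ _ h6.2.1) (hz _ _ h6.2.2))
    have hrank := pRankLE_of_injective
      ((QuotientGroup.quotientBot.trans Subgroup.topEquiv : (⊤ : Subgroup P) ⧸ (⊥ : Subgroup (⊤ : Subgroup P)) ≃* P).symm.toMonoidHom)
      (MulEquiv.injective _) (hr ⊤ ⊥) E hEc hexp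
    have hcard := Nat.card_le_card_of_injective (fun t => (⟨f t, hfE t⟩ : E)) fun s t h => hfinj (congrArg Subtype.val h)
    simp at hcard
    omega

private theorem main : ∀ (n : ℕ) (P : Type u) [Group P] [Finite P], Nat.card P ≤ n → IsPGroup 2 P →
    Cfsg.SectionalPRankLE 2 2 P → Cfsg.IsMetacyclic P := by
  intro n
  induction n with
  | zero => intro P _ _ h; exact absurd (Nat.card_pos (α := P)) (by omega)
  | succ n ih =>
    intro P _ _ hn h2 hr
    haveI : Group.IsNilpotent P := IsPGroup.isNilpotent h2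
    obtain ⟨a, b, hgen⟩ := exists_two_gens h2 hr
    set R := Subgroup.closure {z : P | ∃ x ∈ commutator P, z = x * x ∨ ∃ g : P, z = ⁅g, x⁆} with hR
    by_cases hR1 : R = ⊥
    · refine small_case hr h2 a b hgen (fun x hx g => ?_) fun x hx => ?_
      · refine commutatorElement_eq_one_iff_mul_comm.1 (Subgroup.mem_bot.1 ?_)
        rw [← hR1]; exact Subgroup.subset_closure ⟨x, hx, Or.inr ⟨g, rfl⟩⟩
      · rw [← Subgroup.mem_bot, ← hR1]; exact Subgroup.subset_closure ⟨x, hx, Or.inl rfl⟩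
    -- a central involution inside `R`
    haveI hRn : R.Normal := by
      refine ⟨fun z hz g => ?_⟩
      induction hz using Subgroup.closure_induction with
      | mem z hz =>
        obtain ⟨x, hx, hz⟩ := hz
        have hx' : g * x * g⁻¹ ∈ commutator P := (inferInstance : (commutator P).Normal).conj_mem x hx g
        refine Subgroup.subset_closure ⟨g * x * g⁻¹, hx', ?_⟩
        rcases hz with rfl | ⟨k, rfl⟩
        · exact Or.inl (by group)
        · exact Or.inr ⟨g * k * g⁻¹, by simp only [commutatorElement_def]; group⟩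
      | one => rw [mul_one, mul_inv_cancel]; exact R.one_mem
      | mul s t _ _ hs ht =>
        rw [show g * (s * t) * g⁻¹ = (g * s * g⁻¹) * (g * t * g⁻¹) by group]; exact R.mul_mem hs ht
      | inv s _ hs =>
        rw [show g * s⁻¹ * g⁻¹ = (g * s * g⁻¹)⁻¹ by group]; exact R.inv_mem hs
    obtain ⟨m, hm, hmR, hm2⟩ : ∃ m ∈ Subgroup.center P, m ∈ R ∧ orderOf m = 2 := by
      have hne := inf_center_ne_bot h2 hR1
      obtain ⟨z, hz, hz1⟩ := (Subgroup.bot_or_exists_ne_one _).resolve_left hne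
      obtain ⟨k, hk⟩ := IsPGroup.exists_orderOf_eq_pow h2 z
      rcases k with _ | k
      · exact absurd (orderOf_eq_one_iff.1 (hk.trans (pow_zero 2))) hz1
      · refine ⟨z ^ 2 ^ k, Subgroup.pow_mem _ hz.2 _, Subgroup.pow_mem _ hz.1 _, ?_⟩
        rw [orderOf_pow' _ (by positivity), hk, Nat.gcd_eq_right (pow_dvd_pow 2 (Nat.le_succ k)), Nat.pow_div (Nat.le_succ k) two_pos,
          show k.succ - k = 1 by omega, pow_one]
    set N := Subgroup.zpowers m with hN
    haveI hNn : N.Normal := ⟨fun z hz g => by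
      obtain ⟨k, rfl⟩ := Subgroup.mem_zpowers_iff.1 hz
      rw [((show Commute g m from Subgroup.mem_center_iff.1 hm g).zpow_right k).eq, mul_inv_cancel_right]
      exact Subgroup.zpow_mem _ (Subgroup.mem_zpowers m) k⟩
    have hlt : Nat.card (P ⧸ N) ≤ n := by
      have h5 := Subgroup.card_mul_index N
      rw [hN, Nat.card_zpowers, hm2, ← hN, Subgroup.index_eq_card] at h5
      omega
    obtain ⟨L, hLn, hLc, hLq⟩ := ih (P ⧸ N) hlt (h2.to_quotient N) (sectional_quotient hr N)
    haveI := hLn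
    obtain ⟨A, hA⟩ := hLc.exists_generator
    obtain ⟨x, hx⟩ := QuotientGroup.mk'_surjective N (A : P ⧸ N)
    obtain ⟨B, hB⟩ := hLq.exists_generator
    obtain ⟨Y, rfl⟩ := QuotientGroup.mk'_surjective L B
    obtain ⟨y, rfl⟩ := QuotientGroup.mk'_surjective N Y
    -- every element is `x ^ k * m ^ e * y ^ l`
    have hLmem : ∀ z, (QuotientGroup.mk z : P ⧸ N) ∈ L → ∃ k e : ℤ, z = x ^ k * m ^ e := by
      intro z hz
      obtain ⟨k, hk⟩ := hA ⟨_, hz⟩
      have hk' : (QuotientGroup.mk (x ^ k) : P ⧸ N) = QuotientGroup.mk z := by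
        have h5 := congrArg (fun w : L => (w : P ⧸ N)) hk
        simp only [SubgroupClass.coe_zpow] at h5
        rw [← h5, ← hx]; rfl
      obtain ⟨e, he⟩ := Subgroup.mem_zpowers_iff.1 (QuotientGroup.eq.1 hk')
      exact ⟨k, e, by rw [he, mul_inv_cancel_left]⟩
    have hgen' : ∀ z, ∃ k e l : ℤ, z = x ^ k * m ^ e * y ^ l := by
      intro z
      obtain ⟨l, hl⟩ := hB (QuotientGroup.mk (QuotientGroup.mk z : P ⧸ N))
      have hz : (QuotientGroup.mk (z * (y ^ l)⁻¹) : P ⧸ N) ∈ L := by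
        have h5 : (QuotientGroup.mk' L) (QuotientGroup.mk' N (z * (y ^ l)⁻¹)) = 1 := by
          rw [map_mul, map_inv, map_zpow, map_mul, map_inv, map_zpow, mul_inv_eq_one]
          exact hl.symm
        exact (QuotientGroup.eq_one_iff _).1 h5
      obtain ⟨k, e, hke⟩ := hLmem _ hz
      exact ⟨k, e, l, by rw [← hke, inv_mul_cancel_right]⟩
    have hcm : ∀ g, Commute g m := fun g => Subgroup.mem_center_iff.1 hm g
    have hconjx : ∃ k e : ℤ, y * x * y⁻¹ = x ^ k * m ^ e := hLmem _ (by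
      have hxL : (QuotientGroup.mk x : P ⧸ N) ∈ L := by
        rw [show (QuotientGroup.mk x : P ⧸ N) = (A : P ⧸ N) from hx]; exact A.2
      simpa using hLn.conj_mem _ hxL (QuotientGroup.mk y))
    by_cases hmx : m ∈ Subgroup.zpowers x
    · obtain ⟨e₀, he₀⟩ := Subgroup.mem_zpowers_iff.1 hmx
      have hgen2 : Subgroup.closure ({x, y} : Set P) = ⊤ := by
        rw [eq_top_iff]
        intro z _
        obtain ⟨k, e, l, rfl⟩ := hgen' z
        have hxm : x ∈ Subgroup.closure ({x, y} : Set P) := Subgroup.subset_closure (Or.inl rfl)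
        have hym : y ∈ Subgroup.closure ({x, y} : Set P) := Subgroup.subset_closure (Or.inr rfl)
        refine Subgroup.mul_mem _ (Subgroup.mul_mem _ (Subgroup.zpow_mem _ hxm _) ?_) (Subgroup.zpow_mem _ hym _)
        rw [← he₀]
        exact Subgroup.zpow_mem _ (Subgroup.zpow_mem _ hxm _) _
      refine metacyclic_of x y hgen2 ⟨fun z hz g => ?_⟩
      have hzL : (QuotientGroup.mk (g * z * g⁻¹) : P ⧸ N) ∈ L := by
        obtain ⟨k, rfl⟩ := Subgroup.mem_zpowers_iff.1 hz
        have hxL : (QuotientGroup.mk (x ^ k) : P ⧸ N) ∈ L := by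
          rw [show (QuotientGroup.mk (x ^ k) : P ⧸ N) = (A : P ⧸ N) ^ k from by rw [← hx]; rfl]
          exact L.zpow_mem A.2 k
        exact hLn.conj_mem _ hxL (QuotientGroup.mk g)
      obtain ⟨k, e, hke⟩ := hLmem _ hzL
      rw [hke, ← he₀, ← zpow_mul, ← zpow_add]
      exact Subgroup.zpow_mem _ (Subgroup.mem_zpowers x) _
    exfalso
    apply hmx
    set d := y * x * y⁻¹ * x⁻¹ with hd
    obtain ⟨k₀, e₀, hke⟩ := hconjx
    have hd' : d = x ^ (k₀ - 1) * m ^ e₀ := by
      rw [hd, hke, zpow_sub_one, mul_assoc, mul_assoc, ((hcm x⁻¹).zpow_right e₀).eq]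
    have hxd : Commute x d := by rw [hd']; exact ((Commute.refl x).zpow_right _).mul_right ((hcm x).zpow_right _)
    have hyd : y * d * y⁻¹ = d ^ k₀ := by
      have e1 : y * x ^ (k₀ - 1) * y⁻¹ = (x ^ k₀ * m ^ e₀) ^ (k₀ - 1) := by rw [← hke, conj_zpow]
      have e2 : y * m ^ e₀ * y⁻¹ = m ^ e₀ := by rw [((hcm y).zpow_right e₀).eq, mul_inv_cancel_right]
      rw [hd', show y * (x ^ (k₀ - 1) * m ^ e₀) * y⁻¹ = (y * x ^ (k₀ - 1) * y⁻¹) * (y * m ^ e₀ * y⁻¹) by group,
        e1, e2, (((hcm x).zpow_right e₀).zpow_left k₀).mul_zpow, (((hcm x).zpow_right e₀).zpow_left (k₀ - 1)).mul_zpow,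
        mul_assoc, ← zpow_add_one (m ^ e₀), sub_add_cancel, ← zpow_mul, ← zpow_mul, mul_comm k₀, zpow_mul x]
    set D := Subgroup.zpowers d with hD
    set D₂ := Subgroup.zpowers (d * d) with hD₂
    have hnorm : ∀ s : P, Commute x s → (∃ k : ℤ, y * s * y⁻¹ = s ^ k) → (Subgroup.zpowers s).Normal := by
      intro s hxs hys
      obtain ⟨k, hk⟩ := hys
      have hle : Subgroup.zpowers y ≤ Subgroup.normalizer (Subgroup.zpowers s : Set P) := by
        refine Subgroup.zpowers_le.2 ?_
        have hmap : (Subgroup.zpowers s).map (MulAut.conj y).toMonoidHom = Subgroup.zpowers s := by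
          refine Subgroup.eq_of_le_of_card_ge ?_ (Subgroup.card_map_of_injective (MulAut.conj y).injective).ge
          rw [MonoidHom.map_zpowers, Subgroup.zpowers_le]
          exact ⟨k, hk.symm⟩
        refine Subgroup.mem_normalizer_iff.2 fun z => ⟨fun hz => hmap.le ⟨z, hz, rfl⟩, fun hz => ?_⟩
        obtain ⟨w, hw, hwz⟩ := hmap.ge hz
        have : w = z := by simpa using hwz
        exact this ▸ hw
      have hxn : x ∈ Subgroup.normalizer (Subgroup.zpowers s : Set P) :=
        Subgroup.centralizer_le_normalizer _ (Subgroup.mem_centralizer_iff.2 fun w hw => by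
          obtain ⟨l, rfl⟩ := Subgroup.mem_zpowers_iff.1 hw
          exact (hxs.zpow_right l).eq.symm)
      have hmn : m ∈ Subgroup.normalizer (Subgroup.zpowers s : Set P) :=
        Subgroup.centralizer_le_normalizer _ (Subgroup.mem_centralizer_iff.2 fun w _ => (hcm w).eq)
      rw [← Subgroup.normalizer_eq_top_iff, eq_top_iff]
      intro z _
      obtain ⟨k, e, l, rfl⟩ := hgen' z
      exact Subgroup.mul_mem _ (Subgroup.mul_mem _ (Subgroup.zpow_mem _ hxn _) (Subgroup.zpow_mem _ hmn _))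
        (hle (Subgroup.zpow_mem _ (Subgroup.mem_zpowers y) _))
    haveI hDn : D.Normal := hnorm d hxd ⟨k₀, hyd⟩
    haveI hD₂n : D₂.Normal := hnorm (d * d) (hxd.mul_right hxd) ⟨k₀, by
      rw [(Commute.refl d).mul_zpow, ← hyd]; group⟩
    have hcentral : ∀ {T : Subgroup P} [T.Normal] (s : P), Commute x s → y * s * y⁻¹ * s⁻¹ ∈ T →
        ∀ g, Commute (QuotientGroup.mk' T g) (QuotientGroup.mk' T s) := by
      intro T _ s hxs hys g
      obtain ⟨k, e, l, rfl⟩ := hgen' g
      have c1 : Commute (QuotientGroup.mk' T x) (QuotientGroup.mk' T s) := hxs.map _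
      have c2 : Commute (QuotientGroup.mk' T y) (QuotientGroup.mk' T s) := by
        have h5 : QuotientGroup.mk' T (y * s * y⁻¹ * s⁻¹) = 1 := (QuotientGroup.eq_one_iff _).2 hys
        rw [map_mul, map_mul, map_mul, map_inv, map_inv, mul_inv_eq_one, mul_inv_eq_iff_eq_mul] at h5
        exact h5
      rw [map_mul, map_mul, map_zpow, map_zpow, map_zpow]
      exact ((c1.zpow_left k).mul_left (((hcm s).symm.map (QuotientGroup.mk' T)).zpow_left e)).mul_left (c2.zpow_left l)
    have hder : commutator P ≤ D := by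
      have hxc := hcentral (T := D) x (Commute.refl x) (Subgroup.mem_zpowers d)
      rw [commutator_def, Subgroup.commutator_le]
      intro s _ t _
      rw [← QuotientGroup.eq_one_iff]
      show QuotientGroup.mk' D ⁅s, t⁆ = 1
      rw [map_commutatorElement, commutatorElement_eq_one_iff_mul_comm]
      obtain ⟨k, e, l, rfl⟩ := hgen' s
      obtain ⟨k', e', l', rfl⟩ := hgen' t
      have cm : ∀ g, Commute (QuotientGroup.mk' D g) (QuotientGroup.mk' D m) := fun g => (hcm g).map _
      simp only [map_mul, map_zpow]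
      refine Commute.eq ?_
      refine ((Commute.mul_right (Commute.mul_right ?_ ?_) ?_).mul_left (Commute.mul_right (Commute.mul_right ?_ ?_) ?_)).mul_left
        (Commute.mul_right (Commute.mul_right ?_ ?_) ?_)
      all_goals apply Commute.zpow_zpow
      exacts [Commute.refl _, cm x, (hxc y).symm, (cm x).symm, Commute.refl _, (cm y).symm, hxc y, cm y, Commute.refl _]
    -- the exponent `k₀` is odd
    have hRD : R ≤ D₂ := by
      have hd2 : y * d * y⁻¹ * d⁻¹ ∈ D₂ := by
        by_cases hd1 : d = 1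
        · rw [hd1]; simp
        rw [hyd, ← zpow_sub_one]
        rcases Int.even_or_odd' k₀ with ⟨l, hl | hl⟩
        · exfalso
          obtain ⟨r, hr'⟩ := IsPGroup.exists_orderOf_eq_pow h2 d
          rcases r with _ | r
          · exact hd1 (orderOf_eq_one_iff.1 (by rw [hr', pow_zero]))
          have h5 : orderOf (d ^ k₀) = orderOf d := by
            rw [← hyd]; exact orderOf_injective (MulAut.conj y).toMonoidHom (MulAut.conj y).injective d
          have h6 : (d ^ k₀) ^ (2 ^ r : ℕ) = 1 := by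
            rw [← zpow_natCast, ← zpow_mul, hl, mul_right_comm, show (2 : ℤ) * ((2 ^ r : ℕ) : ℤ) = ((orderOf d : ℕ) : ℤ) by
              rw [hr', pow_succ]; push_cast; ring, zpow_mul, zpow_natCast, pow_orderOf_eq_one, one_zpow]
          have h7 := Nat.le_of_dvd (by positivity) (h5 ▸ orderOf_dvd_of_pow_eq_one h6)
          rw [hr', pow_succ] at h7
          have : 0 < 2 ^ r := by positivity
          omega
        · refine ⟨l, ?_⟩
          show (d * d) ^ l = d ^ (k₀ - 1)
          rw [← zpow_two, ← zpow_mul, hl, add_sub_cancel_right]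
      rw [hR, Subgroup.closure_le]
      rintro z ⟨s, hs, hz⟩
      obtain ⟨l, rfl⟩ := Subgroup.mem_zpowers_iff.1 (hder hs)
      rcases hz with rfl | ⟨g, rfl⟩
      · refine ⟨l, ?_⟩
        show (d * d) ^ l = d ^ l * d ^ l
        exact (Commute.refl d).mul_zpow l
      · rw [SetLike.mem_coe, ← QuotientGroup.eq_one_iff]
        show QuotientGroup.mk' D₂ ⁅g, d ^ l⁆ = 1
        rw [map_commutatorElement, map_zpow, commutatorElement_eq_one_iff_mul_comm]
        exact ((hcentral (T := D₂) d hxd hd2 g).zpow_right l).eq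
    obtain ⟨l, hl⟩ := Subgroup.mem_zpowers_iff.1 (hRD hmR)
    refine ⟨((k₀ - 1) + (k₀ - 1)) * l, ?_⟩
    show x ^ (((k₀ - 1) + (k₀ - 1)) * l) = m
    have hmm : m ^ e₀ * m ^ e₀ = 1 := by
      rw [← (Commute.refl m).mul_zpow, ← sq, ← hm2, pow_orderOf_eq_one, one_zpow]
    have hdd : d * d = x ^ ((k₀ - 1) + (k₀ - 1)) := by
      rw [hd', (((hcm x).zpow_right e₀).zpow_left (k₀ - 1)).symm.mul_mul_mul_comm, hmm, mul_one, ← zpow_add]
    rw [zpow_mul, ← hdd, hl]

theorem result {S : Type*} [Group S] [Finite S] (h2 : IsPGroup 2 S) (hr : Cfsg.SectionalPRankLE 2 2 S) : Cfsg.IsMetacyclic S :=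
  main _ S le_rfl h2 hr

end Cfsg.Agent.S4397
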