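import Cfsg.Statements.S4399
import Cfsg.Agent.Lib.PLocal.MaxClass
import Cfsg.Agent.Lib.TwoGroups.Lifts

set_option autoImplicit false
open Cfsg

namespace Cfsg.Agent.S4399


/-- Let S be a finite 2-group whose commutator quotient S/[S,S] is a Klein four-group (order 4 and exponent 2). Then S itself has order 4, or S is dihedral of order at least 8, semidihedral of order at least 16 (order 2^(k+4) with an element a of order 2^(k+3) and an involution b with b a b⁻¹ = a^(2^(k+2)−1)), or generalized quaternion of order at least 8. -/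
theorem result {S : Type*} [Group S] [Finite S] (h2 : IsPGroup 2 S) (hab : Nat.card (Abelianization S) = 4)
    (hexp : ∀ x : Abelianization S, x ^ 2 = 1) :
    Nat.card S = 4 ∨
    ((∃ k : ℕ, Nonempty (S ≃* DihedralGroup (2 ^ (k + 2)))) ∨
      (∃ k : ℕ, Nat.card S = 2 ^ (k + 4) ∧ ∃ a b : S, orderOf a = 2 ^ (k + 3) ∧ orderOf b = 2 ∧ b * a * b⁻¹ = a ^ (2 ^ (k + 2) - 1)) ∨
      (∃ k : ℕ, Nonempty (S ≃* QuaternionGroup (2 ^ (k + 1))))) := by
  classical
  haveI : Fact (Nat.Prime 2) := ⟨Nat.prime_two⟩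
  obtain ⟨n, hn⟩ := h2.exists_card_eq
  have hci : (commutator S).index = 4 := by rw [Subgroup.index_eq_card]; exact hab
  have hn2 : 2 ≤ n := by
    have h := Subgroup.index_dvd_card (commutator S)
    rw [hci, hn, show (4 : ℕ) = 2 ^ 2 from rfl, Nat.pow_dvd_pow_iff_le_right (by norm_num)] at h
    exact h
  rcases (by omega : n = 2 ∨ 3 ≤ n) with rfl | h3
  · exact Or.inl hn
  obtain ⟨m, rfl⟩ : ∃ m, n = m + 3 := ⟨n - 3, by omega⟩
  right
  obtain ⟨a, ha⟩ := MaxClass.exists_cyclic_index_two _ S hn (by omega) hci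
  have hCa : ∀ x ∈ Subgroup.zpowers a, ∀ y ∈ Subgroup.zpowers a, x * y = y * x := by
    rintro _ ⟨i, rfl⟩ _ ⟨j, rfl⟩
    exact ((Commute.refl a).zpow_zpow i j).eq
  obtain ⟨b, hb⟩ : ∃ b, b ∉ Subgroup.zpowers a := by
    by_contra h
    push Not at h
    rw [(Subgroup.eq_top_iff' _).2 h, Subgroup.index_top] at ha
    omega
  obtain ⟨hZ2, -, hZC, -, hbb, hinv⟩ := MaxClass.abelian_index_two hn (by omega) hci _ ha hCa hb
  have hord : orderOf a = 2 ^ (m + 2) := by
    have h := (Subgroup.zpowers a).card_mul_index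
    rw [ha, hn, Nat.card_zpowers, pow_succ 2 (m + 2)] at h
    exact Nat.eq_of_mul_eq_mul_right two_pos h
  set z := a ^ 2 ^ (m + 1) with hz
  have hzz : z * z = 1 := by
    rw [hz, ← pow_add, ← two_mul, ← pow_succ', ← hord, pow_orderOf_eq_one]
  have hzz' : z⁻¹ = z := inv_eq_of_mul_eq_one_right hzz
  have hz1 : z ≠ 1 := pow_ne_one_of_lt_orderOf (by positivity) (hord ▸ Nat.pow_lt_pow_right (by norm_num) (by omega))
  have hZ : ∀ x ∈ Subgroup.center S, x = 1 ∨ x = z := by
    intro x hx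
    obtain ⟨j, rfl⟩ := hZC hx
    simp only at hx ⊢
    have h1 : (⟨a ^ j, hx⟩ : Subgroup.center S) ^ Nat.card (Subgroup.center S) = 1 := pow_card_eq_one'
    rw [hZ2] at h1
    have h2' : a ^ (j * 2) = 1 := by
      rw [zpow_mul, zpow_two]; rw [pow_two] at h1; exact congrArg Subtype.val h1
    rw [← orderOf_dvd_iff_zpow_eq_one, hord, pow_succ, Nat.cast_mul] at h2'
    obtain ⟨r, hr⟩ := (mul_dvd_mul_iff_right (two_ne_zero : (2 : ℤ) ≠ 0)).1 h2'
    have : a ^ j = z ^ r := by rw [hr, zpow_mul, zpow_natCast]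
    rcases Int.even_or_odd r with ⟨s, rfl⟩ | ⟨s, rfl⟩
    · left; rw [this, ← two_mul, zpow_mul, zpow_two, hzz, one_zpow]
    · right; rw [this, zpow_add, zpow_mul, zpow_two, hzz, one_zpow, zpow_one, one_mul]
  have hclo : ∀ y, y ∉ Subgroup.zpowers a → (⊤ : Subgroup S) = Subgroup.closure ({a, y} : Set S) := by
    intro y hy
    refine (eq_top_iff.2 fun x _ => ?_).symm
    have haC : Subgroup.zpowers a ≤ Subgroup.closure ({a, y} : Set S) :=
      Subgroup.zpowers_le.2 (Subgroup.subset_closure (by simp))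
    by_cases hx : x ∈ Subgroup.zpowers a
    · exact haC hx
    · have : x * y⁻¹ ∈ Subgroup.zpowers a := by rw [Subgroup.mul_mem_iff_of_index_two ha]; simp [hx, hy]
      rw [show x = x * y⁻¹ * y by group]
      exact mul_mem (haC this) (Subgroup.subset_closure (by simp))
  have hza : z * a = a * z := (Commute.pow_self a _).eq
  have hbab : b * a * b⁻¹ = a⁻¹ ∨ b * a * b⁻¹ = a⁻¹ * z := by
    rcases hZ _ (hinv a (Subgroup.mem_zpowers a)) with h | h
    · exact Or.inl (eq_inv_of_mul_eq_one_right h)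
    · exact Or.inr (eq_inv_mul_of_mul_eq h)
  have semi : ∀ y, y ∉ Subgroup.zpowers a → y * y = 1 → y * a * y⁻¹ = a⁻¹ * z →
      ∃ k : ℕ, Nat.card S = 2 ^ (k + 4) ∧ ∃ a b : S, orderOf a = 2 ^ (k + 3) ∧ orderOf b = 2 ∧
        b * a * b⁻¹ = a ^ (2 ^ (k + 2) - 1) := by
    intro y hy hyy hya
    have hy1 : y ≠ 1 := fun h => hy (h ▸ one_mem _)
    cases m with
    | zero =>
      exfalso
      have h1 : y * a * y⁻¹ = a := by
        rw [hya, hz]; group
      have hcomm : ∀ u ∈ ({a, y} : Set S), ∀ v ∈ ({a, y} : Set S), u * v = v * u := by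
        have h' : y * a = a * y := mul_inv_eq_iff_eq_mul.1 h1
        rintro u (rfl | rfl) v (rfl | rfl) <;> first | rfl | exact h' | exact h'.symm
      have hmc := Subgroup.isMulCommutative_closure hcomm
      rw [← hclo y hy] at hmc
      have hbot : commutator S = ⊥ := by
        rw [commutator_def]
        exact Subgroup.commutator_eq_bot_iff_le_centralizer.2 fun u _ => Subgroup.mem_centralizer_iff.2 fun v _ =>
          congrArg Subtype.val (hmc.is_comm.comm (⟨v, trivial⟩ : (⊤ : Subgroup S)) ⟨u, trivial⟩)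
      rw [hbot, Subgroup.index_bot, hn] at hci
      omega
    | succ k =>
      refine ⟨k, hn, a, y, hord, orderOf_eq_prime (by rw [pow_two]; exact hyy) hy1, ?_⟩
      have h1 : a * a ^ (2 ^ (k + 2) - 1) = z := by
        rw [← pow_succ', Nat.sub_add_cancel Nat.one_le_two_pow]
      rw [hya, ← h1, inv_mul_cancel_left]
  rcases hZ _ hbb with hbq | hbq <;> rcases hbab with hba | hba
  · obtain ⟨e⟩ := TwoLift.dihedral_equiv hord hbq hba hb (hclo b hb)
    exact Or.inl ⟨m, ⟨Subgroup.topEquiv.symm.trans e⟩⟩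
  · exact Or.inr (Or.inl (semi b hb hbq hba))
  · obtain ⟨e⟩ := TwoLift.quaternion_equiv (k := 2 ^ (m + 1)) (by rw [hord, ← pow_succ']) hbq hba hb (hclo b hb)
    exact Or.inr (Or.inr ⟨m, ⟨Subgroup.topEquiv.symm.trans e⟩⟩)
  · refine Or.inr (Or.inl (semi (a * b) ?_ ?_ ?_))
    · rw [Subgroup.mul_mem_cancel_left _ (Subgroup.mem_zpowers a)]; exact hb
    · calc a * b * (a * b) = a * (b * a * b⁻¹) * (b * b) := by group
        _ = 1 := by rw [hba, hbq, mul_inv_cancel_left, hzz]
    · calc a * b * a * (a * b)⁻¹ = a * (b * a * b⁻¹) * a⁻¹ := by group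
        _ = a⁻¹ * z := by
          rw [hba, mul_inv_cancel_left]
          exact ((show Commute z a from hza).inv_right).eq.trans rfl

end Cfsg.Agent.S4399
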