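import Cfsg.Statements.S4398
import Cfsg.Agent.Lib.PLocal.MaxClass
import Cfsg.Agent.S4399

set_option autoImplicit false
open Cfsg

namespace Cfsg.Agent.S4398

universe u

open scoped commutatorElement

theorem prank_section {G : Type*} [Group G] (hr : Cfsg.SectionalPRankLE 2 2 G) {K : Type*} [Group K] (f : K →* G)
    (hf : Function.Injective f) (N : Subgroup K) [N.Normal] : Cfsg.PRankLE 2 2 (K ⧸ N) := by
  let e := MonoidHom.ofInjective hf
  haveI : (N.map e.toMonoidHom).Normal := Subgroup.Normal.map inferInstance e.toMonoidHom e.surjective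
  let E := QuotientGroup.congr N (N.map e.toMonoidHom) e rfl
  intro A hA hA2
  rw [← Subgroup.card_map_of_injective (f := E.toMonoidHom) E.injective]
  refine hr f.range (N.map e.toMonoidHom) (A.map E.toMonoidHom) ⟨⟨?_⟩⟩ ?_
  · rintro ⟨_, x, hx, rfl⟩ ⟨_, y, hy, rfl⟩
    refine Subtype.ext ?_
    show E x * E y = E y * E x
    rw [← map_mul, ← map_mul]
    exact congrArg E (congrArg Subtype.val (hA.is_comm.comm (⟨x, hx⟩ : A) ⟨y, hy⟩))
  · rintro _ ⟨x, hx, rfl⟩
    rw [← map_pow, hA2 x hx, map_one]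

theorem no_order_eight {Q : Type*} [Group Q] [Finite Q] (hr : Cfsg.PRankLE 2 2 Q) (h8 : Nat.card Q = 8)
    (hc : ∀ x y : Q, x * y = y * x) (h2 : ∀ x : Q, x ^ 2 = 1) : False := by
  have := hr ⊤ ⟨⟨fun x y => Subtype.ext (hc x y)⟩⟩ fun a _ => h2 a
  rw [Subgroup.card_top, h8] at this
  omega

/-- An odd number is not a square root of a number congruent to `-1` modulo four. -/
theorem odd_sq {u t : ℤ} (hu : Odd u) (ht : (4 : ℤ) ∣ t + 1) (h : (4 : ℤ) ∣ u * u - t) : False := by
  obtain ⟨w, rfl⟩ := hu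
  obtain ⟨q, hq⟩ := h
  obtain ⟨r, hr⟩ := ht
  have : (4 : ℤ) * (q + r - w * w - w) = 2 := by linear_combination -hq - hr
  omega

/-- The step: a maximal subgroup with commutator of index four. -/
theorem step {S : Type u} [Group S] [Finite S] {n : ℕ} (hn : Nat.card S = 2 ^ (n + 1)) (h3 : 3 ≤ n)
    (hr : Cfsg.SectionalPRankLE 2 2 S) (M : Subgroup S) (hM : M.index = 2)
    (hMc : (commutator M).index = 4) : (commutator S).index = 4 := by
  classical
  haveI : Fact (Nat.Prime 2) := ⟨Nat.prime_two⟩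
  haveI : M.Normal := Subgroup.normal_of_index_eq_two hM
  have hMn : Nat.card M = 2 ^ n := by
    have h := M.card_mul_index
    rw [hM, hn, pow_succ] at h
    exact Nat.eq_of_mul_eq_mul_right two_pos h
  have hN : (commutator M).map M.subtype = ⁅M, M⁆ := by
    rw [commutator_def, Subgroup.map_commutator, ← MonoidHom.range_eq_map, Subgroup.range_subtype]
  set N := ⁅M, M⁆ with hNdef
  haveI : N.Normal := by rw [hNdef]; infer_instance
  have hNi : N.index = 8 := by
    rw [← hN, Subgroup.index_map_subtype, hMc, hM]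
  have hS2 : IsPGroup 2 S := IsPGroup.of_card hn
  have hNle : N ≤ commutator S := by
    rw [commutator_def]; exact Subgroup.commutator_mono le_top le_top
  let f := QuotientGroup.mk' N
  have hfs : Function.Surjective f := QuotientGroup.mk'_surjective N
  by_cases hab : commutator (S ⧸ N) = ⊥
  swap
  · have hidx : (commutator (S ⧸ N)).index = (commutator S).index := by
      rw [commutator_def, ← Subgroup.map_top_of_surjective f hfs, ← Subgroup.map_commutator, ← commutator_def,
        Subgroup.index_map_eq _ hfs (by rw [QuotientGroup.ker_mk']; exact hNle)]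
    have h4 := MaxClass.sq_le_index_commutator (p := 2) (hS2.to_quotient N) hab
    have h8 : Nat.card (S ⧸ N) = 8 := by rw [← Subgroup.index_eq_card, hNi]
    have hne : (commutator (S ⧸ N)).index ≠ 8 := fun h => hab <| Subgroup.eq_bot_of_card_eq _ (by
      have h' := (commutator (S ⧸ N)).card_mul_index
      rw [h, h8] at h'
      omega)
    have hd : (commutator (S ⧸ N)).index ∣ 8 := h8 ▸ Subgroup.index_dvd_card _
    have hle := Nat.le_of_dvd (by norm_num) hd
    rw [← hidx]
    generalize (commutator (S ⧸ N)).index = r at *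
    interval_cases r <;> omega
  exfalso
  have hcomm : ∀ x y : S, ⁅x, y⁆ ∈ N := by
    intro x y
    rw [← QuotientGroup.eq_one_iff (N := N)]
    show f ⁅x, y⁆ = 1
    rw [map_commutatorElement, ← Subgroup.mem_bot, ← hab]
    exact Subgroup.commutator_mem_commutator trivial trivial
  have hne : commutator M ≠ ⊥ := fun h => by
    rw [h, Subgroup.index_bot, hMn] at hMc
    have : 2 ^ 3 ≤ 2 ^ n := Nat.pow_le_pow_right two_pos h3
    omega
  have hsq : ∀ x ∈ M, x * x ∈ N := by
    intro x hx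
    have h := MaxClass.pow_eq_one_of_index_sq (p := 2) (IsPGroup.of_card hMn) hne hMc
      (QuotientGroup.mk (⟨x, hx⟩ : M))
    rw [← QuotientGroup.mk_pow, QuotientGroup.eq_one_iff, pow_two] at h
    exact hN ▸ ⟨_, h, rfl⟩
  obtain ⟨s, hs, hsN⟩ : ∃ s, s ∉ M ∧ s * s ∉ N := by
    by_contra! hall
    refine no_order_eight (prank_section hr (MonoidHom.id S) Function.injective_id N)
      (by rw [← Subgroup.index_eq_card, hNi]) ?_ ?_
    · intro x y
      obtain ⟨x, rfl⟩ := hfs x
      obtain ⟨y, rfl⟩ := hfs y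
      rw [← commutatorElement_eq_one_iff_mul_comm, ← map_commutatorElement]
      exact (QuotientGroup.eq_one_iff _).2 (hcomm x y)
    · intro x
      obtain ⟨x, rfl⟩ := hfs x
      rw [← map_pow, pow_two]
      refine (QuotientGroup.eq_one_iff _).2 ?_
      by_cases hx : x ∈ M
      · exact hsq x hx
      · exact hall x hx
  obtain ⟨m, rfl⟩ : ∃ m, n = m + 3 := ⟨n - 3, by omega⟩
  obtain ⟨a, ha⟩ := MaxClass.exists_cyclic_index_two _ M hMn h3 hMc
  have hCa : ∀ x ∈ Subgroup.zpowers a, ∀ y ∈ Subgroup.zpowers a, x * y = y * x := by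
    rintro _ ⟨i, rfl⟩ _ ⟨j, rfl⟩
    exact ((Commute.refl a).zpow_zpow i j).eq
  obtain ⟨b, hb⟩ : ∃ b, b ∉ Subgroup.zpowers a := by
    by_contra h
    push Not at h
    rw [(Subgroup.eq_top_iff' _).2 h, Subgroup.index_top] at ha
    omega
  obtain ⟨hZ2, -, hZC, hR, -, hinv⟩ := MaxClass.abelian_index_two hMn h3 hMc _ ha hCa hb
  have hord : orderOf a = 2 ^ (m + 2) := by
    have h := (Subgroup.zpowers a).card_mul_index
    rw [ha, hMn, Nat.card_zpowers, pow_succ 2 (m + 2)] at h
    exact Nat.eq_of_mul_eq_mul_right two_pos h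
  have hdvd : ∀ i : ℤ, a ^ i = 1 ↔ ((2 : ℤ) ^ (m + 2)) ∣ i := fun i => by
    rw [← orderOf_dvd_iff_zpow_eq_one, hord]; norm_num
  obtain ⟨t, ht, ht4⟩ : ∃ t : ℤ, b * a * b⁻¹ = a ^ t ∧ (4 : ℤ) ∣ t + 1 := by
    obtain ⟨r, hr⟩ := hZC (hinv a (Subgroup.mem_zpowers a))
    simp only at hr
    have h2r : a ^ (r * 2) = 1 := by
      have h1 : (⟨_, hinv a (Subgroup.mem_zpowers a)⟩ : Subgroup.center M) ^ Nat.card (Subgroup.center M) = 1 :=
        pow_card_eq_one'
      rw [hZ2, pow_two] at h1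
      rw [zpow_mul, zpow_two, hr]
      exact congrArg Subtype.val h1
    rw [hdvd, pow_succ] at h2r
    obtain ⟨q, hq⟩ := (mul_dvd_mul_iff_right (two_ne_zero : (2 : ℤ) ≠ 0)).1 h2r
    refine ⟨r - 1, ?_, ?_⟩
    · rw [zpow_sub_one, hr, hCa _ (Subgroup.mem_zpowers a) _ ((Subgroup.normal_of_index_eq_two ha).conj_mem a
        (Subgroup.mem_zpowers a) b), mul_inv_cancel_right]
    · rw [sub_add_cancel]
      rcases Nat.eq_zero_or_pos m with rfl | hm
      · -- order eight: `b` does not centralize `a`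
        by_contra h4
        have hq2 : ¬ (2 : ℤ) ∣ q := fun ⟨w, hw⟩ => h4 ⟨w, by rw [hq, hw]; ring⟩
        have hba : b * a * b⁻¹ = a := by
          have h1 : a ^ r = a * a := by
            rw [← zpow_two, ← mul_inv_eq_one, ← zpow_neg, ← zpow_add, hdvd, hq]
            obtain ⟨w, hw⟩ := Int.odd_iff.2 (Int.emod_two_ne_zero.1 fun h => hq2 (Int.dvd_of_emod_eq_zero h))
            exact ⟨w, by rw [hw]; ring⟩
          rw [hr] at h1
          exact mul_left_cancel h1
        refine hne ?_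
        rw [Subgroup.eq_bot_iff_forall]
        intro x hx
        obtain ⟨c, ⟨i, rfl⟩, rfl⟩ := (hR x).1 hx
        simp only
        rw [← conj_zpow, hba, mul_inv_cancel]
      · exact Dvd.dvd.trans ⟨2 ^ (m - 1), by
          rw [show (4 : ℤ) = 2 ^ 2 by norm_num, ← pow_add]; congr 1; omega⟩ ⟨q, hq⟩
  have hNa : ∀ x : M, (x : S) ∈ N ↔ ∃ k : ℤ, x = a ^ (2 * k) := by
    have h1 : ∀ y ∈ commutator M, ∃ k : ℤ, y = a ^ (2 * k) := by
      intro y hy
      obtain ⟨c, ⟨i, rfl⟩, rfl⟩ := (hR y).1 hy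
      obtain ⟨w, hw⟩ := ht4
      refine ⟨i * (1 - 2 * w), ?_⟩
      simp only
      rw [← conj_zpow, ht, ← zpow_mul, ← zpow_neg, ← zpow_add]
      congr 1
      linear_combination -i * hw
    have h2 : commutator M = Subgroup.zpowers (a ^ (2 : ℤ)) := by
      refine Subgroup.eq_of_le_of_card_ge (fun y hy => ?_) ?_
      · obtain ⟨k, rfl⟩ := h1 y hy
        exact ⟨k, (zpow_mul a 2 k).symm⟩
      · have h := (commutator M).card_mul_index
        rw [hMc, hMn, show 2 ^ (m + 3) = 2 ^ (m + 1) * 4 by rw [pow_add 2 (m + 1) 2]; norm_num] at h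
        rw [Nat.eq_of_mul_eq_mul_right (by norm_num) h, Nat.card_zpowers,
          show (2 : ℤ) = ((2 : ℕ) : ℤ) from rfl, zpow_natCast, orderOf_pow' _ two_ne_zero, hord,
          show Nat.gcd (2 ^ (m + 2)) 2 = 2 from Nat.gcd_eq_right (dvd_pow_self 2 (by omega)),
          pow_succ 2 (m + 1), Nat.mul_div_cancel _ two_pos]
    intro x
    rw [← hN]
    constructor
    · rintro ⟨y, hy, hyx⟩
      exact (Subtype.ext hyx : y = x) ▸ h1 y hy
    · rintro ⟨k, rfl⟩
      exact ⟨a ^ (2 * k), by rw [h2]; exact ⟨k, (zpow_mul a 2 k).symm⟩, rfl⟩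
  have haM : ∀ i : ℤ, ((a ^ i : M) : S) = (a : S) ^ i := fun i => rfl
  have hdvd' : ∀ i j : ℤ, (a : S) ^ i = (a : S) ^ j → ((2 : ℤ) ^ (m + 2)) ∣ i - j := fun i j h => by
    rw [← hdvd, zpow_sub, mul_inv_eq_one]
    exact Subtype.ext h
  have h4dvd : (4 : ℤ) ∣ (2 : ℤ) ^ (m + 2) := ⟨2 ^ m, by ring⟩
  -- the actions of `s`
  obtain ⟨k, hk⟩ := (hNa ⟨⁅s, (a : S)⁆, Subgroup.commutator_le_self M (hcomm _ _)⟩).1 (hcomm _ _)
  have hsa : s * (a : S) * s⁻¹ = (a : S) ^ (2 * k + 1) := by
    have h : ⁅s, (a : S)⁆ = (a : S) ^ (2 * k) := congrArg Subtype.val hk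
    rw [zpow_add_one, ← h, commutatorElement_def, inv_mul_cancel_right]
  obtain ⟨j, hj⟩ := (hNa ⟨⁅s, (b : S)⁆, Subgroup.commutator_le_self M (hcomm _ _)⟩).1 (hcomm _ _)
  have hsb : s * (b : S) * s⁻¹ = (a : S) ^ (2 * j) * b := by
    have h : ⁅s, (b : S)⁆ = (a : S) ^ (2 * j) := congrArg Subtype.val hj
    rw [← h, commutatorElement_def, inv_mul_cancel_right]
  have hsan : ∀ i : ℤ, s * (a : S) ^ i * s⁻¹ = (a : S) ^ ((2 * k + 1) * i) := fun i => by
    rw [← conj_zpow, hsa, zpow_mul]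
  have hbS : (b : S) * a * (b : S)⁻¹ = (a : S) ^ t := congrArg Subtype.val ht
  have hssM : s * s ∈ M := by rw [Subgroup.mul_mem_iff_of_index_two hM]
  have ha2 : s * s * (a : S) * (s * s)⁻¹ = (a : S) ^ ((2 * k + 1) * (2 * k + 1)) := by
    rw [show s * s * (a : S) * (s * s)⁻¹ = s * (s * a * s⁻¹) * s⁻¹ by group, hsa, hsan]
  by_cases hsC : (⟨s * s, hssM⟩ : M) ∈ Subgroup.zpowers a
  · obtain ⟨i, hi⟩ := hsC
    have hi' : (a : S) ^ i = s * s := congrArg Subtype.val hi
    have hodd : Odd i := by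
      rw [← Int.not_even_iff_odd]
      rintro ⟨w, rfl⟩
      exact hsN ((hNa ⟨s * s, hssM⟩).2 ⟨w, by rw [two_mul]; exact hi.symm⟩)
    have h2 : (a : S) ^ ((2 * k + 1) * (2 * j) + 2 * j) * b = (a : S) ^ (i - t * i) * b := by
      calc _ = (s * (a : S) ^ (2 * j) * s⁻¹) * (s * (b : S) * s⁻¹) := by
              rw [hsan, hsb, zpow_add, mul_assoc]
        _ = s * ((a : S) ^ (2 * j) * b) * s⁻¹ := by group
        _ = s * s * b * (s * s)⁻¹ := by rw [← hsb]; group
        _ = _ := by
              rw [← hi', zpow_sub, zpow_mul, ← hbS, conj_zpow]; group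
    have h3 := h4dvd.trans (hdvd' _ _ (mul_right_cancel h2))
    obtain ⟨w, rfl⟩ := hodd
    obtain ⟨q1, hq1⟩ := h3
    obtain ⟨q2, hq2⟩ := ht4
    have hh : (4 : ℤ) * (k * j + j - w + q2 * (2 * w + 1) - q1) = 2 := by
      linear_combination hq1 - (2 * w + 1) * hq2
    omega
  · obtain ⟨i, hi⟩ : ∃ i : ℤ, (⟨s * s, hssM⟩ : M) = a ^ i * b := by
      have : (⟨s * s, hssM⟩ : M) * b⁻¹ ∈ Subgroup.zpowers a := by
        rw [Subgroup.mul_mem_iff_of_index_two ha]; simp [hsC, hb]
      obtain ⟨i, hi⟩ := this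
      exact ⟨i, by simp only at hi; rw [hi, inv_mul_cancel_right]⟩
    have hi' : s * s = (a : S) ^ i * b := congrArg Subtype.val hi
    have h2 : (a : S) ^ ((2 * k + 1) * (2 * k + 1)) = (a : S) ^ t := by
      calc _ = s * s * (a : S) * (s * s)⁻¹ := ha2.symm
        _ = (a : S) ^ i * ((b : S) * a * (b : S)⁻¹) * ((a : S) ^ i)⁻¹ := by rw [hi']; group
        _ = _ := by rw [hbS]; group
    exact odd_sq ⟨k, rfl⟩ ht4 (h4dvd.trans (hdvd' _ _ h2))

theorem index_commutator_four : ∀ (n : ℕ) (S : Type u) [Group S] [Finite S], Nat.card S = 2 ^ n →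
    Cfsg.SectionalPRankLE 2 2 S → (∃ H : Subgroup S, Nat.card H = 8 ∧ commutator H ≠ ⊥) →
    3 ≤ n ∧ (commutator S).index = 4 := by
  intro n
  induction n with
  | zero =>
    intro S _ _ hn _ ⟨H, hH, _⟩
    have := Nat.le_of_dvd Nat.card_pos H.card_subgroup_dvd_card
    omega
  | succ n ih =>
    intro S _ _ hn hr ⟨H, hH, hHn⟩
    haveI : Fact (Nat.Prime 2) := ⟨Nat.prime_two⟩
    have hS2 : IsPGroup 2 S := IsPGroup.of_card hn
    have h3 : 3 ≤ n + 1 := by
      have := H.card_subgroup_dvd_card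
      rw [hH, hn, show (8 : ℕ) = 2 ^ 3 from rfl, Nat.pow_dvd_pow_iff_le_right (by norm_num)] at this
      exact this
    refine ⟨h3, ?_⟩
    by_cases hHtop : H = ⊤
    · subst hHtop
      rw [Subgroup.card_top] at hH
      have hne : commutator S ≠ ⊥ := fun h => hHn (by
        rw [Subgroup.eq_bot_iff_forall]
        intro x hx
        have := Subgroup.map_commutator (⊤ : Subgroup (⊤ : Subgroup S)) ⊤ (⊤ : Subgroup S).subtype
        rw [← MonoidHom.range_eq_map, Subgroup.range_subtype, ← commutator_def, ← commutator_def, h] at this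
        exact Subtype.ext (Subgroup.mem_bot.1 (this ▸ ⟨x, hx, rfl⟩)))
      have h4 := MaxClass.sq_le_index_commutator (p := 2) hS2 hne
      have hd : (commutator S).index ∣ 8 := hH ▸ Subgroup.index_dvd_card _
      have hle := Nat.le_of_dvd (by norm_num) hd
      have hne8 : (commutator S).index ≠ 8 := fun h => hne <| Subgroup.eq_bot_of_card_eq _ (by
        have h' := (commutator S).card_mul_index
        rw [h, hH] at h'
        omega)
      generalize (commutator S).index = r at *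
      interval_cases r <;> omega
    · have h3n : 3 ≤ n := by
        by_contra h
        refine hHtop (Subgroup.eq_top_of_card_eq _ ?_)
        rw [hH, hn, show n + 1 = 3 by omega]
        norm_num
      obtain ⟨M, hMn, hHM⟩ := Sylow.exists_subgroup_card_pow_prime_le 2 (n := 3) (m := n)
        (G := S) (by rw [hn]; exact pow_dvd_pow 2 n.le_succ) H (by rw [hH]; norm_num) h3n
      have hMi : M.index = 2 := by
        have h := M.card_mul_index
        rw [hMn, hn, pow_succ] at h
        exact Nat.eq_of_mul_eq_mul_left (Nat.two_pow_pos n) h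
      have hMr : Cfsg.SectionalPRankLE 2 2 M := fun H' N' _ =>
        prank_section hr (M.subtype.comp H'.subtype) (M.subtype_injective.comp H'.subtype_injective) N'
      obtain ⟨hn3, hMc⟩ := ih M hMn hMr ⟨H.subgroupOf M,
        by rw [Nat.card_congr (Subgroup.subgroupOfEquivOfLe hHM).toEquiv, hH], fun h => hHn (by
          let e := Subgroup.subgroupOfEquivOfLe hHM
          rw [commutator_def, ← Subgroup.map_top_of_surjective e.toMonoidHom e.surjective,
            ← Subgroup.map_commutator, ← commutator_def, h, Subgroup.map_bot])⟩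
      exact step hn hn3 hr M hMi hMc


/-- Let S be a finite 2-group of sectional 2-rank at most 2 that contains a subgroup isomorphic to the dihedral group of order 8 or to the quaternion group of order 8. Then S is dihedral of order at least 8, semidihedral of order at least 16 (order 2^(k+4) with an element a of order 2^(k+3) and an involution b with b a b⁻¹ = a^(2^(k+2)−1)), or generalized quaternion of order at least 8. -/
theorem result {S : Type*} [Group S] [Finite S] (h2 : IsPGroup 2 S) (hr : Cfsg.SectionalPRankLE 2 2 S)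
    (hsub : ∃ H : Subgroup S, Nonempty (↥H ≃* DihedralGroup 4) ∨ Nonempty (↥H ≃* QuaternionGroup 2)) :
    ((∃ k : ℕ, Nonempty (S ≃* DihedralGroup (2 ^ (k + 2)))) ∨
      (∃ k : ℕ, Nat.card S = 2 ^ (k + 4) ∧ ∃ a b : S, orderOf a = 2 ^ (k + 3) ∧ orderOf b = 2 ∧ b * a * b⁻¹ = a ^ (2 ^ (k + 2) - 1)) ∨
      (∃ k : ℕ, Nonempty (S ≃* QuaternionGroup (2 ^ (k + 1))))) := by
  haveI : Fact (Nat.Prime 2) := ⟨Nat.prime_two⟩
  obtain ⟨n, hn⟩ := h2.exists_card_eq
  obtain ⟨H, hH⟩ := hsub
  have hH' : Nat.card H = 8 ∧ commutator H ≠ ⊥ := by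
    have key : ∀ (D : Type) [Group D] [Finite D], H ≃* D → Nat.card D = 8 → (∃ x y : D, x * y ≠ y * x) →
        Nat.card H = 8 ∧ commutator H ≠ ⊥ := by
      intro D _ _ e h8 ⟨x, y, hxy⟩
      refine ⟨(Nat.card_congr e.toEquiv).trans h8, fun h => hxy ?_⟩
      have hm : ⁅e.symm x, e.symm y⁆ ∈ commutator H := Subgroup.commutator_mem_commutator trivial trivial
      rw [h, Subgroup.mem_bot, ← map_commutatorElement, map_eq_one_iff _ e.symm.injective] at hm
      exact commutatorElement_eq_one_iff_mul_comm.1 hm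
    rcases hH with ⟨⟨e⟩⟩ | ⟨⟨e⟩⟩
    · exact key _ e DihedralGroup.nat_card ⟨.r 1, .sr 0, by decide⟩
    · exact key _ e (by rw [Nat.card_eq_fintype_card]; rfl) ⟨.a 1, .xa 0, by decide⟩
  obtain ⟨h3, hci⟩ := index_commutator_four n S hn hr ⟨H, hH'⟩
  have hne : commutator S ≠ ⊥ := fun h => by
    rw [h, Subgroup.index_bot, hn] at hci
    have : 2 ^ 3 ≤ 2 ^ n := Nat.pow_le_pow_right two_pos h3
    omega
  have hexp : ∀ x : Abelianization S, x ^ 2 = 1 := MaxClass.pow_eq_one_of_index_sq (p := 2) h2 hne hci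
  refine (S4399.result h2 (by rw [← hci, Subgroup.index_eq_card]; rfl) hexp).resolve_left fun h => ?_
  rw [hn] at h
  have : 2 ^ 3 ≤ 2 ^ n := Nat.pow_le_pow_right two_pos h3
  omega

end Cfsg.Agent.S4398
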