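import Cfsg.Agent.Lib.FGStruct.SectionalFour

set_option autoImplicit false

namespace Cfsg.Agent.S4400

theorem result {S : Type*} [Group S] [Finite S] (h2 : IsPGroup 2 S) (hr : Cfsg.SectionalPRankLE 2 4 S)
    (P Q : Subgroup S) [P.Normal] [Q.Normal] (hP : ¬ IsMulCommutative ↥P) (hQ : ¬ IsMulCommutative ↥Q)
    (hZP : Nat.card ↥(Subgroup.center ↥P) = 2) (hZQ : Nat.card ↥(Subgroup.center ↥Q) = 2)
    (hne : (Subgroup.center ↥P).map P.subtype ≠ (Subgroup.center ↥Q).map Q.subtype) :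
    ⁅P, Q⁆ = ⊥ ∧ P ⊓ Q = ⊥ ∧ Subgroup.centralizer ((P ⊔ Q : Subgroup S) : Set S) ≤ P ⊔ Q := by
  obtain ⟨z, hzP, hz, hz2, hzm, hzc⟩ := SectionalFour.exists_center P hZP
  obtain ⟨w, hwQ, hw, hw2, hwm, hwc⟩ := SectionalFour.exists_center Q hZQ
  have hpair : SectionalFour.Pair P Q z w :=
    ⟨hP, hQ, hzP, hwQ, hzc, hwc, hz, hw, hz2, hw2, fun h => hne (by rw [hzm, hwm, h]),
      fun b _ a ha => ‹P.Normal›.conj_mem a ha b, fun a _ b hb => ‹Q.Normal›.conj_mem b hb a⟩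
  refine ⟨?_, ?_, fun c hc => ?_⟩
  · rw [Subgroup.commutator_eq_bot_iff_le_centralizer]
    intro a ha
    exact Subgroup.mem_centralizer_iff.2 fun b hb => (hpair.commute h2 ha hb).symm
  · exact eq_bot_iff.2 fun x hx => Subgroup.mem_bot.2 (hpair.disjoint h2 x hx.1 hx.2)
  · rw [Subgroup.mem_centralizer_iff] at hc
    exact hpair.self_centralizing h2 hr (fun a ha => hc a (Subgroup.mem_sup_left ha)) fun b hb => hc b (Subgroup.mem_sup_right hb)

end Cfsg.Agent.S4400
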