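import Cfsg.Agent.Lib.FGStruct.SectionalFour

set_option autoImplicit false
set_option linter.style.haveILetI false

namespace Cfsg.Agent.S4401

theorem result {S : Type*} [Group S] [Finite S] (h2 : IsPGroup 2 S) (hr : Cfsg.SectionalPRankLE 2 4 S)
    (P : Subgroup S) (hPlt : P ≠ ⊤) (hP : ¬ IsMulCommutative ↥P) (hZP : Nat.card ↥(Subgroup.center ↥P) = 2)
    (S₀ : Subgroup S) (hS₀ : S₀ = Subgroup.centralizer (((Subgroup.center ↥P).map P.subtype : Subgroup S) : Set S))
    (hPn : ∀ s ∈ S₀, ∀ x ∈ P, s * x * s⁻¹ ∈ P) :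
    S₀ = ⊤ ∨ (Cfsg.SectionalPRankLE 2 2 ↥P ∧ S₀.index = 2) := by
  obtain ⟨z, hzP, hz1, hz2, hzm, hzc⟩ := SectionalFour.exists_center P hZP
  have hS : ∀ s, s ∈ S₀ ↔ s * z * s⁻¹ = z := by
    intro s
    rw [hS₀, hzm, Subgroup.mem_centralizer_iff, mul_inv_eq_iff_eq_mul]
    constructor
    · intro h; exact (h z (Subgroup.mem_zpowers z)).symm
    · intro h y hy
      obtain ⟨k, rfl⟩ := Subgroup.mem_zpowers_iff.1 hy
      exact ((show Commute s z from h).zpow_right k).eq.symm
  have hPS : P ≤ S₀ := fun x hx => (hS x).2 (by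
    rw [mul_inv_eq_iff_eq_mul, ((hzc z hzP).2 (Or.inr rfl)) x hx])
  by_cases htop : S₀ = ⊤
  · exact Or.inl htop
  right
  set N := Subgroup.normalizer (S₀ : Set S) with hN
  have hSN : S₀ ≤ N := Subgroup.le_normalizer
  haveI : Group.IsNilpotent S := IsPGroup.isNilpotent h2
  obtain ⟨g, hgN, hg⟩ := SetLike.exists_of_lt (normalizerCondition_of_isNilpotent S₀ (lt_top_iff_ne_top.2 htop))
  -- conjugates of `P` by the normalizer
  let Pc : S → Subgroup S := fun n => P.map (MulAut.conj n).toMonoidHom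
  have hmem : ∀ n x, x ∈ Pc n ↔ n⁻¹ * x * n ∈ P := by
    intro n x
    constructor
    · rintro ⟨y, hy, rfl⟩
      simpa [mul_assoc] using hy
    · intro h
      exact ⟨_, h, by simp [mul_assoc]⟩
  have hPcS : ∀ n ∈ N, Pc n ≤ S₀ := by
    rintro n hn _ ⟨y, hy, rfl⟩
    exact (Subgroup.mem_normalizer_iff.1 hn y).1 (hPS hy)
  have hnorm : ∀ n ∈ N, ∀ s ∈ S₀, ∀ x ∈ Pc n, s * x * s⁻¹ ∈ Pc n := by
    intro n hn s hs x hx
    rw [hmem] at hx ⊢
    have hs' : n⁻¹ * s * n ∈ S₀ := (Subgroup.mem_normalizer_iff''.1 hn s).1 hs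
    have := hPn _ hs' _ hx
    rwa [show n⁻¹ * s * n * (n⁻¹ * x * n) * (n⁻¹ * s * n)⁻¹ = n⁻¹ * (s * x * s⁻¹) * n by group] at this
  have hPc1 : Pc 1 = P := by
    ext x; rw [hmem]; simp
  have hnc : ∀ n, ¬ IsMulCommutative (Pc n) := fun n hc => hP ⟨⟨fun a b => by
    have := congrArg Subtype.val (hc.is_comm.comm ⟨_, Subgroup.mem_map_of_mem _ a.2⟩ ⟨_, Subgroup.mem_map_of_mem _ b.2⟩)
    exact Subtype.ext ((MulAut.conj n).injective (by simpa using this))⟩⟩
  have hcen : ∀ n, ∀ x ∈ Pc n, ((∀ y ∈ Pc n, y * x = x * y) ↔ x = 1 ∨ x = n * z * n⁻¹) := by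
    rintro n _ ⟨x, hx, rfl⟩
    show _ ↔ n * x * n⁻¹ = 1 ∨ n * x * n⁻¹ = n * z * n⁻¹
    rw [conj_eq_one_iff, mul_left_inj, mul_right_inj]
    constructor
    · intro h
      refine (hzc x hx).1 fun y hy => (MulAut.conj n).injective ?_
      rw [map_mul, map_mul]
      exact h _ ⟨y, hy, rfl⟩
    · rintro h _ ⟨y, hy, rfl⟩
      show MulAut.conj n y * MulAut.conj n x = MulAut.conj n x * MulAut.conj n y
      rw [← map_mul, ← map_mul, (hzc x hx).2 h y hy]
  have hzmem : ∀ n, n * z * n⁻¹ ∈ Pc n := fun n => ⟨z, hzP, rfl⟩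
  have mkpair : ∀ n ∈ N, ∀ n' ∈ N, n * z * n⁻¹ ≠ n' * z * n'⁻¹ →
      SectionalFour.Pair (Pc n) (Pc n') (n * z * n⁻¹) (n' * z * n'⁻¹) := fun n hn n' hn' hne =>
    ⟨hnc n, hnc n', hzmem n, hzmem n', hcen n, hcen n', fun h => hz1 (conj_eq_one_iff.1 h),
      fun h => hz1 (conj_eq_one_iff.1 h),
      by rw [show n * z * n⁻¹ * (n * z * n⁻¹) = n * (z * z) * n⁻¹ by group, hz2, mul_one, mul_inv_cancel],
      by rw [show n' * z * n'⁻¹ * (n' * z * n'⁻¹) = n' * (z * z) * n'⁻¹ by group, hz2, mul_one, mul_inv_cancel],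
      hne, fun b hb a ha => hnorm n hn b (hPcS n' hn' hb) a ha, fun a ha b hb => hnorm n' hn' a (hPcS n hn ha) b hb⟩
  set Q := Pc g with hQ
  set w := g * z * g⁻¹ with hw
  have hzw : z ≠ w := fun h => hg ((hS g).2 h.symm)
  have hpair : SectionalFour.Pair P Q z w := by
    have := mkpair 1 N.one_mem g hgN (by simpa using hzw)
    rwa [hPc1, one_mul, inv_one, mul_one] at this
  -- only two conjugates
  have htwo : ∀ n ∈ N, n ∉ S₀ → n * z * n⁻¹ = w := by
    intro n hn hnS
    by_contra hne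
    have hne1 : n * z * n⁻¹ ≠ z := fun h => hnS ((hS n).2 h)
    have p1 := mkpair 1 N.one_mem n hn (by simpa using hne1.symm)
    rw [hPc1, one_mul, inv_one, mul_one] at p1
    have p2 := mkpair g hgN n hn (Ne.symm hne)
    apply hnc n
    refine ⟨⟨fun a b => Subtype.ext ?_⟩⟩
    have hin : ∀ a ∈ Pc n, a ∈ P ⊔ Q := fun a ha =>
      hpair.self_centralizing h2 hr (fun x hx => p1.commute h2 hx ha) fun x hx => p2.commute h2 hx ha
    obtain ⟨x, hx, y, hy, hxy⟩ := hpair.split h2 (hin a a.2)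
    show (a : S) * b = b * a
    rw [hxy]
    exact ((show Commute x (b : S) from p1.commute h2 hx b.2).mul_left (p2.commute h2 hy b.2)).eq
  have hgS : ∀ n ∈ N, n ∉ S₀ → g⁻¹ * n ∈ S₀ := by
    intro n hn hnS
    rw [hS]
    calc g⁻¹ * n * z * (g⁻¹ * n)⁻¹ = g⁻¹ * (n * z * n⁻¹) * g := by group
      _ = z := by rw [htwo n hn hnS, hw]; group
  refine ⟨hpair.rank h2 hr, ?_⟩
  -- the normalizer is everything
  have hNtop : N = ⊤ := by
    by_contra hNne
    obtain ⟨h, hh, hhN⟩ := SetLike.exists_of_lt (normalizerCondition_of_isNilpotent N (lt_top_iff_ne_top.2 hNne))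
    set ζ := z * w with hζ
    have hzw' : z * w = w * z := hpair.commute h2 hpair.zmem hpair.wmem
    have hζmem : ∀ x ∈ P, ∀ b : S, b = 1 ∨ b = ζ → x * b ∈ P → b = 1 := by
      intro x hx b hb hmem
      refine hb.resolve_right fun hb' => hzw ?_
      have h5 : w ∈ P := by
        have := P.mul_mem (P.inv_mem (P.mul_mem hx hzP)) hmem
        rwa [hb', hζ, show (x * z)⁻¹ * (x * (z * w)) = w by group] at this
      exact absurd (hpair.disjoint h2 w h5 hpair.wmem) hpair.hw
    -- commutators with `z` lie in `⟨ζ⟩`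
    have hcomm : ∀ n ∈ N, z⁻¹ * (n * z * n⁻¹) = 1 ∨ z⁻¹ * (n * z * n⁻¹) = ζ := by
      intro n hn
      by_cases hnS : n ∈ S₀
      · left; rw [(hS n).1 hnS, inv_mul_cancel]
      · right; rw [htwo n hn hnS, inv_eq_of_mul_eq_one_right hz2]
    have hzi : z⁻¹ = z := inv_eq_of_mul_eq_one_right hz2
    have hwi : w⁻¹ = w := inv_eq_of_mul_eq_one_right hpair.w2
    have hζc : ∀ n ∈ N, n * ζ * n⁻¹ = ζ := by
      intro n hn
      have hng : n * g ∈ N := N.mul_mem hn hgN
      have ew : n * w * n⁻¹ = (n * g) * z * (n * g)⁻¹ := by rw [hw]; group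
      rw [hζ, show n * (z * w) * n⁻¹ = (n * z * n⁻¹) * (n * w * n⁻¹) by group, ew]
      by_cases hnS : n ∈ S₀
      · rw [(hS n).1 hnS, htwo _ hng fun h5 => hg (by
          have := S₀.mul_mem (S₀.inv_mem hnS) h5
          rwa [inv_mul_cancel_left] at this)]
      · rw [htwo n hn hnS]
        by_cases hngS : n * g ∈ S₀
        · rw [(hS _).1 hngS, hzw']
        · exfalso
          have h5 := S₀.mul_mem (S₀.inv_mem (hgS n hn hnS)) (hgS _ hng hngS)
          rw [show (g⁻¹ * n)⁻¹ * (g⁻¹ * (n * g)) = g by group] at h5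
          exact hg h5
    have hζ1 : ζ ≠ 1 := fun h5 => hzw (by rw [hζ, mul_eq_one_iff_eq_inv, hwi] at h5; exact h5)
    have hζN : ζ ∈ N := hSN (S₀.mul_mem (hPS hzP) (hPcS g hgN hpair.wmem))
    -- `h` fixes `ζ`
    have hhζ : h * ζ * h⁻¹ = ζ := by
      set η := h * ζ * h⁻¹ with hη
      have hηc : ∀ n ∈ N, n * η = η * n := by
        intro n hn
        have hn' : h⁻¹ * n * h ∈ N := (Subgroup.mem_normalizer_iff''.1 hh n).1 hn
        have := mul_inv_eq_iff_eq_mul.1 (hζc _ hn')
        calc n * η = h * ((h⁻¹ * n * h) * ζ) * h⁻¹ := by rw [hη]; group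
          _ = h * (ζ * (h⁻¹ * n * h)) * h⁻¹ := by rw [this]
          _ = η * n := by rw [hη]; group
      have hηmem : η ∈ P ⊔ Q := hpair.self_centralizing h2 hr (fun x hx => hηc x (hSN (hPS hx)))
        fun x hx => hηc x (hSN (hPcS g hgN hx))
      obtain ⟨a, ha, b, hb, hab⟩ := hpair.split h2 hηmem
      have hηN : η ∈ N := (Subgroup.mem_normalizer_iff.1 hh ζ).1 hζN
      have haz : a = 1 ∨ a = z := (hzc a ha).1 fun y hy => by
        have h5 : Commute y (a * b) := hab ▸ hηc y (hSN (hPS hy))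
        have := h5.mul_right (show Commute y b from hpair.commute h2 hy hb).inv_right
        rwa [mul_inv_cancel_right] at this
      have hbw : b = 1 ∨ b = w := (hpair.wc b hb).1 fun y hy => by
        have h5 : Commute y (a * b) := hab ▸ hηc y (hSN (hPcS g hgN hy))
        have := (show Commute y a from (hpair.commute h2 ha hy).symm).inv_right.mul_right h5
        rwa [inv_mul_cancel_left] at this
      have hη1 : η ≠ 1 := fun h5 => hζ1 (conj_eq_one_iff.1 h5)
      have hzg : g * z ≠ z * g := fun h5 => hg ((hS g).2 (mul_inv_eq_iff_eq_mul.2 h5))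
      rcases haz with ha' | ha' <;> rcases hbw with hb' | hb' <;> rw [ha', hb'] at hab
      · exact absurd (by rw [hab, one_mul]) hη1
      · exfalso
        rw [one_mul] at hab
        have h5 := hηc g hgN
        rw [hab] at h5
        apply hzg
        have : g * z * g⁻¹ * g = g * (g * z * g⁻¹) := h5.symm
        exact mul_left_cancel (a := g) (by rw [← mul_assoc, ← mul_assoc]; simpa [mul_assoc] using (congrArg (fun t => t * g) this).symm)
      · exfalso
        rw [mul_one] at hab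
        exact hzg (hab ▸ hηc g hgN)
      · exact hab
    set u := h * z * h⁻¹ with hu
    have huN : u ∈ N := (Subgroup.mem_normalizer_iff.1 hh z).1 (hSN (hPS hzP))
    have hucomm : ∀ n ∈ N, u⁻¹ * (n * u * n⁻¹) = 1 ∨ u⁻¹ * (n * u * n⁻¹) = ζ := by
      intro n hn
      have hn' : h⁻¹ * n * h ∈ N := (Subgroup.mem_normalizer_iff''.1 hh n).1 hn
      have e : u⁻¹ * (n * u * n⁻¹) = h * (z⁻¹ * (h⁻¹ * n * h * z * (h⁻¹ * n * h)⁻¹)) * h⁻¹ := by rw [hu]; group
      rcases hcomm _ hn' with h5 | h5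
      · left; rw [e, h5]; group
      · right; rw [e, h5, hhζ]
    -- compare `x` and its conjugate by `u`
    have hconj : ∀ x ∈ N, ∃ b, (b = 1 ∨ b = ζ) ∧ u * x * u⁻¹ = x * b := by
      intro x hx
      refine ⟨x⁻¹ * (u * x * u⁻¹), ?_, by group⟩
      rcases hucomm x⁻¹ (N.inv_mem hx) with h5 | h5
      · left
        rw [inv_mul_eq_one, inv_inv] at h5
        have : u * x = x * u := by
          calc u * x = x * (x⁻¹ * u * x) := by group
            _ = x * u := by rw [← h5]
        rw [inv_mul_eq_one, this, mul_inv_cancel_right]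
      · right
        rw [inv_inv] at h5
        have hui : u⁻¹ = u := by
          refine inv_eq_of_mul_eq_one_right ?_
          rw [hu, show h * z * h⁻¹ * (h * z * h⁻¹) = h * (z * z) * h⁻¹ by group, hz2, mul_one, mul_inv_cancel]
        have h6 := congrArg Inv.inv h5
        rw [mul_inv_rev, mul_inv_rev, mul_inv_rev, inv_inv, inv_inv, hui] at h6
        rw [show x⁻¹ * (u * x * u⁻¹) = x⁻¹ * (u * x) * u by rw [hui]; group]
        calc x⁻¹ * (u * x) * u = x⁻¹ * (u * x) * u := rfl
          _ = ζ⁻¹ := by rw [← h6]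
          _ = ζ := by rw [hζ, mul_inv_rev, hzi, hwi, hzw']
    by_cases huS : u ∈ S₀
    · -- `u` centralizes `P` and `Q`
      have huP : ∀ x ∈ P, x * u = u * x := by
        intro x hx
        obtain ⟨b, hb, hbx⟩ := hconj x (hSN (hPS hx))
        have := hζmem x hx b hb (hbx ▸ hPn u huS x hx)
        rw [this, mul_one, mul_inv_eq_iff_eq_mul] at hbx
        exact hbx.symm
      have huQ : ∀ x ∈ Q, x * u = u * x := by
        intro x hx
        obtain ⟨b, hb, hbx⟩ := hconj x (hSN (hPcS g hgN hx))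
        rcases hb with rfl | rfl
        · rw [mul_one, mul_inv_eq_iff_eq_mul] at hbx
          exact hbx.symm
        · exfalso
          have h5 := Q.mul_mem (Q.inv_mem hx) (hnorm g hgN u huS x hx)
          rw [hbx, inv_mul_cancel_left] at h5
          have h6 := Q.mul_mem h5 (Q.inv_mem hpair.wmem)
          rw [hζ, mul_inv_cancel_right] at h6
          exact hpair.hz (hpair.disjoint h2 z hpair.zmem h6)
      obtain ⟨a, ha, b, hb, hab⟩ := hpair.split h2 (hpair.self_centralizing h2 hr huP huQ)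
      have haz : a = 1 ∨ a = z := (hzc a ha).1 fun y hy => by
        have h5 : Commute y (a * b) := hab ▸ huP y hy
        have := h5.mul_right (show Commute y b from hpair.commute h2 hy hb).inv_right
        rwa [mul_inv_cancel_right] at this
      have hbw : b = 1 ∨ b = w := (hpair.wc b hb).1 fun y hy => by
        have h5 : Commute y (a * b) := hab ▸ huQ y hy
        have := (show Commute y a from (hpair.commute h2 ha hy).symm).inv_right.mul_right h5
        rwa [inv_mul_cancel_left] at this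
      rcases haz with ha' | ha' <;> rcases hbw with hb' | hb' <;> rw [ha', hb'] at hab
      · exact hz1 (conj_eq_one_iff.1 (by rw [← hu, hab, one_mul]))
      · refine hhN ?_
        rw [one_mul] at hab
        have h5 : g⁻¹ * h ∈ S₀ := (hS _).2 (by
          calc g⁻¹ * h * z * (g⁻¹ * h)⁻¹ = g⁻¹ * u * g := by rw [hu]; group
            _ = z := by rw [hab, hw]; group)
        have := N.mul_mem hgN (hSN h5)
        rwa [mul_inv_cancel_left] at this
      · rw [mul_one] at hab
        exact hhN (hSN ((hS h).2 hab))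
      · have h5 : z = ζ := (MulAut.conj h).injective (by show h * z * h⁻¹ = h * ζ * h⁻¹; rw [hhζ, ← hu, hab])
        have h6 : z * 1 = z * w := by rw [mul_one]; exact h5
        exact hpair.hw (mul_left_cancel h6).symm
    · -- `u` interchanges `P` and `Q`
      apply hP
      refine ⟨⟨fun a c => Subtype.ext ?_⟩⟩
      have hall : ∀ x ∈ P, x = 1 ∨ x = z := by
        intro x hx
        obtain ⟨b, hb, hbx⟩ := hconj x (hSN (hPS hx))
        have hyQ : u * x * u⁻¹ ∈ Q := by
          rw [hQ, hmem, show g⁻¹ * (u * x * u⁻¹) * g = (g⁻¹ * u) * x * (g⁻¹ * u)⁻¹ by group]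
          exact hPn _ (hgS u huN huS) x hx
        rw [hbx] at hyQ
        rcases hb with rfl | rfl
        · rw [mul_one] at hyQ; exact Or.inl (hpair.disjoint h2 x hx hyQ)
        · right
          have h6 : x * z ∈ Q := by
            have := Q.mul_mem hyQ (Q.inv_mem hpair.wmem)
            rwa [hζ, show x * (z * w) * w⁻¹ = x * z by group] at this
          have := hpair.disjoint h2 _ (P.mul_mem hx hzP) h6
          rw [mul_eq_one_iff_eq_inv, hzi] at this
          exact this
      show (a : S) * c = c * a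
      rcases hall a a.2 with h5 | h5
      · rw [h5, one_mul, mul_one]
      · rw [h5]; exact ((hzc z hzP).2 (Or.inr rfl) c c.2).symm
  rw [Subgroup.index_eq_two_iff]
  refine ⟨g⁻¹, fun n => ?_⟩
  have hnN : n ∈ N := by rw [hNtop]; trivial
  by_cases hnS : n ∈ S₀
  · refine Or.inr ⟨hnS, fun h5 => hg ?_⟩
    have := S₀.mul_mem (S₀.inv_mem hnS) h5
    rw [inv_mul_cancel_left] at this
    exact S₀.inv_mem_iff.1 this
  · refine Or.inl ⟨?_, hnS⟩
    have h5 := (Subgroup.mem_normalizer_iff''.1 hgN (g⁻¹ * n)).1 (hgS n hnN hnS)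
    by_contra h6
    have hgi : g⁻¹ ∈ N := N.inv_mem hgN
    exact h6 (by
      have h7 := htwo n hnN hnS
      rw [hS]
      have h8 := hgS g⁻¹ hgi fun h9 => hg (S₀.inv_mem_iff.1 h9)
      rw [hS] at h8
      calc n * g⁻¹ * z * (n * g⁻¹)⁻¹ = n * (g⁻¹ * z * g) * n⁻¹ := by group
        _ = n * w * n⁻¹ := by
          rw [show g⁻¹ * z * g = g * (g⁻¹ * g⁻¹ * z * (g⁻¹ * g⁻¹)⁻¹) * g⁻¹ by group, h8]
        _ = z := by
          have h9 : n⁻¹ * z * n = w := by
            have := htwo n⁻¹ (N.inv_mem hnN) fun h9 => hnS (S₀.inv_mem_iff.1 h9)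
            rwa [inv_inv] at this
          rw [← h9]; group)

end Cfsg.Agent.S4401
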