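import Cfsg.Statements.S4402
import Cfsg.Agent.Lib.TwoGroups.WreathEightQuot

set_option autoImplicit false
open Cfsg

namespace Cfsg.Agent.S4402

/-- Let S be a finite 2-group of sectional 2-rank at most 4 and P a proper subgroup isomorphic to the wreath product of the dihedral group of order 8 by a group of order 2 (equivalently, to a Sylow 2-subgroup of the symmetric group of degree 8; order 128). Then Z(S) = Z(P) has order 2, P has index 2 in its normalizer N_S(P), N_S(P)/Z(S) is again isomorphic to that wreath product, and every elementary abelian subgroup V of order 16 that is normal in P satisfies N_S(V) = P. -/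
theorem result {S : Type*} [Group S] [Finite S] (h2 : IsPGroup 2 S) (hr : Cfsg.SectionalPRankLE 2 4 S)
    (P : Subgroup S) (hPlt : P ≠ ⊤) (hP : ∃ T : Sylow 2 (Equiv.Perm (Fin 8)), Nonempty (↥P ≃* ↥(T : Subgroup (Equiv.Perm (Fin 8))))) :
    Subgroup.center S = (Subgroup.center ↥P).map P.subtype ∧ Nat.card ↥(Subgroup.center S) = 2 ∧
    P.relIndex (Subgroup.normalizer (P : Set S)) = 2 ∧
    (∃ (_ : ((Subgroup.center S).subgroupOf (Subgroup.normalizer (P : Set S))).Normal) (T : Sylow 2 (Equiv.Perm (Fin 8))),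
      Nonempty (↥(Subgroup.normalizer (P : Set S)) ⧸ (Subgroup.center S).subgroupOf (Subgroup.normalizer (P : Set S)) ≃*
        ↥(T : Subgroup (Equiv.Perm (Fin 8))))) ∧
    ∀ V : Subgroup S, V ≤ P → (∀ g ∈ P, ∀ v ∈ V, g * v * g⁻¹ ∈ V) → Cfsg.IsElementaryAbelian 2 V → Nat.card ↥V = 16 →
      Subgroup.normalizer (V : Set S) = P := by
  classical
  obtain ⟨T, ⟨eP⟩⟩ := hP
  obtain ⟨eT⟩ := Cfsg.Agent.WreathEight.sylow_equiv T
  set f : Cfsg.Agent.WreathEight.M →* S := P.subtype.comp (eT.trans eP.symm).toMonoidHom with hfdef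
  have hf : Function.Injective f := P.subtype_injective.comp (eT.trans eP.symm).injective
  have hrange : f.range = P := by
    rw [hfdef, MonoidHom.range_comp, MonoidHom.range_eq_top.2 (eT.trans eP.symm).surjective,
      ← MonoidHom.range_eq_map, Subgroup.range_subtype]
  clear_value f
  subst hrange
  open Cfsg.Agent.WreathEight in
  refine ⟨?_, card_center h2 hr hf, relIndex_two h2 hr hf hPlt, ?_, fun V hVle hVn hV hV16 => ?_⟩
  · ext s
    rw [Cfsg.Agent.WreathEight.center_iff h2 hr hf s, Cfsg.Agent.WreathEight.range_center hf s]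
  · haveI hn : ((Subgroup.center S).subgroupOf (Subgroup.normalizer (f.range : Set S))).Normal :=
      ⟨fun z hz g => by
        rw [Subgroup.mem_subgroupOf] at hz ⊢
        simp only [Subgroup.coe_mul, InvMemClass.coe_inv]
        rw [Subgroup.mem_center_iff.1 hz, mul_inv_cancel_right]
        exact hz⟩
    obtain ⟨e⟩ := Cfsg.Agent.WreathEight.quotient_equiv h2 hr hf hPlt
    exact ⟨hn, T, ⟨e.symm.trans eT⟩⟩
  · obtain ⟨hVc, hVsq⟩ := hV
    rcases Cfsg.Agent.WreathEight.classify hf V hVle hVn
      (fun a ha b hb => congrArg Subtype.val (hVc.is_comm.comm (⟨a, ha⟩ : V) ⟨b, hb⟩))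
      (fun a ha => by rw [← pow_two]; exact hVsq a ha) hV16 with h | h <;> subst h
    · exact Cfsg.Agent.WreathEight.normalizer_sub h2 hr f hf
    · rw [Cfsg.Agent.WreathEight.normalizer_sub h2 hr _ (Cfsg.Agent.WreathEight.flip_injective hf),
        Cfsg.Agent.WreathEight.flip_range hf]

end Cfsg.Agent.S4402
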