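import Cfsg.Agent.Lib.Solvable.Fitting
import Cfsg.Agent.Lib.Char.Burnside
import Cfsg.Agent.Lib.Transfer.PGroup
import Mathlib.GroupTheory.PGroup

set_option autoImplicit false
set_option linter.style.haveILetI false

namespace Cfsg.Agent.S4405

open Cfsg.Agent
open scoped commutatorElement

variable {G : Type*} [Group G]

/-- elements of `H` fixed modulo `Z` -/
private def fixMod (H Z : Subgroup G) [Z.Normal] (g : G) : Subgroup G where
  carrier := {h | h ∈ H ∧ ((g * h * g⁻¹ : G) : G ⧸ Z) = (h : G ⧸ Z)}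
  one_mem' := ⟨one_mem H, by simp⟩
  mul_mem' := by
    rintro a b ⟨ha, ha'⟩ ⟨hb, hb'⟩
    refine ⟨mul_mem ha hb, ?_⟩
    rw [show g * (a * b) * g⁻¹ = (g * a * g⁻¹) * (g * b * g⁻¹) by group, QuotientGroup.mk_mul, ha', hb',
      QuotientGroup.mk_mul]
  inv_mem' := by
    rintro a ⟨ha, ha'⟩
    refine ⟨inv_mem ha, ?_⟩
    rw [show g * a⁻¹ * g⁻¹ = (g * a * g⁻¹)⁻¹ by group, QuotientGroup.mk_inv, ha', QuotientGroup.mk_inv]

/-- elements fixing a given element modulo `Z` -/
private def stabMod (Z : Subgroup G) [Z.Normal] (h : G) : Subgroup G :=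
  (Subgroup.centralizer ({(h : G ⧸ Z)} : Set (G ⧸ Z))).comap (QuotientGroup.mk' Z)

private theorem mem_stabMod {Z : Subgroup G} [Z.Normal] {g h : G} :
    g ∈ stabMod Z h ↔ ((g * h * g⁻¹ : G) : G ⧸ Z) = (h : G ⧸ Z) := by
  rw [stabMod, Subgroup.mem_comap, Subgroup.mem_centralizer_singleton_iff, QuotientGroup.mk'_apply,
    QuotientGroup.mk_mul, QuotientGroup.mk_mul, QuotientGroup.mk_inv, mul_inv_eq_iff_eq_mul]

private theorem orbit_five {F : Subgroup G} [Finite G] {r : G} (hr : r ^ 5 = 1)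
    (hF : r ∈ Subgroup.normalizer (F : Set G)) :
    Nat.card F ≡ Nat.card (F ⊓ Subgroup.centralizer ({r} : Set G) : Subgroup G) [MOD 5] := by
  haveI : Fact (Nat.Prime 5) := ⟨by norm_num⟩
  let ψ : Subgroup.zpowers (⟨r, hF⟩ : Subgroup.normalizer (F : Set G)) →* MulAut F :=
    (Subgroup.normalizerMonoidHom F).comp (Subgroup.subtype _)
  have hp : IsPGroup 5 ψ.range := by
    rintro ⟨_, ⟨y, hy⟩, rfl⟩
    refine ⟨1, Subtype.ext ?_⟩
    obtain ⟨i, rfl⟩ := Subgroup.mem_zpowers_iff.1 hy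
    show ψ ⟨_, hy⟩ ^ 5 ^ 1 = 1
    rw [pow_one, ← map_pow]
    have : (⟨(⟨r, hF⟩ : Subgroup.normalizer (F : Set G)) ^ i, hy⟩ :
        Subgroup.zpowers (⟨r, hF⟩ : Subgroup.normalizer (F : Set G))) ^ 5 = 1 := by
      refine Subtype.ext (Subtype.ext ?_)
      show ((r : G) ^ i) ^ 5 = 1
      rw [← zpow_natCast (r ^ i) 5, ← zpow_mul, mul_comm, zpow_mul, zpow_natCast, hr, one_zpow]
    rw [this, map_one]
  have hmod := hp.card_modEq_card_fixedPoints (α := F)
  have hfix : Nat.card (MulAction.fixedPoints ψ.range F) =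
      Nat.card (F ⊓ Subgroup.centralizer ({r} : Set G) : Subgroup G) := by
    refine Nat.card_congr
      { toFun := fun c => ⟨((c : F) : G), (c : F).2, ?_⟩
        invFun := fun d => ⟨⟨d, d.2.1⟩, ?_⟩
        left_inv := fun c => rfl
        right_inv := fun d => rfl }
    · have h1 : ψ ⟨_, Subgroup.mem_zpowers _⟩ (c : F) = (c : F) :=
        c.2 ⟨ψ ⟨_, Subgroup.mem_zpowers _⟩, ⟨_, rfl⟩⟩
      have h2 : r * ((c : F) : G) * r⁻¹ = ((c : F) : G) := congrArg Subtype.val h1
      rw [mul_inv_eq_iff_eq_mul] at h2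
      exact Subgroup.mem_centralizer_singleton_iff.2 h2.symm
    · rintro ⟨_, ⟨y, hy⟩, rfl⟩
      obtain ⟨i, rfl⟩ := Subgroup.mem_zpowers_iff.1 hy
      refine Subtype.ext ?_
      show r ^ i * (d : G) * (r ^ i)⁻¹ = d
      have h3 : Commute (d : G) r := Subgroup.mem_centralizer_singleton_iff.1 d.2.2
      rw [← (h3.zpow_right i).eq, mul_inv_cancel_right]
  rwa [hfix] at hmod

theorem result {G : Type*} [Group G] [Finite G]
    (hG : Nat.card G = 320) (hHF : Cfsg.pCore 2 G = Cfsg.fittingSubgroup G)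
    (hex : Cfsg.IsExtraspecial 2 ↥(Cfsg.pCore 2 G)) (h32 : Nat.card ↥(Cfsg.pCore 2 G) = 32)
    (hminus : ∀ A : Subgroup G, A ≤ Cfsg.pCore 2 G → Cfsg.IsElementaryAbelian 2 A → Nat.card ↥A ≤ 4)
    (T : G) (hT : orderOf T = 2) (hTH : T ∉ Cfsg.pCore 2 G)
    (V : Subgroup G) (hV : V ≤ Cfsg.pCore 2 G ⊓ Subgroup.centralizer ({T} : Set G)) (hV4 : Nat.card ↥V = 4) (hVe : Cfsg.IsElementaryAbelian 2 V) :
    Nat.card ↥(Cfsg.pCore 2 G ⊓ Subgroup.centralizer ({T} : Set G)) = 4 ∧
      Cfsg.IsElementaryAbelian 2 (Cfsg.pCore 2 G ⊓ Subgroup.centralizer ({T} : Set G)) := by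
  haveI : Fact (Nat.Prime 2) := ⟨Nat.prime_two⟩
  haveI : Fact (Nat.Prime 5) := ⟨by norm_num⟩
  haveI : Group.IsSolvable G := Char.isSolvable_of_card_pq 2 5 Nat.prime_two (by norm_num) _ G rfl
    ⟨6, 1, by rw [hG]; norm_num⟩
  haveI := PBasic.pCore_characteristic 2 G
  set H := Cfsg.pCore 2 G with hH
  set Z := (Subgroup.center ↥H).map H.subtype with hZ
  haveI hZn : Z.Normal := by rw [hZ]; infer_instance
  have hZH : Z ≤ H := Subgroup.map_subtype_le _
  have hZc : Nat.card Z = 2 := by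
    rw [hZ, Subgroup.card_map_of_injective H.subtype_injective]; exact hex.2
  have hHZ : ∀ a ∈ H, ∀ b ∈ H, ((a * b * a⁻¹ : G) : G ⧸ Z) = (b : G ⧸ Z) := by
    intro a ha b hb
    rw [QuotientGroup.eq_iff_div_mem, div_eq_mul_inv]
    refine ⟨⟨a, ha⟩ * ⟨b, hb⟩ * ⟨a, ha⟩⁻¹ * ⟨b, hb⟩⁻¹, ?_, rfl⟩
    rw [SetLike.mem_coe, ← hex.1.2.2]
    exact Subgroup.commutator_mem_commutator (Subgroup.mem_top _) (Subgroup.mem_top _)
  have hsq : ∀ a ∈ H, ((a * a : G) : G ⧸ Z) = 1 := by
    intro a ha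
    rw [QuotientGroup.eq_one_iff]
    refine ⟨(⟨a, ha⟩ : H) ^ 2, ?_, by simp [sq]⟩
    rw [SetLike.mem_coe, ← hex.1.2.1]
    exact PGroupBasics.pow_mem_frattini hex.1.1 _
  have hcent : ∀ z ∈ Z, ∀ g : G, g * z * g⁻¹ = z := by
    intro z hz g
    rcases eq_or_ne z 1 with rfl | hne
    · simp
    by_contra h
    have hsub : ({1, z, g * z * g⁻¹} : Set G) ⊆ (Z : Set G) := by
      rintro x (rfl | rfl | rfl)
      exacts [one_mem Z, hz, hZn.conj_mem z hz g]
    have h1 := Set.ncard_le_ncard hsub (Set.toFinite _)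
    have h2 : ({1, z, g * z * g⁻¹} : Set G).ncard = 3 := by
      refine Set.ncard_eq_three.2 ⟨_, _, _, hne.symm, ?_, fun e => h e.symm, rfl⟩
      intro e
      exact hne (by rw [show z = g⁻¹ * (g * z * g⁻¹) * g by group, ← e]; group)
    rw [h2, ← Nat.card_coe_set_eq] at h1
    change 3 ≤ Nat.card Z at h1
    omega
  -- an element of order five
  obtain ⟨r, hr⟩ := exists_prime_orderOf_dvd_card' (G := G) 5 (by rw [hG]; norm_num)
  have hr5 : r ^ 5 = 1 := hr ▸ pow_orderOf_eq_one r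
  have hrH : r ∉ H := fun h => by
    have := Subgroup.orderOf_dvd_natCard H h
    rw [hr, h32] at this
    norm_num at this
  have hfive : ∀ x : G, orderOf x = 5 → ∀ h ∈ H,
      ((x * h * x⁻¹ : G) : G ⧸ Z) = (h : G ⧸ Z) → x * h = h * x := by
    intro x hx h hh he
    rw [QuotientGroup.eq_iff_div_mem, div_eq_mul_inv] at he
    set z := x * h * x⁻¹ * h⁻¹ with hz
    have hxhx : x * h * x⁻¹ = z * h := by rw [hz, inv_mul_cancel_right]
    have hxh : ∀ n : ℕ, x ^ n * h * (x ^ n)⁻¹ = z ^ n * h := by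
      intro n
      induction n with
      | zero => simp
      | succ n ih =>
        rw [pow_succ', show x * x ^ n * h * (x * x ^ n)⁻¹ = x * (x ^ n * h * (x ^ n)⁻¹) * x⁻¹ by group, ih,
          show x * (z ^ n * h) * x⁻¹ = (x * z ^ n * x⁻¹) * (x * h * x⁻¹) by group,
          hcent _ (pow_mem he n) x, hxhx, ← mul_assoc, ← pow_succ]
    have h5 := hxh 5
    rw [← hx, pow_orderOf_eq_one, one_mul, inv_one, mul_one, hx, right_eq_mul] at h5
    have hz2 : z ^ 2 = 1 := by
      have := pow_card_eq_one' (G := Z) (x := ⟨z, he⟩)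
      rw [hZc] at this
      exact congrArg Subtype.val this
    have : z = 1 := by
      rw [show (5 : ℕ) = 2 + 2 + 1 by norm_num, pow_add, pow_add, hz2, one_mul, one_mul, pow_one] at h5
      exact h5
    rw [hz, mul_inv_eq_one, mul_inv_eq_iff_eq_mul] at this
    exact this
  -- the kernel of the action on the Frattini quotient
  let K : Subgroup G := ⨅ h : H, stabMod Z (h : G)
  have hK : ∀ g, g ∈ K ↔ ∀ h ∈ H, ((g * h * g⁻¹ : G) : G ⧸ Z) = (h : G ⧸ Z) := by
    intro g
    simp only [K, Subgroup.mem_iInf, mem_stabMod, Subtype.forall]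
  have hKn : K.Normal := ⟨fun g hg x => by
    rw [hK] at hg ⊢
    intro h hh
    have h1 := congrArg (fun y : G ⧸ Z => (x : G ⧸ Z) * y * (x : G ⧸ Z)⁻¹)
      (hg (x⁻¹ * h * x) (by simpa using (inferInstance : H.Normal).conj_mem h hh x⁻¹))
    simp only [← QuotientGroup.mk_inv, ← QuotientGroup.mk_mul] at h1
    rw [show x * (g * (x⁻¹ * h * x) * g⁻¹) * x⁻¹ = x * g * x⁻¹ * h * (x * g * x⁻¹)⁻¹ by group,
      show x * (x⁻¹ * h * x) * x⁻¹ = h by group] at h1
    exact h1⟩
  have hO : Subgroup.centralizer (H : Set G) ≤ H := by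
    rw [hHF]; exact FittingCores.centralizer_fitting_le
  haveI hHn : H.Normal := by rw [hH]; infer_instance
  have hKH' : ∀ N : Subgroup G, N.Normal → IsPGroup 2 N → N ≤ H := fun N hN hp => PBasic.le_pCore hN hp
  clear hHF
  clear_value H
  clear hH
  have hT2 : T ^ 2 = 1 := hT ▸ pow_orderOf_eq_one T
  have hKH : K ≤ H := by
    refine hKH' K hKn ?_
    rw [IsPGroup.iff_card]
    have h5 : ¬ 5 ∣ Nat.card K := by
      intro hd
      obtain ⟨x, hx⟩ := exists_prime_orderOf_dvd_card' (G := K) 5 hd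
      have hxH : (x : G) ∈ H := hO fun h hh =>
        (hfive (x : G) (by rw [Subgroup.orderOf_coe, hx]) h hh ((hK _).1 x.2 h hh)).symm
      have := Subgroup.orderOf_dvd_natCard H hxH
      rw [Subgroup.orderOf_coe, hx, h32] at this
      norm_num at this
    have hd : Nat.card K ∣ 2 ^ 6 := by
      refine ((Nat.Prime.coprime_iff_not_dvd (by norm_num : Nat.Prime 5)).2 h5).symm.dvd_of_dvd_mul_right ?_
      exact (Subgroup.card_subgroup_dvd_card K).trans (by rw [hG]; norm_num)
    obtain ⟨k, -, hk⟩ := (Nat.dvd_prime_pow Nat.prime_two).1 hd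
    exact ⟨k, hk⟩
  -- the fixed points of a five element
  have hstabr : ∀ h ∈ H, r ∈ stabMod Z h → h ∈ Z := by
    have hC : H ⊓ Subgroup.centralizer ({r} : Set G) = Z := by
      have hZle : Z ≤ H ⊓ Subgroup.centralizer ({r} : Set G) := fun z hz => ⟨hZH hz, by
        have := hcent z hz r
        rw [mul_inv_eq_iff_eq_mul] at this
        exact Subgroup.mem_centralizer_singleton_iff.2 this.symm⟩
      refine (Subgroup.eq_of_le_of_card_ge hZle ?_).symm
      have hmod := orbit_five (F := H) hr5 (by rw [Subgroup.normalizer_eq_top]; exact Subgroup.mem_top r)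
      rw [h32] at hmod
      have hd : Nat.card (H ⊓ Subgroup.centralizer ({r} : Set G) : Subgroup G) ∣ 2 ^ 5 := by
        have := Subgroup.card_dvd_of_le (inf_le_left : H ⊓ Subgroup.centralizer ({r} : Set G) ≤ H)
        rw [h32] at this
        simpa using this
      obtain ⟨i, hi, hic⟩ := (Nat.dvd_prime_pow Nat.prime_two).1 hd
      rw [hic] at hmod ⊢
      rw [hZc]
      interval_cases i
      all_goals try (exfalso; revert hmod; norm_num [Nat.ModEq]; done)
      all_goals try (norm_num; done)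
      -- the whole of `H` cannot be fixed
      exfalso
      have hall : H ⊓ Subgroup.centralizer ({r} : Set G) = H :=
        Subgroup.eq_of_le_of_card_ge inf_le_left (by rw [h32, hic]; norm_num)
      refine hrH (hO fun h hh => ?_)
      have : h ∈ H ⊓ Subgroup.centralizer ({r} : Set G) := hall.symm ▸ hh
      exact Subgroup.mem_centralizer_singleton_iff.1 this.2
    intro h hh hs
    rw [← hC]
    refine ⟨hh, ?_⟩
    exact Subgroup.mem_centralizer_singleton_iff.2 (hfive r hr h hh (mem_stabMod.1 hs)).symm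
  have hKstab : ∀ h ∈ H, H ≤ stabMod Z h := fun h hh a ha => mem_stabMod.2 (hHZ a ha h hh)
  -- position of `T`
  set Q := G ⧸ H
  have hQ : Nat.card Q = 10 := by
    have := Subgroup.card_eq_card_quotient_mul_card_subgroup H
    rw [hG, h32] at this
    change 320 = Nat.card Q * 32 at this
    omega
  set t : Q := (T : Q) with ht
  set ρ : Q := (r : Q) with hρ
  have hρ1 : ρ ≠ 1 := fun h => hrH ((QuotientGroup.eq_one_iff r).1 h)
  have hρo : orderOf ρ = 5 := orderOf_eq_prime (by rw [hρ, ← QuotientGroup.mk_pow, hr5, QuotientGroup.mk_one]) hρ1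
  have hidx : (Subgroup.zpowers ρ).index = 2 := by
    have := Subgroup.card_mul_index (Subgroup.zpowers ρ)
    rw [Nat.card_zpowers, hρo, hQ] at this
    omega
  haveI := Subgroup.normal_of_index_eq_two hidx
  have htt : t * t = 1 := by
    rw [ht, ← QuotientGroup.mk_mul, ← sq, hT2, QuotientGroup.mk_one]
  obtain ⟨i, hi⟩ := Subgroup.mem_zpowers_iff.1
    ((inferInstance : (Subgroup.zpowers ρ).Normal).conj_mem ρ (Subgroup.mem_zpowers ρ) t)
  have hi5 : ((5 : ℕ) : ℤ) ∣ (i - 1) * (i + 1) := by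
    have h1 : ρ ^ (i * i) = ρ := by
      rw [zpow_mul, hi, conj_zpow, hi, show t * (t * ρ * t⁻¹) * t⁻¹ = (t * t) * ρ * (t * t)⁻¹ by group, htt]
      simp
    rw [← hρo, orderOf_dvd_iff_zpow_eq_one, show (i - 1) * (i + 1) = i * i - 1 by ring, zpow_sub, h1, zpow_one,
      mul_inv_cancel]
  set F := fixMod H Z T with hFdef
  have hZF : Z ≤ F := fun z hz => ⟨hZH hz, by rw [hcent z hz T]⟩
  set C := H ⊓ Subgroup.centralizer ({T} : Set G) with hCdef
  have hCF : C ≤ F := fun c hc => ⟨hc.1, by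
    rw [← Subgroup.mem_centralizer_singleton_iff.1 hc.2, mul_inv_cancel_right]⟩
  obtain ⟨v, hv, hvZ⟩ : ∃ v ∈ V, v ∉ Z := by
    by_contra h
    push Not at h
    have := Subgroup.card_le_of_le (show V ≤ Z from h)
    omega
  -- the fixed space of `T` is small
  have hF8 : Nat.card F ≤ 8 := by
    rcases (Int.Prime.dvd_mul' (by norm_num : Nat.Prime 5) hi5) with hd | hd
    · exfalso
      have hcomm : t * ρ * t⁻¹ = ρ := by
        rw [← hρo, orderOf_dvd_iff_zpow_eq_one, zpow_sub, zpow_one, mul_inv_eq_one] at hd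
        rw [← hi, hd]
      have hu : T * r * T⁻¹ * r⁻¹ ∈ H := by
        rw [← QuotientGroup.eq_one_iff (N := H)]
        simp only [QuotientGroup.mk_mul, QuotientGroup.mk_inv]
        rw [← ht, ← hρ, hcomm, mul_inv_cancel]
      have hrF : r ∈ Subgroup.normalizer (F : Set G) := by
        have key : ∀ x : G, T * x * T⁻¹ * x⁻¹ ∈ H → ∀ h ∈ F, x * h * x⁻¹ ∈ F := by
          intro x hx h hh
          have hmem : x * h * x⁻¹ ∈ H := (inferInstance : H.Normal).conj_mem h hh.1 x
          refine ⟨hmem, mem_stabMod.1 ?_⟩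
          rw [show T = (T * x * T⁻¹ * x⁻¹) * (x * T * x⁻¹) by group]
          refine mul_mem (hKstab _ hmem hx) (mem_stabMod.2 ?_)
          rw [show x * T * x⁻¹ * (x * h * x⁻¹) * (x * T * x⁻¹)⁻¹ = x * (T * h * T⁻¹) * x⁻¹ by group,
            QuotientGroup.mk_mul, QuotientGroup.mk_mul, hh.2, ← QuotientGroup.mk_mul, ← QuotientGroup.mk_mul]
        rw [Subgroup.mem_normalizer_iff]
        intro h
        refine ⟨key r hu h, fun hh => ?_⟩
        have hu' : T * r⁻¹ * T⁻¹ * r⁻¹⁻¹ ∈ H := by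
          have := (inferInstance : H.Normal).conj_mem _ (inv_mem hu) r⁻¹
          rwa [show r⁻¹ * (T * r * T⁻¹ * r⁻¹)⁻¹ * r⁻¹⁻¹ = T * r⁻¹ * T⁻¹ * r⁻¹⁻¹ by group] at this
        have := key r⁻¹ hu' _ hh
        rwa [show r⁻¹ * (r * h * r⁻¹) * r⁻¹⁻¹ = h by group] at this
      have hmod := orbit_five hr5 hrF
      have hFr : F ⊓ Subgroup.centralizer ({r} : Set G) = Z := by
        refine le_antisymm (fun h hh => hstabr h hh.1.1 (mem_stabMod.2 ?_)) fun z hz => ⟨hZF hz, ?_⟩
        · rw [← Subgroup.mem_centralizer_singleton_iff.1 hh.2, mul_inv_cancel_right]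
        · have := hcent z hz r
          rw [mul_inv_eq_iff_eq_mul] at this
          exact Subgroup.mem_centralizer_singleton_iff.2 this.symm
      rw [hFr, hZc] at hmod
      have hd2 : Nat.card F ∣ 2 ^ 5 := by
        have := Subgroup.card_dvd_of_le (show F ≤ H from fun x hx => hx.1)
        rw [h32] at this
        simpa using this
      obtain ⟨j, hj, hjc⟩ := (Nat.dvd_prime_pow Nat.prime_two).1 hd2
      rw [hjc] at hmod
      interval_cases j
      all_goals try (exfalso; revert hmod; norm_num [Nat.ModEq]; done)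
      · exact hvZ ((Subgroup.eq_of_le_of_card_ge hZF (le_of_eq (by rw [hjc, hZc, pow_one]))).symm ▸ hCF (hV hv))
      · have hFH : F = H := Subgroup.eq_of_le_of_card_ge (fun x hx => hx.1) (le_of_eq (by rw [hjc, h32]; norm_num))
        exact hTH (hKH ((hK T).2 fun h hh => (hFH.symm ▸ hh : h ∈ F).2))
    · have hinv : t * ρ * t⁻¹ = ρ⁻¹ := by
        rw [← hρo, orderOf_dvd_iff_zpow_eq_one, zpow_add, zpow_one] at hd
        rw [← hi]
        exact eq_inv_of_mul_eq_one_left hd
      set F' := F.map (MulAut.conj r).toMonoidHom with hF'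
      have hint : F ⊓ F' ≤ Z := by
        rintro h ⟨hh, h', hh', hhe⟩
        have hheq : r * h' * r⁻¹ = h := hhe
        refine hstabr h hh.1 ?_
        have h1 : T ∈ stabMod Z h := mem_stabMod.2 hh.2
        have h2 : r * T * r⁻¹ ∈ stabMod Z h := by
          rw [mem_stabMod, ← hheq, show r * T * r⁻¹ * (r * h' * r⁻¹) * (r * T * r⁻¹)⁻¹ = r * (T * h' * T⁻¹) * r⁻¹ by group,
            QuotientGroup.mk_mul, QuotientGroup.mk_mul, hh'.2, ← QuotientGroup.mk_mul, ← QuotientGroup.mk_mul]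
        have h3 : T * (r * T * r⁻¹) ∈ stabMod Z h := mul_mem h1 h2
        have h4 : T * (r * T * r⁻¹) * r ^ 2 ∈ H := by
          rw [← QuotientGroup.eq_one_iff (N := H)]
          simp only [QuotientGroup.mk_mul, QuotientGroup.mk_inv, QuotientGroup.mk_pow]
          rw [← ht, ← hρ]
          have htinv : t⁻¹ = t := inv_eq_of_mul_eq_one_right htt
          rw [htinv] at hinv
          calc t * (ρ * t * ρ⁻¹) * ρ ^ 2 = (t * ρ * t) * ρ := by group
            _ = 1 := by rw [hinv, inv_mul_cancel]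
        have h5 : r ^ 2 ∈ stabMod Z h := by
          have := mul_mem (inv_mem h3) (hKstab h hh.1 h4)
          rwa [inv_mul_cancel_left] at this
        have h6 := pow_mem h5 3
        rwa [← pow_mul, show 2 * 3 = 5 + 1 by norm_num, pow_succ, hr5, one_mul] at h6
      have hF'H : F' ≤ H := by
        rintro _ ⟨x, hx, rfl⟩
        exact (inferInstance : H.Normal).conj_mem x hx.1 r
      have hc' : Nat.card F' = Nat.card F :=
        Subgroup.card_map_of_injective (MulAut.conj r).injective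
      have h1 : F'.relIndex F ≤ F'.relIndex H :=
        Subgroup.relIndex_le_of_le_right (fun x hx => hx.1) Subgroup.index_ne_zero_of_finite
      have h2 : Nat.card (F' ⊓ F : Subgroup G) * F'.relIndex F = Nat.card F := by
        rw [← Subgroup.inf_relIndex_right]; exact PBasic.card_mul_relIndex inf_le_right
      have h3 : Nat.card F' * F'.relIndex H = 32 := h32 ▸ PBasic.card_mul_relIndex hF'H
      have h4 : Nat.card (F' ⊓ F : Subgroup G) ≤ 2 := by
        rw [inf_comm, ← hZc]; exact Subgroup.card_le_of_le hint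
      rw [hc'] at h3
      nlinarith
  -- `C` has order at most eight; eight is impossible
  have hC4 : Nat.card C = 4 := by
    have hge : 4 ≤ Nat.card C := hV4 ▸ Subgroup.card_le_of_le hV
    have hd : Nat.card C ∣ 2 ^ 5 := by
      have := Subgroup.card_dvd_of_le (inf_le_left : C ≤ H)
      rw [h32] at this
      exact this
    obtain ⟨j, hj, hjc⟩ := (Nat.dvd_prime_pow Nat.prime_two).1 hd
    have hle : Nat.card C ≤ 8 := (Subgroup.card_le_of_le hCF).trans hF8
    by_contra hne
    have hC8 : Nat.card C = 8 := by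
      rw [hjc] at hge hle hne ⊢
      interval_cases j <;> omega
    have hCeq : C = F := Subgroup.eq_of_le_of_card_ge hCF (by omega)
    -- the map `h ↦ [h, T]` modulo `Z`
    let δ : H →* G ⧸ Z := MonoidHom.mk' (fun h => (((h : G)⁻¹ * (T * h * T⁻¹) : G) : G ⧸ Z)) fun a b => by
      show (((a * b : G)⁻¹ * (T * ((a : G) * b) * T⁻¹) : G) : G ⧸ Z) = _
      have hd : (a : G)⁻¹ * (T * a * T⁻¹) ∈ H :=
        mul_mem (inv_mem a.2) ((inferInstance : H.Normal).conj_mem a a.2 T)
      rw [show ((a : G) * b)⁻¹ * (T * ((a : G) * b) * T⁻¹) =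
        ((b : G)⁻¹ * ((a : G)⁻¹ * (T * a * T⁻¹)) * (b : G)⁻¹⁻¹) * ((b : G)⁻¹ * (T * b * T⁻¹)) by group,
        QuotientGroup.mk_mul, hHZ _ (inv_mem b.2) _ hd]
    have hker : δ.ker = F.subgroupOf H := by
      ext h
      rw [MonoidHom.mem_ker, Subgroup.mem_subgroupOf]
      show (((h : G)⁻¹ * (T * h * T⁻¹) : G) : G ⧸ Z) = 1 ↔ (h : G) ∈ H ∧ _
      rw [QuotientGroup.mk_mul, QuotientGroup.mk_inv, inv_mul_eq_one]
      exact ⟨fun e => ⟨h.2, e.symm⟩, fun e => e.2.symm⟩
    have hd_mem : ∀ h ∈ H, h⁻¹ * (T * h * T⁻¹) ∈ C := by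
      intro h hh
      rw [hCeq]
      have hd : h⁻¹ * (T * h * T⁻¹) ∈ H :=
        mul_mem (inv_mem hh) ((inferInstance : H.Normal).conj_mem h hh T)
      refine ⟨hd, ?_⟩
      have hTT : T * T = 1 := by rw [← sq, hT2]
      have hTi : T⁻¹ = T := inv_eq_of_mul_eq_one_right hTT
      have h0 : T * (h⁻¹ * (T * h * T⁻¹)) * T⁻¹ = (h⁻¹ * (T * h * T⁻¹))⁻¹ := by
        calc T * (h⁻¹ * (T * h * T⁻¹)) * T⁻¹ = T * h⁻¹ * T * h * (T⁻¹ * T⁻¹) := by group
          _ = T * h⁻¹ * T⁻¹ * h := by rw [← mul_inv_rev, hTT, inv_one, mul_one, hTi]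
          _ = _ := by group
      rw [h0, QuotientGroup.mk_inv, inv_eq_iff_mul_eq_one, ← QuotientGroup.mk_mul]
      exact hsq _ hd
    have hrange : δ.range = F.map (QuotientGroup.mk' Z) := by
      refine Subgroup.eq_of_le_of_card_ge ?_ ?_
      · rintro _ ⟨h, rfl⟩
        exact ⟨_, hCF (hd_mem h h.2), rfl⟩
      · have h1 : Nat.card δ.range = 4 := by
          rw [← Subgroup.index_ker, hker, ← Subgroup.relIndex]
          have := PBasic.card_mul_relIndex (show F ≤ H from fun x hx => hx.1)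
          rw [h32, ← hCeq, hC8] at this
          rw [← hCeq]
          omega
        have h2 : Nat.card (F.map (QuotientGroup.mk' Z)) = 4 := by
          rw [← Subgroup.relIndex_ker, QuotientGroup.ker_mk']
          have := PBasic.card_mul_relIndex hZF
          rw [hZc, ← hCeq, hC8] at this
          rw [← hCeq]
          omega
        omega
    have hCe : ∀ c ∈ C, c * c = 1 := by
      intro c hc
      have hcm : (c : G ⧸ Z) ∈ δ.range := by rw [hrange]; exact Subgroup.mem_map_of_mem _ (hCF hc)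
      obtain ⟨h, hh⟩ := hcm
      set d := (h : G)⁻¹ * (T * h * T⁻¹) with hd
      have hz : d⁻¹ * c ∈ Z := (QuotientGroup.eq (s := Z)).1 hh
      set z := d⁻¹ * c with hzdef
      have hd2 : d * d = 1 := by
        have h1 : d ∈ C := hd_mem h h.2
        have h2 := Subgroup.mem_centralizer_singleton_iff.1 h1.2
        have hTT : T * T = 1 := by rw [← sq, hT2]
        have hTi : T⁻¹ = T := inv_eq_of_mul_eq_one_right hTT
        have h3 : T * d * T⁻¹ = d⁻¹ := by
          calc T * d * T⁻¹ = T * (h : G)⁻¹ * T * h * (T⁻¹ * T⁻¹) := by rw [hd]; group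
            _ = T * (h : G)⁻¹ * T⁻¹ * h := by rw [← mul_inv_rev, hTT, inv_one, mul_one, hTi]
            _ = d⁻¹ := by rw [hd]; group
        rw [← h2, mul_inv_cancel_right] at h3
        exact mul_eq_one_iff_eq_inv.2 h3
      have hz2 : z * z = 1 := by
        have := pow_card_eq_one' (G := Z) (x := ⟨z, hz⟩)
        rw [hZc, sq] at this
        exact congrArg Subtype.val this
      have hc' : c = d * z := by rw [hzdef]; group
      have hzd : z * d = d * z := by
        have := hcent z hz d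
        rw [mul_inv_eq_iff_eq_mul] at this
        exact this.symm
      rw [hc', mul_assoc d z, ← mul_assoc z d z, hzd, mul_assoc d z z, hz2, mul_one, hd2]
    have hel : Cfsg.IsElementaryAbelian 2 C := by
      refine ⟨⟨⟨fun a b => Subtype.ext ?_⟩⟩, fun a ha => by rw [sq]; exact hCe a ha⟩
      have hinv : ∀ x ∈ C, x⁻¹ = x := fun x hx => inv_eq_of_mul_eq_one_right (hCe x hx)
      show (a : G) * b = b * a
      rw [← hinv _ (mul_mem a.2 b.2), mul_inv_rev, hinv _ a.2, hinv _ b.2]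
    have := hminus C inf_le_left hel
    omega
  refine ⟨hC4, ?_⟩
  have : V = C := Subgroup.eq_of_le_of_card_ge hV (by omega)
  rw [← this]; exact hVe

end Cfsg.Agent.S4405
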