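import Cfsg.Statements.S4406
import Mathlib.GroupTheory.SpecificGroups.Alternating
import Mathlib.GroupTheory.Sylow

set_option autoImplicit false
set_option synthInstance.maxSize 2000
set_option synthInstance.maxHeartbeats 400000
open Cfsg

namespace Cfsg.Agent.S4406

abbrev A4 : Type := ↥(alternatingGroup (Fin 4))

theorem core : ∀ v1 v2 s : alternatingGroup (Fin 4), v1 * v1 = 1 ∧ v2 * v2 = 1 ∧ v1 ≠ 1 ∧ v2 ≠ 1 ∧ v1 ≠ v2 ∧ s * s * s = 1 ∧ s ≠ 1 →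
  ((s * v1 * s⁻¹ = v2 ∧ s * v2 * s⁻¹ = v1 * v2) ∧ (s⁻¹ * v1 * s = v1 * v2 ∧ s⁻¹ * v2 * s = v1)) ∨
  ((s * v1 * s⁻¹ = v1 * v2 ∧ s * v2 * s⁻¹ = v1) ∧ (s⁻¹ * v1 * s = v2 ∧ s⁻¹ * v2 * s = v1 * v2)) := by
  decide +kernel

theorem pow_four : ∀ x : alternatingGroup (Fin 4), x ^ 4 = 1 → x * x = 1 := by decide +kernel

theorem card_A4 : Nat.card (alternatingGroup (Fin 4)) = 12 := by
  rw [Nat.card_eq_fintype_card]; decide +kernel

theorem sq_of_two_group {H : Subgroup (alternatingGroup (Fin 4))} (hH : IsPGroup 2 H)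
    {x : alternatingGroup (Fin 4)} (hx : x ∈ H) : x * x = 1 := by
  obtain ⟨k, hk⟩ := IsPGroup.iff_orderOf.1 hH ⟨x, hx⟩
  rw [Subgroup.orderOf_mk] at hk
  refine pow_four x ?_
  have h12 : orderOf x ∣ 12 := card_A4 ▸ orderOf_dvd_natCard x
  rw [hk] at h12
  have h4 : 2 ^ k ∣ 4 := by
    have hco : (2 ^ k).Coprime 3 := Nat.Coprime.pow_left k (by norm_num)
    exact hco.dvd_of_dvd_mul_right (show 2 ^ k ∣ 4 * 3 from h12)
  exact orderOf_dvd_iff_pow_eq_one.1 (hk ▸ h4)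

theorem three_group {H : Subgroup (alternatingGroup (Fin 4))} (hH : IsPGroup 3 H) : Nat.card H ∣ 3 := by
  obtain ⟨k, hk⟩ := IsPGroup.iff_card.1 hH
  have h12 : Nat.card H ∣ 12 := card_A4 ▸ Subgroup.card_subgroup_dvd_card H
  have hco : (3 ^ k).Coprime 4 := Nat.Coprime.pow_left k (by norm_num)
  rw [hk] at h12 ⊢
  exact hco.dvd_of_dvd_mul_right (show 3 ^ k ∣ 3 * 4 from h12)

/-- Subgroups of order four in `A₄ × A₄`. -/
theorem result
    (X : Sylow 2 (↥(alternatingGroup (Fin 4)) × ↥(alternatingGroup (Fin 4))))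
    (Q : Sylow 3 (↥(alternatingGroup (Fin 4)) × ↥(alternatingGroup (Fin 4))))
    (B : Subgroup (↥(alternatingGroup (Fin 4)) × ↥(alternatingGroup (Fin 4)))) (hBX : B ≤ (X : Subgroup _)) (hB4 : Nat.card ↥B = 4) :
    B ⊓ ((X : Subgroup _) ⊓ Subgroup.prod ⊤ ⊥) ≠ ⊥ ∨ B ⊓ ((X : Subgroup _) ⊓ Subgroup.prod ⊥ ⊤) ≠ ⊥ ∨
      ∃ R : Subgroup (↥(alternatingGroup (Fin 4)) × ↥(alternatingGroup (Fin 4))), R ≤ (Q : Subgroup _) ∧ Nat.card ↥R = 3 ∧
        R ≠ (Q : Subgroup _) ⊓ Subgroup.prod ⊤ ⊥ ∧ R ≠ (Q : Subgroup _) ⊓ Subgroup.prod ⊥ ⊤ ∧ R ≤ Subgroup.normalizer (B : Set _) := by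
  classical
  by_contra hcon
  simp only [not_or, not_not] at hcon
  obtain ⟨hB1, hB2, hno⟩ := hcon
  apply hno
  have hsq : ∀ x ∈ B, x * x = 1 := fun x hx => by
    refine Prod.ext ?_ ?_
    · exact sq_of_two_group (X.isPGroup'.map (MonoidHom.fst _ _)) (Subgroup.mem_map_of_mem _ (hBX hx))
    · exact sq_of_two_group (X.isPGroup'.map (MonoidHom.snd _ _)) (Subgroup.mem_map_of_mem _ (hBX hx))
  have hne : ∀ x ∈ B, x ≠ 1 → x.1 ≠ 1 ∧ x.2 ≠ 1 := by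
    intro x hx hx1
    refine ⟨fun h => hx1 ?_, fun h => hx1 ?_⟩
    · exact Subgroup.mem_bot.1 (hB2.le ⟨hx, hBX hx, Subgroup.mem_prod.2 ⟨Subgroup.mem_bot.2 h, Subgroup.mem_top _⟩⟩)
    · exact Subgroup.mem_bot.1 (hB1.le ⟨hx, hBX hx, Subgroup.mem_prod.2 ⟨Subgroup.mem_top _, Subgroup.mem_bot.2 h⟩⟩)
  haveI : Fintype ↥B := Fintype.ofFinite _
  have hcB : Fintype.card ↥B = 4 := by rw [← Nat.card_eq_fintype_card]; exact hB4
  obtain ⟨a, ha⟩ : ∃ a : ↥B, a ≠ 1 := by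
    haveI : Nontrivial ↥B := Fintype.one_lt_card_iff_nontrivial.1 (by omega)
    exact exists_ne 1
  obtain ⟨b, hb⟩ : ∃ b : ↥B, b ∉ ({1, a} : Finset ↥B) := by
    by_contra hc
    push Not at hc
    have h1 := Finset.card_le_card (s := Finset.univ) fun x _ => hc x
    rw [Finset.card_univ, hcB] at h1
    have h2 : ({1, a} : Finset ↥B).card ≤ 2 := Finset.card_le_two
    omega
  simp only [Finset.mem_insert, Finset.mem_singleton, not_or] at hb
  have haa : a * a = 1 := Subtype.ext (hsq a a.2)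
  have hab : a * b ≠ 1 := fun h => hb.2 (mul_left_cancel (h.trans haa.symm))
  have hall : ∀ x : ↥B, x = 1 ∨ x = a ∨ x = b ∨ x = a * b := by
    intro x
    have hcard : ({1, a, b, a * b} : Finset ↥B).card = 4 := by
      rw [Finset.card_insert_of_notMem, Finset.card_insert_of_notMem, Finset.card_insert_of_notMem,
        Finset.card_singleton]
      · simp only [Finset.mem_singleton]
        exact fun h => ha (mul_eq_right.1 h.symm)
      · simp only [Finset.mem_insert, Finset.mem_singleton, not_or]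
        exact ⟨Ne.symm hb.2, fun h => hb.1 (left_eq_mul.1 h)⟩
      · simp only [Finset.mem_insert, Finset.mem_singleton, not_or]
        exact ⟨Ne.symm ha, Ne.symm hb.1, Ne.symm hab⟩
    have hu : ({1, a, b, a * b} : Finset ↥B) = Finset.univ := Finset.eq_univ_of_card _ (hcard.trans hcB.symm)
    have := Finset.mem_univ x
    rw [← hu] at this
    simpa using this
  obtain ⟨a1, a2⟩ := hne a a.2 fun h => ha (Subtype.ext h)
  obtain ⟨b1, b2⟩ := hne b b.2 fun h => hb.1 (Subtype.ext h)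
  obtain ⟨c1, c2⟩ := hne (a * b : ↥B) (a * b).2 fun h => hab (Subtype.ext h)
  have hd1 : ((a : ↥B) : A4 × A4).1 ≠ ((b : ↥B) : A4 × A4).1 := fun h => c1 (by
    show ((a : ↥B) : A4 × A4).1 * ((b : ↥B) : A4 × A4).1 = 1
    rw [← h]; exact congrArg Prod.fst (hsq a a.2))
  have hd2 : ((a : ↥B) : A4 × A4).2 ≠ ((b : ↥B) : A4 × A4).2 := fun h => c2 (by
    show ((a : ↥B) : A4 × A4).2 * ((b : ↥B) : A4 × A4).2 = 1
    rw [← h]; exact congrArg Prod.snd (hsq a a.2))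
  -- the Sylow three-subgroup
  set M₁ := (Q : Subgroup _).map (MonoidHom.fst (alternatingGroup (Fin 4)) (alternatingGroup (Fin 4))) with hM₁
  set M₂ := (Q : Subgroup _).map (MonoidHom.snd (alternatingGroup (Fin 4)) (alternatingGroup (Fin 4))) with hM₂
  have hQ9 : 9 ∣ Nat.card (Q : Subgroup (alternatingGroup (Fin 4) × alternatingGroup (Fin 4))) :=
    Q.pow_dvd_card_of_pow_dvd_card (n := 2) (by rw [Nat.card_prod, card_A4]; norm_num)
  have hle : (Q : Subgroup _) ≤ M₁.prod M₂ := fun x hx =>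
    Subgroup.mem_prod.2 ⟨Subgroup.mem_map_of_mem _ hx, Subgroup.mem_map_of_mem _ hx⟩
  have hcprod : Nat.card ↥(M₁.prod M₂) = Nat.card M₁ * Nat.card M₂ := by
    rw [Nat.card_congr (Subgroup.prodEquiv M₁ M₂).toEquiv, Nat.card_prod]
  have h31 := Nat.le_of_dvd (by norm_num) (three_group (Q.isPGroup'.map (MonoidHom.fst _ _)))
  have h32 := Nat.le_of_dvd (by norm_num) (three_group (Q.isPGroup'.map (MonoidHom.snd _ _)))
  have hQle := Subgroup.card_le_of_le hle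
  rw [hcprod] at hQle
  have hQge := Nat.le_of_dvd Nat.card_pos hQ9
  rw [← hM₁] at h31
  rw [← hM₂] at h32
  have h1 : Nat.card M₁ = 3 := by nlinarith
  have h2 : Nat.card M₂ = 3 := by nlinarith
  have hQeq : (Q : Subgroup _) = M₁.prod M₂ := Subgroup.eq_of_le_of_card_ge hle (by rw [hcprod, h1, h2]; omega)
  obtain ⟨⟨s, hs⟩, hs'⟩ := exists_prime_orderOf_dvd_card' (G := M₁) 3 (h1 ▸ dvd_rfl)
  obtain ⟨⟨t, ht⟩, ht'⟩ := exists_prime_orderOf_dvd_card' (G := M₂) 3 (h2 ▸ dvd_rfl)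
  rw [Subgroup.orderOf_mk] at hs' ht'
  have h3 : ∀ {x : alternatingGroup (Fin 4)}, orderOf x = 3 → x * x * x = 1 ∧ x ≠ 1 := by
    intro x hx
    refine ⟨?_, fun h => by simp [h] at hx⟩
    have := pow_orderOf_eq_one x
    rwa [hx, pow_succ, pow_two] at this
  obtain ⟨hs3, hs1⟩ := h3 hs'
  obtain ⟨ht3, ht1⟩ := h3 ht'
  have cs := core _ _ s ⟨congrArg Prod.fst (hsq a a.2), congrArg Prod.fst (hsq b b.2), a1, b1, hd1, hs3, hs1⟩
  have ct := core _ _ t ⟨congrArg Prod.snd (hsq a a.2), congrArg Prod.snd (hsq b b.2), a2, b2, hd2, ht3, ht1⟩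
  -- the diagonal element
  obtain ⟨t', ht'M, ht'o, hA, hB'⟩ : ∃ t' ∈ M₂, orderOf t' = 3 ∧
      ((s, t') * ((a : ↥B) : A4 × A4) * (s, t')⁻¹ ∈ B) ∧ ((s, t') * ((b : ↥B) : A4 × A4) * (s, t')⁻¹ ∈ B) := by
    rcases cs with ⟨⟨x1, x2⟩, -⟩ | ⟨⟨x1, x2⟩, -⟩ <;>
      rcases ct with ⟨⟨y1, y2⟩, ⟨z1, z2⟩⟩ | ⟨⟨y1, y2⟩, ⟨z1, z2⟩⟩
    · exact ⟨t, ht, ht', by rw [show (s, t) * ((a : ↥B) : A4 × A4) * (s, t)⁻¹ = ((b : ↥B) : A4 × A4) from Prod.ext x1 y1]; exact b.2,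
        by rw [show (s, t) * ((b : ↥B) : A4 × A4) * (s, t)⁻¹ = ((a * b : ↥B) : A4 × A4) from Prod.ext x2 y2]; exact (a * b).2⟩
    · refine ⟨t⁻¹, inv_mem ht, by rw [orderOf_inv, ht'], ?_, ?_⟩
      · rw [show (s, t⁻¹) * ((a : ↥B) : A4 × A4) * (s, t⁻¹)⁻¹ = ((b : ↥B) : A4 × A4) from Prod.ext x1 (by simpa using z1)]
        exact b.2
      · rw [show (s, t⁻¹) * ((b : ↥B) : A4 × A4) * (s, t⁻¹)⁻¹ = ((a * b : ↥B) : A4 × A4) from Prod.ext x2 (by simpa using z2)]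
        exact (a * b).2
    · refine ⟨t⁻¹, inv_mem ht, by rw [orderOf_inv, ht'], ?_, ?_⟩
      · rw [show (s, t⁻¹) * ((a : ↥B) : A4 × A4) * (s, t⁻¹)⁻¹ = ((a * b : ↥B) : A4 × A4) from Prod.ext x1 (by simpa using z1)]
        exact (a * b).2
      · rw [show (s, t⁻¹) * ((b : ↥B) : A4 × A4) * (s, t⁻¹)⁻¹ = ((a : ↥B) : A4 × A4) from Prod.ext x2 (by simpa using z2)]
        exact a.2
    · exact ⟨t, ht, ht', by rw [show (s, t) * ((a : ↥B) : A4 × A4) * (s, t)⁻¹ = ((a * b : ↥B) : A4 × A4) from Prod.ext x1 y1]; exact (a * b).2,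
        by rw [show (s, t) * ((b : ↥B) : A4 × A4) * (s, t)⁻¹ = ((a : ↥B) : A4 × A4) from Prod.ext x2 y2]; exact a.2⟩
  set g := (s, t') with hg
  have hgQ : g ∈ (Q : Subgroup _) := by rw [hQeq]; exact Subgroup.mem_prod.2 ⟨hs, ht'M⟩
  refine ⟨Subgroup.zpowers g, Subgroup.zpowers_le.2 hgQ, ?_, ?_, ?_, ?_⟩
  · rw [Nat.card_zpowers, hg, Prod.orderOf_mk, hs', ht'o]; rfl
  · intro h
    have := (h.le (Subgroup.mem_zpowers g)).2
    have e := (Subgroup.mem_prod.1 this).2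
    exact (h3 ht'o).2 (Subgroup.mem_bot.1 e)
  · intro h
    have := (h.le (Subgroup.mem_zpowers g)).2
    exact hs1 (Subgroup.mem_bot.1 (Subgroup.mem_prod.1 this).1)
  · rw [Subgroup.zpowers_le, Subgroup.mem_normalizer_iff_map_conj_eq]
    refine Subgroup.eq_of_le_of_card_ge ?_ (by rw [Subgroup.card_map_of_injective (MulAut.conj g).injective])
    rintro _ ⟨x, hx, rfl⟩
    show g * x * g⁻¹ ∈ B
    rcases hall ⟨x, hx⟩ with e | e | e | e <;> replace e : x = _ := congrArg Subtype.val e <;> subst e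
    · simp
    · exact hA
    · exact hB'
    · have := B.mul_mem hA hB'
      simpa [mul_assoc] using this

end Cfsg.Agent.S4406
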