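import Cfsg.Prelude.Def_Transfer
import Mathlib.GroupTheory.SpecificGroups.Dihedral
import Mathlib.RepresentationTheory.Basic
import Mathlib.Algebra.Module.ZMod
import Mathlib.GroupTheory.PGroup
import Mathlib.Tactic.Abel

/-! Faithful irreducible `F₂`-modules for `3² ⋊ D₈`. -/

set_option autoImplicit false
set_option linter.style.haveILetI false

namespace Cfsg.Agent.S4407

private theorem d4_refl : ∀ i : ZMod 4,
    DihedralGroup.sr i * DihedralGroup.sr i = 1 ∧
      DihedralGroup.sr i * DihedralGroup.r 1 * DihedralGroup.sr i = (DihedralGroup.r 1)⁻¹ ∧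
      DihedralGroup.sr i ≠ DihedralGroup.r 1 * DihedralGroup.r 1 := by decide

private theorem d4_pair : ∀ x y : DihedralGroup 4, x * x = 1 → y * y = 1 → x * y = y * x → x ≠ 1 → y ≠ 1 → x ≠ y →
    x = DihedralGroup.r 2 ∨ y = DihedralGroup.r 2 ∨ x * y = DihedralGroup.r 2 := by decide

private theorem d4_invol : ∀ (i : ZMod 4) (x : DihedralGroup 4), x * x = 1 →
    x = 1 ∨ x = DihedralGroup.r 2 ∨ x = DihedralGroup.sr i ∨ x = DihedralGroup.sr i * DihedralGroup.r 2 ∨
      x = DihedralGroup.sr i * DihedralGroup.r 1 ∨ x = DihedralGroup.sr i * DihedralGroup.r 1 * DihedralGroup.r 2 := by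
  decide

private theorem d4_succ : ∀ i : ZMod 4, DihedralGroup.sr i * DihedralGroup.r 1 = DihedralGroup.sr (i + 1) := by decide

private theorem d4_z : (DihedralGroup.r 1 * DihedralGroup.r 1 : DihedralGroup 4) = DihedralGroup.r 2 ∧
    (DihedralGroup.r 2 : DihedralGroup 4) * DihedralGroup.r 2 = 1 ∧ (DihedralGroup.r 2 : DihedralGroup 4) ≠ 1 := by
  decide

variable {S : Type*} [Group S] {M : Type*} [AddCommGroup M] [Module (ZMod 2) M]
  (ρ : Representation (ZMod 2) S M)

private theorem ap_mul (g h : S) (m : M) : ρ (g * h) m = ρ g (ρ h m) := by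
  rw [map_mul]; rfl

private theorem ap_one (m : M) : ρ 1 m = m := by rw [map_one]; rfl

private theorem ap_cancel (g : S) (m : M) : ρ g⁻¹ (ρ g m) = m := by
  rw [← ap_mul, inv_mul_cancel, ap_one]

/-- three-term sum over a subgroup of order three -/
private def sum3 (g : S) (m : M) : M := m + ρ g m + ρ (g * g) m

private theorem sum3_fixed {g : S} (hg : g * g * g = 1) (m : M) : ρ g (sum3 ρ g m) = sum3 ρ g m := by
  rw [sum3, map_add, map_add, ← ap_mul, ← ap_mul, ← mul_assoc, hg, ap_one]
  abel

private theorem two_smul_eq (x : M) : x + x = 0 := ZModModule.add_self x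

private theorem cancel (x y : M) : x + (x + y) = y := by rw [← add_assoc, two_smul_eq, zero_add]

theorem result {S : Type*} [Group S] [Finite S]
    (A : Subgroup S) [A.Normal] (hA : Cfsg.IsElementaryAbelian 3 A) (hA9 : Nat.card ↥A = 9)
    (hAC : Subgroup.centralizer (A : Set S) = A) (X : Subgroup S) (hX : Nonempty (↥X ≃* DihedralGroup 4)) (hAX : A ⊔ X = ⊤)
    {M : Type*} [AddCommGroup M] [Module (ZMod 2) M] [Finite M] (ρ : Representation (ZMod 2) S M)
    (hfaith : Function.Injective ρ)
    (hirr : ∀ N : Submodule (ZMod 2) M, (∀ s : S, ∀ m ∈ N, ρ s m ∈ N) → N = ⊥ ∨ N = ⊤) (hM : Nontrivial M) :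
    Nat.card M = 16 ∧
      ∃! B : Subgroup S, B ≤ X ∧ Nat.card ↥B = 4 ∧ (∀ b ∈ B, b ^ 2 = 1) ∧
        Nat.card {m : M // ∀ b ∈ B, ρ b m = m} = 2 := by
  obtain ⟨e⟩ := hX
  have hcomm : ∀ {x y : S}, x ∈ A → y ∈ A → x * y = y * x := fun {x y} hx hy =>
    congrArg Subtype.val (hA.1.is_comm.comm ⟨x, hx⟩ ⟨y, hy⟩)
  have hcube : ∀ {x : S}, x ∈ A → x * x * x = 1 := fun {x} hx => by
    rw [← hA.2 x hx, pow_three, mul_assoc]
  have hconj : ∀ (g : S) {x : S}, x ∈ A → g * x * g⁻¹ ∈ A := fun g {x} hx =>
    (inferInstance : A.Normal).conj_mem x hx g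
  have hXA : ∀ {g : S}, g ∈ X → g ∈ A → g = 1 := by
    intro g hgX hgA
    have h1 : orderOf g ∣ 8 := by
      have := Subgroup.orderOf_dvd_natCard X hgX
      rwa [Nat.card_congr e.toEquiv, DihedralGroup.nat_card] at this
    have h2 : orderOf g ∣ 3 := orderOf_dvd_of_pow_eq_one (hA.2 g hgA)
    exact orderOf_eq_one_iff.1 (Nat.eq_one_of_dvd_coprimes (by norm_num) h1 h2)
  -- a faithful action of `X` on `A`
  have hact : ∀ {g : S}, g ∈ X → (∀ x ∈ A, g * x = x * g) → g = 1 := fun {g} hg h =>
    hXA hg (hAC.le (Subgroup.mem_centralizer_iff.2 fun x hx => (h x hx).symm))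
  set R : S := ((e.symm (DihedralGroup.r 1) : X) : S) with hR
  set Z : S := ((e.symm (DihedralGroup.r 2) : X) : S) with hZ
  have pull : ∀ x y : DihedralGroup 4, ((e.symm (x * y) : X) : S) = (e.symm x : X) * (e.symm y : X) := fun x y => by
    rw [map_mul, Subgroup.coe_mul]
  have pull1 : ((e.symm 1 : X) : S) = 1 := by rw [map_one, Subgroup.coe_one]
  have hRX : R ∈ X := SetLike.coe_mem _
  have hZX : Z ∈ X := SetLike.coe_mem _
  have hRR : R * R = Z := by rw [hR, hZ, ← pull, d4_z.1]
  have hZZ : Z * Z = 1 := by rw [hZ, ← pull, d4_z.2.1, pull1]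
  have hZ1 : Z ≠ 1 := fun h => d4_z.2.2 (e.symm.injective (Subtype.ext (h.trans pull1.symm)))
  have hZi : Z⁻¹ = Z := inv_eq_of_mul_eq_one_right hZZ
  -- the central involution inverts `A`
  have hZinv : ∀ x ∈ A, Z * x * Z = x⁻¹ := by
    have hfix : ∀ x ∈ A, Z * x * Z = x → x = 1 := by
      intro x hx hxZ
      by_contra hx1
      have hxZ' : Z * x = x * Z := by
        calc Z * x = Z * x * (Z * Z) := by rw [hZZ, mul_one]
          _ = Z * x * Z * Z := by group
          _ = x * Z := by rw [hxZ]
      set y := R * x * R⁻¹ with hy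
      have hyA : y ∈ A := hconj R hx
      have hyy : R * y * R⁻¹ = x := by
        rw [hy, show R * (R * x * R⁻¹) * R⁻¹ = (R * R) * x * (R * R)⁻¹ by group, hRR, hxZ', mul_inv_cancel_right]
      apply hZ1
      refine hact hZX ?_
      have key : ∀ w ∈ A, R * w * R⁻¹ = w ∨ R * w * R⁻¹ = w⁻¹ → Z * w = w * Z := by
        intro w _ hw
        have : (R * R) * w * (R * R)⁻¹ = w := by
          rw [show (R * R) * w * (R * R)⁻¹ = R * (R * w * R⁻¹) * R⁻¹ by group]
          rcases hw with h | h <;> rw [h]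
          · exact h
          · rw [show R * w⁻¹ * R⁻¹ = (R * w * R⁻¹)⁻¹ by group, h, inv_inv]
        rw [hRR, mul_inv_eq_iff_eq_mul] at this
        exact this
      -- `x` and `R x R⁻¹` are fixed by `Z`; they generate `A` unless `R` fixes the line of `x`
      by_cases hline : y = x ∨ y = x⁻¹
      · -- the second eigenline
        intro w hw
        by_contra hne
        set u := (Z * w * Z)⁻¹ * w with hu
        have hZw : Z * w * Z ∈ A := by
          have := hconj Z hw
          rwa [hZi] at this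
        have huA : u ∈ A := A.mul_mem (A.inv_mem hZw) hw
        have hu1 : u ≠ 1 := fun h => hne (by
          rw [hu, inv_mul_eq_one] at h
          calc Z * w = Z * w * (Z * Z) := by rw [hZZ, mul_one]
            _ = Z * w * Z * Z := by group
            _ = w * Z := by rw [h])
        have huinv : Z * u * Z = u⁻¹ := by
          rw [hu]
          calc Z * ((Z * w * Z)⁻¹ * w) * Z = Z * Z⁻¹ * w⁻¹ * (Z⁻¹ * w * Z) := by group
            _ = w⁻¹ * (Z * w * Z) := by rw [mul_inv_cancel, one_mul, hZi]
            _ = ((Z * w * Z)⁻¹ * w)⁻¹ := by group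
        set v := R * u * R⁻¹ with hv
        have hvinv : Z * v * Z = v⁻¹ := by
          have hZR : Z * R = R * Z := by rw [← hRR, mul_assoc]
          have hRZ : R⁻¹ * Z = Z * R⁻¹ := by rw [← hRR]; group
          calc Z * (R * u * R⁻¹) * Z = (Z * R) * u * (R⁻¹ * Z) := by group
            _ = R * (Z * u * Z) * R⁻¹ := by rw [hZR, hRZ]; group
            _ = (R * u * R⁻¹)⁻¹ := by rw [huinv]; group
        -- `v` lies on the line of `u`
        have hxu : ∀ g ∈ A, Z * g * Z = g⁻¹ → g ∈ Subgroup.zpowers u := by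
          intro g hg hginv
          have hxu' : x ∉ Subgroup.zpowers u := by
            intro hh
            obtain ⟨k, hk⟩ := Subgroup.mem_zpowers_iff.1 hh
            apply hx1
            have h5 : Z * x * Z = x⁻¹ := by
              rw [← hk]
              calc Z * u ^ k * Z = MulAut.conj Z (u ^ k) := by rw [MulAut.conj_apply, hZi]
                _ = (u ^ k)⁻¹ := by rw [map_zpow, MulAut.conj_apply, hZi, huinv, inv_zpow]
            rw [hxZ] at h5
            have h6 : x * x = 1 := mul_eq_one_iff_eq_inv.2 h5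
            have h7 := hcube hx
            rwa [h6, one_mul] at h7
          have htop : Subgroup.zpowers u ⊔ Subgroup.zpowers x = A := by
            have hle : Subgroup.zpowers u ⊔ Subgroup.zpowers x ≤ A :=
              sup_le (Subgroup.zpowers_le.2 huA) (Subgroup.zpowers_le.2 hx)
            refine Subgroup.eq_of_le_of_card_ge hle ?_
            have hou : orderOf u = 3 := by
              haveI : Fact (Nat.Prime 3) := ⟨Nat.prime_three⟩
              exact orderOf_eq_prime (hA.2 u huA) hu1
            have hlt : Subgroup.zpowers u < Subgroup.zpowers u ⊔ Subgroup.zpowers x :=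
              lt_of_le_of_ne le_sup_left fun hh =>
                hxu' (hh ▸ Subgroup.mem_sup_right (Subgroup.mem_zpowers x))
            have hd := Subgroup.card_dvd_of_le hle
            rw [hA9] at hd ⊢
            have h3 : 3 < Nat.card ↥(Subgroup.zpowers u ⊔ Subgroup.zpowers x) := by
              have := Set.ncard_lt_ncard (SetLike.coe_ssubset_coe.2 hlt) (Set.toFinite _)
              rw [← Nat.card_coe_set_eq, ← Nat.card_coe_set_eq] at this
              change Nat.card (Subgroup.zpowers u) < Nat.card ↥(Subgroup.zpowers u ⊔ Subgroup.zpowers x) at this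
              rwa [Nat.card_zpowers, hou] at this
            have h9 := Nat.le_of_dvd (by norm_num) hd
            revert hd h3 h9
            generalize Nat.card ↥(Subgroup.zpowers u ⊔ Subgroup.zpowers x) = c
            intro hd h3 h9
            interval_cases c <;> first | omega | (norm_num at hd)
          have hnorm : Subgroup.zpowers x ≤ Subgroup.normalizer (Subgroup.zpowers u : Set S) := by
            refine Subgroup.zpowers_le.2 (Subgroup.mem_normalizer_iff.2 fun q => ?_)
            have hc : ∀ q ∈ A, x * q * x⁻¹ = q := fun q hq => by rw [hcomm hx hq, mul_inv_cancel_right]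
            refine ⟨fun hq => by rw [hc q (Subgroup.zpowers_le.2 huA hq)]; exact hq, fun hq => ?_⟩
            have hqA : q ∈ A := by
              have := A.mul_mem (A.mul_mem (A.inv_mem hx) (Subgroup.zpowers_le.2 huA hq)) hx
              rwa [show x⁻¹ * (x * q * x⁻¹) * x = q by group] at this
            rwa [hc q hqA] at hq
          have hg' : g ∈ (Subgroup.zpowers u ⊔ Subgroup.zpowers x : Subgroup S) := by rw [htop]; exact hg
          rw [← SetLike.mem_coe, Subgroup.coe_mul_of_right_le_normalizer_left _ _ hnorm] at hg'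
          obtain ⟨g₁, hg₁, g₂, hg₂, hgg⟩ := hg'
          simp only at hgg
          obtain ⟨k, rfl⟩ := Subgroup.mem_zpowers_iff.1 hg₁
          obtain ⟨j, rfl⟩ := Subgroup.mem_zpowers_iff.1 hg₂
          have hj : MulAut.conj Z (x ^ j) = x ^ j := by rw [map_zpow, MulAut.conj_apply, hZi, hxZ]
          have hk : MulAut.conj Z (u ^ k) = (u ^ k)⁻¹ := by rw [map_zpow, MulAut.conj_apply, hZi, huinv, inv_zpow]
          have h5 : MulAut.conj Z g = g⁻¹ := by rw [MulAut.conj_apply, hZi, hginv]
          rw [← hgg, map_mul, hj, hk, mul_inv_rev,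
            hcomm (A.inv_mem (A.zpow_mem hx j)) (A.inv_mem (A.zpow_mem huA k))] at h5
          have h6 : x ^ j * x ^ j = 1 := mul_eq_one_iff_eq_inv.2 (mul_left_cancel h5)
          have h7 := hcube (A.zpow_mem hx j)
          rw [h6, one_mul] at h7
          rw [← hgg, h7, mul_one]
          exact Subgroup.zpow_mem _ (Subgroup.mem_zpowers u) k
        obtain ⟨k, hk⟩ := Subgroup.mem_zpowers_iff.1 (hxu v (hconj R huA) hvinv)
        have hv' : v = u ∨ v = u⁻¹ := by
          have h3 : u ^ (3 : ℤ) = 1 := by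
            rw [show (3 : ℤ) = ((3 : ℕ) : ℤ) by norm_num, zpow_natCast, hA.2 u huA]
          have hred : v = u ^ (k % 3) := by
            rw [← hk]
            conv_lhs => rw [← Int.emod_add_mul_ediv k 3, zpow_add, zpow_mul, h3, one_zpow, mul_one]
          rcases (show k % 3 = 0 ∨ k % 3 = 1 ∨ k % 3 = 2 by omega) with h | h | h <;> rw [h] at hred
          · rw [zpow_zero] at hred
            exact absurd (by rw [hv, mul_inv_eq_one, mul_eq_left] at hred; exact hred) hu1
          · exact Or.inl (by rw [hred, zpow_one])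
          · right
            rw [hred, eq_inv_iff_mul_eq_one, zpow_two, hcube huA]
        have h5 := key u huA hv'
        rw [h5, mul_assoc, hZZ, mul_one] at huinv
        have h6 : u * u = 1 := mul_eq_one_iff_eq_inv.2 huinv
        have h7 := hcube huA
        rw [h6, one_mul] at h7
        exact hu1 h7
      · -- `x` and `y` generate `A`
        push Not at hline
        intro w hw
        have hyZ' : Z * y = y * Z := by
          have hZR : Z * R = R * Z := by rw [← hRR, mul_assoc]
          have hRZ : R⁻¹ * Z = Z * R⁻¹ := by rw [← hRR]; group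
          calc Z * (R * x * R⁻¹) = (Z * R) * x * R⁻¹ := by group
            _ = R * (Z * x) * R⁻¹ := by rw [hZR]; group
            _ = R * x * (Z * R⁻¹) := by rw [hxZ']; group
            _ = R * x * R⁻¹ * Z := by rw [← hRZ]; group
        have hcen : Subgroup.zpowers x ⊔ Subgroup.zpowers y ≤ Subgroup.centralizer ({Z} : Set S) :=
          sup_le (Subgroup.zpowers_le.2 (Subgroup.mem_centralizer_singleton_iff.2 hxZ'.symm))
            (Subgroup.zpowers_le.2 (Subgroup.mem_centralizer_singleton_iff.2 hyZ'.symm))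
        have hle : Subgroup.zpowers x ⊔ Subgroup.zpowers y ≤ A :=
          sup_le (Subgroup.zpowers_le.2 hx) (Subgroup.zpowers_le.2 hyA)
        have htop : Subgroup.zpowers x ⊔ Subgroup.zpowers y = A := by
          refine Subgroup.eq_of_le_of_card_ge hle ?_
          have hox : orderOf x = 3 := by
            haveI : Fact (Nat.Prime 3) := ⟨Nat.prime_three⟩
            exact orderOf_eq_prime (hA.2 x hx) hx1
          have hnot : y ∉ Subgroup.zpowers x := by
            intro hh
            obtain ⟨k, hk⟩ := Subgroup.mem_zpowers_iff.1 hh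
            have h3 : x ^ (3 : ℤ) = 1 := by
              rw [show (3 : ℤ) = ((3 : ℕ) : ℤ) by norm_num, zpow_natCast, hA.2 x hx]
            have hred : y = x ^ (k % 3) := by
              rw [← hk]
              conv_lhs => rw [← Int.emod_add_mul_ediv k 3, zpow_add, zpow_mul, h3, one_zpow, mul_one]
            rcases (show k % 3 = 0 ∨ k % 3 = 1 ∨ k % 3 = 2 by omega) with h | h | h <;> rw [h] at hred
            · rw [zpow_zero] at hred
              exact hx1 (by rw [hy, mul_inv_eq_one, mul_eq_left] at hred; exact hred)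
            · exact hline.1 (by rw [hred, zpow_one])
            · exact hline.2 (by rw [hred, eq_inv_iff_mul_eq_one, zpow_two, hcube hx])
          have hlt : Subgroup.zpowers x < Subgroup.zpowers x ⊔ Subgroup.zpowers y :=
            lt_of_le_of_ne le_sup_left fun hh => hnot (hh ▸ Subgroup.mem_sup_right (Subgroup.mem_zpowers y))
          have hd := Subgroup.card_dvd_of_le hle
          rw [hA9] at hd ⊢
          have h3 : 3 < Nat.card ↥(Subgroup.zpowers x ⊔ Subgroup.zpowers y) := by
            have := Set.ncard_lt_ncard (SetLike.coe_ssubset_coe.2 hlt) (Set.toFinite _)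
            rw [← Nat.card_coe_set_eq, ← Nat.card_coe_set_eq] at this
            change Nat.card (Subgroup.zpowers x) < Nat.card ↥(Subgroup.zpowers x ⊔ Subgroup.zpowers y) at this
            rwa [Nat.card_zpowers, hox] at this
          have h9 := Nat.le_of_dvd (by norm_num) hd
          revert hd h3 h9
          generalize Nat.card ↥(Subgroup.zpowers x ⊔ Subgroup.zpowers y) = c
          intro hd h3 h9
          interval_cases c <;> first | omega | (norm_num at hd)
        exact (Subgroup.mem_centralizer_singleton_iff.1 (hcen (htop.ge hw))).symm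
    intro x hx
    have hZx : Z * x * Z ∈ A := by
      have := hconj Z hx
      rwa [hZi] at this
    have := hfix (x * (Z * x * Z)) (A.mul_mem hx hZx) (by
      calc Z * (x * (Z * x * Z)) * Z = (Z * x * Z) * x * (Z * Z) := by group
        _ = x * (Z * x * Z) := by rw [hZZ, mul_one, hcomm hZx hx])
    exact eq_inv_of_mul_eq_one_right this
  -- fixed points of `A` are trivial
  have hCA : ∀ m : M, (∀ x ∈ A, ρ x m = m) → m = 0 := by
    intro m hm
    let N : Submodule (ZMod 2) M := ⨅ x : A, LinearMap.eqLocus (ρ (x : S)) LinearMap.id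
    have hN : ∀ v, v ∈ N ↔ ∀ x ∈ A, ρ x v = v := by
      intro v
      simp [N, Submodule.mem_iInf, LinearMap.mem_eqLocus]
    rcases hirr N (fun s v hv => by
      rw [hN] at hv ⊢
      intro x hx
      rw [← ap_mul, show x * s = s * (s⁻¹ * x * s) by group, ap_mul,
        hv _ (by simpa using hconj s⁻¹ hx)]) with h | h
    · have : m ∈ N := (hN m).2 hm
      rwa [h, Submodule.mem_bot] at this
    · exfalso
      have hA1 : ∀ x ∈ A, x = 1 := fun x hx => hfaith (LinearMap.ext fun v => by
        rw [ap_one]; exact (hN v).1 (h ▸ Submodule.mem_top) x hx)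
      have : A = ⊥ := eq_bot_iff.2 fun x hx => Subgroup.mem_bot.2 (hA1 x hx)
      rw [this, Subgroup.card_bot] at hA9
      omega
  -- a reflection, a fixed element of `A`, and a vector fixed by it
  have hrefl : ∀ i : ZMod 4, ∃ a ∈ A, a ≠ 1 ∧
      ((e.symm (DihedralGroup.sr i) : X) : S) * a = a * (e.symm (DihedralGroup.sr i) : X) := by
    intro i
    set T : S := ((e.symm (DihedralGroup.sr i) : X) : S) with hT
    have hTT : T * T = 1 := by rw [hT, ← pull, (d4_refl i).1, pull1]
    have hTi : T⁻¹ = T := inv_eq_of_mul_eq_one_right hTT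
    by_contra h
    push Not at h
    have hinv : ∀ x ∈ A, T * x * T = x⁻¹ := by
      intro x hx
      have hTx : T * x * T ∈ A := by
        have := hconj T hx
        rwa [hTi] at this
      by_contra hne
      refine h (x * (T * x * T)) (A.mul_mem hx hTx) (fun h1 => hne (eq_inv_of_mul_eq_one_right h1)) ?_
      calc T * (x * (T * x * T)) = T * x * T * (x * T) := by group
        _ = (T * x * T * x) * T := by group
        _ = x * (T * x * T) * T := by rw [hcomm hTx hx]
    have h1 : T * Z = 1 := by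
      refine hact (X.mul_mem (SetLike.coe_mem _) hZX) fun x hx => ?_
      calc T * Z * x = T * (Z * x * Z) * Z := by
            rw [show T * (Z * x * Z) * Z = T * Z * x * (Z * Z) by group, hZZ, mul_one]
        _ = T * x⁻¹ * (T * T) * Z := by rw [hZinv x hx, hTT, mul_one]
        _ = (T * x⁻¹ * T) * (T * Z) := by group
        _ = x * (T * Z) := by rw [hinv x⁻¹ (A.inv_mem hx), inv_inv]
    apply (d4_refl i).2.2
    apply e.symm.injective
    apply Subtype.ext
    rw [← hT, pull, ← hR, hRR]
    exact (eq_inv_of_mul_eq_one_left h1).trans hZi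
  obtain ⟨v₀, hv₀⟩ := exists_ne (0 : M)
  obtain ⟨i, a, haA, ha1, hTa, w₀, hw₀, haw₀⟩ : ∃ (i : ZMod 4) (a : S), a ∈ A ∧ a ≠ 1 ∧
      ((e.symm (DihedralGroup.sr i) : X) : S) * a = a * (e.symm (DihedralGroup.sr i) : X) ∧
        ∃ w : M, w ≠ 0 ∧ ρ a w = w := by
    obtain ⟨a, ha, ha1, hta⟩ := hrefl 0
    by_contra hall
    push Not at hall
    have hzero : ∀ m, sum3 ρ a m = 0 := fun m => by
      by_contra hh
      exact hall 0 a ha ha1 hta _ hh (sum3_fixed ρ (hcube ha) m)
    set b := R * a * R⁻¹ with hb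
    have hbA : b ∈ A := hconj R ha
    have hzerob : ∀ m, sum3 ρ b m = 0 := by
      intro m
      by_contra hh
      refine hall 0 a ha ha1 hta (ρ R⁻¹ (sum3 ρ b m)) (fun h0 => hh ?_) ?_
      · have := congrArg (ρ R) h0
        rwa [← ap_mul, mul_inv_cancel, ap_one, map_zero] at this
      · rw [← ap_mul, show a * R⁻¹ = R⁻¹ * b by rw [hb]; group, ap_mul, sum3_fixed ρ (hcube hbA)]
    -- the sums over the four lines
    set T : S := ((e.symm (DihedralGroup.sr 0) : X) : S) with hT
    have hTT : T * T = 1 := by rw [hT, ← pull, (d4_refl 0).1, pull1]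
    have hTi : T⁻¹ = T := inv_eq_of_mul_eq_one_right hTT
    have hTR : T * R * T = R⁻¹ := by
      rw [hT, hR, ← pull, ← pull, (d4_refl 0).2.1, map_inv, Subgroup.coe_inv]
    have hRZ : R⁻¹ = R * Z := by
      refine inv_eq_of_mul_eq_one_right ?_
      rw [← mul_assoc, hRR, hZZ]
    have hTb : T * b * T = b⁻¹ := by
      calc T * (R * a * R⁻¹) * T = T * R * (T * T) * a * (T * T) * R⁻¹ * T := by rw [hTT]; group
        _ = (T * R * T) * (T * a * T⁻¹) * (T * R * T)⁻¹ := by
          rw [mul_inv_rev, mul_inv_rev, hTi]; group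
        _ = R⁻¹ * a * R := by rw [hTR, hta, mul_inv_cancel_right, inv_inv]
        _ = (R * Z) * a * (R * Z)⁻¹ := by rw [← hRZ, inv_inv]
        _ = R * (Z * a * Z) * R⁻¹ := by rw [mul_inv_rev, hZi]; group
        _ = (R * a * R⁻¹)⁻¹ := by rw [hZinv a ha]; group
    have hRb : R * b * R⁻¹ = a⁻¹ := by
      rw [hb, show R * (R * a * R⁻¹) * R⁻¹ = R * R * a * (R * R)⁻¹ by group, hRR, hZi, hZinv a ha]
    set T' : S := ((e.symm (DihedralGroup.sr (0 + 1)) : X) : S) with hT'
    have hT'e : T' = T * R := by rw [hT', ← d4_succ, pull]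
    obtain ⟨c, hc, hc1, htc⟩ := hrefl (0 + 1)
    rw [← hT'] at htc
    have hzeroc : ∀ m, sum3 ρ c m = 0 := fun m => by
      by_contra hh
      exact hall (0 + 1) c hc hc1 (hT' ▸ htc) _ hh (sum3_fixed ρ (hcube hc) m)
    set d := R * c * R⁻¹ with hd
    have hdA : d ∈ A := hconj R hc
    have hzerod : ∀ m, sum3 ρ d m = 0 := by
      intro m
      by_contra hh
      refine hall (0 + 1) c hc hc1 (hT' ▸ htc) (ρ R⁻¹ (sum3 ρ d m)) (fun h0 => hh ?_) ?_
      · have := congrArg (ρ R) h0
        rwa [← ap_mul, mul_inv_cancel, ap_one, map_zero] at this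
      · rw [← ap_mul, show c * R⁻¹ = R⁻¹ * d by rw [hd]; group, ap_mul, sum3_fixed ρ (hcube hdA)]
    -- `a` has no fixed vector, so neither has `b`; compare with `c = a ^ i b ^ j`
    have hba : b * a = a * b := hcomm hbA ha
    have hab : ∀ m, sum3 ρ (a * b) m + sum3 ρ (a * b⁻¹) m = m + sum3 ρ a (sum3 ρ b m) + sum3 ρ a m + sum3 ρ b m := by
      intro m
      have ha2 : a⁻¹ = a * a := inv_eq_of_mul_eq_one_right (by rw [← mul_assoc, hcube ha])
      have hb2 : b⁻¹ = b * b := inv_eq_of_mul_eq_one_right (by rw [← mul_assoc, hcube hbA])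
      have e1 : a * b * (a * b) = a * a * (b * b) := by
        rw [show a * b * (a * b) = a * (b * a) * b by group, hba]; group
      have e2 : a * (b * b) * (a * (b * b)) = a * a * b := by
        calc a * (b * b) * (a * (b * b)) = a * ((b * b) * a) * (b * b) := by group
          _ = a * (a * (b * b)) * (b * b) := by rw [hcomm (A.mul_mem hbA hbA) ha]
          _ = a * a * b * (b * b * b) := by group
          _ = a * a * b := by rw [hcube hbA, mul_one]
      rw [hb2]
      simp only [sum3, e1, e2, map_add, ← ap_mul]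
      have t : ∀ x : M, x + x = 0 := two_smul_eq
      have expand : ∀ x₀ x₁ x₂ y₁ y₂ z₁ z₂ z₃ z₄ : M,
          (x₀ + z₁ + z₂) + (x₀ + z₃ + z₄) =
            x₀ + ((x₀ + y₁ + y₂) + (x₁ + z₁ + z₃) + (x₂ + z₄ + z₂)) + (x₀ + x₁ + x₂) + (x₀ + y₁ + y₂) := by
        intro x₀ x₁ x₂ y₁ y₂ z₁ z₂ z₃ z₄
        calc (x₀ + z₁ + z₂) + (x₀ + z₃ + z₄)
            = (x₀ + x₀) + (z₁ + z₂ + z₃ + z₄) := by abel
          _ = (x₀ + x₀) + (x₀ + x₀) + (y₁ + y₁) + (y₂ + y₂) + (x₁ + x₁) + (x₂ + x₂) + (z₁ + z₂ + z₃ + z₄) := by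
              simp only [t, add_zero, zero_add]
          _ = _ := by abel
      exact expand _ _ _ _ _ _ _ _ _
    have hsum : ∀ m, sum3 ρ (a * b) m + sum3 ρ (a * b⁻¹) m = m := fun m => by
      rw [hab, hzero, hzero, hzerob, add_zero, add_zero, add_zero]
    -- `c` lies on the line of `a * b` or of `a * b⁻¹`, and `R` swaps them
    have hT'ab : T' * (a * b) = (a * b)⁻¹ * T' ∧ T' * (a * b⁻¹) = (a * b⁻¹) * T' := by
      have hTa' : T * a * T = a := by rw [hta, mul_assoc, hTT, mul_one]
      have h5 : ∀ x : S, T' * x = (T * (R * x * R⁻¹) * T) * T' := fun x => by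
        calc T' * x = T * (R * x * R⁻¹) * (T * T) * R := by rw [hT'e, hTT]; group
          _ = (T * (R * x * R⁻¹) * T) * T' := by rw [hT'e]; group
      constructor
      · rw [h5]
        congr 1
        rw [show R * (a * b) * R⁻¹ = (R * a * R⁻¹) * (R * b * R⁻¹) by group, hRb, ← hb, mul_inv_rev]
        calc T * (b * a⁻¹) * T = (T * b * T) * (T * T)⁻¹ * (T⁻¹ * a * T⁻¹)⁻¹ := by group
          _ = b⁻¹ * a⁻¹ := by rw [hTb, hTT, hTi, hTa', inv_one, mul_one]
      · rw [h5]
        congr 1
        rw [show R * (a * b⁻¹) * R⁻¹ = (R * a * R⁻¹) * (R * b * R⁻¹)⁻¹ by group, hRb, inv_inv, ← hb]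
        calc T * (b * a) * T = (T * b * T) * (T * T)⁻¹ * (T * a * T) := by group
          _ = a * b⁻¹ := by rw [hTb, hTT, hTa', inv_one, mul_one, hcomm (A.inv_mem hbA) ha]
    have hfx : ∀ m, sum3 ρ (a * b⁻¹) m = 0 := by
      intro m
      by_contra hh
      have habA : a * b⁻¹ ∈ A := A.mul_mem ha (A.inv_mem hbA)
      refine hall (0 + 1) (a * b⁻¹) habA ?_ (hT' ▸ hT'ab.2) _ hh (sum3_fixed ρ (hcube habA) m)
      intro hab1
      rw [mul_inv_eq_one] at hab1
      rw [← hab1, hta, mul_assoc, hTT, mul_one] at hTb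
      have h6 : a * a = 1 := mul_eq_one_iff_eq_inv.2 hTb
      have h7 := hcube ha
      rw [h6, one_mul] at h7
      exact ha1 h7
    have hfy : ∀ m, sum3 ρ (a * b) m = 0 := by
      intro m
      have habA : a * b ∈ A := A.mul_mem ha hbA
      by_contra hh
      set q := R * (a * b) * R⁻¹ with hq
      have hqe : q = (a * b⁻¹)⁻¹ := by
        rw [hq, show R * (a * b) * R⁻¹ = (R * a * R⁻¹) * (R * b * R⁻¹) by group, hRb, ← hb, mul_inv_rev, inv_inv]
      have hqA : q ∈ A := hconj R habA
      have hfix : ρ q (ρ R (sum3 ρ (a * b) m)) = ρ R (sum3 ρ (a * b) m) := by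
        rw [← ap_mul, show q * R = R * (a * b) by rw [hq]; group, ap_mul, sum3_fixed ρ (hcube habA)]
      set u := ρ R (sum3 ρ (a * b) m) with hu
      have hu0 : u ≠ 0 := fun h0 => hh (by
        have := congrArg (ρ R⁻¹) h0
        rwa [hu, ap_cancel, map_zero] at this)
      have hu' : ρ (a * b⁻¹) u = u := by
        conv_lhs => rw [← hfix, hqe, ← ap_mul, mul_inv_cancel, ap_one]
      have := hfx u
      rw [sum3, hu', ap_mul, hu', hu'] at this
      rw [two_smul_eq, zero_add] at this
      exact hu0 this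
    have := hsum v₀
    rw [hfx, hfy, add_zero] at this
    exact hv₀ this.symm
  -- the normal form
  set T : S := ((e.symm (DihedralGroup.sr i) : X) : S) with hT
  have hTX : T ∈ X := SetLike.coe_mem _
  have hTT : T * T = 1 := by rw [hT, ← pull, (d4_refl i).1, pull1]
  have hTR : T * R * T = R⁻¹ := by
    rw [hT, hR, ← pull, ← pull, (d4_refl i).2.1, map_inv, Subgroup.coe_inv]
  set b := R * a * R⁻¹ with hb
  have hbA : b ∈ A := hconj R haA
  have hZR : Z * R = R * Z := by rw [← hRR, mul_assoc]
  have hRi : R⁻¹ = R * Z := inv_eq_of_mul_eq_one_right (by rw [← mul_assoc, hRR, hZZ])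
  have hTRe : T * R = R * (Z * T) := by
    calc T * R = T * R * (T * T) := by rw [hTT, mul_one]
      _ = T * R * T * T := by group
      _ = R * (Z * T) := by rw [hTR, hRi, mul_assoc]
  have hTZ : T * Z = Z * T := by
    calc T * Z = (T * R) * R := by rw [← hRR, mul_assoc]
      _ = R * Z * (T * R) := by
        calc T * R * R = R * (Z * T) * R := by rw [hTRe]
          _ = R * Z * (T * R) := by group
      _ = R * Z * R * (Z * T) := by rw [hTRe]; group
      _ = (R * R) * (Z * Z) * T := by rw [mul_assoc R Z R, hZR]; group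
      _ = Z * T := by rw [hRR, hZZ, mul_one]
  have hZa : ∀ x ∈ A, Z * x = x⁻¹ * Z := fun x hx => by
    rw [← hZinv x hx, mul_assoc (Z * x), hZZ, mul_one]
  have hTb : T * b = b⁻¹ * T := by
    calc T * (R * a * R⁻¹) = (T * R) * a * R⁻¹ := by group
      _ = R * (Z * (T * a)) * R⁻¹ := by rw [hTRe]; group
      _ = R * (Z * a) * T * R⁻¹ := by rw [hTa]; group
      _ = R * a⁻¹ * (Z * T) * R⁻¹ := by rw [hZa a haA]; group
      _ = R * a⁻¹ * R⁻¹ * (R * (Z * T)) * R⁻¹ := by group
      _ = R * a⁻¹ * R⁻¹ * (T * R) * R⁻¹ := by rw [hTRe]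
      _ = _ := by rw [hb]; group
  have haR : a * R = R * b⁻¹ := by
    have h5 : R * b * R⁻¹ = a⁻¹ := by
      rw [hb, show R * (R * a * R⁻¹) * R⁻¹ = R * R * a * (R * R)⁻¹ by group, hRR, hZi, hZinv a haA]
    calc a * R = (R * b * R⁻¹)⁻¹ * R := by rw [h5, inv_inv]
      _ = R * b⁻¹ := by group
  have hbR : b * R = R * a := by rw [hb]; group
  -- a vector fixed by `a`, `T` and `Z`
  have key : ∀ (g : S), g * g = 1 → ∀ (P : M → Prop), (∀ m, P m → P (m + ρ g m)) → ∀ m, m ≠ 0 → P m →
      ∃ m', m' ≠ 0 ∧ P m' ∧ ρ g m' = m' := by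
    intro g hg P hP m hm hPm
    by_cases h : ρ g m = m
    · exact ⟨m, hm, hPm, h⟩
    · refine ⟨m + ρ g m, fun h0 => h ?_, hP m hPm, ?_⟩
      · rw [add_eq_zero_iff_eq_neg, ZModModule.neg_eq_self] at h0
        exact h0.symm
      · rw [map_add, ← ap_mul, hg, ap_one, add_comm]
  obtain ⟨w₁, hw₁, haw₁, hTw₁⟩ := key T hTT (fun m => ρ a m = m) (fun m hm => by
    rw [map_add, hm, ← ap_mul, ← hTa, ap_mul, hm]) w₀ hw₀ haw₀
  obtain ⟨u, hu0, ⟨hau, hTu⟩, hZu⟩ := key Z hZZ (fun m => ρ a m = m ∧ ρ T m = m) (fun m hm => by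
    constructor
    · rw [map_add, hm.1, ← ap_mul, show a * Z = Z * a⁻¹ by rw [hZa a⁻¹ (A.inv_mem haA), inv_inv], ap_mul]
      congr 2
      conv_lhs => rw [← hm.1, ap_cancel]
    · rw [map_add, hm.2, ← ap_mul, hTZ, ap_mul, hm.2]) w₁ hw₁ ⟨haw₁, hTw₁⟩
  have gen : ∀ x : S, x ∈ A → x ∈ Subgroup.zpowers a ⊔ Subgroup.zpowers b := by
    haveI : Fact (Nat.Prime 3) := ⟨Nat.prime_three⟩
    have hnot : b ∉ Subgroup.zpowers a := by
      intro hh
      obtain ⟨k, hk⟩ := Subgroup.mem_zpowers_iff.1 hh
      have hc : T * b = b * T := by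
        rw [← hk]
        exact ((show Commute T a from hTa).zpow_right k).eq
      rw [hTb] at hc
      have h6 : b * b = 1 := mul_eq_one_iff_eq_inv.2 (mul_right_cancel hc).symm
      have h7 := hcube hbA
      rw [h6, one_mul, hb, mul_inv_eq_one, mul_eq_left] at h7
      exact ha1 h7
    have hle : Subgroup.zpowers a ⊔ Subgroup.zpowers b ≤ A :=
      sup_le (Subgroup.zpowers_le.2 haA) (Subgroup.zpowers_le.2 hbA)
    have hlt : Subgroup.zpowers a < Subgroup.zpowers a ⊔ Subgroup.zpowers b :=
      lt_of_le_of_ne le_sup_left fun hh => hnot (hh ▸ Subgroup.mem_sup_right (Subgroup.mem_zpowers b))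
    have heq : Subgroup.zpowers a ⊔ Subgroup.zpowers b = A := by
      refine Subgroup.eq_of_le_of_card_ge hle ?_
      have hd := Subgroup.card_dvd_of_le hle
      rw [hA9] at hd ⊢
      have h3 : 3 < Nat.card ↥(Subgroup.zpowers a ⊔ Subgroup.zpowers b) := by
        have := Set.ncard_lt_ncard (SetLike.coe_ssubset_coe.2 hlt) (Set.toFinite _)
        rw [← Nat.card_coe_set_eq, ← Nat.card_coe_set_eq] at this
        change Nat.card (Subgroup.zpowers a) < Nat.card ↥(Subgroup.zpowers a ⊔ Subgroup.zpowers b) at this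
        rwa [Nat.card_zpowers, orderOf_eq_prime (hA.2 a haA) ha1] at this
      have h9 := Nat.le_of_dvd (by norm_num) hd
      revert hd h3 h9
      generalize Nat.card ↥(Subgroup.zpowers a ⊔ Subgroup.zpowers b) = c
      intro hd h3 h9
      interval_cases c <;> first | omega | (norm_num at hd)
    intro x hx
    rw [heq]
    exact hx
  have ext2 : ∀ {m : M}, ρ a m = m → ρ b m = m → m = 0 := by
    intro m ha' hb'
    refine hCA m fun x hx => ?_
    let St : Subgroup S :=
      { carrier := {g | ρ g m = m}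
        one_mem' := ap_one ρ m
        mul_mem' := fun {g h} hg hh => show ρ (g * h) m = m by
          rw [ap_mul, show ρ h m = m from hh, show ρ g m = m from hg]
        inv_mem' := fun {g} hg => show ρ g⁻¹ m = m by
          conv_lhs => rw [← show ρ g m = m from hg]
          exact ap_cancel ρ g m }
    exact (sup_le (Subgroup.zpowers_le.2 (show a ∈ St from ha')) (Subgroup.zpowers_le.2 (show b ∈ St from hb')))
      (gen x hx)
  set u' := ρ b u with hu'
  have hbu : u' ≠ u := fun h => hu0 (ext2 hau h)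
  have hau' : ρ a u' = u' := by rw [hu', ← ap_mul, hcomm haA hbA, ap_mul, hau]
  have hbu' : ρ b u' = u + u' := by
    have hz : u + u' + ρ b u' = 0 := by
      have := ext2 (m := sum3 ρ b u)
        (by rw [sum3, map_add, map_add, hau, hau', ← ap_mul, hcomm haA (A.mul_mem hbA hbA), ap_mul, hau])
        (sum3_fixed ρ (hcube hbA) u)
      rw [sum3, ap_mul ρ b b] at this
      exact this
    rw [add_eq_zero_iff_neg_eq, ZModModule.neg_eq_self] at hz
    exact hz.symm
  have hbi : ρ b⁻¹ u = u + u' := by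
    conv_lhs => rw [show b⁻¹ = b * b from inv_eq_of_mul_eq_one_right (by rw [← mul_assoc, hcube hbA]), ap_mul]
    exact hbu'
  have hbi' : ρ b⁻¹ u' = u := ap_cancel ρ b u
  have hTu' : ρ T u' = u + u' := by rw [hu', ← ap_mul, hTb, ap_mul, hTu]; exact hbi
  have hZu' : ρ Z u' = u + u' := by rw [hu', ← ap_mul, hZa b hbA, ap_mul, hZu]; exact hbi
  let W : Submodule (ZMod 2) M := Submodule.span (ZMod 2) {u, u', ρ R u, ρ R u'}
  have hmemW : u ∈ W ∧ u' ∈ W ∧ ρ R u ∈ W ∧ ρ R u' ∈ W :=
    ⟨Submodule.subset_span (by simp), Submodule.subset_span (by simp), Submodule.subset_span (by simp),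
      Submodule.subset_span (by simp)⟩
  obtain ⟨m1, m2, m3, m4⟩ := hmemW
  have hgW : ∀ g : S, (ρ g u ∈ W ∧ ρ g u' ∈ W ∧ ρ g (ρ R u) ∈ W ∧ ρ g (ρ R u') ∈ W) →
      ∀ m ∈ W, ρ g m ∈ W := by
    intro g hg m hm
    induction hm using Submodule.span_induction with
    | mem x hx => rcases hx with rfl | rfl | rfl | rfl; exacts [hg.1, hg.2.1, hg.2.2.1, hg.2.2.2]
    | zero => rw [map_zero]; exact W.zero_mem
    | add x y _ _ hx hy => rw [map_add]; exact W.add_mem hx hy
    | smul c x _ hx => rw [map_smul]; exact W.smul_mem c hx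
  have hWa : ∀ m ∈ W, ρ a m ∈ W := hgW a ⟨by rw [hau]; exact m1, by rw [hau']; exact m2,
    by rw [← ap_mul, haR, ap_mul, hbi, map_add]; exact W.add_mem m3 m4,
    by rw [← ap_mul, haR, ap_mul, hbi']; exact m3⟩
  have hWR : ∀ m ∈ W, ρ R m ∈ W := hgW R ⟨m3, m4,
    by rw [← ap_mul, hRR, hZu]; exact m1,
    by rw [← ap_mul, hRR, hZu']; exact W.add_mem m1 m2⟩
  have hTRu : ρ T (ρ R u) = ρ R u := by rw [← ap_mul, hTRe, ap_mul, ap_mul, hTu, hZu]
  have hTRu' : ρ T (ρ R u') = ρ R u' := by
    rw [← ap_mul, hTRe, ap_mul, ap_mul, hTu', map_add (ρ Z), hZu, hZu', cancel]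
  have hWT : ∀ m ∈ W, ρ T m ∈ W := hgW T ⟨by rw [hTu]; exact m1, by rw [hTu']; exact W.add_mem m1 m2,
    by rw [hTRu]; exact m3, by rw [hTRu']; exact m4⟩
  have hWb : ∀ m ∈ W, ρ b m ∈ W := hgW b ⟨m2, by rw [hbu']; exact W.add_mem m1 m2,
    by rw [← ap_mul, hbR, ap_mul, hau]; exact m3, by rw [← ap_mul, hbR, ap_mul, hau']; exact m4⟩
  haveI : Finite W := inferInstance
  have hWtop : W = ⊤ := by
    let N : Subgroup S :=
      { carrier := {g | ∀ m, ρ g m ∈ W ↔ m ∈ W}
        one_mem' := fun m => by rw [ap_one]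
        mul_mem' := fun {g h} hg hh m => by rw [ap_mul, hg, hh]
        inv_mem' := fun {g} hg m => by
          conv_rhs => rw [← show ρ g (ρ g⁻¹ m) = m by rw [← ap_mul, mul_inv_cancel, ap_one]]
          exact (hg _).symm }
    have hin : ∀ g, (∀ m ∈ W, ρ g m ∈ W) → g ∈ N := by
      intro g hg m
      refine ⟨fun h => ?_, hg m⟩
      have hinj : Function.Injective (fun x : W => (⟨ρ g x, hg x x.2⟩ : W)) := fun x y hxy => by
        have h' := congrArg (fun w : W => ρ g⁻¹ (w : M)) hxy
        simp only [ap_cancel] at h'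
        exact Subtype.ext h'
      obtain ⟨x, hx⟩ := Finite.surjective_of_injective hinj ⟨ρ g m, h⟩
      have h' := congrArg (fun w : W => ρ g⁻¹ (w : M)) hx
      simp only [ap_cancel] at h'
      exact h' ▸ x.2
    have hNtop : N = ⊤ := by
      have hXN : X ≤ N := by
        intro x hx
        have hgen : ∀ d : DihedralGroup 4, ((e.symm d : X) : S) ∈ N := by
          have hRN := hin R hWR
          have hr : ∀ n : ℕ, ((e.symm (DihedralGroup.r (n : ZMod 4)) : X) : S) ∈ N := fun n => by
            rw [← DihedralGroup.r_one_pow, map_pow, Subgroup.coe_pow]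
            exact N.pow_mem hRN n
          have hr' : ∀ j : ZMod 4, ((e.symm (DihedralGroup.r j) : X) : S) ∈ N := fun j => by
            rw [← ZMod.natCast_zmod_val j]; exact hr _
          rintro (j | j)
          · exact hr' j
          · rw [show DihedralGroup.sr j = DihedralGroup.sr i * DihedralGroup.r (j - i) by
              rw [DihedralGroup.sr_mul_r, add_sub_cancel], pull]
            exact N.mul_mem (hin T hWT) (hr' _)
        have := hgen (e ⟨x, hx⟩)
        rwa [e.symm_apply_apply] at this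
      exact top_unique (hAX.ge.trans (sup_le (fun x hx =>
        sup_le (Subgroup.zpowers_le.2 (hin a hWa)) (Subgroup.zpowers_le.2 (hin b hWb)) (gen x hx)) hXN))
    exact (hirr W fun s m hm => ((hNtop ▸ Subgroup.mem_top s : s ∈ N) m).2 hm).resolve_left fun h =>
      hu0 (by rw [h, Submodule.mem_bot] at m1; exact m1)
  -- coordinates
  let φ : ZMod 2 × ZMod 2 × ZMod 2 × ZMod 2 → M := fun c =>
    c.1 • u + c.2.1 • u' + (c.2.2.1 • ρ R u + c.2.2.2 • ρ R u')
  have hbij : Function.Bijective φ := by
    constructor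
    · have hker : ∀ c, φ c = 0 → c = 0 := by
        intro c hc
        set x := c.1 • u + c.2.1 • u' with hx
        set y := c.2.2.1 • u + c.2.2.2 • u' with hy
        have hxy : x = ρ R y := by
          have h5 : x + ρ R y = 0 := by rw [hy, map_add, map_smul, map_smul]; exact hc
          rwa [add_eq_zero_iff_eq_neg, ZModModule.neg_eq_self] at h5
        have hax : ρ a x = x := by rw [hx, map_add, map_smul, map_smul, hau, hau']
        have hbx : ρ b x = x := by
          rw [hxy, ← ap_mul, hbR, ap_mul]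
          congr 1
          rw [hy, map_add, map_smul, map_smul, hau, hau']
        have hx0 := ext2 hax hbx
        have hy0 : y = 0 := by
          have := congrArg (ρ R⁻¹) (hxy.symm.trans hx0)
          rwa [ap_cancel, map_zero] at this
        have hind : ∀ p q : ZMod 2, p • u + q • u' = 0 → p = 0 ∧ q = 0 := by
          intro p q h
          have hcases : ∀ p : ZMod 2, p = 0 ∨ p = 1 := by decide
          rcases hcases p with rfl | rfl <;> rcases hcases q with rfl | rfl <;>
            simp only [zero_smul, one_smul, zero_add, add_zero] at h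
          · exact ⟨rfl, rfl⟩
          · exact absurd h fun h0 => hu0 (by
              have := congrArg (ρ b⁻¹) h0
              rwa [hbi', map_zero] at this)
          · exact absurd h hu0
          · rw [add_eq_zero_iff_eq_neg, ZModModule.neg_eq_self] at h
            exact absurd h.symm hbu
        obtain ⟨p1, p2⟩ := hind _ _ hx0
        obtain ⟨p3, p4⟩ := hind _ _ hy0
        exact Prod.ext p1 (Prod.ext p2 (Prod.ext p3 p4))
      intro c c' h
      have hadd : φ (c - c') = φ c - φ c' := by
        simp only [φ, Prod.fst_sub, Prod.snd_sub, sub_smul]; abel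
      exact sub_eq_zero.1 (hker _ (by rw [hadd, h, sub_self]))
    · intro m
      have hm : m ∈ W := by rw [hWtop]; exact Submodule.mem_top
      simp only [W, Submodule.mem_span_insert, Submodule.mem_span_singleton] at hm
      obtain ⟨p, x, ⟨q, y, ⟨r, z, ⟨s, rfl⟩, rfl⟩, rfl⟩, rfl⟩ := hm
      exact ⟨(p, q, r, s), by simp only [φ]; abel⟩
  refine ⟨by rw [← Nat.card_eq_of_bijective φ hbij]; simp [Nat.card_prod], ?_⟩
  -- fixed vectors
  set v := ρ R u with hv
  have hZv : ρ Z v = v := by rw [hv, ← ap_mul, hZR, ap_mul, hZu]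
  have hfixZ : ∀ m, ρ Z m = m → m = 0 ∨ m = u ∨ m = v ∨ m = u + v := by
    intro m hm
    obtain ⟨⟨p, q, r, s⟩, rfl⟩ := hbij.2 m
    have hZv' : ρ Z (ρ R u') = v + ρ R u' := by rw [← ap_mul, hZR, ap_mul, hZu', map_add]
    have h0 : φ (q, 0, s, 0) = 0 := by
      have e1 : ρ Z (φ (p, q, r, s)) = φ (p, q, r, s) + φ (q, 0, s, 0) := by
        simp only [φ, map_add, map_smul, hZu, hZu', ← hv, hZv, hZv', zero_smul, smul_add, add_zero]
        abel
      rw [hm] at e1
      exact left_eq_add.1 e1
    have h1 := hbij.1 (h0.trans (show φ (0, 0, 0, 0) = 0 by simp [φ]).symm)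
    simp only [Prod.mk.injEq] at h1
    obtain ⟨rfl, -, rfl, -⟩ := h1
    have hcases : ∀ p : ZMod 2, p = 0 ∨ p = 1 := by decide
    rcases hcases p with rfl | rfl <;> rcases hcases r with rfl | rfl <;> simp [φ, ← hv]
  have hne : v ≠ u ∧ v ≠ 0 := by
    have e1 : φ (0, 0, 1, 0) = v := by simp [φ, ← hv]
    have e2 : φ (1, 0, 0, 0) = u := by simp [φ]
    have e3 : φ (0, 0, 0, 0) = 0 := by simp [φ]
    constructor <;> intro h
    · exact absurd (hbij.1 (e1.trans (h.trans e2.symm))) (by decide)
    · exact absurd (hbij.1 (e1.trans (h.trans e3.symm))) (by decide)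
  have huv : u + v ≠ 0 := fun h => hne.1 (by
    rw [add_eq_zero_iff_eq_neg, ZModModule.neg_eq_self] at h; exact h.symm)
  set T' := T * R with hT'
  have hT'u : ρ T' u = v := by rw [hT', ap_mul, hTRu]
  have hT'v : ρ T' v = u := by rw [hT', ap_mul, hv, ← ap_mul ρ R R, hRR, hZu, hTu]
  have hT'T' : T' * T' = 1 := by
    rw [hT', show T * R * (T * R) = T * R * T * R by group, hTR, inv_mul_cancel]
  have hT'Z : T' * Z = Z * T' := by rw [hT', mul_assoc, ← hZR, ← mul_assoc, hTZ, mul_assoc]
  have hZT' : Z * T' = T' * Z := hT'Z.symm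
  have hZT'2 : ∀ x : S, Z * (T' * x) = T' * (Z * x) := fun x => by rw [← mul_assoc, hZT', mul_assoc]
  have hZ2 : ∀ x : S, Z * (Z * x) = x := fun x => by rw [← mul_assoc, hZZ, one_mul]
  have hT'2 : ∀ x : S, T' * (T' * x) = x := fun x => by rw [← mul_assoc, hT'T', one_mul]
  set B₀ := Subgroup.closure ({Z, T'} : Set S) with hB₀
  have hB₀mem : ∀ g, g ∈ B₀ ↔ g = 1 ∨ g = Z ∨ g = T' ∨ g = T' * Z := by
    intro g
    constructor
    · intro hg
      rw [hB₀] at hg
      induction hg using Subgroup.closure_induction with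
      | mem x hx => rcases hx with rfl | rfl <;> simp
      | one => exact Or.inl rfl
      | mul x y _ _ hx hy =>
        rcases hx with rfl | rfl | rfl | rfl <;> rcases hy with rfl | rfl | rfl | rfl
        all_goals
          simp [mul_assoc, hZT'2, hZ2, hT'2, hZT', hZZ, hT'T']
      | inv x _ hx =>
        rcases hx with rfl | rfl | rfl | rfl
        · simp
        · exact Or.inr (Or.inl hZi)
        · exact Or.inr (Or.inr (Or.inl (inv_eq_of_mul_eq_one_right hT'T')))
        · refine Or.inr (Or.inr (Or.inr ?_))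
          rw [mul_inv_rev, hZi, inv_eq_of_mul_eq_one_right hT'T', hT'Z]
    · have h1 : Z ∈ B₀ := Subgroup.subset_closure (by simp)
      have h2 : T' ∈ B₀ := Subgroup.subset_closure (by simp)
      rintro (rfl | rfl | rfl | rfl)
      exacts [B₀.one_mem, h1, h2, B₀.mul_mem h2 h1]
  have pT' : T' = ((e.symm (DihedralGroup.sr i * DihedralGroup.r 1) : X) : S) := by rw [hT', pull]
  have hT'1 : T' ≠ 1 := fun h => hne.1 (by rw [← hT'u, h, ap_one])
  have hT'neZ : T' ≠ Z := fun h => hne.1 (by rw [← hT'u, h, hZu])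
  have hB₀card : Nat.card B₀ = 4 := by
    have hset : (B₀ : Set S) = {1, Z, T', T' * Z} := by ext g; simp [hB₀mem]
    calc Nat.card B₀ = (B₀ : Set S).ncard := by rw [← Nat.card_coe_set_eq]; rfl
      _ = 4 := by
        rw [hset, Set.ncard_insert_of_notMem, Set.ncard_insert_of_notMem, Set.ncard_pair]
        · exact fun h => hZ1 (left_eq_mul.1 h)
        · rintro (h | h)
          exacts [hT'neZ h.symm, hT'1 (right_eq_mul.1 h)]
        · rintro (h | h | h)
          exacts [hZ1 h.symm, hT'1 h.symm, hT'neZ ((eq_inv_of_mul_eq_one_left h.symm).trans hZi)]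
  have hB₀X : B₀ ≤ X := by
    intro g hg
    rcases (hB₀mem g).1 hg with rfl | rfl | rfl | rfl
    exacts [X.one_mem, hZX, X.mul_mem hTX hRX, X.mul_mem (X.mul_mem hTX hRX) hZX]
  refine ⟨B₀, ⟨hB₀X, hB₀card, ?_, ?_⟩, ?_⟩
  · intro g hg
    rw [sq]
    rcases (hB₀mem g).1 hg with rfl | rfl | rfl | rfl
    exacts [one_mul 1, hZZ, hT'T', by rw [mul_assoc, ← mul_assoc Z, ← hT'Z, mul_assoc T' Z Z, hZZ, mul_one, hT'T']]
  · have hset : {m : M | ∀ b ∈ B₀, ρ b m = m} = {0, u + v} := by
      ext m
      constructor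
      · intro hm
        have h1 := hm T' ((hB₀mem _).2 (by simp))
        rcases hfixZ m (hm Z ((hB₀mem _).2 (by simp))) with rfl | rfl | rfl | rfl
        · simp
        · exact absurd (hT'u.symm.trans h1) hne.1
        · exact absurd (hT'v.symm.trans h1).symm hne.1
        · simp
      · rintro (rfl | rfl) g hg
        · exact map_zero _
        · rcases (hB₀mem g).1 hg with rfl | rfl | rfl | rfl
          · exact ap_one ρ _
          · rw [map_add, hZu, hZv]
          · rw [map_add, hT'u, hT'v, add_comm]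
          · rw [ap_mul, map_add (ρ Z), hZu, hZv, map_add, hT'u, hT'v, add_comm]
    show Nat.card ↥{m : M | ∀ b ∈ B₀, ρ b m = m} = 2
    rw [hset, Nat.card_coe_set_eq, Set.ncard_pair (Ne.symm huv)]
  · rintro B ⟨hBX, hB4, hBsq, hBfix⟩
    have hsq : ∀ g ∈ B, g * g = 1 := fun g hg => by rw [← sq]; exact hBsq g hg
    have hcommB : ∀ g ∈ B, ∀ h ∈ B, g * h = h * g := by
      intro g hg h hh
      calc g * h = g * (g * h * (g * h)) * h := by rw [hsq _ (B.mul_mem hg hh), mul_one]
        _ = (g * g) * (h * g) * (h * h) := by group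
        _ = h * g := by rw [hsq g hg, hsq h hh, one_mul, mul_one]
    have hcard3 : ∀ x y : S, ∃ g ∈ B, g ≠ x ∧ g ≠ y := fun x y => by
      by_contra h
      push Not at h
      have hsub : (B : Set S) ⊆ {x, y} := fun g hg => by
        by_cases h1 : g = x
        · exact Or.inl h1
        · exact Or.inr (h g hg h1)
      have := Set.ncard_le_ncard hsub (Set.toFinite _)
      rw [← Nat.card_coe_set_eq] at this
      have h4 : Nat.card (B : Set S) = 4 := hB4
      have h2 : ({x, y} : Set S).ncard ≤ 2 :=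
        (Set.ncard_insert_le _ _).trans (by rw [Set.ncard_singleton])
      omega
    obtain ⟨g, hg, hg1, -⟩ := hcard3 1 1
    obtain ⟨h, hh, hh1, hgh⟩ := hcard3 1 g
    have down : ∀ (x : S) (hx : x ∈ X), x * x = 1 → e ⟨x, hx⟩ * e ⟨x, hx⟩ = 1 := fun x hx hxx => by
      rw [← map_mul, ← map_one e]
      exact congrArg e (Subtype.ext hxx)
    have hZB : Z ∈ B := by
      have hxy := d4_pair (e ⟨g, hBX hg⟩) (e ⟨h, hBX hh⟩) (down g _ (hsq g hg)) (down h _ (hsq h hh))
        (by rw [← map_mul, ← map_mul]; exact congrArg e (Subtype.ext (hcommB g hg h hh)))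
        (fun hc => hg1 (congrArg Subtype.val (e.injective (hc.trans (map_one e).symm))))
        (fun hc => hh1 (congrArg Subtype.val (e.injective (hc.trans (map_one e).symm))))
        (fun hc => hgh (congrArg Subtype.val (e.injective hc)).symm)
      have back : ∀ (x : S) (hx : x ∈ X), e ⟨x, hx⟩ = DihedralGroup.r 2 → x = Z := fun x hx hc => by
        rw [hZ, ← hc, e.symm_apply_apply]
      rcases hxy with hc | hc | hc
      · exact back g _ hc ▸ hg
      · exact back h _ hc ▸ hh
      · rw [← map_mul] at hc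
        exact back (g * h) _ hc ▸ B.mul_mem hg hh
    obtain ⟨k, hk, hk1, hkZ⟩ := hcard3 1 Z
    have hk' := d4_invol i (e ⟨k, hBX hk⟩) (down k _ (hsq k hk))
    have backk : ∀ d : DihedralGroup 4, e ⟨k, hBX hk⟩ = d → k = ((e.symm d : X) : S) := fun d hc => by
      rw [← hc, e.symm_apply_apply]
    have hsplit : T ∈ B ∨ T' ∈ B := by
      rcases hk' with hc | hc | hc | hc | hc | hc
      · exact absurd ((backk _ hc).trans pull1) hk1
      · exact absurd (backk _ hc) hkZ
      · exact Or.inl (by rw [hT, ← backk _ hc]; exact hk)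
      · left
        have h5 := B.mul_mem hk hZB
        rwa [backk _ hc, pull, ← hT, ← hZ, mul_assoc, hZZ, mul_one] at h5
      · exact Or.inr (by rw [pT', ← backk _ hc]; exact hk)
      · right
        have h5 := B.mul_mem hk hZB
        rwa [backk _ hc, pull, ← pT', ← hZ, mul_assoc, hZZ, mul_one] at h5
    rcases hsplit with hTB | hT'B
    · exfalso
      -- this four-group fixes four vectors
      have hgenB : B ≤ Subgroup.closure ({Z, T} : Set S) := by
        intro g hg
        have hc' := d4_invol i (e ⟨g, hBX hg⟩) (down g _ (hsq g hg))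
        have backg : ∀ d : DihedralGroup 4, e ⟨g, hBX hg⟩ = d → g = ((e.symm d : X) : S) := fun d hc => by
          rw [← hc, e.symm_apply_apply]
        have hz1 : Z ∈ Subgroup.closure ({Z, T} : Set S) := Subgroup.subset_closure (by simp)
        have ht1 : T ∈ Subgroup.closure ({Z, T} : Set S) := Subgroup.subset_closure (by simp)
        have hcontr : T' ∉ B := by
          intro hT'B
          have hc2 := hcommB _ hTB _ hT'B
          rw [hT', ← mul_assoc, hTT, one_mul, hTR] at hc2
          exact hZ1 (by rw [← hRR]; exact mul_eq_one_iff_eq_inv.2 hc2)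
        rcases hc' with hc | hc | hc | hc | hc | hc
        · rw [backg _ hc, pull1]; exact Subgroup.one_mem _
        · rw [backg _ hc, ← hZ]; exact hz1
        · rw [backg _ hc, ← hT]; exact ht1
        · rw [backg _ hc, pull, ← hT, ← hZ]; exact Subgroup.mul_mem _ ht1 hz1
        · exact absurd (by rw [pT', ← backg _ hc]; exact hg) hcontr
        · refine absurd ?_ hcontr
          have h5 := B.mul_mem hg hZB
          rwa [backg _ hc, pull, ← pT', ← hZ, mul_assoc, hZZ, mul_one] at h5
      have hfour : ∀ m ∈ ({0, u, v} : Set M), ∀ b ∈ B, ρ b m = m := by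
        intro m hm b hb
        let St : Subgroup S :=
          { carrier := {g | ρ g m = m}
            one_mem' := ap_one ρ m
            mul_mem' := fun {g h} hg hh => show ρ (g * h) m = m by
              rw [ap_mul, show ρ h m = m from hh, show ρ g m = m from hg]
            inv_mem' := fun {g} hg => show ρ g⁻¹ m = m by
              conv_lhs => rw [← show ρ g m = m from hg]
              exact ap_cancel ρ g m }
        refine ((Subgroup.closure_le (K := St)).2 ?_) (hgenB hb)
        rintro g (rfl | rfl) <;> rcases hm with rfl | rfl | rfl <;> show ρ _ _ = _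
        exacts [map_zero _, hZu, hZv, map_zero _, hTu, hTRu]
      have h3 := Set.ncard_le_ncard (show ({0, u, v} : Set M) ⊆ {m | ∀ b ∈ B, ρ b m = m} from hfour)
        (Set.toFinite _)
      rw [Set.ncard_insert_of_notMem, Set.ncard_pair (Ne.symm hne.1), ← Nat.card_coe_set_eq] at h3
      · change 3 ≤ Nat.card {m : M // ∀ b ∈ B, ρ b m = m} at h3
        omega
      · rintro (hc | hc)
        exacts [hu0 hc.symm, hne.2 hc.symm]
    · refine (Subgroup.eq_of_le_of_card_ge ?_ (by rw [hB₀card, hB4])).symm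
      rw [hB₀, Subgroup.closure_le]
      rintro x (rfl | rfl) <;> assumption

end Cfsg.Agent.S4407
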