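import Cfsg.Statements.S4408
import Cfsg.Agent.Lib.Solvable.Fitting
import Cfsg.Agent.Lib.Solvable.Structure

set_option autoImplicit false
open Cfsg

namespace Cfsg.Agent.S4408

variable {S : Type*} [Group S] [Finite S]

/-- A commuting family of involutive endomorphisms of an abelian group of odd order has a common
eigenvector. -/
theorem exists_eigen {V : Type*} [CommGroup V] [Finite V] (hV : Odd (Nat.card V)) {ι : Type*}
    (σ : ι → (V →* V)) (hinv : ∀ i v, σ i (σ i v) = v) (hcomm : ∀ i j v, σ i (σ j v) = σ j (σ i v))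
    (T : Finset ι) {v : V} (hv : v ≠ 1) :
    ∃ y : V, y ≠ 1 ∧ ∀ i ∈ T, σ i y = y ∨ σ i y = y⁻¹ := by
  classical
  induction T using Finset.induction with
  | empty => exact ⟨v, hv, fun i hi => absurd hi (Finset.notMem_empty i)⟩
  | insert s T hs ih =>
    obtain ⟨y, hy, hT⟩ := ih
    by_cases h1 : y * σ s y = 1
    · refine ⟨y, hy, fun i hi => ?_⟩
      rcases Finset.mem_insert.1 hi with rfl | hi
      · exact Or.inr (eq_inv_of_mul_eq_one_right h1)
      · exact hT i hi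
    · refine ⟨y * σ s y, h1, fun i hi => ?_⟩
      rcases Finset.mem_insert.1 hi with rfl | hi
      · left; rw [map_mul, hinv, mul_comm]
      · rw [map_mul, hcomm]
        rcases hT i hi with h | h <;> rw [h]
        · exact Or.inl rfl
        · right; rw [map_inv, mul_inv]

/-- Conjugation by the elements of a set, on a subgroup. -/
theorem exists_eigen_conj (Z B : Subgroup S) (hBZ : B ≤ Z) [hBn : (B.subgroupOf Z).Normal]
    (hab : ∀ a ∈ Z, ∀ b ∈ Z, a * b * a⁻¹ * b⁻¹ ∈ B) (hodd : Odd (Nat.card Z))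
    (I : Subgroup S) (hI : ∀ a ∈ I, ∀ b ∈ I, a * b = b * a) (hI2 : ∀ a ∈ I, a * a = 1)
    (hIZ : ∀ i ∈ I, ∀ z ∈ Z, i * z * i⁻¹ ∈ Z) (hIB : ∀ i ∈ I, ∀ z ∈ B, i * z * i⁻¹ ∈ B)
    (hne : ∃ z ∈ Z, z ∉ B) :
    ∃ y ∈ Z, y ∉ B ∧ ∀ i ∈ I, y⁻¹ * (i * y * i⁻¹) ∈ B ∨ y * (i * y * i⁻¹) ∈ B := by
  classical
  haveI : Fintype I := Fintype.ofFinite _
  let Q := ↥Z ⧸ B.subgroupOf Z
  letI : CommGroup Q :=
    { (inferInstance : Group Q) with
      mul_comm := fun a b => by
        obtain ⟨a, rfl⟩ := QuotientGroup.mk_surjective a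
        obtain ⟨b, rfl⟩ := QuotientGroup.mk_surjective b
        refine (QuotientGroup.eq.2 ?_)
        show ((a : S) * b)⁻¹ * ((b : S) * a) ∈ B
        have := hab _ (Z.inv_mem b.2) _ (Z.inv_mem a.2)
        simpa [mul_assoc] using this }
  let c : I → (↥Z →* ↥Z) := fun i =>
    { toFun := fun z => ⟨(i : S) * z * (i : S)⁻¹, hIZ i i.2 z z.2⟩
      map_one' := Subtype.ext (by simp)
      map_mul' := fun a b => Subtype.ext (by simp) }
  let σ : I → (Q →* Q) := fun i => QuotientGroup.map _ _ (c i) fun z hz => hIB i i.2 _ hz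
  have hσ : ∀ (i : I) (z : ↥Z), σ i (QuotientGroup.mk z) = QuotientGroup.mk (c i z) := fun i z => rfl
  obtain ⟨z, hz, hzB⟩ := hne
  have hQodd : Odd (Nat.card Q) := Odd.of_dvd_nat hodd (Subgroup.card_quotient_dvd_card _)
  have hinv : ∀ (i : I) (v : Q), σ i (σ i v) = v := by
    intro i v
    obtain ⟨v, rfl⟩ := QuotientGroup.mk_surjective v
    rw [hσ, hσ]
    refine congrArg _ (Subtype.ext ?_)
    show (i : S) * ((i : S) * v * (i : S)⁻¹) * (i : S)⁻¹ = v
    have h2 := hI2 i i.2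
    rw [show (i : S)⁻¹ = i from inv_eq_of_mul_eq_one_right h2]
    calc (i : S) * ((i : S) * v * i) * i = ((i : S) * i) * v * ((i : S) * i) := by group
      _ = v := by rw [h2, one_mul, mul_one]
  have hcomm : ∀ (i j : I) (v : Q), σ i (σ j v) = σ j (σ i v) := by
    intro i j v
    obtain ⟨v, rfl⟩ := QuotientGroup.mk_surjective v
    rw [hσ, hσ, hσ, hσ]
    refine congrArg _ (Subtype.ext ?_)
    show (i : S) * ((j : S) * v * (j : S)⁻¹) * (i : S)⁻¹ = (j : S) * ((i : S) * v * (i : S)⁻¹) * (j : S)⁻¹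
    calc (i : S) * ((j : S) * v * (j : S)⁻¹) * (i : S)⁻¹ = ((i : S) * j) * v * ((i : S) * j)⁻¹ := by group
      _ = ((j : S) * i) * v * ((j : S) * i)⁻¹ := by rw [hI i i.2 j j.2]
      _ = _ := by group
  obtain ⟨y, hy, hyI⟩ := exists_eigen hQodd σ hinv hcomm Finset.univ
    (v := (QuotientGroup.mk ⟨z, hz⟩ : Q)) (fun h => hzB ((QuotientGroup.eq_one_iff (N := B.subgroupOf Z) ⟨z, hz⟩).1 h))
  obtain ⟨y, rfl⟩ := QuotientGroup.mk_surjective y
  refine ⟨y, y.2, fun h => hy ((QuotientGroup.eq_one_iff _).2 h), fun i hi => ?_⟩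
  rcases hyI ⟨i, hi⟩ (Finset.mem_univ _) with h | h
  · left; exact (QuotientGroup.eq (s := B.subgroupOf Z)).1 ((hσ ⟨i, hi⟩ y).symm.trans h).symm
  · right
    have h2 : (QuotientGroup.mk (y * c ⟨i, hi⟩ y) : Q) = 1 := by
      rw [QuotientGroup.mk_mul, ← hσ, h, mul_inv_cancel]
    exact (QuotientGroup.eq_one_iff (N := B.subgroupOf Z) (y * c ⟨i, hi⟩ y)).1 h2

theorem exists_odd_root {G : Type*} [Group G] [Finite G] (hodd : Odd (Nat.card G)) {d : G} (h : d * d = 1) :
    d = 1 := by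
  obtain ⟨k, hk⟩ := hodd
  have := pow_card_eq_one' (x := d)
  rwa [hk, pow_succ, pow_mul, pow_two, h, one_pow, one_mul] at this

/-- A faithful abelian invariant subgroup. -/
theorem exists_abelian [Group.IsSolvable S] (hF : Odd (Nat.card ↥(Cfsg.fittingSubgroup S)))
    (I : Subgroup S) (hI : ∀ a ∈ I, ∀ b ∈ I, a * b = b * a) (hI2 : ∀ a ∈ I, a * a = 1) :
    ∃ B : Subgroup S, B ≤ Cfsg.fittingSubgroup S ∧ (∀ a ∈ B, ∀ b ∈ B, a * b = b * a) ∧
      (∀ i ∈ I, ∀ b ∈ B, i * b * i⁻¹ ∈ B) ∧ ∀ t ∈ I, (∀ b ∈ B, t * b = b * t) → t = 1 := by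
  classical
  set F := Cfsg.fittingSubgroup S with hFdef
  haveI hFn : F.Normal := Cfsg.Agent.FittingCores.fitting_normal
  haveI : Group.IsNilpotent F := Cfsg.Agent.FittingCores.fitting_nilpotent
  obtain ⟨B, -, ⟨hBF, hBab, hBn, hBI⟩, hmax⟩ := Finite.exists_le_maximal
    (p := fun B : Subgroup S => B ≤ F ∧ (∀ a ∈ B, ∀ b ∈ B, a * b = b * a) ∧
      (∀ f ∈ F, ∀ b ∈ B, f * b * f⁻¹ ∈ B) ∧ (∀ i ∈ I, ∀ b ∈ B, i * b * i⁻¹ ∈ B))
    ⟨bot_le, by simp, by simp, by simp⟩
  have hself : ∀ c ∈ F, (∀ b ∈ B, c * b = b * c) → c ∈ B := by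
    by_contra hcon
    push Not at hcon
    obtain ⟨c₀, hc₀F, hc₀, hc₀B⟩ := hcon
    haveI hBFn : (B.subgroupOf F).Normal := ⟨fun b hb f => hBn f f.2 b hb⟩
    let C : Subgroup F := (Subgroup.centralizer (B : Set S)).subgroupOf F
    haveI : C.Normal := by
      refine ⟨fun x hx f => ?_⟩
      show (f : S) * x * (f : S)⁻¹ ∈ Subgroup.centralizer (B : Set S)
      rw [Subgroup.mem_centralizer_iff]
      intro b hb
      have hb' : (f : S)⁻¹ * b * (f : S) ∈ B := by simpa using hBn _ (F.inv_mem f.2) b hb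
      have hcm : ((f : S)⁻¹ * b * f) * (x : S) = (x : S) * ((f : S)⁻¹ * b * f) := Subgroup.mem_centralizer_iff.1 hx _ hb'
      calc b * ((f : S) * x * (f : S)⁻¹) = (f : S) * (((f : S)⁻¹ * b * f) * x) * (f : S)⁻¹ := by group
        _ = (f : S) * ((x : S) * ((f : S)⁻¹ * b * f)) * (f : S)⁻¹ := by rw [hcm]
        _ = (f : S) * x * (f : S)⁻¹ * b := by group
    let π := QuotientGroup.mk' (B.subgroupOf F)
    haveI : (C.map π).Normal := Subgroup.Normal.map inferInstance π (QuotientGroup.mk'_surjective _)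
    have hne : C.map π ≠ ⊥ := by
      intro h
      have h1 : π ⟨c₀, hc₀F⟩ ∈ C.map π := Subgroup.mem_map_of_mem π
        (show c₀ ∈ Subgroup.centralizer (B : Set S) from Subgroup.mem_centralizer_iff.2 fun b hb => (hc₀ b hb).symm)
      rw [h, Subgroup.mem_bot] at h1
      exact hc₀B ((QuotientGroup.eq_one_iff (N := B.subgroupOf F) ⟨c₀, hc₀F⟩).1 h1)
    obtain ⟨⟨q, hq⟩, hq1'⟩ := Subgroup.ne_bot_iff_exists_ne_one.1 (Cfsg.Agent.SolvStruct.inf_center_ne_bot hne)
    have hq1 : q ≠ 1 := fun h => hq1' (Subtype.ext h)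
    obtain ⟨⟨x, hxC, hxq⟩, hqZ⟩ := hq
    -- `Z`: the elements of `C` central modulo `B`
    let Z : Subgroup S := (((Subgroup.center (↥F ⧸ B.subgroupOf F)).comap π) ⊓ C).map F.subtype
    have hZF : Z ≤ F := Subgroup.map_subtype_le _
    have hBZ : B ≤ Z := fun b hb => ⟨⟨b, hBF hb⟩, ⟨by
        show π ⟨b, hBF hb⟩ ∈ Subgroup.center _
        rw [show π ⟨b, hBF hb⟩ = 1 from (QuotientGroup.eq_one_iff _).2 hb]
        exact one_mem _,
      show b ∈ Subgroup.centralizer (B : Set S) from Subgroup.mem_centralizer_iff.2 fun b' hb' => hBab b' hb' b hb⟩, rfl⟩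
    have hZcomm : ∀ a ∈ Z, ∀ f ∈ F, a * f * a⁻¹ * f⁻¹ ∈ B := by
      rintro _ ⟨a, ha, rfl⟩ f hf
      have h1 := Subgroup.mem_center_iff.1 ha.1 (π ⟨f, hf⟩)
      have h2 : π (a * ⟨f, hf⟩ * a⁻¹ * (⟨f, hf⟩ : F)⁻¹) = 1 := by
        rw [map_mul, map_mul, map_mul, map_inv, map_inv, ← h1]; group
      have h2' : a * ⟨f, hf⟩ * a⁻¹ * (⟨f, hf⟩ : F)⁻¹ ∈ B.subgroupOf F := (QuotientGroup.eq_one_iff _).1 h2
      exact h2'
    have hBC : ∀ a ∈ Z, ∀ b ∈ B, a * b = b * a := by
      rintro _ ⟨a, ha, rfl⟩ b hb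
      exact (Subgroup.mem_centralizer_iff.1 ha.2 b hb).symm
    have hmemZ : ∀ a ∈ F, (∀ f ∈ F, a * f * a⁻¹ * f⁻¹ ∈ B) → (∀ b ∈ B, a * b = b * a) → a ∈ Z := by
      intro a haF h1 h2
      refine ⟨⟨a, haF⟩, ⟨Subgroup.mem_center_iff.2 fun g => ?_, Subgroup.mem_centralizer_iff.2 fun b hb => (h2 b hb).symm⟩, rfl⟩
      obtain ⟨f, rfl⟩ := QuotientGroup.mk_surjective g
      have h3 : π (⟨a, haF⟩ * f * (⟨a, haF⟩ : F)⁻¹ * f⁻¹) = 1 := (QuotientGroup.eq_one_iff _).2 (h1 f f.2)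
      rw [map_mul, map_mul, map_mul, map_inv, map_inv, mul_inv_eq_one, mul_inv_eq_iff_eq_mul] at h3
      exact h3.symm
    have hIZ : ∀ i ∈ I, ∀ z ∈ Z, i * z * i⁻¹ ∈ Z := by
      intro i hi z hz
      refine hmemZ _ (hFn.conj_mem z (hZF hz) i) (fun f hf => ?_) (fun b hb => ?_)
      · have h1 := hBI i hi _ (hZcomm z hz (i⁻¹ * f * i) (by simpa using hFn.conj_mem f hf i⁻¹))
        simpa [mul_assoc] using h1
      · have h1 := hBC z hz (i⁻¹ * b * i) (by
          have := hBI i⁻¹ (I.inv_mem hi) b hb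
          simpa using this)
        calc i * z * i⁻¹ * b = i * (z * (i⁻¹ * b * i)) * i⁻¹ := by group
          _ = i * ((i⁻¹ * b * i) * z) * i⁻¹ := by rw [h1]
          _ = b * (i * z * i⁻¹) := by group
    haveI : (B.subgroupOf Z).Normal := ⟨fun b hb z => hBn z (hZF z.2) b hb⟩
    have hxZ : (x : S) ∈ Z := ⟨x, ⟨show π x ∈ Subgroup.center _ by rw [hxq]; exact hqZ, hxC⟩, rfl⟩
    obtain ⟨y, hyZ, hyB, hyI⟩ := exists_eigen_conj Z B hBZ (fun a ha b hb => hZcomm a ha b (hZF hb))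
      (Odd.of_dvd_nat hF (Subgroup.card_dvd_of_le hZF)) I hI hI2 hIZ hBI
      ⟨x, hxZ, fun hxB => hq1 (by rw [← hxq]; exact (QuotientGroup.eq_one_iff x).2 hxB)⟩
    set B' := B ⊔ Subgroup.zpowers y with hB'
    have hab : ∀ a ∈ B', ∀ b ∈ B', a * b = b * a := by
      have h1 : B' ≤ Subgroup.centralizer ((B : Set S) ∪ {y}) := sup_le
        (fun b hb => Subgroup.mem_centralizer_iff.2 (by
          rintro c (hc | rfl)
          · exact hBab c hc b hb
          · exact hBC c hyZ b hb))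
        (Subgroup.zpowers_le.2 (Subgroup.mem_centralizer_iff.2 (by
          rintro c (hc | rfl)
          · exact (hBC y hyZ c hc).symm
          · rfl)))
      have h2 : B' ≤ Subgroup.centralizer (B' : Set S) := by
        refine sup_le (fun b hb => ?_) (Subgroup.zpowers_le.2 ?_) <;> rw [Subgroup.mem_centralizer_iff] <;> intro c hc
        · exact (Subgroup.mem_centralizer_iff.1 (h1 hc) b (Or.inl hb)).symm
        · exact (Subgroup.mem_centralizer_iff.1 (h1 hc) y (Or.inr rfl)).symm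
      exact fun a ha b hb => Subgroup.mem_centralizer_iff.1 (h2 hb) a ha
    have hnormal : ∀ (g : S), (∀ b ∈ B, g * b * g⁻¹ ∈ B) → g * y * g⁻¹ ∈ B' → ∀ b ∈ B', g * b * g⁻¹ ∈ B' := by
      intro g h1 h2 b hb
      have : B' ≤ B'.comap (MulAut.conj g).toMonoidHom := sup_le
        (fun c hc => show g * c * g⁻¹ ∈ B' from Subgroup.mem_sup_left (h1 c hc))
        (Subgroup.zpowers_le.2 h2)
      exact this hb
    have hyB' : y ∈ B' := Subgroup.mem_sup_right (Subgroup.mem_zpowers y)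
    have hBB' : B ≤ B' := le_sup_left
    refine hyB (hmax ⟨sup_le hBF (Subgroup.zpowers_le.2 (hZF hyZ)), hab, fun f hf => hnormal f (hBn f hf) ?_,
      fun i hi => hnormal i (hBI i hi) ?_⟩ le_sup_left hyB')
    · have h1 := hBB' (hZcomm y hyZ f hf)
      have h2 : f * y * f⁻¹ = (y * f * y⁻¹ * f⁻¹)⁻¹ * y := by group
      rw [h2]; exact mul_mem (inv_mem h1) hyB'
    · rcases hyI i hi with h | h
      · have h2 : i * y * i⁻¹ = y * (y⁻¹ * (i * y * i⁻¹)) := by group
        rw [h2]; exact mul_mem hyB' (hBB' h)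
      · have h2 : i * y * i⁻¹ = y⁻¹ * (y * (i * y * i⁻¹)) := by group
        rw [h2]; exact mul_mem (inv_mem hyB') (hBB' h)
  refine ⟨B, hBF, hBab, hBI, fun t ht htB => ?_⟩
  have htC : t ∈ Subgroup.centralizer (F : Set S) := by
    rw [Subgroup.mem_centralizer_iff]
    intro g hg
    set d := g⁻¹ * (t * g * t⁻¹) with hd
    have hdF : d ∈ F := mul_mem (inv_mem hg) (hFn.conj_mem g hg t)
    have hdB : d ∈ B := hself d hdF fun b hb => by
      have hb' : g * b * g⁻¹ ∈ B := hBn g hg b hb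
      have h1 := htB _ hb'
      have h2 := htB b hb
      have h3 : t * g * t⁻¹ * b * (t * g * t⁻¹)⁻¹ = g * b * g⁻¹ := by
        calc t * g * t⁻¹ * b * (t * g * t⁻¹)⁻¹ = t * (g * (t⁻¹ * (b * t)) * g⁻¹) * t⁻¹ := by group
          _ = t * (g * b * g⁻¹) * t⁻¹ := by rw [← h2, inv_mul_cancel_left]
          _ = g * b * g⁻¹ := by rw [h1, mul_inv_cancel_right]
      calc d * b = g⁻¹ * (t * g * t⁻¹ * b * (t * g * t⁻¹)⁻¹) * (g * d) := by rw [hd]; group
        _ = b * d := by rw [h3]; group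
    have htd : t * d * t⁻¹ = d := by rw [htB d hdB, mul_inv_cancel_right]
    have hgd : t * g * t⁻¹ = g * d := by rw [hd]; group
    have ht2 := hI2 t ht
    have h4 : g = g * (d * d) := by
      calc g = (t * t) * g * (t * t)⁻¹ := by rw [ht2]; group
        _ = t * (t * g * t⁻¹) * t⁻¹ := by group
        _ = (t * g * t⁻¹) * (t * d * t⁻¹) := by
            conv_lhs => rw [hgd]
            group
        _ = g * (d * d) := by rw [hgd, htd, mul_assoc]
    have hdd : (⟨d, hdF⟩ : F) * ⟨d, hdF⟩ = 1 := Subtype.ext (left_eq_mul.1 h4)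
    have hd1 : d = 1 := congrArg Subtype.val (exists_odd_root hF hdd)
    rw [hd1, mul_one, mul_inv_eq_iff_eq_mul] at hgd
    exact hgd.symm
  have htF := Cfsg.Agent.FittingCores.centralizer_fitting_le htC
  exact congrArg Subtype.val (exists_odd_root hF (d := (⟨t, htF⟩ : F)) (Subtype.ext (hI2 t ht)))

/-- A new invariant subgroup of prime order, moved by a given involution. -/
theorem exists_step {B : Subgroup S} (hab : ∀ a ∈ B, ∀ b ∈ B, a * b = b * a) (hodd : Odd (Nat.card B))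
    (I : Subgroup S) (hI : ∀ a ∈ I, ∀ b ∈ I, a * b = b * a) (hI2 : ∀ a ∈ I, a * a = 1)
    (hIB : ∀ i ∈ I, ∀ b ∈ B, i * b * i⁻¹ ∈ B) {t : S} (ht : t ∈ I) (htB : ¬ ∀ b ∈ B, t * b = b * t) :
    ∃ z ∈ B, (orderOf z).Prime ∧ t * z * t⁻¹ = z⁻¹ ∧ z ≠ z⁻¹ ∧ ∀ i ∈ I, i * z * i⁻¹ = z ∨ i * z * i⁻¹ = z⁻¹ := by
  classical
  have htinv : t⁻¹ = t := inv_eq_of_mul_eq_one_right (hI2 t ht)
  have htt : ∀ x : S, t * (t * x * t⁻¹) * t⁻¹ = x := fun x => by
    calc t * (t * x * t⁻¹) * t⁻¹ = (t * t) * x * (t * t)⁻¹ := by group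
      _ = x := by rw [hI2 t ht]; group
  let E : Subgroup S :=
    { carrier := {x | x ∈ B ∧ t * x * t⁻¹ = x⁻¹}
      one_mem' := ⟨B.one_mem, by simp⟩
      mul_mem' := fun {a b} ha hb => ⟨B.mul_mem ha.1 hb.1, by
        rw [show t * (a * b) * t⁻¹ = (t * a * t⁻¹) * (t * b * t⁻¹) by group, ha.2, hb.2, ← mul_inv_rev,
          hab b hb.1 a ha.1]⟩
      inv_mem' := fun {a} ha => ⟨B.inv_mem ha.1, by
        rw [show t * a⁻¹ * t⁻¹ = (t * a * t⁻¹)⁻¹ by group, ha.2]⟩ }
  have hEB : E ≤ B := fun x hx => hx.1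
  push Not at htB
  obtain ⟨b, hb, htb⟩ := htB
  have hdE : b⁻¹ * (t * b * t⁻¹) ∈ E := by
    refine ⟨B.mul_mem (B.inv_mem hb) (hIB t ht b hb), ?_⟩
    calc t * (b⁻¹ * (t * b * t⁻¹)) * t⁻¹ = (t * b * t⁻¹)⁻¹ * (t * (t * b * t⁻¹) * t⁻¹) := by group
      _ = (t * b * t⁻¹)⁻¹ * b := by rw [htt]
      _ = _ := by group
  haveI : ((⊥ : Subgroup S).subgroupOf E).Normal := by
    rw [Subgroup.bot_subgroupOf]; infer_instance
  obtain ⟨y, hyE, hyB, hyI⟩ := exists_eigen_conj E ⊥ bot_le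
    (fun a ha c hc => Subgroup.mem_bot.2 (by rw [hab a (hEB ha) c (hEB hc)]; group))
    (Odd.of_dvd_nat hodd (Subgroup.card_dvd_of_le hEB)) I hI hI2
    (fun i hi x hx => ⟨hIB i hi x hx.1, by
      have hc := hI i hi t ht
      calc t * (i * x * i⁻¹) * t⁻¹ = (t * i) * x * (t * i)⁻¹ := by group
        _ = (i * t) * x * (i * t)⁻¹ := by rw [hc]
        _ = i * (t * x * t⁻¹) * i⁻¹ := by group
        _ = (i * x * i⁻¹)⁻¹ := by rw [hx.2]; group⟩)
    (fun i _ x hx => by rw [Subgroup.mem_bot.1 hx]; simp)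
    ⟨_, hdE, fun h => htb (by
      have h1 := inv_mul_eq_one.1 (Subgroup.mem_bot.1 h)
      conv_rhs => rw [h1, inv_mul_cancel_right])⟩
  have hy1 : y ≠ 1 := fun h => hyB (Subgroup.mem_bot.2 h)
  obtain ⟨r, hr, hrd⟩ := Nat.exists_prime_and_dvd (fun h : orderOf y = 1 => hy1 (orderOf_eq_one_iff.1 h))
  obtain ⟨k, hk⟩ := hrd
  have hk0 : k ≠ 0 := fun h => (orderOf_pos y).ne' (by rw [hk, h, mul_zero])
  set z := y ^ k with hz
  have hzr : orderOf z = r := by
    rw [hz, orderOf_pow, hk, Nat.gcd_eq_right (dvd_mul_left k r), Nat.mul_div_cancel _ (Nat.pos_of_ne_zero hk0)]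
  have hzE : z ∈ E := E.pow_mem hyE k
  refine ⟨z, hzE.1, hzr ▸ hr, hzE.2, fun h => ?_, fun i hi => ?_⟩
  · have hzz : z * z = 1 := by nth_rewrite 2 [h]; exact mul_inv_cancel z
    have := congrArg Subtype.val (exists_odd_root hodd (d := (⟨z, hzE.1⟩ : B)) (Subtype.ext hzz))
    rw [show z = 1 from this, orderOf_one] at hzr
    exact hr.one_lt.ne hzr
  · rw [hz, ← conj_pow]
    rcases hyI i hi with h | h <;> rw [Subgroup.mem_bot] at h
    · left; rw [← inv_mul_eq_one.1 h]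
    · right; rw [eq_inv_of_mul_eq_one_right h, inv_pow]

/-- Invariant subgroups of prime order inside the Fitting subgroup. -/
theorem result {S : Type*} [Group S] [Finite S]
    [Group.IsSolvable S] (hF : Odd (Nat.card ↥(Cfsg.fittingSubgroup S)))
    (I : Subgroup S) (hI : Cfsg.IsElementaryAbelian 2 I) (n : ℕ) (hn : 1 ≤ n) (hIn : Nat.card ↥I = 2 ^ n) :
    ∃ f : Fin n → Subgroup S, (∀ i, (Nat.card ↥(f i)).Prime) ∧ (∀ i, f i ≤ Cfsg.fittingSubgroup S) ∧
      (∀ i, I ≤ Subgroup.normalizer ((f i) : Set S)) ∧ (∀ i j, i ≠ j → ∀ a ∈ f i, ∀ b ∈ f j, a * b = b * a) ∧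
      Nat.card ↥(⨆ i, f i) = ∏ i, Nat.card ↥(f i) ∧ I ⊓ Subgroup.centralizer ((⨆ i, f i : Subgroup S) : Set S) = ⊥ := by
  classical
  have hI1 : ∀ a ∈ I, ∀ b ∈ I, a * b = b * a := fun a ha b hb =>
    congrArg Subtype.val (hI.1.is_comm.comm (⟨a, ha⟩ : I) ⟨b, hb⟩)
  have hI2 : ∀ a ∈ I, a * a = 1 := fun a ha => by
    have := hI.2 a ha
    rwa [pow_two] at this
  obtain ⟨B, hBF, hab, hBI, hfaith⟩ := exists_abelian hF I hI1 hI2
  have hoddB : Odd (Nat.card B) := Odd.of_dvd_nat hF (Subgroup.card_dvd_of_le hBF)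
  have main : ∀ m, m ≤ n → ∃ f : Fin m → Subgroup S, (∀ i, (Nat.card ↥(f i)).Prime) ∧ (∀ i, f i ≤ B) ∧
      (∀ i, I ≤ Subgroup.normalizer ((f i) : Set S)) ∧ Nat.card ↥(⨆ i, f i) = ∏ i, Nat.card ↥(f i) ∧
      Nat.card ↥(I ⊓ Subgroup.centralizer ((⨆ i, f i : Subgroup S) : Set S)) * 2 ^ m = 2 ^ n := by
    intro m
    induction m with
    | zero =>
      intro _
      refine ⟨Fin.elim0, fun i => i.elim0, fun i => i.elim0, fun i => i.elim0, ?_, ?_⟩
      · rw [iSup_of_empty, Subgroup.card_bot]; rfl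
      · rw [iSup_of_empty, pow_zero, mul_one, inf_eq_left.2, hIn]
        intro x _
        rw [Subgroup.mem_centralizer_iff]
        intro y hy
        rw [Subgroup.mem_bot.1 hy, one_mul, mul_one]
    | succ m ih =>
      intro hm
      obtain ⟨f, hfp, hfB, hfI, hfc, hJ⟩ := ih (Nat.le_of_succ_le hm)
      set S₀ := ⨆ i, f i with hS₀
      have hS₀B : S₀ ≤ B := iSup_le hfB
      set J := I ⊓ Subgroup.centralizer (S₀ : Set S) with hJdef
      have hJne : J ≠ ⊥ := by
        intro h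
        rw [h, Subgroup.card_bot, one_mul] at hJ
        exact absurd (Nat.pow_right_injective le_rfl hJ) (by omega)
      obtain ⟨⟨t, htI, htS⟩, ht1⟩ := Subgroup.ne_bot_iff_exists_ne_one.1 hJne
      have ht1' : t ≠ 1 := fun h => ht1 (Subtype.ext h)
      obtain ⟨z, hzB, hzp, htz, hzz, hzI⟩ := exists_step hab hoddB I hI1 hI2 hBI htI
        (fun h => ht1' (hfaith t htI h))
      set A := Subgroup.zpowers z with hA
      have hAB : A ≤ B := Subgroup.zpowers_le.2 hzB
      have hdisj : ∀ x ∈ S₀, x ∈ A → x = 1 := by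
        intro x hxS hxA
        obtain ⟨k, rfl⟩ := Subgroup.mem_zpowers_iff.1 hxA
        have h1 : t * z ^ k * t⁻¹ = z ^ k := by
          rw [← Subgroup.mem_centralizer_iff.1 htS _ hxS, mul_inv_cancel_right]
        rw [← conj_zpow, htz, inv_zpow] at h1
        have h2 : z ^ k * z ^ k = 1 := by nth_rewrite 1 [← h1]; exact inv_mul_cancel _
        exact congrArg Subtype.val (exists_odd_root hoddB (d := (⟨z ^ k, B.zpow_mem hzB k⟩ : B)) (Subtype.ext h2))
      have hsup : (⨆ i, Fin.snoc (α := fun _ => Subgroup S) f A i) = S₀ ⊔ A := by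
        refine le_antisymm (iSup_le fun i => ?_) (sup_le (iSup_le fun i => ?_) ?_)
        · refine Fin.lastCases ?_ (fun j => ?_) i
          · rw [Fin.snoc_last]; exact le_sup_right
          · rw [Fin.snoc_castSucc]; exact le_sup_of_le_left (le_iSup f j)
        · exact (Fin.snoc_castSucc (α := fun _ => Subgroup S) A f i).ge.trans
            (le_iSup (fun i => Fin.snoc (α := fun _ => Subgroup S) f A i) i.castSucc)
        · exact (Fin.snoc_last (α := fun _ => Subgroup S) A f).ge.trans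
            (le_iSup (fun i => Fin.snoc (α := fun _ => Subgroup S) f A i) (Fin.last m))
      refine ⟨Fin.snoc f A, fun i => ?_, fun i => ?_, fun i => ?_, ?_, ?_⟩
      · refine Fin.lastCases ?_ (fun j => ?_) i
        · rw [Fin.snoc_last, hA, Nat.card_zpowers]; exact hzp
        · rw [Fin.snoc_castSucc]; exact hfp j
      · refine Fin.lastCases ?_ (fun j => ?_) i
        · rw [Fin.snoc_last]; exact hAB
        · rw [Fin.snoc_castSucc]; exact hfB j
      · refine Fin.lastCases ?_ (fun j => ?_) i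
        · rw [Fin.snoc_last]
          intro u hu
          refine Subgroup.mem_normalizer_iff_map_conj_eq.2 (Subgroup.eq_of_le_of_card_ge ?_
            (by rw [Subgroup.card_map_of_injective (MulAut.conj u).injective]))
          rw [hA, MonoidHom.map_zpowers, Subgroup.zpowers_le]
          show u * z * u⁻¹ ∈ Subgroup.zpowers z
          rcases hzI u hu with h | h <;> rw [h]
          · exact Subgroup.mem_zpowers z
          · exact inv_mem (Subgroup.mem_zpowers z)
        · rw [Fin.snoc_castSucc]; exact hfI j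
      · rw [hsup, Fin.prod_univ_castSucc]
        simp only [Fin.snoc_castSucc, Fin.snoc_last]
        rw [← hfc, ← Nat.card_prod]
        let φ := MonoidHom.noncommCoprod S₀.subtype A.subtype
          (fun a b => hab a (hS₀B a.2) b (hAB b.2))
        have hinj : Function.Injective φ := by
          refine (injective_iff_map_eq_one φ).2 fun ⟨a, b⟩ h => ?_
          have h' : (a : S) * b = 1 := h
          have ha : (a : S) = 1 := hdisj _ a.2 (by rw [eq_inv_of_mul_eq_one_left h']; exact A.inv_mem b.2)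
          rw [ha, one_mul] at h'
          exact Prod.ext (Subtype.ext ha) (Subtype.ext h')
        rw [Nat.card_congr (MonoidHom.ofInjective hinj).toEquiv, show φ.range = _ from MonoidHom.noncommCoprod_range _ _ _,
          Subgroup.range_subtype, Subgroup.range_subtype]
      · rw [hsup, pow_succ, mul_comm (2 ^ m) 2, ← mul_assoc, ← hJ]
        congr 1
        set J' := I ⊓ Subgroup.centralizer ((S₀ ⊔ A : Subgroup S) : Set S) with hJ'
        have hle : J' ≤ J := fun x hx => ⟨hx.1, Subgroup.centralizer_le (SetLike.coe_subset_coe.2 le_sup_left) hx.2⟩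
        have hmem : ∀ x ∈ J, x ∈ J' ↔ x * z * x⁻¹ = z := by
          intro x hx
          constructor
          · intro h
            rw [← Subgroup.mem_centralizer_iff.1 h.2 z (Subgroup.mem_sup_right (Subgroup.mem_zpowers z)),
              mul_inv_cancel_right]
          · intro h
            have h1 : S₀ ⊔ A ≤ Subgroup.centralizer ({x} : Set S) := sup_le
              (fun c hc => Subgroup.mem_centralizer_singleton_iff.2 (Subgroup.mem_centralizer_iff.1 hx.2 c hc))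
              (Subgroup.zpowers_le.2 (Subgroup.mem_centralizer_singleton_iff.2 (mul_inv_eq_iff_eq_mul.1 h).symm))
            exact ⟨hx.1, Subgroup.mem_centralizer_iff.2 fun c hc =>
              Subgroup.mem_centralizer_singleton_iff.1 (h1 hc)⟩
        have hidx : (J'.subgroupOf J).index = 2 := by
          rw [Subgroup.index_eq_two_iff]
          refine ⟨⟨t, htI, htS⟩, fun b => ?_⟩
          simp only [Subgroup.mem_subgroupOf]
          rw [hmem _ b.2, hmem _ (SetLike.coe_mem _), Subgroup.coe_mul]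
          have e : (b : S) * t * z * ((b : S) * t)⁻¹ = ((b : S) * z * (b : S)⁻¹)⁻¹ := by
            calc (b : S) * t * z * ((b : S) * t)⁻¹ = (b : S) * (t * z * t⁻¹) * (b : S)⁻¹ := by group
              _ = _ := by rw [htz]; group
          rw [e]
          rcases hzI b b.2.1 with h | h <;> rw [h]
          · exact Or.inr ⟨rfl, fun h' => hzz h'.symm⟩
          · exact Or.inl ⟨inv_inv z, fun h' => hzz h'.symm⟩
        rw [← (J'.subgroupOf J).card_mul_index, hidx, Nat.card_congr (Subgroup.subgroupOfEquivOfLe hle).toEquiv]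
  obtain ⟨f, hfp, hfB, hfI, hfc, hJ⟩ := main n le_rfl
  refine ⟨f, hfp, fun i => (hfB i).trans hBF, hfI, fun i j _ a ha b hb => hab a (hfB i ha) b (hfB j hb), hfc, ?_⟩
  exact Subgroup.card_eq_one.1 (Nat.eq_of_mul_eq_mul_right (Nat.two_pow_pos n) (hJ.trans (one_mul _).symm))

end Cfsg.Agent.S4408
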