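import Cfsg.Statements.S4409
import Cfsg.Agent.Lib.FGStruct.SmallCases
import Cfsg.Agent.Lib.FiniteGroup.FittingPow

set_option autoImplicit false
open Cfsg

namespace Cfsg.Agent.S4409

/-- Let S be a finite solvable group with O_{2'}(S) = 1 that contains a non-cyclic abelian subgroup of order 8, while no proper subgroup of S of 2-power index contains one. Then a Sylow 2-subgroup X of S is normal in S, and one of the following holds: X is abelian; X is extraspecial of order at least 32; X has a generalized quaternion subgroup X₀ of index 2 with X = X₀·C_X(X₀); or X is special with centre of order 4. -/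
theorem result {S : Type*} [Group S] [Finite S]
    [Group.IsSolvable S] (hO : Cfsg.pPrimeCore 2 S = ⊥)
    (h8 : ∃ A : Subgroup S, IsMulCommutative ↥A ∧ ¬ IsCyclic ↥A ∧ Nat.card ↥A = 8)
    (hmin : ∀ R : Subgroup S, R ≠ ⊤ → (∃ k : ℕ, R.index = 2 ^ k) →
      ¬ ∃ A : Subgroup S, A ≤ R ∧ IsMulCommutative ↥A ∧ ¬ IsCyclic ↥A ∧ Nat.card ↥A = 8)
    (X : Sylow 2 S) :
    (X : Subgroup S).Normal ∧
      (IsMulCommutative ↥X ∨
        (Cfsg.IsExtraspecial 2 ↥X ∧ 32 ≤ Nat.card ↥X) ∨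
        (∃ (X₀ : Subgroup S) (k : ℕ), X₀ ≤ (X : Subgroup S) ∧ X₀.relIndex (X : Subgroup S) = 2 ∧
          Nonempty (↥X₀ ≃* QuaternionGroup (2 ^ (k + 1))) ∧ X₀ ⊔ ((X : Subgroup S) ⊓ Subgroup.centralizer (X₀ : Set S)) = (X : Subgroup S)) ∨
        (Cfsg.IsSpecial 2 ↥X ∧ Nat.card ↥(Subgroup.center ↥X) = 4)) := by
  classical
  haveI : Fact (Nat.Prime 2) := ⟨Nat.prime_two⟩
  obtain ⟨A, hA, hAnc, hA8⟩ := h8
  have hX2 : IsPGroup 2 (X : Subgroup S) := X.isPGroup'
  obtain ⟨n, hn⟩ := IsPGroup.iff_card.1 hX2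
  have hodd : ¬ 2 ∣ (X : Subgroup S).index := X.not_dvd_index
  have hS : Nat.card S = (X : Subgroup S).index * 2 ^ n := by
    rw [← (X : Subgroup S).card_mul_index, hn, mul_comm]
  have hcop : ((X : Subgroup S).index).Coprime (2 ^ n) :=
    ((Nat.prime_two.coprime_iff_not_dvd.2 hodd).pow_left n).symm
  obtain ⟨K, hK⟩ := HallSolv.exists_hall hS hcop
  have hKodd : Odd (Nat.card K) := by
    rw [hK, ← Nat.not_even_iff_odd, even_iff_two_dvd]
    exact hodd
  have hover : ∀ Y : Subgroup S, Y ≤ (X : Subgroup S) → Y ≠ (X : Subgroup S) →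
      (∀ k ∈ K, k ∈ Subgroup.normalizer (Y : Set S)) → SmallTwo.Small Y := by
    intro Y hYX hYne hKY
    rintro ⟨B, hBY, hB⟩
    refine hmin (K ⊔ Y) ?_ ?_ ⟨B, hBY.trans le_sup_right, hB⟩
    · intro h
      have hset := Subgroup.coe_mul_of_left_le_normalizer_right K Y hKY
      rw [h, Subgroup.coe_top] at hset
      have hsurj : Function.Surjective fun p : K × Y => (p.1 : S) * p.2 := by
        intro s
        obtain ⟨k, hk, y, hy, e⟩ := Set.mem_mul.1 (hset.le (Set.mem_univ s))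
        exact ⟨(⟨k, hk⟩, ⟨y, hy⟩), e⟩
      have h1 := Nat.card_le_card_of_surjective _ hsurj
      rw [Nat.card_prod, hS, hK] at h1
      have h2 := Nat.le_of_mul_le_mul_left h1 (Nat.pos_of_ne_zero Subgroup.index_ne_zero_of_finite)
      exact hYne (Subgroup.eq_of_le_of_card_ge hYX (by rw [hn]; exact h2))
    · have h1 := Subgroup.index_dvd_of_le (le_sup_left : K ≤ K ⊔ Y)
      have h2 : K.index = 2 ^ n := by
        have h3 := K.card_mul_index
        rw [hS, hK] at h3
        exact Nat.eq_of_mul_eq_mul_left (Nat.pos_of_ne_zero Subgroup.index_ne_zero_of_finite) h3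
      rw [h2] at h1
      obtain ⟨i, -, hi⟩ := (Nat.dvd_prime_pow Nat.prime_two).1 h1
      exact ⟨i, hi⟩
  haveI : (Cfsg.pCore 2 S).Normal := Cfsg.Agent.FiniteGroup.pCore_normal (G := S) 2
  have hCO := FittingCores.centralizer_pCore_le Nat.prime_two hO
  have hO2 : IsPGroup 2 (Cfsg.pCore 2 S) := LEBasic.pCore_isPGroup
  have hOX : Cfsg.pCore 2 S ≤ (X : Subgroup S) := LEBasic.pCore_le_sylow X
  have hKO : ∀ k ∈ K, k ∈ Subgroup.normalizer (Cfsg.pCore 2 S : Set S) := fun k _ => by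
    rw [Subgroup.normalizer_eq_top]; trivial
  have hKodd' : ∀ k ∈ K, Odd (orderOf k) := fun k hk => Odd.of_dvd_nat hKodd (K.orderOf_dvd_natCard hk)
  have hK0 : (∀ k ∈ K, k = 1) → (X : Subgroup S) = ⊤ := by
    intro h
    have hb : K = ⊥ := eq_bot_iff.2 fun k hk => Subgroup.mem_bot.2 (h k hk)
    refine Subgroup.index_eq_one.1 ?_
    rw [← hK, hb, Subgroup.card_bot]
  have hXO : (X : Subgroup S) = Cfsg.pCore 2 S := by
    by_contra hne
    by_cases hk : ∀ k ∈ K, k = 1
    · refine hne (le_antisymm ?_ hOX)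
      have hXtop := hK0 hk
      rw [hXtop]
      refine LEBasic.le_pCore inferInstance ?_
      rw [← hXtop]; exact hX2
    · push Not at hk
      obtain ⟨k, hk, hk1⟩ := hk
      exact SmallTwo.sylow_le_core hO2 hCO (hover _ hOX (Ne.symm hne) hKO) hA hAnc hA8 (hKodd' k hk) hk1
  haveI hXn : (X : Subgroup S).Normal := by rw [hXO]; infer_instance
  refine ⟨hXn, ?_⟩
  by_cases hab : IsMulCommutative (X : Subgroup S)
  · exact Or.inl hab
  have hAX : A ≤ (X : Subgroup S) :=
    by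
      obtain ⟨T, hT⟩ := (IsPGroup.of_card (show Nat.card A = 2 ^ 3 by rw [hA8]; norm_num)).exists_le_sylow
      have hXT : (X : Subgroup S) ≤ (T : Subgroup S) := LEBasic.normal_le_sylow hX2 T
      rw [X.is_maximal' T.isPGroup' hXT] at hT
      exact hT
  obtain ⟨k₀, hk₀, hk1⟩ : ∃ k ∈ K, k ≠ 1 := by
    by_contra h
    push Not at h
    have hXtop := hK0 h
    have hAtop : A = ⊤ := by
      by_contra hne
      refine hmin A hne ?_ ⟨A, le_rfl, hA, hAnc, hA8⟩
      have h1 := A.index_dvd_card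
      rw [← Subgroup.card_top (G := S), ← hXtop, hn] at h1
      obtain ⟨i, -, hi⟩ := (Nat.dvd_prime_pow Nat.prime_two).1 h1
      exact ⟨i, hi⟩
    exact hab (le_antisymm hAX (hAtop.ge.trans' le_top) ▸ hA)
  have hKX : ∀ k ∈ K, k ∈ Subgroup.normalizer ((X : Subgroup S) : Set S) := fun k _ => by
    rw [Subgroup.normalizer_eq_top]; trivial
  have hkc : ¬ ∀ x ∈ (X : Subgroup S), k₀ * x = x * k₀ := by
    intro h
    obtain ⟨i, hi⟩ := IsPGroup.exists_orderOf_eq_pow hX2
      ⟨k₀, hXO.ge (hCO (Subgroup.mem_centralizer_iff.2 fun w hw => (h w (hXO.ge hw)).symm))⟩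
    rw [← Subgroup.orderOf_coe] at hi
    exact hk1 (orderOf_eq_one_iff.1 (Nat.eq_one_of_dvd_coprimes
      ((Nat.coprime_two_right.2 (hKodd' k₀ hk₀)).pow_right i) dvd_rfl (dvd_of_eq hi)))
  have hne : (X : Subgroup S) ≠ ⊥ := fun h => hab (by rw [h]; infer_instance)
  have hFX := SmallTwo.frat_le (X : Subgroup S)
  have hFn : ∀ k ∈ K, k ∈ Subgroup.normalizer (SmallTwo.frat (X : Subgroup S) : Set S) := fun k hk =>
    SmallTwo.normalizer_le_frat _ (hKX k hk)
  have hsF := hover _ hFX (SmallTwo.frat_ne hne) hFn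
  have hFc : ∀ f ∈ SmallTwo.frat (X : Subgroup S), ∀ x ∈ (X : Subgroup S), x * f = f * x := by
    refine SmallTwo.frat_central hX2 (hKodd' k₀ hk₀) (hKX k₀ hk₀) hkc hsF ?_
    refine or_iff_not_imp_left.2 fun hne' => hover _ inf_le_left hne' fun k hk => ?_
    refine Subgroup.mem_normalizer_fintype fun w hw => Subgroup.mem_inf.2
      ⟨(Subgroup.mem_normalizer_iff.1 (hKX k hk) w).1 hw.1, Subgroup.mem_centralizer_iff.2 fun f hf => ?_⟩
    have hf' : k⁻¹ * f * k ∈ SmallTwo.frat (X : Subgroup S) := by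
      simpa using (Subgroup.mem_normalizer_iff.1 (inv_mem (hFn k hk)) f).1 hf
    have := Subgroup.mem_centralizer_iff.1 hw.2 _ hf'
    calc f * (k * w * k⁻¹) = k * ((k⁻¹ * f * k) * w) * k⁻¹ := by group
      _ = k * (w * (k⁻¹ * f * k)) * k⁻¹ := by rw [this]
      _ = _ := by group
  by_cases hF2 : Nat.card (SmallTwo.frat (X : Subgroup S)) ≤ 2
  · rcases SmallTwo.two_cases hX2 hAX hA hA8 hover hKX hKodd hk₀ hkc hab hF2 with h | h
    · exact Or.inr (Or.inl h)
    · exact Or.inr (Or.inr (Or.inl h))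
  · rcases SmallTwo.frat_cycOrFour hX2 hsF with hc | ⟨h4, hnc⟩
    · refine absurd hc (SmallTwo.not_cyclic_frat hX2 hover hKX hk₀ hKodd' hkc hFc ?_)
      obtain ⟨i, hi⟩ := IsPGroup.iff_card.1 (hX2.to_le hFX)
      rw [hi] at hF2 ⊢
      have : 2 ≤ i := by
        by_contra hlt
        exact hF2 ((Nat.pow_le_pow_right two_pos (show i ≤ 1 by omega)).trans (le_of_eq (pow_one 2)))
      exact (Nat.pow_le_pow_right two_pos this)
    · exact Or.inr (Or.inr (Or.inr (SmallTwo.special_of_four hX2 hover hKX hab hFc h4 hnc)))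

end Cfsg.Agent.S4409
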