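import Cfsg.Agent.Lib.Solvable.Fitting
import Cfsg.Agent.Lib.Transfer.Basic
import Mathlib.Algebra.Module.ZMod
import Mathlib.GroupTheory.PGroup
import Mathlib.LinearAlgebra.Finsupp.LinearCombination

/-! A transvection is not a square in a solvable linear group with trivial `O₂`. -/

set_option autoImplicit false
set_option linter.style.haveILetI false

namespace Cfsg.Agent.S4410

open Cfsg.Agent

variable {V : Type*} [AddCommGroup V] [Module (ZMod 2) V]

private abbrev ap {S : Subgroup (V ≃ₗ[ZMod 2] V)} (g : S) (v : V) : V := (g : V ≃ₗ[ZMod 2] V) v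

variable {S : Subgroup (V ≃ₗ[ZMod 2] V)}

private theorem ap_mul (g h : S) (v : V) : ap (g * h) v = ap g (ap h v) := rfl

private theorem ap_one (v : V) : ap (1 : S) v = v := rfl

private theorem ap_inj (g : S) {u v : V} (h : ap g u = ap g v) : u = v := (g : V ≃ₗ[ZMod 2] V).injective h

private theorem ap_add (g : S) (u v : V) : ap g (u + v) = ap g u + ap g v := map_add _ u v

private theorem ap_zero (g : S) : ap g (0 : V) = 0 := map_zero _

private theorem ap_ext {g h : S} (e : ∀ v, ap g v = ap h v) : g = h := Subtype.ext (LinearEquiv.ext e)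

private theorem self (x : V) : x + x = 0 := ZModModule.add_self x

private theorem cancel (x y : V) : x + (x + y) = y := by rw [← add_assoc, self, zero_add]

/-- an element of odd order moving into a set it fixes is trivial -/
private theorem eq_one_of_moves {g : S} (ho : (orderOf g).Coprime 2) (U : V → Prop)
    (hU : ∀ u, U u → ap g u = u) (hm : ∀ v, U (ap g v + v)) : g = 1 := by
  have h2 : g ^ 2 = 1 := ap_ext fun v => by
    rw [sq, ap_mul, ap_one]
    have h := hU _ (hm v)
    rw [ap_add] at h
    exact add_right_cancel (h.trans (add_comm (ap g v) v))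
  rw [← orderOf_eq_one_iff]
  exact Nat.Coprime.eq_one_of_dvd ho (orderOf_dvd_of_pow_eq_one h2)

private theorem fixes_of_sq {g : S} (ho : (orderOf g).Coprime 2) {x : V} (h : ap (g * g) x = x) : ap g x = x := by
  have hp : ∀ n : ℕ, ap ((g * g) ^ n) x = x := by
    intro n
    induction n with
    | zero => rw [pow_zero, ap_one]
    | succ n ih => rw [pow_succ, ap_mul, h, ih]
  obtain ⟨k, hk⟩ : Odd (orderOf g) := Nat.coprime_two_right.1 ho
  have := hp (k + 1)
  rwa [← sq, ← pow_mul, show 2 * (k + 1) = orderOf g + 1 by omega, pow_succ, pow_orderOf_eq_one, one_mul] at this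

private def InW (c : V) (y : S) (x : V) : Prop := x = 0 ∨ x = c ∨ x = ap y c ∨ x = c + ap y c

/-- the shape of an element of odd order inverted by a transvection -/
private theorem plane {c : V} (hc : c ≠ 0) {t : S} (htt : t * t = 1) (ht : ∀ v, ap t v = v ∨ ap t v = v + c)
    {y : S} (ho : (orderOf y).Coprime 2) (hy : y ≠ 1) (hinv : t * y * t = y⁻¹) :
    (∀ v, InW c y (ap y v + v)) ∧ ap y c ≠ c ∧ ap y c ≠ 0 ∧ ap y (ap y c) = c + ap y c ∧ y ^ 3 = 1 := by
  obtain ⟨k, hk⟩ : Odd (orderOf y) := Nat.coprime_two_right.1 ho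
  set s := y ^ (k + 1) with hs
  have hss : s * s = y := by
    rw [hs, ← pow_add, show k + 1 + (k + 1) = orderOf y + 1 by omega, pow_succ, pow_orderOf_eq_one, one_mul]
  have hti : t⁻¹ = t := inv_eq_of_mul_eq_one_right htt
  have hinv' : MulAut.conj t y = y⁻¹ := by rw [MulAut.conj_apply, hti, hinv]
  have hts : t * s * t = s⁻¹ := by
    have h := map_pow (MulAut.conj t) y (k + 1)
    rw [hinv', inv_pow, MulAut.conj_apply, hti] at h
    exact h
  have hts' : t * s⁻¹ * t = s := by
    have h := congrArg (fun x => x⁻¹) hts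
    simp only [mul_inv_rev, inv_inv, hti] at h
    rwa [← mul_assoc] at h
  set t' := s⁻¹ * t * s with ht'
  have hyt : t * t' = y := by
    rw [ht', show t * (s⁻¹ * t * s) = t * s⁻¹ * t * s by group, hts', hss]
  set c' := ap s⁻¹ c with hc'
  have ht'v : ∀ v, ap t' v = v ∨ ap t' v = v + c' := by
    intro v
    rw [ht', ap_mul, ap_mul]
    have h1 : ap s⁻¹ (ap s v) = v := by rw [← ap_mul, inv_mul_cancel, ap_one]
    rcases ht (ap s v) with h | h <;> rw [h]
    · exact Or.inl h1
    · exact Or.inr (by rw [ap_add, h1])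
  have hc'0 : c' ≠ 0 := fun h => hc (ap_inj s⁻¹ (h.trans (ap_zero _).symm))
  have htc : ap t c = c := (ht c).resolve_right fun h => hc (ap_inj t (by rw [h, self, ap_zero]))
  have ht'c' : ap t' c' = c' := (ht'v c').resolve_right fun h => hc'0 (ap_inj t' (by rw [h, self, ap_zero]))
  have hyv : ∀ v, ap y v = ap t (ap t' v) := fun v => by rw [← hyt, ap_mul]
  have hne : ap t' c = c + c' := by
    refine (ht'v c).resolve_left fun h => hy ?_
    have hyc : ap y c = c := by rw [hyv, h, htc]
    have hyc' : ap y c' = c' ∨ ap y c' = c' + c := by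
      rw [hyv, ht'c']; exact ht c'
    have hc'2 : ap (y * y) c' = c' := by
      rw [ap_mul]
      rcases hyc' with e | e <;> rw [e]
      · exact e
      · rw [ap_add, e, hyc, add_assoc, self, add_zero]
    have hfix : ap y c' = c' := fixes_of_sq ho hc'2
    refine eq_one_of_moves ho (fun x => x = 0 ∨ x = c ∨ x = c' ∨ x = c + c') ?_ fun v => ?_
    · rintro u (rfl | rfl | rfl | rfl)
      exacts [ap_zero _, hyc, hfix, by rw [ap_add, hyc, hfix]]
    · show ap y v + v = 0 ∨ _
      rw [hyv]
      rcases ht (ap t' v) with e1 | e1 <;> rw [e1] <;> rcases ht'v v with e2 | e2 <;> rw [e2]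
      · exact Or.inl (self v)
      · exact Or.inr (Or.inr (Or.inl (by rw [add_comm, cancel])))
      · exact Or.inr (Or.inl (by rw [add_comm, cancel]))
      · exact Or.inr (Or.inr (Or.inr (by rw [add_assoc v, add_comm, cancel, add_comm])))
  have hyc : ap y c = c' ∨ ap y c = c + c' := by
    rw [hyv, hne, ap_add, htc]
    rcases ht c' with e | e <;> rw [e]
    · exact Or.inr rfl
    · exact Or.inl (by rw [add_comm c' c, cancel])
  have hc'c : c' ≠ c := fun e => by
    rw [e, self] at hne
    exact hc (ap_inj t' (hne.trans (ap_zero _).symm))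
  have hyc1 : ap y c ≠ c := by
    rcases hyc with e | e <;> rw [e]
    · exact hc'c
    · exact fun h => hc'0 (left_eq_add.1 h.symm)
  have hyc0 : ap y c ≠ 0 := fun h => hc (ap_inj y (h.trans (ap_zero _).symm))
  have hW : ∀ v, InW c y (ap y v + v) := by
    intro v
    have hc'W : InW c y c' ∧ InW c y (c + c') := by
      rcases hyc with e | e
      · exact ⟨Or.inr (Or.inr (Or.inl e.symm)), Or.inr (Or.inr (Or.inr (by rw [e])))⟩
      · exact ⟨Or.inr (Or.inr (Or.inr (by rw [e, cancel]))), Or.inr (Or.inr (Or.inl e.symm))⟩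
    rw [hyv]
    rcases ht (ap t' v) with e1 | e1 <;> rw [e1] <;> rcases ht'v v with e2 | e2 <;> rw [e2]
    · exact Or.inl (self v)
    · rw [show v + c' + v = c' by rw [add_comm, cancel]]; exact hc'W.1
    · rw [show v + c + v = c by rw [add_comm, cancel]]; exact Or.inr (Or.inl rfl)
    · rw [show v + c' + c + v = c + c' by rw [add_assoc v, add_comm, cancel, add_comm]]; exact hc'W.2
  have hyy : ap y (ap y c) = c + ap y c := by
    rcases hW (ap y c) with e | e | e | e
    · exact absurd (ap_inj y (add_eq_zero_iff_eq_neg.1 e |>.trans (ZModModule.neg_eq_self _))) hyc1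
    · have h := congrArg (fun x => x + ap y c) e
      simpa [add_assoc, self] using h
    · exact absurd (ap_inj y ((add_eq_right.1 e).trans (ap_zero y).symm)) hyc0
    · exact absurd (fixes_of_sq ho (by rw [ap_mul]; exact add_right_cancel e)) hyc1
  refine ⟨hW, hyc1, hyc0, hyy, ?_⟩
  have h3 : ap (y ^ 3) c = c := by
    rw [show y ^ 3 = y * (y * y) by rw [pow_succ, sq, mul_assoc], ap_mul, ap_mul, hyy, ap_add, hyy, add_comm c, cancel]
  refine eq_one_of_moves (ho.coprime_dvd_left (orderOf_pow_dvd 3)) (InW c y) ?_ fun v => ?_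
  · have h3' : ap (y ^ 3) (ap y c) = ap y c := by
      rw [← ap_mul, ← pow_succ, pow_succ', ap_mul, h3]
    rintro u (rfl | rfl | rfl | rfl)
    exacts [ap_zero _, h3, h3', by rw [ap_add, h3, h3']]
  · have hsum : ∀ a b, InW c y a → InW c y b → InW c y (a + b) := by
      rintro a b (rfl | rfl | rfl | rfl) (rfl | rfl | rfl | rfl) <;>
        simp [InW, self, cancel, add_comm, add_left_comm]
    have e : ap (y ^ 3) v + v =
        (ap y (ap y (ap y v)) + ap y (ap y v)) + ((ap y (ap y v) + ap y v) + (ap y v + v)) := by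
      rw [show y ^ 3 = y * (y * y) by rw [pow_succ, sq, mul_assoc], ap_mul, ap_mul, add_assoc (ap y (ap y v)), cancel, add_assoc,
        cancel]
    rw [e]
    exact hsum _ _ (hW _) (hsum _ _ (hW _) (hW _))

/-- at most one subgroup of odd order inverted by a transvection inside a nilpotent group -/
private theorem unique [Finite V] {c : V} (hc : c ≠ 0) {t : S} (htt : t * t = 1)
    (ht : ∀ v, ap t v = v ∨ ap t v = v + c) {F : Subgroup S} (hFn : Group.IsNilpotent F)
    (hF : ∀ g ∈ F, (orderOf g).Coprime 2) {y y' : S} (hyF : y ∈ F) (hy'F : y' ∈ F) (hy : y ≠ 1) (hy' : y' ≠ 1)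
    (hinv : t * y * t = y⁻¹) (hinv' : t * y' * t = y'⁻¹) : y' = y ∨ y' = y⁻¹ := by
  obtain ⟨hW, hyc1, hyc0, hyy, hy3⟩ := plane hc htt ht (hF y hyF) hy hinv
  obtain ⟨hW', hy'c1, hy'c0, hy'y', hy'3⟩ := plane hc htt ht (hF y' hy'F) hy' hinv'
  have hsum : ∀ a b, InW c y a → InW c y b → InW c y (a + b) := by
    rintro a b (rfl | rfl | rfl | rfl) (rfl | rfl | rfl | rfl) <;>
      simp [InW, self, cancel, add_comm, add_left_comm]
  by_cases hin : InW c y (ap y' c)
  · -- the same plane
    have hWW : ∀ x, InW c y' x → InW c y x := by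
      rintro x (rfl | rfl | rfl | rfl)
      exacts [Or.inl rfl, Or.inr (Or.inl rfl), hin, hsum _ _ (Or.inr (Or.inl rfl)) hin]
    have h3c : ap y' (c + ap y' c) = c := by rw [ap_add, hy'y', add_comm c, cancel]
    rcases hin with e | e | e | e
    · exact absurd e hy'c0
    · exact absurd e hy'c1
    · left
      have h : y⁻¹ * y' = 1 := by
        have g1 : ap (y⁻¹ * y') c = c := by rw [ap_mul, e, ← ap_mul, inv_mul_cancel, ap_one]
        have g2 : ap (y⁻¹ * y') (ap y c) = ap y c := by
          rw [ap_mul, ← e, hy'y', e, ← hyy, ← ap_mul, inv_mul_cancel, ap_one]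
        refine eq_one_of_moves (hF _ (F.mul_mem (F.inv_mem hyF) hy'F)) (InW c y) ?_ fun v => ?_
        · rintro u (rfl | rfl | rfl | rfl)
          exacts [ap_zero _, g1, g2, by rw [ap_add, g1, g2]]
        · have h1 := hW (ap (y⁻¹ * y') v)
          rw [show ap y (ap (y⁻¹ * y') v) = ap y' v by rw [← ap_mul, mul_inv_cancel_left]] at h1
          have h2 := hsum _ _ h1 (hWW _ (hW' v))
          rwa [add_comm (ap y' v) (ap (y⁻¹ * y') v), add_assoc, cancel] at h2
      rw [inv_mul_eq_one] at h
      exact h.symm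
    · right
      have h : y * y' = 1 := by
        have g1 : ap (y * y') c = c := by rw [ap_mul, e, ap_add, hyy, add_comm c, cancel]
        have hyc' : ap y c = c + ap y' c := by rw [e, cancel]
        have g2 : ap (y * y') (ap y c) = ap y c := by rw [ap_mul, hyc', h3c]; exact hyc'
        refine eq_one_of_moves (hF _ (F.mul_mem hyF hy'F)) (InW c y) ?_ fun v => ?_
        · rintro u (rfl | rfl | rfl | rfl)
          exacts [ap_zero _, g1, g2, by rw [ap_add, g1, g2]]
        · have h2 := hsum _ _ (hW (ap y' v)) (hWW _ (hW' v))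
          rwa [add_assoc, cancel, ← ap_mul] at h2
      exact eq_inv_of_mul_eq_one_right h
  · -- different planes: a central element is trivial
    exfalso
    set R := Subgroup.closure ({y, y'} : Set S) with hR
    have hRF : R ≤ F := by
      rw [hR, Subgroup.closure_le]
      rintro x (rfl | rfl) <;> assumption
    let U : AddSubgroup V :=
      { carrier := {x | ∃ a b, InW c y a ∧ InW c y' b ∧ x = a + b}
        zero_mem' := ⟨0, 0, Or.inl rfl, Or.inl rfl, (add_zero _).symm⟩
        add_mem' := by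
          rintro _ _ ⟨a, b, ha, hb, rfl⟩ ⟨a', b', ha', hb', rfl⟩
          refine ⟨a + a', b + b', hsum _ _ ha ha', ?_, add_add_add_comm a b a' b'⟩
          rcases hb with rfl | rfl | rfl | rfl <;> rcases hb' with rfl | rfl | rfl | rfl <;>
            simp [InW, self, cancel, add_comm, add_left_comm]
        neg_mem' := fun h => by rw [ZModModule.neg_eq_self]; exact h }
    have hmoves : ∀ g ∈ R, ∀ v, ap g v + v ∈ U := by
      intro g hg
      rw [hR] at hg
      induction hg using Subgroup.closure_induction with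
      | mem x hx =>
        intro v
        rcases hx with rfl | rfl
        · exact ⟨_, 0, hW v, Or.inl rfl, (add_zero _).symm⟩
        · exact ⟨0, _, Or.inl rfl, hW' v, (zero_add _).symm⟩
      | one => intro v; rw [ap_one, self]; exact U.zero_mem
      | mul a b _ _ iha ihb =>
        intro v
        have := U.add_mem (iha (ap b v)) (ihb v)
        rwa [add_assoc, cancel, ← ap_mul] at this
      | inv a _ iha =>
        intro v
        have := iha (ap a⁻¹ v)
        rwa [← ap_mul, mul_inv_cancel, ap_one, add_comm] at this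
    haveI : Finite (V ≃ₗ[ZMod 2] V) := Finite.of_injective (fun g => (g : V → V)) DFunLike.coe_injective
    haveI : Group.IsNilpotent R := Group.nilpotent_of_mulEquiv (Subgroup.subgroupOfEquivOfLe hRF)
    haveI : Nontrivial R := (Subgroup.nontrivial_iff_ne_bot R).2 fun h => hy
      (Subgroup.mem_bot.1 (h ▸ Subgroup.subset_closure (Set.mem_insert _ _) : y ∈ (⊥ : Subgroup S)))
    obtain ⟨⟨z, hz⟩, hz1⟩ : ∃ z : Subgroup.center R, z ≠ 1 := by
      haveI : Nontrivial (Subgroup.center R) :=
        (Subgroup.nontrivial_iff_ne_bot _).2 (Group.IsNilpotent.center_ne_bot R)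
      exact exists_ne 1
    have hzc : ∀ g ∈ R, (z : S) * g = g * z := fun g hg =>
      (congrArg Subtype.val (Subgroup.mem_center_iff.1 hz ⟨g, hg⟩)).symm
    have hz0 : (z : S) ≠ 1 := fun e => hz1 (Subtype.ext (Subtype.ext e))
    have hpres : ∀ (w : S), w ∈ R → (∀ v, InW c w (ap w v + v)) → ap w c ≠ c → ap w (ap w c) = c + ap w c →
        InW c w (ap (z : S) c) := by
      intro w hw hWw h1 h2
      have hwadd : ∀ v, InW c w (ap (z : S) (ap w v + v)) := fun v => by
        rw [ap_add, ← ap_mul, hzc w hw, ap_mul]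
        exact hWw _
      have := hwadd (ap w c)
      rwa [h2, add_assoc, self, add_zero] at this
    have hyR : y ∈ R := Subgroup.subset_closure (Set.mem_insert _ _)
    have hy'R : y' ∈ R := Subgroup.subset_closure (Set.mem_insert_of_mem _ rfl)
    have e1 := hpres y hyR hW hyc1 hyy
    have e2 := hpres y' hy'R hW' hy'c1 hy'y'
    have hzcc : ap (z : S) c = c := by
      rcases e2 with e | e | e | e
      · exact absurd (ap_inj (z : S) (e.trans (ap_zero _).symm)) hc
      · exact e
      · exact absurd (e ▸ e1) hin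
      · refine absurd ?_ hin
        have := hsum _ _ (Or.inr (Or.inl rfl) : InW c y c) (e ▸ e1)
        rwa [cancel] at this
    have hzy : ∀ w ∈ R, ap (z : S) (ap w c) = ap w c := fun w hw => by
      rw [← ap_mul, hzc w hw, ap_mul, hzcc]
    refine hz0 (eq_one_of_moves (hF _ (hRF z.2)) (fun x => x ∈ U) ?_ (hmoves _ z.2))
    rintro u ⟨a, b, ha, hb, rfl⟩
    have fix : ∀ w ∈ R, ∀ x, InW c w x → ap (z : S) x = x := by
      rintro w hw x (rfl | rfl | rfl | rfl)
      exacts [ap_zero _, hzcc, hzy w hw, by rw [ap_add, hzcc, hzy w hw]]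
    rw [ap_add, fix y hyR a ha, fix y' hy'R b hb]

theorem result
    {V : Type*} [AddCommGroup V] [Module (ZMod 2) V] [Finite V]
    (S : Subgroup (V ≃ₗ[ZMod 2] V)) (hS : Group.IsSolvable ↥S) (hO2 : Cfsg.pCore 2 ↥S = ⊥)
    (P : V ≃ₗ[ZMod 2] V) (hPS : P ∈ S) (hP4 : orderOf P = 4)
    (hcub : ((P : V →ₗ[ZMod 2] V) - LinearMap.id) ^ 3 = 0) :
    4 ≤ Nat.card ↥(LinearMap.range (((P : V →ₗ[ZMod 2] V) - LinearMap.id) ^ 2)) := by
  haveI : Fact (Nat.Prime 2) := ⟨Nat.prime_two⟩
  haveI : Finite (V ≃ₗ[ZMod 2] V) := Finite.of_injective (fun g => (g : V → V)) DFunLike.coe_injective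
  haveI := hS
  set Q : S := ⟨P, hPS⟩ with hQdef
  set t : S := Q ^ 2 with htdef
  set L := ((P : V →ₗ[ZMod 2] V) - LinearMap.id) ^ 2 with hL
  have hLv : ∀ v, L v = ap t v + v := by
    intro v
    rw [htdef, sq, ap_mul, hL, sq, Module.End.mul_apply]
    simp only [LinearMap.sub_apply, LinearMap.id_apply, LinearEquiv.coe_coe, map_sub, ZModModule.sub_eq_add]
    show P (P v + v) + (P v + v) = P (P v) + v
    rw [map_add, add_assoc, cancel]
  have hQ4 : orderOf Q = 4 := (Subgroup.orderOf_mk P hPS).trans hP4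
  have ht1 : t ≠ 1 := fun e => by
    have := orderOf_dvd_of_pow_eq_one e
    rw [hQ4] at this
    norm_num at this
  have htt : t * t = 1 := by
    rw [htdef, ← pow_add, show 2 + 2 = orderOf Q by rw [hQ4], pow_orderOf_eq_one]
  obtain ⟨v₀, hv₀⟩ : ∃ v, ap t v ≠ v := by
    by_contra h
    push Not at h
    exact ht1 (ap_ext fun v => (h v).trans (ap_one v).symm)
  set c := L v₀ with hcdef
  have hc : c ≠ 0 := fun h => hv₀ (by
    rw [hcdef, hLv, add_eq_zero_iff_eq_neg, ZModModule.neg_eq_self] at h; exact h)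
  by_contra hlt
  have hrange : ∀ x ∈ LinearMap.range L, x = 0 ∨ x = c := by
    intro x hx
    by_contra h
    push Not at h
    apply hlt
    have hcm : c ∈ LinearMap.range L := ⟨v₀, rfl⟩
    have hsub : ({0, c, x, c + x} : Set V) ⊆ (LinearMap.range L : Set V) := by
      rintro y (rfl | rfl | rfl | rfl)
      exacts [Submodule.zero_mem _, hcm, hx, Submodule.add_mem _ hcm hx]
    have h4 := Set.ncard_le_ncard hsub (Set.toFinite _)
    rw [Set.ncard_insert_of_notMem, Set.ncard_insert_of_notMem, Set.ncard_pair,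
      ← Nat.card_coe_set_eq (LinearMap.range L : Set V)] at h4
    · exact h4
    · exact fun e => hc (left_eq_add.1 (e.trans (add_comm c x)))
    · rintro (e | e)
      exacts [h.2 e.symm, h.1 (left_eq_add.1 e)]
    · rintro (e | e | e)
      exacts [hc e.symm, h.1 e.symm, h.2 (by
        have e' : (0 : V) = c + x := e
        rw [eq_comm, add_eq_zero_iff_eq_neg, ZModModule.neg_eq_self] at e'; exact e'.symm)]
  have ht : ∀ v, ap t v = v ∨ ap t v = v + c := by
    intro v
    have hv : ap t v = L v + v := by rw [hLv, add_assoc, self, add_zero]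
    rcases hrange (L v) ⟨v, rfl⟩ with e | e <;> rw [hv, e]
    · exact Or.inl (zero_add v)
    · exact Or.inr (add_comm c v)
  -- the Fitting subgroup has odd order
  set F := Cfsg.fittingSubgroup S with hFdef
  haveI hFn : Group.IsNilpotent F := FittingCores.fitting_nilpotent
  have hFodd : ∀ g ∈ F, (orderOf g).Coprime 2 := by
    intro g hg
    have h2 : ¬ 2 ∣ Nat.card F := by
      intro hd
      obtain ⟨T⟩ : Nonempty (Sylow 2 F) := inferInstance
      have h := FittingCores.sylow_le_pCore_of_nilpotent (N := F) FittingCores.fitting_normal 2 T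
      rw [hO2, le_bot_iff, Subgroup.map_eq_bot_iff_of_injective _ F.subtype_injective] at h
      exact T.ne_bot_of_dvd_card hd h
    have hdvd : orderOf g ∣ Nat.card F := Subgroup.orderOf_dvd_natCard F hg
    exact Nat.Coprime.coprime_dvd_left hdvd ((Nat.prime_two.coprime_iff_not_dvd).2 h2).symm
  -- an inverted element
  obtain ⟨k, hk, hkt⟩ : ∃ k ∈ F, t * k ≠ k * t := by
    by_contra h
    push Not at h
    have htF : t ∈ F := FittingCores.centralizer_fitting_le
      (Subgroup.mem_centralizer_iff.2 fun k hk => (h k hk).symm)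
    have h1 := hFodd t htF
    rw [orderOf_eq_prime (by rw [sq, htt]) ht1] at h1
    norm_num at h1
  have hti : t⁻¹ = t := inv_eq_of_mul_eq_one_right htt
  haveI hFnorm : F.Normal := FittingCores.fitting_normal
  set y := t * k * t * k⁻¹ with hydef
  have hyF : y ∈ F := by
    have h := hFnorm.conj_mem k hk t
    rw [hti] at h
    exact F.mul_mem h (F.inv_mem hk)
  have hy1 : y ≠ 1 := fun e => hkt (by
    rw [hydef, mul_inv_eq_one] at e
    calc t * k = t * k * (t * t) := by rw [htt, mul_one]
      _ = t * k * t * t := (mul_assoc _ _ _).symm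
      _ = k * t := by rw [e])
  have hyinv : t * y * t = y⁻¹ := by
    rw [hydef, mul_inv_rev, mul_inv_rev, mul_inv_rev, inv_inv, hti]
    calc t * (t * k * t * k⁻¹) * t = t * t * k * t * k⁻¹ * t := by group
      _ = k * t * k⁻¹ * t := by rw [htt, one_mul]
      _ = _ := by group
  set y' := Q * y * Q⁻¹ with hy'def
  have hQt : t * Q = Q * t := by rw [htdef, ← pow_succ, ← pow_succ']
  have hy'inv : t * y' * t = y'⁻¹ := by
    have hQt' : Q⁻¹ * t = t * Q⁻¹ := by
      calc Q⁻¹ * t = Q⁻¹ * (t * Q) * Q⁻¹ := by group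
        _ = t * Q⁻¹ := by rw [hQt]; group
    calc t * (Q * y * Q⁻¹) * t = (t * Q) * y * (Q⁻¹ * t) := by group
      _ = Q * (t * y * t) * Q⁻¹ := by rw [hQt, hQt']; group
      _ = (Q * y * Q⁻¹)⁻¹ := by rw [hyinv]; group
  have hy'F : y' ∈ F := hFnorm.conj_mem y hyF Q
  have hy'1 : y' ≠ 1 := fun e => hy1 (by rw [hy'def, mul_inv_eq_one, mul_eq_left] at e; exact e)
  have hfix : t * y * t = y := by
    have e2 : t * y * t = Q * y' * Q⁻¹ := by
      rw [show t * y * t = t * y * t⁻¹ by rw [hti], htdef, hy'def, sq]; group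
    rw [e2]
    rcases unique hc htt ht hFn hFodd hyF hy'F hy1 hy'1 hyinv hy'inv with e | e
    · rw [e, ← hy'def, e]
    · rw [e, show Q * y⁻¹ * Q⁻¹ = y'⁻¹ by rw [hy'def]; group, e, inv_inv]
  have h2 : y ^ 2 = 1 := by
    rw [hyinv] at hfix
    calc y ^ 2 = y * y := sq y
      _ = y * y⁻¹ := by rw [hfix]
      _ = 1 := mul_inv_cancel y
  exact hy1 (orderOf_eq_one_iff.1 (Nat.Coprime.eq_one_of_dvd (hFodd y hyF) (orderOf_dvd_of_pow_eq_one h2)))

end Cfsg.Agent.S4410
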