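import Cfsg.Statements.S4411
import Cfsg.Agent.Lib.FGStruct.Automizer
-- import your own Cfsg.Agent.* helpers here

set_option autoImplicit false
open Cfsg

open scoped Pointwise

namespace Cfsg.Agent.S4411

/-- Let p and q be distinct primes with {p, q} ≠ {2, 3}, and let G be a finite group such that for every p-subgroup H of G the automizer N_G(H)/C_G(H) is p-solvable. If q divides the order of N_G(H)/C_G(H) for some p-subgroup H, then a Sylow p-subgroup of G has a normal subgroup K (normal in the Sylow subgroup) such that q divides the order of N_G(K)/C_G(K). -/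
theorem result {G : Type*} [Group G] [Finite G]
    (p q : ℕ) [Fact p.Prime] [Fact q.Prime] (hpq : p ≠ q) (h23 : ¬ ((p = 2 ∧ q = 3) ∨ (p = 3 ∧ q = 2)))
    (hsol : ∀ H : Subgroup G, IsPGroup p ↥H →
      Cfsg.IsPSolvable p (↥(Subgroup.normalizer (H : Set G)) ⧸ (Subgroup.centralizer (H : Set G)).subgroupOf (Subgroup.normalizer (H : Set G))))
    (H : Subgroup G) (hH : IsPGroup p ↥H)
    (hq : q ∣ ((Subgroup.centralizer (H : Set G)).subgroupOf (Subgroup.normalizer (H : Set G))).index)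
    (Gp : Sylow p G) :
    ∃ K : Subgroup G, K ≤ (Gp : Subgroup G) ∧ (Gp : Subgroup G) ≤ Subgroup.normalizer (K : Set G) ∧
      q ∣ ((Subgroup.centralizer (K : Set G)).subgroupOf (Subgroup.normalizer (K : Set G))).index := by
  classical
  set M := {K : Subgroup G | IsPGroup p K ∧ Automizer.Moves q K}
  obtain ⟨H₁, hH₁, hmax⟩ := (Set.toFinite M).exists_maximalFor
    (fun K : Subgroup G => (Nat.card (Subgroup.normalizer (K : Set G))).factorization p) M
    ⟨H, hH, Automizer.moves_of_dvd hq⟩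
  set N := Subgroup.normalizer (H₁ : Set G) with hNdef
  obtain ⟨T, hHT⟩ := (hH₁.1.comap_of_injective N.subtype N.subtype_injective).exists_le_sylow
  set T' := (T : Subgroup N).map N.subtype with hT'
  have hHT' : H₁ ≤ T' := fun x hx => ⟨⟨x, Subgroup.le_normalizer hx⟩, hHT hx, rfl⟩
  have hTp : IsPGroup p T' := T.isPGroup'.map _
  by_cases hSyl : ∀ P : Sylow p G, T' ≤ (P : Subgroup G) → (P : Subgroup G) = T'
  · obtain ⟨P, hP⟩ := hTp.exists_le_sylow
    obtain ⟨g, hg⟩ := MulAction.exists_smul_eq G P Gp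
    obtain ⟨y, hy, hyc, k, hk⟩ := hH₁.2
    have hmem : ∀ x : G, x ∈ (Gp : Subgroup G) ↔ g⁻¹ * x * g ∈ T' := by
      intro x
      rw [← hg, Sylow.smul_def, Sylow.pointwise_smul_def, Subgroup.mem_pointwise_smul_iff_inv_smul_mem,
        hSyl P hP, ← map_inv, MulAut.smul_def, MulAut.conj_apply, inv_inv]
    have hT'N : T' ≤ N := Subgroup.map_subtype_le _
    set K := H₁.map (MulAut.conj g).toMonoidHom with hK
    have hKmem : ∀ x, x ∈ K ↔ g⁻¹ * x * g ∈ H₁ := by
      intro x
      rw [hK, Subgroup.mem_map_equiv, MulAut.conj_symm_apply]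
    have hconj : ∀ z : G, z ∈ Subgroup.normalizer (H₁ : Set G) →
        g * z * g⁻¹ ∈ Subgroup.normalizer (K : Set G) := by
      intro z hz
      rw [Subgroup.mem_normalizer_iff]
      intro w
      rw [hKmem, hKmem, Subgroup.mem_normalizer_iff.1 hz]
      simp [mul_assoc]
    refine ⟨K, fun x hx => (hmem x).2 (hHT' ((hKmem x).1 hx)), fun x hx => ?_,
      Automizer.dvd_of_moves ⟨g * y * g⁻¹, hconj y hy, fun h => hyc ?_, k, ?_⟩⟩
    · have := hconj _ (hT'N ((hmem x).1 hx))
      simpa [mul_assoc] using this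
    · refine Subgroup.mem_centralizer_iff.2 fun w hw => ?_
      have h1 := Subgroup.mem_centralizer_iff.1 h (g * w * g⁻¹) ((hKmem _).2 (by simpa [mul_assoc] using hw))
      have h2 := congrArg (fun t => g⁻¹ * t * g) h1
      simpa [mul_assoc] using h2
    · rw [show g * y * g⁻¹ = MulAut.conj g y from rfl, (MulAut.conj g).orderOf_eq, hk]
  exfalso
  push Not at hSyl
  obtain ⟨P, hP, hPne⟩ := hSyl
  haveI hCn : ((Subgroup.centralizer (H₁ : Set G)).subgroupOf N).Normal := inferInstance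
  set C := (Subgroup.centralizer (H₁ : Set G)).subgroupOf N with hC
  obtain ⟨R, hR⟩ := PBasic.exists_sylow_subgroupOf T C
  have hfr := Sylow.normalizer_sup_eq_top R
  have hRmap : (R : Subgroup C).map C.subtype = (T : Subgroup N) ⊓ C := by
    rw [hR, Subgroup.subgroupOf_map_subtype]
  rw [hRmap] at hfr
  set M₁ := Subgroup.normalizer (((T : Subgroup N) ⊓ C : Subgroup N) : Set N) with hM₁
  have hTM : (T : Subgroup N) ≤ M₁ := by
    intro t (ht : t ∈ (T : Subgroup N))
    rw [hM₁, Subgroup.mem_normalizer_iff]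
    intro x
    rw [Subgroup.mem_inf, Subgroup.mem_inf]
    refine ⟨fun hx => ⟨mul_mem (mul_mem ht hx.1) (inv_mem ht), hCn.conj_mem x hx.2 t⟩, fun hx =>
      ⟨?_, by have := hCn.conj_mem _ hx.2 t⁻¹; simpa [mul_assoc] using this⟩⟩
    have := mul_mem (mul_mem (inv_mem ht) hx.1) ht
    rwa [show t⁻¹ * (t * x * t⁻¹) * t = x by group] at this
  set CM := C.subgroupOf M₁ with hCM
  have hN₁ : Cfsg.IsPSolvable p CM := by
    have hRle : (T : Subgroup N) ⊓ C ≤ M₁ := inf_le_left.trans hTM
    set R₁ := (((T : Subgroup N) ⊓ C).subgroupOf M₁).subgroupOf CM with hR₁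
    haveI : (((T : Subgroup N) ⊓ C).subgroupOf M₁).Normal := Subgroup.normal_in_normalizer
    haveI : R₁.Normal := inferInstance
    have hR₁p : IsPGroup p R₁ :=
      ((T.isPGroup'.to_le (inf_le_left : (T : Subgroup N) ⊓ C ≤ T)).comap_of_injective M₁.subtype
        M₁.subtype_injective).comap_of_injective CM.subtype CM.subtype_injective
    refine PSolvable.of_extension R₁ (PSolvable.of_isPGroup hR₁p) (PSolvable.of_coprime ?_)
    have h1 : (R₁.index).Coprime p := by
      refine ((Fact.out : p.Prime).coprime_iff_not_dvd.2 fun hd => ?_).symm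
      refine R.not_dvd_index ?_
      have e : R₁.index = ((T : Subgroup N) ⊓ C).relIndex (C ⊓ M₁) := by
        rw [hR₁, ← Subgroup.relIndex, hCM, ← Subgroup.inf_subgroupOf_right C M₁,
          Subgroup.relIndex_subgroupOf inf_le_right]
      have e2 : (R : Subgroup C).index = ((T : Subgroup N) ⊓ C).relIndex C := by
        rw [hR]
        show (T : Subgroup N).relIndex C = _
        rw [Subgroup.inf_relIndex_right]
      rw [e2, ← Subgroup.relIndex_mul_relIndex _ (C ⊓ M₁) C (le_inf inf_le_right hRle) inf_le_left]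
      exact (e ▸ hd).mul_right _
    exact h1
  haveI : CM.Normal := inferInstance
  have hMq : Cfsg.IsPSolvable p (M₁ ⧸ CM) := by
    have hs := hsol H₁ hH₁.1
    set φ := (QuotientGroup.mk' C).comp M₁.subtype with hφ
    have hker : φ.ker = CM := by
      ext x
      rw [MonoidHom.mem_ker, hφ, MonoidHom.comp_apply, QuotientGroup.mk'_apply, QuotientGroup.eq_one_iff]
      rfl
    exact PSolvable.of_injective ((QuotientGroup.kerLift φ).comp
      (QuotientGroup.quotientMulEquivOfEq hker.symm).toMonoidHom)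
      ((QuotientGroup.kerLift_injective φ).comp (MulEquiv.injective _)) hs
  have hMs : Cfsg.IsPSolvable p M₁ := PSolvable.of_extension CM hN₁ hMq
  haveI := PBasic.pPrimeCore_characteristic p M₁
  set D := Cfsg.pPrimeCore p M₁ with hD
  have hDc : ∀ d ∈ D, ((d : N) : G) ∈ Subgroup.centralizer (H₁ : Set G) := by
    intro d hd
    refine Subgroup.mem_centralizer_iff.2 fun h hh => ?_
    set h' : M₁ := ⟨⟨h, Subgroup.le_normalizer hh⟩, hTM (hHT hh)⟩ with hh'
    have h1 : d * h' * d⁻¹ * h'⁻¹ ∈ D := by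
      rw [show d * h' * d⁻¹ * h'⁻¹ = d * (h' * d⁻¹ * h'⁻¹) by group]
      exact mul_mem hd ((inferInstance : D.Normal).conj_mem _ (inv_mem hd) h')
    have h2 : ((d : N) : G) * h * ((d : N) : G)⁻¹ * h⁻¹ ∈ H₁ :=
      mul_mem ((Subgroup.mem_normalizer_iff.1 (d : N).2 h).1 hh) (inv_mem hh)
    have h3 := PBasic.eq_one_of_isPGroup_of_coprime hH₁.1 h2 (by
      have e : ((((d * h' * d⁻¹ * h'⁻¹ : M₁) : N) : G)) = ((d : N) : G) * h * ((d : N) : G)⁻¹ * h⁻¹ := rfl
      rw [← e, Subgroup.orderOf_coe, Subgroup.orderOf_coe]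
      exact (PBasic.pPrimeCore_coprime p M₁).coprime_dvd_left (Subgroup.orderOf_dvd_natCard _ h1))
    rw [mul_inv_eq_one, mul_inv_eq_iff_eq_mul] at h3
    exact h3.symm
  obtain ⟨y, hy, hyc, k, hk⟩ := hH₁.2
  have hsplit : (⟨y, hy⟩ : N) ∈ (M₁ : Set N) * (C : Set N) := by
    rw [← Subgroup.coe_mul_of_left_le_normalizer_right M₁ C Subgroup.le_normalizer_of_normal, hfr]
    exact Subgroup.mem_top _
  obtain ⟨m, hm, c, hc, hmc⟩ := Set.mem_mul.1 hsplit
  have hym : (y : G) = (m : G) * (c : G) := congrArg Subtype.val hmc.symm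
  have hmc' : QuotientGroup.mk' C m = QuotientGroup.mk' C (⟨y, hy⟩ : N) := by
    rw [← hmc, QuotientGroup.mk'_apply, QuotientGroup.mk'_apply, QuotientGroup.eq]
    simpa using hc
  have hmne : QuotientGroup.mk' C m ≠ 1 := by
    rw [hmc']
    exact fun e => hyc ((QuotientGroup.eq_one_iff (N := C) (⟨y, hy⟩ : N)).1 e)
  obtain ⟨j, -, hj⟩ := (Nat.dvd_prime_pow (Fact.out : q.Prime)).1
    ((orderOf_map_dvd (QuotientGroup.mk' C) (⟨y, hy⟩ : N)).trans
      ((dvd_of_eq (Subgroup.orderOf_coe (⟨y, hy⟩ : N)).symm).trans (dvd_of_eq hk)))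
  have hDC : D ≤ CM := fun d hd => hDc d hd
  have hqX : q ∣ Nat.card (M₁ ⧸ D) := by
    have h1 : q ∣ orderOf (QuotientGroup.mk' C m) := by
      rw [hmc', hj]
      refine dvd_pow_self q fun h0 => hmne ?_
      rw [hmc', ← orderOf_eq_one_iff, hj, h0, pow_zero]
    refine h1.trans ?_
    refine (?_ : orderOf (QuotientGroup.mk' C m) ∣ orderOf (QuotientGroup.mk' D (⟨m, hm⟩ : M₁))).trans
      (orderOf_dvd_natCard _)
    refine orderOf_dvd_of_pow_eq_one ?_
    have h2 := pow_orderOf_eq_one (QuotientGroup.mk' D (⟨m, hm⟩ : M₁))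
    rw [← map_pow, QuotientGroup.mk'_apply, QuotientGroup.eq_one_iff] at h2
    rw [← map_pow, QuotientGroup.mk'_apply, QuotientGroup.eq_one_iff]
    exact hDC h2
  have h23' := h23
  obtain ⟨K', hK', y', hy', hyc', k', hk'⟩ := Automizer.exists_char hpq h23' _ (M₁ ⧸ D) rfl
    (PSolvable.quotient _ hMs) (Automizer.pPrimeCore_quotient_core p) hqX
    ((T.subtype hTM).mapSurjective (QuotientGroup.mk'_surjective D))
  rw [Sylow.coe_mapSurjective, Sylow.coe_subtype] at hK'
  set TM := (T : Subgroup N).subgroupOf M₁ with hTMdef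
  set f := QuotientGroup.mk' D with hf
  have hTMp : IsPGroup p TM := T.isPGroup'.comap_of_injective M₁.subtype M₁.subtype_injective
  have hbot : f.ker.subgroupOf TM = ⊥ := by
    rw [eq_bot_iff]
    intro x hx
    rw [Subgroup.mem_subgroupOf, QuotientGroup.ker_mk'] at hx
    exact Subgroup.mem_bot.2 (Subtype.ext (PBasic.eq_one_of_isPGroup_of_coprime hTMp x.2
      ((PBasic.pPrimeCore_coprime p M₁).coprime_dvd_left (Subgroup.orderOf_dvd_natCard _ hx))))
  have hKc := Automizer.charIn_comap f rfl (by rw [hbot]; infer_instance) hK'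
  set K₁ := TM ⊓ K'.comap f with hK₁
  have hK₁map : K₁.map f = K' := by
    refine le_antisymm ?_ fun w hw => ?_
    · rintro _ ⟨x, hx, rfl⟩; exact hx.2
    · obtain ⟨x, hx, rfl⟩ := hK'.1 hw
      exact ⟨x, ⟨hx, hw⟩, rfl⟩
  set E := K'.comap f with hE
  have hK₁p : IsPGroup p K₁ := hTMp.to_le inf_le_left
  obtain ⟨g, rfl⟩ := QuotientGroup.mk'_surjective D y'
  have hgE : ∀ w : M₁, w ∈ E ↔ g * w * g⁻¹ ∈ E := by
    intro w
    rw [hE, Subgroup.mem_comap, Subgroup.mem_comap, map_mul, map_mul, map_inv]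
    exact Subgroup.mem_normalizer_iff.1 hy' _
  have hDE : D ≤ E := fun d hd => by
    show f d ∈ K'
    rw [show f d = 1 from (QuotientGroup.eq_one_iff d).2 hd]
    exact one_mem _
  have hEdec : ∀ e ∈ E, ∃ d ∈ D, ∃ u ∈ K₁, e = d * u := by
    intro e he
    obtain ⟨u, hu, hue⟩ := hK'.1 (show f e ∈ K' from he)
    have hd : e * u⁻¹ ∈ D := by
      rw [← QuotientGroup.eq_one_iff (N := D), ← QuotientGroup.mk'_apply, map_mul, map_inv, hue, mul_inv_cancel]
    exact ⟨e * u⁻¹, hd, u, ⟨hu, show f u ∈ K' by rw [hue]; exact he⟩, by group⟩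
  have hK₁E : K₁ ≤ E := inf_le_right
  have hidx : ¬ p ∣ (K₁.subgroupOf E).index := by
    have hsub : (K₁.subgroupOf E).index ∣ Nat.card D := by
      haveI : (D.subgroupOf E).Normal := inferInstance
      have htop : K₁.subgroupOf E ⊔ D.subgroupOf E = ⊤ := by
        refine eq_top_iff.2 fun x _ => ?_
        obtain ⟨d, hd, u, hu, e⟩ := hEdec x x.2
        have : x = (⟨d, hDE hd⟩ : E) * ⟨u, hK₁E hu⟩ := Subtype.ext e
        rw [this]
        exact mul_mem (Subgroup.mem_sup_right hd) (Subgroup.mem_sup_left hu)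
      have h1 := (K₁.subgroupOf E).card_mul_index
      have h2 := (D.subgroupOf E).card_mul_index
      have h3 : Nat.card (K₁.subgroupOf E) ∣ (D.subgroupOf E).index * Nat.card (K₁.subgroupOf E) := dvd_mul_left _ _
      have h4 : (D.subgroupOf E).index ∣ Nat.card (K₁.subgroupOf E) := by
        rw [← Subgroup.relIndex_top_right (D.subgroupOf E), ← htop, Subgroup.relIndex_sup_right]
        exact Subgroup.index_dvd_card _
      rw [← Nat.card_congr (Subgroup.subgroupOfEquivOfLe hDE).toEquiv]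
      obtain ⟨r, hr⟩ := h4
      refine ⟨r, Nat.eq_of_mul_eq_mul_left (Nat.pos_of_ne_zero
        (Subgroup.index_ne_zero_of_finite (H := D.subgroupOf E))) ?_⟩
      rw [mul_comm _ (Nat.card (D.subgroupOf E)), h2, ← h1, hr]
      ring
    exact fun h => ((Fact.out : p.Prime).coprime_iff_not_dvd).1 (PBasic.pPrimeCore_coprime p M₁).symm
      (h.trans hsub)
  set S₀ : Sylow p E := (hK₁p.comap_of_injective E.subtype E.subtype_injective).toSylow hidx with hS₀
  set σ : E →* E :=
    { toFun := fun w => ⟨g * w * g⁻¹, (hgE w).1 w.2⟩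
      map_one' := Subtype.ext (by simp)
      map_mul' := fun a b => Subtype.ext (by simp [mul_assoc]) } with hσ
  have hσs : Function.Surjective σ := fun w =>
    ⟨⟨g⁻¹ * w * g, (hgE _).2 (by simpa [mul_assoc] using w.2)⟩, Subtype.ext (by simp [hσ, mul_assoc])⟩
  obtain ⟨e, he⟩ := MulAction.exists_smul_eq E (S₀.mapSurjective hσs) S₀
  obtain ⟨d, hd, u, hu, hedu⟩ := hEdec (e : M₁) e.2
  obtain ⟨d', hd', u', hu', hed'⟩ : ∃ d ∈ D, ∃ u ∈ K₁, (e : M₁) = u * d :=
    ⟨u⁻¹ * d * u, by simpa using (inferInstance : D.Normal).conj_mem d hd u⁻¹, u, hu, by rw [hedu]; group⟩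
  have hfwd : ∀ w ∈ K₁, (d' * g) * w * (d' * g)⁻¹ ∈ K₁ := by
    intro w hw
    have hwS : (⟨w, hK₁E hw⟩ : E) ∈ (S₀ : Subgroup E) := hw
    have h1 : σ ⟨w, hK₁E hw⟩ ∈ ((S₀.mapSurjective hσs : Sylow p E) : Subgroup E) := ⟨_, hwS, rfl⟩
    have h2 := Subgroup.smul_mem_pointwise_smul _ (MulAut.conj e) _ h1
    rw [← Sylow.pointwise_smul_def, ← Sylow.smul_def, he] at h2
    have h3 : (e : M₁) * (g * w * g⁻¹) * (e : M₁)⁻¹ ∈ K₁ := h2
    rw [hed'] at h3
    have h4 := mul_mem (mul_mem (inv_mem hu') h3) hu'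
    simpa [mul_assoc] using h4
  have hgN : d' * g ∈ Subgroup.normalizer (K₁ : Set M₁) := by
    refine Subgroup.mem_normalizer_fintype fun w hw => hfwd w hw
  have hfg : f (d' * g) = f g := by
    rw [map_mul, show f d' = 1 from (QuotientGroup.eq_one_iff d').2 hd', one_mul]
  obtain ⟨y₁, hy₁, hy₁c, k₁, hk₁⟩ := Automizer.moves_of_image (Fact.out : q.Prime) f hgN
    (by rw [hfg]; exact hk') (by rwa [hfg, hK₁map])
  set ι := N.subtype.comp M₁.subtype with hι
  set K₂ := K₁.map ι with hK₂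
  have hmov : Automizer.Moves q K₂ := by
    refine ⟨ι y₁, ?_, fun h => hy₁c (Subgroup.mem_centralizer_iff.2 fun v hv => ?_), k₁, ?_⟩
    · refine Subgroup.mem_normalizer_fintype ?_
      rintro _ ⟨v, hv, rfl⟩
      exact ⟨y₁ * v * y₁⁻¹, (Subgroup.mem_normalizer_iff.1 hy₁ v).1 hv, by rw [map_mul, map_mul, map_inv]⟩
    · exact (N.subtype_injective.comp M₁.subtype_injective) (by
        have := Subgroup.mem_centralizer_iff.1 h (ι v) ⟨v, hv, rfl⟩
        rwa [← map_mul, ← map_mul] at this)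
    · rw [orderOf_injective ι (N.subtype_injective.comp M₁.subtype_injective), hk₁]
  have hK₂p : IsPGroup p K₂ := hK₁p.map _
  have hlt : (Nat.card N).factorization p <
      (Nat.card (Subgroup.normalizer (K₂ : Set G))).factorization p := by
    haveI := hKc.2
    have hTmap : TM.map ι = T' := by
      rw [hι, ← Subgroup.map_map, hTMdef, Subgroup.subgroupOf_map_subtype, inf_eq_left.2 hTM]
    have hchar : Automizer.CharIn T' K₂ := by
      refine ⟨hTmap ▸ Subgroup.map_mono inf_le_left, ?_⟩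
      rw [Subgroup.characteristic_iff_le_comap]
      intro φ x hx
      obtain ⟨w, hw, hwx⟩ := hx
      set e₁ : TM ≃* T' := (TM.equivMapOfInjective ι (N.subtype_injective.comp M₁.subtype_injective)).trans
        (MulEquiv.subgroupCongr hTmap) with he₁
      have hwe : e₁.symm x = ⟨w, hw.1⟩ := e₁.symm_apply_eq.2 (Subtype.ext hwx.symm)
      have h1 := Subgroup.characteristic_iff_le_comap.1 hKc.2 (e₁.trans (φ.trans e₁.symm))
        (show (⟨w, hw.1⟩ : TM) ∈ K₁.subgroupOf TM from hw)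
      have h2 : (e₁.trans (φ.trans e₁.symm)).toMonoidHom (⟨w, hw.1⟩ : TM) = e₁.symm (φ x) := by
        show e₁.symm (φ (e₁ ⟨w, hw.1⟩)) = _
        rw [← hwe, MulEquiv.apply_symm_apply]
      rw [Subgroup.mem_comap, h2] at h1
      exact ⟨((e₁.symm (φ x) : TM) : M₁), h1, congrArg Subtype.val (e₁.apply_symm_apply (φ x))⟩
    have hT'P : T' < (P : Subgroup G) := lt_of_le_of_ne hP (Ne.symm hPne)
    obtain ⟨U, hU, hUN, hlt'⟩ : ∃ U : Subgroup G, IsPGroup p U ∧ U ≤ Subgroup.normalizer (T' : Set G) ∧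
        Nat.card T' < Nat.card U := by
      haveI := IsPGroup.isNilpotent P.isPGroup'
      have hlt2 : T'.subgroupOf (P : Subgroup G) < ⊤ := lt_top_iff_ne_top.2 fun h =>
        hPne (le_antisymm (Subgroup.subgroupOf_eq_top.1 h) hP)
      have hnc := Group.normalizerCondition_of_isNilpotent _ hlt2
      refine ⟨(Subgroup.normalizer ((T'.subgroupOf (P : Subgroup G) : Subgroup (P : Subgroup G)) : Set (P : Subgroup G))).map (P : Subgroup G).subtype,
        P.isPGroup'.to_le (Subgroup.map_subtype_le _), ?_, ?_⟩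
      · rintro _ ⟨x, hx, rfl⟩
        refine Subgroup.mem_normalizer_fintype fun w hw => ?_
        exact (Subgroup.mem_normalizer_iff.1 hx ⟨w, hP hw⟩).1 hw
      · rw [Subgroup.card_map_of_injective (P : Subgroup G).subtype_injective,
          ← Nat.card_congr (Subgroup.subgroupOfEquivOfLe hP).toEquiv]
        exact lt_of_le_of_ne (Subgroup.card_le_of_le hnc.le)
          fun e => hnc.ne (Subgroup.eq_of_le_of_card_ge hnc.le e.ge)
    have hT'card : Nat.card T' = p ^ (Nat.card N).factorization p := by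
      rw [hT', Subgroup.card_map_of_injective N.subtype_injective]
      exact T.card_eq_multiplicity
    obtain ⟨i, hi⟩ := IsPGroup.iff_card.1 hU
    rw [hT'card, hi] at hlt'
    have hd : p ^ i ∣ Nat.card (Subgroup.normalizer (K₂ : Set G)) :=
      hi ▸ Subgroup.card_dvd_of_le (hUN.trans hchar.normalizer_le)
    exact lt_of_lt_of_le ((Nat.pow_lt_pow_iff_right (Fact.out : p.Prime).one_lt).1 hlt')
      (((Fact.out : p.Prime).pow_dvd_iff_le_factorization Nat.card_pos.ne').1 hd)
  exact absurd (hmax ⟨hK₂p, hmov⟩ hlt.le) (not_le.2 hlt)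

end Cfsg.Agent.S4411
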