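import Cfsg.Prelude.Def_Transfer
import Cfsg.Agent.Lib.FiniteGroup.FrattiniAut
import Mathlib.GroupTheory.Nilpotent
import Mathlib.Tactic.FinCases
import Mathlib.Tactic.LinearCombination
import Mathlib.Data.Fintype.Pi

/-! An elementary abelian group of order 8 of automorphisms of a `p`-group, `p` odd, with few broad elements. -/

set_option autoImplicit false
set_option linter.style.haveILetI false

open scoped commutatorElement

namespace Cfsg.Agent.S4412

private theorem patterns : ∀ f : Fin 3 → Bool,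
    f = (fun _ => true) ∨ f = (fun _ => false) ∨ (∃ i, f = fun j => decide (j ≠ i)) ∨ ∃ i, f = fun j => decide (j = i) := by
  decide

private theorem two_others : ∀ i : Fin 3, ∃ j k : Fin 3, j ≠ k ∧ j ≠ i ∧ k ≠ i := by decide

private theorem third : ∀ i j : Fin 3, ∃ k : Fin 3, k ≠ i ∧ k ≠ j := by decide

private theorem prod_pattern : ∀ i j k l : Fin 3, i ≠ j → j ≠ k → i ≠ k →
    (decide (l ≠ i) == decide (l ≠ j)) = decide (l = k) := by decide

private theorem all_pattern : ∀ l : Fin 3,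
    ((decide (l ≠ (0 : Fin 3)) == decide (l ≠ (1 : Fin 3))) == decide (l ≠ (2 : Fin 3))) = false := by decide

private theorem flip_pattern : ∀ l : Fin 3, (false == decide (l = (0 : Fin 3))) = decide (l ≠ (0 : Fin 3)) := by decide

private theorem others_of : ∀ k : Fin 3, ∃ i j : Fin 3, i ≠ j ∧ j ≠ k ∧ i ≠ k := by decide

theorem result
    {P : Type*} [Group P] [Finite P] (p : ℕ) (hp : p.Prime) (hp2 : p ≠ 2) (hP : IsPGroup p P)
    (I : Subgroup (MulAut P)) (hI : Cfsg.IsElementaryAbelian 2 I) (hI8 : Nat.card ↥I = 8)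
    (I₀ : Subgroup (MulAut P)) (hI₀ : I₀ < I)
    (hdisj : ∀ T ∈ I₀, T ≠ 1 → ∃ g : P, ∀ x : P, (T x = x ↔ x ∈ Subgroup.zpowers g))
    (hprod : ∀ T ∈ I, ∀ T' ∈ I, T ≠ 1 → T' ≠ 1 → (¬ ∃ g : P, ∀ x : P, (T x = x ↔ x ∈ Subgroup.zpowers g)) →
      (¬ ∃ g : P, ∀ x : P, (T' x = x ↔ x ∈ Subgroup.zpowers g)) → T * T' ∈ I₀) :
    IsMulCommutative P ∧ (∃ a b c : P, Subgroup.closure {a, b, c} = ⊤) ∧ (¬ ∃ a b : P, Subgroup.closure {a, b} = ⊤) ∧
      Nat.card {T : MulAut P // T ∈ I ∧ T ≠ 1 ∧ ¬ ∃ g : P, ∀ x : P, (T x = x ↔ x ∈ Subgroup.zpowers g)} = 3 ∧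
      Subgroup.closure {T : MulAut P | T ∈ I ∧ T ≠ 1 ∧ ¬ ∃ g : P, ∀ x : P, (T x = x ↔ x ∈ Subgroup.zpowers g)} = I ∧
      (I₀ : Set (MulAut P)) = {S : MulAut P | ∃ T T' : MulAut P, T ∈ I ∧ T' ∈ I ∧ T ≠ 1 ∧ T' ≠ 1 ∧
        (¬ ∃ g : P, ∀ x : P, (T x = x ↔ x ∈ Subgroup.zpowers g)) ∧ (¬ ∃ g : P, ∀ x : P, (T' x = x ↔ x ∈ Subgroup.zpowers g)) ∧ S = T * T'} := by
  classical
  haveI : Fact p.Prime := ⟨hp⟩
  haveI : Finite (MulAut P) := Finite.of_injective (fun f : MulAut P => (f : P → P)) DFunLike.coe_injective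
  haveI : Group.IsNilpotent P := hP.isNilpotent
  obtain ⟨n, hn⟩ := IsPGroup.iff_card.1 hP
  obtain ⟨r, hr⟩ : ∃ r, (frattini P).index = p ^ r := by
    obtain ⟨r, -, hr⟩ := (Nat.dvd_prime_pow hp).1 (hn ▸ (frattini P).index_dvd_card)
    exact ⟨r, hr⟩
  have hodd : Odd p := hp.odd_of_ne_two hp2
  have hIsq : ∀ {T : MulAut P}, T ∈ I → T * T = 1 := fun {T} hT => by rw [← sq]; exact hI.2 T hT
  have hIcomm : ∀ {T T' : MulAut P}, T ∈ I → T' ∈ I → T * T' = T' * T := fun {T T'} hT hT' =>
    congrArg Subtype.val (hI.1.is_comm.comm ⟨T, hT⟩ ⟨T', hT'⟩)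
  have hinvol : ∀ {T : MulAut P}, T ∈ I → ∀ x, T (T x) = x := fun {T} hT x => by
    rw [← MulAut.mul_apply, hIsq hT, MulAut.one_apply]
  -- square roots
  obtain ⟨o, ho⟩ : ∃ o, Nat.card P = 2 * o + 1 := by rw [hn]; exact hodd.pow
  have hsqrt : ∀ x : P, (x ^ (o + 1)) ^ 2 = x := fun x => by
    rw [← pow_mul, show (o + 1) * 2 = Nat.card P + 1 by omega, pow_succ, pow_card_eq_one', one_mul]
  have hsq1 : ∀ x : P, x * x = 1 → x = 1 := fun x hx => by
    rw [← hsqrt x, ← pow_mul, mul_comm, pow_mul, sq, hx, one_pow]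
  -- fixed points lift through invariant normal subgroups
  have lift : ∀ (N : Subgroup P), N.Normal → ∀ {T : MulAut P}, T ∈ I →
      ∀ x : P, x⁻¹ * T x ∈ N → ∃ y, T y = y ∧ x⁻¹ * y ∈ N := by
    intro N _ T hT x hx
    set a := x⁻¹ * T x with ha
    have hTa : T a = a⁻¹ := by rw [ha, map_mul, map_inv, hinvol hT, mul_inv_rev, inv_inv]
    have hb : T (a ^ (o + 1)) = (a ^ (o + 1))⁻¹ := by rw [map_pow, hTa, inv_pow]
    refine ⟨x * a ^ (o + 1), ?_, by rw [inv_mul_cancel_left]; exact N.pow_mem hx _⟩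
    rw [map_mul, hb]
    have hTx : T x = x * a := by rw [ha, mul_inv_cancel_left]
    have h2 : a = a ^ (o + 1) * a ^ (o + 1) := by rw [← sq, hsqrt]
    calc T x * (a ^ (o + 1))⁻¹ = x * (a ^ (o + 1) * a ^ (o + 1)) * (a ^ (o + 1))⁻¹ := by rw [← h2, hTx]
      _ = x * a ^ (o + 1) := by rw [mul_assoc, mul_inv_cancel_right]
  -- the Frattini quotient
  have hcommV : ∀ a b : P ⧸ frattini P, a * b = b * a := by
    intro a b
    obtain ⟨x, rfl⟩ := QuotientGroup.mk_surjective a
    obtain ⟨y, rfl⟩ := QuotientGroup.mk_surjective b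
    rw [← QuotientGroup.mk_mul, ← QuotientGroup.mk_mul, QuotientGroup.eq]
    refine SolvStruct.commutator_le_frattini P ?_
    have : (x * y)⁻¹ * (y * x) = ⁅y⁻¹, x⁻¹⁆ := by rw [commutatorElement_def]; group
    rw [this]
    exact Subgroup.commutator_mem_commutator (Subgroup.mem_top _) (Subgroup.mem_top _)
  letI : CommGroup (P ⧸ frattini P) := { QuotientGroup.Quotient.group (frattini P) with mul_comm := hcommV }
  set π : P →* P ⧸ frattini P := QuotientGroup.mk' (frattini P) with hπ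
  have hπ1 : ∀ x, π x = 1 ↔ x ∈ frattini P := fun x => QuotientGroup.eq_one_iff x
  have hπp : ∀ x, π x ^ p = 1 := fun x => by
    rw [← map_pow, hπ1]; exact Cfsg.Agent.PGroupBasics.pow_mem_frattini hP x
  have hπeq : ∀ x y, π x = π y ↔ x⁻¹ * y ∈ frattini P := fun x y => QuotientGroup.eq
  have hcongr : ∀ (T : MulAut P) {x y : P}, π x = π y → π (T x) = π (T y) := by
    intro T x y h
    rw [hπeq] at h ⊢
    have hc := Subgroup.characteristic_iff_comap_eq.1 (inferInstance : (frattini P).Characteristic) T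
    rw [← hc, Subgroup.mem_comap] at h
    simpa using h
  have hfaith : ∀ T ∈ I, (∀ x, π (T x) = π x) → T = 1 := by
    intro T hT hfix
    by_contra h1
    have hle : ∀ α ∈ Subgroup.zpowers T, ∀ x : P, α x * x⁻¹ ∈ frattini P := by
      let St : Subgroup (MulAut P) :=
        { carrier := {α | ∀ x, π (α x) = π x}
          one_mem' := fun x => rfl
          mul_mem' := fun {α β} hα hβ x => (hα (β x)).trans (hβ x)
          inv_mem' := fun {α} hα x => by
            conv_rhs => rw [show x = α (α⁻¹ x) by simp]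
            exact (hα _).symm }
      intro α hα x
      have := (Subgroup.zpowers_le.2 (show T ∈ St from hfix)) hα x
      rw [← hπ1, map_mul, this, map_inv, mul_inv_cancel]
    have hd := FrattiniAut.card_dvd_of_trivial hn hr _ hle
    rw [Nat.card_zpowers, orderOf_eq_prime (hI.2 T hT) h1] at hd
    exact hp2 ((Nat.prime_dvd_prime_iff_eq Nat.prime_two hp).1 (Nat.prime_two.dvd_of_dvd_pow hd)).symm
  have hord : ∀ x, π x ≠ 1 → orderOf (π x) = p := fun x hx => orderOf_eq_prime (hπp x) hx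
  have hπsq : ∀ x, π x * π x = 1 → π x = 1 := fun x hx => by
    by_contra h
    have h2 : orderOf (π x) ∣ 2 := orderOf_dvd_of_pow_eq_one (by rw [sq, hx])
    rw [hord x h] at h2
    exact hp2 ((Nat.prime_dvd_prime_iff_eq hp Nat.prime_two).1 h2)
  -- eigenvectors
  let Eig : P → Prop := fun x => ∀ T ∈ I, π (T x) = π x ∨ π (T x) = (π x)⁻¹
  have hEig : Subgroup.closure ({x | Eig x} ∪ (frattini P : Set P)) = ⊤ := by
    have key : ∀ s : Finset ↥I, Subgroup.closure ({x | ∀ T ∈ s, π ((T : MulAut P) x) = π x ∨ π ((T : MulAut P) x) = (π x)⁻¹} ∪ (frattini P : Set P)) = ⊤ := by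
      intro s
      induction s using Finset.induction_on with
      | empty =>
        rw [eq_top_iff]
        intro x _
        exact Subgroup.subset_closure (Or.inl (by simp))
      | @insert S s _ ih =>
        rw [eq_top_iff, ← ih, Subgroup.closure_le]
        rintro y (hy | hy)
        swap
        · exact Subgroup.subset_closure (Or.inr hy)
        set C := Subgroup.closure ({x | ∀ T ∈ insert S s, π ((T : MulAut P) x) = π x ∨ π ((T : MulAut P) x) = (π x)⁻¹} ∪ (frattini P : Set P))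
        have hS := hinvol S.2 y
        have hC : ∀ z, (π ((S : MulAut P) z) = π z ∨ π ((S : MulAut P) z) = (π z)⁻¹) →
            (∀ T ∈ s, π ((T : MulAut P) z) = π z ∨ π ((T : MulAut P) z) = (π z)⁻¹) → z ∈ C := by
          intro z h1 h2
          refine Subgroup.subset_closure (Or.inl fun T hT => ?_)
          rcases Finset.mem_insert.1 hT with rfl | hT'
          exacts [h1, h2 T hT']
        have hTS : ∀ T ∈ s, π ((T : MulAut P) ((S : MulAut P) y)) = π ((S : MulAut P) y) ∧ π ((T : MulAut P) y) = π y ∨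
            π ((T : MulAut P) ((S : MulAut P) y)) = (π ((S : MulAut P) y))⁻¹ ∧ π ((T : MulAut P) y) = (π y)⁻¹ := by
          intro T hT
          have hsw : (T : MulAut P) ((S : MulAut P) y) = (S : MulAut P) ((T : MulAut P) y) := by
            rw [← MulAut.mul_apply, ← MulAut.mul_apply, hIcomm T.2 S.2]
          rcases hy T hT with h | h
          · exact Or.inl ⟨by rw [hsw]; exact hcongr _ h, h⟩
          · refine Or.inr ⟨?_, h⟩
            rw [hsw, hcongr _ (show π ((T : MulAut P) y) = π y⁻¹ by rw [h, map_inv]), map_inv, map_inv]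
        have h1 : y * (S : MulAut P) y ∈ C := by
          refine hC _ (Or.inl ?_) fun T hT => ?_
          · rw [map_mul, hS, map_mul, map_mul, mul_comm]
          · rcases hTS T hT with ⟨ha, hb⟩ | ⟨ha, hb⟩
            · left; rw [map_mul, map_mul, map_mul, ha, hb]
            · right; rw [map_mul, map_mul, map_mul, ha, hb, mul_inv]
        have h2 : y * ((S : MulAut P) y)⁻¹ ∈ C := by
          refine hC _ (Or.inr ?_) fun T hT => ?_
          · rw [map_mul, map_inv, hS, map_mul, map_mul, map_inv, map_inv, mul_inv, inv_inv, mul_comm]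
          · rcases hTS T hT with ⟨ha, hb⟩ | ⟨ha, hb⟩
            · left; rw [map_mul, map_inv, map_mul, map_inv, ha, hb, map_mul, map_inv]
            · right; rw [map_mul, map_inv, map_mul, map_inv, ha, hb, map_mul, map_inv, mul_inv]
        have hΦC : ∀ z ∈ frattini P, z ∈ C := fun z hz => Subgroup.subset_closure (Or.inr hz)
        have h3 : y ^ 2 ∈ C := by
          have h5 : ((y * (S : MulAut P) y) * (y * ((S : MulAut P) y)⁻¹))⁻¹ * y ^ 2 ∈ frattini P := by
            rw [← hπeq, map_mul, map_mul, map_mul, map_inv, map_pow, sq, mul_mul_mul_comm, mul_inv_cancel, mul_one]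
          have h6 := C.mul_mem (C.mul_mem h1 h2) (hΦC _ h5)
          rwa [mul_inv_cancel_left] at h6
        have h4 := C.pow_mem h3 (o + 1)
        rwa [← pow_mul, mul_comm, pow_mul, hsqrt] at h4
    haveI : Fintype ↥I := Fintype.ofFinite _
    rw [eq_top_iff, ← key Finset.univ, Subgroup.closure_le]
    rintro x (hx | hx)
    · exact Subgroup.subset_closure (Or.inl fun T hT => hx ⟨T, hT⟩ (Finset.mem_univ _))
    · exact Subgroup.subset_closure (Or.inr hx)
  -- a non-broad element fixes at most one line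
  have line : ∀ {T : MulAut P}, T ∈ I → ∀ g : P, (∀ x : P, (T x = x ↔ x ∈ Subgroup.zpowers g)) →
      ∀ x, π x ≠ 1 → π (T x) = π x → Subgroup.zpowers (π x) = Subgroup.zpowers (π g) := by
    intro T hT g hg x hx hTx
    obtain ⟨y, hy, hxy⟩ := lift _ inferInstance hT x ((hπeq _ _).1 hTx.symm)
    obtain ⟨a, ha⟩ := Subgroup.mem_zpowers_iff.1 ((hg y).1 hy)
    have hxg : π x = π g ^ a := by rw [(hπeq _ _).2 hxy, ← ha, map_zpow]
    have hg1 : π g ≠ 1 := fun h => hx (by rw [hxg, h, one_zpow])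
    refine Subgroup.eq_of_le_of_card_ge (Subgroup.zpowers_le.2 ⟨a, hxg.symm⟩) ?_
    rw [Nat.card_zpowers, Nat.card_zpowers, hord x hx, hord g hg1]
  -- a subgroup of index two without broad elements
  obtain ⟨t, htI, ht0, htb⟩ : ∃ t, t ∈ I ∧ t ∉ I₀ ∧
      ∀ T ∈ I, T ≠ 1 → (¬ ∃ g : P, ∀ x : P, (T x = x ↔ x ∈ Subgroup.zpowers g)) → T * t ∈ I₀ := by
    by_cases hex : ∃ t ∈ I, t ≠ 1 ∧ ¬ ∃ g : P, ∀ x : P, (t x = x ↔ x ∈ Subgroup.zpowers g)
    · obtain ⟨t, htI, ht1, htn⟩ := hex
      exact ⟨t, htI, fun h => htn (hdisj t h ht1), fun T hT hT1 hTn => hprod T hT t htI hT1 ht1 hTn htn⟩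
    · obtain ⟨t, htI, ht0⟩ := SetLike.exists_of_lt hI₀
      exact ⟨t, htI, ht0, fun T hT hT1 hTn => absurd ⟨T, hT, hT1, hTn⟩ hex⟩
  obtain ⟨H, hHmax⟩ := (Set.toFinite {H : Subgroup (MulAut P) | I₀ ≤ H ∧ H ≤ I ∧ t ∉ H}).exists_maximal
    ⟨I₀, le_rfl, hI₀.le, ht0⟩
  obtain ⟨hH0, hHI, htH⟩ := hHmax.prop
  have hHcov : ∀ x ∈ I, x ∈ H ∨ x * t ∈ H := by
    intro x hx
    by_contra hcon
    push Not at hcon
    let H' : Subgroup (MulAut P) :=
      { carrier := {z | z ∈ I ∧ (z ∈ H ∨ z * x ∈ H)}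
        one_mem' := ⟨I.one_mem, Or.inl H.one_mem⟩
        mul_mem' := fun {a b} ha hb => ⟨I.mul_mem ha.1 hb.1, by
          rcases ha.2 with ha' | ha' <;> rcases hb.2 with hb' | hb'
          · exact Or.inl (H.mul_mem ha' hb')
          · exact Or.inr (by rw [mul_assoc]; exact H.mul_mem ha' hb')
          · refine Or.inr ?_
            rw [mul_assoc, hIcomm hb.1 hx, ← mul_assoc]
            exact H.mul_mem ha' hb'
          · refine Or.inl ?_
            have h5 := H.mul_mem ha' hb'
            rwa [mul_assoc, ← mul_assoc x, hIcomm hx hb.1, mul_assoc b, hIsq hx, mul_one] at h5⟩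
        inv_mem' := fun {a} ha => by
          rw [show a⁻¹ = a from inv_eq_of_mul_eq_one_right (hIsq ha.1)]
          exact ha }
    have htH' : t ∉ H' := fun h => h.2.elim htH fun h2 => hcon.2 (by rwa [hIcomm htI hx] at h2)
    exact hcon.1 (hHmax.le_of_ge (y := H')
      ⟨fun z hz => ⟨hI₀.le hz, Or.inl (hH0 hz)⟩, fun z hz => hz.1, htH'⟩
      (fun z hz => ⟨hHI hz, Or.inl hz⟩) ⟨hx, Or.inr (by rw [hIsq hx]; exact H.one_mem)⟩)
  have hHnb : ∀ T ∈ H, T ≠ 1 → ∃ g : P, ∀ x : P, (T x = x ↔ x ∈ Subgroup.zpowers g) := by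
    intro T hT hT1
    by_contra hb
    apply htH
    have h5 := H.mul_mem (H.inv_mem hT) (hH0 (htb T (hHI hT) hT1 hb))
    rwa [inv_mul_cancel_left] at h5
  obtain ⟨u, hu, v, hv, hu1, hv1, huv⟩ : ∃ u ∈ H, ∃ v ∈ H, u ≠ 1 ∧ v ≠ 1 ∧ u ≠ v := by
    by_contra hcon
    push Not at hcon
    have hcardH : Nat.card H ≤ 2 := by
      by_cases h : ∃ u ∈ H, u ≠ 1
      · obtain ⟨u, hu, hu1⟩ := h
        have hsub : (H : Set (MulAut P)) ⊆ {1, u} := fun z hz => by
          by_cases hz1 : z = 1
          · exact Or.inl hz1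
          · exact Or.inr (hcon u hu z hz hu1 hz1).symm
        have := (Set.ncard_le_ncard hsub (Set.toFinite _)).trans
          ((Set.ncard_insert_le _ _).trans (by rw [Set.ncard_singleton]))
        exact this
      · push Not at h
        rw [(Subgroup.eq_bot_iff_forall _).2 h, Subgroup.card_bot]
        norm_num
    have hsub : (I : Set (MulAut P)) ⊆ (H : Set (MulAut P)) ∪ (fun z => z * t) '' (H : Set (MulAut P)) := fun x hx =>
      (hHcov x hx).elim Or.inl fun h => Or.inr ⟨_, h, by simp only [mul_assoc, hIsq htI, mul_one]⟩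
    have h8 := (Set.ncard_le_ncard hsub (Set.toFinite _)).trans (Set.ncard_union_le _ _)
    have h9 := Set.ncard_image_le (f := fun z : MulAut P => z * t) (s := (H : Set (MulAut P))) (Set.toFinite _)
    have e1 : (I : Set (MulAut P)).ncard = 8 := hI8
    have e2 : (H : Set (MulAut P)).ncard = Nat.card H := rfl
    omega
  -- three lines
  let U : Fin 3 → MulAut P := ![u, v, u * v]
  have hU : ∀ i, U i ∈ H ∧ U i ≠ 1 := by
    intro i
    fin_cases i
    · exact ⟨hu, hu1⟩
    · exact ⟨hv, hv1⟩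
    · refine ⟨H.mul_mem hu hv, fun h => huv ?_⟩
      exact (eq_inv_of_mul_eq_one_left h).trans (inv_eq_of_mul_eq_one_right (hIsq (hHI hv)))
  have hfixsome : ∀ x, Eig x → ∃ i, π (U i x) = π x := by
    intro x hx
    rcases hx u (hHI hu) with h | h
    · exact ⟨0, h⟩
    rcases hx v (hHI hv) with h' | h'
    · exact ⟨1, h'⟩
    refine ⟨2, ?_⟩
    show π ((u * v) x) = π x
    rw [MulAut.mul_apply, hcongr u (show π (v x) = π x⁻¹ by rw [h', map_inv]), map_inv, map_inv, h, inv_inv]
  choose cg hcg using fun i => hHnb (U i) (hU i).1 (hU i).2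
  have hrep : ∀ i, ∃ x, Eig x ∧ ∀ e, Eig e → π e ≠ 1 → π (U i e) = π e →
      Subgroup.zpowers (π e) = Subgroup.zpowers (π x) := by
    intro i
    by_cases h : ∃ e, Eig e ∧ π e ≠ 1 ∧ π (U i e) = π e
    · obtain ⟨x, hx, hx1, hx2⟩ := h
      refine ⟨x, hx, fun e he he1 he2 => ?_⟩
      rw [line (hHI (hU i).1) _ (hcg i) x hx1 hx2, line (hHI (hU i).1) _ (hcg i) e he1 he2]
    · exact ⟨1, fun T _ => Or.inl (by rw [map_one]), fun e he he1 he2 => absurd ⟨e, he, he1, he2⟩ h⟩
  choose x hxE hxrep using hrep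
  let ψ : ↥I → Fin 3 → Bool := fun T i => decide (π ((T : MulAut P) (x i)) = π (x i))
  have hψt : ∀ (T : ↥I) i, ψ T i = true → π ((T : MulAut P) (x i)) = π (x i) := fun T i h => of_decide_eq_true h
  have hψf : ∀ (T : ↥I) i, ψ T i = false → π ((T : MulAut P) (x i)) = (π (x i))⁻¹ := fun T i h =>
    ((hxE i) T T.2).resolve_left (of_decide_eq_false h)
  -- the closure criterion
  have hgenfix : ∀ T : MulAut P, (∀ i, π (T (x i)) = π (x i)) → ∀ y, π (T y) = π y := by
    intro T hT
    let St : Subgroup P :=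
      { carrier := {y | π (T y) = π y}
        one_mem' := by show π (T 1) = π 1; rw [map_one]
        mul_mem' := fun {a b} ha hb => show π (T (a * b)) = π (a * b) by
          rw [map_mul, map_mul, map_mul, show π (T a) = π a from ha, show π (T b) = π b from hb]
        inv_mem' := fun {a} ha => show π (T a⁻¹) = π a⁻¹ by
          rw [map_inv, map_inv, map_inv, show π (T a) = π a from ha] }
    intro y
    have : (⊤ : Subgroup P) ≤ St := by
      rw [← hEig, Subgroup.closure_le]
      rintro e (he | he)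
      · show π (T e) = π e
        by_cases h1 : π e = 1
        · rw [hcongr T (h1.trans (map_one π).symm), map_one, map_one, h1]
        obtain ⟨i, hi⟩ := hfixsome e he
        obtain ⟨a, ha⟩ := Subgroup.mem_zpowers_iff.1
          ((hxrep i e he h1 hi).le (Subgroup.mem_zpowers (π e)))
        rw [hcongr T (show π e = π (x i ^ a) by rw [map_zpow, ha]), map_zpow, map_zpow, hT, ha]
      · show π (T e) = π e
        rw [hcongr T (show π e = π 1 by rw [map_one, hπ1]; exact he), map_one, map_one]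
        exact ((hπ1 e).2 he).symm
    exact this (Subgroup.mem_top y)
  have hψmul : ∀ (S T : ↥I) i, ψ (S * T) i = (ψ S i == ψ T i) := by
    intro S T i
    have hST : ((S * T : ↥I) : MulAut P) (x i) = (S : MulAut P) ((T : MulAut P) (x i)) := rfl
    cases hb : ψ T i with
    | true =>
      rw [beq_true]
      simp only [ψ, hST, hcongr _ (hψt T i hb)]
    | false =>
      have h5 : π (((S * T : ↥I) : MulAut P) (x i)) = (π ((S : MulAut P) (x i)))⁻¹ := by
        rw [hST, hcongr _ (show π ((T : MulAut P) (x i)) = π (x i)⁻¹ by rw [hψf T i hb, map_inv]), map_inv, map_inv]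
      have hxi : π (x i) ≠ 1 := fun h => of_decide_eq_false hb (by
        rw [hψf T i hb, h, inv_one])
      cases hc : ψ S i with
      | true =>
        refine decide_eq_false ?_
        rw [h5, hψt S i hc]
        intro h
        refine hxi (hπsq _ ?_)
        nth_rw 1 [← h]
        exact inv_mul_cancel _
      | false =>
        refine decide_eq_true ?_
        rw [h5, hψf S i hc, inv_inv]
  have hψinj : Function.Injective ψ := by
    intro S T h
    refine mul_inv_eq_one.1 (Subtype.ext (hfaith _ (S * T⁻¹).2 (hgenfix _ fun i => ?_)))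
    have hTi : T⁻¹ = T := inv_eq_of_mul_eq_one_right (Subtype.ext (hIsq T.2))
    exact hψt (S * T⁻¹) i (by rw [hTi, hψmul, h, beq_self_eq_true])
  have hψsurj : Function.Surjective ψ :=
    (hψinj.bijective_of_nat_card_le (by rw [hI8]; simp)).2
  choose e he using hψsurj
  have huniq : ∀ (T : ↥I) f, ψ T = f → T = e f := fun T f h => hψinj (h.trans (he f).symm)
  have hψone : ψ 1 = fun _ => true := funext fun i => decide_eq_true (by rw [Subgroup.coe_one, MulAut.one_apply])
  have hne1 : ∀ f, (∃ i, f i = false) → (e f : MulAut P) ≠ 1 := by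
    rintro f ⟨i, hi⟩ h
    have h2 : e f = 1 := Subtype.ext h
    have := he f
    rw [h2, hψone] at this
    rw [← this] at hi
    exact Bool.noConfusion hi
  have hx1 : ∀ i, π (x i) ≠ 1 := fun i h => by
    have h2 := congrFun (he fun _ => false) i
    exact of_decide_eq_false h2 (by
      rw [hcongr _ (h.trans (map_one π).symm), map_one, map_one, h])
  have hlines : ∀ i j, i ≠ j → Subgroup.zpowers (π (x i)) ≠ Subgroup.zpowers (π (x j)) := by
    intro i j hij h
    set T := e fun l => decide (l = i) with hT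
    have hTi := hψt T i (by rw [hT, he]; simp)
    have hTj : ψ T j = false := by rw [hT, he]; simp [Ne.symm hij]
    obtain ⟨a, ha⟩ := Subgroup.mem_zpowers_iff.1 (h.ge (Subgroup.mem_zpowers (π (x j))))
    apply of_decide_eq_false hTj
    rw [hcongr _ (show π (x j) = π (x i ^ a) by rw [map_zpow, ha]), map_zpow, map_zpow, hTi, ha]
  -- the three broad elements
  let E : Fin 3 → ↥I := fun i => e fun l => decide (l ≠ i)
  have hE1 : ∀ i, (E i : MulAut P) ≠ 1 := fun i => hne1 _ ⟨i, by simp⟩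
  have hEb : ∀ i, ¬ ∃ g : P, ∀ y : P, ((E i : MulAut P) y = y ↔ y ∈ Subgroup.zpowers g) := by
    rintro i ⟨g, hg⟩
    obtain ⟨j, k, hjk, hji, hki⟩ := two_others i
    have hf : ∀ l, l ≠ i → π ((E i : MulAut P) (x l)) = π (x l) := fun l hl =>
      hψt (E i) l (by simp only [E]; rw [he]; simp [hl])
    exact hlines j k hjk ((line (E i).2 g hg _ (hx1 j) (hf j hji)).trans (line (E i).2 g hg _ (hx1 k) (hf k hki)).symm)
  let m : Fin 3 → ↥I := fun k => e fun l => decide (l = k)
  have hmprod : ∀ i j k, i ≠ j → j ≠ k → i ≠ k → E i * E j = m k := by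
    intro i j k hij hjk hik
    refine huniq _ _ (funext fun l => ?_)
    simp only [E, hψmul, he]
    exact prod_pattern i j k l hij hjk hik
  have hm0 : ∀ k, (m k : MulAut P) ∈ I₀ := by
    intro k
    obtain ⟨i, j, hij, hjk, hik⟩ := others_of k
    rw [← hmprod i j k hij hjk hik]
    exact hprod _ (E i).2 _ (E j).2 (hE1 i) (hE1 j) (hEb i) (hEb j)
  have hm1 : ∀ k, (m k : MulAut P) ≠ 1 := fun k => by
    obtain ⟨i, -, -, -, hik⟩ := others_of k
    exact hne1 _ ⟨i, by simp [hik]⟩
  choose g hg using fun k => hdisj _ (hm0 k) (hm1 k)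
  have hgline : ∀ k, Subgroup.zpowers (π (g k)) = Subgroup.zpowers (π (x k)) := fun k =>
    (line (m k).2 _ (hg k) _ (hx1 k) (hψt (m k) k (by simp only [m]; rw [he]; simp))).symm
  have hg1 : ∀ k, g k ≠ 1 := fun k h => hx1 k (by
    have := (hgline k).ge (Subgroup.mem_zpowers (π (x k)))
    rw [h, map_one, Subgroup.zpowers_one_eq_bot, Subgroup.mem_bot] at this
    exact this)
  -- exact signs on the `g k`
  have hsign : ∀ (T : ↥I) k, (T : MulAut P) (g k) = if ψ T k then g k else (g k)⁻¹ := by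
    intro T k
    have hmem : (T : MulAut P) (g k) ∈ Subgroup.zpowers (g k) := by
      rw [← hg k, ← MulAut.mul_apply, hIcomm (m k).2 T.2, MulAut.mul_apply, (hg k _).2 (Subgroup.mem_zpowers _)]
    obtain ⟨a, ha⟩ := Subgroup.mem_zpowers_iff.1 hmem
    have hpm : (T : MulAut P) (g k) = g k ∨ (T : MulAut P) (g k) = (g k)⁻¹ := by
      have haa : g k ^ (a * a) = g k := by
        conv_rhs => rw [← hinvol T.2 (g k), ← ha, map_zpow, ← ha, ← zpow_mul]
      obtain ⟨c, hc⟩ := IsPGroup.exists_orderOf_eq_pow hP (g k)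
      have hdiv : ((p : ℤ) ^ c) ∣ (a - 1) * (a + 1) := by
        have : (orderOf (g k) : ℤ) ∣ a * a - 1 := by
          rw [orderOf_dvd_iff_zpow_eq_one, zpow_sub, haa, zpow_one, mul_inv_cancel]
        rw [hc] at this
        push_cast at this
        rwa [show (a - 1) * (a + 1) = a * a - 1 by ring]
      have hpi : Prime (p : ℤ) := Nat.prime_iff_prime_int.1 hp
      have hcase : ((p : ℤ) ^ c) ∣ a - 1 ∨ ((p : ℤ) ^ c) ∣ a + 1 := by
        by_cases h1 : (p : ℤ) ∣ a - 1
        · left
          refine (IsCoprime.pow_left ?_).dvd_of_dvd_mul_right hdiv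
          refine (hpi.coprime_iff_not_dvd).2 fun h2 => ?_
          have h3 : (p : ℤ) ∣ ((2 : ℕ) : ℤ) := by
            have := dvd_sub h2 h1
            simpa using this
          exact hp2 ((Nat.prime_dvd_prime_iff_eq hp Nat.prime_two).1 (Int.natCast_dvd_natCast.1 h3))
        · exact Or.inr ((IsCoprime.pow_left ((hpi.coprime_iff_not_dvd).2 h1)).dvd_of_dvd_mul_left hdiv)
      rcases hcase with h | h
      · left
        have h2 : g k ^ (a - 1) = 1 := orderOf_dvd_iff_zpow_eq_one.1 (by rw [hc]; push_cast; exact h)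
        rw [← ha, show a = (a - 1) + 1 by ring, zpow_add, h2, one_mul, zpow_one]
      · right
        have h2 : g k ^ (a + 1) = 1 := orderOf_dvd_iff_zpow_eq_one.1 (by rw [hc]; push_cast; exact h)
        rw [← ha, show a = (a + 1) + (-1) by ring, zpow_add, h2, one_mul, zpow_neg_one]
    obtain ⟨b, hb⟩ := Subgroup.mem_zpowers_iff.1 ((hgline k).ge (Subgroup.mem_zpowers (π (x k))))
    obtain ⟨b', hb'⟩ := Subgroup.mem_zpowers_iff.1 ((hgline k).le (Subgroup.mem_zpowers (π (g k))))
    cases hψ : ψ T k with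
    | true =>
      rw [if_pos rfl]
      refine hpm.resolve_right fun h => hx1 k (hπsq _ ?_)
      have h5 := hψt T k hψ
      rw [hcongr _ (show π (x k) = π (g k ^ b) by rw [map_zpow, hb]), map_zpow, map_zpow, h, map_inv, inv_zpow, hb] at h5
      nth_rw 1 [← h5]
      exact inv_mul_cancel _
    | false =>
      rw [if_neg Bool.false_ne_true]
      refine hpm.resolve_left fun h => of_decide_eq_false hψ ?_
      rw [hcongr _ (show π (x k) = π (g k ^ b) by rw [map_zpow, hb]), map_zpow, map_zpow, h, hb]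
  have hgen : Subgroup.closure {g 0, g 1, g 2} = ⊤ := by
    refine frattini_nongenerating ?_
    rw [eq_top_iff, ← hEig, Subgroup.closure_le]
    rintro y (hy | hy)
    swap
    · exact Subgroup.mem_sup_right hy
    by_cases h1 : π y = 1
    · exact Subgroup.mem_sup_right ((hπ1 y).1 h1)
    obtain ⟨i, hi⟩ := hfixsome y hy
    have h2 : π y ∈ Subgroup.zpowers (π (g i)) := by
      rw [hgline i, ← hxrep i y hy h1 hi]; exact Subgroup.mem_zpowers _
    obtain ⟨a, ha⟩ := Subgroup.mem_zpowers_iff.1 h2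
    rw [← map_zpow, hπeq] at ha
    have hgi : g i ∈ Subgroup.closure {g 0, g 1, g 2} := Subgroup.subset_closure (by fin_cases i <;> simp)
    have := Subgroup.mul_mem _ (Subgroup.mem_sup_left (T := frattini P) (Subgroup.zpow_mem _ hgi a))
      (Subgroup.mem_sup_right ha)
    rwa [mul_inv_cancel_left] at this
  -- `P` is abelian
  have hcomm : ∀ a b : P, a * b = b * a := by
    set K := ⁅commutator P, (⊤ : Subgroup P)⁆ with hK
    set ρ := QuotientGroup.mk' K with hρ
    have hρeq : ∀ a b, ρ a = ρ b ↔ a⁻¹ * b ∈ K := fun a b => QuotientGroup.eq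
    have hρ1 : ∀ a, ρ a = 1 ↔ a ∈ K := fun a => QuotientGroup.eq_one_iff a
    have hKT : ∀ (T : MulAut P) {a b : P}, ρ a = ρ b → ρ (T a) = ρ (T b) := by
      intro T a b h
      rw [hρeq] at h ⊢
      have hc := Subgroup.characteristic_iff_comap_eq.1 (inferInstance : K.Characteristic) T
      rw [← hc, Subgroup.mem_comap] at h
      simpa using h
    have hcen : ∀ c ∈ commutator P, ∀ y, ρ c * ρ y = ρ y * ρ c := by
      intro c hc y
      refine commutatorElement_eq_one_iff_mul_comm.1 ?_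
      rw [← map_commutatorElement, hρ1]
      exact Subgroup.commutator_mem_commutator hc (Subgroup.mem_top y)
    have hpair : ∀ i j, ρ (g i) * ρ (g j) = ρ (g j) * ρ (g i) := by
      intro i j
      by_cases hij : i = j
      · rw [hij]
      obtain ⟨k, hki, hkj⟩ := third i j
      set c := ⁅g i, g j⁆ with hc
      have hcP : c ∈ commutator P := Subgroup.commutator_mem_commutator (Subgroup.mem_top _) (Subgroup.mem_top _)
      have hfi : ∀ l, l ≠ k → (E k : MulAut P) (g l) = g l := fun l hl => by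
        rw [hsign, if_pos]; simp only [E]; rw [he]; simp [hl]
      have hnk : (E k : MulAut P) (g k) = (g k)⁻¹ := by
        rw [hsign, if_neg]; simp only [E]; rw [he]; simp
      have hni : ∀ l, l ≠ k → (m k : MulAut P) (g l) = (g l)⁻¹ := fun l hl => by
        rw [hsign, if_neg]; simp only [m]; rw [he]; simp [hl]
      have hmc : ρ ((m k : MulAut P) c) = ρ c := by
        rw [hc, map_commutatorElement, hni i hki.symm, hni j hkj.symm, map_commutatorElement, map_inv, map_inv,
          map_commutatorElement]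
        have h5 := hcen c hcP (g i * g j)
        rw [hc, map_commutatorElement, map_mul] at h5
        generalize ρ (g i) = A at h5 ⊢
        generalize ρ (g j) = B at h5 ⊢
        calc ⁅A⁻¹, B⁻¹⁆ = (B * A)⁻¹ * (A * B) := by rw [commutatorElement_def]; group
          _ = (B * A)⁻¹ * (⁅A, B⁆ * (B * A)) := by rw [commutatorElement_def]; group
          _ = (A * B)⁻¹ * (⁅A, B⁆ * (A * B)) := by rw [commutatorElement_def]; group
          _ = ⁅A, B⁆ := by rw [h5, inv_mul_cancel_left]
      obtain ⟨y, hy, hcy⟩ := lift K inferInstance (m k).2 c ((hρeq _ _).1 hmc.symm)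
      obtain ⟨a, ha⟩ := Subgroup.mem_zpowers_iff.1 ((hg k y).1 hy)
      have hcg' : ρ c = ρ (g k ^ a) := by rw [ha]; exact (hρeq _ _).2 hcy
      have h6 : ρ ((E k : MulAut P) c) = ρ c := by
        rw [hc, map_commutatorElement, hfi i hki.symm, hfi j hkj.symm]
      have h7 : ρ c = (ρ c)⁻¹ := by
        conv_lhs => rw [← h6, hKT _ hcg', map_zpow, hnk, inv_zpow, map_inv, ← hcg']
      have h8 : c ^ 2 ∈ K := by
        rw [← hρ1, map_pow, sq]
        nth_rw 1 [h7]
        exact inv_mul_cancel _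
      have h9 := K.pow_mem h8 (o + 1)
      rw [← pow_mul, mul_comm, pow_mul, hsqrt, ← hρ1, hc, map_commutatorElement] at h9
      exact commutatorElement_eq_one_iff_mul_comm.1 h9
    have hgenρ : ∀ a, ρ a ∈ Subgroup.closure ({ρ (g 0), ρ (g 1), ρ (g 2)} : Set (P ⧸ K)) := fun a => by
      have := Subgroup.mem_map_of_mem ρ (show a ∈ Subgroup.closure {g 0, g 1, g 2} by rw [hgen]; trivial)
      rwa [MonoidHom.map_closure, Set.image_insert_eq, Set.image_insert_eq, Set.image_singleton] at this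
    have hQ : ∀ a b : P, ρ a * ρ b = ρ b * ρ a := by
      intro a b
      have hS : ∀ z ∈ ({ρ (g 0), ρ (g 1), ρ (g 2)} : Set (P ⧸ K)), ∀ w ∈ ({ρ (g 0), ρ (g 1), ρ (g 2)} : Set (P ⧸ K)), z * w = w * z := by
        rintro _ (rfl | rfl | rfl) _ (rfl | rfl | rfl) <;> apply hpair
      haveI := Subgroup.isMulCommutative_closure hS
      exact congrArg Subtype.val (mul_comm' (⟨ρ a, hgenρ a⟩ : Subgroup.closure ({ρ (g 0), ρ (g 1), ρ (g 2)} : Set (P ⧸ K))) ⟨ρ b, hgenρ b⟩)
    have hle : commutator P ≤ K := by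
      rw [commutator_def, Subgroup.commutator_le]
      intro a _ b _
      rw [← hρ1, map_commutatorElement]
      exact commutatorElement_eq_one_iff_mul_comm.2 (hQ a b)
    have hcb : commutator P = ⊥ := by
      have hl : ∀ l, commutator P ≤ Subgroup.lowerCentralSeries (⊤ : Subgroup P) (l + 1) := by
        intro l
        induction l with
        | zero => exact le_of_eq (by rw [commutator_def]; rfl)
        | succ l ih => exact hle.trans (Subgroup.commutator_mono ih le_rfl)
      obtain ⟨l, hl'⟩ := (Subgroup.isNilpotent_iff_lowerCentralSeries (⊤ : Subgroup P)).1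
        (Group.isNilpotent_top.2 (inferInstance : Group.IsNilpotent P))
      exact eq_bot_iff.2 ((hl l).trans ((Subgroup.lowerCentralSeries_antitone _ (Nat.le_succ l)).trans hl'.le))
    intro a b
    refine commutatorElement_eq_one_iff_mul_comm.1 (Subgroup.mem_bot.1 ?_)
    rw [← hcb]
    exact Subgroup.commutator_mem_commutator (Subgroup.mem_top _) (Subgroup.mem_top _)
  -- the element inverting all generators is not broad
  set N := e fun _ => false with hN
  have hNinv : ∀ y, (N : MulAut P) y = y⁻¹ := by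
    let St : Subgroup P :=
      { carrier := {y | (N : MulAut P) y = y⁻¹}
        one_mem' := by show (N : MulAut P) 1 = 1⁻¹; rw [map_one, inv_one]
        mul_mem' := fun {a b} ha hb => show (N : MulAut P) (a * b) = (a * b)⁻¹ by
          rw [map_mul, show (N : MulAut P) a = a⁻¹ from ha, show (N : MulAut P) b = b⁻¹ from hb, mul_inv_rev, hcomm]
        inv_mem' := fun {a} ha => show (N : MulAut P) a⁻¹ = a⁻¹⁻¹ by
          rw [map_inv, show (N : MulAut P) a = a⁻¹ from ha] }
    intro y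
    have : (⊤ : Subgroup P) ≤ St := by
      rw [← hgen, Subgroup.closure_le]
      rintro _ (rfl | rfl | rfl) <;>
        (show (N : MulAut P) _ = _; rw [hsign, if_neg]; rw [hN, he]; simp)
    exact this (Subgroup.mem_top y)
  have hNnb : ∃ g : P, ∀ y : P, ((N : MulAut P) y = y ↔ y ∈ Subgroup.zpowers g) := by
    refine ⟨1, fun y => ?_⟩
    rw [hNinv, Subgroup.zpowers_one_eq_bot, Subgroup.mem_bot]
    exact ⟨fun h => hsq1 y (by nth_rw 1 [← h]; exact inv_mul_cancel y), fun h => by rw [h, inv_one]⟩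
  have hclass : ∀ T : ↥I, T = 1 ∨ T = N ∨ (∃ i, T = E i) ∨ ∃ k, T = m k := by
    intro T
    rcases patterns (ψ T) with h | h | ⟨i, h⟩ | ⟨i, h⟩
    · exact Or.inl ((huniq T _ h).trans (huniq 1 _ hψone).symm)
    · exact Or.inr (Or.inl (huniq T _ h))
    · exact Or.inr (Or.inr (Or.inl ⟨i, huniq T _ h⟩))
    · exact Or.inr (Or.inr (Or.inr ⟨i, huniq T _ h⟩))
  have hbroad : {T : MulAut P | T ∈ I ∧ T ≠ 1 ∧ ¬ ∃ g : P, ∀ x : P, (T x = x ↔ x ∈ Subgroup.zpowers g)} =
      Set.range fun i => (E i : MulAut P) := by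
    ext T
    constructor
    · rintro ⟨hT, hT1, hTb⟩
      rcases hclass ⟨T, hT⟩ with h | h | ⟨i, h⟩ | ⟨k, h⟩
      · exact absurd (congrArg Subtype.val h) hT1
      · exact absurd hNnb (by rw [← h]; exact hTb)
      · exact ⟨i, (congrArg Subtype.val h).symm⟩
      · exact absurd ⟨g k, hg k⟩ (show ¬ ∃ g : P, ∀ x : P, ((m k : MulAut P) x = x ↔ x ∈ Subgroup.zpowers g) by rw [← h]; exact hTb)
    · rintro ⟨i, rfl⟩
      exact ⟨(E i).2, hE1 i, hEb i⟩
  have hEinj : Function.Injective fun i => (E i : MulAut P) := by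
    intro i j h
    have h2 := congrArg ψ (Subtype.ext h : E i = E j)
    simp only [E, he] at h2
    simpa using congrFun h2 i
  refine ⟨⟨⟨hcomm⟩⟩, ⟨g 0, g 1, g 2, hgen⟩, ?_, ?_, ?_, ?_⟩
  · rintro ⟨a, b, hab⟩
    let f : Fin p × Fin p × Fin p → P ⧸ frattini P := fun c =>
      π (g 0) ^ (c.1 : ℕ) * π (g 1) ^ (c.2.1 : ℕ) * π (g 2) ^ (c.2.2 : ℕ)
    have hf : Function.Injective f := by
      intro c c' h
      have hkill : ∀ k, π ((E k : MulAut P) (g k)) = (π (g k))⁻¹ ∧ ∀ l, l ≠ k → π ((E k : MulAut P) (g l)) = π (g l) := by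
        intro k
        constructor
        · rw [hsign, if_neg, map_inv]; simp only [E]; rw [he]; simp
        · intro l hl
          rw [hsign, if_pos]; simp only [E]; rw [he]; simp [hl]
      have happ : ∀ (k : Fin 3), π ((E k : MulAut P) (g 0)) ^ (c.1 : ℕ) * π ((E k : MulAut P) (g 1)) ^ (c.2.1 : ℕ) * π ((E k : MulAut P) (g 2)) ^ (c.2.2 : ℕ) =
          π ((E k : MulAut P) (g 0)) ^ (c'.1 : ℕ) * π ((E k : MulAut P) (g 1)) ^ (c'.2.1 : ℕ) * π ((E k : MulAut P) (g 2)) ^ (c'.2.2 : ℕ) := by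
        intro k
        simp only [f, ← map_pow, ← map_mul] at h ⊢
        exact hcongr _ h
      have hcancel : ∀ (k : Fin 3) (R R' : P ⧸ frattini P) (n n' : Fin p),
          π (g k) ^ (n : ℕ) * R = π (g k) ^ (n' : ℕ) * R' →
          (π (g k))⁻¹ ^ (n : ℕ) * R = (π (g k))⁻¹ ^ (n' : ℕ) * R' → n = n' := by
        intro k R R' n n' h1 h2
        have h3 : π (g k) ^ (2 * (n : ℕ)) = π (g k) ^ (2 * (n' : ℕ)) := by
          have h4 : π (g k) ^ (2 * (n : ℕ)) * ((π (g k))⁻¹ ^ (n : ℕ) * R) = π (g k) ^ (2 * (n' : ℕ)) * ((π (g k))⁻¹ ^ (n' : ℕ) * R') := by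
            have e : ∀ (q : P ⧸ frattini P) (n : ℕ) (R : P ⧸ frattini P), q ^ (2 * n) * (q⁻¹ ^ n * R) = q ^ n * R := by
              intro q n R
              rw [two_mul, pow_add, inv_pow]; group
            rw [e, e, h1]
          rw [h2] at h4
          exact mul_right_cancel h4
        have hgk : π (g k) ≠ 1 := fun h => hx1 k (by
          have := (hgline k).ge (Subgroup.mem_zpowers (π (x k)))
          rwa [h, Subgroup.zpowers_one_eq_bot, Subgroup.mem_bot] at this)
        rw [pow_inj_mod, hord _ hgk] at h3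
        have h5 : (n : ℕ) % p = (n' : ℕ) % p :=
          Nat.ModEq.cancel_left_of_coprime ((Nat.coprime_primes hp Nat.prime_two).2 hp2) h3
        rw [Nat.mod_eq_of_lt n.2, Nat.mod_eq_of_lt n'.2] at h5
        exact Fin.ext h5
      simp only [f] at h
      have a0 := happ 0
      rw [(hkill 0).1, (hkill 0).2 1 (by decide), (hkill 0).2 2 (by decide), mul_assoc, mul_assoc] at a0
      have a1 := happ 1
      rw [(hkill 1).1, (hkill 1).2 0 (by decide), (hkill 1).2 2 (by decide)] at a1
      have a2 := happ 2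
      rw [(hkill 2).1, (hkill 2).2 0 (by decide), (hkill 2).2 1 (by decide)] at a2
      refine Prod.ext (hcancel 0 _ _ _ _ (by rw [← mul_assoc, ← mul_assoc]; exact h) a0) (Prod.ext ?_ ?_)
      · refine hcancel 1 (π (g 0) ^ (c.1 : ℕ) * π (g 2) ^ (c.2.2 : ℕ)) (π (g 0) ^ (c'.1 : ℕ) * π (g 2) ^ (c'.2.2 : ℕ)) _ _ ?_ ?_
        · rw [← mul_assoc, ← mul_assoc, mul_comm (π (g 1) ^ _), mul_comm (π (g 1) ^ _)]; exact h
        · rw [← mul_assoc, ← mul_assoc, mul_comm ((π (g 1))⁻¹ ^ _), mul_comm ((π (g 1))⁻¹ ^ _)]; exact a1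
      · exact hcancel 2 _ _ _ _ (by rw [mul_comm, h, mul_comm]) (by rw [mul_comm, a2, mul_comm])
    let q : Subgroup.zpowers (π a) × Subgroup.zpowers (π b) → P ⧸ frattini P := fun z => z.1.1 * z.2.1
    have hq : Function.Surjective q := by
      intro z
      obtain ⟨y, rfl⟩ := QuotientGroup.mk_surjective z
      have h5 : π y ∈ Subgroup.closure {π a, π b} := by
        have := Subgroup.mem_map_of_mem π (show y ∈ Subgroup.closure {a, b} by rw [hab]; trivial)
        rwa [MonoidHom.map_closure, Set.image_pair] at this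
      obtain ⟨i, j, hij⟩ := Subgroup.mem_closure_pair.1 h5
      exact ⟨(⟨_, i, rfl⟩, ⟨_, j, rfl⟩), hij⟩
    have h1 := Nat.card_le_card_of_injective f hf
    have h2 := Nat.card_le_card_of_surjective q hq
    have hz : ∀ y, Nat.card (Subgroup.zpowers (π y)) ≤ p := fun y => by
      rw [Nat.card_zpowers]; exact orderOf_le_of_pow_eq_one hp.pos (hπp y)
    rw [Nat.card_prod] at h2
    rw [Nat.card_prod, Nat.card_prod, Nat.card_fin] at h1
    have h3 := Nat.mul_le_mul (hz a) (hz b)
    have := hp.two_le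
    nlinarith
  · show Nat.card ↥{T : MulAut P | T ∈ I ∧ T ≠ 1 ∧ ¬ ∃ g : P, ∀ x : P, (T x = x ↔ x ∈ Subgroup.zpowers g)} = 3
    rw [hbroad, Nat.card_range_of_injective hEinj, Nat.card_fin]
  · rw [hbroad]
    refine le_antisymm ((Subgroup.closure_le _).2 (by rintro _ ⟨i, rfl⟩; exact (E i).2)) fun T hT => ?_
    have hEm : ∀ i, (E i : MulAut P) ∈ Subgroup.closure (Set.range fun i => (E i : MulAut P)) := fun i =>
      Subgroup.subset_closure ⟨i, rfl⟩
    have hT' : T = ((⟨T, hT⟩ : ↥I) : MulAut P) := rfl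
    rcases hclass ⟨T, hT⟩ with h | h | ⟨i, h⟩ | ⟨k, h⟩ <;> rw [hT', h]
    · exact Subgroup.one_mem _
    · have h5 : E 0 * E 1 * E 2 = N := huniq _ _ (funext fun l => by
        simp only [E, hψmul, he]; exact all_pattern l)
      rw [← h5]
      exact Subgroup.mul_mem _ (Subgroup.mul_mem _ (hEm 0) (hEm 1)) (hEm 2)
    · exact hEm i
    · obtain ⟨i, j, hij, hjk, hik⟩ := others_of k
      rw [← hmprod i j k hij hjk hik]
      exact Subgroup.mul_mem _ (hEm i) (hEm j)
  · ext S
    constructor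
    · intro hS
      have hS' : S = ((⟨S, hI₀.le hS⟩ : ↥I) : MulAut P) := rfl
      rcases hclass ⟨S, hI₀.le hS⟩ with h | h | ⟨i, h⟩ | ⟨k, h⟩ <;> rw [h] at hS'
      · exact ⟨E 0, E 0, (E 0).2, (E 0).2, hE1 0, hE1 0, hEb 0, hEb 0, by rw [hS', hIsq (E 0).2]; rfl⟩
      · exfalso
        have h5 : N * m 0 = E 0 := huniq _ _ (funext fun l => by
          simp only [hN, m, hψmul, he]; exact flip_pattern l)
        have h6 := I₀.mul_mem hS (hm0 0)
        rw [hS'] at h6
        exact hEb 0 (hdisj _ (show (E 0 : MulAut P) ∈ I₀ by rw [← h5]; exact h6) (hE1 0))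
      · exact absurd (hdisj _ (hS' ▸ hS) (hE1 i)) (hEb i)
      · obtain ⟨i, j, hij, hjk, hik⟩ := others_of k
        exact ⟨E i, E j, (E i).2, (E j).2, hE1 i, hE1 j, hEb i, hEb j, by rw [hS', ← hmprod i j k hij hjk hik]; rfl⟩
    · rintro ⟨T, T', hT, hT', h1, h2, h3, h4, rfl⟩
      exact hprod T hT T' hT' h1 h2 h3 h4

end Cfsg.Agent.S4412
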