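import Cfsg.Agent.Lib.Transfer.ExtraspecialUnique
import Mathlib.Data.ZMod.Basic
import Mathlib.Data.Fintype.Perm
import Mathlib.GroupTheory.Perm.Basic
import Mathlib.GroupTheory.QuotientGroup.Basic

/-! The automorphism group of `D₈ ∗ Q₈` through five anticommuting involutions. -/

set_option autoImplicit false
set_option linter.style.haveILetI false

namespace Cfsg.Agent.S4413

open Cfsg.Agent
open scoped BigOperators

variable {P : Type*} [Group P]

private abbrev F2 := ZMod 2

private def pw (x : P) (e : F2) : P := x ^ e.val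

private theorem pw_zero (x : P) : pw x 0 = 1 := pow_zero x

private theorem pw_one (x : P) : pw x 1 = x := pow_one x

private theorem f2_self : ∀ e : F2, e + e = 0 := by decide

private theorem f2_sub : ∀ x y s : F2, x + y = s → x = s + y := by decide

private theorem f2_drop : ∀ x y : F2, x + x + y = 0 → y = 0 := by decide

private theorem f2_cases : ∀ e : F2, e = 0 ∨ e = 1 := by decide

private theorem pw_add {x : P} (hx : x * x = 1) (s t : F2) : pw x (s + t) = pw x s * pw x t := by
  rcases f2_cases s with rfl | rfl <;> rcases f2_cases t with rfl | rfl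
  · rw [zero_add, pw_zero, one_mul]
  · rw [zero_add, pw_zero, one_mul]
  · rw [add_zero, pw_zero, mul_one]
  · rw [show (1 : F2) + 1 = 0 by decide, pw_one, pw_zero, hx]

private theorem pw_map {Q : Type*} [Group Q] (f : P →* Q) (x : P) (e : F2) : f (pw x e) = pw (f x) e :=
  map_pow f x _

private def word : (n : ℕ) → (Fin n → P) → (Fin n → F2) → P
  | 0, _, _ => 1
  | n + 1, a, v => word n (a ∘ Fin.castSucc) (v ∘ Fin.castSucc) * pw (a (Fin.last n)) (v (Fin.last n))

private def cross : (n : ℕ) → (Fin n → F2) → (Fin n → F2) → F2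
  | 0, _, _ => 0
  | n + 1, v, u => cross n (v ∘ Fin.castSucc) (u ∘ Fin.castSucc) + v (Fin.last n) * ∑ i : Fin n, u i.castSucc

private theorem word_map {Q : Type*} [Group Q] (f : P →* Q) : ∀ (n : ℕ) (a : Fin n → P) (v : Fin n → F2),
    f (word n a v) = word n (fun i => f (a i)) v
  | 0, _, _ => map_one f
  | n + 1, a, v => by
    rw [word, word, map_mul, word_map f n, pw_map]
    rfl

/-- an anticommuting family of involutions -/
private structure Anti (z : P) {n : ℕ} (a : Fin n → P) : Prop where
  inv : ∀ i, a i * a i = 1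
  anti : ∀ i j, i ≠ j → a i * a j = z * (a j * a i)

private theorem swap_word {z b : P} (hz : z * z = 1) (hc : ∀ x, z * x = x * z) (hb : b * b = 1) :
    ∀ (n : ℕ) (a : Fin n → P), (∀ i, b * a i = z * (a i * b)) → ∀ (e : F2) (u : Fin n → F2),
      pw b e * word n a u = pw z (e * ∑ i, u i) * (word n a u * pw b e)
  | 0, a, _, e, u => by simp [word, pw_zero]
  | n + 1, a, ha, e, u => by
    have hpc : ∀ s x, pw z s * x = x * pw z s := fun s x => (Commute.pow_left (hc x) _).eq
    have h1 := swap_word hz hc hb n (a ∘ Fin.castSucc) (fun i => ha i.castSucc) e (u ∘ Fin.castSucc)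
    have h2 : pw b e * pw (a (Fin.last n)) (u (Fin.last n)) =
        pw z (e * u (Fin.last n)) * (pw (a (Fin.last n)) (u (Fin.last n)) * pw b e) := by
      rcases f2_cases e with rfl | rfl
      · simp [pw_zero]
      rcases f2_cases (u (Fin.last n)) with h | h <;> rw [h]
      · simp [pw_zero]
      · simp only [mul_one, pw_one]
        exact ha _
    rw [word, ← mul_assoc, h1, mul_assoc, mul_assoc, h2, ← mul_assoc (word n _ _), ← hpc, Fin.sum_univ_castSucc,
      mul_add, pw_add hz]
    simp only [Function.comp_apply, mul_assoc]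

private theorem word_mul {z : P} (hz : z * z = 1) (hc : ∀ x, z * x = x * z) :
    ∀ (n : ℕ) (a : Fin n → P), Anti z a → ∀ v u : Fin n → F2,
      word n a v * word n a u = pw z (cross n v u) * word n a (v + u)
  | 0, a, _, v, u => by simp [word, cross, pw_zero]
  | n + 1, a, ha, v, u => by
    have hpc : ∀ s x, pw z s * x = x * pw z s := fun s x => (Commute.pow_left (hc x) _).eq
    have ha' : Anti z (a ∘ Fin.castSucc) :=
      ⟨fun i => ha.inv _, fun i j h => ha.anti _ _ fun e => h (Fin.castSucc_injective n e)⟩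
    have h1 := word_mul hz hc n _ ha' (v ∘ Fin.castSucc) (u ∘ Fin.castSucc)
    have h2 := swap_word hz hc (ha.inv (Fin.last n)) n (a ∘ Fin.castSucc)
      (fun i => ha.anti _ _ (Fin.castSucc_lt_last i).ne') (v (Fin.last n)) (u ∘ Fin.castSucc)
    rw [word, word, word, mul_assoc, ← mul_assoc (pw (a (Fin.last n)) _), h2, mul_assoc (pw z _),
      ← mul_assoc (word n (a ∘ Fin.castSucc) (v ∘ Fin.castSucc)), ← hpc, mul_assoc (pw z _), mul_assoc (word n _ _) (pw _ _),
      ← pw_add (ha.inv _), ← mul_assoc (word n (a ∘ Fin.castSucc) (v ∘ Fin.castSucc)), h1, mul_assoc (pw z _),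
      ← mul_assoc, ← pw_add hz, cross]
    simp only [Function.comp_apply, Pi.add_apply, add_comm (cross n _ _)]
    rfl

/-- the coordinates of an element -/
private def W (z : P) (a : Fin 4 → P) (x : F2 × (Fin 4 → F2)) : P := pw z x.1 * word 4 a x.2

private def prod2 (x y : F2 × (Fin 4 → F2)) : F2 × (Fin 4 → F2) := (x.1 + y.1 + cross 4 x.2 y.2, x.2 + y.2)

private theorem W_mul {z : P} (hz : z * z = 1) (hc : ∀ x, z * x = x * z) {a : Fin 4 → P} (ha : Anti z a)
    (x y : F2 × (Fin 4 → F2)) : W z a x * W z a y = W z a (prod2 x y) := by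
  have hpc : ∀ s x, pw z s * x = x * pw z s := fun s x => (Commute.pow_left (hc x) _).eq
  rw [W, W, W, mul_assoc, ← mul_assoc (word 4 a x.2), ← hpc, mul_assoc (pw z y.1), word_mul hz hc 4 a ha,
    ← mul_assoc, ← mul_assoc, ← pw_add hz, ← pw_add hz]
  rfl

private def ev (i : Fin 4) : Fin 4 → F2 := fun j => if j = i then 1 else 0

private theorem word_ev (a : Fin 4 → P) (i : Fin 4) : word 4 a (ev i) = a i := by
  fin_cases i <;> simp [word, ev, pw_zero, pw_one, Fin.ext_iff] <;> rfl

private theorem W_ev (z : P) (a : Fin 4 → P) (i : Fin 4) : W z a (0, ev i) = a i := by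
  rw [W, pw_zero, one_mul, word_ev]

private theorem W_z (z : P) (a : Fin 4 → P) (s : F2) : W z a (s, 0) = pw z s := by
  simp [W, word, pw_zero]

private theorem cross_kill : ∀ v : Fin 4 → F2, (∀ i, cross 4 v (ev i) = cross 4 (ev i) v) → v = 0 := by
  decide

private theorem cross_zero : ∀ v : Fin 4 → F2, cross 4 v 0 = 0 ∧ cross 4 0 v = 0 := by decide

private theorem prod2_sym_of_z (s : F2) (x : F2 × (Fin 4 → F2)) : prod2 (s, 0) x = (s + x.1, x.2) := by
  simp [prod2, (cross_zero x.2).2]

private theorem W_injective {z : P} (hz : z * z = 1) (hc : ∀ x, z * x = x * z) (hz1 : z ≠ 1) {a : Fin 4 → P}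
    (ha : Anti z a) : Function.Injective (W z a) := by
  have hker : ∀ x, W z a x = 1 → x = 0 := by
    rintro ⟨s, v⟩ hx
    have h1 : ∀ i, cross 4 v (ev i) = cross 4 (ev i) v := by
      intro i
      have e := W_mul hz hc ha (s, v) (0, ev i)
      have e' := W_mul hz hc ha (0, ev i) (s, v)
      rw [hx, one_mul, W_ev] at e
      rw [hx, mul_one, W_ev] at e'
      have h := e.symm.trans e'
      simp only [W, prod2, add_zero, zero_add, add_comm v, mul_left_inj] at h
      rcases f2_cases (s + cross 4 v (ev i)) with h0 | h0 <;>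
        rcases f2_cases (s + cross 4 (ev i) v) with h0' | h0'
      · exact add_left_cancel (h0.trans h0'.symm)
      · rw [h0, h0', pw_zero, pw_one] at h; exact absurd h.symm hz1
      · rw [h0, h0', pw_zero, pw_one] at h; exact absurd h hz1
      · exact add_left_cancel (h0.trans h0'.symm)
    obtain rfl := cross_kill v h1
    rw [W_z] at hx
    rcases f2_cases s with rfl | rfl
    · rfl
    · rw [pw_one] at hx; exact absurd hx hz1
  intro x y hxy
  have h := W_mul hz hc ha x (y.1 + cross 4 y.2 y.2, y.2)
  rw [hxy, W_mul hz hc ha] at h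
  have h2 : prod2 y (y.1 + cross 4 y.2 y.2, y.2) = 0 := by
    have hf : ∀ e : F2, e + e = 0 := by decide
    refine Prod.ext ?_ (funext fun i => hf _)
    show y.1 + (y.1 + cross 4 y.2 y.2) + cross 4 y.2 y.2 = 0
    rw [add_assoc, add_assoc y.1, hf, add_zero, hf]
  rw [h2] at h
  have h3 := hker (prod2 x (y.1 + cross 4 y.2 y.2, y.2)) (by
    rw [← h]
    exact (W_z z a 0).trans (pw_zero z))
  have hf : ∀ e f : F2, e + f = 0 → e = f := by decide
  have hv : x.2 = y.2 := funext fun i => hf _ _ (congrFun (congrArg Prod.snd h3) i)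
  refine Prod.ext (hf _ _ ?_) hv
  have h4 : x.1 + (y.1 + cross 4 y.2 y.2) + cross 4 x.2 y.2 = 0 := congrArg Prod.fst h3
  rw [hv, add_assoc, add_assoc y.1] at h4
  have hf2 : ∀ e : F2, e + e = 0 := by decide
  rwa [hf2, add_zero] at h4

private def u5 : Fin 5 → Fin 4 → F2 := ![ev 0, ev 1, ev 2, ev 3, fun _ => 1]

private theorem u5_injective : Function.Injective u5 := by decide

private theorem u5_ne : ∀ i, u5 i ≠ 0 := by decide

private theorem u5_square : ∀ v, v ≠ 0 → cross 4 v v = 0 → ∃ i, u5 i = v := by decide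

private theorem u5_self : ∀ i, cross 4 (u5 i) (u5 i) = 0 := by decide

private theorem u5_anti : ∀ i j, i ≠ j → cross 4 (u5 i) (u5 j) + cross 4 (u5 j) (u5 i) = 1 := by decide

private theorem sum_u5 : ∀ π : Equiv.Perm (Fin 5), u5 (π 0) + u5 (π 1) + u5 (π 2) + u5 (π 3) = u5 (π 4) := by
  intro π
  have hs : ∀ g : Fin 5 → Fin 4 → F2, ∑ i, g (π i) = ∑ i, g i := fun g => Equiv.sum_comp π g
  have h := hs u5
  rw [Fin.sum_univ_five, Fin.sum_univ_five] at h
  have h0 : u5 0 + u5 1 + u5 2 + u5 3 + u5 4 = 0 := by decide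
  rw [h0] at h
  have hf : ∀ e f : F2, e + f = 0 → e = f := by decide
  exact funext fun i => hf _ _ (congrFun h i)

private theorem kill : ∀ s : Fin 4 → F2, ∃ v, ∀ i, cross 4 v (ev i) + cross 4 (ev i) v = s i := by decide

private theorem exists_family [Finite P] {z : P} (h : XSUnique.XS 2 z) (h32 : Nat.card P = 32)
    (hminus : ∀ A : Subgroup P, Cfsg.IsElementaryAbelian 2 A → Nat.card ↥A ≤ 4) :
    ∃ a : Fin 4 → P, Anti z a := by
  haveI : Fact (Nat.Prime 2) := ⟨Nat.prime_two⟩
  have hz : z * z = 1 := by rw [← sq]; exact h.zpow_p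
  have hc := h.central
  obtain ⟨a, b, hab, ha, hb⟩ := XSUnique.pair_dihedral h (by omega)
  rw [sq] at ha hb
  have h8 := h.card_eq hab
  rcases (h.sub hab).card_cases with h1 | ⟨c, d, hcd⟩
  · omega
  rcases XSUnique.pair_two (h.sub hab) hcd with ⟨c', d', hcd', hc2, -⟩ | ⟨hc2, hd2⟩
  · -- an elementary abelian subgroup of order eight
    exfalso
    obtain ⟨e1, e2⟩ := XSUnique.mem_cent.1 c'.2
    have hc2' : (c' : P) * c' = 1 := by rw [← sq]; exact congrArg Subtype.val hc2
    set A := Subgroup.closure ({a, (c' : P), z} : Set P) with hA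
    have hcomm : ∀ x ∈ ({a, (c' : P), z} : Set P), ∀ y ∈ ({a, (c' : P), z} : Set P), x * y = y * x := by
      rintro x (rfl | rfl | rfl) y (rfl | rfl | rfl)
      exacts [rfl, e1, (hc _).symm, e1.symm, rfl, (hc _).symm, hc _, hc _, rfl]
    have hAc : IsMulCommutative A := Subgroup.isMulCommutative_closure hcomm
    have hA2 : ∀ x ∈ A, x ^ 2 = 1 := by
      intro x hx
      rw [hA] at hx
      induction hx using Subgroup.closure_induction with
      | mem x hx => rcases hx with rfl | rfl | rfl <;> rw [sq] <;> assumption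
      | one => exact one_pow 2
      | mul x y hx hy ihx ihy =>
        have : x * y = y * x := setLike_mul_comm (show x ∈ A from hx) (show y ∈ A from hy)
        rw [(show Commute x y from this).mul_pow, ihx, ihy, one_mul]
      | inv x hx ihx => rw [inv_pow, ihx, inv_one]
    have hle := hminus A ⟨hAc, hA2⟩
    have hz1 : z ≠ 1 := fun e => by
      have := h.ord
      rw [e, orderOf_one] at this
      omega
    have nab : a * b ≠ b * a := fun e => hz1 (by rw [hab] at e; exact mul_eq_left.1 e.symm)
    have nz : ∀ g : P, a = g → g * b ≠ b * g := fun g hg e => nab (hg ▸ e)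
    have hc1 : (c' : P) ≠ 1 := fun e => by
      have := congrArg Subtype.val hcd'
      simp only [Subgroup.coe_mul, e, one_mul, mul_one] at this
      exact hz1 (mul_eq_left.1 this.symm)
    have hcz : (c' : P) ≠ z := fun e => by
      have := congrArg Subtype.val hcd'
      simp only [Subgroup.coe_mul, e] at this
      rw [← hc (d' : P)] at this
      exact hz1 (mul_eq_left.1 this.symm)
    have hsub : ({1, a, (c' : P), z, a * (c' : P)} : Set P) ⊆ (A : Set P) := by
      have hm : ∀ g ∈ ({a, (c' : P), z} : Set P), g ∈ A := fun g hg => Subgroup.subset_closure hg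
      rintro x (rfl | rfl | rfl | rfl | rfl)
      exacts [A.one_mem, hm _ (by simp), hm _ (by simp), hm _ (by simp),
        A.mul_mem (hm _ (by simp)) (hm _ (by simp))]
    have h5 := Set.ncard_le_ncard hsub (Set.toFinite _)
    rw [← Nat.card_coe_set_eq (A : Set P)] at h5
    have h1 : (1 : P) ∉ ({a, (c' : P), z, a * (c' : P)} : Set P) := by
      rintro (e | e | e | e)
      exacts [nz 1 e.symm (by rw [one_mul, mul_one]), hc1 e.symm, hz1 e.symm,
        nz (c' : P) (calc a = a * ((c' : P) * c') := by rw [hc2', mul_one]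
          _ = a * (c' : P) * c' := (mul_assoc _ _ _).symm
          _ = c' := by rw [← e, one_mul]) e2.symm]
    have h2 : a ∉ ({(c' : P), z, a * (c' : P)} : Set P) := by
      rintro (e | e | e)
      exacts [nz _ e e2.symm, nz _ e (hc b), hc1 (mul_eq_left.1 e.symm)]
    have h3 : (c' : P) ∉ ({z, a * (c' : P)} : Set P) := by
      rintro (e | e)
      exacts [hcz e, nz 1 (mul_eq_right.1 e.symm) (by rw [one_mul, mul_one])]
    have h4 : z ∉ ({a * (c' : P)} : Set P) := by
      intro e
      refine nz (z * c') (by rw [show z = a * (c' : P) from e, mul_assoc, hc2', mul_one]) ?_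
      rw [mul_assoc, ← e2, ← mul_assoc, hc b, mul_assoc]
    rw [Set.ncard_insert_of_notMem h1, Set.ncard_insert_of_notMem h2, Set.ncard_insert_of_notMem h3,
      Set.ncard_insert_of_notMem h4, Set.ncard_singleton] at h5
    change 5 ≤ Nat.card A at h5
    omega
  obtain ⟨ca, cb⟩ := XSUnique.mem_cent.1 c.2
  obtain ⟨da, db⟩ := XSUnique.mem_cent.1 d.2
  have hcc : (c : P) * c = z := by rw [← sq]; exact congrArg Subtype.val hc2
  have hdd : (d : P) * d = z := by rw [← sq]; exact congrArg Subtype.val hd2
  have hdc : (d : P) * c = c * d * z := congrArg Subtype.val hcd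
  set g := a * b with hg
  have hba : b * a = z * g := by rw [hab, hc]
  have hga : g * a = z * (a * g) := by
    calc g * a = a * (b * a) := by rw [hg, mul_assoc]
      _ = z * (a * g) := by rw [hba, ← mul_assoc, ← hc a, mul_assoc]
  have hgb : g * b = z * (b * g) := by
    calc g * b = a := by rw [hg, mul_assoc, hb, mul_one]
      _ = z * z * a * (b * b) := by rw [hz, hb, one_mul, mul_one]
      _ = z * (z * g * b) := by rw [hg]; group
      _ = z * (b * g) := by rw [← hba, hg]; group
  have hgg : g * g = z := by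
    calc g * g = g * a * b := by rw [hg]; group
      _ = z * (a * g) * b := by rw [hga]
      _ = z * (a * a) * (b * b) := by rw [hg]; group
      _ = z := by rw [ha, hb, mul_one, mul_one]
  have hgc : (c : P) * g = g * c := by rw [hg, ← mul_assoc, ← ca, mul_assoc, ← cb, mul_assoc]
  have hgd : (d : P) * g = g * d := by rw [hg, ← mul_assoc, ← da, mul_assoc, ← db, mul_assoc]
  have sqr : ∀ x : P, x * g = g * x → x * x = z → g * x * (g * x) = 1 := fun x hx hx2 => by
    calc g * x * (g * x) = g * (x * g) * x := by group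
      _ = g * g * (x * x) := by rw [hx]; group
      _ = 1 := by rw [hgg, hx2, hz]
  have anti : ∀ y x : P, g * y = z * (y * g) → y * x = x * y → g * x * y = z * (y * (g * x)) := fun y x h1 h2 => by
    calc g * x * y = g * y * x := by rw [mul_assoc, ← h2, ← mul_assoc]
      _ = z * (y * (g * x)) := by rw [h1, mul_assoc, mul_assoc]
  have rev : ∀ {x y : P}, x * y = z * (y * x) → y * x = z * (x * y) := fun {x y} h => by
    rw [h, ← mul_assoc, hz, one_mul]
  have hcd2 : g * (c : P) * (g * d) = z * (g * d * (g * c)) := by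
    calc g * (c : P) * (g * d) = g * ((c : P) * g) * d := by group
      _ = g * g * ((c : P) * d) := by rw [hgc]; group
      _ = z * (z * ((d : P) * c)) * 1 := by
          rw [hdc, hgg, ← hc ((c : P) * d), ← mul_assoc z z, hz, one_mul, mul_one]
      _ = z * (g * g * ((d : P) * c)) := by rw [hgg, mul_one]
      _ = z * (g * ((d : P) * g) * c) := by rw [hgd]; group
      _ = z * (g * d * (g * c)) := by group
  have hab' : a * b = z * (b * a) := by rw [hba, ← mul_assoc, hz, one_mul, hg]
  refine ⟨![a, b, g * c, g * d], ⟨?_, ?_⟩⟩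
  · intro i
    fin_cases i
    exacts [ha, hb, sqr _ hgc hcc, sqr _ hgd hdd]
  · intro i j hij
    have a1 := anti a _ hga ca
    have a2 := anti b _ hgb cb
    have a3 := anti a _ hga da
    have a4 := anti b _ hgb db
    fin_cases i <;> fin_cases j <;> first
      | exact absurd rfl hij
      | exact hab'
      | exact rev hab'
      | exact a1
      | exact rev a1
      | exact a2
      | exact rev a2
      | exact a3
      | exact rev a3
      | exact a4
      | exact rev a4
      | exact hcd2
      | exact rev hcd2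

theorem result {P : Type*} [Group P] [Finite P]
    (hex : Cfsg.IsExtraspecial 2 P) (h32 : Nat.card P = 32)
    (hminus : ∀ A : Subgroup P, Cfsg.IsElementaryAbelian 2 A → Nat.card ↥A ≤ 4)
    [(MulAut.conj : P →* MulAut P).range.Normal] :
    Nat.card ↥(MulAut.conj : P →* MulAut P).range = 16 ∧ Nat.card (MulAut P) = 1920 ∧
      Nonempty ((MulAut P ⧸ (MulAut.conj : P →* MulAut P).range) ≃* Equiv.Perm (Fin 5)) := by
  haveI : Fact (Nat.Prime 2) := ⟨Nat.prime_two⟩
  obtain ⟨z, hX⟩ := XSUnique.exists_xs hex
  have hz : z * z = 1 := by rw [← sq]; exact hX.zpow_p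
  have hc := hX.central
  have hz1 : z ≠ 1 := fun e => by
    have := hX.ord
    rw [e, orderOf_one] at this
    omega
  obtain ⟨a, ha⟩ := exists_family hX h32 hminus
  have hbij : ∀ {b : Fin 4 → P}, Anti z b → Function.Bijective (W z b) := by
    intro b hb
    exact (Nat.bijective_iff_injective_and_card _).2 ⟨W_injective hz hc hz1 hb, by simp [h32]⟩
  set e := Equiv.ofBijective _ (hbij ha) with he
  have eW : ∀ x, e x = W z a x := fun x => rfl
  have hmulsymm : ∀ x y, e.symm (x * y) = prod2 (e.symm x) (e.symm y) := by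
    intro x y
    rw [Equiv.symm_apply_eq, eW, ← W_mul hz hc ha, ← eW, ← eW, e.apply_symm_apply, e.apply_symm_apply]
  -- automorphisms from families
  have hext : ∀ {b : Fin 4 → P}, Anti z b → ∃ φ : MulAut P, ∀ x, φ x = W z b (e.symm x) := by
    intro b hb
    refine ⟨{ toEquiv := e.symm.trans (Equiv.ofBijective _ (hbij hb)), map_mul' := ?_ }, fun x => rfl⟩
    intro x y
    show W z b (e.symm (x * y)) = W z b (e.symm x) * W z b (e.symm y)
    rw [hmulsymm, W_mul hz hc hb]
  -- every automorphism fixes `z`
  have hσz : ∀ σ : MulAut P, σ z = z := by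
    intro σ
    have hcen : σ z ∈ Subgroup.zpowers z := hX.cen _ fun y => by
      obtain ⟨x, rfl⟩ := σ.surjective y
      rw [← map_mul, ← map_mul, hc]
    obtain ⟨k, hk⟩ := Subgroup.mem_zpowers_iff.1 hcen
    rcases Int.even_or_odd' k with ⟨m, rfl | rfl⟩
    · rw [zpow_mul, zpow_two, hz, one_zpow] at hk
      exact absurd (σ.injective (hk.symm.trans (map_one σ).symm)) hz1
    · rw [zpow_add, zpow_mul, zpow_two, hz, one_zpow, one_mul, zpow_one] at hk
      exact hk.symm
  set cl : P → (Fin 4 → F2) := fun x => (e.symm x).2 with hcl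
  have clW : ∀ x, cl (W z a x) = x.2 := fun x => by rw [hcl, ← eW]; simp
  have clmul : ∀ x y, cl (x * y) = cl x + cl y := fun x y => congrArg Prod.snd (hmulsymm x y)
  have cl0 : ∀ {x}, cl x = 0 → x = 1 ∨ x = z := by
    intro x hx
    have : x = W z a ((e.symm x).1, 0) := by
      rw [← eW, ← Equiv.symm_apply_eq]
      exact Prod.ext rfl hx
    rw [this, W_z]
    rcases f2_cases (e.symm x).1 with h | h <;> rw [h]
    · exact Or.inl (pw_zero z)
    · exact Or.inr (pw_one z)
  have clz : cl z = 0 := by rw [show z = W z a (1, 0) by rw [W_z, pw_one], clW]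
  have cl1 : cl 1 = 0 := by rw [show (1 : P) = W z a (0, 0) by rw [W_z, pw_zero], clW]
  -- the five classes
  let q : Fin 5 → P := fun i => W z a (0, u5 i)
  have hq : ∀ i, q i * q i = 1 := fun i => by
    show W z a _ * W z a _ = 1
    rw [W_mul hz hc ha, ← (W_z z a 0).trans (pw_zero z)]
    congr 1
    exact Prod.ext (by simp [prod2, u5_self]) (funext fun j => f2_self _)
  have hqW : ∀ (σ : MulAut P) (i), ∃ j, u5 j = cl (σ (q i)) := by
    intro σ i
    refine u5_square _ ?_ ?_
    · intro h
      have hne : q i ≠ 1 ∧ q i ≠ z := by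
        constructor <;> intro e' <;> apply u5_ne i
        · exact ((clW (0, u5 i)).symm.trans (congrArg cl e')).trans cl1
        · exact ((clW (0, u5 i)).symm.trans (congrArg cl e')).trans clz
      rcases cl0 h with h' | h'
      · exact hne.1 (σ.injective (h'.trans (map_one σ).symm))
      · exact hne.2 (σ.injective (h'.trans (hσz σ).symm))
    · have h1 : σ (q i) * σ (q i) = 1 := by rw [← map_mul, hq, map_one]
      have h2 := congrArg (fun x => (e.symm x).1) h1
      simp only [hmulsymm] at h2
      rw [show e.symm (1 : P) = (0, 0) by rw [Equiv.symm_apply_eq, eW, W_z, pw_zero]] at h2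
      exact f2_drop _ _ h2
  choose f hf using hqW
  have hcong : ∀ (σ : MulAut P) {x y : P}, cl x = cl y → cl (σ x) = cl (σ y) := by
    intro σ x y hxy
    have hd : cl (x⁻¹ * y) = 0 := by
      have h1 := clmul x (x⁻¹ * y)
      rw [mul_inv_cancel_left, ← hxy] at h1
      exact left_eq_add.1 h1
    have h2 := clmul (σ x) (σ (x⁻¹ * y))
    rw [← map_mul, mul_inv_cancel_left] at h2
    rw [h2]
    rcases cl0 hd with h' | h' <;> rw [h']
    · rw [map_one, cl1, add_zero]
    · rw [hσz, clz, add_zero]
  have hcomp : ∀ σ τ i, f (σ * τ) i = f σ (f τ i) := by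
    intro σ τ i
    apply u5_injective
    rw [hf, hf, MulAut.mul_apply]
    exact hcong σ (by rw [← hf τ i]; exact (clW (0, u5 (f τ i))).symm)
  have hone : ∀ i, f 1 i = i := fun i => u5_injective (by rw [hf, MulAut.one_apply]; exact clW _)
  let Ψ : MulAut P →* Equiv.Perm (Fin 5) :=
    { toFun := fun σ => ⟨f σ, f σ⁻¹, fun i => by rw [← hcomp, inv_mul_cancel, hone],
        fun i => by rw [← hcomp, mul_inv_cancel, hone]⟩
      map_one' := Equiv.ext hone
      map_mul' := fun σ τ => Equiv.ext (hcomp σ τ) }
  have hsurj : Function.Surjective Ψ := by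
    intro π
    have hb : Anti z (fun i : Fin 4 => q (π i.castSucc)) := by
      refine ⟨fun i => hq _, fun i j hij => ?_⟩
      have hne : π i.castSucc ≠ π j.castSucc := fun e' => hij (Fin.castSucc_injective _ (π.injective e'))
      show W z a _ * W z a _ = z * (W z a _ * W z a _)
      conv_rhs => enter [1]; rw [show z = W z a (1, 0) by rw [W_z, pw_one]]
      rw [W_mul hz hc ha, W_mul hz hc ha, W_mul hz hc ha, prod2_sym_of_z]
      congr 1
      refine Prod.ext ?_ (add_comm _ _)
      simp only [prod2, zero_add]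
      exact f2_sub _ _ _ (u5_anti _ _ hne)
    obtain ⟨φ, hφ⟩ := hext hb
    refine ⟨φ, Equiv.ext fun i => u5_injective ?_⟩
    show u5 (f φ i) = u5 (π i)
    rw [hf, hφ, show e.symm (q i) = (0, u5 i) from e.symm_apply_apply _]
    have hW : ∀ v, cl (W z (fun k : Fin 4 => q (π k.castSucc)) (0, v)) =
        v 0 • u5 (π 0) + v 1 • u5 (π 1) + v 2 • u5 (π 2) + v 3 • u5 (π 3) := by
      intro v
      have hpw : ∀ x (s : F2), cl (pw x s) = s • cl x := by
        intro x s
        rcases f2_cases s with rfl | rfl
        · rw [pw_zero, cl1, zero_smul]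
        · rw [pw_one, one_smul]
      simp only [W, word, clmul, pw_zero, cl1, hpw, zero_add, Function.comp_apply]
      simp only [q, clW]
      rfl
    rw [hW]
    have h4 := sum_u5 π
    fin_cases i <;> simp [u5, ev] <;> simp_all [u5, ev]
  have hker : Ψ.ker = (MulAut.conj : P →* MulAut P).range := by
    refine le_antisymm (fun σ hσ => ?_) ?_
    · have hfix : ∀ i : Fin 4, cl (σ (a i)) = ev i := by
        intro i
        have h1 : f σ i.castSucc = i.castSucc := congrArg (fun π : Equiv.Perm (Fin 5) => π i.castSucc) hσ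
        have h2 := hf σ i.castSucc
        rw [h1] at h2
        have h3 : q i.castSucc = a i := by
          show W z a (0, u5 i.castSucc) = a i
          rw [← W_ev z a i]
          congr 2
          fin_cases i <;> rfl
        rw [h3] at h2
        rw [← h2]
        fin_cases i <;> rfl
      obtain ⟨v, hv⟩ := kill fun i => (e.symm (σ (a i))).1
      refine ⟨W z a (0, v), ?_⟩
      apply MulEquiv.ext
      intro x
      have hgen : ∀ i, MulAut.conj (W z a (0, v)) (a i) = σ (a i) := by
        intro i
        rw [MulAut.conj_apply, mul_inv_eq_iff_eq_mul]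
        have h1 : σ (a i) = W z a ((e.symm (σ (a i))).1, ev i) := by
          rw [← eW, ← Equiv.symm_apply_eq, ← hfix i]
        rw [h1, ← W_ev z a i, W_mul hz hc ha, W_mul hz hc ha]
        congr 1
        refine Prod.ext ?_ (add_comm _ _)
        simp only [prod2, zero_add, add_zero, W_ev]
        exact f2_sub _ _ _ (hv i)
      obtain ⟨⟨s, u⟩, rfl⟩ := e.surjective x
      show MulAut.conj (W z a (0, v)) (pw z s * word 4 a u) = σ (pw z s * word 4 a u)
      rw [map_mul (MulAut.conj (W z a (0, v))) _ _, map_mul σ _ _, pw, map_pow, map_pow, hσz, hσz]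
      congr 1
      have h5 := word_map (MulAut.conj (W z a (0, v)) : MulAut P).toMonoidHom 4 a u
      have h6 := word_map σ.toMonoidHom 4 a u
      simp only [MulEquiv.coe_toMonoidHom] at h5 h6
      rw [h5, h6]
      exact congrArg (fun g => word 4 g u) (funext hgen)
    · rintro _ ⟨w, rfl⟩
      refine Equiv.ext fun i => u5_injective ?_
      show u5 (f _ i) = u5 i
      rw [hf, MulAut.conj_apply, clmul, clmul]
      have hw : cl w + cl w⁻¹ = 0 := by rw [← clmul, mul_inv_cancel, cl1]
      rw [add_right_comm, hw, zero_add]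
      exact clW _
  have hinn : Nat.card ↥(MulAut.conj : P →* MulAut P).range = 16 := by
    have hk : (MulAut.conj : P →* MulAut P).ker = Subgroup.center P := by
      ext g
      rw [MonoidHom.mem_ker, Subgroup.mem_center_iff]
      refine ⟨fun h x => ?_, fun h => MulEquiv.ext fun x => ?_⟩
      · have := congrArg (fun s : MulAut P => s x) h
        rw [MulAut.conj_apply, MulAut.one_apply, mul_inv_eq_iff_eq_mul] at this
        exact this.symm
      · rw [MulAut.conj_apply, MulAut.one_apply, ← h x, mul_inv_cancel_right]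
    have h1 := Subgroup.card_mul_index (Subgroup.center P)
    rw [hex.2, h32, ← hk, Subgroup.index_ker] at h1
    omega
  refine ⟨hinn, ?_, ?_⟩
  · rw [← Subgroup.card_mul_index (MulAut.conj : P →* MulAut P).range, hinn, ← hker, Subgroup.index_ker,
      MonoidHom.range_eq_top.2 hsurj, Subgroup.card_top, Nat.card_perm, Nat.card_fin]
    rfl
  · exact ⟨(QuotientGroup.quotientMulEquivOfEq hker.symm).trans
      (QuotientGroup.quotientKerEquivOfSurjective Ψ hsurj)⟩

end Cfsg.Agent.S4413
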