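import Cfsg.Statements.S4414
import Cfsg.Agent.Lib.FGStruct.WeightFixed

set_option autoImplicit false
open Cfsg

namespace Cfsg.Agent.S4414

/-- Let S be a finite solvable group whose order is divisible only by the primes 2, p, q (p, q distinct odd primes), with a Sylow system S₂, S_p, S_q (pairwise permutable Sylow subgroups) such that: S_p is a minimal normal subgroup of S of order p or p²; S_q has order q and [S_p, S_q] = S_p; and O₂(S) = 1. Let E be an irreducible module for S over the field with two elements on which S_p acts faithfully, and E₀ the subspace of fixed points of S₂. Then either E₀ has at least 8 elements, or E₀ has exactly 4 elements and S_q does not leave E₀ invariant. -/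
theorem result {S : Type*} [Group S] [Finite S]
    [Group.IsSolvable S] (p q : ℕ) (hp : p.Prime) (hq : q.Prime) (hp2 : p ≠ 2) (hq2 : q ≠ 2) (hpq : p ≠ q)
    (hπ : ∀ r : ℕ, r.Prime → r ∣ Nat.card S → r = 2 ∨ r = p ∨ r = q)
    (S₂ : Sylow 2 S) (Sp : Sylow p S) (Sq : Sylow q S)
    (h2q : Nat.card ↥((S₂ : Subgroup S) ⊔ (Sq : Subgroup S)) = Nat.card ↥S₂ * Nat.card ↥Sq)
    (h2p : Nat.card ↥((S₂ : Subgroup S) ⊔ (Sp : Subgroup S)) = Nat.card ↥S₂ * Nat.card ↥Sp)
    (hpq' : Nat.card ↥((Sp : Subgroup S) ⊔ (Sq : Subgroup S)) = Nat.card ↥Sp * Nat.card ↥Sq)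
    (hSpN : (Sp : Subgroup S).Normal) (hSpmin : ∀ N : Subgroup S, N.Normal → N ≤ (Sp : Subgroup S) → N = ⊥ ∨ N = (Sp : Subgroup S))
    (hSpcard : Nat.card ↥Sp = p ∨ Nat.card ↥Sp = p ^ 2)
    (hSq : Nat.card ↥Sq = q) (hcomm : ⁅(Sp : Subgroup S), (Sq : Subgroup S)⁆ = (Sp : Subgroup S))
    (hO2 : Cfsg.pCore 2 S = ⊥)
    {E : Type*} [AddCommGroup E] [Module (ZMod 2) E] [Finite E] (ρ : Representation (ZMod 2) S E) (hE : Nontrivial E)
    (hirr : ∀ N : Submodule (ZMod 2) E, (∀ s : S, ∀ m ∈ N, ρ s m ∈ N) → N = ⊥ ∨ N = ⊤)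
    (hfaith : ∀ x ∈ (Sp : Subgroup S), ρ x = 1 → x = 1) :
    8 ≤ Nat.card {v : E // ∀ s ∈ (S₂ : Subgroup S), ρ s v = v} ∨
      (Nat.card {v : E // ∀ s ∈ (S₂ : Subgroup S), ρ s v = v} = 4 ∧
        ∃ x ∈ (Sq : Subgroup S), ∃ v : E, (∀ s ∈ (S₂ : Subgroup S), ρ s v = v) ∧ ¬ ∀ s ∈ (S₂ : Subgroup S), ρ s (ρ x v) = ρ x v) := by
  classical
  haveI : Fact (Nat.Prime 2) := ⟨Nat.prime_two⟩
  haveI : Fact p.Prime := ⟨hp⟩
  haveI : Fact q.Prime := ⟨hq⟩
  haveI := hSpN
  have hSp' : Nat.card ↥(Sp : Subgroup S) = p ∨ Nat.card ↥(Sp : Subgroup S) = p ^ 2 := hSpcard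
  have hSq' : Nat.card ↥(Sq : Subgroup S) = q := hSq
  have hA : ∀ a ∈ (Sp : Subgroup S), ∀ b ∈ (Sp : Subgroup S), a * b = b * a := by
    haveI : IsMulCommutative (Sp : Subgroup S) := by
      rcases hSp' with h | h
      · haveI := isCyclic_of_prime_card (p := p) h
        infer_instance
      · exact IsPGroup.isMulCommutative_of_card_eq_prime_sq h
    exact fun a ha b hb => congrArg Subtype.val (IsMulCommutative.is_comm.comm (⟨a, ha⟩ : (Sp : Subgroup S)) ⟨b, hb⟩)
  obtain ⟨a₀, ha₀⟩ : ∃ a : (Sp : Subgroup S), orderOf a = p := exists_prime_orderOf_dvd_card' p (by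
    rcases hSp' with h | h <;> rw [h]
    exact dvd_pow_self p two_ne_zero)
  have hpa : (a₀ : S) ^ p = 1 := orderOf_dvd_iff_pow_eq_one.1 (dvd_of_eq ((Subgroup.orderOf_coe a₀).trans ha₀))
  have ha₀1 : a₀ ≠ 1 := fun h => hp.ne_one (by rw [← ha₀, h, orderOf_one])
  obtain ⟨x₀, hx₀⟩ : ∃ x : (Sq : Subgroup S), orderOf x = q :=
    exists_prime_orderOf_dvd_card' q (dvd_of_eq hSq'.symm)
  have hxq : (x₀ : S) ^ q = 1 := orderOf_dvd_iff_pow_eq_one.1 (dvd_of_eq ((Subgroup.orderOf_coe x₀).trans hx₀))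
  have hz : Subgroup.zpowers (x₀ : S) = (Sq : Subgroup S) :=
    Subgroup.eq_of_le_of_card_ge (Subgroup.zpowers_le.2 x₀.2)
      (by rw [Nat.card_zpowers, Subgroup.orderOf_coe, hx₀, hSq'])
  haveI : Module.Finite (ZMod 2) E := Module.Finite.of_finite
  let bE := Module.finBasis (ZMod 2) E
  let K := AlgebraicClosure (ZMod 2)
  haveI : CharP K 2 := charP_of_injective_algebraMap (algebraMap (ZMod 2) K).injective 2
  let R : Representation K S (Fin (Module.finrank (ZMod 2) E) → K) :=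
    ((Matrix.toLinAlgEquiv' : Matrix _ _ K ≃ₐ[K] _).toMonoidHom.comp
      ((algebraMap (ZMod 2) K).mapMatrix.toMonoidHom.comp
        ((LinearMap.toMatrixAlgEquiv bE).toMonoidHom.comp ρ)))
  let ι : E → (Fin (Module.finrank (ZMod 2) E) → K) := fun e i => algebraMap (ZMod 2) K (bE.repr e i)
  have hι : ∀ s e, R s (ι e) = ι (ρ s e) := by
    intro s e
    funext i
    show ((LinearMap.toMatrixAlgEquiv bE (ρ s)).map (algebraMap (ZMod 2) K)).mulVec (ι e) i = _
    rw [show ι (ρ s e) i = algebraMap (ZMod 2) K (bE.repr (ρ s e) i) from rfl,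
      ← LinearMap.toMatrix_mulVec_repr bE bE (ρ s) e]
    exact ((algebraMap (ZMod 2) K).map_mulVec _ _ i).symm
  have hιinj : Function.Injective ι := fun a b h => bE.repr.injective (Finsupp.ext fun i =>
    (algebraMap (ZMod 2) K).injective (congrFun h i))
  have hR0 : R (a₀ : S) ≠ 1 := by
    intro h
    refine ha₀1 (Subtype.ext (hfaith _ a₀.2 (LinearMap.ext fun e => hιinj ?_)))
    rw [← hι, h]; rfl
  have hpK : (p : K) ≠ 0 := fun h => hp2 ((Nat.prime_dvd_prime_iff_eq Nat.prime_two hp).1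
    ((CharP.cast_eq_zero_iff K 2 p).1 h)).symm
  have hfree : ∀ χ : ↥(Sp : Subgroup S) → K, (∀ a b, χ (a * b) = χ a * χ b) → χ 1 = 1 →
      Cfsg.Agent.WeightFixed.act (Sp : Subgroup S) (x₀ : S) χ = χ → ∀ a, χ a = 1 := by
    intro χ hmul h1 hfix
    let φ : ↥(Sp : Subgroup S) →* K := ⟨⟨χ, h1⟩, hmul⟩
    let N : Subgroup S :=
      { carrier := {s | Cfsg.Agent.WeightFixed.act (Sp : Subgroup S) s χ = χ}
        one_mem' := Cfsg.Agent.WeightFixed.act_one _ χ
        mul_mem' := fun {a b} (ha : _ = χ) (hb : _ = χ) => by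
          show _ = χ
          rw [Cfsg.Agent.WeightFixed.act_mul, hb, ha]
        inv_mem' := fun {a} (ha : _ = χ) => by
          show _ = χ
          conv_lhs => rw [← ha, ← Cfsg.Agent.WeightFixed.act_mul, inv_mul_cancel, Cfsg.Agent.WeightFixed.act_one] }
    have hN : (Sq : Subgroup S) ≤ N := hz ▸ Subgroup.zpowers_le.2 hfix
    have hle : ⁅(Sp : Subgroup S), (Sq : Subgroup S)⁆ ≤ φ.ker.map (Sp : Subgroup S).subtype := by
      rw [Subgroup.commutator_le]
      intro a ha y hy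
      have hc : y * a⁻¹ * y⁻¹ ∈ (Sp : Subgroup S) := hSpN.conj_mem _ (inv_mem ha) y
      refine ⟨⟨a, ha⟩ * ⟨_, hc⟩, ?_, by simp [commutatorElement_def, mul_assoc]⟩
      show χ _ = 1
      rw [hmul]
      have hy' := congrFun (hN hy) ⟨_, hc⟩
      rw [← hy']
      show χ ⟨a, ha⟩ * χ _ = 1
      rw [← hmul]
      convert h1 using 2
      exact Subtype.ext (by simp [mul_assoc])
    intro a
    obtain ⟨b, hb, e⟩ := hle (hcomm.ge a.2)
    rw [← Subtype.ext e]
    exact hb
  obtain ⟨hge, hnot⟩ := Cfsg.Agent.WeightFixed.main (R := R) hA hpK hpa hR0 S₂.isPGroup' hq2 hxq hfree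
  let E₀ : Submodule (ZMod 2) E := ⨅ s : (S₂ : Subgroup S), Module.End.eigenspace (ρ s) 1
  have hE₀ : ∀ v, v ∈ E₀ ↔ ∀ s ∈ (S₂ : Subgroup S), ρ s v = v := fun v => by
    simp [E₀, Submodule.mem_iInf, Module.End.mem_eigenspace_iff]
  have hspan : Cfsg.Agent.WeightFixed.Fix R (S₂ : Subgroup S) ≤ Submodule.span K (ι '' (E₀ : Set E)) := by
    intro v hv
    let β := Module.Basis.ofVectorSpace (ZMod 2) K
    let e : _ → E := fun j => bE.equivFun.symm (fun i => β.repr (v i) j)
    have hej : ∀ j i, bE.repr (e j) i = β.repr (v i) j := fun j i =>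
      congrFun (bE.equivFun.apply_symm_apply fun i => β.repr (v i) j) i
    have heE : ∀ j, e j ∈ E₀ := by
      intro j
      refine (hE₀ _).2 fun s hs => bE.repr.injective (Finsupp.ext fun i => ?_)
      have h := congrFun ((Cfsg.Agent.WeightFixed.mem_Fix R).1 hv s hs) i
      rw [← LinearMap.toMatrix_mulVec_repr bE bE (ρ s) (e j)]
      rw [hej j i]
      conv_rhs => rw [← h]
      show _ = β.coord j (((LinearMap.toMatrixAlgEquiv bE (ρ s)).map (algebraMap (ZMod 2) K)).mulVec v i)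
      simp only [Matrix.mulVec, dotProduct, Matrix.map_apply, map_sum, hej]
      refine Finset.sum_congr rfl fun k _ => ?_
      rw [← Algebra.smul_def, map_smul, Module.Basis.coord_apply, smul_eq_mul]
      rfl
    let J := Finset.univ.biUnion fun i => (β.repr (v i)).support
    have hv' : v = ∑ j ∈ J, β j • ι (e j) := by
      funext i
      rw [Finset.sum_apply]
      conv_lhs => rw [← β.linearCombination_repr (v i), Finsupp.linearCombination_apply,
        Finsupp.sum_of_support_subset _ (Finset.subset_biUnion_of_mem (fun i => (β.repr (v i)).support)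
          (Finset.mem_univ i)) (fun j a => a • β j) (fun j _ => zero_smul _ _)]
      refine Finset.sum_congr rfl fun j _ => ?_
      show _ = β j * algebraMap (ZMod 2) K (bE.repr (e j) i)
      rw [hej, Algebra.smul_def, mul_comm]
    rw [hv']
    exact Submodule.sum_mem _ fun j _ => Submodule.smul_mem _ _ (Submodule.subset_span ⟨e j, heE j, rfl⟩)
  have hdim : Module.finrank K (Cfsg.Agent.WeightFixed.Fix R (S₂ : Subgroup S)) ≤ Module.finrank (ZMod 2) E₀ := by
    let b₀ := Module.finBasis (ZMod 2) E₀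
    have hιlin : ∀ (c : ZMod 2) u w, ι (c • u + w) = algebraMap (ZMod 2) K c • ι u + ι w := by
      intro c u w; funext i; simp [ι, Algebra.smul_def]
    have h0 : ι 0 = 0 := by funext i; simp [ι]
    have hle : Submodule.span K (ι '' (E₀ : Set E)) ≤ Submodule.span K (Set.range fun j => ι (b₀ j : E)) := by
      rw [Submodule.span_le]
      rintro _ ⟨u, hu, rfl⟩
      have hsum : u = ∑ j, b₀.repr ⟨u, hu⟩ j • (b₀ j : E) := by
        have h := congrArg E₀.subtype (b₀.sum_repr ⟨u, hu⟩)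
        simp only [map_sum, map_smul, Submodule.subtype_apply] at h
        exact h.symm
      rw [hsum]
      generalize b₀.repr ⟨u, hu⟩ = c
      induction (Finset.univ : Finset (Fin (Module.finrank (ZMod 2) E₀))) using Finset.induction_on with
      | empty => simp [h0]
      | insert j t hjt ih =>
        rw [Finset.sum_insert hjt, hιlin]
        exact add_mem (Submodule.smul_mem _ _ (Submodule.subset_span ⟨j, rfl⟩)) ih
    exact (Submodule.finrank_mono (hspan.trans hle)).trans ((finrank_range_le_card (R := K) fun j => ι (b₀ j : E)).trans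
      (le_of_eq (Fintype.card_fin _)))
  have hcard : Nat.card {v : E // ∀ s ∈ (S₂ : Subgroup S), ρ s v = v} = 2 ^ Module.finrank (ZMod 2) E₀ := by
    rw [Nat.card_congr (Equiv.subtypeEquivRight (fun v => (hE₀ v).symm))]
    show Nat.card E₀ = _
    rw [Module.natCard_eq_pow_finrank (K := ZMod 2), Nat.card_zmod]
  rw [hcard]
  rcases (show 3 ≤ Module.finrank (ZMod 2) E₀ ∨ Module.finrank (ZMod 2) E₀ = 2 by omega) with h | h
  · exact Or.inl ((le_of_eq (by norm_num)).trans (Nat.pow_le_pow_right two_pos h))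
  · refine Or.inr ⟨by rw [h]; norm_num, ?_⟩
    by_contra hinv
    push Not at hinv
    refine hnot (hdim.trans h.le) fun v hv => ?_
    have hle : Submodule.span K (ι '' (E₀ : Set E)) ≤
        (Cfsg.Agent.WeightFixed.Fix R (S₂ : Subgroup S)).comap (R (x₀ : S)) := by
      rw [Submodule.span_le]
      rintro _ ⟨u, hu, rfl⟩
      show R (x₀ : S) (ι u) ∈ Cfsg.Agent.WeightFixed.Fix R (S₂ : Subgroup S)
      rw [hι]
      refine (Cfsg.Agent.WeightFixed.mem_Fix R).2 fun s hs => ?_
      rw [hι, hinv _ x₀.2 u ((hE₀ u).1 hu) s hs]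
    exact hle (hspan hv)

end Cfsg.Agent.S4414
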