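import Cfsg.Statements.S4415
import Cfsg.Agent.Lib.CubicThree.Shape
import Cfsg.Agent.Lib.Solvable.Coprime
import Cfsg.Agent.Lib.Transfer.Basic
import Cfsg.Agent.Lib.Qd.Basic

set_option autoImplicit false
open Cfsg

namespace Cfsg.Agent.CubicThree

open Module
open scoped commutatorElement

section General

variable {S : Type*} [Group S] {E : Type*} [AddCommGroup E] [Module (ZMod 3) E] (ρ : Representation (ZMod 3) S E)

/-- Elements moving every vector into `N` only. -/
def stabMod (N : Submodule (ZMod 3) E) (X : Submodule (ZMod 3) E) (hX : ∀ g : S, ∀ v ∈ X, ρ g v ∈ X) : Subgroup S where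
  carrier := {g | ∀ v ∈ X, ρ g v - v ∈ N}
  one_mem' := fun v _ => by rw [map_one]; simp
  mul_mem' := fun {g h} hg hh v hv => by
    have e : ρ (g * h) v - v = (ρ g (ρ h v) - ρ h v) + (ρ h v - v) := by rw [rho_mul]; abel
    rw [e]
    exact add_mem (hg _ (hX h v hv)) (hh v hv)
  inv_mem' := fun {g} hg v hv => by
    have := N.neg_mem (hg _ (hX g⁻¹ v hv))
    rwa [show ρ g (ρ g⁻¹ v) = v by rw [← rho_mul, mul_inv_cancel, map_one]; rfl, neg_sub] at this

theorem commutator_le_stabMod (N X : Submodule (ZMod 3) E) (hX : ∀ g : S, ∀ v ∈ X, ρ g v ∈ X)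
    (hN : ∀ g : S, ∀ v ∈ N, ρ g v ∈ N) {b : S} (hb : b ∈ stabMod ρ N X hX) (R : Subgroup S) :
    ⁅R, Subgroup.zpowers b⁆ ≤ stabMod ρ N X hX := by
  rw [Subgroup.commutator_le]
  intro r _ x hx
  have hx' : x ∈ stabMod ρ N X hX := (Subgroup.zpowers_le.2 hb) hx
  rw [commutatorElement_def]
  refine mul_mem ?_ (inv_mem hx')
  intro v hv
  have := hN r _ (hx' _ (hX r⁻¹ v hv))
  rw [map_sub, ← rho_mul, ← rho_mul, ← rho_mul, mul_inv_cancel, map_one] at this
  exact this

theorem rank_block [Finite E] (E₀ E₁ : Submodule (ZMod 3) E) (hE01' : E₀ ⊔ E₁ = ⊤) {b : S} (hb3 : b ^ 3 = 1)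
    (hE1 : ∀ v ∈ E₁, ρ b v = v) (hE0inv : ∀ v ∈ E₀, ρ b v ∈ E₀) (hE0 : Nat.card ↥E₀ = 27) :
    finrank (ZMod 3) (comSpace ρ b) ≤ 2 := by
  haveI := fact_three
  haveI : Module.Finite (ZMod 3) E := Module.Finite.of_finite
  have hd : finrank (ZMod 3) E₀ = 3 := by
    have := Module.natCard_eq_pow_finrank (K := ZMod 3) (V := E₀)
    rw [hE0, Nat.card_zmod] at this
    exact (Nat.pow_right_injective (show 2 ≤ 3 by norm_num) (show 3 ^ 3 = 3 ^ finrank (ZMod 3) E₀ from this)).symm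
  let T := (ρ b - 1).domRestrict E₀
  have hle : comSpace ρ b ≤ LinearMap.range T := by
    rintro _ ⟨v, rfl⟩
    obtain ⟨v0, h0, v1, h1, rfl⟩ := Submodule.mem_sup.1 (show v ∈ E₀ ⊔ E₁ from hE01' ▸ trivial)
    refine ⟨⟨v0, h0⟩, ?_⟩
    show ρ b v0 - v0 = ρ b (v0 + v1) - (v0 + v1)
    rw [map_add, hE1 v1 h1]; abel
  have hker : LinearMap.ker T ≠ ⊥ := by
    intro hbot
    have hinj : ∀ v ∈ E₀, ρ b v - v = 0 → v = 0 := fun v hv h => by
      have : (⟨v, hv⟩ : E₀) ∈ LinearMap.ker T := h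
      rw [hbot, Submodule.mem_bot] at this
      exact congrArg Subtype.val this
    obtain ⟨v, hv, hv0⟩ : ∃ v ∈ E₀, v ≠ 0 := by
      by_contra hno
      push Not at hno
      rw [(Submodule.eq_bot_iff _).2 hno, finrank_bot] at hd
      norm_num at hd
    apply hv0
    have hm1 : ρ b v - v ∈ E₀ := sub_mem (hE0inv v hv) hv
    have hm2 : ρ b (ρ b v - v) - (ρ b v - v) ∈ E₀ := sub_mem (hE0inv _ hm1) hm1
    refine hinj v hv (hinj _ hm1 (hinj _ hm2 ?_))
    have hb : ρ b (ρ b (ρ b v)) = v := by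
      rw [← rho_mul, ← rho_mul, ← pow_two, ← pow_succ, hb3, map_one]; rfl
    simp only [map_sub, hb]
    have e : ∀ a c : E, v - a - (a - c) - ((a - c) - (c - v)) = (c + c + c) - (a + a + a) := fun a c => by abel
    rw [e, three_smul_zero, three_smul_zero, sub_zero]
  have h1 := LinearMap.finrank_range_add_finrank_ker T
  have h2 : finrank (ZMod 3) (LinearMap.ker T) ≠ 0 := fun h => hker (Submodule.finrank_eq_zero.1 h)
  have h3 := Submodule.finrank_mono hle
  omega

variable [Finite S]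

/-- The normalised average over a subgroup of order prime to three. -/
noncomputable def avg (R : Subgroup S) : E →ₗ[ZMod 3] E :=
  haveI := Fintype.ofFinite R
  Nat.card R • ∑ r : R, ρ (r : S)

theorem avg_apply (R : Subgroup S) [Fintype R] (v : E) : avg ρ R v = Nat.card R • ∑ r : R, ρ (r : S) v := by
  rw [avg, LinearMap.smul_apply, LinearMap.sum_apply]
  congr! 2
  ext; simp

theorem avg_fix (R : Subgroup S) {v : E} {r : S} (hr : r ∈ R) : ρ r (avg ρ R v) = avg ρ R v := by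
  classical
  haveI := Fintype.ofFinite R
  rw [avg_apply, map_nsmul, map_sum]
  congr 1
  exact Fintype.sum_equiv (Equiv.mulLeft (⟨r, hr⟩ : R)) _ _ fun x => (rho_mul ρ r x v).symm

theorem avg_comm (R : Subgroup S) {g : S} (hg : g ∈ Subgroup.normalizer (R : Set S)) (v : E) :
    ρ g (avg ρ R v) = avg ρ R (ρ g v) := by
  classical
  haveI := Fintype.ofFinite R
  rw [avg_apply, avg_apply, map_nsmul, map_sum]
  congr 1
  refine Fintype.sum_equiv
    { toFun := fun x : R => (⟨g * x * g⁻¹, (Subgroup.mem_normalizer_iff.1 hg x).1 x.2⟩ : R)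
      invFun := fun x => ⟨g⁻¹ * x * g, by
        have := (Subgroup.mem_normalizer_iff.1 hg (g⁻¹ * x * g)).2 (by simpa [mul_assoc] using x.2)
        exact this⟩
      left_inv := fun x => Subtype.ext (by simp [mul_assoc])
      right_inv := fun x => Subtype.ext (by simp [mul_assoc]) } _ _ fun x => ?_
  show ρ g (ρ (x : S) v) = ρ (g * x * g⁻¹) (ρ g v)
  rw [← rho_mul, ← rho_mul, inv_mul_cancel_right]

theorem avg_of_fix (R : Subgroup S) (hR : (Nat.card R).Coprime 3) {v : E} (hv : ∀ r ∈ R, ρ r v = v) :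
    avg ρ R v = v := by
  classical
  haveI := Fintype.ofFinite R
  rw [avg_apply, Finset.sum_congr rfl (fun (r : R) _ => hv (r : S) r.2), Finset.sum_const, Finset.card_univ,
    ← Nat.card_eq_fintype_card, ← mul_nsmul']
  refine nat_smul_eq_self ?_ v
  have hn : ¬ 3 ∣ Nat.card R := fun h => by
    have := Nat.dvd_gcd h (dvd_refl 3)
    rw [hR.gcd_eq_one] at this
    norm_num at this
  have : Nat.card R % 3 = 1 ∨ Nat.card R % 3 = 2 := by omega
  rcases this with h | h <;> rw [Nat.mul_mod, h]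

theorem avg_avg (R : Subgroup S) (hR : (Nat.card R).Coprime 3) (v : E) : avg ρ R (avg ρ R v) = avg ρ R v :=
  avg_of_fix ρ R hR fun _ hr => avg_fix ρ R hr

theorem avg_sub_mem (R : Subgroup S) (hR : (Nat.card R).Coprime 3) (N : Submodule (ZMod 3) E) {v : E}
    (h : ∀ r ∈ R, ρ r v - v ∈ N) : avg ρ R v - v ∈ N := by
  classical
  haveI := Fintype.ofFinite R
  have e : avg ρ R v - v = Nat.card R • ∑ r : R, (ρ (r : S) v - v) := by
    rw [avg_apply, Finset.sum_sub_distrib, smul_sub, Finset.sum_const, Finset.card_univ, ← Nat.card_eq_fintype_card,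
      ← mul_nsmul']
    congr 1
    refine (nat_smul_eq_self ?_ v).symm
    have hn : ¬ 3 ∣ Nat.card R := fun h => by
      have := Nat.dvd_gcd h (dvd_refl 3)
      rw [hR.gcd_eq_one] at this
      norm_num at this
    have : Nat.card R % 3 = 1 ∨ Nat.card R % 3 = 2 := by omega
    rcases this with h | h <;> rw [Nat.mul_mod, h]
  rw [e]
  exact nsmul_mem (sum_mem fun (r : R) _ => h (r : S) r.2) _

end General

variable {S : Type*} [Group S] [Finite S] [Group.IsSolvable S] {E : Type*} [AddCommGroup E] [Module (ZMod 3) E] [Finite E]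

/-- The four-group generator inside the commutator of the core. -/
theorem exists_four (B : Subgroup S) {b : S} (hb : Subgroup.zpowers b = B) (hb3 : b ^ 3 = 1)
    (Q : Subgroup S) (hQ : Cfsg.IsElementaryAbelian 2 Q) (hQ4 : Nat.card ↥Q = 4)
    (hBQ : B ≤ Subgroup.normalizer (Q : Set S)) (hBQ' : ¬ B ≤ Subgroup.centralizer (Q : Set S))
    (P : Sylow 3 S) (hBZ : (Subgroup.center ↥(P : Subgroup S)).map (P : Subgroup S).subtype = B) :
    ∃ z ∈ ⁅Cfsg.pPrimeCore 3 S, B⁆, z * z = 1 ∧ b * z * b⁻¹ ≠ z ∧ z * (b * z * b⁻¹) = b * z * b⁻¹ * z ∧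
      b * (b * z * b⁻¹) * b⁻¹ = z * (b * z * b⁻¹) := by
  haveI := fact_three
  haveI : Fact (Nat.Prime 2) := ⟨Nat.prime_two⟩
  haveI := FittingCores.pPrimeCore_normal (G := S) 3
  set K := Cfsg.pPrimeCore 3 S with hK
  have hbB : b ∈ B := hb ▸ Subgroup.mem_zpowers b
  have hbQ : ∀ q ∈ Q, b * q * b⁻¹ ∈ Q := fun q hq => (Subgroup.mem_normalizer_iff.1 (hBQ hbB) q).1 hq
  have hcQ : ∀ q ∈ Q, ∀ q' ∈ Q, q * q' = q' * q := fun q hq q' hq' => by
    haveI := hQ.1
    exact congrArg Subtype.val (mul_comm' (⟨q, hq⟩ : Q) ⟨q', hq'⟩)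
  have hsq : ∀ q ∈ Q, q * q = 1 := fun q hq => by rw [← pow_two]; exact hQ.2 q hq
  set f : S → S := fun x => b * x * b⁻¹ with hf
  have hper : ∀ x, f (f (f x)) = x := fun x => by
    show b * (b * (b * x * b⁻¹) * b⁻¹) * b⁻¹ = x
    have hb3' : b * b * b = 1 := by rw [← pow_two, ← pow_succ]; exact hb3
    calc _ = (b * b * b) * x * (b * b * b)⁻¹ := by simp [mul_assoc]
      _ = x := by rw [hb3']; simp
  have hfmul : ∀ x y, f (x * y) = f x * f y := fun x y => by simp [f, mul_assoc]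
  -- the elements of Q
  have hfour : ∀ z ∈ Q, ∀ w ∈ Q, z ≠ 1 → w ≠ 1 → w ≠ z → ∀ x ∈ Q, x = 1 ∨ x = z ∨ x = w ∨ x = z * w := by
    classical
    intro z hz w hw hz1 hw1 hwz x hx
    haveI := Fintype.ofFinite Q
    let s : Finset Q := {1, ⟨z, hz⟩, ⟨w, hw⟩, ⟨z * w, mul_mem hz hw⟩}
    have hs : s = Finset.univ := by
      refine Finset.eq_univ_of_card _ ?_
      rw [← Nat.card_eq_fintype_card, hQ4]
      have a1 : z * w ≠ 1 := fun h => hwz (by
        have := congrArg (z * ·) h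
        simpa [← mul_assoc, hsq z hz] using this)
      have a2 : z * w ≠ z := fun h => hw1 (mul_eq_left.1 h)
      have a3 : z * w ≠ w := fun h => hz1 (mul_eq_right.1 h)
      simp only [s]
      rw [Finset.card_insert_of_notMem, Finset.card_insert_of_notMem, Finset.card_insert_of_notMem, Finset.card_singleton]
      · simp [Subtype.ext_iff, a3.symm]
      · simp [Subtype.ext_iff, hwz.symm, a2.symm]
      · simp [Subtype.ext_iff, hz1.symm, hw1.symm, a1.symm]
    have : (⟨x, hx⟩ : Q) ∈ s := hs ▸ Finset.mem_univ _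
    simpa [s, Subtype.ext_iff] using this
  have hfree : ∀ z ∈ Q, z ≠ 1 → f z ≠ z := by
    intro z hz hz1 hzf
    apply hBQ'
    rw [← hb, Subgroup.zpowers_le, Subgroup.mem_centralizer_iff]
    intro w hw
    by_contra hne
    have hne' : f w ≠ w := fun h => hne (mul_inv_eq_iff_eq_mul.1 h).symm
    have hw1 : w ≠ 1 := fun h => hne' (by rw [h]; simp [f])
    have hwz : w ≠ z := fun h => hne' (by rw [h]; exact hzf)
    rcases hfour z hz w hw hz1 hw1 hwz (f w) (hbQ w hw) with h | h | h | h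
    · exact hw1 (by rw [← hper w, h]; simp [f])
    · exact hwz (by rw [← hper w, h, hzf, hzf])
    · exact hne' h
    · have h2 : f (f w) = w := by rw [h, hfmul, hzf, h, ← mul_assoc, hsq z hz, one_mul]
      exact hne' (by conv_rhs => rw [← hper w, h2])
  -- the image of b lies in the three-core
  set q := QuotientGroup.mk' K with hq
  have hsurj : Function.Surjective q := QuotientGroup.mk'_surjective K
  haveI : Group.IsSolvable (S ⧸ K) := Group.isSolvable_of_surjective hsurj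
  have hbcore : q b ∈ Cfsg.pCore 3 (S ⧸ K) := by
    refine FittingCores.centralizer_pCore_le Nat.prime_three (FittingCores.pPrimeCore_quotient_eq_bot 3 K rfl) ?_
    rw [Subgroup.mem_centralizer_iff]
    intro x hx
    have hx' : x ∈ ((P.mapSurjective hsurj : Sylow 3 (S ⧸ K)) : Subgroup (S ⧸ K)) := PBasic.pCore_le_sylow _ hx
    rw [Sylow.coe_mapSurjective] at hx'
    obtain ⟨p, hp, rfl⟩ := hx'
    obtain ⟨⟨c, hcP⟩, hc, hcb⟩ := hBZ.symm ▸ hbB
    change c = b at hcb
    subst hcb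
    rw [← map_mul, ← map_mul]
    exact congrArg q (congrArg Subtype.val (Subgroup.mem_center_iff.1 hc ⟨p, hp⟩))
  have hcomK : ∀ x ∈ Q, x * f x ∈ K := by
    intro x hx
    rw [← QuotientGroup.eq_one_iff]
    show q (x * f x) = 1
    have h3 : q (x * f x) ∈ Cfsg.pCore 3 (S ⧸ K) := by
      haveI : (Cfsg.pCore 3 (S ⧸ K)).Normal := FittingCores.pCore_normal 3
      have hx1 : q x⁻¹ = q x := by rw [inv_eq_of_mul_eq_one_right (hsq x hx)]
      have e : q (x * f x) = (q x * q b * (q x)⁻¹) * (q b)⁻¹ := by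
        show q (x * (b * x * b⁻¹)) = _
        rw [← map_inv q x, hx1]
        simp [mul_assoc]
      rw [e]
      exact mul_mem (Subgroup.Normal.conj_mem inferInstance _ hbcore _) (inv_mem hbcore)
    have h2 : q (x * f x) ^ 2 = 1 := by rw [← map_pow, hQ.2 _ (mul_mem hx (hbQ x hx)), map_one]
    obtain ⟨k, hk⟩ := FittingCores.pCore_isPGroup (G := S ⧸ K) 3 ⟨_, h3⟩
    have := pow_gcd_eq_one.2 ⟨h2, (congrArg Subtype.val hk : q (x * f x) ^ 3 ^ k = 1)⟩
    rwa [(Nat.Coprime.pow_right k (by norm_num : Nat.Coprime 2 3)).gcd_eq_one, pow_one] at this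
  have hne1 : ∀ x ∈ Q, x ≠ 1 → x * f x ≠ 1 := fun x hx hx1 h =>
    hfree x hx hx1 ((eq_inv_of_mul_eq_one_right h).trans (inv_eq_of_mul_eq_one_right (hsq x hx)))
  obtain ⟨x, hx, hx1⟩ : ∃ x ∈ Q, x ≠ 1 := by
    by_contra hno
    push Not at hno
    rw [(Subgroup.eq_bot_iff_forall _).2 hno, Subgroup.card_bot] at hQ4
    norm_num at hQ4
  set w := x * f x with hwdef
  have hwQ : w ∈ Q := mul_mem hx (hbQ x hx)
  have hw1 : w ≠ 1 := hne1 x hx hx1
  set z := w * f w with hzdef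
  have hzQ : z ∈ Q := mul_mem hwQ (hbQ w hwQ)
  have hz1 : z ≠ 1 := hne1 w hwQ hw1
  refine ⟨z, ?_, hsq z hzQ, hfree z hzQ hz1, hcQ z hzQ _ (hbQ z hzQ), ?_⟩
  · have e : z = ⁅w, b⁆ := by
      rw [hzdef, commutatorElement_def]
      show w * (b * w * b⁻¹) = _
      rw [inv_eq_of_mul_eq_one_right (hsq w hwQ)]
      simp [mul_assoc]
    rw [e]
    exact Subgroup.commutator_mem_commutator (hcomK x hx) hbB
  · show f (f z) = z * f z
    rcases hfour z hzQ (f z) (hbQ z hzQ) hz1 (fun h => hz1 (by rw [← hper z, h]; simp [f]))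
      (hfree z hzQ hz1) (f (f z)) (hbQ _ (hbQ z hzQ)) with h | h | h | h
    · exact absurd (by rw [← hper z, h]; simp [f]) hz1
    · have h' := congrArg f h
      rw [hper] at h'
      exact absurd h'.symm (hfree z hzQ hz1)
    · exact absurd h (hfree _ (hbQ z hzQ) (fun h' => hz1 (by rw [← hper z, h']; simp [f])))
    · exact h

end Cfsg.Agent.CubicThree

namespace Cfsg.Agent.S4415

/-- Let S be a finite solvable group acting faithfully on a finite-dimensional space E over the field with three elements, with O₃(S) = 1. Let B ≤ S have order 3 and suppose: E = E₀ ⊕ E₁ with B fixing E₁ pointwise, E₀ B-invariant of order 27 and indecomposable under B (a generator of B has a single Jordan block on E₀); B normalizes but does not centralize some subgroup Q of S that is elementary abelian of order 4; and B is the centre of a Sylow 3-subgroup of S. Put R = [O_{3'}(S), B]. Then R is elementary abelian of order 4 or extraspecial of order 32 containing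 an elementary abelian subgroup of order 8 (a central product of two quaternion groups), and E is the direct sum of a subspace fixed pointwise by R and an RB-invariant subspace on which the subgroup RB acts faithfully and irreducibly. -/
theorem result {S : Type*} [Group S] [Finite S]
    [Group.IsSolvable S] {E : Type*} [AddCommGroup E] [Module (ZMod 3) E] [Finite E] (ρ : Representation (ZMod 3) S E)
    (hfaith : Function.Injective ρ) (hO3 : Cfsg.pCore 3 S = ⊥)
    (B : Subgroup S) (hB : Nat.card ↥B = 3) (b : S) (hb : Subgroup.zpowers b = B)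
    (E₀ E₁ : Submodule (ZMod 3) E) (hE01 : E₀ ⊓ E₁ = ⊥) (hE01' : E₀ ⊔ E₁ = ⊤)
    (hE1 : ∀ v ∈ E₁, ρ b v = v) (hE0inv : ∀ v ∈ E₀, ρ b v ∈ E₀) (hE0 : Nat.card ↥E₀ = 27)
    (hind : ∃ v ∈ E₀, ρ b (ρ b v - v) - (ρ b v - v) ≠ 0)
    (Q : Subgroup S) (hQ : Cfsg.IsElementaryAbelian 2 Q) (hQ4 : Nat.card ↥Q = 4)
    (hBQ : B ≤ Subgroup.normalizer (Q : Set S)) (hBQ' : ¬ B ≤ Subgroup.centralizer (Q : Set S))
    (P : Sylow 3 S) (hBZ : (Subgroup.center ↥(P : Subgroup S)).map (P : Subgroup S).subtype = B) :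
    ((Cfsg.IsElementaryAbelian 2 ⁅Cfsg.pPrimeCore 3 S, B⁆ ∧ Nat.card ↥⁅Cfsg.pPrimeCore 3 S, B⁆ = 4) ∨
      (Cfsg.IsExtraspecial 2 ↥⁅Cfsg.pPrimeCore 3 S, B⁆ ∧ Nat.card ↥⁅Cfsg.pPrimeCore 3 S, B⁆ = 32 ∧
        ∃ A : Subgroup S, A ≤ ⁅Cfsg.pPrimeCore 3 S, B⁆ ∧ Cfsg.IsElementaryAbelian 2 A ∧ Nat.card ↥A = 8)) ∧
    ∃ F₀ F₁ : Submodule (ZMod 3) E, F₀ ⊓ F₁ = ⊥ ∧ F₀ ⊔ F₁ = ⊤ ∧
      (∀ r ∈ ⁅Cfsg.pPrimeCore 3 S, B⁆, ∀ v ∈ F₁, ρ r v = v) ∧ (∀ r ∈ ⁅Cfsg.pPrimeCore 3 S, B⁆ ⊔ B, ∀ v ∈ F₀, ρ r v ∈ F₀) ∧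
      (∀ r ∈ ⁅Cfsg.pPrimeCore 3 S, B⁆ ⊔ B, (∀ v ∈ F₀, ρ r v = v) → r = 1) ∧
      (∀ N : Submodule (ZMod 3) E, N ≤ F₀ → (∀ r ∈ ⁅Cfsg.pPrimeCore 3 S, B⁆ ⊔ B, ∀ v ∈ N, ρ r v ∈ N) → N = ⊥ ∨ N = F₀) := by
  haveI := CubicThree.fact_three
  haveI : Module.Finite (ZMod 3) E := Module.Finite.of_finite
  haveI := FittingCores.pPrimeCore_normal (G := S) 3
  set K := Cfsg.pPrimeCore 3 S with hK
  have hb3 : b ^ 3 = 1 := by
    rw [← hB, ← hb, Nat.card_zpowers]; exact pow_orderOf_eq_one b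
  set R := ⁅K, B⁆ with hRdef
  have hRK : R ≤ K := Subgroup.commutator_le_left K B
  have hBK : B ≤ Subgroup.normalizer (K : Set S) := Subgroup.le_normalizer_of_normal
  have hKcop : (Nat.card K).Coprime 3 := PBasic.pPrimeCore_coprime 3 S
  have hRcop : (Nat.card R).Coprime 3 := hKcop.coprime_dvd_left (Subgroup.card_dvd_of_le hRK)
  have hRB : ⁅R, B⁆ = R := CoprimeAct.commutator_commutator hBK (by rw [hB]; exact hKcop.symm) (Or.inr inferInstance)
  have hBR : B ≤ Subgroup.normalizer (R : Set S) := Subgroup.normalizer_commutator_ge_right K B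
  set H := R ⊔ B with hHdef
  have hHR : H ≤ Subgroup.normalizer (R : Set S) := sup_le Subgroup.le_normalizer hBR
  have hRH : R ≤ H := le_sup_left
  have hbH : b ∈ H := Subgroup.mem_sup_right (hb ▸ Subgroup.mem_zpowers b : b ∈ B)
  obtain ⟨z, hzR, hz2, hbz, hzc, hbz2⟩ := CubicThree.exists_four B hb hb3 Q hQ hQ4 hBQ hBQ' P hBZ
  set A := CubicThree.avg ρ R with hA
  set F₀ := LinearMap.ker A with hF0
  set F₁ := LinearMap.range A with hF1
  have hfix1 : ∀ r ∈ R, ∀ v ∈ F₁, ρ r v = v := by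
    rintro r hr _ ⟨v, rfl⟩
    exact CubicThree.avg_fix ρ R hr
  have hinv0 : ∀ g ∈ H, ∀ v ∈ F₀, ρ g v ∈ F₀ := fun g hg v hv => by
    rw [hF0, LinearMap.mem_ker] at hv ⊢
    rw [hA, ← CubicThree.avg_comm ρ R (hHR hg), ← hA, hv, map_zero]
  have hdec : F₀ ⊓ F₁ = ⊥ := by
    rw [Submodule.eq_bot_iff]
    rintro _ ⟨hv, v, rfl⟩
    rw [← CubicThree.avg_avg ρ R hRcop v]
    exact hv
  have hdec' : F₀ ⊔ F₁ = ⊤ := by
    rw [eq_top_iff]
    intro v _
    rw [← sub_add_cancel v (A v)]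
    refine Submodule.add_mem_sup ?_ ⟨v, rfl⟩
    rw [hF0, LinearMap.mem_ker, map_sub, hA, CubicThree.avg_avg ρ R hRcop, sub_self]
  have hfaith0 : ∀ r ∈ R, (∀ v ∈ F₀, ρ r v = v) → r = 1 := fun r hr h => by
    refine hfaith (LinearMap.ext fun v => ?_)
    obtain ⟨v0, h0, v1, h1, rfl⟩ := Submodule.mem_sup.1 (show v ∈ F₀ ⊔ F₁ from hdec' ▸ trivial)
    rw [map_add, h v0 h0, hfix1 r hr v1 h1, map_one]; rfl
  let σ : Representation (ZMod 3) H F₀ :=
    { toFun := fun g => (ρ (g : S)).restrict (hinv0 g g.2)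
      map_one' := LinearMap.ext fun v => Subtype.ext (show ρ ((1 : H) : S) (v : E) = v by rw [OneMemClass.coe_one, map_one]; rfl)
      map_mul' := fun g h => LinearMap.ext fun v => Subtype.ext (CubicThree.rho_mul ρ (g : S) h v) }
  have hσ : ∀ (g : H) (v : F₀), ((σ g v : F₀) : E) = ρ (g : S) v := fun _ _ => rfl
  set R' := R.subgroupOf H with hR'
  set b' : H := ⟨b, hbH⟩ with hb'
  have hrank : Module.finrank (ZMod 3) (CubicThree.comSpace σ b') ≤ 2 := by
    refine le_trans ?_ (CubicThree.rank_block ρ E₀ E₁ hE01' hb3 hE1 hE0inv hE0)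
    rw [← LinearEquiv.finrank_eq (Submodule.equivMapOfInjective F₀.subtype F₀.injective_subtype (CubicThree.comSpace σ b')).symm]
    refine Submodule.finrank_mono ?_
    rintro _ ⟨_, ⟨v, rfl⟩, rfl⟩
    exact CubicThree.mem_comSpace ρ b v
  let C0 : CubicThree.Cfg H F₀ :=
    { ρ := σ
      R := R'
      b := b'
      z := ⟨z, hRH hzR⟩
      faith := fun r hr h => Subtype.ext (hfaith0 _ hr fun v hv =>
        congrArg (fun T : Module.End (ZMod 3) F₀ => ((T ⟨v, hv⟩ : F₀) : E)) h)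
      hRb := fun r hr => (Subgroup.mem_normalizer_iff.1 (hHR hbH) _).1 hr
      hRcop := by rw [hR', Nat.card_congr (Subgroup.subgroupOfEquivOfLe hRH).toEquiv]; exact hRcop
      hb3 := Subtype.ext hb3
      hzR := hzR
      hz2 := Subtype.ext hz2
      hbz := fun h => hbz (congrArg Subtype.val h)
      hcomm := Subtype.ext hzc
      hbz2 := Subtype.ext hbz2
      rank := hrank }
  have hgen : R' ⊔ Subgroup.zpowers b' = ⊤ := by
    apply Subgroup.map_injective H.subtype_injective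
    rw [Subgroup.map_sup, hR', Subgroup.map_subgroupOf_eq_of_le hRH, MonoidHom.map_zpowers,
      ← MonoidHom.range_eq_map, Subgroup.range_subtype]
    show R ⊔ Subgroup.zpowers b = H
    rw [hb]
  have hRB' : ⁅R', Subgroup.zpowers b'⁆ = R' := by
    apply Subgroup.map_injective H.subtype_injective
    rw [Subgroup.map_commutator, hR', Subgroup.map_subgroupOf_eq_of_le hRH, MonoidHom.map_zpowers]
    show ⁅R, Subgroup.zpowers b⁆ = R
    rw [hb, hRB]
  have hirr : ∀ N : Submodule (ZMod 3) F₀, (∀ g : H, ∀ v ∈ N, σ g v ∈ N) → N = ⊥ ∨ N = ⊤ := by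
    intro N hN
    have hstab : ∀ (M : Submodule (ZMod 3) F₀) (X : Submodule (ZMod 3) F₀) (hX : ∀ g : H, ∀ v ∈ X, σ g v ∈ X),
        (∀ g : H, ∀ v ∈ M, σ g v ∈ M) → b' ∈ CubicThree.stabMod σ M X hX →
        ∀ r (hr : r ∈ R), ∀ v ∈ X, σ ⟨r, hRH hr⟩ v - v ∈ M := by
      intro M X hX hM hbM r hr v hv
      have h := CubicThree.commutator_le_stabMod σ M X hX hM hbM R'
      rw [hRB'] at h
      exact h (show (⟨r, hRH hr⟩ : H) ∈ R' from hr) v hv
    by_cases hU : N ⊓ C0.U = ⊥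
    · left
      rw [Submodule.eq_bot_iff]
      intro v hv
      have hbN : b' ∈ CubicThree.stabMod σ ⊥ N hN := fun u hu => by
        rw [Submodule.mem_bot, ← Submodule.mem_bot (ZMod 3), ← hU]
        exact ⟨sub_mem (hN _ u hu) hu, C0.finrank_facts.2.2.2 (CubicThree.mem_comSpace σ b' u)⟩
      have hRv : ∀ r ∈ R, ρ r (v : E) = v := fun r hr => by
        have := hstab ⊥ N hN (fun g u hu => by rw [Submodule.mem_bot] at hu ⊢; rw [hu, map_zero]) hbN r hr v hv
        rw [Submodule.mem_bot, sub_eq_zero] at this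
        exact congrArg Subtype.val this
      refine Subtype.ext ((CubicThree.avg_of_fix ρ R hRcop hRv).symm.trans ?_)
      exact LinearMap.mem_ker.1 v.2
    · right
      obtain ⟨h11, hnn⟩ := CubicThree.zmod3_sign
      obtain ⟨l1, l2, l3, hcomU⟩ := C0.finrank_facts
      have hPN : ∀ s t, ∀ v ∈ N, C0.P s t v ∈ N := fun s t v hv => by
        rw [C0.P_apply]
        exact add_mem (add_mem (add_mem hv (N.smul_mem _ (hN _ v hv))) (N.smul_mem _ (hN _ v hv)))
          (N.smul_mem _ (hN _ v hv))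
      have hline : ∀ s t, Module.finrank (ZMod 3) (C0.L s t) = 1 → ∀ w ∈ C0.L s t, w ∈ N → w ≠ 0 → C0.L s t ≤ N := by
        intro s t h1 w hw hwN hw0 v hv
        obtain ⟨a, ha⟩ := (finrank_eq_one_iff_of_nonzero' (⟨w, hw⟩ : C0.L s t)
          (fun h => hw0 (congrArg Subtype.val h))).1 h1 ⟨v, hv⟩
        rw [show v = a • w from (congrArg Subtype.val ha).symm]
        exact N.smul_mem _ hwN
      have step : ∀ s t s' t', s' = s * t → t' = s → Module.finrank (ZMod 3) (C0.L s t) = 1 →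
          Module.finrank (ZMod 3) (C0.L s' t') = 1 → C0.L s t ≤ N → C0.L s' t' ≤ N := by
        rintro s t s' t' rfl rfl h1 h2 hle
        obtain ⟨⟨w, hw⟩, hw0, -⟩ := finrank_eq_one_iff'.1 h1
        refine hline _ _ h2 (σ b' w) (C0.b_L hw) (hN _ w (hle hw)) fun h => hw0 (Subtype.ext ?_)
        show w = 0
        rw [← CubicThree.rho_inv σ b' w, h, map_zero]
      have s12 := step 1 (-1) (-1) 1 (one_mul _).symm rfl l1 l2
      have s23 := step (-1) 1 (-1) (-1) (mul_one _).symm rfl l2 l3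
      have s31 := step (-1) (-1) 1 (-1) hnn.symm rfl l3 l1
      obtain ⟨v, ⟨hvN, hvU⟩, hv0⟩ := (Submodule.ne_bot_iff _).1 hU
      have h00 : C0.P 1 1 v = 0 := by
        have key : C0.U ≤ LinearMap.ker (C0.P 1 1) := by
          refine sup_le (sup_le ?_ ?_) ?_ <;> intro u hu <;> rw [LinearMap.mem_ker]
          · exact C0.P_other h11 h11 h11 hnn (by decide) hu
          · exact C0.P_other h11 h11 hnn h11 (by decide) hu
          · exact C0.P_other h11 h11 hnn hnn (by decide) hu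
        exact key hvU
      have hsum := C0.P_sum v
      rw [h00, zero_add] at hsum
      have hUN : C0.U ≤ N := by
        by_cases a1 : C0.P 1 (-1) v = 0
        · by_cases a2 : C0.P (-1) 1 v = 0
          · rw [a1, a2, add_zero, zero_add] at hsum
            have h3 := hline _ _ l3 _ (C0.P_mem hnn hnn v) (hPN _ _ v hvN) (by rw [hsum]; exact hv0)
            exact sup_le (sup_le (s31 h3) (s12 (s31 h3))) h3
          · have h2 := hline _ _ l2 _ (C0.P_mem hnn h11 v) (hPN _ _ v hvN) a2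
            exact sup_le (sup_le (s31 (s23 h2)) h2) (s23 h2)
        · have h1 := hline _ _ l1 _ (C0.P_mem h11 hnn v) (hPN _ _ v hvN) a1
          exact sup_le (sup_le h1 (s12 h1)) (s23 (s12 h1))
      rw [eq_top_iff]
      intro w _
      have hbN : b' ∈ CubicThree.stabMod σ N ⊤ (fun _ _ _ => trivial) := fun u _ =>
        hUN (hcomU (CubicThree.mem_comSpace σ b' u))
      have hRw : ∀ r ∈ R, ρ r (w : E) - w ∈ N.map F₀.subtype := fun r hr =>
        ⟨_, hstab N ⊤ _ hN hbN r hr w trivial, rfl⟩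
      have := CubicThree.avg_sub_mem ρ R hRcop _ hRw
      rw [show CubicThree.avg ρ R (w : E) = 0 from LinearMap.mem_ker.1 w.2, zero_sub, neg_mem_iff] at this
      obtain ⟨u, hu, huw⟩ := this
      rw [← show u = w from Subtype.ext huw]
      exact hu
  let C : CubicThree.Act H F₀ :=
    { C0 with
      normal := by
        rw [show C0.R = R.subgroupOf H from rfl]
        exact Subgroup.normal_subgroupOf_of_le_normalizer hHR
      gen := hgen
      solv := inferInstance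
      hRB := hRB'
      irr := hirr }
  have e : R' ≃* R := Subgroup.subgroupOfEquivOfLe hRH
  refine ⟨?_, F₀, F₁, hdec, hdec', hfix1, hinv0, ?_, ?_⟩
  · have hcard : Nat.card R' = Nat.card R := Nat.card_congr e.toEquiv
    rcases C.shape with ⟨⟨hc, hsq⟩, h4⟩ | ⟨hex, h32, D, hDR, ⟨hDc, hD2⟩, hD8⟩
    · refine Or.inl ⟨⟨⟨⟨fun u v => Subtype.ext ?_⟩⟩, fun u hu => ?_⟩, hcard ▸ h4⟩
      · have := congrArg (fun g : C.R => ((g : H) : S))
          (hc.1.comm (⟨⟨u, hRH u.2⟩, u.2⟩ : C.R) ⟨⟨v, hRH v.2⟩, v.2⟩)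
        exact this
      · exact congrArg Subtype.val (hsq ⟨u, hRH hu⟩ hu)
    · refine Or.inr ⟨Qd.isExtraspecial_congr e.symm hex, hcard ▸ h32, D.map H.subtype, ?_, ⟨⟨⟨?_⟩⟩, ?_⟩, ?_⟩
      · rintro _ ⟨x, hx, rfl⟩; exact hDR hx
      · rintro ⟨_, x, hx, rfl⟩ ⟨_, y, hy, rfl⟩
        exact Subtype.ext (congrArg (fun g : D => ((g : H) : S)) (hDc.1.comm ⟨x, hx⟩ ⟨y, hy⟩))
      · rintro _ ⟨x, hx, rfl⟩; exact congrArg Subtype.val (hD2 x hx)
      · rw [Subgroup.card_map_of_injective H.subtype_injective, hD8]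
  · intro g hg h
    haveI := C.normal
    haveI : Fact (Nat.Prime 3) := ⟨Nat.prime_three⟩
    let Kσ := MonoidHom.ker σ
    have hKσ : IsPGroup 3 Kσ := fun x => ⟨1, by
      refine Subtype.ext ?_
      rw [SubgroupClass.coe_pow, OneMemClass.coe_one, pow_one]
      refine C.faith _ ?_ (by show σ ((x : H) ^ 3) = 1; rw [map_pow, show σ (x : H) = 1 from x.2, one_pow])
      rw [← QuotientGroup.eq_one_iff, QuotientGroup.mk_pow, ← orderOf_dvd_iff_pow_eq_one]
      refine (orderOf_dvd_natCard _).trans ?_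
      rw [← Subgroup.index_eq_card]
      exact C.index_dvd⟩
    have hle : Kσ ≤ Cfsg.pCore 3 H := FittingCores.le_pCore inferInstance hKσ
    rw [C.pCore_three] at hle
    have hg1 : (⟨g, hg⟩ : H) ∈ Kσ := LinearMap.ext fun v => Subtype.ext (h v v.2)
    exact congrArg Subtype.val (Subgroup.mem_bot.1 (hle hg1))
  · intro N hNF hN
    rcases hirr (N.comap F₀.subtype) (fun g v hv => hN g g.2 v hv) with h | h
    · left
      rw [Submodule.eq_bot_iff]
      intro v hv
      have : (⟨v, hNF hv⟩ : F₀) ∈ N.comap F₀.subtype := hv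
      rw [h, Submodule.mem_bot] at this
      exact congrArg Subtype.val this
    · right
      refine le_antisymm hNF fun v hv => ?_
      have : (⟨v, hv⟩ : F₀) ∈ N.comap F₀.subtype := h ▸ trivial
      exact this

end Cfsg.Agent.S4415
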