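import Cfsg.Statements.S4416
import Cfsg.Agent.Lib.Extraspecial.NonSplit

set_option autoImplicit false
set_option linter.style.haveILetI false
open Cfsg

namespace Cfsg.Agent.S4416

open Cfsg.Agent.XNonSplit

universe u v

/-- An extraspecial 2-group or a group of order two, with its central element. -/
structure XS {E : Type u} [Group E] (z : E) : Prop where
  setup : Setup z
  centre : ∀ a : E, (∀ b : E, a * b = b * a) → a = 1 ∨ a = z

variable {E : Type u} [Group E]

/-- `x ^ a * y ^ b`. -/
def word (x y : E) (a b : Bool) : E := (if a then x else 1) * (if b then y else 1)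

/-- The centralizer of the pair. -/
def cpair (x y : E) : Subgroup E := Subgroup.centralizer ({x, y} : Set E)

theorem mem_cpair {x y c : E} : c ∈ cpair x y ↔ c * x = x * c ∧ c * y = y * c := by
  rw [cpair, Subgroup.mem_centralizer_iff]
  constructor
  · exact fun h => ⟨(h x (by simp)).symm, (h y (by simp)).symm⟩
  · rintro ⟨h1, h2⟩ g (rfl | rfl)
    exacts [h1.symm, h2.symm]

theorem not_comm_word_left {z x y : E} (h : XS z) (hxy : x * y ≠ y * x) {a b : Bool} :
    word x y a b * x = x * word x y a b ↔ b = false := by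
  rcases a with _ | _ <;> rcases b with _ | _ <;> simp [word]
  · exact fun e => hxy e.symm
  · intro e
    rw [mul_assoc] at e
    exact hxy (mul_left_cancel e).symm

theorem not_comm_word_right {z x y : E} (h : XS z) (hxy : x * y ≠ y * x) {a b : Bool} :
    word x y a b * y = y * word x y a b ↔ a = false := by
  rcases a with _ | _ <;> rcases b with _ | _ <;> simp [word]
  · exact hxy
  · intro e
    rw [← mul_assoc] at e
    exact hxy (mul_right_cancel e)

theorem decomposition {z x y : E} (h : XS z) (hxy : x * y ≠ y * x) :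
    Function.Bijective (fun q : (Bool × Bool) × cpair x y => word x y q.1.1 q.1.2 * (q.2 : E)) := by
  classical
  constructor
  · rintro ⟨⟨a, b⟩, c⟩ ⟨⟨a', b'⟩, c'⟩ e
    change word x y a b * (c : E) = word x y a' b' * (c' : E) at e
    obtain ⟨hcx, hcy⟩ := mem_cpair.1 c.2
    obtain ⟨hcx', hcy'⟩ := mem_cpair.1 c'.2
    have key : ∀ {t d w : E}, d * t = t * d → (w * d * t = t * (w * d) ↔ w * t = t * w) := by
      intro t d w hd
      rw [mul_assoc, hd, ← mul_assoc, ← mul_assoc, mul_left_inj]
    have hb : b = b' := by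
      have h1 := (key (w := word x y a b) hcx).trans (not_comm_word_left h hxy)
      have h2 := (key (w := word x y a' b') hcx').trans (not_comm_word_left h hxy)
      rw [e, h2] at h1
      cases b <;> cases b' <;> simp_all
    have ha : a = a' := by
      have h1 := (key (w := word x y a b) hcy).trans (not_comm_word_right h hxy)
      have h2 := (key (w := word x y a' b') hcy').trans (not_comm_word_right h hxy)
      rw [e, h2] at h1
      cases a <;> cases a' <;> simp_all
    subst ha hb
    exact Prod.ext rfl (Subtype.ext (mul_left_cancel e))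
  · intro g
    let a : Bool := decide (g * y ≠ y * g)
    let b : Bool := decide (g * x ≠ x * g)
    refine ⟨((a, b), ⟨(word x y a b)⁻¹ * g, mem_cpair.2 ⟨?_, ?_⟩⟩), mul_inv_cancel_left _ _⟩
    · by_cases hg : g * x = x * g
      · have hw := (not_comm_word_left h hxy (a := a) (b := b)).2 (by simp [b, hg])
        exact ((show Commute (word x y a b) x from hw).inv_left.mul_left hg).eq
      · have hw : ¬ word x y a b * x = x * word x y a b := fun e => by
          have := (not_comm_word_left h hxy).1 e
          simp [b, hg] at this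
        refine h.setup.comm_mul (fun e => hw ?_) hg
        exact (Commute.inv_left_iff.1 (show Commute (word x y a b)⁻¹ x from e)).eq
    · by_cases hg : g * y = y * g
      · have hw := (not_comm_word_right h hxy (a := a) (b := b)).2 (by simp [a, hg])
        exact ((show Commute (word x y a b) y from hw).inv_left.mul_left hg).eq
      · have hw : ¬ word x y a b * y = y * word x y a b := fun e => by
          have := (not_comm_word_right h hxy).1 e
          simp [a, hg] at this
        refine h.setup.comm_mul (fun e => hw ?_) hg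
        exact (Commute.inv_left_iff.1 (show Commute (word x y a b)⁻¹ y from e)).eq

theorem card_eq {z x y : E} (h : XS z) (hxy : x * y ≠ y * x) :
    Nat.card E = 4 * Nat.card (cpair x y) := by
  rw [← Nat.card_eq_of_bijective _ (decomposition h hxy), Nat.card_prod, Nat.card_prod,
    Nat.card_eq_fintype_card, Fintype.card_bool]

theorem z_mem {z : E} (h : XS z) (x y : E) : z ∈ cpair x y :=
  mem_cpair.2 ⟨h.setup.central x, h.setup.central y⟩

theorem xs_cpair {z x y : E} (h : XS z) (hxy : x * y ≠ y * x) :
    XS (⟨z, z_mem h x y⟩ : cpair x y) := by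
  refine ⟨⟨fun e => h.setup.one_ne (congrArg Subtype.val e), Subtype.ext h.setup.sq,
    fun c => Subtype.ext (h.setup.central c), fun c d => ?_, fun c => ?_⟩, fun c hc => ?_⟩
  · exact (h.setup.comm c d).imp (fun e => Subtype.ext e) fun e => Subtype.ext e
  · exact (h.setup.square c).imp (fun e => Subtype.ext e) fun e => Subtype.ext e
  · refine (h.centre (c : E) fun g => ?_).imp (fun e => Subtype.ext e) fun e => Subtype.ext e
    obtain ⟨⟨⟨a, b⟩, d⟩, rfl⟩ := (decomposition h hxy).2 g
    obtain ⟨hcx, hcy⟩ := mem_cpair.1 c.2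
    have hd : Commute (c : E) (d : E) := congrArg Subtype.val (hc d)
    have hw : Commute (c : E) (word x y a b) := by
      rcases a with _ | _ <;> rcases b with _ | _ <;> simp only [word, ite_true, ite_false, if_true,
        Bool.false_eq_true, one_mul, mul_one]
      · exact Commute.one_right _
      · exact hcy
      · exact hcx
      · exact (show Commute (c : E) x from hcx).mul_right hcy
    exact (hw.mul_right hd).eq

theorem comm_of_pairwise {z : E} (h : XS z) (hc : ∀ a b : E, a * b = b * a) (g : E) :
    g = 1 ∨ g = z := h.centre g (hc g)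

theorem card_two {z : E} (h : XS z) (hc : ∀ a b : E, a * b = b * a) : Nat.card E = 2 := by
  rw [Nat.card_eq_two_iff' (1 : E)]
  exact ⟨z, h.setup.one_ne, fun g hg => (h.centre g (hc g)).resolve_left hg⟩

theorem comm_of_card_two [Finite E] (hc : Nat.card E = 2) (a b : E) : a * b = b * a := by
  haveI : Fact (Nat.Prime 2) := ⟨Nat.prime_two⟩
  haveI : IsCyclic E := isCyclic_of_prime_card hc
  exact (IsCyclic.commGroup (α := E)).mul_comm a b

theorem xy_sq {z x y : E} (h : XS z) (hxy : x * y ≠ y * x) :
    x * y * (x * y) = (x * x) * (y * y) * z := by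
  have hyx : y * x = x * y * z := by
    rw [h.setup.not_comm hxy, mul_assoc, h.setup.sq, mul_one]
  calc x * y * (x * y) = x * (y * x) * y := by simp only [mul_assoc]
    _ = x * (x * y * z) * y := by rw [hyx]
    _ = (x * x) * (y * (z * y)) := by simp only [mul_assoc]
    _ = _ := by rw [h.setup.central y]; simp only [mul_assoc]

/-- Noncommuting involutions, or the quaternion group. -/
theorem dichotomy [Finite E] {z : E} (h : XS z) {x y : E} (hxy : x * y ≠ y * x) :
    (∃ x' y' : E, x' * y' ≠ y' * x' ∧ x' * x' = 1 ∧ y' * y' = 1) ∨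
      (Nat.card (cpair x y) = 2 ∧ x * x = z ∧ y * y = z) := by
  classical
  by_cases hbig : ∀ a b : cpair x y, a * b = b * a
  · by_cases hpair : ∃ x' y' : E, x' * y' ≠ y' * x' ∧ x' * x' = 1 ∧ y' * y' = 1
    · exact Or.inl hpair
    push Not at hpair
    refine Or.inr ⟨card_two (xs_cpair h hxy) hbig, ?_, ?_⟩
    · refine (h.setup.square x).resolve_left fun hx => ?_
      have hy := (h.setup.square y).resolve_left (hpair x y hxy hx)
      refine hpair x (x * y) (fun e => hxy (mul_left_cancel (a := x) ?_)) hx ?_
      · rw [e, mul_assoc]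
      · rw [xy_sq h hxy, hx, hy, one_mul, h.setup.sq]
    · refine (h.setup.square y).resolve_left fun hy => ?_
      have hx := (h.setup.square x).resolve_left fun hx => hpair x y hxy hx hy
      refine hpair (x * y) y (fun e => hxy (mul_right_cancel (b := y) ?_)) ?_ hy
      · rw [e, ← mul_assoc]
      · rw [xy_sq h hxy, hx, hy, mul_one, h.setup.sq]
  · left
    obtain ⟨c, hc⟩ : ∃ c : cpair x y, (c : E) * c = z := by
      by_contra hno
      push Not at hno hbig
      obtain ⟨a, b, hab⟩ := hbig
      have hsq : ∀ c : cpair x y, c * c = 1 := fun c =>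
        Subtype.ext ((h.setup.square c).resolve_right (hno c))
      have hi : ∀ c : cpair x y, c⁻¹ = c := fun c => inv_eq_of_mul_eq_one_right (hsq c)
      refine hab ?_
      calc a * b = (a * b)⁻¹ := (hi _).symm
        _ = b * a := by rw [mul_inv_rev, hi, hi]
    obtain ⟨hcx, hcy⟩ := mem_cpair.1 c.2
    have fix : ∀ {u : E}, (c : E) * u = u * c → u * u = z → u * c * (u * c) = 1 := by
      intro u hu huu
      calc u * c * (u * c) = u * ((c : E) * u) * c := by simp only [mul_assoc]
        _ = u * u * ((c : E) * c) := by rw [hu]; simp only [mul_assoc]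
        _ = 1 := by rw [huu, hc, h.setup.sq]
    rcases h.setup.square x with hx | hx <;> rcases h.setup.square y with hy | hy
    · exact ⟨x, y, hxy, hx, hy⟩
    · refine ⟨x, y * c, fun e => hxy ?_, hx, fix hcy hy⟩
      rw [← mul_assoc, mul_assoc y (c : E) x, hcx, ← mul_assoc] at e
      exact mul_right_cancel e
    · refine ⟨x * c, y, fun e => hxy ?_, fix hcx hx, hy⟩
      rw [mul_assoc, hcy, ← mul_assoc, ← mul_assoc] at e
      exact mul_right_cancel e
    · refine ⟨x * c, y * c, fun e => hxy ?_, fix hcx hx, fix hcy hy⟩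
      have e1 : x * c * (y * c) = x * y * ((c : E) * c) := by
        rw [mul_assoc, ← mul_assoc (c : E) y, hcy]; simp only [mul_assoc]
      have e2 : y * c * (x * c) = y * x * ((c : E) * c) := by
        rw [mul_assoc, ← mul_assoc (c : E) x, hcx]; simp only [mul_assoc]
      rw [e1, e2] at e
      exact mul_right_cancel e

theorem word_mul {z x y : E} (h : XS z) (hxy : x * y ≠ y * x) (a b a' b' : Bool) :
    word x y a b * word x y a' b' = word x y (xor a a') (xor b b') *
      ((if b && a' then z else 1) * (if a && a' then x * x else 1) *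
        (if b && b' then y * y else 1)) := by
  have hyx : y * x = x * y * z := by
    rw [h.setup.not_comm hxy, mul_assoc, h.setup.sq, mul_one]
  have hcen : ∀ {k : E}, (k = 1 ∨ k = z) → ∀ g : E, k * g = g * k := by
    rintro k (rfl | rfl) g
    · rw [one_mul, mul_one]
    · exact h.setup.central g
  let X : Bool → E := fun t => if t then x else 1
  let Y : Bool → E := fun t => if t then y else 1
  let K : E := if b && a' then z else 1
  let SX : E := if a && a' then x * x else 1
  let SY : E := if b && b' then y * y else 1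
  have hswap : Y b * X a' = X a' * Y b * K := by
    rcases b with _ | _ <;> rcases a' with _ | _ <;> simp [X, Y, K, hyx]
  have hX : X a * X a' = X (xor a a') * SX := by
    rcases a with _ | _ <;> rcases a' with _ | _ <;> simp [X, SX]
  have hY : Y b * Y b' = Y (xor b b') * SY := by
    rcases b with _ | _ <;> rcases b' with _ | _ <;> simp [Y, SY]
  have hK : ∀ g : E, K * g = g * K := hcen (by cases e : (b && a') <;> simp [K, e])
  have hSX : ∀ g : E, SX * g = g * SX := hcen (by
    cases e : (a && a')
    · exact Or.inl (by simp [SX, e])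
    · simpa [SX, e] using h.setup.square x)
  show X a * Y b * (X a' * Y b') = X (xor a a') * Y (xor b b') * (K * SX * SY)
  calc X a * Y b * (X a' * Y b') = X a * (Y b * X a') * Y b' := by simp only [mul_assoc]
    _ = X a * X a' * (Y b * (K * Y b')) := by rw [hswap]; simp only [mul_assoc]
    _ = X (xor a a') * SX * (Y b * Y b' * K) := by rw [hX, hK]; simp only [mul_assoc]
    _ = X (xor a a') * (SX * (Y (xor b b') * (SY * K))) := by rw [hY]; simp only [mul_assoc]
    _ = X (xor a a') * (Y (xor b b') * (SX * (SY * K))) := by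
        rw [← mul_assoc SX, hSX, mul_assoc]
    _ = _ := by
        rw [← hK SY, ← mul_assoc SX K, ← hK SX]
        simp only [mul_assoc]

theorem glue [Finite E] {E' : Type v} [Group E'] [Finite E'] {z x y : E} {z' x' y' : E'}
    (h : XS z) (hxy : x * y ≠ y * x) (h' : XS z') (hxy' : x' * y' ≠ y' * x')
    (e : cpair x y ≃* cpair x' y') (hez : (e ⟨z, z_mem h x y⟩ : E') = z')
    (hx : x * x = 1 ↔ x' * x' = 1) (hy : y * y = 1 ↔ y' * y' = 1) :
    ∃ φ : E ≃* E', φ z = z' := by
  classical
  let Φ := Equiv.ofBijective _ (decomposition h hxy)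
  let Ψ := Equiv.ofBijective _ (decomposition h' hxy')
  let F : E ≃ E' := Φ.symm.trans ((Equiv.prodCongr (Equiv.refl _) e.toEquiv).trans Ψ)
  have hF : ∀ (a b : Bool) (c : cpair x y),
      F (word x y a b * c) = word x' y' a b * (e c : E') := fun a b c => by
    have : Φ.symm (word x y a b * c) = ((a, b), c) := Φ.symm_apply_eq.2 rfl
    simp only [F, Equiv.trans_apply, this]
    rfl
  have hcenE : ∀ {k : E}, (k = 1 ∨ k = z) → ∃ hk : k ∈ cpair x y, ∀ k' : E',
      ((k = 1 ↔ k' = 1) ∧ (k' = 1 ∨ k' = z')) → (e ⟨k, hk⟩ : E') = k' := by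
    rintro k (rfl | rfl)
    · refine ⟨one_mem _, fun k' hk' => ?_⟩
      rw [hk'.1.1 rfl, show (⟨1, one_mem _⟩ : cpair x y) = 1 from rfl, map_one]
      rfl
    · refine ⟨z_mem h x y, fun k' hk' => ?_⟩
      rw [hez]
      exact (hk'.2.resolve_left fun e' => h.setup.one_ne (hk'.1.2 e')).symm
  refine ⟨{ F with map_mul' := fun g₁ g₂ => ?_ }, ?_⟩
  · obtain ⟨⟨⟨a, b⟩, c⟩, rfl⟩ := (decomposition h hxy).2 g₁
    obtain ⟨⟨⟨a', b'⟩, c'⟩, rfl⟩ := (decomposition h hxy).2 g₂
    show F (word x y a b * c * (word x y a' b' * c')) =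
      F (word x y a b * c) * F (word x y a' b' * c')
    set kz : E := if b && a' then z else 1 with hkz
    set kx : E := if a && a' then x * x else 1 with hkx
    set ky : E := if b && b' then y * y else 1 with hky
    obtain ⟨mz, ez⟩ := hcenE (k := kz) (by cases e1 : (b && a') <;> simp [hkz, e1])
    obtain ⟨mx, ex⟩ := hcenE (k := kx) (by
      cases e1 : (a && a') <;> simp [hkx, e1]; exact h.setup.square x)
    obtain ⟨my, ey⟩ := hcenE (k := ky) (by
      cases e1 : (b && b') <;> simp [hky, e1]; exact h.setup.square y)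
    have hw : Commute (c : E) (word x y a' b') := by
      obtain ⟨hcx, hcy⟩ := mem_cpair.1 c.2
      rcases a' with _ | _ <;> rcases b' with _ | _ <;> simp [word]
      · exact hcy
      · exact hcx
      · exact (show Commute (c : E) x from hcx).mul_right hcy
    have hw' : Commute (e c : E') (word x' y' a' b') := by
      obtain ⟨hcx, hcy⟩ := mem_cpair.1 (e c).2
      rcases a' with _ | _ <;> rcases b' with _ | _ <;> simp [word]
      · exact hcy
      · exact hcx
      · exact (show Commute (e c : E') x' from hcx).mul_right hcy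
    have hL : word x y a b * c * (word x y a' b' * c') = word x y (xor a a') (xor b b') *
        (((⟨kz, mz⟩ * ⟨kx, mx⟩ * ⟨ky, my⟩ * (c * c') : cpair x y)) : E) := by
      rw [← mul_assoc, mul_assoc (word x y a b) (c : E), hw.eq, ← mul_assoc (word x y a b),
        word_mul h hxy]
      simp only [mul_assoc, Subgroup.coe_mul, ← hkz, ← hkx, ← hky]
    rw [hL, hF, hF, hF, ← mul_assoc (word x' y' a b * _), mul_assoc (word x' y' a b) (e c : E'),
      hw'.eq, ← mul_assoc (word x' y' a b), word_mul h' hxy', map_mul, map_mul, map_mul, map_mul]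
    simp only [Subgroup.coe_mul]
    rw [ez (if b && a' then z' else 1) ?_, ex (if a && a' then x' * x' else 1) ?_,
      ey (if b && b' then y' * y' else 1) ?_]
    · simp only [mul_assoc]
    · cases e1 : (b && b') <;> simp [hky, e1]
      exact ⟨hy, h'.setup.square y'⟩
    · cases e1 : (a && a') <;> simp [hkx, e1]
      exact ⟨hx, h'.setup.square x'⟩
    · cases e1 : (b && a') <;> simp [hkz, e1, h.setup.one_ne, h'.setup.one_ne]
  · show F z = z'
    have := hF false false ⟨z, z_mem h x y⟩
    simpa [word, hez] using this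

/-- The number of elements squaring to one. -/
noncomputable def sq1 (E : Type u) [Group E] : ℕ := Nat.card {g : E // g * g = 1}

theorem sq1_le [Finite E] : sq1 E ≤ Nat.card E :=
  Nat.card_le_card_of_injective _ Subtype.val_injective

theorem card_sq_z [Finite E] {z : E} (h : XS z) :
    Nat.card {g : E // g * g = z} = Nat.card E - sq1 E := by
  classical
  haveI : Fintype E := Fintype.ofFinite E
  rw [sq1, Nat.card_eq_fintype_card, Nat.card_eq_fintype_card, Nat.card_eq_fintype_card,
    ← Fintype.card_subtype_compl (fun g : E => g * g = 1)]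
  refine Fintype.card_congr (Equiv.subtypeEquivRight fun g => ⟨fun e h1 => ?_, fun hne => ?_⟩)
  · exact h.setup.one_ne (e.symm.trans h1)
  · exact (h.setup.square g).resolve_left hne

theorem sq_word [Finite E] {z x y : E} (h : XS z) (hxy : x * y ≠ y * x) (a b : Bool)
    (c : cpair x y) : word x y a b * c * (word x y a b * c) =
      (if b && a then z else 1) * (if a then x * x else 1) * (if b then y * y else 1) *
        ((c * c : cpair x y) : E) := by
  obtain ⟨hcx, hcy⟩ := mem_cpair.1 c.2
  have hw : Commute (c : E) (word x y a b) := by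
    rcases a with _ | _ <;> rcases b with _ | _ <;> simp [word]
    · exact hcy
    · exact hcx
    · exact (show Commute (c : E) x from hcx).mul_right hcy
  rw [← mul_assoc, mul_assoc (word x y a b) (c : E), hw.eq, ← mul_assoc (word x y a b), word_mul h hxy]
  simp [word, mul_assoc]

theorem sq1_split [Finite E] {z x y : E} (h : XS z) (hxy : x * y ≠ y * x) :
    sq1 E = ∑ q : Bool × Bool, Nat.card {c : cpair x y // word x y q.1 q.2 * c *
      (word x y q.1 q.2 * c) = 1} := by
  rw [sq1, ← Nat.card_sigma]
  refine Nat.card_congr ?_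
  refine (Equiv.subtypeEquiv (Equiv.ofBijective _ (decomposition h hxy)) (fun q => ?_)).symm.trans
    (Equiv.subtypeProdEquivSigmaSubtype
      fun (q : Bool × Bool) (c : cpair x y) =>
        word x y q.1 q.2 * c * (word x y q.1 q.2 * c) = 1)
  exact Iff.rfl

theorem sq1_plus [Finite E] {z x y : E} (h : XS z) (hxy : x * y ≠ y * x) (hx : x * x = 1)
    (hy : y * y = 1) :
    sq1 E = 2 * sq1 (cpair x y) + Nat.card (cpair x y) := by
  classical
  have h1 : ∀ q : Bool × Bool, Nat.card {c : cpair x y // word x y q.1 q.2 * c *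
      (word x y q.1 q.2 * c) = 1} =
      if q = (true, true) then Nat.card (cpair x y) - sq1 (cpair x y) else sq1 (cpair x y) := by
    rintro ⟨a, b⟩
    rcases a with _ | _ <;> rcases b with _ | _ <;>
      simp only [Prod.mk.injEq, Bool.false_eq_true, false_and, and_false, and_self, if_true, if_false]
    all_goals first
      | exact Nat.card_congr (Equiv.subtypeEquivRight fun c => by
          rw [sq_word h hxy]; simp [hx, hy, Subtype.ext_iff])
      | (rw [← card_sq_z (xs_cpair h hxy)]
         exact Nat.card_congr (Equiv.subtypeEquivRight fun c => by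
          rw [sq_word h hxy]; simp [hx, hy, Subtype.ext_iff]
          constructor
          · intro e
            rw [eq_comm, ← mul_eq_one_iff_inv_eq.1 e]
            exact (inv_eq_of_mul_eq_one_right h.setup.sq).symm
          · intro e
            rw [e, h.setup.sq]))
  rw [sq1_split h hxy, Finset.sum_congr rfl fun q _ => h1 q]
  have := sq1_le (E := cpair x y)
  rw [Fintype.sum_prod_type, Fintype.sum_bool, Fintype.sum_bool, Fintype.sum_bool]
  simp
  omega

theorem sq1_two [Finite E] {z : E} (h : XS z) (hc : Nat.card E = 2) : sq1 E = 2 := by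
  rw [sq1, ← hc]
  refine Nat.card_congr (Equiv.subtypeUnivEquiv fun g => ?_)
  rcases h.centre g (comm_of_card_two hc g) with rfl | rfl
  · exact one_mul 1
  · exact h.setup.sq

theorem sq1_minus [Finite E] {z x y : E} (h : XS z) (hxy : x * y ≠ y * x) (hx : x * x = z)
    (hy : y * y = z) (hc : Nat.card (cpair x y) = 2) : sq1 E = 2 := by
  classical
  have hC : ∀ c : cpair x y, (c : E) * c = 1 := fun c => by
    rcases (xs_cpair h hxy).centre c (comm_of_card_two hc c) with rfl | rfl
    · exact one_mul _
    · exact h.setup.sq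
  have h1 : ∀ q : Bool × Bool, Nat.card {c : cpair x y // word x y q.1 q.2 * c *
      (word x y q.1 q.2 * c) = 1} = if q = (false, false) then 2 else 0 := by
    rintro ⟨a, b⟩
    rcases a with _ | _ <;> rcases b with _ | _ <;>
      simp only [Prod.mk.injEq, Bool.true_eq_false, Bool.false_eq_true, false_and, and_false, and_self, if_true, if_false]
    all_goals first
      | (rw [← hc]; exact Nat.card_congr (Equiv.subtypeUnivEquiv fun c => by
          rw [sq_word h hxy]; simp [hC]))
      | (rw [Nat.card_eq_zero]
         refine Or.inl ⟨fun c => ?_⟩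
         have := c.2
         rw [sq_word h hxy] at this
         simp [hx, hy, hC, h.setup.sq, h.setup.one_ne] at this)
  rw [sq1_split h hxy, Finset.sum_congr rfl fun q _ => h1 q]
  rw [Fintype.sum_prod_type, Fintype.sum_bool, Fintype.sum_bool, Fintype.sum_bool]
  simp

theorem cases_main [Finite E] {z : E} (h : XS z) :
    Nat.card E = 2 ∨ (∃ x y : E, x * y ≠ y * x ∧ x * x = 1 ∧ y * y = 1) ∨
      ∃ x y : E, x * y ≠ y * x ∧ Nat.card (cpair x y) = 2 ∧ x * x = z ∧ y * y = z := by
  by_cases hc : ∀ a b : E, a * b = b * a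
  · exact Or.inl (card_two h hc)
  push Not at hc
  obtain ⟨x, y, hxy⟩ := hc
  exact Or.inr ((dichotomy h hxy).imp id fun h' => ⟨x, y, hxy, h'⟩)

theorem invariants : ∀ (N : ℕ) (E : Type u) [Group E] [Finite E] (z : E), XS z → Nat.card E ≤ N →
    ∃ m : ℕ, Nat.card E = 2 ^ (2 * m + 1) ∧
      (sq1 E = 2 ^ (2 * m) + 2 ^ m ∨ (1 ≤ m ∧ sq1 E + 2 ^ m = 2 ^ (2 * m))) := by
  intro N
  induction N with
  | zero => intro E _ _ z _ h; exact absurd h (Nat.not_le.2 Nat.card_pos)
  | succ N ih =>
    intro E _ _ z h hN
    rcases cases_main h with h2 | ⟨x, y, hxy, hx, hy⟩ | ⟨x, y, hxy, hc, hx, hy⟩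
    · exact ⟨0, by simpa using h2, Or.inl (by simpa using sq1_two h h2)⟩
    · have hcard := card_eq h hxy
      obtain ⟨m, hm, hs⟩ := ih (cpair x y) _ (xs_cpair h hxy) (by
        have := Nat.card_pos (α := cpair x y); omega)
      have e1 : (2 : ℕ) ^ (2 * (m + 1)) = 4 * 2 ^ (2 * m) := by ring
      have e2 : (2 : ℕ) ^ (m + 1) = 2 * 2 ^ m := by ring
      have e3 : (2 : ℕ) ^ (2 * m + 1) = 2 * 2 ^ (2 * m) := by ring
      refine ⟨m + 1, by rw [hcard, hm, pow_succ 2 (2 * (m + 1)), e1, e3]; ring, ?_⟩
      rw [sq1_plus h hxy hx hy, hm, e1, e2, e3]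
      rcases hs with hs | ⟨hm1, hs⟩
      · left; omega
      · exact Or.inr ⟨by omega, by omega⟩
    · exact ⟨1, by rw [card_eq h hxy, hc]; norm_num, Or.inr ⟨le_rfl, by
        rw [sq1_minus h hxy hx hy hc]; norm_num⟩⟩

theorem iso_main : ∀ (N : ℕ) (E : Type u) [Group E] [Finite E] (E' : Type v) [Group E'] [Finite E']
    (z : E) (z' : E'), XS z → XS z' → Nat.card E ≤ N → Nat.card E' = Nat.card E →
    sq1 E' = sq1 E → ∃ φ : E ≃* E', φ z = z' := by
  intro N
  induction N with
  | zero => intro E _ _ E' _ _ z z' _ _ h; exact absurd h (Nat.not_le.2 Nat.card_pos)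
  | succ N ih =>
    intro E _ _ E' _ _ z z' h h' hN hEE hs
    haveI : Fact (Nat.Prime 2) := ⟨Nat.prime_two⟩
    have two : ∀ {A : Type u} {B : Type v} [Group A] [Group B] [Finite A] [Finite B] {a : A} {b : B},
        XS a → XS b → Nat.card A = 2 → Nat.card B = 2 → ∃ φ : A ≃* B, φ a = b := by
      intro A B _ _ _ _ a b ha hb hA hB
      haveI : IsCyclic A := isCyclic_of_prime_card hA
      haveI : IsCyclic B := isCyclic_of_prime_card hB
      let φ : A ≃* B := mulEquivOfCyclicCardEq (hA.trans hB.symm)
      refine ⟨φ, (hb.centre (φ a) (comm_of_card_two hB _)).resolve_left fun e => ?_⟩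
      exact ha.setup.one_ne (φ.injective (e.trans (map_one φ).symm))
    have big : ∀ {x y : E}, x * y ≠ y * x → 8 ≤ Nat.card E := fun {x y} hxy => by
      rw [card_eq h hxy]
      have : 1 < Nat.card (cpair x y) := Finite.one_lt_card_iff_nontrivial.2
        ⟨⟨⟨z, z_mem h x y⟩, 1, fun e => h.setup.one_ne (congrArg Subtype.val e)⟩⟩
      omega
    have big' : ∀ {x y : E'}, x * y ≠ y * x → 8 ≤ Nat.card E' := fun {x y} hxy => by
      rw [card_eq h' hxy]
      have : 1 < Nat.card (cpair x y) := Finite.one_lt_card_iff_nontrivial.2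
        ⟨⟨⟨z', z_mem h' x y⟩, 1, fun e => h'.setup.one_ne (congrArg Subtype.val e)⟩⟩
      omega
    rcases cases_main h with h2 | ⟨x, y, hxy, hx, hy⟩ | ⟨x, y, hxy, hc, hx, hy⟩
    · exact two h h' h2 (hEE.trans h2)
    · rcases cases_main h' with h2 | ⟨x', y', hxy', hx', hy'⟩ | ⟨x', y', hxy', hc', hx', hy'⟩
      · have := big hxy; omega
      · have hcard := card_eq h hxy
        have hcard' := card_eq h' hxy'
        have e1 := sq1_plus h hxy hx hy
        have e2 := sq1_plus h' hxy' hx' hy'
        obtain ⟨e, he⟩ := ih (cpair x y) (cpair x' y') _ _ (xs_cpair h hxy) (xs_cpair h' hxy')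
          (by have := Nat.card_pos (α := cpair x y); omega) (by omega) (by omega)
        exact glue h hxy h' hxy' e (congrArg Subtype.val he) (by simp [hx, hx']) (by simp [hy, hy'])
      · exfalso
        have e2 := sq1_minus h' hxy' hx' hy' hc'
        have hC : Nat.card (cpair x y) = 2 := by
          have := card_eq h hxy
          have := card_eq h' hxy'
          omega
        rw [sq1_plus h hxy hx hy, sq1_two (xs_cpair h hxy) hC, hC] at hs
        omega
    · rcases cases_main h' with h2 | ⟨x', y', hxy', hx', hy'⟩ | ⟨x', y', hxy', hc', hx', hy'⟩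
      · have := big hxy; omega
      · exfalso
        have e2 := sq1_minus h hxy hx hy hc
        have hC : Nat.card (cpair x' y') = 2 := by
          have := card_eq h hxy
          have := card_eq h' hxy'
          omega
        rw [sq1_plus h' hxy' hx' hy', sq1_two (xs_cpair h' hxy') hC, hC] at hs
        omega
      · obtain ⟨e, he⟩ := two (xs_cpair h hxy) (xs_cpair h' hxy') hc hc'
        exact glue h hxy h' hxy' e (congrArg Subtype.val he)
          (by simp [hx, hx', h.setup.one_ne, h'.setup.one_ne])
          (by simp [hy, hy', h.setup.one_ne, h'.setup.one_ne])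

theorem xs_of_extraspecial {E : Type u} [Group E] [Finite E] (hE : Cfsg.IsExtraspecial 2 E) :
    ∃ z : E, XS z ∧ ¬ ∀ a b : E, a * b = b * a := by
  obtain ⟨z, hz, hzc⟩ := exists_setup hE
  obtain ⟨w, -, hw⟩ := (Nat.card_eq_two_iff' (1 : Subgroup.center E)).1 hE.2
  refine ⟨z, ⟨hz, fun a ha => or_iff_not_imp_left.2 fun ha1 => ?_⟩, fun hc => ?_⟩
  · have hac : a ∈ Subgroup.center E := Subgroup.mem_center_iff.2 fun b => (ha b).symm
    exact (congrArg Subtype.val (hw ⟨a, hac⟩ fun e => ha1 (congrArg Subtype.val e))).trans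
      (congrArg Subtype.val (hw ⟨z, hzc⟩ fun e => hz.one_ne (congrArg Subtype.val e))).symm
  · have hbot : commutator E = ⊥ := by
      rw [_root_.commutator_eq_bot_iff_center_eq_top]
      exact eq_top_iff.2 fun a _ => Subgroup.mem_center_iff.2 fun b => hc b a
    have h2 := hE.2
    rw [← hE.1.2.2, hbot, Subgroup.card_bot] at h2
    omega

theorem sq1_eq (E : Type u) [Group E] : Nat.card {x : E // x ^ 2 = 1} = sq1 E :=
  Nat.card_congr (Equiv.subtypeEquivRight fun x => by rw [pow_two])


/-- Classification of extraspecial 2-groups in intrinsic form. An extraspecial 2-group has order 2^(2m+1) for some m ≥ 1, and the number of its elements squaring to the identity is either 2^(2m) + 2^m or 2^(2m) − 2^m; two extraspecial 2-groups of the same order with the same number of such elements are isomorphic. (The two cases are the central products of m dihedral groups of order 8, and of m − 1 dihedral groups with one quaternion group.) -/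
theorem result (E : Type*) [Group E] [Finite E] (hE : Cfsg.IsExtraspecial 2 E) :
    (∃ m : ℕ, 1 ≤ m ∧ Nat.card E = 2 ^ (2 * m + 1) ∧
      (Nat.card {x : E // x ^ 2 = 1} = 2 ^ (2 * m) + 2 ^ m ∨ Nat.card {x : E // x ^ 2 = 1} = 2 ^ (2 * m) - 2 ^ m)) ∧
    ∀ (E' : Type*) [Group E'] [Finite E'], Cfsg.IsExtraspecial 2 E' → Nat.card E' = Nat.card E →
      Nat.card {x : E' // x ^ 2 = 1} = Nat.card {x : E // x ^ 2 = 1} → Nonempty (E ≃* E') := by
  obtain ⟨z, hz, hnc⟩ := xs_of_extraspecial hE
  refine ⟨?_, ?_⟩
  · obtain ⟨m, hm, hs⟩ := invariants (Nat.card E) E z hz le_rfl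
    have hm1 : 1 ≤ m := by
      by_contra hm1
      rw [show m = 0 by omega, mul_zero, zero_add, pow_one] at hm
      exact hnc (comm_of_card_two hm)
    refine ⟨m, hm1, hm, ?_⟩
    rw [sq1_eq]
    rcases hs with hs | ⟨-, hs⟩
    · exact Or.inl hs
    · exact Or.inr (by omega)
  · intro E' _ _ hE' hcard hs
    obtain ⟨z', hz', -⟩ := xs_of_extraspecial hE'
    rw [sq1_eq, sq1_eq] at hs
    obtain ⟨φ, -⟩ := iso_main (Nat.card E) E E' z z' hz hz' le_rfl hcard hs
    exact ⟨φ⟩

end Cfsg.Agent.S4416
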