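import Cfsg.Agent.Lib.FGStruct.LinearPGroup

set_option autoImplicit false
set_option linter.style.haveILetI false

namespace Cfsg.Agent.S4417

open Cfsg.Agent

universe u v w

variable {F : Type v} [Field F] [Finite F]

private theorem irreducible_case {p : ℕ} [hp : Fact p.Prime] {e : ℕ}
    (he : e = orderOf (Nat.card F : ZMod p))
    {P : Type u} [Group P] [Finite P] (hP : IsPGroup p P) {V : Type w} [AddCommGroup V] [Module F V]
    [FiniteDimensional F V] (ρ : P →* Module.End F V)
    (hirr : ∀ W : Submodule F V, (∀ h, ∀ x ∈ W, ρ h x ∈ W) → W = ⊥ ∨ W = ⊤)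
    {g : P} (hg : g ∈ derivedSeries P (Nat.log 2 (Module.finrank F V / e) + 1)) : ρ g = 1 := by
  classical
  by_cases htriv : ∀ h, ρ h = 1
  · exact htriv g
  haveI : Finite V := Module.finite_of_finite F
  haveI : Finite (Module.End F V) := Finite.of_injective (fun f => (f : V → V)) DFunLike.coe_injective
  -- a central element of order `p` in the image
  let u : P →* (Module.End F V)ˣ := MonoidHom.toHomUnits ρ
  have hup : IsPGroup p u.range := hP.of_surjective u.rangeRestrict u.rangeRestrict_surjective
  haveI : Nontrivial u.range := by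
    push Not at htriv
    obtain ⟨h, hh⟩ := htriv
    exact nontrivial_of_ne ⟨u h, h, rfl⟩ 1 fun e => hh (congrArg Units.val (congrArg Subtype.val e))
  haveI := hup.center_nontrivial
  obtain ⟨c, hc⟩ := exists_prime_orderOf_dvd_card' (G := Subgroup.center u.range) p (by
    obtain ⟨k, hk⟩ := IsPGroup.iff_card.1 (hup.to_subgroup (Subgroup.center u.range))
    rcases k with _ | k
    · exact absurd hk (by rw [pow_zero]; exact Finite.one_lt_card.ne')
    · exact hk ▸ dvd_pow_self p k.succ_ne_zero)
  set a : Module.End F V := (((c : u.range) : (Module.End F V)ˣ) : Module.End F V) with ha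
  have hca : ∀ h, Commute (ρ h) a := fun h =>
    congrArg (fun t : u.range => ((t : (Module.End F V)ˣ) : Module.End F V))
      (Subgroup.mem_center_iff.1 c.2 ⟨u h, h, rfl⟩)
  have hap : a ^ p = 1 := by
    have := congrArg (fun t : Subgroup.center u.range =>
      (((t : u.range) : (Module.End F V)ˣ) : Module.End F V)) (hc ▸ pow_orderOf_eq_one c)
    simpa [ha] using this
  have ha1 : a ≠ 1 := fun h => by
    have : c = 1 := Subtype.ext (Subtype.ext (Units.ext h))
    rw [this, orderOf_one] at hc
    exact hp.out.ne_one hc.symm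
  -- the field generated by it
  let R : Subalgebra F (Module.End F V) := Algebra.adjoin F {a}
  have hRρ : ∀ h, ∀ r ∈ R, Commute (ρ h) r := fun h r hr => by
    have hle : R ≤ Subalgebra.centralizer F {ρ h} := by
      refine Algebra.adjoin_le ?_
      rintro x rfl
      exact (Subalgebra.mem_centralizer_iff F).2 fun y hy => by
        rw [Set.mem_singleton_iff.1 hy]; exact (hca h).eq
    exact (Subalgebra.mem_centralizer_iff F).1 (hle hr) _ rfl
  have hinj : ∀ r ∈ R, r ≠ 0 → Function.Injective (r : Module.End F V) := by
    intro r hr hr0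
    rw [← LinearMap.ker_eq_bot]
    refine (hirr (LinearMap.ker r) fun h x hx => ?_).resolve_right
      (fun h => hr0 (LinearMap.ker_eq_top.1 h))
    rw [LinearMap.mem_ker] at hx ⊢
    rw [← Module.End.mul_apply, ← (hRρ h r hr).eq, Module.End.mul_apply, hx, map_zero]
  haveI : NoZeroDivisors R := ⟨fun {r s} hrs => by
    by_contra hne
    push Not at hne
    apply hne.2
    refine Subtype.ext (LinearMap.ext fun x => ?_)
    have h1 : (r : Module.End F V) ((s : Module.End F V) x) = 0 := by
      rw [← Module.End.mul_apply, ← Subalgebra.coe_mul, hrs]; rfl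
    exact hinj r r.2 (fun e => hne.1 (Subtype.ext e)) (h1.trans (map_zero _).symm)⟩
  haveI : Nontrivial R := by
    refine nontrivial_of_ne (⟨a, Algebra.self_mem_adjoin_singleton F a⟩ : R) 1 fun e => ha1 ?_
    exact congrArg Subtype.val e
  letI : CommRing R :=
    { (inferInstance : Ring R) with
      mul_comm := fun r s => by
        have hle' : R ≤ Subalgebra.centralizer F {a} := by
          refine Algebra.adjoin_le fun z hz => ?_
          rw [Set.mem_singleton_iff.1 hz]
          exact (Subalgebra.mem_centralizer_iff F).2 fun y hy => by rw [Set.mem_singleton_iff.1 hy]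
        have hle : R ≤ Subalgebra.centralizer F {(r : Module.End F V)} := by
          refine Algebra.adjoin_le fun z hz => ?_
          rw [Set.mem_singleton_iff.1 hz]
          exact (Subalgebra.mem_centralizer_iff F).2 fun y hy => by
            rw [Set.mem_singleton_iff.1 hy]
            exact ((Subalgebra.mem_centralizer_iff F).1 (hle' r.2) a rfl).symm
        exact Subtype.ext ((Subalgebra.mem_centralizer_iff F).1 (hle s.2) _ rfl) }
  haveI : IsDomain R := NoZeroDivisors.to_isDomain R
  letI : Field R := (Finite.isDomain_to_isField R).toField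
  -- the representation over it
  let ρ' : P →* Module.End R V :=
    { toFun := fun h =>
        { toFun := ρ h
          map_add' := map_add _
          map_smul' := fun r x => by
            show ρ h ((r : Module.End F V) x) = (r : Module.End F V) (ρ h x)
            rw [← Module.End.mul_apply, (hRρ h r r.2).eq, Module.End.mul_apply] }
      map_one' := LinearMap.ext fun x => by
        show ρ 1 x = x
        rw [map_one, Module.End.one_apply]
      map_mul' := fun h k => LinearMap.ext fun x => by
        show ρ (h * k) x = ρ h (ρ k x)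
        rw [map_mul, Module.End.mul_apply] }
  haveI : Finite R := inferInstance
  haveI : Module.Finite R V := Module.Finite.of_finite
  set m := Module.finrank R V with hm
  -- the dimension drops by a factor divisible by `e`
  have hq1 : 1 < Nat.card F := Finite.one_lt_card
  set f := Module.finrank F R with hf
  have hRc : Nat.card R = Nat.card F ^ f := Module.natCard_eq_pow_finrank
  have hfm : f * m = Module.finrank F V := by
    have h1 : Nat.card V = Nat.card R ^ m := Module.natCard_eq_pow_finrank
    rw [Module.natCard_eq_pow_finrank (K := F) (V := V), hRc, ← pow_mul] at h1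
    exact (Nat.pow_right_injective hq1 h1).symm
  have haR : orderOf (⟨a, Algebra.self_mem_adjoin_singleton F a⟩ : R) = p :=
    orderOf_eq_prime (Subtype.ext (by simpa using hap)) fun e => ha1 (congrArg Subtype.val e)
  have hef : e ∣ f := by
    have h1 : (⟨a, Algebra.self_mem_adjoin_singleton F a⟩ : R) ≠ 0 := by
      intro h
      have := pow_orderOf_eq_one (⟨a, Algebra.self_mem_adjoin_singleton F a⟩ : R)
      rw [haR, h, zero_pow hp.out.ne_zero] at this
      exact zero_ne_one this
    have h2 := orderOf_dvd_natCard (Units.mk0 _ h1)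
    rw [← orderOf_units, Units.val_mk0, haR, Nat.card_units, hRc] at h2
    rw [he, orderOf_dvd_iff_pow_eq_one]
    have h3 : ((Nat.card F ^ f - 1 : ℕ) : ZMod p) = 0 := (ZMod.natCast_eq_zero_iff _ _).2 h2
    rw [Nat.cast_sub (Nat.one_le_pow _ _ (by omega)), Nat.cast_pow, Nat.cast_one, sub_eq_zero] at h3
    exact h3
  have hfpos : 0 < f := Module.finrank_pos
  have hme : m ≤ Module.finrank F V / e := by
    rcases Nat.eq_zero_or_pos e with rfl | hepos
    · rw [Nat.eq_zero_of_zero_dvd hef] at hfpos; exact absurd hfpos (lt_irrefl 0)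
    rw [Nat.le_div_iff_mul_le hepos, ← hfm, mul_comm f m]
    exact Nat.mul_le_mul_left m (Nat.le_of_dvd hfpos hef)
  -- apply the absolute bound
  let b := Module.finBasis R V
  let φ : P →* Matrix.GeneralLinearGroup (Fin m) R :=
    MonoidHom.toHomUnits
      ((LinearMap.toMatrixAlgEquiv b).toAlgHom.toRingHom.toMonoidHom.comp ρ')
  have hbot := LinearPGroup.derived_bot p (hP.of_surjective φ.rangeRestrict φ.rangeRestrict_surjective)
    m φ.range.subtype Subtype.coe_injective
  have h1 : φ.rangeRestrict g ∈ derivedSeries φ.range (Nat.log 2 m + 1) :=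
    map_derivedSeries_le_derivedSeries φ.rangeRestrict _ (Subgroup.mem_map_of_mem _
      (derivedSeries_antitone P (Nat.add_le_add_right (Nat.log_mono_right hme) 1) hg))
  rw [hbot, Subgroup.mem_bot] at h1
  have h2 : φ g = 1 := congrArg Subtype.val h1
  have h3 : ρ' g = 1 := (LinearMap.toMatrixAlgEquiv b).injective (by
    rw [map_one]; exact congrArg Units.val h2)
  exact LinearMap.ext fun x => LinearMap.congr_fun h3 x

private theorem trivial_of_mem {p : ℕ} [hp : Fact p.Prime] {e : ℕ}
    (he : e = orderOf (Nat.card F : ZMod p)) (hpF : (p : F) ≠ 0) :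
    ∀ (d : ℕ) {P : Type u} [Group P] [Finite P] {V : Type w} [AddCommGroup V] [Module F V]
      [FiniteDimensional F V], IsPGroup p P → ∀ ρ : P →* Module.End F V,
        Module.finrank F V ≤ d → ∀ g ∈ derivedSeries P (Nat.log 2 (d / e) + 1), ρ g = 1 := by
  intro d
  induction d using Nat.strong_induction_on with
  | _ d ih =>
    intro P _ _ V _ _ _ hP ρ hd g hg
    by_cases hred : ∃ W : Submodule F V, (∀ h, ∀ x ∈ W, ρ h x ∈ W) ∧ W ≠ ⊥ ∧ W ≠ ⊤
    · obtain ⟨W, hW, hW0, hW1⟩ := hred
      have hsum := W.finrank_quotient_add_finrank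
      have l1 : Module.finrank F W < d := lt_of_lt_of_le (Submodule.finrank_lt hW1) hd
      have hWpos : 0 < Module.finrank F W := by
        rw [Nat.pos_iff_ne_zero]; exact fun h => hW0 (Submodule.finrank_eq_zero.1 h)
      have l2 : Module.finrank F (V ⧸ W) < d := by omega
      have hmono : ∀ k, k < d → g ∈ derivedSeries P (Nat.log 2 (k / e) + 1) := fun k hk =>
        derivedSeries_antitone P (Nat.add_le_add_right
          (Nat.log_mono_right (Nat.div_le_div_right hk.le)) 1) hg
      have a1 := ih _ l1 hP (LinearPGroup.restrictRep ρ W hW) le_rfl g (hmono _ l1)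
      have a2 := ih _ l2 hP (LinearPGroup.quotRep ρ W hW) le_rfl g (hmono _ l2)
      refine LinearPGroup.eq_one_of_stable ρ hpF hP (W := W) (fun x hx => ?_) (fun x => ?_)
      · exact congrArg Subtype.val (LinearMap.congr_fun a1 (⟨x, hx⟩ : W))
      · exact (Submodule.Quotient.eq W).1 (LinearMap.congr_fun a2 (Submodule.Quotient.mk x))
    · refine irreducible_case he hP ρ (fun W hW => ?_)
        (derivedSeries_antitone P (Nat.add_le_add_right
          (Nat.log_mono_right (Nat.div_le_div_right hd)) 1) hg)
      by_contra hne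
      push Not at hne
      exact hred ⟨W, hW, hne.1, hne.2⟩

theorem result {F : Type*} [Field F] [Fintype F] (q : ℕ) (hF : Fintype.card F = q) (p : ℕ) [Fact p.Prime] (hpq : ¬ p ∣ q) (n e : ℕ) (he : e = orderOf (q : ZMod p)) (hen : e ≤ n) (P : Subgroup (GL (Fin n) F)) (hP : IsPGroup p P) : derivedSeries ↥P (Nat.log 2 (n / e) + 1) = ⊥ := by
  have hq : Nat.card F = q := by rw [Nat.card_eq_fintype_card, hF]
  have hpF : (p : F) ≠ 0 := by
    intro h
    haveI : CharP F p := (CharP.charP_iff_prime_eq_zero Fact.out).2 h
    obtain ⟨k, -, hk⟩ := FiniteField.card F p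
    exact hpq (hF ▸ hk ▸ dvd_pow_self p k.pos.ne')
  let ρ : P →* Module.End F (Fin n → F) :=
    ((Matrix.toLinAlgEquiv' (R := F) (n := Fin n)).toAlgHom.toRingHom.toMonoidHom.comp
      (Units.coeHom (Matrix (Fin n) (Fin n) F))).comp P.subtype
  rw [eq_bot_iff]
  intro g hg
  rw [Subgroup.mem_bot]
  have h1 := trivial_of_mem (p := p) (e := e) (by rw [he, hq]) hpF n hP ρ
    (by rw [Module.finrank_fin_fun]) g hg
  refine Subtype.ext (Units.ext ((Matrix.toLinAlgEquiv' (R := F) (n := Fin n)).injective ?_))
  refine Eq.trans h1 ?_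
  rw [Subgroup.coe_one, Units.val_one, map_one]

end Cfsg.Agent.S4417
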