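import Cfsg.Prelude.Def_OddOrderLocal
import Cfsg.Agent.Lib.Solvable.Coprime
import Cfsg.Agent.Lib.Solvable.NilpotentFrattini
import Cfsg.Agent.Lib.OddOrder.MetacyclicAction
import Cfsg.Agent.Lib.Transfer.Fusion
import Cfsg.Agent.Lib.Transfer.PGroup

set_option autoImplicit false
set_option linter.style.haveILetI false

namespace Cfsg.Agent.S4419

open Cfsg.Agent

/-- a cyclic group of exponent `p` has at most `p` elements -/
private theorem card_cyclic {C : Type*} [Group C] [IsCyclic C] {p : ℕ} (hp : 0 < p) (h : ∀ c : C, c ^ p = 1) :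
    Nat.card C ≤ p := by
  obtain ⟨c, hc⟩ := IsCyclic.exists_ofOrder_eq_natCard (α := C)
  rw [← hc]
  exact Nat.le_of_dvd hp (orderOf_dvd_of_pow_eq_one (h c))

/-- the Frattini quotient of a metacyclic `p`-group has order at most `p ^ 2` -/
private theorem frattini_quotient_small {D : Type*} [Group D] [Finite D] {p : ℕ} [hp : Fact p.Prime]
    (hD : IsPGroup p D) (hm : Cfsg.IsMetacyclic D) : Nat.card (D ⧸ frattini D) ≤ p ^ 2 := by
  obtain ⟨N, hN, hNc, hQ⟩ := hm
  haveI := hN
  set π := QuotientGroup.mk' (frattini D) with hπ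
  have hex : ∀ v : D ⧸ frattini D, v ^ p = 1 := by
    intro v
    obtain ⟨d, rfl⟩ := QuotientGroup.mk'_surjective _ v
    rw [← map_pow]
    exact (QuotientGroup.eq_one_iff _).2 (PGroupBasics.pow_mem_frattini hD d)
  haveI : IsCyclic (N.map π) := isCyclic_of_surjective (π.subgroupMap N) (π.subgroupMap_surjective N)
  haveI : (N.map π).Normal := hN.map _ (QuotientGroup.mk'_surjective _)
  haveI : IsCyclic ((D ⧸ frattini D) ⧸ N.map π) := by
    refine isCyclic_of_surjective
      (QuotientGroup.map N (N.map π) π (Subgroup.le_comap_map π N)) ?_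
    intro y
    obtain ⟨v, rfl⟩ := QuotientGroup.mk'_surjective _ y
    obtain ⟨d, rfl⟩ := QuotientGroup.mk'_surjective _ v
    exact ⟨(d : D ⧸ N), rfl⟩
  have h1 := card_cyclic hp.out.pos (C := N.map π) fun c => Subtype.ext (hex c)
  have h2 := card_cyclic hp.out.pos (C := (D ⧸ frattini D) ⧸ N.map π) fun c => by
    obtain ⟨v, rfl⟩ := QuotientGroup.mk'_surjective _ c
    rw [← map_pow, hex, map_one]
  rw [Subgroup.card_eq_card_quotient_mul_card_subgroup (N.map π), sq]
  exact Nat.mul_le_mul h2 h1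

/-- a prime-order automorphism of a group of order at most `p ^ 2` has order dividing `p * (p ^ 2 - 1)` -/
private theorem prime_dvd {V : Type*} [Group V] [Finite V] {p q : ℕ} [hp : Fact p.Prime] [hq : Fact q.Prime]
    (hV : IsPGroup p V) (hsmall : Nat.card V ≤ p ^ 2) (τ : MulAut V) (hτ : orderOf τ = q) :
    q = p ∨ q ∣ p ^ 2 - 1 := by
  set X := Subgroup.zpowers τ with hX
  have hXq : IsPGroup q X := IsPGroup.of_card (n := 1) (by rw [hX, Nat.card_zpowers, hτ, pow_one])
  have hmod := hXq.card_modEq_card_fixedPoints (α := V)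
  let F : Subgroup V :=
    { carrier := {v | τ v = v}
      one_mem' := map_one τ
      mul_mem' := fun {a b} ha hb => by
        show τ (a * b) = a * b
        rw [map_mul, show τ a = a from ha, show τ b = b from hb]
      inv_mem' := fun {a} ha => by
        show τ a⁻¹ = a⁻¹
        rw [map_inv, show τ a = a from ha] }
  have hfix : Nat.card (MulAction.fixedPoints X V) = Nat.card F := by
    refine Nat.card_congr (Equiv.subtypeEquivRight fun v => ⟨fun h => h ⟨τ, Subgroup.mem_zpowers τ⟩, ?_⟩)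
    rintro (h : τ v = v) ⟨w, hw⟩
    have hle : X ≤ MulAction.stabilizer (MulAut V) v := Subgroup.zpowers_le.2 h
    exact hle hw
  have hFne : F ≠ ⊤ := by
    intro h
    have h1 : τ = 1 := by
      ext v
      have : v ∈ F := h ▸ Subgroup.mem_top v
      exact this
    rw [h1, orderOf_one] at hτ
    exact hq.out.ne_one hτ.symm
  obtain ⟨k, hk⟩ := IsPGroup.iff_card.1 hV
  have hk2 : k ≤ 2 := (Nat.pow_le_pow_iff_right hp.out.one_lt).1 (hk ▸ hsmall)
  obtain ⟨j, -, hj⟩ := (Nat.dvd_prime_pow hp.out).1 (hk ▸ Subgroup.card_subgroup_dvd_card F)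
  have hlt : j < k := by
    by_contra h
    refine hFne (Subgroup.eq_top_of_le_card F ?_)
    rw [hk, hj]
    exact Nat.pow_le_pow_right hp.out.pos (not_lt.1 h)
  rw [hfix, hk, hj] at hmod
  have hd : q ∣ p ^ k - p ^ j :=
    (Nat.modEq_iff_dvd' (Nat.pow_le_pow_right hp.out.pos hlt.le)).1 hmod.symm
  rw [show p ^ k - p ^ j = p ^ j * (p ^ (k - j) - 1) by
    rw [Nat.mul_sub, mul_one, ← pow_add, Nat.add_sub_cancel' hlt.le]] at hd
  rcases (Nat.Prime.dvd_mul hq.out).1 hd with h | h
  · exact Or.inl ((Nat.prime_dvd_prime_iff_eq hq.out hp.out).1 (hq.out.dvd_of_dvd_pow h))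
  · refine Or.inr (h.trans ?_)
    rcases (show k - j = 1 ∨ k - j = 2 by omega) with e | e <;> rw [e]
    rw [pow_one]
    exact ⟨p + 1, by rw [mul_comm, ← Nat.sq_sub_sq, one_pow]⟩

theorem result {G : Type*} [Group G] [Finite G] (p : ℕ) [Fact p.Prime] (S : Sylow p G) (hS : Cfsg.IsMetacyclic ↥(S : Subgroup G)) : Cfsg.HasNormalPComplement p G ↔ Nat.Coprime (Nat.card (G ⧸ Cfsg.pPrimePCore p G)) (p ^ 2 - 1) := by
  set O := Cfsg.pPrimePCore p G with hO
  haveI hOn : O.Normal := by
    rw [hO, Cfsg.pPrimePCore]; infer_instance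
  constructor
  · intro h
    have hq := PBasic.quotient_pPrimeCore_isPGroup h
    have htop : O = ⊤ := by
      rw [hO, Cfsg.pPrimePCore]
      have : Cfsg.pCore p (G ⧸ Cfsg.pPrimeCore p G) = ⊤ :=
        eq_top_iff.2 (PBasic.le_pCore inferInstance (hq.to_subgroup ⊤))
      rw [this, Subgroup.comap_top]
    rw [← Subgroup.index_eq_card, htop, Subgroup.index_top]
    exact Nat.coprime_one_left _
  · intro hn
    refine Fusion.hasNormalPComplement_of_frobenius fun D hD g hg hgc => ?_
    set n := Nat.card (G ⧸ O) with hndef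
    -- `g ^ n` centralizes `D`
    have hgn : g ^ n ∈ Subgroup.centralizer (D : Set G) := by
      have h1 : g ^ n ∈ O := by
        rw [hndef, ← Subgroup.index_eq_card]; exact Subgroup.pow_index_mem O g
      have h2 : g ^ n ∈ Cfsg.pPrimeCore p G := by
        rw [← QuotientGroup.eq_one_iff (N := Cfsg.pPrimeCore p G)]
        have h3 : ((g ^ n : G) : G ⧸ Cfsg.pPrimeCore p G) ∈ Cfsg.pCore p (G ⧸ Cfsg.pPrimeCore p G) := h1
        obtain ⟨k, hk⟩ := PBasic.pCore_isPGroup p _ ⟨_, h3⟩
        have h4 : ((g ^ n : G) : G ⧸ Cfsg.pPrimeCore p G) ^ p ^ k = 1 := congrArg Subtype.val hk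
        have h5 : orderOf ((g ^ n : G) : G ⧸ Cfsg.pPrimeCore p G) ∣ orderOf g :=
          (orderOf_map_dvd (QuotientGroup.mk' _) (g ^ n)).trans (orderOf_pow_dvd n)
        rw [← orderOf_eq_one_iff]
        exact Nat.eq_one_of_dvd_coprimes (Nat.Coprime.pow_right k hgc) h5
          (orderOf_dvd_of_pow_eq_one h4)
      rw [Subgroup.mem_centralizer_iff]
      intro d hd
      have hN := pow_mem hg n
      have e1 : d * g ^ n * d⁻¹ * (g ^ n)⁻¹ ∈ Cfsg.pPrimeCore p G :=
        mul_mem ((inferInstance : (Cfsg.pPrimeCore p G).Normal).conj_mem _ h2 d) (inv_mem h2)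
      have e2 : d * g ^ n * d⁻¹ * (g ^ n)⁻¹ ∈ D := by
        rw [show d * g ^ n * d⁻¹ * (g ^ n)⁻¹ = d * (g ^ n * d⁻¹ * (g ^ n)⁻¹) by group]
        exact D.mul_mem hd ((Subgroup.mem_normalizer_iff.1 hN _).1 (D.inv_mem hd))
      have hbot : Cfsg.pPrimeCore p G ⊓ D = ⊥ :=
        PBasic.inf_eq_bot_of_coprime (PBasic.pPrimeCore_coprime p G) hD
      have := hbot ▸ (show _ ∈ Cfsg.pPrimeCore p G ⊓ D from ⟨e1, e2⟩)
      rw [Subgroup.mem_bot, mul_inv_eq_one, mul_inv_eq_iff_eq_mul] at this
      exact this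
    -- the action on the Frattini quotient
    obtain ⟨P, hP⟩ := hD.exists_le_sylow
    obtain ⟨a, ha⟩ := MulAction.exists_smul_eq G P S
    have hm : Cfsg.IsMetacyclic D := by
      obtain ⟨N₀, hN₀, hN₀c, hq₀⟩ := hS
      haveI := hN₀
      let e : (P : Subgroup G) ≃* (S : Subgroup G) :=
        (Subgroup.equivSMul (MulAut.conj a) (P : Subgroup G)).trans
          (MulEquiv.subgroupCongr (by rw [← ha, Sylow.coe_subgroup_smul]))
      have hPm : Cfsg.IsMetacyclic (P : Subgroup G) := by
        haveI hn' : (N₀.comap e.toMonoidHom).Normal := hN₀.comap _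
        refine ⟨N₀.comap e.toMonoidHom, hn', ?_, ?_⟩
        · exact isCyclic_of_injective
            ((e.toMonoidHom.comp (N₀.comap e.toMonoidHom).subtype).codRestrict N₀ fun x => x.2)
            fun x y h => Subtype.ext (e.injective (congrArg Subtype.val h))
        · exact isCyclic_of_injective
            (QuotientGroup.congr (N₀.comap e.toMonoidHom) N₀ e
              (Subgroup.map_comap_eq_self_of_surjective e.surjective N₀)).toMonoidHom (MulEquiv.injective _)
      exact OddOrder.MetacyclicAction.isMetacyclic_of_le hP hPm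
    haveI := hD.isNilpotent
    let Θ : MulAut D →* MulAut (D ⧸ frattini D) := MonoidHom.mk'
      (fun σ => QuotientGroup.congr (frattini D) (frattini D) σ (Subgroup.map_equiv_eq_comap_symm σ _ ▸
        (inferInstance : (frattini D).Characteristic).fixed σ.symm))
      (fun σ τ => by
        ext v
        obtain ⟨d, rfl⟩ := QuotientGroup.mk'_surjective _ v
        rfl)
    set σ := Θ (Subgroup.normalizerMonoidHom D ⟨g, hg⟩) with hσ
    have hσn : σ ^ n = 1 := by
      rw [hσ, ← map_pow, ← map_pow]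
      have : Subgroup.normalizerMonoidHom D ((⟨g, hg⟩ : Subgroup.normalizer (D : Set G)) ^ n) = 1 := by
        ext d
        show g ^ n * (d : G) * (g ^ n)⁻¹ = d
        rw [← Subgroup.mem_centralizer_iff.1 hgn d d.2, mul_inv_cancel_right]
      rw [this, map_one]
    have hσg : orderOf σ ∣ orderOf g :=
      (orderOf_map_dvd Θ _).trans ((orderOf_map_dvd _ _).trans (by rw [← Subgroup.orderOf_coe]))
    have hσ1 : σ = 1 := by
      by_contra h
      obtain ⟨q, hq, hqd⟩ := Nat.exists_prime_and_dvd (mt orderOf_eq_one_iff.1 h)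
      haveI := Fact.mk hq
      have hpos : 0 < orderOf σ := orderOf_pos σ
      rcases prime_dvd (hD.to_quotient _) (frattini_quotient_small hD hm) (σ ^ (orderOf σ / q))
        (orderOf_pow_orderOf_div hpos.ne' hqd) with e | e
      · exact hq.not_dvd_one (Nat.Coprime.eq_one_of_dvd (Nat.Coprime.coprime_dvd_left (hqd.trans hσg)
          (e ▸ hgc)) dvd_rfl ▸ dvd_rfl)
      · exact hq.not_dvd_one (hn ▸ Nat.dvd_gcd (hqd.trans (orderOf_dvd_of_pow_eq_one hσn)) e)
    refine CoprimeAct.le_centralizer_of_frattini (A := Subgroup.zpowers g) (K := D)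
      (Subgroup.zpowers_le.2 hg) ?_ ?_ (Subgroup.mem_zpowers g)
    · rw [Nat.card_zpowers]
      obtain ⟨k, hk⟩ := IsPGroup.iff_card.1 (hD.to_subgroup (frattini D))
      rw [hk]
      exact hgc.pow_right k
    · intro b hb k hk
      obtain ⟨i, rfl⟩ := Subgroup.mem_zpowers_iff.1 hb
      have hgi : g ^ i ∈ Subgroup.normalizer (D : Set G) := zpow_mem hg i
      have hi : Θ (Subgroup.normalizerMonoidHom D ⟨g ^ i, hgi⟩) = 1 := by
        rw [show (⟨g ^ i, hgi⟩ : Subgroup.normalizer (D : Set G)) = ⟨g, hg⟩ ^ i from Subtype.ext (by simp),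
          map_zpow, map_zpow, ← hσ, hσ1, one_zpow]
      have h3 : QuotientGroup.mk' (frattini D) (Subgroup.normalizerMonoidHom D ⟨g ^ i, hgi⟩ ⟨k, hk⟩) =
          QuotientGroup.mk' (frattini D) ⟨k, hk⟩ := by
        have := congrArg (fun f : MulAut (D ⧸ frattini D) => f (QuotientGroup.mk' (frattini D) ⟨k, hk⟩)) hi
        exact this
      rw [QuotientGroup.mk'_apply, QuotientGroup.mk'_apply, QuotientGroup.eq_iff_div_mem, div_eq_mul_inv] at h3
      exact ⟨_, h3, rfl⟩

end Cfsg.Agent.S4419
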