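import Cfsg.Statements.S4420


set_option autoImplicit false
open Cfsg

namespace Cfsg.Agent.S4420

/-- Structure of groups in which every element outside some proper subgroup has square 1. Let H be a finite group with a proper subgroup A such that every element outside A has square 1. Then H has an abelian normal subgroup B of index 2 such that every element outside B is an involution inverting every element of B; and if H is not an elementary abelian 2-group, B is the only abelian normal subgroup of index 2 with this property. -/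
theorem result {H : Type*} [Group H] [Finite H] (A : Subgroup H) (hA : A ≠ ⊤) (hD : ∀ x : H, x ∉ A → x ^ 2 = 1) :
    ∃ B : Subgroup H, B.Normal ∧ IsMulCommutative ↥B ∧ B.index = 2 ∧
      (∀ x : H, x ∉ B → x ^ 2 = 1 ∧ ∀ b ∈ B, x * b * x⁻¹ = b⁻¹) ∧
      (¬ (IsMulCommutative H ∧ ∀ x : H, x ^ 2 = 1) →
        ∀ B' : Subgroup H, B'.Normal → IsMulCommutative ↥B' → B'.index = 2 →
          (∀ x : H, x ∉ B' → x ^ 2 = 1 ∧ ∀ b ∈ B', x * b * x⁻¹ = b⁻¹) → B' = B) := by
  classical
  obtain ⟨x, hx⟩ : ∃ x, x ∉ A := by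
    by_contra h
    push Not at h
    exact hA (eq_top_iff.2 fun g _ => h g)
  have hsq : ∀ u : H, u ^ 2 = 1 → u⁻¹ = u := fun u hu => inv_eq_of_mul_eq_one_right ((pow_two u) ▸ hu)
  have hinv : ∀ z, z ∉ A → ∀ a ∈ A, z * a * z⁻¹ = a⁻¹ := by
    intro z hz a ha
    have h1 : z * a ∉ A := fun h => hz (by simpa using A.mul_mem h (A.inv_mem ha))
    have h2 := hsq _ (hD _ h1)
    rw [mul_inv_rev, hsq z (hD z hz)] at h2
    rw [← h2, hsq z (hD z hz), mul_assoc, ← pow_two, hD z hz, mul_one]
  have hAcomm : ∀ a ∈ A, ∀ b ∈ A, a * b = b * a := by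
    intro a ha b hb
    have h1 := hinv x hx (a * b) (A.mul_mem ha hb)
    rw [show x * (a * b) * x⁻¹ = (x * a * x⁻¹) * (x * b * x⁻¹) by group, hinv x hx a ha, hinv x hx b hb,
      mul_inv_rev] at h1
    have h2 := congrArg (·⁻¹) h1
    simp only [mul_inv_rev, inv_inv] at h2
    exact h2.symm
  have hmain : ∃ B : Subgroup H, B.Normal ∧ IsMulCommutative ↥B ∧ B.index = 2 ∧
      (∀ x : H, x ∉ B → x ^ 2 = 1 ∧ ∀ b ∈ B, x * b * x⁻¹ = b⁻¹) := by
    by_cases h2 : A.index = 2
    · exact ⟨A, Subgroup.normal_of_index_eq_two h2, ⟨⟨fun a b => Subtype.ext (hAcomm a a.2 b b.2)⟩⟩,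
        h2, fun z hz => ⟨hD z hz, hinv z hz⟩⟩
    -- otherwise the group is elementary abelian
    obtain ⟨y, hy, hxy⟩ : ∃ y, y ∉ A ∧ x * y ∉ A := by
      by_contra hcon
      push Not at hcon
      refine h2 (Subgroup.index_eq_two_iff.2 ⟨x, fun b => ?_⟩)
      by_cases hb : b ∈ A
      · exact Or.inr ⟨hb, fun h => hx (by simpa using A.mul_mem (A.inv_mem hb) h)⟩
      · refine Or.inl ⟨?_, hb⟩
        by_contra hbx
        have h3 := hcon _ (fun h => hbx (by simpa [hsq x (hD x hx), hsq b (hD b hb)] using A.inv_mem h) : x * b ∉ A)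
        rw [← mul_assoc, ← pow_two, hD x hx, one_mul] at h3
        exact hb h3
    have hA2 : ∀ a ∈ A, a⁻¹ = a := by
      intro a ha
      have h1 := hinv (x * y) hxy a ha
      rw [show x * y * a * (x * y)⁻¹ = x * (y * a * y⁻¹) * x⁻¹ by group, hinv y hy a ha,
        hinv x hx _ (A.inv_mem ha), inv_inv] at h1
      exact h1.symm
    have hall : ∀ u : H, u ^ 2 = 1 := fun u => by
      by_cases hu : u ∈ A
      · rw [pow_two]
        nth_rewrite 1 [← hA2 u hu]
        exact inv_mul_cancel u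
      · exact hD u hu
    have hcomm : ∀ u v : H, u * v = v * u := fun u v => by
      have := hsq _ (hall (u * v))
      rwa [mul_inv_rev, hsq u (hall u), hsq v (hall v), eq_comm] at this
    haveI : Fact (Nat.Prime 2) := ⟨Nat.prime_two⟩
    have h2g : IsPGroup 2 H := fun u => ⟨1, by simpa using hall u⟩
    obtain ⟨k, hk⟩ := IsPGroup.iff_card.1 h2g
    obtain ⟨k, rfl⟩ : ∃ j, k = j + 1 := by
      refine Nat.exists_eq_succ_of_ne_zero fun e => hA ?_
      refine Subgroup.eq_top_of_card_eq A (le_antisymm (Subgroup.card_le_card_group A) ?_)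
      rw [hk, e, pow_zero]
      exact Nat.card_pos
    obtain ⟨B, hB, -⟩ := Sylow.exists_subgroup_card_pow_prime_le 2 (hk ▸ pow_dvd_pow 2 (Nat.le_succ k))
      (⊥ : Subgroup H) (by rw [Subgroup.card_bot, pow_zero]) (Nat.zero_le k)
    refine ⟨B, ⟨fun b hb g => by rwa [hcomm g b, mul_inv_cancel_right]⟩,
      ⟨⟨fun a b => Subtype.ext (hcomm a b)⟩⟩, ?_, fun z _ => ⟨hall z, fun b _ => ?_⟩⟩
    · have := B.card_mul_index
      rw [hB, hk, pow_succ] at this
      exact Nat.eq_of_mul_eq_mul_left (pow_pos two_pos k) this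
    · rw [hcomm z b, mul_inv_cancel_right, hsq b (hall b)]
  obtain ⟨B, hBn, hBc, hBi, hBp⟩ := hmain
  refine ⟨B, hBn, hBc, hBi, hBp, fun hne B' _ hB'c hB'i hB'p => ?_⟩
  by_contra hB
  obtain ⟨z, hzB', hzB⟩ : ∃ z, z ∈ B' ∧ z ∉ B := by
    by_contra hcon
    push Not at hcon
    refine hB (Subgroup.eq_of_le_of_card_ge (fun z hz => hcon z hz) (le_of_eq ?_))
    have h1 := B'.card_mul_index
    have h2 := B.card_mul_index
    rw [hBi] at h2
    rw [hB'i] at h1
    omega
  refine hne ?_
  have hall : ∀ u : H, u ^ 2 = 1 := by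
    intro u
    by_cases hu : u ∈ B
    · by_cases hu' : u ∈ B'
      · have h1 := (hBp z hzB).2 u hu
        rw [(show z * u = u * z from congrArg Subtype.val (hB'c.is_comm.comm ⟨z, hzB'⟩ ⟨u, hu'⟩)),
          mul_inv_cancel_right] at h1
        rw [pow_two]
        nth_rewrite 1 [h1]
        exact inv_mul_cancel u
      · exact (hB'p u hu').1
    · exact (hBp u hu).1
  exact ⟨⟨⟨fun u v => by
    have := hsq _ (hall (u * v))
    rwa [mul_inv_rev, hsq u (hall u), hsq v (hall v), eq_comm] at this⟩⟩, hall⟩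

end Cfsg.Agent.S4420
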