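import Cfsg.Statements.S4421


set_option autoImplicit false
open Cfsg

namespace Cfsg.Agent.S4421

/-- A factorization of a normalizer from two-step control of fusion. Let `G` be a finite group and `A ≤ S ≤ H` subgroups of `G` such that: (i) `S` controls the `G`-fusion of `A` in the sense that every `G`-conjugate of `A` lying in `S` is an `S`-conjugate of `A`; (ii) `H` controls the `G`-fusion of `S` in the same sense; (iii) every conjugate of `S` by an element of the normalizer of `A` lies in `H`. Then `N_G(A) = N_H(A) · (N_G(S) ∩ N_G(A))`: every element of the normalizer of `A` is a product of an element of `H` normalizing `A` and an element normalizing both `S` and `A`. -/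
theorem result {G : Type*} [Group G] [Finite G] (A S H : Subgroup G)
    (hAS : A ≤ S) (hSH : S ≤ H)
    (h1 : ∀ g : G, A.map (MulAut.conj g).toMonoidHom ≤ S → ∃ s ∈ S, A.map (MulAut.conj g).toMonoidHom = A.map (MulAut.conj s).toMonoidHom)
    (h2 : ∀ g : G, S.map (MulAut.conj g).toMonoidHom ≤ H → ∃ y ∈ H, S.map (MulAut.conj g).toMonoidHom = S.map (MulAut.conj y).toMonoidHom)
    (h3 : ∀ x ∈ Subgroup.normalizer (A : Set G), S.map (MulAut.conj x).toMonoidHom ≤ H) :
    ∀ x ∈ Subgroup.normalizer (A : Set G), ∃ y ∈ H ⊓ Subgroup.normalizer (A : Set G),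
      ∃ z ∈ Subgroup.normalizer (S : Set G) ⊓ Subgroup.normalizer (A : Set G), x = y * z := by
  intro x hx
  obtain ⟨y, hy, hSy⟩ := h2 x (h3 x hx)
  -- n := y⁻¹ x normalizes S
  have hn : y⁻¹ * x ∈ Subgroup.normalizer (S : Set G) := by
    rw [Subgroup.mem_normalizer_iff]
    intro s
    have key : ∀ g : G, ∀ t, t ∈ S.map (MulAut.conj g).toMonoidHom ↔ g⁻¹ * t * g ∈ S := by
      intro g t
      constructor
      · rintro ⟨u, hu, rfl⟩; simpa [mul_assoc] using hu
      · intro h; exact ⟨_, h, by simp [mul_assoc]⟩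
    constructor
    · intro hs
      have : x * s * x⁻¹ ∈ S.map (MulAut.conj x).toMonoidHom := ⟨s, hs, by simp⟩
      rw [hSy, key] at this
      simpa [mul_assoc] using this
    · intro hs
      have : x * s * x⁻¹ ∈ S.map (MulAut.conj y).toMonoidHom :=
        ⟨_, hs, by simp [mul_assoc]⟩
      rw [← hSy, key] at this
      simpa [mul_assoc] using this
  set n := y⁻¹ * x with hndef
  have hAn : A.map (MulAut.conj n).toMonoidHom ≤ S := by
    rintro _ ⟨a, ha, rfl⟩
    simpa using (Subgroup.mem_normalizer_iff.1 hn a).1 (hAS ha)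
  obtain ⟨s, hs, hAs⟩ := h1 n hAn
  have hs' : s⁻¹ * n ∈ Subgroup.normalizer (A : Set G) := by
    rw [Subgroup.mem_normalizer_iff]
    intro a
    have key : ∀ g : G, ∀ t, t ∈ A.map (MulAut.conj g).toMonoidHom ↔ g⁻¹ * t * g ∈ A := by
      intro g t
      constructor
      · rintro ⟨u, hu, rfl⟩; simpa [mul_assoc] using hu
      · intro h; exact ⟨_, h, by simp [mul_assoc]⟩
    constructor
    · intro ha
      have : n * a * n⁻¹ ∈ A.map (MulAut.conj n).toMonoidHom := ⟨a, ha, by simp⟩
      rw [hAs, key] at this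
      simpa [mul_assoc] using this
    · intro ha
      have : n * a * n⁻¹ ∈ A.map (MulAut.conj s).toMonoidHom := ⟨_, ha, by simp [mul_assoc]⟩
      rw [← hAs, key] at this
      simpa [mul_assoc] using this
  refine ⟨y * s, ⟨mul_mem hy (hSH hs), ?_⟩, s⁻¹ * n, ⟨Subgroup.mul_mem _ (Subgroup.inv_mem _ (Subgroup.le_normalizer hs)) hn, hs'⟩, ?_⟩
  · have : y * s = x * (s⁻¹ * n)⁻¹ := by rw [hndef]; group
    rw [this]
    exact Subgroup.mul_mem _ hx (Subgroup.inv_mem _ hs')
  · rw [hndef]; group

end Cfsg.Agent.S4421
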