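import Cfsg.Statements.S4422
import Mathlib.FieldTheory.Finite.Basic
import Mathlib.Data.Nat.Factorization.Induction

set_option autoImplicit false
open Cfsg

namespace Cfsg.Agent.S4422

/-- Primitive divisors of `q^e - 1` are congruent to 1 modulo `e`. Let `q ≥ 2` and `e ≥ 1` be natural numbers and let `m` be a divisor of `q^e - 1` that is coprime to `q^i - 1` for every `1 ≤ i < e` (so `m` divides the primitive part of `q^e - 1`, the largest such divisor). Then `m ≡ 1 (mod e)`. -/
theorem result (q e m : ℕ) (hq : 2 ≤ q) (he : 1 ≤ e)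
    (hm : m ∣ q ^ e - 1) (hcop : ∀ i : ℕ, 1 ≤ i → i < e → Nat.Coprime m (q ^ i - 1)) :
    m % e = 1 % e := by
  have hm0 : m ≠ 0 := by
    rintro rfl
    have h1 : 2 ^ e ≤ q ^ e := Nat.pow_le_pow_left hq e
    have h2 : 2 ^ 1 ≤ 2 ^ e := Nat.pow_le_pow_right (by norm_num) he
    have := zero_dvd_iff.1 hm
    omega
  have key : ∀ r : ℕ, r.Prime → r ∣ m → r ≡ 1 [MOD e] := by
    intro r hr hrm
    haveI := Fact.mk hr
    have hpow : ∀ i, r ∣ q ^ i - 1 ↔ (q : ZMod r) ^ i = 1 := by
      intro i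
      rw [← Nat.modEq_iff_dvd' (Nat.one_le_pow _ _ (by omega)), ← ZMod.natCast_eq_natCast_iff]
      simp [eq_comm]
    have h1 : (q : ZMod r) ^ e = 1 := (hpow e).1 (hrm.trans hm)
    have hq0 : (q : ZMod r) ≠ 0 := fun h0 => by
      rw [h0, zero_pow (by omega)] at h1
      exact zero_ne_one h1
    have hord : orderOf (q : ZMod r) = e := by
      refine (orderOf_eq_iff he).2 ⟨h1, fun i hi hi0 hcon => ?_⟩
      exact hr.not_dvd_one ((hcop i hi0 hi).gcd_eq_one ▸ Nat.dvd_gcd hrm ((hpow i).2 hcon))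
    have hdvd := ZMod.orderOf_dvd_card_sub_one hq0
    rw [hord] at hdvd
    exact ((Nat.modEq_iff_dvd' hr.one_le).2 hdvd).symm
  have main : ∀ k : ℕ, k ≠ 0 → (∀ r : ℕ, r.Prime → r ∣ k → r ≡ 1 [MOD e]) → k ≡ 1 [MOD e] := by
    intro k
    induction k using Nat.recOnMul with
    | zero => intro h; exact absurd rfl h
    | one => intro _ _; rfl
    | prime r hr => intro _ h; exact h r hr dvd_rfl
    | mul a b iha ihb =>
      intro hab h
      have ha := iha (left_ne_zero_of_mul hab) fun r hr hd => h r hr (hd.mul_right b)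
      have hb := ihb (right_ne_zero_of_mul hab) fun r hr hd => h r hr (hd.mul_left a)
      simpa using ha.mul hb
  exact main m hm0 key

end Cfsg.Agent.S4422
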