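import Cfsg.Statements.S4442
import Cfsg.Agent.Lib.DefOne.Inflate

set_option autoImplicit false
open Cfsg

namespace Cfsg.Agent.S4442

/-- Blocks of defect one. Let p be an odd prime and G a finite group whose Sylow p-subgroup P has order p; let C = C_G(P) and N = N_G(P), and fix a maximal ideal M of the algebraic integers containing p. Let B be a block of G with defect group P, b a block of C inducing B, and θ the member of b having P in its kernel (there is exactly one). Let T be the stabilizer of θ in N (the elements g ∈ N with θ(g c g⁻¹) = θ(c) for all c ∈ C) and e the index of C in T. Then e divides p − 1 and B contains exactly e + (p − 1)/e irreducible characters. Moreover B is the disjoint union of a set X of e characters and a set Y of (p − 1)/e characters such that, with f the index of C in N: every χ ∈ X has χ(1) ≡ ±(f/e)·θ(1) (mod p), there is one sign ε with ψ(1) ≡ ε f θ(1) (mod p) for all ψ ∈ Y, and all members of Y agree on the p-regular elements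 of G. -/
theorem result {G : Type*} [Group G] [Finite G] (p : ℕ) [Fact p.Prime] (M : Ideal Cfsg.AlgInt) (hM : Cfsg.IsPModular p M) (hodd : p ≠ 2) (P : Sylow p G) (hP : Nat.card P = p) (B : Set (Cfsg.IrrCharacter G)) (hB : Cfsg.IsPBlock M B) (hBP : Cfsg.IsDefectGroup p M B P) (b : Set (Cfsg.IrrCharacter (Subgroup.centralizer ((P : Subgroup G) : Set G)))) (hind : Cfsg.IsInducedBlock M (Subgroup.centralizer ((P : Subgroup G) : Set G)) b B) (θ : Cfsg.IrrCharacter (Subgroup.centralizer ((P : Subgroup G) : Set G))) (hθ : θ ∈ b) (hθP : ∀ x : Subgroup.centralizer ((P : Subgroup G) : Set G), (x : G) ∈ (P : Subgroup G) → (θ : Subgroup.centralizer ((P : Subgroup G) : Set G) → ℂ) x = (θ : Subgroup.centralizer ((P : Subgroup G) : Set G) → ℂ) 1) (T : Subgroup G) (hT : ∀ g : G, g ∈ T ↔ (g ∈ Subgroup.normalizer ((P : Subgroup G) : Set G) ∧ ∀ c c' : Subgroup.centralizer ((P : Subgroup G) : Set G), (c' : G) = g * c * g⁻¹ → (θ : Subgroup.centralizer ((P : Subgroup G) : Set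 G) → ℂ) c' = (θ : Subgroup.centralizer ((P : Subgroup G) : Set G) → ℂ) c)) (e f : ℕ) (he : (Subgroup.centralizer ((P : Subgroup G) : Set G)).relIndex T = e) (hf : (Subgroup.centralizer ((P : Subgroup G) : Set G)).relIndex (Subgroup.normalizer ((P : Subgroup G) : Set G)) = f) : e ∣ p - 1 ∧ Nat.card B = e + (p - 1) / e ∧ ∃ X Y : Set (Cfsg.IrrCharacter G), B = X ∪ Y ∧ Disjoint X Y ∧ Nat.card X = e ∧ Nat.card Y = (p - 1) / e ∧ (∀ χ ∈ X, (Cfsg.charDegree (χ : G → ℂ) : ℤ) ≡ ((f / e * Cfsg.charDegree (θ : Subgroup.centralizer ((P : Subgroup G) : Set G) → ℂ) : ℕ) : ℤ) [ZMOD p] ∨ (Cfsg.charDegree (χ : G → ℂ) : ℤ) ≡ -((f / e * Cfsg.charDegree (θ : Subgroup.centralizer ((P : Subgroup G) : Set G) → ℂ) : ℕ) : ℤ) [ZMOD p]) ∧ (∃ ε : ℤ, (ε = 1 ∨ ε = -1) ∧ ∀ ψ ∈ Y, (Cfsg.charDegree (ψ : G → ℂ) : ℤ) ≡ ε * ((f * Cfsg.charDegree (θ : Subgroup.centralizer ((P : Subgroup G) : Set G) → ℂ) : ℕ) : ℤ) [ZMOD p]) ∧ ∀ ψ ∈ Y, ∀ ψ' ∈ Y, ∀ g : G, ¬ p ∣ orderOf g → (ψ : G → ℂ) g = (ψ' :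 G → ℂ) g := by
  classical
  have hp : p.Prime := Fact.out
  haveI := Agent.Blocks.IsPModular.isPrime hM
  haveI : Fintype G := Fintype.ofFinite G
  obtain ⟨V, e', K, he'⟩ := Agent.DefOne.exists_conf hp P hP
  have hef : e' = f := he'.trans hf
  haveI : Fintype (P : Subgroup G) := Fintype.ofFinite _
  haveI : Fintype V := Fintype.ofFinite _
  haveI : Fintype (Subgroup.normalizer ((P : Subgroup G) : Set G)) := Fintype.ofFinite _
  haveI : Fintype ((P : Subgroup G) →* ℂˣ) := Fintype.ofFinite _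
  haveI : Fintype (Subgroup.centralizer ((P : Subgroup G) : Set G)) := Fintype.ofFinite _
  obtain ⟨β, rfl⟩ := Agent.DefOne.exists_eq_thetaC K rfl θ hθP
  obtain ⟨eb, X, Y, δ, sg, F⟩ := Agent.DefOne.exists_families K hM β
  have hYne : ∃ χ, Agent.DefOne.InR K χ β :=
    F.nonempty.elim fun χ hχ => ⟨χ, (Agent.DefOne.mem_iff_inR K F χ).1 (Or.inr hχ)⟩
  obtain ⟨χ0, hχ0⟩ := hYne
  have hb : b = blockOf M (Agent.DefOne.thetaC K rfl β :
      Subgroup.centralizer ((P : Subgroup G) : Set G) → ℂ) :=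
    Agent.Blocks.isPBlock_eq_blockOf hind.1 hθ
  have hBset : B = ↑X ∪ ↑Y := by
    have h := Agent.Blocks.isInducedBlock_unique hind
      (hb ▸ Agent.DefOne.induced_of_inR K hM rfl hχ0)
    rw [h, Agent.DefOne.block_eq K hM hχ0]
    ext ψ
    simp only [Set.mem_union, Finset.mem_coe, Set.mem_ofPred_eq]
    exact (Agent.DefOne.mem_iff_inR K F ψ).symm
  have hTs : T = Agent.DefOne.stabB K β := by
    ext g
    rw [hT, Agent.DefOne.mem_stabB_iff K rfl]
  have heb : eb = e := by
    have hle : Subgroup.centralizer ((P : Subgroup G) : Set G) ≤ T :=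
      hTs ▸ Agent.DefOne.centralizer_le_stabB K β
    have h := Subgroup.card_mul_index ((Subgroup.centralizer ((P : Subgroup G) : Set G)).subgroupOf T)
    rw [Nat.card_congr (Subgroup.subgroupOfEquivOfLe hle).toEquiv, Agent.DefOne.card_centralizer K,
      show Nat.card T = eb * (p * Nat.card V) by rw [hTs, F.card_stab], mul_comm eb] at h
    exact (Nat.eq_of_mul_eq_mul_left (Nat.mul_pos hp.pos Nat.card_pos) h).symm.trans he
  have horb : (Agent.DefOne.orbB K β).card * e = f := by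
    have h := Agent.DefOne.card_orbB K β
    rw [F.card_stab, K.D.hcard, K.hP, ← mul_assoc, heb] at h
    exact (Nat.eq_of_mul_eq_mul_right (Nat.mul_pos hp.pos Nat.card_pos) h).trans hef
  have he0 : 0 < e := heb ▸ Agent.DefOne.Families.eb_pos K F
  have hfe : f / e = (Agent.DefOne.orbB K β).card := by rw [← horb, Nat.mul_div_cancel _ he0]
  have hdegθ : charDegree (Agent.DefOne.thetaC K rfl β :
      Subgroup.centralizer ((P : Subgroup G) : Set G) → ℂ) = charDegree (β : V → ℂ) := by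
    show ⌊((β : V → ℂ) (Agent.DefOne.prV K rfl 1)).re⌋₊ = _
    rw [map_one]
    rfl
  have hmem : ∀ ψ, ψ ∈ X ∨ ψ ∈ Y → Agent.DefOne.InR K ψ β := fun ψ h =>
    (Agent.DefOne.mem_iff_inR K F ψ).1 h
  refine ⟨heb ▸ Agent.DefOne.Families.eb_dvd K F, ?_, ↑X, ↑Y, hBset, Finset.disjoint_coe.2 F.disj,
    by simp [F.cardX, heb], by simp [Agent.DefOne.Families.card_Y K F, heb], fun χ hχ => ?_,
    ⟨-δ, by have := F.sign; omega, fun ψ hψ => ?_⟩,
    fun ψ hψ ψ' hψ' g hg => Agent.DefOne.Families.agree K F hψ hψ' hg⟩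
  · rw [hBset, ← Finset.coe_union, Nat.card_coe_set_eq, Set.ncard_coe_finset,
      Finset.card_union_of_disjoint F.disj, F.cardX, Agent.DefOne.Families.card_Y K F, heb]
  · have h := Agent.DefOne.degree_congr' K hM (hmem χ (Or.inl hχ))
    rw [Agent.DefOne.Families.sum_X K F hχ] at h
    rw [hdegθ, hfe]
    push_cast
    have h2 : (charDegree (χ : G → ℂ) : ℤ) ≡
        sg χ * ((Agent.DefOne.orbB K β).card * charDegree (β : V → ℂ)) [ZMOD p] :=
      h.trans (Int.modEq_iff_dvd.2
        ⟨sg χ * ((Agent.DefOne.orbB K β).card * charDegree (β : V → ℂ)), by ring⟩)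
    rcases F.signX χ hχ with e1 | e1 <;> rw [e1] at h2
    · exact Or.inl (by simpa using h2)
    · exact Or.inr (by simpa using h2)
  · have h := Agent.DefOne.degree_congr' K hM (hmem ψ (Or.inr hψ))
    rw [F.sumY ψ hψ, heb] at h
    rw [hdegθ, ← horb]
    refine h.trans (Int.modEq_iff_dvd.2 ⟨0, ?_⟩)
    push_cast
    ring

end Cfsg.Agent.S4442
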