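import Cfsg.Statements.S4444
import Cfsg.Agent.Lib.Char.GlaubermanMod
-- import your own Cfsg.Agent.* helpers here

set_option autoImplicit false
open Cfsg

namespace Cfsg.Agent.S4444

/-- The Glauberman correspondence for a p-group of operators. Inside a finite group Γ let S normalise G with the orders of G and S coprime, S a p-group, and let C = G ⊓ C(S) be the fixed points. Call an irreducible character χ of G S-invariant when χ(s g s⁻¹) = χ(g) for s ∈ S, g ∈ G. Then: (i) for every S-invariant χ there is exactly one irreducible character β of C whose multiplicity [χ_C, β] in the restriction of χ is not divisible by p; (ii) that multiplicity is ≡ 1 or ≡ −1 (mod p); (iii) distinct S-invariant χ give distinct β; (iv) every irreducible character of C arises in this way. So χ ↦ β is a bijection from the S-invariant irreducible characters of G onto the irreducible characters of C. -/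
theorem result {Γ : Type*} [Group Γ] [Fintype Γ] (G S : Subgroup Γ) [Fintype G] (hnorm : ∀ s ∈ S, ∀ g ∈ G, s * g * s⁻¹ ∈ G) (hcop : (Nat.card G).Coprime (Nat.card S)) (p : ℕ) (hp : p.Prime) (hS : IsPGroup p S) (C : Subgroup Γ) [Fintype C] (hC : C = G ⊓ Subgroup.centralizer (S : Set Γ)) (hCG : C ≤ G) : (∀ χ : Cfsg.IrrCharacter G, (∀ s ∈ S, ∀ g g' : G, (g' : Γ) = s * g * s⁻¹ → (χ : G → ℂ) g' = (χ : G → ℂ) g) → ∃! β : Cfsg.IrrCharacter C, ∃ m : ℕ, Cfsg.classInner (fun c : C => (χ : G → ℂ) ⟨c, hCG c.2⟩) (β : C → ℂ) = (m : ℂ) ∧ ¬ p ∣ m) ∧ (∀ χ : Cfsg.IrrCharacter G, (∀ s ∈ S, ∀ g g' : G, (g' : Γ) = s * g * s⁻¹ → (χ : G → ℂ) g' = (χ : G → ℂ) g) → ∀ β : Cfsg.IrrCharacter C, ∀ m : ℕ, Cfsg.classInner (fun c : C => (χ : G → ℂ) ⟨c, hCG c.2⟩) (β : C → ℂ) = (m : ℂ) → ¬ p ∣ m → ((m : ℤ) ≡ 1 [ZMOD p] ∨ (m : ℤ) ≡ -1 [ZMOD p])) ∧ (∀ χ χ' : Cfsg.IrrCharacter G, (∀ s ∈ S, ∀ g g' : G, (g' : Γ) = s * g * s⁻¹ → (χ : G →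 ℂ) g' = (χ : G → ℂ) g) → (∀ s ∈ S, ∀ g g' : G, (g' : Γ) = s * g * s⁻¹ → (χ' : G → ℂ) g' = (χ' : G → ℂ) g) → ∀ β : Cfsg.IrrCharacter C, ∀ m m' : ℕ, Cfsg.classInner (fun c : C => (χ : G → ℂ) ⟨c, hCG c.2⟩) (β : C → ℂ) = (m : ℂ) → ¬ p ∣ m → Cfsg.classInner (fun c : C => (χ' : G → ℂ) ⟨c, hCG c.2⟩) (β : C → ℂ) = (m' : ℂ) → ¬ p ∣ m' → χ = χ') ∧ (∀ β : Cfsg.IrrCharacter C, ∃ χ : Cfsg.IrrCharacter G, (∀ s ∈ S, ∀ g g' : G, (g' : Γ) = s * g * s⁻¹ → (χ : G → ℂ) g' = (χ : G → ℂ) g) ∧ ∃ m : ℕ, Cfsg.classInner (fun c : C => (χ : G → ℂ) ⟨c, hCG c.2⟩) (β : C → ℂ) = (m : ℂ) ∧ ¬ p ∣ m) := by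
  classical
  haveI := Fact.mk hp
  haveI : Fintype (G : Subgroup Γ) := Fintype.ofFinite _
  have hSN : S ≤ Subgroup.normalizer (G : Set Γ) := fun s hs => by
    refine Subgroup.mem_normalizer_iff.2 fun g => ⟨hnorm s hs g, fun h => ?_⟩
    simpa [mul_assoc] using hnorm s⁻¹ (S.inv_mem hs) _ h
  let φ : S →* MulAut G := G.normalizerMonoidHom.comp (Subgroup.inclusion hSN)
  have hφ : ∀ (u : S) (g : G), ((φ u g : G) : Γ) = (u : Γ) * g * (u : Γ)⁻¹ := fun _ _ => rfl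
  have hinv : ∀ f : G → ℂ, Cfsg.Agent.GlaubermanMod.IsInv φ f ↔
      ∀ s ∈ S, ∀ g g' : G, (g' : Γ) = s * g * s⁻¹ → f g' = f g := by
    intro f
    refine ⟨fun h s hs g g' he => ?_, fun h u g => h u u.2 g _ (hφ u g)⟩
    rw [show g' = φ ⟨s, hs⟩ g from Subtype.ext (he.trans (hφ ⟨s, hs⟩ g).symm)]
    exact h _ _
  let F := Cfsg.Agent.GlaubermanMod.fixedSub φ
  haveI : Fintype F := Fintype.ofFinite _
  have hfix : ∀ g : G, g ∈ F ↔ (g : Γ) ∈ C := by
    intro g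
    rw [hC, Subgroup.mem_inf, Subgroup.mem_centralizer_iff]
    refine ⟨fun h => ⟨g.2, fun s hs => ?_⟩, fun h u => Subtype.ext ?_⟩
    · have := congrArg Subtype.val (h ⟨s, hs⟩)
      rw [hφ] at this
      exact mul_inv_eq_iff_eq_mul.1 this
    · rw [hφ, h.2 u u.2, mul_inv_cancel_right]
  let e : F ≃* C :=
    { toFun := fun c => ⟨((c : G) : Γ), (hfix c.1).1 c.2⟩
      invFun := fun c => ⟨⟨c, hCG c.2⟩, (hfix _).2 c.2⟩
      left_inv := fun c => rfl
      right_inv := fun c => rfl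
      map_mul' := fun a b => rfl }
  let down : Cfsg.IrrCharacter C → Cfsg.IrrCharacter F := fun β =>
    ⟨_, Cfsg.Agent.Char.IsIrrCharacter.comp β.2 e.toMonoidHom e.surjective⟩
  let up : Cfsg.IrrCharacter F → Cfsg.IrrCharacter C := fun γ =>
    ⟨_, Cfsg.Agent.Char.IsIrrCharacter.comp γ.2 e.symm.toMonoidHom e.symm.surjective⟩
  have hdu : ∀ γ, down (up γ) = γ := fun γ => Subtype.ext (funext fun c => rfl)
  have hud : ∀ β, up (down β) = β := fun β => Subtype.ext (funext fun c => rfl)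
  have hval : ∀ (χ : Cfsg.IrrCharacter G) (β : Cfsg.IrrCharacter C),
      Cfsg.classInner (fun c : C => (χ : G → ℂ) ⟨c, hCG c.2⟩) (β : C → ℂ) =
        (Cfsg.Agent.GlaubermanMod.mult φ χ (down β) : ℂ) := by
    intro χ β
    rw [← Cfsg.Agent.GlaubermanMod.classInner_resC]
    unfold Cfsg.classInner
    rw [Nat.card_congr e.toEquiv]
    congr 1
    exact (Fintype.sum_equiv e.toEquiv _ _ fun c => rfl).symm
  have hm : ∀ (χ : Cfsg.IrrCharacter G) (β : Cfsg.IrrCharacter C) (m : ℕ),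
      Cfsg.classInner (fun c : C => (χ : G → ℂ) ⟨c, hCG c.2⟩) (β : C → ℂ) = (m : ℂ) ↔
        m = Cfsg.Agent.GlaubermanMod.mult φ χ (down β) := fun χ β m => by
    rw [hval, Nat.cast_inj, eq_comm]
  -- the three facts
  suffices main : (∀ χ : Cfsg.IrrCharacter G, Cfsg.Agent.GlaubermanMod.IsInv φ (χ : G → ℂ) →
      ∃ γ : Cfsg.IrrCharacter F,
        ((Cfsg.Agent.GlaubermanMod.mult φ χ γ : ZMod p) = 1 ∨
          (Cfsg.Agent.GlaubermanMod.mult φ χ γ : ZMod p) = -1) ∧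
        ∀ γ', γ' ≠ γ → p ∣ Cfsg.Agent.GlaubermanMod.mult φ χ γ') ∧
      (∀ γ : Cfsg.IrrCharacter F, ∃ χ : Cfsg.IrrCharacter G,
        Cfsg.Agent.GlaubermanMod.IsInv φ (χ : G → ℂ) ∧
          ¬ p ∣ Cfsg.Agent.GlaubermanMod.mult φ χ γ) ∧
      (∀ χ χ' : Cfsg.IrrCharacter G, Cfsg.Agent.GlaubermanMod.IsInv φ (χ : G → ℂ) →
        Cfsg.Agent.GlaubermanMod.IsInv φ (χ' : G → ℂ) → ∀ γ,
        ¬ p ∣ Cfsg.Agent.GlaubermanMod.mult φ χ γ → ¬ p ∣ Cfsg.Agent.GlaubermanMod.mult φ χ' γ →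
        χ = χ') by
    obtain ⟨h1, h2, h3⟩ := main
    have hnd : ∀ {m : ℕ}, ((m : ZMod p) = 1 ∨ (m : ZMod p) = -1) → ¬ p ∣ m := fun {m} h hd => by
      rw [← ZMod.natCast_eq_zero_iff] at hd
      rcases h with h | h <;> simp [hd] at h
    refine ⟨fun χ hχ => ?_, fun χ hχ β m hm1 hm2 => ?_, fun χ χ' hχ hχ' β m m' a b a' b' => ?_,
      fun β => ?_⟩
    · obtain ⟨γ, hγ1, hγ2⟩ := h1 χ ((hinv _).2 hχ)
      refine ⟨up γ, ⟨_, (hm _ _ _).2 rfl, by rw [hdu]; exact hnd hγ1⟩, ?_⟩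
      rintro β ⟨m, hm1, hm2⟩
      rw [hm] at hm1
      rw [← hud β]
      congr 1
      by_contra hne
      exact hm2 (hm1 ▸ hγ2 _ hne)
    · obtain ⟨γ, hγ1, hγ2⟩ := h1 χ ((hinv _).2 hχ)
      rw [hm] at hm1
      have hγ : down β = γ := by
        by_contra hne
        exact hm2 (hm1 ▸ hγ2 _ hne)
      rw [← hγ, ← hm1] at hγ1
      refine hγ1.imp (fun h => ?_) fun h => ?_ <;> rw [← ZMod.intCast_eq_intCast_iff] <;>
        push_cast <;> exact h
    · rw [hm] at a a'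
      exact h3 χ χ' ((hinv _).2 hχ) ((hinv _).2 hχ') (down β) (a ▸ b) (a' ▸ b')
    · obtain ⟨χ, hχ, hd⟩ := h2 (down β)
      exact ⟨χ, (hinv _).1 hχ, _, (hm _ _ _).2 rfl, hd⟩
  by_cases hpG : p ∣ Nat.card G
  · have hS1 : S = ⊥ := by
      obtain ⟨k, hk⟩ := IsPGroup.iff_card.1 hS
      refine Subgroup.eq_bot_of_card_eq _ ?_
      have hc := Nat.Coprime.coprime_dvd_left hpG hcop
      rw [hk] at hc ⊢
      rcases Nat.eq_zero_or_pos k with h0 | h0
      · rw [h0, pow_zero]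
      · exact absurd ((Nat.coprime_pow_right_iff h0 p p).1 hc)
          (by rw [Nat.coprime_self]; exact hp.ne_one)
    have htriv : ∀ g : G, g ∈ F := fun g u => by
      have : u = 1 := Subtype.ext (Subgroup.mem_bot.1 (hS1 ▸ u.2))
      rw [this, map_one]; rfl
    let i : G ≃* F :=
      { toFun := fun g => ⟨g, htriv g⟩
        invFun := fun c => c
        left_inv := fun g => rfl
        right_inv := fun c => rfl
        map_mul' := fun a b => rfl }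
    have hI : ∀ χ : Cfsg.IrrCharacter G, Cfsg.Agent.GlaubermanMod.IsInv φ (χ : G → ℂ) :=
      fun χ u g => by rw [show φ u g = g from htriv g u]
    have hres : ∀ χ : Cfsg.IrrCharacter G,
        Cfsg.IsIrrCharacter F (Cfsg.Agent.GlaubermanMod.resC φ (χ : G → ℂ)) := fun χ =>
      Cfsg.Agent.Char.IsIrrCharacter.comp χ.2 i.symm.toMonoidHom i.symm.surjective
    have hmult : ∀ (χ : Cfsg.IrrCharacter G) (γ : Cfsg.IrrCharacter F),
        Cfsg.Agent.GlaubermanMod.mult φ χ γ =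
          if Cfsg.Agent.GlaubermanMod.resC φ (χ : G → ℂ) = (γ : F → ℂ) then 1 else 0 := by
      intro χ γ
      have h := Cfsg.Agent.GlaubermanMod.classInner_resC φ χ γ
      rw [Cfsg.Agent.Char.classInner_irr (hres χ) γ.2] at h
      apply Nat.cast_injective (R := ℂ)
      rw [← h]
      split_ifs <;> simp
    refine ⟨fun χ _ => ⟨⟨_, hres χ⟩, Or.inl (by rw [hmult, if_pos rfl, Nat.cast_one]),
      fun γ' hne => ?_⟩, fun γ => ?_, fun χ χ' _ _ γ h h' => ?_⟩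
    · rw [hmult, if_neg fun h => hne (Subtype.ext h.symm)]
      exact dvd_zero p
    · refine ⟨⟨_, Cfsg.Agent.Char.IsIrrCharacter.comp γ.2 i.toMonoidHom i.surjective⟩, hI _, ?_⟩
      rw [hmult, if_pos]
      swap
      · exact funext fun c => rfl
      exact hp.not_dvd_one
    · rw [hmult] at h h'
      have e1 : Cfsg.Agent.GlaubermanMod.resC φ (χ : G → ℂ) = (γ : F → ℂ) := by
        by_contra hn
        rw [if_neg hn] at h
        exact h (dvd_zero p)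
      have e2 : Cfsg.Agent.GlaubermanMod.resC φ (χ' : G → ℂ) = (γ : F → ℂ) := by
        by_contra hn
        rw [if_neg hn] at h'
        exact h' (dvd_zero p)
      exact Subtype.ext (funext fun g => congrFun (e1.trans e2.symm) ⟨g, htriv g⟩)
  · exact ⟨fun χ hχ => Cfsg.Agent.GlaubermanMod.exists_unique_constituent φ hS hpG χ hχ,
      fun γ => Cfsg.Agent.GlaubermanMod.exists_over φ hS hpG γ,
      fun χ χ' hχ hχ' γ h h' => Cfsg.Agent.GlaubermanMod.eq_of_common φ hS hpG hχ hχ' h h'⟩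

end Cfsg.Agent.S4444
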