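import Cfsg.Statements.S4445
import Cfsg.Agent.Lib.Char.CoprimeCount

set_option autoImplicit false
open Cfsg

namespace Cfsg.Agent.S4445

/-- Inside a finite group Γ let the solvable subgroup S normalise G with the orders of G and S coprime. Then the number of S-invariant irreducible characters of G (χ(s g s⁻¹) = χ(g) for all s ∈ S, g ∈ G) equals the number of conjugacy classes of G mapped to themselves by conjugation by every element of S. -/
theorem result {Γ : Type*} [Group Γ] [Fintype Γ] (G S : Subgroup Γ) [Fintype G] (hnorm : ∀ s ∈ S, ∀ g ∈ G, s * g * s⁻¹ ∈ G) (hcop : (Nat.card G).Coprime (Nat.card S)) (hsolv : Group.IsSolvable S) : Nat.card {χ : Cfsg.IrrCharacter G // (∀ s ∈ S, ∀ g g' : G, (g' : Γ) = s * g * s⁻¹ → (χ : G → ℂ) g' = (χ : G → ℂ) g)} = Nat.card {K : ConjClasses G // ∀ s ∈ S, ∀ g g' : G, (g' : Γ) = s * g * s⁻¹ → ConjClasses.mk g = K → ConjClasses.mk g' = K} := by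
  classical
  have hSN : S ≤ Subgroup.normalizer (G : Set Γ) := fun s hs => by
    refine Subgroup.mem_normalizer_iff.2 fun g => ⟨hnorm s hs g, fun h => ?_⟩
    simpa [mul_assoc] using hnorm s⁻¹ (S.inv_mem hs) _ h
  let φ : S →* MulAut G := G.normalizerMonoidHom.comp (Subgroup.inclusion hSN)
  have hφ : ∀ (u : S) (g : G), ((φ u g : G) : Γ) = (u : Γ) * g * (u : Γ)⁻¹ := fun _ _ => rfl
  have h := Cfsg.Agent.CoprimeCount.card_inv_irr _ G S φ rfl hsolv hcop
  refine ((Nat.card_congr (Equiv.subtypeEquivRight fun χ => ?_)).trans h).trans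
    (Nat.card_congr (Equiv.subtypeEquivRight fun c => ?_))
  · refine ⟨fun h u g => h u u.2 g _ (hφ u g), fun h s hs g g' he => ?_⟩
    rw [show g' = φ ⟨s, hs⟩ g from Subtype.ext (he.trans (hφ ⟨s, hs⟩ g).symm)]
    exact h _ _
  · refine ⟨fun h s hs g g' he hg => ?_, fun h u g hg => h u u.2 g _ (hφ u g) hg⟩
    rw [show g' = φ ⟨s, hs⟩ g from Subtype.ext (he.trans (hφ ⟨s, hs⟩ g).symm)]
    exact h _ _ hg

end Cfsg.Agent.S4445
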