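import Cfsg.Statements.S4446
import Cfsg.Agent.Lib.Char.GlaubermanFpf

set_option autoImplicit false
open Cfsg

namespace Cfsg.Agent.S4446

/-- Let the finite group Γ be generated by a normal subgroup G and a cyclic subgroup S of coprime orders, C = G ⊓ C(S), and let χ be an S-invariant irreducible character of G with canonical extension χ̂ to Γ (the extension whose determinantal order is coprime to the order of S). Then there are exactly one irreducible character β of C and one sign ε such that χ̂(c s) = ε β(c) for every c ∈ C and every generator s of S; this β is a constituent of the restriction of χ to C; distinct S-invariant χ give distinct β; and every irreducible character of C arises in this way. -/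
theorem result {Γ : Type*} [Group Γ] [Fintype Γ] (G S : Subgroup Γ) [Fintype G] (hnorm : ∀ s ∈ S, ∀ g ∈ G, s * g * s⁻¹ ∈ G) (hcop : (Nat.card G).Coprime (Nat.card S)) (htop : G ⊔ S = ⊤) (hcyc : IsCyclic S) (C : Subgroup Γ) [Fintype C] (hC : C = G ⊓ Subgroup.centralizer (S : Set Γ)) (hCG : C ≤ G) : (∀ (χ : Cfsg.IrrCharacter G) (χh : Cfsg.IrrCharacter Γ), (∀ s ∈ S, ∀ g g' : G, (g' : Γ) = s * g * s⁻¹ → (χ : G → ℂ) g' = (χ : G → ℂ) g) → (∀ g : G, (χh : Γ → ℂ) g = (χ : G → ℂ) g) → (Cfsg.detOrder (χh : Γ → ℂ)).Coprime (Nat.card S) → (∃! βε : Cfsg.IrrCharacter C × ℤ, (βε.2 = 1 ∨ βε.2 = -1) ∧ ∀ c : C, ∀ s : Γ, Subgroup.zpowers s = S → (χh : Γ → ℂ) ((c : Γ) * s) = (βε.2 : ℂ) * (βε.1 : C → ℂ) c) ∧ ∀ β : Cfsg.IrrCharacter C, ∀ ε : ℤ, (ε = 1 ∨ ε = -1) → (∀ c : C, ∀ s : Γ, Subgroup.zpowers s = S → (χh : Γ → ℂ) ((c : Γ) * s) = (ε : ℂ) * (β : C → ℂ) c) → Cfsg.classInner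 (fun c : C => (χ : G → ℂ) ⟨c, hCG c.2⟩) (β : C → ℂ) ≠ 0) ∧ (∀ (χ χ' : Cfsg.IrrCharacter G) (χh χh' : Cfsg.IrrCharacter Γ), (∀ s ∈ S, ∀ g g' : G, (g' : Γ) = s * g * s⁻¹ → (χ : G → ℂ) g' = (χ : G → ℂ) g) → (∀ s ∈ S, ∀ g g' : G, (g' : Γ) = s * g * s⁻¹ → (χ' : G → ℂ) g' = (χ' : G → ℂ) g) → (∀ g : G, (χh : Γ → ℂ) g = (χ : G → ℂ) g) → (∀ g : G, (χh' : Γ → ℂ) g = (χ' : G → ℂ) g) → (Cfsg.detOrder (χh : Γ → ℂ)).Coprime (Nat.card S) → (Cfsg.detOrder (χh' : Γ → ℂ)).Coprime (Nat.card S) → ∀ β : Cfsg.IrrCharacter C, ∀ ε ε' : ℤ, (ε = 1 ∨ ε = -1) → (ε' = 1 ∨ ε' = -1) → (∀ c : C, ∀ s : Γ, Subgroup.zpowers s = S → (χh : Γ → ℂ) ((c : Γ) * s) = (ε : ℂ) * (β : C → ℂ) c) → (∀ c : C, ∀ s : Γ, Subgroup.zpowers s = S → (χh' : Γ → ℂ) ((c : Γ) * s) = (ε' : ℂ) * (β : C → ℂ) c) → χ = χ') ∧ (∀ β : Cfsg.IrrCharacter C, ∃ (χ : Cfsg.IrrCharacter G) (χh : Cfsg.IrrCharacter Γ) (ε :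 ℤ), (∀ s ∈ S, ∀ g g' : G, (g' : Γ) = s * g * s⁻¹ → (χ : G → ℂ) g' = (χ : G → ℂ) g) ∧ (∀ g : G, (χh : Γ → ℂ) g = (χ : G → ℂ) g) ∧ (Cfsg.detOrder (χh : Γ → ℂ)).Coprime (Nat.card S) ∧ (ε = 1 ∨ ε = -1) ∧ ∀ c : C, ∀ s : Γ, Subgroup.zpowers s = S → (χh : Γ → ℂ) ((c : Γ) * s) = (ε : ℂ) * (β : C → ℂ) c) := by
  classical
  haveI : G.Normal := Cfsg.Agent.GlaubCyc.normal_of_norm hnorm htop
  have D : Cfsg.Agent.GlaubCyc.Data G S C := ⟨htop, hcop, hcyc, hC⟩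
  obtain ⟨s₀, hs₀⟩ := Cfsg.Agent.GlaubCyc.exists_generator D
  have hne : ∀ ε : ℤ, (ε = 1 ∨ ε = -1) → ε ≠ 0 := fun ε h => by rcases h with e | e <;> omega
  refine ⟨fun χ χh hinv he hdet => ⟨?_, fun β ε hε hβ => ?_⟩,
    fun χ χ' χh χh' hinv hinv' he he' hdet hdet' β ε ε' hε hε' hβ hβ' => ?_, fun β => ?_⟩
  · obtain ⟨β, ε, hε, hβ⟩ := Cfsg.Agent.GlaubCyc.exists_correspondent D χ ⟨χh.2, hdet⟩ he
    refine ⟨(β, ε), ⟨hε, hβ⟩, ?_⟩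
    rintro ⟨β', ε'⟩ ⟨hε', hβ'⟩
    simp only at hε' hβ' ⊢
    have hc : ∀ c : C, (ε' : ℂ) * (β' : C → ℂ) c = (ε : ℂ) * (β : C → ℂ) c := fun c =>
      (hβ' c s₀ hs₀).symm.trans (hβ c s₀ hs₀)
    have he2 : (ε : ℂ) * ε = 1 := by rcases hε with e | e <;> simp [e]
    have hsc : (β : C → ℂ) = ((ε : ℂ) * ε') • (β' : C → ℂ) := funext fun c => by
      rw [Pi.smul_apply, smul_eq_mul, mul_assoc, hc, ← mul_assoc, he2, one_mul]
    have hbb : β' = β := by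
      by_contra hn
      have := Cfsg.Agent.Char.classInner_self_irr β.2
      conv_lhs at this => arg 1; rw [hsc]
      rw [Cfsg.Agent.Char.classInner_smul_left, Cfsg.Agent.Char.classInner_irr_of_ne β'.2 β.2
        (fun e => hn (Subtype.ext e)), mul_zero] at this
      exact zero_ne_one this
    subst hbb
    have h1 := hc 1
    have : ε' = ε := by
      have h2 := mul_right_cancel₀ (Cfsg.Agent.Char.IsIrrCharacter.one_ne_zero β'.2) h1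
      exact_mod_cast h2
    rw [this]
  · have h := Cfsg.Agent.GlaubCyc.classInner_ne_zero D (χh := (χh : Γ → ℂ))
      (Cfsg.Agent.Char.IsIrrCharacter.isCharacter χh.2) hε
      (hs₀ ▸ Subgroup.mem_zpowers s₀) (fun c => hβ c s₀ hs₀)
    rwa [show (fun c : C => (χ : G → ℂ) ⟨c, hCG c.2⟩) = fun c : C => (χh : Γ → ℂ) c from
      funext fun c => (he ⟨c, hCG c.2⟩).symm]
  · exact Cfsg.Agent.GlaubCyc.eq_of_common D χh.2 χh'.2 he he' (hne ε hε) (hne ε' hε') hs₀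
      (fun c => hβ c s₀ hs₀) (fun c => hβ' c s₀ hs₀)
  · obtain ⟨χ, f, ε, hinv, hcan, he, hε, hβ⟩ := Cfsg.Agent.GlaubCyc.exists_of_correspondent D β
    exact ⟨χ, ⟨f, hcan.1⟩, ε, (Cfsg.Agent.GlaubCyc.inv_iff htop χ).2 hinv, he, hcan.2, hε, hβ⟩

end Cfsg.Agent.S4446
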