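import Cfsg.Statements.S4447
import Cfsg.Agent.Lib.Char.CoprimeConstituent

set_option autoImplicit false
open Cfsg

namespace Cfsg.Agent.S4447

/-- Inside a finite group Γ let S normalise G and also normalise a normal subgroup N of G, with the order of S coprime to the index of N in G and S or G/N solvable. Then for every S-invariant irreducible character χ of G, the restriction of χ to N has an S-invariant irreducible constituent. -/
theorem result {Γ : Type*} [Group Γ] [Fintype Γ] (G S N : Subgroup Γ) [Fintype G] [Fintype N] (hnorm : ∀ s ∈ S, ∀ g ∈ G, s * g * s⁻¹ ∈ G) (hNG : N ≤ G) [hNn : (N.subgroupOf G).Normal] (hNS : ∀ s ∈ S, ∀ n ∈ N, s * n * s⁻¹ ∈ N) (hcop : (N.relIndex G).Coprime (Nat.card S)) (hsolv : Group.IsSolvable S ∨ Group.IsSolvable (G ⧸ N.subgroupOf G)) (χ : Cfsg.IrrCharacter G) (hinv : (∀ s ∈ S, ∀ g g' : G, (g' : Γ) = s * g * s⁻¹ → (χ : G → ℂ) g' = (χ : G → ℂ) g)) : ∃ θ : Cfsg.IrrCharacter N, Cfsg.classInner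 (fun n : N => (χ : G → ℂ) ⟨n, hNG n.2⟩) (θ : N → ℂ) ≠ 0 ∧ (∀ s ∈ S, ∀ g g' : N, (g' : Γ) = s * g * s⁻¹ → (θ : N → ℂ) g' = (θ : N → ℂ) g) := by
  classical
  haveI : Fintype (N.subgroupOf G) := Fintype.ofFinite _
  have hQ : ∀ u, ∀ q ∈ N.subgroupOf G,
      Cfsg.Agent.CoprimeConst.actConj G S hnorm u q ∈ N.subgroupOf G :=
    fun u q hq => hNS u u.2 q hq
  obtain ⟨θ, hθ, hne⟩ := Cfsg.Agent.CoprimeConst.exists_inv_under
    (φ := Cfsg.Agent.CoprimeConst.actConj G S hnorm) (Q := N.subgroupOf G) hQ hcop.symm hsolv χ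
    ((Cfsg.Agent.CoprimeConst.isInv_conj_iff G S hnorm _).2 hinv)
  let e := Subgroup.subgroupOfEquivOfLe hNG
  refine ⟨⟨_, Cfsg.Agent.Char.IsIrrCharacter.comp θ.2 e.symm.toMonoidHom e.symm.surjective⟩, ?_, ?_⟩
  · rw [Cfsg.Agent.CoprimeConst.classInner_subgroupOf G N hNG]
    convert hne using 2
    funext q
    exact congrArg (θ : N.subgroupOf G → ℂ) (e.symm_apply_apply q)
  · refine (Cfsg.Agent.CoprimeConst.isInvQ_conj_iff G S N hnorm hNG hQ _).1 fun u q => ?_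
    show (θ : N.subgroupOf G → ℂ) (e.symm (e _)) = (θ : N.subgroupOf G → ℂ) (e.symm (e q))
    rw [e.symm_apply_apply, e.symm_apply_apply]
    exact hθ u q

end Cfsg.Agent.S4447
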