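import Cfsg.Statements.S4453
import Cfsg.Agent.Lib.OddSection.Reduce
import Cfsg.Agent.Lib.Solvable.Coprime

set_option autoImplicit false
open Cfsg

namespace Cfsg.Agent.S4453

/-- Inside a finite group Γ let S normalise the solvable subgroup G of odd order with the orders of G and S coprime, let C = G ⊓ C(S), and let L ≤ K be S-invariant normal subgroups of G with K/L abelian, G = KC and H = LC (so C ≤ H ≤ G). Then for each S-invariant irreducible character χ of G there is exactly one S-invariant irreducible character ψ of H whose multiplicity in the restriction of χ to H is odd, and χ ↦ ψ is a bijection from the S-invariant irreducible characters of G onto those of H (distinct χ give distinct ψ, and every S-invariant ψ arises). -/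
theorem result {Γ : Type*} [Group Γ] [Fintype Γ] (G S : Subgroup Γ) [Fintype G] (hnorm : ∀ s ∈ S, ∀ g ∈ G, s * g * s⁻¹ ∈ G) (hcop : (Nat.card G).Coprime (Nat.card S)) (hGsolv : Group.IsSolvable G) (hodd : Odd (Nat.card G)) (C : Subgroup Γ) [Fintype C] (hC : C = G ⊓ Subgroup.centralizer (S : Set Γ)) (hCG : C ≤ G) (K L H : Subgroup Γ) [Fintype H] (hLK : L ≤ K) (hKG : K ≤ G) (hKn : ∀ g ∈ G, ∀ k ∈ K, g * k * g⁻¹ ∈ K) (hLn : ∀ g ∈ G, ∀ l ∈ L, g * l * g⁻¹ ∈ L) (hKS : ∀ s ∈ S, ∀ k ∈ K, s * k * s⁻¹ ∈ K) (hLS : ∀ s ∈ S, ∀ l ∈ L, s * l * s⁻¹ ∈ L) (hab : ∀ a ∈ K, ∀ b ∈ K, a * b * a⁻¹ * b⁻¹ ∈ L) (hGKC : K ⊔ C = G) (hH : H = L ⊔ C) (hHG : H ≤ G) : (∀ χ : Cfsg.IrrCharacter G, (∀ s ∈ S, ∀ g g' : G, (g' : Γ) = s * g * s⁻¹ → (χ : G → ℂ) g' = (χ : G → ℂ) g) → ∃! ψ : Cfsg.IrrCharacter H, (∀ s ∈ S, ∀ g g' : H, (g' : Γ) = s * g * s⁻¹ → (ψ : H → ℂ) g' = (ψ : H → ℂ) g) ∧ ∃ m : ℕ, Cfsg.classInner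 (fun h : H => (χ : G → ℂ) ⟨h, hHG h.2⟩) (ψ : H → ℂ) = (m : ℂ) ∧ Odd m) ∧ (∀ χ χ' : Cfsg.IrrCharacter G, (∀ s ∈ S, ∀ g g' : G, (g' : Γ) = s * g * s⁻¹ → (χ : G → ℂ) g' = (χ : G → ℂ) g) → (∀ s ∈ S, ∀ g g' : G, (g' : Γ) = s * g * s⁻¹ → (χ' : G → ℂ) g' = (χ' : G → ℂ) g) → ∀ ψ : Cfsg.IrrCharacter H, (∀ s ∈ S, ∀ g g' : H, (g' : Γ) = s * g * s⁻¹ → (ψ : H → ℂ) g' = (ψ : H → ℂ) g) → ∀ m m' : ℕ, Cfsg.classInner (fun h : H => (χ : G → ℂ) ⟨h, hHG h.2⟩) (ψ : H → ℂ) = (m : ℂ) → Odd m → Cfsg.classInner (fun h : H => (χ' : G → ℂ) ⟨h, hHG h.2⟩) (ψ : H → ℂ) = (m' : ℂ) → Odd m' → χ = χ') ∧ (∀ ψ : Cfsg.IrrCharacter H, (∀ s ∈ S, ∀ g g' : H, (g' : Γ) = s * g * s⁻¹ → (ψ : H → ℂ) g' = (ψ : H → ℂ) g) → ∃ χ : Cfsg.IrrCharacter G, (∀ s ∈ S, ∀ g g' : G, (g' : Γ) = s * g * s⁻¹ → (χ : G → ℂ) g' = (χ : G → ℂ) g) ∧ ∃ m : ℕ, Cfsg.classInner (fun h : H => (χ : G → ℂ) ⟨h, hHG h.2⟩) (ψ : H → ℂ) =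 (m : ℂ) ∧ Odd m) := by
  classical
  have hCH : C ≤ H := hH ▸ le_sup_right
  have hLH : L ≤ H := hH ▸ le_sup_left
  have hCmem : ∀ x, x ∈ C ↔ x ∈ G ∧ ∀ s ∈ S, s * x = x * s := fun x => by
    rw [hC, Subgroup.mem_inf, Subgroup.mem_centralizer_iff]
    rfl
  have hCnorm : ∀ M : Subgroup Γ, (∀ g ∈ G, ∀ k ∈ M, g * k * g⁻¹ ∈ M) →
      C ≤ Subgroup.normalizer (M : Set Γ) := fun M hM c hc =>
    Subgroup.mem_normalizer_iff.2 fun x => ⟨fun hx => hM c (hCG hc) x hx, fun hx => by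
      have := hM c⁻¹ (G.inv_mem (hCG hc)) _ hx
      simpa [mul_assoc] using this⟩
  have hGdec : ∀ g ∈ G, ∃ k ∈ K, ∃ c ∈ C, g = k * c := fun g hg => by
    rw [← hGKC] at hg
    have h1 : g ∈ ((K ⊔ C : Subgroup Γ) : Set Γ) := hg
    rw [Subgroup.coe_mul_of_right_le_normalizer_left K C (hCnorm K hKn)] at h1
    obtain ⟨k, hk, c, hc, e⟩ := h1
    exact ⟨k, hk, c, hc, e.symm⟩
  have hHdec : ∀ g ∈ H, ∃ l ∈ L, ∃ c ∈ C, g = l * c := fun g hg => by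
    rw [hH] at hg
    have h1 : g ∈ ((L ⊔ C : Subgroup Γ) : Set Γ) := hg
    rw [Subgroup.coe_mul_of_right_le_normalizer_left L C (hCnorm L hLn)] at h1
    obtain ⟨l, hl, c, hc, e⟩ := h1
    exact ⟨l, hl, c, hc, e.symm⟩
  have hfixC : ∀ s ∈ S, ∀ c ∈ C, s * c * s⁻¹ = c := fun s hs c hc => by
    rw [((hCmem c).1 hc).2 s hs, mul_inv_cancel_right]
  have hHS : ∀ s ∈ S, ∀ h ∈ H, s * h * s⁻¹ ∈ H := fun s hs h hh => by
    obtain ⟨l, hl, c, hc, rfl⟩ := hHdec h hh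
    have e : s * (l * c) * s⁻¹ = s * l * s⁻¹ * (s * c * s⁻¹) := by group
    rw [e, hfixC s hs c hc]
    exact H.mul_mem (hLH (hLS s hs l hl)) (hCH hc)
  let M := H ⊓ K
  have hMG : M ≤ G := inf_le_right.trans hKG
  have hMn : ∀ g ∈ G, ∀ x ∈ M, g * x * g⁻¹ ∈ M := fun g hg x hx => by
    obtain ⟨k, hk, c, hc, rfl⟩ := hGdec g hg
    have hy : c * x * c⁻¹ ∈ M :=
      ⟨H.mul_mem (H.mul_mem (hCH hc) hx.1) (H.inv_mem (hCH hc)), hKn c (hCG hc) x hx.2⟩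
    have hl := hab k hk _ hy.2
    have e : k * c * x * (k * c)⁻¹ = k * (c * x * c⁻¹) * k⁻¹ * (c * x * c⁻¹)⁻¹ * (c * x * c⁻¹) := by
      group
    rw [e]
    exact M.mul_mem ⟨hLH hl, hLK hl⟩ hy
  haveI hKn' : (K.subgroupOf G).Normal := ⟨fun k hk g => hKn g g.2 k hk⟩
  haveI hMn' : (M.subgroupOf G).Normal := ⟨fun k hk g => hMn g g.2 k hk⟩
  haveI : Fintype (H.subgroupOf G) := Fintype.ofFinite _
  have hsolv' : Group.IsSolvable G := hGsolv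
  have St : OddSection.Setting (CoprimeConst.actConj G S hnorm) (K.subgroupOf G) (M.subgroupOf G)
      (H.subgroupOf G) :=
    { odd := hodd
      cop := hcop.symm
      solv := hsolv'
      K_normal := hKn'
      L_normal := hMn'
      LK := fun x hx => hx.2
      K_inv := fun s k hk => hKS s s.2 k hk
      L_inv := fun s k hk => ⟨hHS s s.2 k hk.1, hKS s s.2 k hk.2⟩
      comm := fun a ha b hb => ⟨hLH (hab a ha b hb), hLK (hab a ha b hb)⟩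
      fix := fun k hk h => by
        have hk' : (k : Γ) ∈ K := hk
        obtain ⟨c, hc, hkc⟩ := CoprimeAct.exists_mem_centralizer (A := S) (K := K) (N := M)
          (fun s hs => Subgroup.mem_normalizer_iff.2 fun x => ⟨fun hx => hKS s hs x hx, fun hx => by
            have := hKS s⁻¹ (S.inv_mem hs) _ hx
            simpa [mul_assoc] using this⟩)
          (hcop.symm.coprime_dvd_right (Subgroup.card_dvd_of_le hKG))
          (Or.inr (@SolvBasic.isSolvable_of_le Γ _ K G hKG hGsolv))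
          inf_le_right
          (fun g hg => Subgroup.mem_normalizer_iff.2 fun x => ⟨fun hx => hMn g (hKG hg) x hx,
            fun hx => by
            have := hMn g⁻¹ (G.inv_mem (hKG hg)) _ hx
            simpa [mul_assoc] using this⟩)
          (fun s hs => Subgroup.mem_normalizer_iff.2 fun x =>
            ⟨fun hx => ⟨hHS s hs x hx.1, hKS s hs x hx.2⟩, fun hx => ⟨by
            have := hHS s⁻¹ (S.inv_mem hs) _ hx.1
            simpa [mul_assoc] using this, by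
            have := hKS s⁻¹ (S.inv_mem hs) _ hx.2
            simpa [mul_assoc] using this⟩⟩) hk'
          (fun s hs => h ⟨s, hs⟩)
        have hcC : c ∈ C := by rw [hC]; exact ⟨hKG hc.1, hc.2⟩
        have hcM : c ∈ M := ⟨hCH hcC, hc.1⟩
        have := M.mul_mem hcM (M.inv_mem hkc)
        show (k : Γ) ∈ M
        simpa using this
      gen := fun g => by
        obtain ⟨k, hk, c, hc, e⟩ := hGdec g g.2
        exact ⟨⟨k, hKG hk⟩, hk, ⟨c, hCG hc⟩, fun s => Subtype.ext (hfixC s s.2 c hc), Subtype.ext e⟩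
      memH := fun g => by
        refine ⟨fun hg => ?_, ?_⟩
        · obtain ⟨l, hl, c, hc, e⟩ := hHdec g hg
          exact ⟨⟨l, hKG (hLK hl)⟩, ⟨hLH hl, hLK hl⟩, ⟨c, hCG hc⟩,
            fun s => Subtype.ext (hfixC s s.2 c hc), Subtype.ext e⟩
        · rintro ⟨l, hl, c, hc, rfl⟩
          refine Subgroup.mem_subgroupOf.2 (H.mul_mem hl.1 (hCH ((hCmem c).2 ⟨c.2, fun s hs => ?_⟩)))
          exact mul_inv_eq_iff_eq_mul.1 (congrArg Subtype.val (hc ⟨s, hs⟩)) }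
  obtain ⟨hA, hB, hD⟩ := St.correspondence
  let e := Subgroup.subgroupOfEquivOfLe hHG
  let up : Cfsg.IrrCharacter H → Cfsg.IrrCharacter (H.subgroupOf G) := fun ψ =>
    ⟨fun x => (ψ : H → ℂ) (e x), Char.IsIrrCharacter.comp ψ.2 e.toMonoidHom e.surjective⟩
  have up_bij : Function.Bijective up := by
    refine ⟨fun ψ ψ' h => Subtype.ext (funext fun x => ?_), fun ψ => ?_⟩
    · simpa [up] using congrFun (congrArg Subtype.val h) (e.symm x)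
    · exact ⟨⟨fun x => (ψ : H.subgroupOf G → ℂ) (e.symm x),
        Char.IsIrrCharacter.comp ψ.2 e.symm.toMonoidHom e.symm.surjective⟩,
        Subtype.ext (funext fun x => congrArg _ (e.symm_apply_apply x))⟩
  let φH := CoprimeConst.actSub (CoprimeConst.actConj G S hnorm) (H.subgroupOf G)
    fun u _ hq => St.H_inv u hq
  have up_inv : ∀ ψ : Cfsg.IrrCharacter H,
      (∀ s ∈ S, ∀ g g' : H, (g' : Γ) = s * g * s⁻¹ → (ψ : H → ℂ) g' = (ψ : H → ℂ) g) ↔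
      GlaubermanMod.IsInv φH (up ψ : H.subgroupOf G → ℂ) := fun ψ => by
    refine ⟨fun h s x => h s s.2 (e x) (e (φH s x)) rfl, fun h s hs g g' hgg => ?_⟩
    have h1 : (ψ : H → ℂ) (e (φH ⟨s, hs⟩ (e.symm g))) = (ψ : H → ℂ) (e (e.symm g)) :=
      h ⟨s, hs⟩ (e.symm g)
    rw [MulEquiv.apply_symm_apply] at h1
    rw [← h1]
    exact congrArg (ψ : H → ℂ) (Subtype.ext hgg)
  have up_odd : ∀ (χ : Cfsg.IrrCharacter G) (ψ : Cfsg.IrrCharacter H),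
      (∃ m : ℕ, Cfsg.classInner (fun h : H => (χ : G → ℂ) ⟨h, hHG h.2⟩) (ψ : H → ℂ) = (m : ℂ) ∧
        Odd m) ↔ OddSection.OddMult (χ : G → ℂ) (up ψ : H.subgroupOf G → ℂ) := fun χ ψ => by
    rw [OddSection.OddMult, CoprimeConst.classInner_subgroupOf G H hHG]
  have g_inv : ∀ χ : Cfsg.IrrCharacter G,
      (∀ s ∈ S, ∀ g g' : G, (g' : Γ) = s * g * s⁻¹ → (χ : G → ℂ) g' = (χ : G → ℂ) g) ↔
      GlaubermanMod.IsInv (CoprimeConst.actConj G S hnorm) (χ : G → ℂ) :=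
    fun χ => (CoprimeConst.isInv_conj_iff G S hnorm _).symm
  refine ⟨fun χ hχ => ?_, fun χ χ' hχ hχ' ψ hψ m m' h1 h2 h1' h2' => ?_, fun ψ hψ => ?_⟩
  · obtain ⟨ψ', ⟨hi, ho⟩, hu⟩ := hA χ ((g_inv χ).1 hχ)
    obtain ⟨ψ, rfl⟩ := up_bij.2 ψ'
    exact ⟨ψ, ⟨(up_inv ψ).2 hi, (up_odd χ ψ).2 ho⟩, fun ψ2 ⟨hi2, ho2⟩ =>
      up_bij.1 (hu _ ⟨(up_inv ψ2).1 hi2, (up_odd χ ψ2).1 ho2⟩)⟩
  · exact hB χ χ' ((g_inv χ).1 hχ) ((g_inv χ').1 hχ') (up ψ) ((up_inv ψ).1 hψ)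
      ((up_odd χ ψ).1 ⟨m, h1, h2⟩) ((up_odd χ' ψ).1 ⟨m', h1', h2'⟩)
  · obtain ⟨χ, hi, ho⟩ := hD (up ψ) ((up_inv ψ).1 hψ)
    exact ⟨χ, (g_inv χ).2 hi, (up_odd χ ψ).2 ho⟩

end Cfsg.Agent.S4453
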