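import Cfsg.Statements.S4460
import Cfsg.Agent.Lib.Char.ThreeDegrees.Main

set_option autoImplicit false
open Cfsg

namespace Cfsg.Agent.S4460

/-- A finite group with exactly three distinct irreducible character degrees is solvable of derived length at most 3: its third derived subgroup is trivial. -/
theorem result {G : Type*} [Group G] [Finite G] (hcd : Nat.card {n : ℕ // ∃ χ : Cfsg.IrrCharacter G, Cfsg.charDegree (χ : G → ℂ) = n} = 3) : derivedSeries G 3 = ⊥ := by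
  classical
  haveI : Fintype G := Fintype.ofFinite G
  have hcd' : Set.ncard {n : ℕ | ∃ χ : Cfsg.IrrCharacter G, Cfsg.charDegree (χ : G → ℂ) = n} = 3 :=
    (Nat.card_coe_set_eq _).symm.trans hcd
  obtain ⟨x, y, z, hxy, hxz, hyz, hset⟩ := Set.ncard_eq_three.mp hcd'
  have hmem : ∀ d : ℕ, (∃ χ : Cfsg.IrrCharacter G, Cfsg.charDegree (χ : G → ℂ) = d) ↔
      d = x ∨ d = y ∨ d = z := fun d => Set.ext_iff.mp hset d
  have key : ∀ m n : ℕ, m ≠ n → 1 ≠ m → 1 ≠ n →
      (∀ d : ℕ, (∃ χ : Cfsg.IrrCharacter G, Cfsg.charDegree (χ : G → ℂ) = d) ↔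
        d = 1 ∨ d = m ∨ d = n) → derivedSeries G 3 = ⊥ := by
    intro m n hmn h1m h1n h
    obtain ⟨χm, hm⟩ := (h m).2 (by simp)
    obtain ⟨χn, hn⟩ := (h n).2 (by simp)
    have hm0 := Cfsg.Agent.Blocks.charDegree_pos χm
    have hn0 := Cfsg.Agent.Blocks.charDegree_pos χn
    exact Cfsg.Agent.ThreeDeg.derived_three (fun χ => (h _).1 ⟨χ, rfl⟩) (by omega) (by omega) hmn
      ⟨χm, hm⟩ ⟨χn, hn⟩
  rcases (hmem 1).1 ⟨Cfsg.Agent.Char.principal G, Cfsg.Agent.CharX.charDegree_one⟩ with e | e | e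
  · exact key y z hyz (e ▸ hxy) (e ▸ hxz) fun d => by rw [hmem, e]
  · exact key x z hxz (e ▸ hxy.symm) (e ▸ hyz) fun d => by
      rw [hmem, e]
      tauto
  · exact key x y hxy (e ▸ hxz.symm) (e ▸ hyz.symm) fun d => by
      rw [hmem, e]
      tauto

end Cfsg.Agent.S4460
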