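import Cfsg.Statements.S4471
import Cfsg.Agent.Lib.SmallDegree.Main
-- import your own Cfsg.Agent.* helpers here

set_option autoImplicit false
open Cfsg

namespace Cfsg.Agent.S4471

/-- Let p ≥ 7 be a prime and let the finite group G have a faithful irreducible character of degree n with n < 2p and n ≠ p. If the Sylow p-subgroups of G are non-abelian then p² does not divide the index of O_p(G) in G; consequently, in every case G/O_p(G) has abelian Sylow p-subgroups. -/
theorem result {G : Type*} [Group G] [Finite G] (χ : Cfsg.IrrCharacter G) (hfaith : ∀ g : G, (χ : G → ℂ) g = (χ : G → ℂ) 1 → g = 1) (n : ℕ) (hn : Cfsg.charDegree (χ : G → ℂ) = n) (p : ℕ) (hp : p.Prime) (h7 : 7 ≤ p) (hn2 : n < 2 * p) (hnp : n ≠ p) : ((∃ P : Sylow p G, ∃ x ∈ (P : Subgroup G), ∃ y ∈ (P : Subgroup G), x * y ≠ y * x) → ¬ p ^ 2 ∣ (Cfsg.pCore p G).index) ∧ ∀ Q : Sylow p (G ⧸ Cfsg.pCore p G), ∀ x ∈ (Q : Subgroup (G ⧸ Cfsg.pCore p G)), ∀ y ∈ (Q : Subgroup (G ⧸ Cfsg.pCore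 p G)), x * y = y * x := by
  haveI := Fact.mk hp
  have hfirst : (∃ P : Sylow p G, ∃ x ∈ (P : Subgroup G), ∃ y ∈ (P : Subgroup G), x * y ≠ y * x) →
      ¬ p ^ 2 ∣ (Cfsg.pCore p G).index := by
    rintro ⟨P, hna⟩
    obtain ⟨k, ρ, hirr, hχ⟩ := id χ.2
    have hk : (χ : G → ℂ) 1 = (k : ℂ) := by
      rw [← hχ, Representation.char_one, Module.finrank_fin_fun]
    have hkn : k = n := by
      rw [← hn]
      simp [Cfsg.charDegree, hk]
    subst hkn
    haveI := hirr
    refine SmallDegree.not_sq_dvd_index ρ ?_ h7 hn2 hnp P P.2 hna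
    intro a b hab
    refine mul_inv_eq_one.mp (hfaith _ ?_)
    rw [hk, ← hχ]
    refine ((Char.char_eq_degree_iff ρ _).mpr ?_).trans (by rw [Module.finrank_fin_fun])
    rw [map_mul, hab, ← map_mul, mul_inv_cancel, map_one, Module.End.one_eq_id]
  haveI : (Cfsg.pCore p G).Normal := Cfsg.pCore_normal p G
  exact ⟨hfirst, fun Q => SmallDegree.quotient_sylow_comm _ hfirst Q⟩

end Cfsg.Agent.S4471
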