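import Cfsg.Statements.S4474
import Cfsg.Agent.Lib.Char.FrobeniusSchur

set_option autoImplicit false
set_option linter.style.haveILetI false
open Cfsg

namespace Cfsg.Agent.S4474

open Cfsg.Agent.Char Cfsg.Agent.FSchur Matrix
open scoped ComplexConjugate

variable {G : Type*} [Group G] [Fintype G] {n : ℕ}

/-- Entrywise conjugation. -/
noncomputable def cj (K : Matrix (Fin n) (Fin n) ℂ) : Matrix (Fin n) (Fin n) ℂ :=
  K.map (starRingEnd ℂ)

theorem cj_mul (K L : Matrix (Fin n) (Fin n) ℂ) : cj (K * L) = cj K * cj L := Matrix.map_mul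

theorem cj_smul (a : ℂ) (K : Matrix (Fin n) (Fin n) ℂ) : cj (a • K) = conj a • cj K := by
  ext i j; simp [cj]

theorem cj_one : cj (1 : Matrix (Fin n) (Fin n) ℂ) = 1 := by
  rw [cj, Matrix.map_one _ (map_zero _) (map_one _)]

theorem cj_add (K L : Matrix (Fin n) (Fin n) ℂ) : cj (K + L) = cj K + cj L := by
  ext i j; simp [cj]

theorem cj_cj (K : Matrix (Fin n) (Fin n) ℂ) : cj (cj K) = K := by
  ext i j; simp [cj]

theorem star_mulVec_cj (K : Matrix (Fin n) (Fin n) ℂ) (v : Fin n → ℂ) :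
    star (K *ᵥ v) = cj K *ᵥ star v := by
  ext i
  simp [cj, Matrix.mulVec, dotProduct]

theorem star_dot_self (w : Fin n → ℂ) :
    star w ⬝ᵥ w = ((∑ i, Complex.normSq (w i) : ℝ) : ℂ) := by
  rw [dotProduct, Complex.ofReal_sum]
  exact Finset.sum_congr rfl fun i _ => by
    rw [Complex.normSq_eq_conj_mul_self, Pi.star_apply]
    rfl

theorem normSq_sum_pos {w : Fin n → ℂ} (hw : w ≠ 0) : 0 < ∑ i, Complex.normSq (w i) := by
  refine lt_of_le_of_ne (Finset.sum_nonneg fun i _ => Complex.normSq_nonneg _) fun h => hw ?_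
  funext i
  exact Complex.normSq_eq_zero.1
    ((Finset.sum_eq_zero_iff_of_nonneg fun i _ => Complex.normSq_nonneg _).1 h.symm i
      (Finset.mem_univ i))

variable (ρ : Representation ℂ G (Fin n → ℂ))

/-- An invariant hermitian form. -/
noncomputable def herm : Matrix (Fin n) (Fin n) ℂ := ∑ g, (repMat ρ g)ᴴ * repMat ρ g

theorem herm_inv (h : G) : (repMat ρ h)ᴴ * herm ρ * repMat ρ h = herm ρ := by
  rw [herm, Finset.mul_sum, Finset.sum_mul]
  refine Fintype.sum_equiv (Equiv.mulRight h) _ _ fun g => ?_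
  simp only [Equiv.coe_mulRight, repMat_mul, Matrix.conjTranspose_mul, Matrix.mul_assoc]

theorem herm_quad (v : Fin n → ℂ) :
    star v ⬝ᵥ herm ρ *ᵥ v = ((∑ g, ∑ i, Complex.normSq ((repMat ρ g *ᵥ v) i) : ℝ) : ℂ) := by
  rw [herm, Matrix.sum_mulVec, dotProduct_sum, Complex.ofReal_sum]
  refine Finset.sum_congr rfl fun g _ => ?_
  rw [← Matrix.mulVec_mulVec, dotProduct_mulVec, ← Matrix.star_mulVec, star_dot_self]

theorem herm_pos {v : Fin n → ℂ} (hv : v ≠ 0) :
    0 < ∑ g, ∑ i, Complex.normSq ((repMat ρ g *ᵥ v) i) := by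
  refine lt_of_lt_of_le (normSq_sum_pos hv) ?_
  have h := Finset.single_le_sum (f := fun g => ∑ i, Complex.normSq ((repMat ρ g *ᵥ v) i))
    (fun g _ => Finset.sum_nonneg fun i _ => Complex.normSq_nonneg _) (Finset.mem_univ (1 : G))
  simpa [repMat_one] using h

theorem herm_unit : IsUnit (herm ρ).det := by
  rw [← Matrix.isUnit_iff_isUnit_det, ← Matrix.mulVec_injective_iff_isUnit]
  intro v w h
  by_contra hne
  have h0 : herm ρ *ᵥ (v - w) = 0 := by rw [Matrix.mulVec_sub]; exact sub_eq_zero.2 h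
  have h1 := herm_quad ρ (v - w)
  rw [h0, dotProduct_zero] at h1
  have h2 := herm_pos ρ (sub_ne_zero.2 hne)
  exact h2.ne' (by exact_mod_cast h1.symm)

/-- An irreducible representation of indicator one has an antilinear involution. -/
theorem exists_real_structure (hρ : ρ.IsIrreducible) {N : Matrix (Fin n) (Fin n) ℂ}
    (hN : IsInvForm ρ N) (hN0 : N ≠ 0) (hsym : Nᵀ = N) :
    ∃ M : Matrix (Fin n) (Fin n) ℂ,
      M * cj M = 1 ∧ ∀ g, repMat ρ g * M = M * cj (repMat ρ g) := by
  classical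
  haveI := hρ
  set H := herm ρ with hH
  have hHu : IsUnit H.det := herm_unit ρ
  have hNu := (Matrix.isUnit_iff_isUnit_det N).1 (isUnit_of_isInvForm ρ hρ hN hN0)
  set M := H⁻¹ * cj N with hM
  have hHM : H * M = cj N := by rw [hM, ← Matrix.mul_assoc, Matrix.mul_nonsing_inv _ hHu, Matrix.one_mul]
  have hMu : IsUnit M.det := by
    rw [hM, Matrix.det_mul]
    refine (Matrix.isUnit_nonsing_inv_det _ hHu).mul ?_
    rw [cj, ← RingHom.mapMatrix_apply, ← RingHom.map_det]
    exact hNu.map _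
  clear_value M H
  have hcomm : ∀ g, repMat ρ g * M = M * cj (repMat ρ g) := by
    intro g
    have e1 : (repMat ρ g⁻¹)ᵀ * N = N * repMat ρ g := by
      conv_rhs => rw [← hN g⁻¹, Matrix.mul_assoc _ _ (repMat ρ g), repMat_inv_mul, Matrix.mul_one]
    have e2 : (repMat ρ g⁻¹)ᴴ * H = H * repMat ρ g := by
      rw [hH]
      conv_rhs => rw [← herm_inv ρ g⁻¹, Matrix.mul_assoc _ _ (repMat ρ g), repMat_inv_mul,
        Matrix.mul_one]
    have e3 : cj (repMat ρ g⁻¹)ᵀ = (repMat ρ g⁻¹)ᴴ := by ext i j; simp [cj]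
    have key : H * (M * cj (repMat ρ g)) = H * (repMat ρ g * M) := by
      rw [← Matrix.mul_assoc, hHM, ← cj_mul, ← e1, cj_mul, e3, ← hHM, ← Matrix.mul_assoc, e2,
        Matrix.mul_assoc]
    have := congrArg (H⁻¹ * ·) key
    simp only [← Matrix.mul_assoc, Matrix.nonsing_inv_mul _ hHu, Matrix.one_mul] at this
    exact this.symm
  have hcomm2 : ∀ g, M * cj M * repMat ρ g = repMat ρ g * (M * cj M) := fun g => by
    have h1 := congrArg cj (hcomm g)
    rw [cj_mul, cj_mul, cj_cj] at h1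
    rw [Matrix.mul_assoc, ← h1, ← Matrix.mul_assoc, ← hcomm g, Matrix.mul_assoc]
  obtain ⟨c, hc⟩ := schur_scalar ρ (Matrix.toLin' (M * cj M)) fun g x => by
    rw [Matrix.toLin'_apply, Matrix.toLin'_apply, ← repMat_mulVec, ← repMat_mulVec,
      Matrix.mulVec_mulVec, Matrix.mulVec_mulVec, hcomm2]
  have hc1 : M * cj M = c • 1 := by
    apply Matrix.toLin'.injective
    rw [hc, map_smul, Matrix.toLin'_one]
  obtain ⟨v, hv⟩ : ∃ v : Fin n → ℂ, v ≠ 0 := by
    obtain ⟨i, j, hij⟩ : ∃ i j, N i j ≠ 0 := by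
      by_contra h
      push Not at h
      exact hN0 (Matrix.ext h)
    exact ⟨Pi.single i 1, fun h => one_ne_zero (α := ℂ) (by simpa using congrFun h i)⟩
  set u := M *ᵥ star v with hu
  have hu0 : u ≠ 0 := fun h => hv (star_eq_zero.1 (Matrix.mulVec_injective_iff_isUnit.2
    ((Matrix.isUnit_iff_isUnit_det M).2 hMu) (h.trans (Matrix.mulVec_zero M).symm)))
  have hstaru : M *ᵥ star u = c • v := by
    rw [hu, star_mulVec_cj, Matrix.mulVec_mulVec, hc1, star_star, Matrix.smul_mulVec,
      Matrix.one_mulVec]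
  have hdotstar : ∀ a b : Fin n → ℂ, star a ⬝ᵥ cj N *ᵥ star b = conj (a ⬝ᵥ N *ᵥ b) := by
    intro a b
    rw [← star_mulVec_cj, dotProduct, dotProduct, map_sum]
    exact Finset.sum_congr rfl fun i _ => by
      rw [Pi.star_apply, Pi.star_apply, map_mul]
      rfl
  have hq : star u ⬝ᵥ H *ᵥ u = c * (star v ⬝ᵥ H *ᵥ v) := by
    have e1 : star u ⬝ᵥ H *ᵥ u = conj (u ⬝ᵥ N *ᵥ v) := by
      conv_lhs => arg 2; rw [hu, Matrix.mulVec_mulVec, hHM]
      exact hdotstar u v
    have e2 : c * (star v ⬝ᵥ H *ᵥ v) = conj (v ⬝ᵥ N *ᵥ u) := by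
      rw [← smul_eq_mul, ← dotProduct_smul, ← Matrix.mulVec_smul, ← hstaru, Matrix.mulVec_mulVec,
        hHM]
      exact hdotstar v u
    rw [e1, e2, dotProduct_mulVec v N u, ← Matrix.mulVec_transpose, hsym, dotProduct_comm]
  have hq1 := herm_pos ρ hv
  have hq2 := herm_pos ρ hu0
  rw [hH, herm_quad, herm_quad] at hq
  generalize ∑ g, ∑ i, Complex.normSq ((repMat ρ g *ᵥ v) i) = a at hq hq1
  generalize ∑ g, ∑ i, Complex.normSq ((repMat ρ g *ᵥ u) i) = b at hq hq2
  have hcr : c = ((b / a : ℝ) : ℂ) := by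
    rw [Complex.ofReal_div, eq_div_iff (Complex.ofReal_ne_zero.2 hq1.ne')]
    exact hq.symm
  have hr : 0 < b / a := div_pos hq2 hq1
  generalize b / a = r at hcr hr
  subst hcr
  refine ⟨((Real.sqrt r)⁻¹ : ℂ) • M, ?_, fun g => ?_⟩
  · rw [cj_smul, Matrix.smul_mul, Matrix.mul_smul, hc1, smul_smul, smul_smul]
    convert one_smul ℂ (1 : Matrix (Fin n) (Fin n) ℂ) using 2
    rw [map_inv₀, Complex.conj_ofReal, ← mul_inv, ← Complex.ofReal_mul, Real.mul_self_sqrt hr.le,
      inv_mul_cancel₀ (Complex.ofReal_ne_zero.2 hr.ne')]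
  · rw [Matrix.mul_smul, hcomm, Matrix.smul_mul]

open Polynomial in
theorem exists_basis (M : Matrix (Fin n) (Fin n) ℂ) (hM : M * cj M = 1) :
    ∃ P : Matrix (Fin n) (Fin n) ℂ, IsUnit P.det ∧ M * cj P = P := by
  classical
  let Q : Matrix (Fin n) (Fin n) ℂ[X] :=
    (1 + C Complex.I * X) • (1 : Matrix (Fin n) (Fin n) ℂ[X]) + (1 - C Complex.I * X) • M.map C
  have hev : ∀ z : ℂ, Q.det.eval z =
      ((1 + Complex.I * z) • (1 : Matrix (Fin n) (Fin n) ℂ) + (1 - Complex.I * z) • M).det := by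
    intro z
    rw [← coe_evalRingHom, RingHom.map_det]
    congr 1
    ext i j
    by_cases h : i = j <;> simp [Q, h]
  have hQ : Q.det ≠ 0 := fun h => by
    have h1 := hev (-Complex.I)
    rw [h, eval_zero, mul_neg, Complex.I_mul_I, neg_neg, sub_self, zero_smul, add_zero,
      Matrix.det_smul, Matrix.det_one, mul_one] at h1
    exact pow_ne_zero _ (by norm_num) h1.symm
  obtain ⟨s, hs⟩ : ∃ s : ℝ, Q.det.eval (s : ℂ) ≠ 0 := by
    by_contra h
    push Not at h
    refine hQ (eq_zero_of_infinite_isRoot _ (Set.Infinite.mono ?_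
      (Set.infinite_range_of_injective Complex.ofReal_injective)))
    rintro _ ⟨s, rfl⟩
    exact h s
  refine ⟨_, isUnit_iff_ne_zero.2 (hev s ▸ hs), ?_⟩
  rw [cj_add, cj_smul, cj_smul, cj_one, Matrix.mul_add, Matrix.mul_smul, Matrix.mul_smul, hM,
    Matrix.mul_one, add_comm]
  simp [sub_eq_add_neg]

theorem exists_real_rep (hρ : ρ.IsIrreducible) {N : Matrix (Fin n) (Fin n) ℂ}
    (hN : IsInvForm ρ N) (hN0 : N ≠ 0) (hsym : Nᵀ = N) :
    ∃ σ : Representation ℝ G (Fin n → ℝ),
      ∀ g, ((LinearMap.trace ℝ (Fin n → ℝ) (σ g) : ℝ) : ℂ) = ρ.character g := by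
  classical
  obtain ⟨M, hM, hcomm⟩ := exists_real_structure ρ hρ hN hN0 hsym
  obtain ⟨P, hP, hMP⟩ := exists_basis M hM
  let B : G → Matrix (Fin n) (Fin n) ℂ := fun g => P⁻¹ * repMat ρ g * P
  have hPB : ∀ g, P * B g = repMat ρ g * P := fun g => by
    simp only [B, ← Matrix.mul_assoc, Matrix.mul_nonsing_inv _ hP, Matrix.one_mul]
  have hreal : ∀ g, cj (B g) = B g := fun g => by
    have : P * cj (B g) = P * B g := by
      conv_lhs => rw [← hMP]
      rw [Matrix.mul_assoc, ← cj_mul, hPB, cj_mul, ← Matrix.mul_assoc, ← hcomm, Matrix.mul_assoc,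
        hMP]
    have := congrArg (P⁻¹ * ·) this
    simpa only [← Matrix.mul_assoc, Matrix.nonsing_inv_mul _ hP, Matrix.one_mul] using this
  let R : G → Matrix (Fin n) (Fin n) ℝ := fun g => (B g).map Complex.re
  have hR : ∀ g, (R g).map Complex.ofRealHom = B g := fun g => by
    ext i j
    exact Complex.conj_eq_iff_re.1 (congrFun (congrFun (hreal g) i) j)
  have hinj : Function.Injective (fun K : Matrix (Fin n) (Fin n) ℝ => K.map Complex.ofRealHom) :=
    Matrix.map_injective Complex.ofReal_injective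
  have hone : R 1 = 1 := hinj (by
    simp only [hR, B, repMat_one, Matrix.mul_one, Matrix.nonsing_inv_mul _ hP,
      Matrix.map_one _ (map_zero _) (map_one _)])
  have hmul : ∀ g h, R (g * h) = R g * R h := fun g h => hinj (by
    simp only [hR, Matrix.map_mul]
    simp only [B, repMat_mul, Matrix.mul_assoc]
    rw [← Matrix.mul_assoc P P⁻¹, Matrix.mul_nonsing_inv _ hP, Matrix.one_mul])
  let σ : Representation ℝ G (Fin n → ℝ) :=
    { toFun := fun g => Matrix.toLin' (R g)
      map_one' := by rw [hone, Matrix.toLin'_one]; rfl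
      map_mul' := fun g h => by rw [hmul, Matrix.toLin'_mul]; rfl }
  refine ⟨σ, fun g => ?_⟩
  show ((LinearMap.trace ℝ (Fin n → ℝ) (Matrix.toLin' (R g)) : ℝ) : ℂ) = _
  rw [Matrix.trace_toLin'_eq, ← trace_repMat]
  have : (B g).trace = (repMat ρ g).trace := by
    simp only [B]
    rw [Matrix.trace_mul_comm, ← Matrix.mul_assoc, Matrix.mul_nonsing_inv _ hP, Matrix.one_mul]
  rw [← this, ← hR]
  simp [Matrix.trace]


/-- Let χ be an irreducible character of the finite group G. Then the Frobenius–Schur indicator of χ (the average over s ∈ G of χ(s²)) equals 1 if and only if χ is afforded by a real representation: there is a representation of G on a real coordinate space whose trace function, viewed in ℂ, is χ. -/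
theorem result {G : Type*} [Group G] [Fintype G] (χ : Cfsg.IrrCharacter G) : ((Nat.card G : ℂ)⁻¹ * ∑ s : G, (χ : G → ℂ) (s * s)) = 1 ↔ ∃ (n : ℕ) (ρ : Representation ℝ G (Fin n → ℝ)), ∀ g : G, ((LinearMap.trace ℝ (Fin n → ℝ) (ρ g) : ℝ) : ℂ) = (χ : G → ℂ) g := by
  classical
  constructor
  · intro hν
    obtain ⟨f, hf⟩ := χ
    obtain ⟨m, ρ, hρ, rfl⟩ := hf
    have hreal : ∀ g, conj (ρ.character g) = ρ.character g := by
      by_contra h
      have := indicator_eq_zero_of_not_real ρ hρ h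
      exact zero_ne_one (this.symm.trans hν)
    obtain ⟨N, hN, hN0⟩ := exists_invForm ρ hρ hreal
    have hsym := transpose_invForm ρ hρ hreal hN
    rw [show (Nat.card G : ℂ)⁻¹ * ∑ g, ρ.character (g * g) = 1 from hν, one_smul] at hsym
    obtain ⟨σ, hσ⟩ := exists_real_rep ρ hρ hN hN0 hsym
    exact ⟨m, σ, hσ⟩
  · rintro ⟨m, σ, hσ⟩
    let ρ : Representation ℂ G (Fin m → ℂ) :=
      { toFun := fun g => Matrix.toLin' ((LinearMap.toMatrix' (σ g)).map Complex.ofRealHom)
        map_one' := by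
          rw [map_one, Module.End.one_eq_id, LinearMap.toMatrix'_id,
            Matrix.map_one _ (map_zero _) (map_one _), Matrix.toLin'_one]; rfl
        map_mul' := fun g h => by
          rw [map_mul, Module.End.mul_eq_comp, LinearMap.toMatrix'_comp, Matrix.map_mul,
            Matrix.toLin'_mul]
          rfl }
    have hrep : ∀ g, repMat ρ g = (LinearMap.toMatrix' (σ g)).map Complex.ofRealHom := fun g =>
      LinearMap.toMatrix'_toLin' _
    have hchar : ρ.character = (χ : G → ℂ) := funext fun g => by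
      rw [← trace_repMat, hrep, ← hσ g,
        LinearMap.trace_eq_matrix_trace ℝ (Pi.basisFun ℝ (Fin m)), LinearMap.toMatrix_eq_toMatrix']
      simp [Matrix.trace]
    have hρ : ρ.IsIrreducible := isIrreducible_of_norm_one ρ (by
      rw [hchar]; exact classInner_self_irr χ.2)
    have hreal : ∀ g, conj (ρ.character g) = ρ.character g := fun g => by
      rw [hchar, ← hσ g, Complex.conj_ofReal]
    set N := ∑ g, (repMat ρ g)ᵀ * repMat ρ g with hNdef
    have hN : IsInvForm ρ N := fun h => by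
      rw [hNdef, Finset.mul_sum, Finset.sum_mul]
      refine Fintype.sum_equiv (Equiv.mulRight h) _ _ fun g => ?_
      simp only [Equiv.coe_mulRight, repMat_mul, Matrix.transpose_mul, Matrix.mul_assoc]
    have hN0 : N ≠ 0 := by
      obtain ⟨i⟩ : Nonempty (Fin m) := by
        by_contra he
        rw [not_nonempty_iff] at he
        have h1 := congrFun hchar 1
        rw [← trace_repMat, Matrix.trace, Finset.univ_eq_empty, Finset.sum_empty] at h1
        exact IsIrrCharacter.one_ne_zero χ.2 h1.symm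
      intro h
      have hHN : herm ρ = N := by
        rw [hNdef, herm]
        refine Finset.sum_congr rfl fun g _ => ?_
        congr 1
        rw [hrep]
        ext a b
        simp
      have hu := herm_unit ρ
      haveI : Nonempty (Fin m) := ⟨i⟩
      rw [hHN, h, Matrix.det_zero] at hu
      exact not_isUnit_zero hu
    have hsymN : Nᵀ = N := by
      rw [hNdef, Matrix.transpose_sum]
      exact Finset.sum_congr rfl fun g _ => by rw [Matrix.transpose_mul, Matrix.transpose_transpose]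
    have h := transpose_invForm ρ hρ hreal hN
    rw [hsymN, hchar] at h
    have h3 : ((Nat.card G : ℂ)⁻¹ * ∑ g, (χ : G → ℂ) (g * g) - 1) • N = 0 := by
      rw [sub_smul, ← h, one_smul, sub_self]
    exact sub_eq_zero.1 ((smul_eq_zero.1 h3).resolve_right hN0)

end Cfsg.Agent.S4474
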