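import Cfsg.Statements.S4476
import Cfsg.Agent.Lib.Char.FrobeniusSchur
import Cfsg.Agent.Lib.Blocks.Section
import Cfsg.Agent.Lib.Char.Degree

set_option autoImplicit false
open Cfsg

namespace Cfsg.Agent.S4476

/-- Let G be a finite group of even order g with exactly t involutions, and put α = (g − 1)/t (a rational number). Then (a) some non-identity element x of G has at most α² conjugates; and (b) some non-principal real-valued irreducible character of G has degree at most α. -/
theorem result {G : Type*} [Group G] [Fintype G] (heven : Even (Nat.card G)) (t : ℕ) (ht : Nat.card {x : G // orderOf x = 2} = t) : (∃ x : G, x ≠ 1 ∧ ((Subgroup.centralizer ({x} : Set G)).index : ℚ) ≤ (((Nat.card G : ℚ) - 1) / t) ^ 2) ∧ ∃ χ : Cfsg.IrrCharacter G, (χ : G → ℂ) ≠ (fun _ => 1) ∧ (∀ g : G, ((χ : G → ℂ) g).im = 0) ∧ (Cfsg.charDegree (χ : G → ℂ) : ℚ) ≤ ((Nat.card G : ℚ) - 1) / t := by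
  classical
  haveI : Finite (ConjClasses G) := Finite.of_surjective _ ConjClasses.mk_surjective
  haveI : Fintype (ConjClasses G) := Fintype.ofFinite _
  set ν : Cfsg.IrrCharacter G → ℂ :=
    fun χ => (Nat.card G : ℂ)⁻¹ * ∑ g : G, (χ : G → ℂ) (g * g) with hν
  have hG : (Nat.card G : ℂ) ≠ 0 := Nat.cast_ne_zero.2 Nat.card_pos.ne'
  have hsum : ∑ χ : Cfsg.IrrCharacter G, ν χ * (χ : G → ℂ) 1 = 1 + (t : ℂ) := by
    have h1 : ∀ g : G, ∑ χ : Cfsg.IrrCharacter G, (χ : G → ℂ) (g * g) * (χ : G → ℂ) 1 =
        if g * g = 1 then (Nat.card G : ℂ) else 0 := by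
      intro g
      have h := Blocks.sum_irr_one_mul (G := G) (g * g)⁻¹
      simp only [inv_eq_one] at h
      rw [← h]
      exact Finset.sum_congr rfl fun χ _ => by rw [Blocks.irr_inv, Complex.conj_conj, mul_comm]
    simp only [hν, Finset.mul_sum, Finset.sum_mul]
    rw [Finset.sum_comm]
    simp only [mul_assoc, ← Finset.mul_sum, h1]
    rw [Finset.mul_sum, ← Finset.mul_sum, ← Finset.sum_filter, Finset.sum_const, nsmul_eq_mul,
      mul_comm, mul_assoc, mul_inv_cancel₀ hG, mul_one]
    rw [← ht, Nat.card_eq_fintype_card, Fintype.card_subtype, ← Nat.cast_one, ← Nat.cast_add]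
    congr 1
    rw [show (Finset.univ.filter fun g : G => g * g = 1) =
        insert 1 (Finset.univ.filter fun g : G => orderOf g = 2) by
      ext g
      simp only [Finset.mem_filter, Finset.mem_univ, true_and, Finset.mem_insert]
      constructor
      · intro hg
        by_cases h : g = 1
        · exact Or.inl h
        · exact Or.inr (orderOf_eq_prime (by rw [pow_two]; exact hg) h)
      · rintro (rfl | hg)
        · exact one_mul 1
        · rw [← pow_two, ← hg, pow_orderOf_eq_one],
      Finset.card_insert_of_notMem (by simp), add_comm]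
  have htpos : 0 < t := by
    obtain ⟨x, hx⟩ := exists_prime_orderOf_dvd_card' 2 (even_iff_two_dvd.1 heven)
    rw [← ht]
    haveI : Nonempty {x : G // orderOf x = 2} := ⟨⟨x, hx⟩⟩
    exact Nat.card_pos
  set R := (Finset.univ.filter fun χ : Cfsg.IrrCharacter G =>
    (∀ g : G, (starRingEnd ℂ) ((χ : G → ℂ) g) = (χ : G → ℂ) g) ∧
      (χ : G → ℂ) ≠ fun _ => 1) with hR
  have hle : (t : ℝ) ≤ ∑ χ ∈ R, (Cfsg.charDegree (χ : G → ℂ) : ℝ) := by
    set p := Char.principal G with hp
    have hp1 : ν p = 1 := by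
      simp only [hν]
      rw [show (p : G → ℂ) = fun _ => 1 from rfl, Finset.sum_const, Finset.card_univ,
        ← Nat.card_eq_fintype_card, nsmul_one, inv_mul_cancel₀ hG]
    rw [← Finset.add_sum_erase _ _ (Finset.mem_univ p), hp1,
      show (p : G → ℂ) 1 = 1 from rfl, one_mul, add_right_inj] at hsum
    have hn : ‖((t : ℕ) : ℂ)‖ ≤ ∑ χ ∈ R, (Cfsg.charDegree (χ : G → ℂ) : ℝ) := by
      rw [← hsum]
      refine (norm_sum_le _ _).trans ?_
      rw [← Finset.sum_filter_add_sum_filter_not (Finset.univ.erase p)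
        (fun χ => χ ∈ R)]
      have hz : ∀ χ ∈ (Finset.univ.erase p).filter (fun χ => χ ∉ R),
          ‖ν χ * (χ : G → ℂ) 1‖ = 0 := by
        intro χ hχ
        obtain ⟨hχ1, hχR⟩ := Finset.mem_filter.1 hχ
        have hne : (χ : G → ℂ) ≠ fun _ => 1 := fun e =>
          (Finset.mem_erase.1 hχ1).1 (Subtype.ext e)
        rcases FSchur.irr_indicator χ with ⟨-, e⟩ | ⟨hr, -⟩
        · change ‖((Nat.card G : ℂ)⁻¹ * ∑ g : G, (χ : G → ℂ) (g * g)) * (χ : G → ℂ) 1‖ = 0
          rw [e, zero_mul, norm_zero]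
        · exact absurd (Finset.mem_filter.2 ⟨Finset.mem_univ _, hr, hne⟩) hχR
      rw [Finset.sum_eq_zero hz, add_zero]
      refine le_trans (Finset.sum_le_sum fun χ _ => ?_)
        (Finset.sum_le_sum_of_subset_of_nonneg (fun χ hχ => (Finset.mem_filter.1 hχ).2)
          fun _ _ _ => Nat.cast_nonneg _)
      rw [norm_mul, Blocks.irr_one_eq_charDegree, Complex.norm_natCast]
      refine mul_le_of_le_one_left (Nat.cast_nonneg _) ?_
      change ‖(Nat.card G : ℂ)⁻¹ * ∑ g : G, (χ : G → ℂ) (g * g)‖ ≤ 1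
      rcases FSchur.irr_indicator χ with ⟨-, e⟩ | ⟨-, e | ⟨e, -⟩⟩ <;> rw [e] <;> simp
    simpa using hn
  have hsq : ∑ χ ∈ R, (Cfsg.charDegree (χ : G → ℂ) : ℝ) ^ 2 ≤ (Nat.card G : ℝ) - 1 := by
    have h1 := CharX.sum_deg_sq (G := G)
    rw [← Finset.add_sum_erase _ _ (Finset.mem_univ (Char.principal G))] at h1
    have h2 : Cfsg.charDegree ((Char.principal G : Cfsg.IrrCharacter G) : G → ℂ) = 1 := by
      have h3 := Blocks.irr_one_eq_charDegree (Char.principal G)
      rw [show ((Char.principal G : Cfsg.IrrCharacter G) : G → ℂ) 1 = ((1 : ℕ) : ℂ) from by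
        rw [Nat.cast_one]; rfl, Nat.cast_inj] at h3
      exact h3.symm
    rw [h2, one_pow] at h1
    have h4 : ((1 + ∑ χ ∈ Finset.univ.erase (Char.principal G),
        Cfsg.charDegree (χ : G → ℂ) ^ 2 : ℕ) : ℝ) = (Nat.card G : ℝ) := by exact_mod_cast h1
    push_cast at h4
    refine le_trans (Finset.sum_le_sum_of_subset_of_nonneg (t := Finset.univ.erase (Char.principal G))
      (fun χ hχ => Finset.mem_erase.2 ⟨fun e => ?_, Finset.mem_univ _⟩)
      fun _ _ _ => sq_nonneg _) (by linarith)
    exact (Finset.mem_filter.1 hχ).2.2 (e ▸ rfl)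
  set α : ℝ := ((Nat.card G : ℝ) - 1) / t with hα
  have hg1 : (1 : ℝ) < Nat.card G := by
    have h2 : 2 ∣ Nat.card G := even_iff_two_dvd.1 heven
    exact_mod_cast (Nat.le_of_dvd Nat.card_pos h2)
  have ht0 : (0 : ℝ) < t := by exact_mod_cast htpos
  have hαpos : 0 < α := div_pos (by linarith) ht0
  have htα : (t : ℝ) * α = (Nat.card G : ℝ) - 1 := by rw [hα]; field_simp
  refine ⟨?_, ?_⟩
  · by_contra hno
    push Not at hno
    have hbig : ∀ x : G, x ≠ 1 → α ^ 2 <
        ((Subgroup.centralizer ({x} : Set G)).index : ℝ) := by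
      intro x hx
      have := (Rat.cast_lt (K := ℝ)).2 (hno x hx)
      push_cast at this
      exact this
    have hk : ((Finset.univ.erase (Char.principal G)).card : ℝ) =
        ∑ x ∈ Finset.univ.erase (1 : G),
          (1 : ℝ) / ((Subgroup.centralizer ({x} : Set G)).index : ℝ) := by
      have h1 : (Fintype.card (ConjClasses G) : ℝ) =
          ∑ x : G, (1 : ℝ) / ((Subgroup.centralizer ({x} : Set G)).index : ℝ) := by
        rw [← Finset.sum_fiberwise Finset.univ ConjClasses.mk, ← Finset.card_univ,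
          Finset.card_eq_sum_ones, Nat.cast_sum]
        refine Finset.sum_congr rfl fun C _ => ?_
        obtain ⟨g, rfl⟩ := ConjClasses.mk_surjective C
        rw [Finset.sum_congr rfl (g := fun _ =>
          (1 : ℝ) / ((Subgroup.centralizer ({g} : Set G)).index : ℝ)) fun x hx => ?_,
          Finset.sum_const, nsmul_eq_mul]
        · have hc : (Finset.univ.filter fun x : G => ConjClasses.mk x = ConjClasses.mk g).card =
              (Subgroup.centralizer ({g} : Set G)).index := by
            rw [← Blocks.card_isConj_eq_index g, Nat.card_eq_fintype_card, Fintype.card_subtype]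
            exact congrArg Finset.card (Finset.filter_congr fun x _ => by
              rw [ConjClasses.mk_eq_mk_iff_isConj, isConj_comm])
          rw [hc, Nat.cast_one, mul_one_div, div_self]
          exact Nat.cast_ne_zero.2 Subgroup.index_ne_zero_of_finite
        · obtain ⟨c, rfl⟩ := isConj_iff.1
            (ConjClasses.mk_eq_mk_iff_isConj.1 (Finset.mem_filter.1 hx).2).symm
          congr 2
          have h2 := (Subgroup.centralizer ({g} : Set G)).card_mul_index
          have h3 := (Subgroup.centralizer ({c * g * c⁻¹} : Set G)).card_mul_index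
          rw [Blocks.card_centralizer_conj] at h3
          exact mul_left_cancel₀ (Nat.card_pos.ne') (h3.trans h2.symm)
      have h1' : (Subgroup.centralizer ({(1 : G)} : Set G)).index = 1 := by
        rw [Subgroup.index_eq_one, eq_top_iff]
        intro x _
        simp [Subgroup.mem_centralizer_singleton_iff]
      rw [← Finset.add_sum_erase _ _ (Finset.mem_univ (1 : G)), h1', Nat.cast_one, div_one] at h1
      rw [Finset.card_erase_of_mem (Finset.mem_univ _), Finset.card_univ,
        Nat.cast_sub (Fintype.card_pos_iff.2 ⟨Char.principal G⟩), Nat.cast_one, ← Nat.card_eq_fintype_card,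
        Char.card_irrCharacter, Nat.card_eq_fintype_card]
      linarith
    have hlt : ((Finset.univ.erase (Char.principal G)).card : ℝ) * α ^ 2 <
        (Nat.card G : ℝ) - 1 := by
      rw [hk, Finset.sum_mul]
      have hne : (Finset.univ.erase (1 : G)).Nonempty := by
        obtain ⟨x, hx⟩ := exists_prime_orderOf_dvd_card' 2 (even_iff_two_dvd.1 heven)
        exact ⟨x, Finset.mem_erase.2 ⟨fun e => by simp [e] at hx, Finset.mem_univ _⟩⟩
      refine lt_of_lt_of_le (Finset.sum_lt_sum_of_nonempty hne (g := fun _ => (1 : ℝ))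
        fun x hx => ?_) ?_
      · rw [div_mul_eq_mul_div, one_mul, div_lt_one ((pow_pos hαpos 2).trans
          (hbig x (Finset.mem_erase.1 hx).1))]
        exact hbig x (Finset.mem_erase.1 hx).1
      · rw [Finset.sum_const, nsmul_one, Finset.card_erase_of_mem (Finset.mem_univ _),
          Finset.card_univ, ← Nat.card_eq_fintype_card, Nat.cast_sub Nat.card_pos, Nat.cast_one]
    have hcs := sq_sum_le_card_mul_sum_sq (s := R)
      (f := fun χ : Cfsg.IrrCharacter G => (Cfsg.charDegree (χ : G → ℂ) : ℝ))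
    have hsubR : R ⊆ Finset.univ.erase (Char.principal G) := fun χ hχ =>
        Finset.mem_erase.2 ⟨fun e => (Finset.mem_filter.1 hχ).2.2 (e ▸ rfl), Finset.mem_univ _⟩
    have hcard : (R.card : ℝ) ≤ (Finset.univ.erase (Char.principal G)).card :=
      Nat.cast_le.2 (Finset.card_le_card hsubR)
    have h1 : (t : ℝ) ^ 2 ≤ ((Finset.univ.erase (Char.principal G)).card : ℝ) *
        ((Nat.card G : ℝ) - 1) :=
      (pow_le_pow_left₀ ht0.le hle 2).trans (hcs.trans
        (mul_le_mul hcard hsq (Finset.sum_nonneg fun _ _ => sq_nonneg _) (Nat.cast_nonneg _)))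
    have h2 : (t : ℝ) ^ 2 * α ^ 2 = ((Nat.card G : ℝ) - 1) ^ 2 := by rw [← mul_pow, htα]
    nlinarith [mul_le_mul_of_nonneg_right h1 (sq_nonneg α)]
  · by_contra hno
    push Not at hno
    have hbig : ∀ χ ∈ R, α < (Cfsg.charDegree (χ : G → ℂ) : ℝ) := by
      intro χ hχ
      obtain ⟨hr, hne⟩ := (Finset.mem_filter.1 hχ).2
      have := (Rat.cast_lt (K := ℝ)).2
        (hno χ hne fun g => Complex.conj_eq_iff_im.1 (hr g))
      push_cast at this
      exact this
    have hne : R.Nonempty := by
      rw [Finset.nonempty_iff_ne_empty]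
      intro e
      rw [e, Finset.sum_empty] at hle
      linarith
    have h1 : ∑ χ ∈ R, (Cfsg.charDegree (χ : G → ℂ) : ℝ) * α <
        ∑ χ ∈ R, (Cfsg.charDegree (χ : G → ℂ) : ℝ) ^ 2 :=
      Finset.sum_lt_sum_of_nonempty hne fun χ hχ => by
        rw [pow_two]
        exact mul_lt_mul_of_pos_left (hbig χ hχ) (hαpos.trans (hbig χ hχ))
    rw [← Finset.sum_mul] at h1
    nlinarith [mul_le_mul_of_nonneg_right hle hαpos.le]

end Cfsg.Agent.S4476
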