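import Cfsg.Statements.S4478
import Cfsg.Agent.Lib.Blocks.Degree
import Cfsg.Agent.Lib.Blocks.RegTrExact
import Cfsg.Agent.Lib.Char.FrobeniusSchur
import Cfsg.Agent.Lib.Blocks.Center

set_option autoImplicit false
open Cfsg

namespace Cfsg.Agent.S4478

/-- Let G be a finite group of even order and χ an irreducible character of G whose degree x is divisible by the full power of 2 dividing the order of G and, for every odd prime p such that G has an element of order 2p, by the full power of p dividing the order of G. Then all involutions of G are conjugate, the centralizer of every involution has order exactly x with x coprime to its index, and the Frobenius–Schur indicator of χ equals 1. -/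
theorem result {G : Type*} [Group G] [Fintype G] (heven : Even (Nat.card G)) (χ : Cfsg.IrrCharacter G) (h2 : 2 ^ (Nat.card G).factorization 2 ∣ Cfsg.charDegree (χ : G → ℂ)) (hp : ∀ p : ℕ, p.Prime → p ≠ 2 → (∃ g : G, orderOf g = 2 * p) → p ^ (Nat.card G).factorization p ∣ Cfsg.charDegree (χ : G → ℂ)) : (∀ s t : G, orderOf s = 2 → orderOf t = 2 → IsConj s t) ∧ (∀ s : G, orderOf s = 2 → Nat.card (Subgroup.centralizer ({s} : Set G)) = Cfsg.charDegree (χ : G → ℂ) ∧ (Nat.card (Subgroup.centralizer ({s} : Set G))).Coprime (Subgroup.centralizer ({s} : Set G)).index) ∧ (Nat.card G : ℂ)⁻¹ * ∑ g : G, (χ : G → ℂ) (g * g) = 1 := by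
  classical
  set x := Cfsg.charDegree (χ : G → ℂ) with hx
  have hx0 : 0 < x := Cfsg.Agent.Blocks.charDegree_pos χ
  have hxC : (χ : G → ℂ) 1 = (x : ℂ) := Cfsg.Agent.Blocks.irr_one_eq_charDegree χ
  have hG0 : Nat.card G ≠ 0 := Nat.card_pos.ne'
  let Good : ℕ → Prop := fun p => p = 2 ∨ ∃ g : G, orderOf g = 2 * p
  have hfull : ∀ p : ℕ, p.Prime → Good p →
      p ^ (Nat.card G).factorization p ∣ x := by
    rintro p hpp (rfl | hg)
    · exact h2
    · by_cases h : p = 2
      · subst h; exact h2
      · exact hp p hpp h hg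
  have hvan : ∀ p : ℕ, p.Prime → Good p → ∀ g : G, p ∣ orderOf g → (χ : G → ℂ) g = 0 := by
    intro p hpp hgood g hg
    haveI := Fact.mk hpp
    obtain ⟨M, hM⟩ := Cfsg.Agent.GlaubermanMod.exists_isPModular p
    haveI : M.IsPrime := hM.2.1.isPrime
    have hfac : x.factorization p = (Nat.card G).factorization p :=
      le_antisymm (Cfsg.Agent.Blocks.degExp_le_card χ)
        ((hpp.pow_dvd_iff_le_factorization hx0.ne').1 (hfull p hpp hgood))
    have h := Cfsg.Agent.Blocks.blockCoeff_eq_zero_of_singular hM
      (Cfsg.Agent.Blocks.isPBlock_blockOf (M := M) χ) hg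
    rw [Cfsg.Agent.Blocks.blockOf_eq_singleton hM χ hfac, blockCoeff, finsum_mem_singleton] at h
    simp only [mul_eq_zero, inv_eq_zero, Nat.cast_eq_zero, hG0, false_or, map_eq_zero,
      Cfsg.Agent.Blocks.irr_one_ne_zero χ] at h
    exact h
  have hcent : ∀ s : G, orderOf s = 2 → ∀ p : ℕ, p.Prime →
      p ∣ Nat.card (Subgroup.centralizer ({s} : Set G)) → Good p := by
    intro s hs p hpp hd
    by_cases h : p = 2
    · exact Or.inl h
    · haveI := Fact.mk hpp
      obtain ⟨c, hc⟩ := exists_prime_orderOf_dvd_card' p hd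
      refine Or.inr ⟨s * (c : G), ?_⟩
      have hcs : Commute s (c : G) := Subgroup.mem_centralizer_singleton_iff.1 c.2 |>.symm
      rw [hcs.orderOf_mul_eq_mul_orderOf_of_coprime (by
        rw [hs, Subgroup.orderOf_coe, hc]; exact (Nat.coprime_primes Nat.prime_two hpp).2 (Ne.symm h)),
        hs, Subgroup.orderOf_coe, hc]
  have hdvd : ∀ s : G, orderOf s = 2 → Nat.card (Subgroup.centralizer ({s} : Set G)) ∣ x := by
    intro s hs
    refine (Nat.factorization_le_iff_dvd Nat.card_pos.ne' hx0.ne').1 fun p => ?_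
    by_cases hd : p.Prime ∧ p ∣ Nat.card (Subgroup.centralizer ({s} : Set G))
    · have hle := Nat.factorization_le_iff_dvd Nat.card_pos.ne' hG0 |>.2
        (Subgroup.card_subgroup_dvd_card (Subgroup.centralizer ({s} : Set G))) p
      exact hle.trans ((hd.1.pow_dvd_iff_le_factorization hx0.ne').1
        (hfull p hd.1 (hcent s hs p hd.1 hd.2)))
    · have : (Nat.card (Subgroup.centralizer ({s} : Set G))).factorization p = 0 := by
        rw [Nat.factorization_eq_zero_iff]
        tauto
      rw [this]; exact Nat.zero_le _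
  obtain ⟨s₀, hs₀⟩ := exists_prime_orderOf_dvd_card' (G := G) 2 (even_iff_two_dvd.1 heven)
  have hxev : 2 ∣ x := by
    refine dvd_trans ?_ h2
    exact dvd_pow_self 2 (Nat.prime_two.factorization_pos_of_dvd hG0 (even_iff_two_dvd.1 heven)).ne'
  -- the number of square roots
  have hfib : ∀ h : G, h ≠ 1 → (χ : G → ℂ) h ≠ 0 →
      (Finset.univ.filter fun g : G => g * g = h).card = 1 := by
    intro h h1 hne
    have hodd : ¬ 2 ∣ orderOf h := fun hd => hne (hvan 2 Nat.prime_two (Or.inl rfl) h hd)
    have huniq : ∀ g : G, g * g = h → orderOf g = orderOf h := by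
      intro g hg
      have hcases : ¬ 2 ∣ orderOf g := by
        intro hd
        have ho : orderOf h = orderOf g / 2 := by
          rw [← hg, ← pow_two, orderOf_pow' g two_ne_zero, Nat.gcd_eq_right hd]
        obtain ⟨q, hq, hqh⟩ := Nat.exists_prime_and_dvd (show orderOf h ≠ 1 by
          rwa [Ne, orderOf_eq_one_iff])
        refine hne (hvan q hq (Or.inr ?_) h hqh)
        have h2q : 2 * q ∣ orderOf g := by
          rw [← Nat.mul_div_cancel' hd, ← ho]
          exact mul_dvd_mul_left 2 hqh
        refine ⟨g ^ (orderOf g / (2 * q)), ?_⟩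
        exact orderOf_pow_orderOf_div (isOfFinOrder_of_finite g).orderOf_pos.ne' h2q
      rw [← hg, ← pow_two]
      exact (Nat.Coprime.orderOf_pow ((Nat.prime_two.coprime_iff_not_dvd.2 hcases).symm)).symm
    obtain ⟨k, hk⟩ := (Nat.odd_iff.2 (Nat.two_dvd_ne_zero.1 hodd) : Odd (orderOf h))
    refine Finset.card_eq_one.2 ⟨h ^ (k + 1), ?_⟩
    ext g
    simp only [Finset.mem_filter, Finset.mem_univ, true_and, Finset.mem_singleton]
    constructor
    · intro hg
      have hgo := huniq g hg
      rw [← hg, ← pow_two, ← pow_mul, show 2 * (k + 1) = orderOf g + 1 by omega, pow_succ,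
        pow_orderOf_eq_one, one_mul]
    · rintro rfl
      rw [← pow_two, ← pow_mul, show (k + 1) * 2 = orderOf h + 1 by omega, pow_succ,
        pow_orderOf_eq_one, one_mul]
  set I := Finset.univ.filter fun g : G => orderOf g = 2 with hI
  have h1c : (Finset.univ.filter fun g : G => g * g = 1).card = I.card + 1 := by
    have e : (Finset.univ.filter fun g : G => g * g = 1) = insert 1 I := by
      ext g
      simp only [hI, Finset.mem_filter, Finset.mem_univ, true_and, Finset.mem_insert,
        orderOf_eq_prime_iff, ← pow_two]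
      constructor
      · intro h
        by_cases hg : g = 1
        · exact Or.inl hg
        · exact Or.inr ⟨h, hg⟩
      · rintro (rfl | ⟨h, -⟩)
        · simp
        · exact h
    rw [e, Finset.card_insert_of_notMem (by simp [hI])]
  have hχne : (χ : G → ℂ) ≠ fun _ => 1 := by
    intro e
    have h1 : (x : ℂ) = ((1 : ℕ) : ℂ) := by rw [← hxC, e, Nat.cast_one]
    rw [Nat.cast_inj] at h1
    omega
  have hzero : ∑ h : G, (χ : G → ℂ) h = 0 := by
    have := Cfsg.Agent.Char.classInner_irr_of_ne χ.2 (Cfsg.Agent.Char.isIrrCharacter_one (G := G)) hχne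
    unfold classInner at this
    simpa [hG0] using this
  have hsum : ∑ g : G, (χ : G → ℂ) (g * g) = (x : ℂ) * (I.card : ℂ) := by
    rw [← Finset.sum_fiberwise Finset.univ (fun g : G => g * g)]
    have : ∀ h : G, ∑ g ∈ Finset.univ.filter (fun g : G => g * g = h), (χ : G → ℂ) (g * g) =
        (χ : G → ℂ) h + (if h = 1 then (x : ℂ) * (I.card : ℂ) else 0) := by
      intro h
      rw [Finset.sum_congr rfl (g := fun _ => (χ : G → ℂ) h) fun g hg => by
        rw [(Finset.mem_filter.1 hg).2], Finset.sum_const, nsmul_eq_mul]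
      by_cases h1 : h = 1
      · subst h1
        rw [if_pos rfl, h1c, hxC]; push_cast; ring
      · rw [if_neg h1, add_zero]
        by_cases hne : (χ : G → ℂ) h = 0
        · rw [hne, mul_zero]
        · rw [hfib h h1 hne, Nat.cast_one, one_mul]
    rw [Finset.sum_congr rfl fun h _ => this h, Finset.sum_add_distrib, hzero, Finset.sum_ite_eq',
      if_pos (Finset.mem_univ _), zero_add]
  have hIpos : 0 < I.card := Finset.card_pos.2 ⟨s₀, by simp [hI, hs₀]⟩
  have hν : (Nat.card G : ℂ)⁻¹ * ∑ g : G, (χ : G → ℂ) (g * g) = 1 := by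
    rcases Cfsg.Agent.FSchur.irr_indicator χ with ⟨-, h0⟩ | ⟨-, h0 | ⟨h0, -⟩⟩
    · rw [hsum] at h0
      simp [hG0, hx0.ne', hIpos.ne'] at h0
    · exact h0
    · exfalso
      rw [hsum, inv_mul_eq_iff_eq_mul₀ (Nat.cast_ne_zero.2 hG0)] at h0
      have : ((x * I.card + Nat.card G : ℕ) : ℂ) = ((0 : ℕ) : ℂ) := by
        push_cast; rw [h0]; ring
      rw [Nat.cast_inj] at this
      omega
  have hcardG : x * I.card = Nat.card G := by
    have h0 := hν
    rw [hsum, inv_mul_eq_iff_eq_mul₀ (Nat.cast_ne_zero.2 hG0), mul_one] at h0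
    exact_mod_cast h0
  have hclass : ∀ s : G, orderOf s = 2 →
      (Finset.univ.filter fun t : G => IsConj s t) = I ∧
        Nat.card (Subgroup.centralizer ({s} : Set G)) = x := by
    intro s hs
    have hle : Nat.card (Subgroup.centralizer ({s} : Set G)) ≤ x := Nat.le_of_dvd hx0 (hdvd s hs)
    have hsub : (Finset.univ.filter fun t : G => IsConj s t) ⊆ I := by
      intro t ht
      obtain ⟨c, rfl⟩ := isConj_iff.1 (Finset.mem_filter.1 ht).2
      refine Finset.mem_filter.2 ⟨Finset.mem_univ _, ?_⟩
      rw [← hs]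
      exact orderOf_injective (MulAut.conj c).toMonoidHom (MulAut.conj c).injective s
    have hcc : Nat.card (Subgroup.centralizer ({s} : Set G)) *
        (Finset.univ.filter fun t : G => IsConj s t).card = x * I.card := by
      rw [hcardG, ← Fintype.card_subtype, ← Nat.card_eq_fintype_card,
        Cfsg.Agent.Blocks.card_isConj_eq_index, Subgroup.card_mul_index]
    have hle2 := Finset.card_le_card hsub
    have h1 : (Finset.univ.filter fun t : G => IsConj s t).card = I.card := by
      by_contra hne
      have hlt : (Finset.univ.filter fun t : G => IsConj s t).card < I.card := lt_of_le_of_ne hle2 hne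
      have := Nat.mul_lt_mul_of_le_of_lt hle hlt hx0
      omega
    refine ⟨Finset.eq_of_subset_of_card_le hsub h1.ge, ?_⟩
    rw [h1] at hcc
    exact Nat.eq_of_mul_eq_mul_right hIpos hcc
  refine ⟨fun s t hs ht => ?_, fun s hs => ⟨(hclass s hs).2, ?_⟩, hν⟩
  · have : t ∈ I := Finset.mem_filter.2 ⟨Finset.mem_univ _, ht⟩
    rw [← (hclass s hs).1] at this
    exact (Finset.mem_filter.1 this).2
  · refine Nat.coprime_of_dvd fun p hpp hpC hpi => ?_
    have hfl := hfull p hpp (hcent s hs p hpp hpC)
    rw [← (hclass s hs).2] at hfl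
    have hmul := Subgroup.card_mul_index (Subgroup.centralizer ({s} : Set G))
    have h3 := congrArg (fun n : ℕ => n.factorization p) hmul
    simp only [Nat.factorization_mul Nat.card_pos.ne' Subgroup.index_ne_zero_of_finite,
      Finsupp.add_apply] at h3
    have h4 := (hpp.pow_dvd_iff_le_factorization Nat.card_pos.ne').1 hfl
    have h5 := hpp.factorization_pos_of_dvd
      (Subgroup.index_ne_zero_of_finite (H := Subgroup.centralizer ({s} : Set G))) hpi
    omega

end Cfsg.Agent.S4478
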