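import Cfsg.Statements.S4480
import Cfsg.Agent.Lib.Blocks.KleinPrincipal

set_option autoImplicit false
open Cfsg

namespace Cfsg.Agent.S4480

lemma setup {G : Type*} [Group G] [Finite G] (g₀ : ℕ) (hg₀ : Odd g₀) (hG : Nat.card G = 4 * g₀)
    (hnc : ¬ ∃ N : Subgroup G, N.Normal ∧ Nat.card N = g₀) (P : Sylow 2 G) : KleinBlock.Setup G := by
  haveI : Fact (Nat.Prime 2) := ⟨Nat.prime_two⟩
  have h2 : (Nat.card G).factorization 2 = 2 := by
    rw [hG, Nat.factorization_mul (by norm_num) (by rintro rfl; simp at hg₀), Finsupp.add_apply,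
      show (4 : ℕ) = 2 ^ 2 by norm_num, Nat.prime_two.factorization_pow, Finsupp.single_eq_same,
      Nat.factorization_eq_zero_of_not_dvd (fun h => (Nat.not_even_iff_odd.2 hg₀) (even_iff_two_dvd.2 h))]
  have hc : Nat.card (P : Subgroup G) = 4 := by rw [P.card_eq_multiplicity, h2]; norm_num
  refine KleinBlock.setup_of_no_complement P hc ?_
  rintro ⟨Q, N, hN, hcomp⟩
  refine hnc ⟨N, hN, ?_⟩
  have h := hcomp.card_mul
  rw [show Nat.card (Q : Subgroup G) = 4 by rw [Q.card_eq_multiplicity, h2]; norm_num, hG] at h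
  omega

/-- Same setting as the Klein-four order formula: G of order 4·g₀ (g₀ odd) with no normal 2-complement, P a Sylow 2-subgroup, J an involution of P, M over 2, principal 2-block {1, χ₁, χ₂, χ₃} with χ_i(J) = ε_i = ±1. Suppose ε₁ε₂ε₃ = −1 and ε₃ = −1, and put q = x₃ = χ₃(1). Then there is a natural number m with 4·c(J) = m·c(P)·(q + 1), and the order of G equals (m³·c(P)/4)·(q³ − q)/2, that is 8·#G = m³·c(P)·(q³ − q). -/
theorem result {G : Type*} [Group G] [Finite G] (M : Ideal Cfsg.AlgInt) (hM : Cfsg.IsPModular 2 M) (g₀ : ℕ) (hg₀ : Odd g₀) (hG : Nat.card G = 4 * g₀) (hnc : ¬ ∃ N : Subgroup G, N.Normal ∧ Nat.card N = g₀) (P : Sylow 2 G) (J : G) (hJ : J ∈ (P : Subgroup G)) (hJ2 : orderOf J = 2) (χ₁ χ₂ χ₃ : Cfsg.IrrCharacter G) (ε₁ ε₂ ε₃ : ℤ) (hB : Cfsg.principalBlock M G = {χ : Cfsg.IrrCharacter G | (χ : G → ℂ) = (fun _ => 1) ∨ χ = χ₁ ∨ χ = χ₂ ∨ χ = χ₃}) (hdist : (χ₁ : G →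 ℂ) ≠ (fun _ => 1) ∧ (χ₂ : G → ℂ) ≠ (fun _ => 1) ∧ (χ₃ : G → ℂ) ≠ (fun _ => 1) ∧ χ₁ ≠ χ₂ ∧ χ₁ ≠ χ₃ ∧ χ₂ ≠ χ₃) (hε : (ε₁ = 1 ∨ ε₁ = -1) ∧ (ε₂ = 1 ∨ ε₂ = -1) ∧ (ε₃ = 1 ∨ ε₃ = -1)) (hval : (χ₁ : G → ℂ) J = ε₁ ∧ (χ₂ : G → ℂ) J = ε₂ ∧ (χ₃ : G → ℂ) J = ε₃) (hprod : ε₁ * ε₂ * ε₃ = -1) (hε₃ : ε₃ = -1) : ∃ m : ℕ, 4 * Nat.card (Subgroup.centralizer ({J} : Set G)) = m * Nat.card (Subgroup.centralizer ((P : Subgroup G) : Set G)) * (Cfsg.charDegree (χ₃ : G → ℂ) + 1) ∧ 8 * Nat.card G = m ^ 3 * Nat.card (Subgroup.centralizer ((P : Subgroup G) : Set G)) * (Cfsg.charDegree (χ₃ : G → ℂ) ^ 3 - Cfsg.charDegree (χ₃ : G → ℂ)) := by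
  classical
  haveI := Fintype.ofFinite G
  haveI : M.IsPrime := hM.2.1.isPrime
  have hS := setup g₀ hg₀ hG hnc P
  obtain ⟨r, hr⟩ := KleinBlock.card_centralizer_sylow_dvd hS hJ2 P
  have hr' : Nat.card (Subgroup.centralizer ({J} : Set G)) =
      r * Nat.card (Subgroup.centralizer ((P : Subgroup G) : Set G)) := by rw [hr, mul_comm]
  have hrel := KleinBlock.degree_relation hM hS χ₁ χ₂ χ₃ ε₁ ε₂ ε₃ hJ2 hB hdist hval
  obtain ⟨m1, m2, m3⟩ := KleinBlock.mod_four hM hS χ₁ χ₂ χ₃ ε₁ ε₂ ε₃ hJ2 hB hdist hval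
  have p1 := Blocks.charDegree_pos χ₁
  have p2 := Blocks.charDegree_pos χ₂
  have p3 := Blocks.charDegree_pos χ₃
  obtain ⟨he1, he2⟩ : ε₁ = 1 ∧ ε₂ = 1 := by
    rcases hε.1 with e1 | e1 <;> rcases hε.2.1 with e2 | e2 <;> subst e1 e2 hε₃ <;> omega
  have hform := KleinBlock.order_formula hM hS χ₁ χ₂ χ₃ ε₁ ε₂ ε₃ hJ2 hB hdist hval hε P hr'
  have heq := KleinBlock.degree_eq hM hS χ₁ χ₂ χ₃ ε₁ ε₂ ε₃ hJ2 hB hdist hval he1 he2 hε₃
  subst he1 he2 hε₃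
  set x := charDegree (χ₁ : G → ℂ) with hx
  set q := charDegree (χ₃ : G → ℂ) with hqdef
  set cP := Nat.card (Subgroup.centralizer ((P : Subgroup G) : Set G)) with hcP
  rw [← heq] at hform hrel m2
  have hq : q = 2 * x + 1 := by omega
  obtain ⟨k, hk⟩ : ∃ k : ℕ, x = 4 * k + 1 := ⟨x / 4, by omega⟩
  set h := 2 * k + 1 with hh
  have hg : Nat.card G * h ^ 2 = r ^ 3 * cP * x * q := by
    have hx0 : (x : ℚ) ≠ 0 := Nat.cast_ne_zero.2 (by omega)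
    have hq0 : (q : ℚ) ≠ 0 := Nat.cast_ne_zero.2 (by omega)
    have hxq : (x : ℚ) = 4 * k + 1 := by exact_mod_cast hk
    have hqq : (q : ℚ) = 2 * x + 1 := by exact_mod_cast hq
    push_cast at hform
    field_simp at hform
    have : (Nat.card G : ℚ) * (h : ℚ) ^ 2 = (r : ℚ) ^ 3 * cP * x * q := by
      rw [hqq, hxq] at hform ⊢
      rw [hh]; push_cast
      apply mul_left_cancel₀ (show (8 : ℚ) * (4 * k + 1) ≠ 0 by positivity)
      first
        | linear_combination hform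
        | linear_combination (4 * (k : ℚ) + 1) * hform
    exact_mod_cast this
  have hr0 : 0 < r := by
    rcases Nat.eq_zero_or_pos r with h0 | h0
    · rw [h0, zero_mul] at hr'; exact absurd hr' Nat.card_pos.ne'
    · exact h0
  have hI : (Subgroup.centralizer ({J} : Set G)).index * h ^ 2 = r ^ 2 * (x * q) := by
    rw [← (Subgroup.centralizer ({J} : Set G)).card_mul_index, hr'] at hg
    apply Nat.eq_of_mul_eq_mul_left (mul_pos hr0 (Nat.card_pos (α := Subgroup.centralizer ((P : Subgroup G) : Set G))))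
    rw [← hcP, ← mul_assoc, hg]; ring
  have hcx : Nat.Coprime h x := by
    apply Nat.coprime_of_dvd'
    intro d _ h1 h2
    have h3 : d ∣ 2 * h := Dvd.dvd.mul_left h1 2
    rw [show 2 * h = x + 1 by omega] at h3
    exact (Nat.dvd_add_right h2).1 h3
  have hcq : Nat.Coprime h q := by
    apply Nat.coprime_of_dvd'
    intro d _ h1 h2
    have h3 : d ∣ 4 * h := Dvd.dvd.mul_left h1 4
    rw [show 4 * h = q + 1 by omega] at h3
    exact (Nat.dvd_add_right h2).1 h3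
  have hd : h ^ 2 ∣ r ^ 2 :=
    ((hcx.mul_right hcq).pow_left 2).dvd_of_dvd_mul_right ⟨_, by rw [← hI, mul_comm]⟩
  obtain ⟨m, hm⟩ := (Nat.pow_dvd_pow_iff two_ne_zero).1 hd
  refine ⟨m, by rw [hr', hm, show q + 1 = 4 * h by omega]; ring, ?_⟩
  have hgm : Nat.card G = m ^ 3 * h * cP * (x * q) := by
    apply Nat.eq_of_mul_eq_mul_right (show 0 < h ^ 2 by positivity)
    rw [hg, hm]; ring
  rw [hgm]
  have hcube : q ^ 3 - q = 8 * h * (x * q) := by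
    have : q ^ 3 = 8 * h * (x * q) + q := by rw [hh, hq, hk]; ring
    omega
  rw [hcube]; ring

end Cfsg.Agent.S4480
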