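import Cfsg.Statements.S4481
import Cfsg.Agent.Lib.Blocks.DihedralBlock

set_option autoImplicit false
open Cfsg

namespace Cfsg.Agent.S4481

/-- The principal 2-block of a group with dihedral Sylow 2-subgroups. Let G be a finite group whose Sylow 2-subgroup P is dihedral of order 2^n ≥ 8, let σ be an element of P of order 2^(n−1), ζ a primitive 2^(n−1)-th root of unity, and M a maximal ideal of the algebraic integers containing 2. Then the principal 2-block consists of exactly 3 + 2^(n−2) irreducible characters, which can be labelled 1, χ₁, χ₂, χ₃ and χ^(j) for 1 ≤ j ≤ 2^(n−2) − 1 (all distinct), with signs δ₁, δ₂, δ₃ such that for 0 < λ < 2^(n−1): χ₁(σ^λ) = δ₁, χ₂(σ^λ) = δ₂(−1)^(λ+1), χ₃(σ^λ) = δ₃(−1)^(λ+1) and χ^(j)(σ^λ) = δ₁(ζ^(jλ) + ζ^(−jλ)); and for every element ρ of odd order and every j: 1 + δ₁χ₁(ρ) = −δ₂χ₂(ρ) − δ₃χ₃(ρ) = δ₁χ^(j)(ρ).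 -/
theorem result {G : Type*} [Group G] [Finite G] (M : Ideal Cfsg.AlgInt) (hM : Cfsg.IsPModular 2 M) (n : ℕ) (hn : 3 ≤ n) (P : Sylow 2 G) (hP : Nonempty ((P : Subgroup G) ≃* DihedralGroup (2 ^ (n - 1)))) (σ : G) (hσ : σ ∈ (P : Subgroup G)) (hσo : orderOf σ = 2 ^ (n - 1)) (ζ : ℂ) (hζ : IsPrimitiveRoot ζ (2 ^ (n - 1))) : Nat.card (Cfsg.principalBlock M G) = 3 + 2 ^ (n - 2) ∧ ∃ (χ₁ χ₂ χ₃ : Cfsg.IrrCharacter G) (χ' : Fin (2 ^ (n - 2) - 1) → Cfsg.IrrCharacter G) (δ₁ δ₂ δ₃ : ℤ), (δ₁ = 1 ∨ δ₁ = -1) ∧ (δ₂ = 1 ∨ δ₂ = -1) ∧ (δ₃ = 1 ∨ δ₃ = -1) ∧ Function.Injective χ' ∧ (χ₁ : G → ℂ) ≠ (fun _ => 1) ∧ (χ₂ : G → ℂ) ≠ (fun _ => 1) ∧ (χ₃ : G → ℂ) ≠ (fun _ => 1) ∧ χ₁ ≠ χ₂ ∧ χ₁ ≠ χ₃ ∧ χ₂ ≠ χ₃ ∧ (∀ j, χ' j ≠ χ₁ ∧ χ' j ≠ χ₂ ∧ χ' j ≠ χ₃ ∧ (χ' j : G → ℂ) ≠ (fun _ => 1)) ∧ Cfsg.principalBlock M G = {χ : Cfsg.IrrCharacter G | (χ : G → ℂ) = (fun _ => 1) ∨ χ = χ₁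 ∨ χ = χ₂ ∨ χ = χ₃ ∨ ∃ j, χ = χ' j} ∧ (∀ l : ℕ, 0 < l → l < 2 ^ (n - 1) → (χ₁ : G → ℂ) (σ ^ l) = δ₁ ∧ (χ₂ : G → ℂ) (σ ^ l) = δ₂ * (-1) ^ (l + 1) ∧ (χ₃ : G → ℂ) (σ ^ l) = δ₃ * (-1) ^ (l + 1) ∧ ∀ j : Fin (2 ^ (n - 2) - 1), (χ' j : G → ℂ) (σ ^ l) = δ₁ * (ζ ^ (((j : ℕ) + 1) * l) + (ζ ^ (((j : ℕ) + 1) * l))⁻¹)) ∧ ∀ ρ : G, Odd (orderOf ρ) → ∀ j : Fin (2 ^ (n - 2) - 1), 1 + δ₁ * (χ₁ : G → ℂ) ρ = -δ₂ * (χ₂ : G → ℂ) ρ - δ₃ * (χ₃ : G → ℂ) ρ ∧ 1 + δ₁ * (χ₁ : G → ℂ) ρ = δ₁ * (χ' j : G → ℂ) ρ := by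
  classical
  haveI : Fintype G := Fintype.ofFinite G
  haveI : M.IsPrime := hM.2.1.isPrime
  have h2pow : 2 ^ (n - 1) = 2 * 2 ^ (n - 2) := by rw [← pow_succ', show n - 2 + 1 = n - 1 by omega]
  set h := 2 ^ (n - 2) with hh
  have h2 : 2 ≤ h := le_self_pow₀ (by norm_num) (by omega)
  have heven : 2 ∣ h := dvd_pow_self 2 (by omega)
  obtain ⟨d, hdm, hdx⟩ := DihBlock.exists_dih_gen hP (by omega) hσ hσo
  have hζ' : IsPrimitiveRoot ζ d.m := by rw [hdm]; exact hζ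
  obtain ⟨χ₁, χ₂, χ₃, q, e, ea, eb, he, hea, heb, n1, n2, n3, n12, n13, n23, hq, hqinj, hB, hval, hrel⟩ :=
    DihBlock.block_structure d hζ' hM (h := h) (by rw [hdm, h2pow]) h2 heven
  have hone : ∀ χ : Cfsg.IrrCharacter G,
      ((χ : G → ℂ) = fun _ => 1) ↔ χ = Cfsg.Agent.Char.principal G :=
    fun χ => ⟨fun hχ => Subtype.ext hχ, fun hχ => by rw [hχ]; rfl⟩
  set χ' : Fin (h - 1) → Cfsg.IrrCharacter G := fun j => q ((j : ℕ) + 1) with hχ'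
  have hj : ∀ j : Fin (h - 1), 1 ≤ (j : ℕ) + 1 ∧ (j : ℕ) + 1 < h := fun j =>
    ⟨by omega, by have := j.2; omega⟩
  have hinj : Function.Injective χ' := fun a b hab =>
    Fin.ext (by have := hqinj _ _ (hj a).1 (hj a).2 (hj b).1 (hj b).2 hab; omega)
  have hBset : Cfsg.principalBlock M G = {χ : Cfsg.IrrCharacter G |
      (χ : G → ℂ) = (fun _ => 1) ∨ χ = χ₁ ∨ χ = χ₂ ∨ χ = χ₃ ∨ ∃ j, χ = χ' j} := by
    ext χ
    rw [Set.mem_setOf_eq, hone, hB]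
    refine or_congr_right (or_congr_right (or_congr_right (or_congr_right ⟨?_, ?_⟩)))
    · rintro ⟨j, ⟨hj1, hjh⟩, rfl⟩
      exact ⟨⟨j - 1, by omega⟩, by simp only [hχ']; congr 1; omega⟩
    · rintro ⟨j, rfl⟩
      exact ⟨_, hj j, rfl⟩
  refine ⟨?_, χ₁, χ₂, χ₃, χ', e, ea, eb, he, hea, heb, hinj, (hone χ₁).not.2 n1, (hone χ₂).not.2 n2,
    (hone χ₃).not.2 n3, n12, n13, n23,
    fun j => ⟨(hq _ (hj j).1 (hj j).2).1, (hq _ (hj j).1 (hj j).2).2.1,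
      (hq _ (hj j).1 (hj j).2).2.2.1, (hone _).not.2 (hq _ (hj j).1 (hj j).2).2.2.2⟩, hBset,
    fun l hl0 hl => ?_, fun ρ hρ j => ?_⟩
  · have hset : Cfsg.principalBlock M G =
        ({Cfsg.Agent.Char.principal G, χ₁, χ₂, χ₃} : Set (Cfsg.IrrCharacter G)) ∪ Set.range χ' := by
      rw [hBset]
      ext χ
      simp only [Set.mem_setOf_eq, hone, Set.mem_union, Set.mem_insert_iff, Set.mem_singleton_iff,
        Set.mem_range]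
      constructor
      · rintro (h | h | h | h | ⟨j, rfl⟩)
        · exact Or.inl (Or.inl h)
        · exact Or.inl (Or.inr (Or.inl h))
        · exact Or.inl (Or.inr (Or.inr (Or.inl h)))
        · exact Or.inl (Or.inr (Or.inr (Or.inr h)))
        · exact Or.inr ⟨j, rfl⟩
      · rintro ((h | h | h | h) | ⟨j, rfl⟩)
        · exact Or.inl h
        · exact Or.inr (Or.inl h)
        · exact Or.inr (Or.inr (Or.inl h))
        · exact Or.inr (Or.inr (Or.inr (Or.inl h)))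
        · exact Or.inr (Or.inr (Or.inr (Or.inr ⟨j, rfl⟩)))
    rw [Nat.card_coe_set_eq, hset, Set.ncard_union_eq ?_ (Set.toFinite _) (Set.toFinite _),
      Set.ncard_range_of_injective hinj, Nat.card_fin,
      Set.ncard_insert_of_notMem (by simp [n1.symm, n2.symm, n3.symm]),
      Set.ncard_insert_of_notMem (by simp [n12, n13]), Set.ncard_pair n23]
    · omega
    · rw [Set.disjoint_left]
      rintro χ hχ ⟨j, rfl⟩
      obtain ⟨q1, q2, q3, q4⟩ := hq _ (hj j).1 (hj j).2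
      simp only [Set.mem_insert_iff, Set.mem_singleton_iff] at hχ
      rcases hχ with h | h | h | h
      · exact q4 h
      · exact q1 h
      · exact q2 h
      · exact q3 h
  · have hnd : ¬ d.m ∣ l := by
      rw [hdm]
      exact fun hd => absurd (Nat.le_of_dvd hl0 hd) (by omega)
    obtain ⟨v1, v2, v3, vq⟩ := hval l hnd
    rw [hdx] at v1 v2 v3 vq
    refine ⟨v1, v2, v3, fun j => ?_⟩
    rw [show (χ' j) = q ((j : ℕ) + 1) from rfl, vq _ (hj j).1 (hj j).2]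
    congr 2
    refine eq_inv_of_mul_eq_one_left ?_
    rw [← pow_add, ← add_mul, Nat.sub_add_cancel (by rw [hdm]; have := (hj j).2; omega), hdm, pow_mul,
      hζ.pow_eq_one, one_pow]
  · obtain ⟨r1, r2⟩ := hrel ρ (fun h2 => (Nat.not_even_iff_odd.2 hρ) (even_iff_two_dvd.2 h2))
    exact ⟨by linear_combination r1, by linear_combination r2 _ (hj j).1 (hj j).2⟩

end Cfsg.Agent.S4481
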