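import Cfsg.Statements.S4484
import Cfsg.Agent.Lib.Char.ThreePartBound

set_option autoImplicit false
set_option linter.style.haveILetI false

set_option autoImplicit false
open Cfsg

namespace Cfsg.Agent.S4484

/-- A refinement of Burnside's result on simple groups of order divisible by only two primes. Let G be a finite simple group of order p^a · q^b · g₀ with p, q distinct primes, a > 0, g₀ coprime to p and q, and the order of G different from p. Then g₀ − 1 > log p / log 6, that is 6^(g₀ − 1) > p. -/
theorem result {G : Type*} [Group G] [Finite G] [IsSimpleGroup G] (p q a b g₀ : ℕ) (hp : p.Prime) (hq : q.Prime) (hpq : p ≠ q) (ha : 0 < a) (hg : Nat.card G = p ^ a * q ^ b * g₀) (hcop : ¬ p ∣ g₀) (hcoq : ¬ q ∣ g₀) (hne : Nat.card G ≠ p) : p < 6 ^ (g₀ - 1) := by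
  classical
  haveI : Fintype G := Fintype.ofFinite G
  have hna : ∀ g : G, g ≠ 1 → ∃ a, a * g ≠ g * a := by
    intro g hg1
    by_contra hcon
    push Not at hcon
    have hg' : g ∈ Subgroup.center G := Subgroup.mem_center_iff.2 hcon
    have htop : Subgroup.center G = ⊤ :=
      (inferInstance : (Subgroup.center G).Normal).eq_bot_or_eq_top.resolve_left
        fun e => hg1 (Subgroup.mem_bot.1 (e ▸ hg'))
    have hcomm : ∀ x y : G, x * y = y * x := fun x y =>
      (Subgroup.mem_center_iff.1 (htop ▸ Subgroup.mem_top y) x)
    letI : CommGroup G := { (inferInstance : Group G) with mul_comm := hcomm }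
    have hprime := IsSimpleGroup.prime_card (α := G)
    have hdvd : p ∣ Nat.card G := hg ▸ dvd_mul_of_dvd_left (dvd_mul_of_dvd_left (dvd_pow_self p ha.ne') _) _
    exact hne ((Nat.prime_dvd_prime_iff_eq hp hprime).1 hdvd).symm
  exact Cfsg.Agent.ThreePartBound.main hna p q g₀ a b hp hq hpq ha hg hcop

end Cfsg.Agent.S4484
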