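import Cfsg.Statements.S4490
import Cfsg.Agent.Lib.Blocks.Real

set_option autoImplicit false
open Cfsg

namespace Cfsg.Agent.S4490

/-- Let G be a finite group and M a maximal ideal of the algebraic integers containing 2. Every 2-block B of G whose defect groups are the Sylow 2-subgroups of G (a block of full defect) and which is not the principal block is different from its complex-conjugate block, the block formed by the complex conjugates of the members of B. -/
theorem result {G : Type*} [Group G] [Finite G] (M : Ideal Cfsg.AlgInt) (hM : Cfsg.IsPModular 2 M) (B : Set (Cfsg.IrrCharacter G)) (hB : Cfsg.IsPBlock M B) (P : Sylow 2 G) (hfull : Cfsg.IsDefectGroup 2 M B (P : Subgroup G)) (hnp : B ≠ Cfsg.principalBlock M G) : {ψ : Cfsg.IrrCharacter G | ∃ χ ∈ B, (ψ : G → ℂ) = fun g => (starRingEnd ℂ) ((χ : G → ℂ) g)} ≠ B := by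
  haveI := Fintype.ofFinite G
  haveI := Cfsg.Agent.Blocks.IsPModular.isPrime hM
  haveI : Fact (Nat.Prime 2) := ⟨Nat.prime_two⟩
  intro heq
  apply hnp
  have hd := Cfsg.Agent.Blocks.card_defectGroup hM hB hfull
  rw [Sylow.card_eq_multiplicity] at hd
  have hd' := Nat.pow_right_injective (le_refl 2) hd
  refine Cfsg.Agent.Blocks.principal_of_inv_stable hM hB hd'.symm fun g _ =>
    Cfsg.Agent.Blocks.blockCoeff_eq_of_perm B Cfsg.Agent.Blocks.conjIrr (fun χ hχ => ?_)
      Cfsg.Agent.Blocks.conjIrr_injective.injOn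
      (fun ψ _ => Cfsg.Agent.Blocks.conj_irr_one ψ) (fun ψ _ => (Cfsg.Agent.Blocks.irr_inv ψ g).symm)
  rw [← heq]
  exact ⟨χ, hχ, rfl⟩

end Cfsg.Agent.S4490
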