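import Cfsg.Statements.S4493
import Cfsg.Agent.Lib.Char.ItoPSolvable
-- import your own Cfsg.Agent.* helpers here

set_option autoImplicit false
open Cfsg

namespace Cfsg.Agent.S4493

/-- Let G be a finite solvable group and p a prime. Then G has a normal abelian Sylow p-subgroup if and only if no irreducible character degree of G is divisible by p. -/
theorem result {G : Type*} [Group G] [Finite G] (hsolv : Group.IsSolvable G) (p : ℕ) (hp : p.Prime) : (∃ P : Subgroup G, P.Normal ∧ (∀ x ∈ P, ∀ y ∈ P, x * y = y * x) ∧ IsPGroup p P ∧ ¬ p ∣ P.index) ↔ ∀ χ : Cfsg.IrrCharacter G, ¬ p ∣ Cfsg.charDegree (χ : G → ℂ) := by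
  classical
  haveI := Fact.mk hp
  haveI : Fintype G := Fintype.ofFinite G
  constructor
  · rintro ⟨P, hPn, hPc, -, hidx⟩ χ hd
    haveI := hPn
    exact hidx (hd.trans (Agent.Char.Ito.degree_dvd_index P
      ⟨⟨fun a b => Subtype.ext (hPc a a.2 b b.2)⟩⟩ χ))
  · intro h
    obtain ⟨S⟩ : Nonempty (Sylow p G) := inferInstance
    obtain ⟨hn, hc⟩ := Agent.Char.Ito.converse (Nat.card G) G p rfl
      (Agent.PSolvable.of_solvable hsolv) h S
    exact ⟨S, hn, fun x hx y hy => congrArg Subtype.val (hc.is_comm.comm ⟨x, hx⟩ ⟨y, hy⟩),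
      S.isPGroup', S.not_dvd_index⟩

end Cfsg.Agent.S4493
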