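import Cfsg.Statements.S4496
import Cfsg.Agent.Lib.Char.SelfCentralizing

set_option autoImplicit false
set_option linter.style.haveILetI false
open Cfsg

namespace Cfsg.Agent.S4496

/-- Let the finite group G contain an element x of prime order p with C_G(x) = ⟨x⟩. Then: (a) every normal subgroup of order divisible by p contains the commutator subgroup; (b) every normal subgroup S of order prime to p has order dividing the number of subgroups of order p of G and congruent to 1 modulo p, and in G/S the image of x again has prime order p and commutes only with its own powers. -/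
theorem result {G : Type*} [Group G] [Finite G] (p : ℕ) (hp : p.Prime) (x : G) (hx : orderOf x = p) (hC : Subgroup.centralizer ({x} : Set G) = Subgroup.zpowers x) (S : Subgroup G) [S.Normal] : (p ∣ Nat.card S → commutator G ≤ S) ∧ (¬ p ∣ Nat.card S → Nat.card S ∣ Nat.card {H : Subgroup G // Nat.card H = p} ∧ Nat.card S % p = 1 ∧ orderOf (QuotientGroup.mk x : G ⧸ S) = p ∧ Subgroup.centralizer ({(QuotientGroup.mk x : G ⧸ S)} : Set (G ⧸ S)) = Subgroup.zpowers (QuotientGroup.mk x : G ⧸ S)) := by
  haveI : Fact p.Prime := ⟨hp⟩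
  refine ⟨fun h => SelfCent.commutator_le hx hC S h, fun h => ?_⟩
  have hxS : x ∉ S := fun hxS => h (hx ▸ Subgroup.orderOf_dvd_natCard S hxS)
  have hord : orderOf (QuotientGroup.mk x : G ⧸ S) = p := by
    refine orderOf_eq_prime ?_ fun e => hxS ((QuotientGroup.eq_one_iff x).1 e)
    rw [← QuotientGroup.mk_pow, ← hx, pow_orderOf_eq_one, QuotientGroup.mk_one]
  refine ⟨?_, SelfCent.card_mod hx S h hC, hord, le_antisymm (fun q hq => ?_) ?_⟩
  · rw [SelfCent.card_subgroups hx hC]
    set N := Subgroup.normalizer (Subgroup.zpowers x : Set G) with hN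
    have h1 := Cfsg.Agent.SolvBasic.card_sup_mul_card_inf (N := S) (H := N)
      Subgroup.le_normalizer_of_normal
    rw [SelfCent.inf_normalizer hx hC S h, Subgroup.card_bot, mul_one] at h1
    have h2 := Subgroup.card_subgroup_dvd_card (S ⊔ N)
    rw [h1, ← N.index_mul_card] at h2
    exact Nat.dvd_of_mul_dvd_mul_right Nat.card_pos h2
  · obtain ⟨g, rfl⟩ := QuotientGroup.mk_surjective q
    have hc := Subgroup.mem_centralizer_singleton_iff.1 hq
    have hm : g * x * g⁻¹ * x⁻¹ ∈ S := by
      rw [← QuotientGroup.eq_one_iff, QuotientGroup.mk_mul, QuotientGroup.mk_mul,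
        QuotientGroup.mk_mul, hc, QuotientGroup.mk_inv, QuotientGroup.mk_inv,
        mul_inv_cancel_right, mul_inv_cancel]
    obtain ⟨s, hs, z, hz, rfl⟩ := Subgroup.mem_sup_of_normal_left.1 (SelfCent.mem_sup hx hC S h hm)
    obtain ⟨k, rfl⟩ := Subgroup.mem_zpowers_iff.1 hz
    exact ⟨k, by
      rw [QuotientGroup.mk_mul, (QuotientGroup.eq_one_iff s).2 hs, one_mul, QuotientGroup.mk_zpow]⟩
  · rw [Subgroup.zpowers_le, Subgroup.mem_centralizer_singleton_iff]

end Cfsg.Agent.S4496
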