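import Cfsg.Statements.S4497
import Cfsg.Agent.Lib.Char.SelfCentralizing

set_option autoImplicit false
set_option linter.style.haveILetI false
open Cfsg

namespace Cfsg.Agent.S4497

/-- Let the finite group G contain an element x of prime order p with C_G(x) = ⟨x⟩, let t be the number of conjugacy classes of elements of order p, and let S* = O_{p′}(G) be the largest normal subgroup of order prime to p. Then S* ≤ G′; if t ≠ p − 1 the quotient G′/S* is simple (in particular non-trivial); if t = p − 1 then G′ = S*. -/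
theorem result {G : Type*} [Group G] [Finite G] (p : ℕ) (hp : p.Prime) (x : G) (hx : orderOf x = p) (hC : Subgroup.centralizer ({x} : Set G) = Subgroup.zpowers x) (t : ℕ) (ht : Nat.card {C : ConjClasses G // ∃ g ∈ C.carrier, orderOf g = p} = t) : Cfsg.pPrimeCore p G ≤ commutator G ∧ (t ≠ p - 1 → ∀ h : ((Cfsg.pPrimeCore p G).subgroupOf (commutator G)).Normal, IsSimpleGroup (↥(commutator G) ⧸ (Cfsg.pPrimeCore p G).subgroupOf (commutator G))) ∧ (t = p - 1 → commutator G = Cfsg.pPrimeCore p G) := by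
  haveI : Fact p.Prime := ⟨hp⟩
  haveI : (Cfsg.pPrimeCore p G).Normal := Cfsg.Agent.FittingCores.pPrimeCore_normal p
  set C := Cfsg.pPrimeCore p G with hCdef
  have hcop : ¬ p ∣ Nat.card C := fun hd => hp.one_lt.ne'
    (Nat.dvd_one.1 (Cfsg.Agent.FittingCores.pPrimeCore_coprime (G := G) p ▸ Nat.dvd_gcd hd dvd_rfl))
  have hle : C ≤ commutator G := SelfCent.le_commutator hx hC C hcop
  have hcore : ∀ L : Subgroup G, L.Normal → ¬ p ∣ Nat.card L → L ≤ C := fun L hL hd =>
    Cfsg.Agent.FittingCores.le_pPrimeCore hL (hp.coprime_iff_not_dvd.2 hd).symm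
  refine ⟨hle, fun hne _ => ?_, fun h => le_antisymm
    (hcore _ inferInstance ((SelfCent.not_dvd_commutator_iff hx hC t ht).2 h)) hle⟩
  have hdvd : p ∣ Nat.card (commutator G) :=
    not_not.1 fun hd => hne ((SelfCent.not_dvd_commutator_iff hx hC t ht).1 hd)
  have hxK : x ∈ commutator G := SelfCent.mem_of_dvd hx hC _ hdvd
  generalize hKdef : commutator G = K at *
  haveI : K.Normal := hKdef ▸ inferInstance
  obtain ⟨hx', hC'⟩ := SelfCent.restrict hx hC hxK
  have hxC : x ∉ C := fun h => hcop (hx ▸ Subgroup.orderOf_dvd_natCard C h)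
  haveI : Nontrivial (K ⧸ C.subgroupOf K) :=
    ⟨⟨((⟨x, hxK⟩ : K) : K ⧸ C.subgroupOf K), 1,
      fun h => hxC (Subgroup.mem_subgroupOf.1 ((QuotientGroup.eq_one_iff _).1 h))⟩⟩
  refine ⟨fun H hH => ?_⟩
  set M := H.comap (QuotientGroup.mk' (C.subgroupOf K)) with hM
  haveI : M.Normal := hH.comap _
  have hmapM : M.map (QuotientGroup.mk' (C.subgroupOf K)) = H :=
    Subgroup.map_comap_eq_self_of_surjective (QuotientGroup.mk'_surjective _) H
  by_cases hd : p ∣ Nat.card M
  · right
    rw [← hmapM, show M = ⊤ from ?_, Subgroup.map_top_of_surjective _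
      (QuotientGroup.mk'_surjective _)]
    have hxM : (⟨x, hxK⟩ : K) ∈ M := SelfCent.mem_of_dvd hx' hC' M hd
    have hcM : ⁅K, K⁆ ≤ M.map K.subtype := by
      rw [← Subgroup.map_subtype_commutator]
      exact Subgroup.map_mono (SelfCent.commutator_le hx' hC' M hd)
    refine top_le_iff.1 ((Subgroup.map_le_map_iff_of_injective K.subtype_injective).1 ?_)
    rw [← MonoidHom.range_eq_map, K.range_subtype]
    by_cases hL : p ∣ Nat.card (⁅K, K⁆ : Subgroup G)
    · exact (hKdef.ge.trans (SelfCent.commutator_le hx hC _ hL)).trans hcM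
    · exact (SelfCent.le_derived_sup hx hC K hxK hL).trans
        (sup_le hcM (Subgroup.zpowers_le.2 ⟨_, hxM, rfl⟩))
  · left
    rw [← hmapM, Subgroup.map_eq_bot_iff, QuotientGroup.ker_mk']
    intro m hm
    refine Subgroup.mem_subgroupOf.2 (Cfsg.Agent.FittingCores.pPrimeCore_map_subtype_le p
      (inferInstance : K.Normal) ⟨m, ?_, rfl⟩)
    exact Cfsg.Agent.FittingCores.le_pPrimeCore inferInstance (hp.coprime_iff_not_dvd.2 hd).symm hm

end Cfsg.Agent.S4497
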