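import Cfsg.Statements.S4498
import Cfsg.Agent.Lib.Blocks.Section
import Cfsg.Agent.Lib.Blocks.SecondMain
import Cfsg.Agent.Lib.Blocks.Defect

set_option autoImplicit false
open Cfsg

namespace Cfsg.Agent.S4498

private theorem sum_blockPair_mul_inter {G : Type*} [Group G] [Fintype G] (B B' : Set (Cfsg.IrrCharacter G)) (u v : G) :
    ∑ w : G, Cfsg.Agent.Blocks.blockPair B u w * Cfsg.Agent.Blocks.blockPair B' w v =
      (Nat.card G : ℂ) * Cfsg.Agent.Blocks.blockPair (B ∩ B') u v := by
  classical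
  have hG : (Nat.card G : ℂ) ≠ 0 := Nat.cast_ne_zero.2 Nat.card_pos.ne'
  have key : ∀ φ ψ : IrrCharacter G, ∑ w : G, (starRingEnd ℂ) ((φ : G → ℂ) w) * (ψ : G → ℂ) w =
      if φ = ψ then (Nat.card G : ℂ) else 0 := by
    intro φ ψ
    have h1 : classInner (ψ : G → ℂ) (φ : G → ℂ) = if φ = ψ then 1 else 0 := by
      by_cases e : φ = ψ
      · rw [if_pos e, e, Cfsg.Agent.Char.classInner_self_irr ψ.2]
      · rw [if_neg e, Cfsg.Agent.Char.classInner_irr_of_ne ψ.2 φ.2 fun h => e (Subtype.ext h.symm)]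
    unfold classInner at h1
    have := congrArg (fun z => (Nat.card G : ℂ) * z) h1
    simp only [← mul_assoc, mul_inv_cancel₀ hG, one_mul, mul_ite, mul_one, mul_zero] at this
    rw [← this]
    exact Finset.sum_congr rfl fun w _ => mul_comm _ _
  have e1 : ∑ w : G, Cfsg.Agent.Blocks.blockPair B u w * Cfsg.Agent.Blocks.blockPair B' w v =
      ∑ φ ∈ Finset.univ.filter (· ∈ B), ∑ ψ ∈ Finset.univ.filter (· ∈ B'),
        (φ : G → ℂ) u * (starRingEnd ℂ) ((ψ : G → ℂ) v) * if φ = ψ then (Nat.card G : ℂ) else 0 := by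
    unfold Cfsg.Agent.Blocks.blockPair
    simp only [← key, Finset.mul_sum, Finset.sum_mul]
    rw [Finset.sum_comm, Finset.sum_comm (s := Finset.univ.filter (· ∈ B))]
    refine Finset.sum_congr rfl fun ψ _ => ?_
    rw [Finset.sum_comm]
    exact Finset.sum_congr rfl fun φ _ => Finset.sum_congr rfl fun w _ => by ring
  rw [e1]
  unfold Cfsg.Agent.Blocks.blockPair
  rw [Finset.mul_sum]
  simp only [mul_ite, mul_zero, Finset.sum_ite_eq, Finset.mem_filter, Finset.mem_univ, true_and]
  rw [← Finset.sum_filter, Finset.filter_filter]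
  refine Finset.sum_congr ?_ fun φ _ => by ring
  ext φ
  simp

/-- Let p and q be distinct primes dividing the order of the finite group G, and suppose G has no element of order p·q. Fix maximal ideals M_p over p and M_q over q of the algebraic integers. Then the principal p-block and the principal q-block of G have a non-principal irreducible character in common. -/
theorem result {G : Type*} [Group G] [Finite G] (p q : ℕ) [Fact p.Prime] [Fact q.Prime] (hpq : p ≠ q) (hp : p ∣ Nat.card G) (hq : q ∣ Nat.card G) (hno : ∀ g : G, orderOf g ≠ p * q) (Mp Mq : Ideal Cfsg.AlgInt) (hMp : Cfsg.IsPModular p Mp) (hMq : Cfsg.IsPModular q Mq) : ∃ χ : Cfsg.IrrCharacter G, (χ : G → ℂ) ≠ (fun _ => 1) ∧ χ ∈ Cfsg.principalBlock Mp G ∧ χ ∈ Cfsg.principalBlock Mq G := by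
  classical
  haveI : Fintype G := Fintype.ofFinite G
  haveI : Mp.IsPrime := hMp.2.1.isPrime
  haveI : Mq.IsPrime := hMq.2.1.isPrime
  obtain ⟨x, hx⟩ := exists_prime_orderOf_dvd_card' p hp
  obtain ⟨y, hy⟩ := exists_prime_orderOf_dvd_card' q hq
  by_contra hcon
  have hS : Cfsg.principalBlock Mp G ∩ Cfsg.principalBlock Mq G = {Cfsg.Agent.Char.principal G} := by
    ext χ
    refine ⟨fun h => ?_, fun h => ?_⟩
    · by_contra hne
      exact hcon ⟨χ, fun e => hne (Subtype.ext e), h.1, h.2⟩
    · rw [Set.mem_singleton_iff.1 h]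
      exact ⟨Cfsg.Agent.Blocks.principal_mem_principalBlock,
        Cfsg.Agent.Blocks.principal_mem_principalBlock⟩
  have key := sum_blockPair_mul_inter (Cfsg.principalBlock Mp G) (Cfsg.principalBlock Mq G) x y
  have hz : ∀ w : G, Cfsg.Agent.Blocks.blockPair (Cfsg.principalBlock Mp G) x w *
      Cfsg.Agent.Blocks.blockPair (Cfsg.principalBlock Mq G) w y = 0 := by
    intro w
    by_contra hw
    obtain ⟨hw1, hw2⟩ := mul_ne_zero_iff.1 hw
    obtain ⟨a, ha⟩ := Cfsg.Agent.Blocks.exists_isPPart (p := p) hMp.1 w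
    obtain ⟨b, hb⟩ := Cfsg.Agent.Blocks.exists_isPPart (p := q) hMq.1 w
    have hxx : Cfsg.IsPPart p x x := ⟨1, mul_one _, Commute.one_right _, ⟨1, by rw [hx, pow_one]⟩,
      by rw [orderOf_one, Nat.dvd_one]; exact hMp.1.ne_one⟩
    have hyy : Cfsg.IsPPart q y y := ⟨1, mul_one _, Commute.one_right _, ⟨1, by rw [hy, pow_one]⟩,
      by rw [orderOf_one, Nat.dvd_one]; exact hMq.1.ne_one⟩
    have hca : IsConj x a := by
      by_contra h
      exact hw1 (Cfsg.Agent.Blocks.blockPair_eq_zero_of_pPart hMp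
        (Cfsg.Agent.Blocks.isPBlock_principalBlock Mp G) hxx ha h)
    have hcb : IsConj b y := by
      by_contra h
      exact hw2 (Cfsg.Agent.Blocks.blockPair_eq_zero_of_pPart hMq
        (Cfsg.Agent.Blocks.isPBlock_principalBlock Mq G) hb hyy h)
    have oc : ∀ {s t : G}, IsConj s t → orderOf s = orderOf t := fun {s t} h => by
      obtain ⟨c, rfl⟩ := isConj_iff.1 h
      exact (orderOf_injective (MulAut.conj c).toMonoidHom (MulAut.conj c).injective s).symm
    have oa : orderOf a = p := by rw [← hx]; exact (oc hca).symm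
    have ob : orderOf b = q := by rw [← hy]; exact oc hcb
    have hab : Commute a b := by
      obtain ⟨i, hi⟩ := Subgroup.mem_zpowers_iff.1
        (Cfsg.Agent.Blocks.IsPPart.mem_zpowers hMp.1 ha)
      obtain ⟨j, hj⟩ := Subgroup.mem_zpowers_iff.1
        (Cfsg.Agent.Blocks.IsPPart.mem_zpowers hMq.1 hb)
      rw [← hi, ← hj]
      exact Commute.zpow_zpow_self w i j
    refine hno (a * b) ?_
    rw [hab.orderOf_mul_eq_mul_orderOf_of_coprime, oa, ob]
    rw [oa, ob]
    exact (Nat.coprime_primes hMp.1 hMq.1).2 hpq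
  rw [Finset.sum_eq_zero fun w _ => hz w, hS] at key
  unfold Cfsg.Agent.Blocks.blockPair at key
  simp only [Set.mem_singleton_iff, Finset.filter_eq', Finset.mem_univ, if_true,
    Finset.sum_singleton] at key
  simp [Cfsg.Agent.Char.principal] at key
  exact absurd key.symm (Nat.cast_ne_zero.2 Fintype.card_ne_zero)

end Cfsg.Agent.S4498
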