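import Cfsg.Statements.S4500
import Cfsg.Agent.S0144
import Cfsg.Agent.Lib.Blocks.Section
import Cfsg.Agent.Lib.Blocks.Heights
import Cfsg.Agent.Lib.Blocks.RegTrExact
import Cfsg.Agent.Lib.BrauerPairs.PrincipalOver
import Cfsg.Agent.Lib.BrauerPairs.HeightBounds
-- import your own Cfsg.Agent.* helpers here

set_option autoImplicit false
open Cfsg

namespace Cfsg.Agent.S4500

open Cfsg.Agent.Char Cfsg.Agent.Blocks Cfsg.Agent.BrauerPairs

open scoped ComplexConjugate

theorem exists_degree_pow {G : Type*} [Group G] [Fintype G] [Nontrivial G] {p q r a b c : ℕ}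
    (hp : p.Prime) (hq : q.Prime) (hr : r.Prime) (hpq : p ≠ q) (hpr : p ≠ r) (ha : a ≤ 2)
    (hG : Nat.card G = p ^ a * q ^ b * r ^ c) :
    ∃ χ : IrrCharacter G, (χ : G → ℂ) ≠ (fun _ => 1) ∧
      ∃ k : ℕ, charDegree (χ : G → ℂ) = q ^ k := by
  classical
  haveI := Fact.mk hp
  by_cases ha0 : a = 0
  · rw [ha0, pow_zero, one_mul] at hG
    have hsolv : Group.IsSolvable G := Agent.S0144.result q r b c hq hr hG
    haveI := hsolv
    have hne : (commutator G).index ≠ 1 := fun h =>
      (Group.IsSolvable.commutator_lt_top_of_nontrivial G).ne (Subgroup.index_eq_one.1 h)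
    rw [← card_linear] at hne
    have h0 : 0 < Nat.card {χ : IrrCharacter G // (χ : G → ℂ) 1 = 1} := by
      haveI : Nonempty {χ : IrrCharacter G // (χ : G → ℂ) 1 = 1} :=
        ⟨⟨⟨fun _ => 1, isIrrCharacter_one⟩, rfl⟩⟩
      exact Nat.card_pos
    haveI : Nontrivial {χ : IrrCharacter G // (χ : G → ℂ) 1 = 1} :=
      Finite.one_lt_card_iff_nontrivial.1 (by omega)
    obtain ⟨χ, hχ⟩ := exists_ne
      (⟨⟨fun _ => 1, isIrrCharacter_one⟩, rfl⟩ : {χ : IrrCharacter G // (χ : G → ℂ) 1 = 1})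
    refine ⟨χ.1, fun h => hχ (Subtype.ext (Subtype.ext h)), 0, ?_⟩
    simp [charDegree, χ.2]
  obtain ⟨M, hM⟩ := exists_isPModular_witness p
  haveI := IsPModular.isPrime hM
  have hfac : (Nat.card G).factorization p = a := by
    rw [hG, Nat.factorization_mul (mul_ne_zero (pow_ne_zero _ hp.ne_zero)
      (pow_ne_zero _ hq.ne_zero)) (pow_ne_zero _ hr.ne_zero),
      Nat.factorization_mul (pow_ne_zero _ hp.ne_zero) (pow_ne_zero _ hq.ne_zero),
      hp.factorization_pow, hq.factorization_pow, hr.factorization_pow]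
    simp [hpq.symm, hpr.symm]
  have hB := isPBlock_principalBlock M G
  have hdef : blockDefect p (principalBlock M G) = a := (blockDefect_principal_eq hM).trans hfac
  have hpdeg : ∀ χ ∈ principalBlock M G, ¬ p ∣ charDegree (χ : G → ℂ) := by
    intro χ hχ hd
    have h1 := Agent.BrauerPairs.degExp_eq_add_height hM hB hχ
    rw [hdef, hfac, Nat.sub_self, zero_add] at h1
    have h2 := (hp.dvd_iff_one_le_factorization (CharX.irr_deg_pos χ).ne').1 hd
    have h3 := height_add_two_le hM hB hχ (by omega)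
    omega
  obtain ⟨u, hu⟩ := exists_prime_orderOf_dvd_card' (G := G) p
    (hG ▸ dvd_mul_of_dvd_left (dvd_mul_of_dvd_left (dvd_pow_self p ha0) _) _)
  have hu1 : u ≠ 1 := fun h => hp.ne_one (by rw [← hu, h, orderOf_one])
  have horth := blockPair_eq_zero_of_pPart hM hB
    ((isPPart_one_iff hp).2 (by simpa using hp.ne_one) : IsPPart p (1 : G) 1)
    (h := u) (y := u) ⟨1, mul_one u, Commute.one_right u,
      ⟨1, by rw [hu, pow_one]⟩, by simpa using hp.ne_one⟩
    fun hc => hu1 (isConj_one_right.1 hc)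
  rw [blockPair_eq_finsum, finsum_mem_eq_finite_toFinset_sum _ (Set.toFinite _),
    ← Finset.add_sum_erase _ _ ((Set.Finite.mem_toFinset _).2 principal_mem_principalBlock)]
    at horth
  simp only [principal, map_one, mul_one] at horth
  by_contra hno
  push Not at hno
  have hrdvd : ∀ χ ∈ (Set.toFinite (principalBlock M G)).toFinset.erase (principal G),
      r ∣ charDegree (χ : G → ℂ) := by
    intro χ hχ
    by_contra hn
    obtain ⟨hne, hmem⟩ := Finset.mem_erase.1 hχ
    rw [Set.Finite.mem_toFinset] at hmem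
    have hdvd := hG ▸ CharX.irr_deg_dvd_card χ
    have h1 : (charDegree (χ : G → ℂ)).Coprime (p ^ a) :=
      ((hp.coprime_iff_not_dvd).2 (hpdeg χ hmem)).symm.pow_right a
    have h2 : (charDegree (χ : G → ℂ)).Coprime (r ^ c) :=
      ((hr.coprime_iff_not_dvd).2 hn).symm.pow_right c
    obtain ⟨k, -, hk⟩ := (Nat.dvd_prime_pow hq).1 (h1.dvd_of_dvd_mul_left (h2.dvd_of_dvd_mul_right hdvd))
    exact hno χ (fun h => hne (Subtype.ext h)) k hk
  choose! f hf using hrdvd
  have hr0 : (r : ℂ) ≠ 0 := Nat.cast_ne_zero.2 hr.ne_zero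
  have hint : IsIntegral ℤ ((r : ℂ)⁻¹) := by
    have he : (r : ℂ)⁻¹ = - ∑ χ ∈ (Set.toFinite (principalBlock M G)).toFinset.erase (principal G),
        (f χ : ℂ) * conj ((χ : G → ℂ) u) := by
      refine mul_left_cancel₀ hr0 ?_
      rw [mul_inv_cancel₀ hr0, mul_neg, Finset.mul_sum]
      have hsum : ∀ χ ∈ (Set.toFinite (principalBlock M G)).toFinset.erase (principal G),
          (r : ℂ) * ((f χ : ℂ) * conj ((χ : G → ℂ) u)) =
            (χ : G → ℂ) 1 * conj ((χ : G → ℂ) u) := fun χ hχ => by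
        rw [CharX.irr_deg, hf χ hχ]; push_cast; ring
      rw [Finset.sum_congr rfl hsum]
      exact eq_neg_of_add_eq_zero_left horth
    rw [he]
    refine IsIntegral.neg (IsIntegral.sum _ fun χ _ => (isIntegral_natCast _).mul ?_)
    exact map_isIntegral_int (starRingEnd ℂ) (IsCharacter.isIntegral (IsIrrCharacter.isCharacter χ.2) u)
  obtain ⟨n, hn⟩ := exists_int_of_isIntegral (q := (r : ℚ)⁻¹) (by simpa using hint)
  have h1 : (r : ℤ) * n = 1 := by
    have : (r : ℚ) * n = 1 := by
      rw [← hn, mul_inv_cancel₀ (Nat.cast_ne_zero.2 hr.ne_zero)]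
    exact_mod_cast this
  exact hr.ne_one (by exact_mod_cast Int.eq_one_of_mul_eq_one_right (Int.natCast_nonneg r) h1)

/-- Let G be a non-trivial finite group of order p^a · q^b · r^c with p, q, r distinct primes and a ≤ 2. Then G has a non-principal irreducible character whose degree is a power of q, and a non-principal irreducible character whose degree is a power of r; the power may be the zeroth, so a non-principal linear character serves for both. -/
theorem result {G : Type*} [Group G] [Finite G] [Nontrivial G] (p q r a b c : ℕ) (hp : p.Prime) (hq : q.Prime) (hr : r.Prime) (hpq : p ≠ q) (hpr : p ≠ r) (hqr : q ≠ r) (ha : a ≤ 2) (hG : Nat.card G = p ^ a * q ^ b * r ^ c) : (∃ χ : Cfsg.IrrCharacter G, (χ : G → ℂ) ≠ (fun _ => 1) ∧ ∃ k : ℕ, Cfsg.charDegree (χ : G → ℂ) = q ^ k) ∧ ∃ χ : Cfsg.IrrCharacter G, (χ : G → ℂ) ≠ (fun _ => 1) ∧ ∃ k : ℕ, Cfsg.charDegree (χ : G → ℂ) = r ^ k := by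
  classical
  haveI : Fintype G := Fintype.ofFinite G
  exact ⟨exists_degree_pow hp hq hr hpq hpr ha hG,
    exists_degree_pow (b := c) (c := b) hp hr hq hpr hpq ha (hG.trans (mul_right_comm _ _ _))⟩

end Cfsg.Agent.S4500
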