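import Cfsg.Statements.S4507
import Cfsg.Agent.Lib.DefOne.Count

set_option autoImplicit false
open Cfsg

namespace Cfsg.Agent.S4507

/-- Let G be a finite group whose order g is divisible by the prime p exactly once, g′ = g/p, and fix a maximal ideal M of the algebraic integers containing p. Call two irreducible characters p-conjugate when a field automorphism of ℂ fixing the g′-th roots of unity carries one to the other. Let B be a p-block of positive defect (its defect group is a Sylow p-subgroup). Then B contains a subset Y (the exceptional family) such that: Y is a full p-conjugacy class (its members are pairwise p-conjugate and every p-conjugate of a member of Y lies in Y); every member of B outside Y is p-conjugate only to itself; the size t of Y divides p − 1 and B has exactly t + (p − 1)/t members; and there are signs δ_χ = ±1 (χ ∈ B) such that for every p-regular element x and every θ ∈ Y, Σ_{χ ∈ B ∖ Y} δ_χ χ(x) + δ_θ θ(x)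 = 0. -/
theorem result {G : Type*} [Group G] [Finite G] (p : ℕ) [Fact p.Prime] (M : Ideal Cfsg.AlgInt) (hM : Cfsg.IsPModular p M) (hdiv : p ∣ Nat.card G) (hsq : ¬ p ^ 2 ∣ Nat.card G) (B : Set (Cfsg.IrrCharacter G)) (hB : Cfsg.IsPBlock M B) (hd : 0 < Cfsg.blockDefect p B) : ∃ Y : Set (Cfsg.IrrCharacter G), Y ⊆ B ∧ Y.Nonempty ∧ (∀ θ ∈ Y, ∀ ψ : Cfsg.IrrCharacter G, (∃ σ : ℂ ≃+* ℂ, σ (Complex.exp (2 * Real.pi * Complex.I / ((Nat.card G / p ^ (Nat.card G).factorization p) : ℕ))) = Complex.exp (2 * Real.pi * Complex.I / ((Nat.card G / p ^ (Nat.card G).factorization p) : ℕ)) ∧ (ψ : G → ℂ) = fun g => σ ((θ : G → ℂ) g)) ↔ ψ ∈ Y) ∧ (∀ χ ∈ B, χ ∉ Y → ∀ ψ : Cfsg.IrrCharacter G, (∃ σ : ℂ ≃+* ℂ, σ (Complex.exp (2 * Real.pi * Complex.I / ((Nat.card G / p ^ (Nat.card G).factorization p) : ℕ))) = Complex.exp (2 * Real.pi * Complex.I / ((Nat.card G / p ^ (Nat.card G).factorization p) : ℕ)) ∧ (ψ : G → ℂ) = fun g => σ ((χ : G → ℂ) g)) → ψ = χ) ∧ Nat.card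 Y ∣ p - 1 ∧ Nat.card B = Nat.card Y + (p - 1) / Nat.card Y ∧ ∃ δ : Cfsg.IrrCharacter G → ℤ, (∀ χ ∈ B, δ χ = 1 ∨ δ χ = -1) ∧ ∀ x : G, ¬ p ∣ orderOf x → ∀ θ ∈ Y, (∑ᶠ χ ∈ B \ Y, (δ χ : ℂ) * (χ : G → ℂ) x) + (δ θ : ℂ) * (θ : G → ℂ) x = 0 := by
  classical
  have hp : p.Prime := Fact.out
  haveI := Agent.Blocks.IsPModular.isPrime hM
  haveI : Fintype G := Fintype.ofFinite G
  obtain ⟨S⟩ : Nonempty (Sylow p G) := inferInstance
  have hfac : (Nat.card G).factorization p = 1 := by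
    have h1 := (hp.dvd_iff_one_le_factorization Nat.card_pos.ne').1 hdiv
    have h2 : ¬ 2 ≤ (Nat.card G).factorization p := fun h =>
      hsq ((hp.pow_dvd_iff_le_factorization Nat.card_pos.ne').2 h)
    omega
  have hS : Nat.card S = p := by rw [Sylow.card_eq_multiplicity, hfac, pow_one]
  obtain ⟨V, e', K, -⟩ := Agent.DefOne.exists_conf hp S hS
  haveI : Fintype (S : Subgroup G) := Fintype.ofFinite _
  haveI : Fintype V := Fintype.ofFinite _
  haveI : Fintype (Subgroup.normalizer ((S : Subgroup G) : Set G)) := Fintype.ofFinite _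
  haveI : Fintype ((S : Subgroup G) →* ℂˣ) := Fintype.ofFinite _
  obtain ⟨χ, hχ, hdeg⟩ : ∃ χ ∈ B, ¬ p ∣ charDegree (χ : G → ℂ) := by
    obtain ⟨χ, hχ, h0⟩ := Agent.Blocks.exists_heightZero hM hB
    refine ⟨χ, hχ, fun h => ?_⟩
    have h1 := (Agent.Blocks.blockHeight_eq_zero_iff hM hB hχ).1 h0
    have h2 := (hp.dvd_iff_one_le_factorization (Agent.Blocks.charDegree_pos χ).ne').1 h
    omega
  obtain ⟨b, hb⟩ := Agent.DefOne.exists_inR K hM hdeg
  obtain ⟨eb, X, Y, δ, sg, F⟩ := Agent.DefOne.exists_families K hM b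
  have hBset : B = ↑X ∪ ↑Y := by
    rw [Agent.Blocks.isPBlock_eq_blockOf hB hχ, Agent.DefOne.block_eq K hM hb]
    ext ψ
    simp only [Set.mem_union, Finset.mem_coe, Set.mem_ofPred_eq]
    exact (Agent.DefOne.mem_iff_inR K F ψ).symm
  set m := Nat.card G / p ^ (Nat.card G).factorization p with hm
  rw [hfac, pow_one] at hm
  have hcard : Nat.card G = p * m := by rw [hm, Nat.mul_div_cancel' hdiv]
  have hpm : ¬ p ∣ m := fun h => hsq (by rw [hcard, pow_two]; exact mul_dvd_mul_left p h)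
  have hm0 : m ≠ 0 := fun h => hpm (by rw [h]; exact dvd_zero p)
  have hz := Complex.isPrimitiveRoot_exp m hm0
  have hconv : ∀ σ : ℂ ≃+* ℂ, σ (Complex.exp (2 * Real.pi * Complex.I / (m : ℂ))) =
      Complex.exp (2 * Real.pi * Complex.I / (m : ℂ)) →
      ∃ τ, Agent.DefOne.FixesP p τ ∧
        ∀ φ : IrrCharacter G, Agent.DefOne.galT σ φ = Agent.DefOne.galT τ φ := by
    intro σ hσ
    haveI : NeZero m := ⟨hm0⟩
    refine Agent.DefOne.exists_fixesP_galT hM hcard hpm fun z hz' => ?_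
    obtain ⟨i, -, rfl⟩ := hz.eq_pow_of_pow_eq_one hz'
    rw [map_pow, hσ]
  have hfix : ∀ τ, Agent.DefOne.FixesP p τ → τ (Complex.exp (2 * Real.pi * Complex.I / (m : ℂ))) =
      Complex.exp (2 * Real.pi * Complex.I / (m : ℂ)) := fun τ hτ =>
    hτ _ ⟨m, hpm, hz.pow_eq_one⟩
  refine ⟨↑Y, hBset ▸ Set.subset_union_right, Finset.coe_nonempty.2 F.nonempty,
    fun θ hθ ψ => ⟨?_, fun hψ => ?_⟩, ?_, ?_, ?_, fun φ => if φ ∈ Y then δ else sg φ, ?_, ?_⟩
  · rintro ⟨σ, hσ, hψ⟩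
    obtain ⟨τ, hτ, hg⟩ := hconv σ hσ
    have : ψ = Agent.DefOne.galT τ θ := by rw [← hg θ]; exact Subtype.ext hψ
    rw [this]
    exact F.stableY θ hθ τ hτ
  · obtain ⟨τ, hτ, rfl⟩ := F.transY θ hθ ψ hψ
    exact ⟨τ, hfix τ hτ, rfl⟩
  · intro φ hφ hφY ψ
    rintro ⟨σ, hσ, hψ⟩
    obtain ⟨τ, hτ, hg⟩ := hconv σ hσ
    rw [hBset] at hφ
    have : ψ = Agent.DefOne.galT σ φ := Subtype.ext hψ
    rw [this, hg, F.fixX φ (hφ.resolve_right hφY) τ hτ]
  · rw [Nat.card_coe_set_eq, Set.ncard_coe_finset]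
    exact ⟨eb, F.cardY.symm⟩
  · simp only [hBset, ← Finset.coe_union, Nat.card_coe_set_eq, Set.ncard_coe_finset,
      Finset.card_union_of_disjoint F.disj, F.cardX]
    rw [← F.cardY, Nat.mul_div_cancel_left _ (Finset.card_pos.2 F.nonempty), add_comm]
  · intro φ hφ
    rw [hBset] at hφ
    by_cases h : φ ∈ Y
    · simp only [if_pos h]; exact F.sign
    · simp only [if_neg h]; exact F.signX φ (hφ.resolve_right h)
  · intro x hx θ hθ
    have hset : B \ ↑Y = ↑X := by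
      ext φ
      simp only [hBset, Set.mem_sdiff, Set.mem_union, Finset.mem_coe]
      exact ⟨fun h => h.1.resolve_right h.2, fun h => ⟨Or.inl h, Finset.disjoint_left.1 F.disj h⟩⟩
    rw [hset, finsum_mem_coe_finset]
    beta_reduce
    rw [if_pos (Finset.mem_coe.1 hθ),
      Finset.sum_congr rfl fun φ hφ => show _ = (sg φ : ℂ) * (φ : G → ℂ) x by
        rw [if_neg (Finset.disjoint_left.1 F.disj hφ)]]
    exact Agent.DefOne.Families.relation K F hθ hx

end Cfsg.Agent.S4507
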