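import Cfsg.Statements.S4509
import Cfsg.Agent.Lib.Char.SelfCentralizing

set_option autoImplicit false
set_option linter.style.haveILetI false
open Cfsg
open scoped commutatorElement

namespace Cfsg.Agent.S4509

/-- Let the finite group G contain an element x of prime order p with C_G(x) = ⟨x⟩; let t be the number of conjugacy classes of elements of order p and 1 + n·p the number of subgroups of order p. Then G has a normal subgroup of order 1 + n·p if and only if either t = p − 1, or t < p − 1 and G″ ≠ G′. Moreover, if t = p − 1 then G′ has order 1 + n·p and G/G′ is cyclic of order p; and if t < p − 1 and G″ ≠ G′ then G″ has order 1 + n·p and G′ has order p·(1 + n·p). -/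
theorem result {G : Type*} [Group G] [Finite G] (p : ℕ) (hp : p.Prime) (x : G) (hx : orderOf x = p) (hC : Subgroup.centralizer ({x} : Set G) = Subgroup.zpowers x) (t : ℕ) (ht : Nat.card {C : ConjClasses G // ∃ g ∈ C.carrier, orderOf g = p} = t) (n : ℕ) (hn : Nat.card {H : Subgroup G // Nat.card H = p} = 1 + n * p) : ((∃ S : Subgroup G, S.Normal ∧ Nat.card S = 1 + n * p) ↔ (t = p - 1 ∨ (t < p - 1 ∧ derivedSeries G 2 ≠ derivedSeries G 1))) ∧ (t = p - 1 → Nat.card (commutator G) = 1 + n * p ∧ IsCyclic (G ⧸ commutator G) ∧ (commutator G).index = p) ∧ (t < p - 1 → derivedSeries G 2 ≠ derivedSeries G 1 → Nat.card (derivedSeries G 2) = 1 + n * p ∧ Nat.card (commutator G) = p * (1 + n * p)) := by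
  haveI : Fact p.Prime := ⟨hp⟩
  set P := Subgroup.zpowers x with hP
  set N := Subgroup.normalizer (P : Set G) with hN
  have hidx : N.index = 1 + n * p := (SelfCent.card_subgroups hx hC).symm.trans hn
  have hp1 := hp.one_lt
  have hnd : ¬ p ∣ 1 + n * p := fun h => by
    rw [Nat.dvd_add_left (dvd_mul_left p n)] at h
    exact hp.not_dvd_one h
  have hiff := SelfCent.not_dvd_commutator_iff hx hC t ht
  have hsup : ∀ L : Subgroup G, L.Normal → ¬ p ∣ Nat.card L → Nat.card L ∣ N.index := by
    intro L hL hd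
    have h1 := Cfsg.Agent.SolvBasic.card_sup_mul_card_inf (N := L) (H := N)
      Subgroup.le_normalizer_of_normal
    rw [SelfCent.inf_normalizer hx hC L hd, Subgroup.card_bot, mul_one] at h1
    have h2 := Subgroup.card_subgroup_dvd_card (L ⊔ N)
    rw [h1, ← N.index_mul_card] at h2
    exact Nat.dvd_of_mul_dvd_mul_right Nat.card_pos h2
  -- the case `t = p - 1`
  have hA : t = p - 1 → Nat.card (commutator G) = 1 + n * p ∧ IsCyclic (G ⧸ commutator G) ∧
      (commutator G).index = p := by
    intro h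
    obtain ⟨hi, hNP⟩ := SelfCent.index_commutator_of_not_dvd hx hC (hiff.2 h)
    refine ⟨?_, isCyclic_of_prime_card (p := p) (by rw [← Subgroup.index_eq_card, hi]), hi⟩
    have h1 := N.index_mul_card
    rw [hidx, hN, hNP, SelfCent.card_zpowers hx, ← (commutator G).card_mul_index, hi] at h1
    exact (Nat.eq_of_mul_eq_mul_right hp.pos h1).symm
  -- the case `t < p - 1` and `G'' ≠ G'`
  have hB : t < p - 1 → derivedSeries G 2 ≠ derivedSeries G 1 →
      Nat.card (derivedSeries G 2) = 1 + n * p ∧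
        Nat.card (commutator G) = p * (1 + n * p) := by
    intro hlt hne
    have hd : p ∣ Nat.card (commutator G) := not_not.1 fun hd => hlt.ne (hiff.1 hd)
    have e2 : derivedSeries G 2 = ⁅commutator G, commutator G⁆ := by
      rw [derivedSeries_succ, derivedSeries_one]
    rw [derivedSeries_one, e2] at hne
    rw [e2]
    have hxK := SelfCent.mem_of_dvd hx hC _ hd
    have hKeq := (SelfCent.card_inf_mul hx hC (commutator G) hd)
    rw [← hP, ← hN, hidx] at hKeq
    set K := commutator G with hKdef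
    haveI : K.Normal := hKdef ▸ (inferInstance : (commutator G).Normal)
    have hLd : ¬ p ∣ Nat.card (⁅K, K⁆ : Subgroup G) := fun hL => hne
      (le_antisymm (Subgroup.commutator_le_self K) (SelfCent.commutator_le hx hC _ hL))
    have hK : K = ⁅K, K⁆ ⊔ P := le_antisymm (SelfCent.le_derived_sup hx hC K hxK hLd)
      (sup_le (Subgroup.commutator_le_self K) (Subgroup.zpowers_le.2 hxK))
    have h1 := Cfsg.Agent.SolvBasic.card_sup_mul_card_inf (N := ⁅K, K⁆) (H := P)
      Subgroup.le_normalizer_of_normal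
    rw [← hK, (Subgroup.eq_bot_iff_forall (⁅K, K⁆ ⊓ P)).2 fun y (hy : y ∈ ⁅K, K⁆ ⊓ P) =>
      SelfCent.eq_one_of_mem hx ⁅K, K⁆ hLd hy.1 hy.2, Subgroup.card_bot, mul_one, hP,
      SelfCent.card_zpowers hx] at h1
    obtain ⟨hKN, k, hk⟩ := hKeq
    rw [hk, h1] at hKN
    have h2 : (1 + n * p) * k = Nat.card (⁅K, K⁆ : Subgroup G) := by
      refine Nat.eq_of_mul_eq_mul_right hp.pos ?_
      rw [← hKN]; ring
    have h3 : Nat.card (⁅K, K⁆ : Subgroup G) ∣ 1 + n * p := hidx ▸ hsup _ inferInstance hLd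
    have h4 : Nat.card (⁅K, K⁆ : Subgroup G) = 1 + n * p :=
      Nat.dvd_antisymm h3 ⟨k, h2.symm⟩
    exact ⟨h4, by rw [h1, h4, mul_comm]⟩
  refine ⟨⟨?_, ?_⟩, hA, hB⟩
  · rintro ⟨S, hS, hcard⟩
    have hSd : ¬ p ∣ Nat.card S := hcard.symm ▸ hnd
    by_cases h : t = p - 1
    · exact Or.inl h
    refine Or.inr ⟨?_, ?_⟩
    · have := SelfCent.classes_mul hx hC t ht
      have he : ((Subgroup.zpowers x).subgroupOf N).index ≠ 0 := Subgroup.index_ne_zero_of_finite
      have : t ≤ p - 1 := this ▸ Nat.le_mul_of_pos_right t (Nat.pos_of_ne_zero he)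
      omega
    have hd : p ∣ Nat.card (commutator G) := not_not.1 fun hd => h (hiff.1 hd)
    have htop : S ⊔ N = ⊤ := by
      refine Subgroup.eq_top_of_card_eq _ ?_
      have h1 := Cfsg.Agent.SolvBasic.card_sup_mul_card_inf (N := S) (H := N)
        Subgroup.le_normalizer_of_normal
      rw [SelfCent.inf_normalizer hx hC S hSd, Subgroup.card_bot, mul_one, hcard, ← hidx,
        N.index_mul_card] at h1
      exact h1
    have hn' : ∀ g : G, ∃ m ∈ N, (g : G ⧸ S) = (m : G ⧸ S) := by
      intro g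
      obtain ⟨s, hs, m, hm, e⟩ :=
        Subgroup.mem_sup_of_normal_left.1 (htop ▸ Subgroup.mem_top g : g ∈ S ⊔ N)
      refine ⟨m, hm, ?_⟩
      rw [← e, QuotientGroup.mk_mul, (QuotientGroup.eq_one_iff s).2 hs, one_mul]
    have hc1 : (commutator G).map (QuotientGroup.mk' S) ≤ P.map (QuotientGroup.mk' S) := by
      rw [commutator_def, Subgroup.map_commutator, Subgroup.commutator_le]
      rintro _ ⟨a, -, rfl⟩ _ ⟨b, -, rfl⟩
      obtain ⟨a', ha', ea⟩ := hn' a
      obtain ⟨b', hb', eb⟩ := hn' b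
      refine ⟨⁅a', b'⁆, SelfCent.commutator_mem hC ha' hb', ?_⟩
      rw [map_commutatorElement]
      simp only [QuotientGroup.mk'_apply, ea, eb]
    have hc2 : derivedSeries G 2 ≤ S := by
      rw [derivedSeries_succ, derivedSeries_one]
      intro z hz
      rw [← QuotientGroup.eq_one_iff, ← QuotientGroup.mk'_apply, ← Subgroup.mem_bot]
      suffices h : (⁅commutator G, commutator G⁆).map (QuotientGroup.mk' S) ≤ ⊥ from
        h ⟨z, hz, rfl⟩
      rw [Subgroup.map_commutator]
      refine (Subgroup.commutator_mono hc1 hc1).trans (le_of_eq ?_)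
      · rw [Subgroup.commutator_eq_bot_iff_le_centralizer]
        rintro _ ⟨a, ha, rfl⟩
        rw [Subgroup.mem_centralizer_iff]
        rintro _ ⟨b, hb, rfl⟩
        obtain ⟨i, rfl⟩ := Subgroup.mem_zpowers_iff.1 ha
        obtain ⟨j, rfl⟩ := Subgroup.mem_zpowers_iff.1 hb
        rw [← map_mul, ← map_mul, zpow_mul_comm]
    intro e
    rw [derivedSeries_one] at e
    exact hSd (hx ▸ Subgroup.orderOf_dvd_natCard S (hc2 (e ▸ SelfCent.mem_of_dvd hx hC _ hd)))
  · rintro (h | ⟨h1, h2⟩)
    · exact ⟨commutator G, inferInstance, (hA h).1⟩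
    · exact ⟨derivedSeries G 2, inferInstance, (hB h1 h2).1⟩

end Cfsg.Agent.S4509
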