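import Cfsg.Statements.S4514
import Cfsg.Agent.Lib.ConstDiff.Main
import Cfsg.Agent.Lib.ConstDiff.Converse
import Cfsg.Agent.Lib.Blocks.Quotient

set_option autoImplicit false
set_option linter.unusedSectionVars false
set_option linter.style.haveILetI false
open Cfsg

namespace Cfsg.Agent.S4514

open Cfsg.Agent.Blocks Cfsg.Agent.Char Cfsg.Agent.ConstDiff

/-- Let G be a finite group, u an element of G, and fix a maximal ideal M of the algebraic integers containing 2 (defining the 2-blocks). There is a complex number k with χ(1) − χ(u) = k for every non-principal irreducible character χ in the principal 2-block if and only if one of the following holds: u lies in O(G); or G/O(G) has order 2 and u ∉ O(G); or G/O(G) ≅ PSL(2, 2ⁿ) for some n ≥ 2, u ∉ O(G) and u² ∈ O(G). -/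
theorem result {G : Type*} [Group G] [Finite G] (M : Ideal Cfsg.AlgInt) (hM : Cfsg.IsPModular 2 M) (u : G) :
    (∃ k : ℂ, ∀ χ : Cfsg.IrrCharacter G, χ ∈ Cfsg.principalBlock M G → (χ : G → ℂ) ≠ (fun _ => 1) →
        (χ : G → ℂ) 1 - (χ : G → ℂ) u = k) ↔
      (u ∈ Cfsg.oddCore G ∨ (Nat.card (G ⧸ Cfsg.oddCore G) = 2 ∧ u ∉ Cfsg.oddCore G) ∨
        (∃ (F : Type) (_ : Field F) (_ : Fintype F) (n : ℕ), 2 ≤ n ∧ Fintype.card F = 2 ^ n ∧
          Nonempty (G ⧸ Cfsg.oddCore G ≃* Matrix.ProjectiveSpecialLinearGroup (Fin 2) F) ∧ u ∉ Cfsg.oddCore G ∧ u ^ 2 ∈ Cfsg.oddCore G)) := by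
  classical
  haveI : Fintype G := Fintype.ofFinite G
  haveI : M.IsPrime := hM.2.1.isPrime
  haveI : Fact (Nat.Prime 2) := ⟨Nat.prime_two⟩
  set N := Cfsg.oddCore G with hN
  haveI : N.Normal := FittingCores.pPrimeCore_normal (G := G) 2
  haveI : Fintype (G ⧸ N) := Fintype.ofFinite _
  have hN2 : ¬ 2 ∣ Nat.card N := fun hd =>
    (Nat.Prime.coprime_iff_not_dvd Nat.prime_two).1 (Cfsg.Agent.PBasic.pPrimeCore_coprime 2 G).symm hd
  have hinflp : Cfsg.Agent.CharX.infl N (principal (G ⧸ N)) = principal G := Subtype.ext rfl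
  have hup : ∀ η : IrrCharacter (G ⧸ N), η ∈ rest M (G ⧸ N) → Cfsg.Agent.CharX.infl N η ∈ rest M G := by
    intro η hη
    rw [mem_rest] at hη ⊢
    refine ⟨infl_mem_of_mem N (isPBlock_principalBlock M G) (isPBlock_principalBlock M (G ⧸ N))
      (χ := principal (G ⧸ N)) principal_mem_principalBlock hη.1
      (by rw [hinflp]; exact principal_mem_principalBlock), fun e => hη.2 (funext fun q => ?_)⟩
    obtain ⟨g, rfl⟩ := QuotientGroup.mk_surjective q
    exact congrFun e g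
  have hdown : ∀ χ : IrrCharacter G, χ ∈ rest M G →
      ∃ η : IrrCharacter (G ⧸ N), η ≠ principal (G ⧸ N) ∧ Cfsg.Agent.CharX.infl N η = χ := by
    intro χ hχ
    rw [mem_rest] at hχ
    have htriv := trivialOn_of_sameBlock hM N hN2 (χ := principal G) (ψ := χ) hχ.1 fun _ _ => rfl
    obtain ⟨η, hη⟩ := (Cfsg.Agent.CharX.quotEquiv N).surjective ⟨χ, htriv⟩
    have hη' : Cfsg.Agent.CharX.infl N η = χ := congrArg Subtype.val hη
    refine ⟨η, fun e => hχ.2 ?_, hη'⟩
    rw [← hη', e, hinflp]; rfl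
  constructor
  · rintro ⟨k, hk⟩
    by_cases hu : u ∈ N
    · exact Or.inl hu
    right
    have hu' : (u : G ⧸ N) ≠ 1 := fun e => hu ((QuotientGroup.eq_one_iff u).1 e)
    rcases forward hM (Cfsg.Agent.PBasic.pPrimeCore_quotient_pPrimeCore 2 G) hu' (k := k) (fun η hη => by
        have h := hup η hη
        rw [mem_rest] at h
        exact hk _ h.1 h.2) with h | ⟨F, iF, iFF, n, hn, hc, he, hu2⟩
    · exact Or.inl ⟨h, hu⟩
    · refine Or.inr ⟨F, iF, iFF, n, hn, hc, he, hu, (QuotientGroup.eq_one_iff _).1 ?_⟩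
      rw [QuotientGroup.mk_pow]
      exact hu2
  · rintro (hu | ⟨h2, hu⟩ | ⟨F, iF, iFF, n, hn, hc, ⟨e⟩, hu, hu2⟩)
    · refine ⟨0, fun χ hχ hne => ?_⟩
      rw [trivialOn_of_sameBlock hM N hN2 (χ := principal G) (ψ := χ) hχ (fun _ _ => rfl) u hu, sub_self]
    · refine ⟨((2 : ℕ) : ℂ), fun χ hχ hne => ?_⟩
      obtain ⟨η, hη, rfl⟩ := hdown χ (mem_rest.2 ⟨hχ, hne⟩)
      exact order_two_data h2 (t := (u : G ⧸ N)) (fun e => hu ((QuotientGroup.eq_one_iff u).1 e)) η hη
    · haveI := charTwo_of_card hc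
      have h4 : 4 ≤ Fintype.card F := by
        rw [hc]; exact (by norm_num : 4 = 2 ^ 2) ▸ Nat.pow_le_pow_right (by norm_num) hn
      have ho : orderOf (u : G ⧸ N) = 2 := orderOf_eq_prime
        (by rw [← QuotientGroup.mk_pow]; exact (QuotientGroup.eq_one_iff _).2 hu2)
        fun e => hu ((QuotientGroup.eq_one_iff u).1 e)
      refine ⟨(Fintype.card F : ℂ), fun χ hχ hne => ?_⟩
      obtain ⟨η, hη, rfl⟩ := hdown χ (mem_rest.2 ⟨hχ, hne⟩)
      exact psl_two_data h4 e ho η hη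

end Cfsg.Agent.S4514
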