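import Cfsg.Statements.S4517
import Cfsg.Agent.Lib.Blocks.Real
import Cfsg.Agent.Lib.Char.Galois

set_option autoImplicit false
open Cfsg

namespace Cfsg.Agent.S4517

/-- Let G be a finite group, M a maximal ideal of the algebraic integers containing 2, and k a natural number coprime to the order of G with g ^ k = g⁻¹ for every element g of odd order (so that g ↦ g ^ k induces a field automorphism of the character values inverting the roots of unity of odd order). If B is a 2-block of full defect (its defect equals the exponent of 2 in the order of G) that is stable under χ ↦ χ ∘ (· ^ k), then B is the principal 2-block. -/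
theorem result {G : Type*} [Group G] [Finite G] (M : Ideal Cfsg.AlgInt) (hM : Cfsg.IsPModular 2 M) (k : ℕ) (hk : Nat.Coprime k (Nat.card G)) (hk₂ : ∀ g : G, Odd (orderOf g) → g ^ k = g⁻¹) (B : Set (Cfsg.IrrCharacter G)) (hB : Cfsg.IsPBlock M B) (hdef : Cfsg.blockDefect 2 B = (Nat.card G).factorization 2) (hstab : ∀ χ ∈ B, ∃ ψ ∈ B, ∀ g : G, (ψ : G → ℂ) g = (χ : G → ℂ) (g ^ k)) : B = Cfsg.principalBlock M G := by
  haveI := Fintype.ofFinite G
  haveI := Cfsg.Agent.Blocks.IsPModular.isPrime hM
  let f : Cfsg.IrrCharacter G → Cfsg.IrrCharacter G := fun χ =>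
    ⟨fun g => (χ : G → ℂ) (g ^ k), Cfsg.Agent.CharGalois.IsIrrCharacter.powMap χ.2 hk⟩
  have hmaps : ∀ χ ∈ B, f χ ∈ B := fun χ hχ => by
    obtain ⟨ψ, hψ, h⟩ := hstab χ hχ
    rwa [show f χ = ψ from Subtype.ext (funext fun g => (h g).symm)]
  have hinj : Function.Injective f := fun χ ψ h => Subtype.ext (funext fun g => by
    obtain ⟨y, rfl⟩ := (powCoprime hk.symm).surjective g
    exact congrFun (congrArg Subtype.val h) y)
  exact Cfsg.Agent.Blocks.principal_of_inv_stable hM hB hdef fun g hg =>
    Cfsg.Agent.Blocks.blockCoeff_eq_of_perm B f hmaps hinj.injOn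
      (fun χ _ => by simp [f]) (fun χ _ => by
        simp only [f]; rw [hk₂ g (Nat.not_even_iff_odd.1 fun he => hg he.two_dvd)])

end Cfsg.Agent.S4517
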