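import Cfsg.Statements.S4518
import Cfsg.Agent.Lib.Char.Clifford
import Cfsg.Agent.Lib.Char.Galois
import Cfsg.Agent.Lib.Blocks.Center

set_option autoImplicit false
open Cfsg

namespace Cfsg.Agent.S4518

/-- Let N be a normal subgroup of the finite group G whose index is not divisible by the prime p, and let k be coprime to the order of G with k ^ (p ^ e) ≡ 1 modulo the order of G for some e (so g ↦ g ^ k induces a field automorphism of p-power order on character values). If an irreducible character χ of G satisfies χ (g ^ k) = χ g for all g, then every irreducible constituent θ of the restriction of χ to N satisfies θ (n ^ k) = θ n for all n. -/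
theorem result {G : Type*} [Group G] [Fintype G] (p : ℕ) [Fact p.Prime] (N : Subgroup G) [N.Normal] [Fintype N] (hidx : ¬ p ∣ N.index) (k e : ℕ) (hk : Nat.Coprime k (Nat.card G)) (hke : k ^ (p ^ e) ≡ 1 [MOD Nat.card G]) (χ : Cfsg.IrrCharacter G) (hχ : ∀ g : G, (χ : G → ℂ) (g ^ k) = (χ : G → ℂ) g) (θ : Cfsg.IrrCharacter N) (hθ : Cfsg.classInner (fun n : N => (χ : G → ℂ) n) (θ : N → ℂ) ≠ 0) : ∀ n : N, (θ : N → ℂ) (n ^ k) = (θ : N → ℂ) n := by
  classical
  set σ : (N → ℂ) → (N → ℂ) := fun f n => f (n ^ k) with hσ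
  have hkN : Nat.Coprime k (Nat.card N) := hk.coprime_dvd_right N.card_subgroup_dvd_card
  have hbij : Function.Bijective fun n : N => n ^ k := (powCoprime hkN.symm).bijective
  have hsconj : ∀ (g : G) (f : N → ℂ),
      σ (Cfsg.Agent.Char.conjChar N g f) = Cfsg.Agent.Char.conjChar N g (σ f) := by
    intro g f; funext n
    show f (Cfsg.Agent.Char.conjHom N g (n ^ k)) = f ((Cfsg.Agent.Char.conjHom N g n) ^ k)
    rw [map_pow]
  have hit : ∀ (j : ℕ) (f : N → ℂ) (n : N), (σ^[j]) f n = f (n ^ (k ^ j)) := by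
    intro j
    induction j with
    | zero => intro f n; simp
    | succ j ih =>
      intro f n
      rw [Function.iterate_succ_apply', hσ]
      show (σ^[j]) f (n ^ k) = _
      rw [ih, ← pow_mul, ← pow_succ']
  have hper : ∀ f : N → ℂ, (σ^[p ^ e]) f = f := by
    intro f; funext n
    rw [hit, pow_eq_pow_iff_modEq.2 (hke.of_dvd (Subgroup.orderOf_coe n ▸
      orderOf_dvd_natCard (n : G))), pow_one]
  have hθc : Cfsg.IsIrrCharacter N (σ (θ : N → ℂ)) :=
    Cfsg.Agent.CharGalois.IsIrrCharacter.powMap θ.2 hkN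
  have hσθ : σ (θ : N → ℂ) ∈ Cfsg.Agent.Char.conjOrbit N (θ : N → ℂ) := by
    refine Cfsg.Agent.Char.restrict_constituent_conj N χ.2 θ.2 hθc hθ ?_
    have : classInner (fun n : N => (χ : G → ℂ) n) (σ (θ : N → ℂ)) =
        classInner (fun n : N => (χ : G → ℂ) n) (θ : N → ℂ) := by
      unfold Cfsg.classInner
      congr 1
      refine Fintype.sum_bijective _ hbij _ _ fun n => ?_
      simp only [hσ, SubmonoidClass.coe_pow, hχ]
    rwa [this]
  set O := Cfsg.Agent.Char.conjOrbit N (θ : N → ℂ)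
  have hmem : ∀ f ∈ O, σ f ∈ O := by
    intro f hf
    obtain ⟨g, rfl⟩ := (Cfsg.Agent.Char.mem_conjOrbit N).1 hf
    obtain ⟨g', hg'⟩ := (Cfsg.Agent.Char.mem_conjOrbit N).1 hσθ
    refine (Cfsg.Agent.Char.mem_conjOrbit N).2 ⟨g' * g, ?_⟩
    rw [hsconj, hg', ← Cfsg.Agent.Char.conjChar_mul]
  let P : Equiv.Perm O := Equiv.ofBijective (fun f => ⟨σ f.1, hmem f.1 f.2⟩)
    (Finite.injective_iff_bijective.1 fun a b h => Subtype.ext (funext fun n => by
      obtain ⟨m, rfl⟩ := hbij.surjective n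
      exact congrFun (congrArg Subtype.val h) m))
  have hP : ∀ (j : ℕ) (f : O), ((P ^ j) f).1 = (σ^[j]) f.1 := by
    intro j
    induction j with
    | zero => intro f; simp
    | succ j ih => intro f; rw [pow_succ', Equiv.Perm.mul_apply, Function.iterate_succ_apply', ← ih]; rfl
  have hcard : ¬ p ∣ Fintype.card O := by
    rw [Fintype.card_coe, Cfsg.Agent.Char.card_conjOrbit]
    exact fun h => hidx (h.trans (Subgroup.index_dvd_of_le (Cfsg.Agent.Char.le_inertia N
      (Cfsg.Agent.Char.IsCharacter.isClassFunction (Cfsg.Agent.Blocks.irr_isCharacter θ)))))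
  obtain ⟨⟨f, hf⟩, hfix⟩ := Equiv.Perm.exists_fixed_point_of_prime (n := e) hcard (σ := P)
    (Equiv.ext fun f => Subtype.ext ((hP _ f).trans (hper f.1)))
  obtain ⟨g, rfl⟩ := (Cfsg.Agent.Char.mem_conjOrbit N).1 hf
  have h2 : σ (Cfsg.Agent.Char.conjChar N g (θ : N → ℂ)) =
      Cfsg.Agent.Char.conjChar N g (θ : N → ℂ) := congrArg Subtype.val hfix
  rw [hsconj] at h2
  have h3 := congrArg (Cfsg.Agent.Char.conjChar N g⁻¹) h2
  rw [← Cfsg.Agent.Char.conjChar_mul, ← Cfsg.Agent.Char.conjChar_mul, mul_inv_cancel,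
    Cfsg.Agent.Char.conjChar_one, Cfsg.Agent.Char.conjChar_one] at h3
  exact congrFun h3

end Cfsg.Agent.S4518
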