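import Cfsg.Statements.S4519
import Cfsg.Agent.Lib.Char.OddIndexReal
import Cfsg.Agent.Lib.Char.ExtensionChar
import Cfsg.Agent.Lib.Char.ThompsonComplement
import Cfsg.Agent.Lib.Char.Clifford
import Cfsg.Agent.Lib.Char.Orbit
import Cfsg.Agent.Lib.Char.Galois
import Cfsg.Agent.Lib.Char.Gallagher
import Mathlib.GroupTheory.Sylow

set_option autoImplicit false
set_option linter.style.haveILetI false
open Cfsg

namespace Cfsg.Agent.S4519

open Cfsg.Agent.Char
open scoped ComplexConjugate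

universe u

variable {G : Type u} [Group G] [Fintype G]

/-- The hypotheses on the exponent. -/
def Good (G : Type u) [Group G] (k e : ℕ) : Prop :=
  Nat.Coprime k (Nat.card G) ∧ k ^ (2 ^ e) ≡ 1 [MOD Nat.card G] ∧
    ∀ g : G, Odd (orderOf g) → g ^ k = g⁻¹

theorem good_subgroup {k e : ℕ} (h : Good G k e) (H : Subgroup G) : Good H k e := by
  refine ⟨h.1.coprime_dvd_right (Subgroup.card_subgroup_dvd_card H),
    h.2.1.of_dvd (Subgroup.card_subgroup_dvd_card H), fun x hx => ?_⟩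
  refine Subtype.ext ?_
  rw [SubgroupClass.coe_pow, Subgroup.coe_inv]
  exact h.2.2 _ (by rwa [Subgroup.orderOf_coe])

theorem pow_bij {k : ℕ} (hk : Nat.Coprime k (Nat.card G)) :
    Function.Bijective fun g : G => g ^ k :=
  (powCoprime (Nat.Coprime.symm hk)).bijective

theorem classInner_pow {k : ℕ} (hk : Nat.Coprime k (Nat.card G)) (a b : G → ℂ) :
    Cfsg.classInner (fun g => a (g ^ k)) (fun g => b (g ^ k)) = Cfsg.classInner a b := by
  simp only [Cfsg.classInner]
  congr 1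
  exact Fintype.sum_equiv (Equiv.ofBijective _ (pow_bij hk)) _ _ fun _ => rfl

theorem mem_of_good (N : Subgroup G) [N.Normal] (hidx : Odd N.index) {k e : ℕ} (h : Good G k e)
    (g : G) : g * g ^ k ∈ N := by
  rw [← QuotientGroup.eq_one_iff, ← pow_succ', QuotientGroup.mk_pow]
  obtain ⟨a, m, hm, hord⟩ := Nat.exists_eq_two_pow_mul_odd (orderOf_pos g).ne'
  have ho : Odd (orderOf (g ^ 2 ^ a)) := by
    refine Odd.of_dvd_nat hm (orderOf_dvd_of_pow_eq_one ?_)
    rw [← pow_mul, ← hord, pow_orderOf_eq_one]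
  refine Cfsg.Agent.CharExtend.eq_one_of_pow_coprime (a := 2 ^ a) (b := N.index) ?_ ?_
    ((Nat.coprime_two_left.2 hidx).pow_left a)
  · rw [← pow_mul, ← QuotientGroup.mk_pow, mul_comm, pow_mul, pow_succ', h.2.2 _ ho,
      mul_inv_cancel, QuotientGroup.mk_one]
  · rw [Subgroup.index_eq_card]
    exact pow_card_eq_one'

variable (N : Subgroup G) [hN : N.Normal] [Fintype N]

/-- Two fixed characters: their restrictions meet oddly exactly when they are equal. -/
theorem parity (hidx : Odd N.index) {k e : ℕ} (h : Good G k e) (χ χ' : Cfsg.IrrCharacter G)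
    (hf : ∀ g, (χ : G → ℂ) (g ^ k) = (χ : G → ℂ) g)
    (hf' : ∀ g, (χ' : G → ℂ) (g ^ k) = (χ' : G → ℂ) g) :
    ∃ m : ℕ, Cfsg.classInner (fun n : N => (χ : G → ℂ) n) (fun n : N => (χ' : G → ℂ) n) = m ∧
      (Odd m ↔ χ = χ') := by
  classical
  let φ : G → ℂ := fun g => (χ : G → ℂ) g * conj ((χ' : G → ℂ) g)
  have hφ : Cfsg.IsCharacter G φ := IsCharacter.mul (IsIrrCharacter.isCharacter χ.2)
    (IsCharacter.conj (IsIrrCharacter.isCharacter χ'.2))
  choose c hc using fun ψ : Cfsg.IrrCharacter G =>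
    IsCharacter.exists_classInner_nat hφ (IsIrrCharacter.isCharacter ψ.2)
  choose d hd0 hd using fun ψ : Cfsg.IrrCharacter G => IsIrrCharacter.exists_degree ψ.2
  let one : Cfsg.IrrCharacter G := ⟨fun _ => 1, isIrrCharacter_one⟩
  let T := Finset.univ.filter fun ψ : Cfsg.IrrCharacter G => ∀ n : N, (ψ : G → ℂ) n = (ψ : G → ℂ) 1
  have h1T : one ∈ T := Finset.mem_filter.2 ⟨Finset.mem_univ _, fun _ => rfl⟩
  refine ⟨∑ ψ ∈ T, c ψ * d ψ, ?_, ?_⟩
  · have e1 : Cfsg.classInner (fun n : N => (χ : G → ℂ) n) (fun n : N => (χ' : G → ℂ) n) =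
        Cfsg.classInner (fun n : N => φ n) (fun _ : N => (1 : ℂ)) := by
      simp [Cfsg.classInner, φ]
    have e2 : (fun n : N => φ n) =
        ∑ ψ : Cfsg.IrrCharacter G, (c ψ : ℂ) • fun n : N => (ψ : G → ℂ) n := by
      funext n
      conv_lhs => rw [IsCharacter.eq_sum hφ]
      simp [hc]
    rw [e1, e2, classInner_sum_left, Nat.cast_sum]
    conv_rhs => rw [Finset.sum_filter]
    refine Finset.sum_congr rfl fun ψ _ => ?_
    rw [classInner_smul_left]
    split_ifs with hψ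
    · rw [show (fun n : N => (ψ : G → ℂ) n) = (d ψ : ℂ) • fun _ : N => (1 : ℂ) from
        funext fun n => by simp [hψ n, hd],
        classInner_smul_left, classInner_self_irr isIrrCharacter_one, mul_one, Nat.cast_mul]
    · by_contra hne
      exact hψ (restrict_over_one (H := N) ψ.2 (fun h0 => hne (by rw [h0, mul_zero])))
  have hone : c one * d one = c one := by
    rw [show d one = 1 from Nat.cast_injective (R := ℂ) (by rw [← hd, Nat.cast_one]), mul_one]
  have hc1 : c one = if χ = χ' then 1 else 0 := by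
    apply Nat.cast_injective (R := ℂ)
    rw [← hc]
    have : Cfsg.classInner φ (one : G → ℂ) = Cfsg.classInner (χ : G → ℂ) (χ' : G → ℂ) := by
      simp [Cfsg.classInner, φ, one]
    rw [this]
    split_ifs with hh
    · rw [hh, classInner_self_irr χ'.2, Nat.cast_one]
    · rw [classInner_irr_of_ne χ.2 χ'.2 fun e => hh (Subtype.ext e), Nat.cast_zero]
  -- the conjugation pairs off the other constituents
  let σ : Cfsg.IrrCharacter G → Cfsg.IrrCharacter G := fun ψ =>
    ⟨fun g => conj ((ψ : G → ℂ) g), IsIrrCharacter.conj ψ.2⟩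
  have hσ : ∀ ψ, σ (σ ψ) = ψ := fun ψ => Subtype.ext (funext fun g => Complex.conj_conj _)
  have hσT : ∀ ψ ∈ T, σ ψ ∈ T := fun ψ hψ => Finset.mem_filter.2 ⟨Finset.mem_univ _, fun n => by
    show conj ((ψ : G → ℂ) n) = conj ((ψ : G → ℂ) 1)
    rw [(Finset.mem_filter.1 hψ).2 n]⟩
  have hsum : (((∑ ψ ∈ T.erase one, c ψ * d ψ : ℕ)) : ZMod 2) = 0 := by
    rw [Nat.cast_sum]
    refine Finset.sum_involution (fun ψ _ => σ ψ) (fun ψ hψ => ?_) (fun ψ hψ _ => ?_)
      (fun ψ hψ => ?_) (fun ψ _ => hσ ψ)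
    · obtain ⟨K, -, hK, hKmul⟩ := IsCharacter.exists_kernel (IsIrrCharacter.isCharacter ψ.2)
      have hpow : ∀ g : G, (ψ : G → ℂ) (g ^ k) = conj ((ψ : G → ℂ) g) := by
        intro g
        rw [← IsCharacter.inv (IsIrrCharacter.isCharacter ψ.2)]
        have hm : g⁻¹ ^ k * g⁻¹ ∈ K :=
          (hK _).2 ((Finset.mem_filter.1 (Finset.mem_of_mem_erase hψ)).2 ⟨_, by
            rw [← pow_succ, pow_succ']; exact mem_of_good N hidx h g⁻¹⟩)
        calc (ψ : G → ℂ) (g ^ k) = (ψ : G → ℂ) (g⁻¹ ^ k * g⁻¹ * g ^ k) := (hKmul _ hm _).symm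
          _ = (ψ : G → ℂ) g⁻¹ := by
            congr 1
            have hcm : Commute g⁻¹ (g ^ k) := ((Commute.refl g).pow_right k).inv_left
            rw [mul_assoc, hcm.eq, ← mul_assoc, inv_pow, inv_mul_cancel, one_mul]
      have hcσ : c (σ ψ) = c ψ := by
        apply Nat.cast_injective (R := ℂ)
        rw [← hc, ← hc]
        conv_rhs => rw [← classInner_pow h.1]
        congr 1
        · funext g; simp [φ, hf, hf']
        · funext g; exact (hpow g).symm
      have hdσ : d (σ ψ) = d ψ := by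
        apply Nat.cast_injective (R := ℂ)
        rw [← hd, ← hd]
        show conj ((ψ : G → ℂ) 1) = _
        rw [hd, Complex.conj_natCast]
      show ((c ψ * d ψ : ℕ) : ZMod 2) + ((c (σ ψ) * d (σ ψ) : ℕ) : ZMod 2) = 0
      rw [hcσ, hdσ]
      exact CharTwo.add_self_eq_zero _
    · intro hfix
      refine Finset.ne_of_mem_erase hψ ?_
      have hne : ∀ ψ' ∈ T, Cfsg.classInner (fun n : N => (ψ' : G → ℂ) n)
          ((⟨fun _ => 1, isIrrCharacter_one⟩ : Cfsg.IrrCharacter N) : N → ℂ) ≠ 0 := fun ψ' hψ' => by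
        rw [show (fun n : N => (ψ' : G → ℂ) n) = (d ψ' : ℂ) • fun _ : N => (1 : ℂ) from
          funext fun n => by simp [(Finset.mem_filter.1 hψ').2 n, hd],
          classInner_smul_left, classInner_self_irr isIrrCharacter_one, mul_one]
        exact Nat.cast_ne_zero.2 (hd0 ψ').ne'
      exact OddIndexReal.real_over_unique N hidx ⟨fun _ => 1, isIrrCharacter_one⟩ (fun _ => by simp)
        ψ one (fun g => Complex.conj_eq_iff_im.1 (congrFun (congrArg Subtype.val hfix) g))
        (fun g => by simp [one]) (hne ψ (Finset.mem_of_mem_erase hψ)) (hne one h1T)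
    · refine Finset.mem_erase.2 ⟨fun e1 => Finset.ne_of_mem_erase hψ ?_,
        hσT ψ (Finset.mem_of_mem_erase hψ)⟩
      rw [← hσ ψ, e1]
      exact Subtype.ext (funext fun g => map_one _)
  rw [ZMod.natCast_eq_zero_iff_even] at hsum
  rw [← Finset.add_sum_erase _ _ h1T, hone, hc1, Nat.odd_add]
  constructor
  · intro hh
    by_contra hne
    rw [if_neg hne] at hh
    exact Nat.not_odd_zero (hh.2 hsum)
  · intro hh
    rw [if_pos hh]
    exact iff_of_true odd_one hsum

/-- At most one fixed character lies over `θ`. -/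
theorem unique (hidx : Odd N.index) {k e : ℕ} (h : Good G k e) (θ : Cfsg.IrrCharacter N)
    (χ χ' : Cfsg.IrrCharacter G)
    (hc : Cfsg.classInner (fun n : N => (χ : G → ℂ) n) (θ : N → ℂ) ≠ 0)
    (hc' : Cfsg.classInner (fun n : N => (χ' : G → ℂ) n) (θ : N → ℂ) ≠ 0)
    (hf : ∀ g, (χ : G → ℂ) (g ^ k) = (χ : G → ℂ) g)
    (hf' : ∀ g, (χ' : G → ℂ) (g ^ k) = (χ' : G → ℂ) g) : χ' = χ := by
  classical
  obtain ⟨a, ha⟩ := IsCharacter.exists_classInner_nat
    (IsCharacter.restrict (IsIrrCharacter.isCharacter χ.2) N) (IsIrrCharacter.isCharacter θ.2)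
  obtain ⟨b, hb⟩ := IsCharacter.exists_classInner_nat
    (IsCharacter.restrict (IsIrrCharacter.isCharacter χ'.2) N) (IsIrrCharacter.isCharacter θ.2)
  set L := (conjOrbit N (θ : N → ℂ)).card
  have key : ∀ (ξ η : Cfsg.IrrCharacter G) (x y : ℕ),
      Cfsg.classInner (fun n : N => (ξ : G → ℂ) n) (θ : N → ℂ) = x →
      Cfsg.classInner (fun n : N => (η : G → ℂ) n) (θ : N → ℂ) = y →
      Cfsg.classInner (fun n : N => (η : G → ℂ) n) (θ : N → ℂ) ≠ 0 →
      Cfsg.classInner (fun n : N => (ξ : G → ℂ) n) (fun n : N => (η : G → ℂ) n) =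
        ((x * y * L : ℕ) : ℂ) := by
    intro ξ η x y hx hy hne
    rw [clifford N η.2 θ.2 hne, classInner_smul_right, classInner_sum_right, hy, Complex.conj_natCast,
      Finset.sum_congr rfl (g := fun _ => (x : ℂ)) fun ψ hψ => ?_, Finset.sum_const, nsmul_eq_mul]
    · push_cast; ring
    · obtain ⟨g, rfl⟩ := (mem_conjOrbit N).1 hψ
      rw [classInner_restrict_conjChar N (IsCharacter.isClassFunction (IsIrrCharacter.isCharacter ξ.2)),
        hx]
  obtain ⟨m, hm, hmo⟩ := parity N hidx h χ χ hf hf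
  obtain ⟨m', hm', hmo'⟩ := parity N hidx h χ' χ' hf' hf'
  obtain ⟨m'', hm'', hmo''⟩ := parity N hidx h χ χ' hf hf'
  rw [key χ χ a a ha ha hc, Nat.cast_inj] at hm
  rw [key χ' χ' b b hb hb hc', Nat.cast_inj] at hm'
  rw [key χ χ' a b ha hb hc', Nat.cast_inj] at hm''
  subst hm hm' hm''
  have h1 := hmo.2 rfl
  have h2 := hmo'.2 rfl
  simp only [Nat.odd_mul] at h1 h2
  exact (hmo''.1 (Nat.odd_mul.2 ⟨Nat.odd_mul.2 ⟨h1.1.1, h2.1.1⟩, h1.2⟩)).symm

/-- A fixed character with odd multiplicity exists. -/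
theorem exists_fixed (hidx : Odd N.index) {k e : ℕ} (h : Good G k e) (θ : Cfsg.IrrCharacter N)
    (hθ : ∀ n : N, (θ : N → ℂ) (n ^ k) = (θ : N → ℂ) n) :
    ∃ χ : Cfsg.IrrCharacter G, Cfsg.classInner (fun n : N => (χ : G → ℂ) n) (θ : N → ℂ) ≠ 0 ∧
      ∀ g, (χ : G → ℂ) (g ^ k) = (χ : G → ℂ) g := by
  classical
  choose m hm using fun χ : Cfsg.IrrCharacter G => IsCharacter.exists_classInner_nat
    (IsCharacter.restrict (IsIrrCharacter.isCharacter χ.2) N) (IsIrrCharacter.isCharacter θ.2)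
  have hcfI := isClassFunction_indFun N (θ : N → ℂ)
  have hind : Cfsg.indFun N (θ : N → ℂ) = ∑ χ, (m χ : ℂ) • (χ : G → ℂ) := by
    refine eq_of_forall_classInner hcfI (isClassFunction_combination _) fun χ => ?_
    rw [classInner_combination, classInner_indFun_left N _
      (IsCharacter.isClassFunction (IsIrrCharacter.isCharacter χ.2)), ← classInner_conj_symm, hm,
      Complex.conj_natCast]
  have hsum : ∑ χ, m χ ^ 2 = N.relIndex (inertia N (θ : N → ℂ)) := by
    apply Nat.cast_injective (R := ℂ)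
    have hh := classInner_indFun_normal N θ.2 θ.2
    rw [hind, classInner_combination₂] at hh
    have hcard : Nat.card {g : G // conjChar N g (θ : N → ℂ) = (θ : N → ℂ)} =
        Nat.card N * N.relIndex (inertia N (θ : N → ℂ)) := by
      have hle : N ≤ inertia N (θ : N → ℂ) :=
        le_inertia N (IsCharacter.isClassFunction (IsIrrCharacter.isCharacter θ.2))
      rw [← Nat.card_congr (Subgroup.subgroupOfEquivOfLe hle).toEquiv, Subgroup.relIndex,
        Subgroup.card_mul_index]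
      exact Nat.card_congr (Equiv.refl _)
    rw [hcard, Nat.cast_mul, ← mul_assoc,
      inv_mul_cancel₀ (Nat.cast_ne_zero.2 Nat.card_pos.ne'), one_mul] at hh
    rw [← hh, Nat.cast_sum]
    exact Finset.sum_congr rfl fun χ _ => by rw [Complex.conj_natCast, Nat.cast_pow, pow_two]
  have hodd : Odd (∑ χ, m χ ^ 2) := by
    rw [hsum]
    exact hidx.of_dvd_nat (Subgroup.relIndex_dvd_index_of_normal N _)
  let π : Equiv.Perm (Cfsg.IrrCharacter G) := Equiv.ofBijective
    (fun χ => ⟨fun g => (χ : G → ℂ) (g ^ k), Cfsg.Agent.CharGalois.IsIrrCharacter.powMap χ.2 h.1⟩)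
    (Finite.injective_iff_bijective.1 fun a b hab => Subtype.ext (funext fun g => by
      obtain ⟨g', rfl⟩ := (pow_bij h.1).2 g
      exact congrFun (congrArg Subtype.val hab) g'))
  have hπ : ∀ (j : ℕ) χ g, ((π ^ j) χ : G → ℂ) g = (χ : G → ℂ) (g ^ k ^ j) := by
    intro j
    induction j with
    | zero => intro χ g; simp
    | succ j ih =>
      intro χ g
      rw [pow_succ', Equiv.Perm.mul_apply]
      show ((π ^ j) χ : G → ℂ) (g ^ k) = _
      rw [ih, ← pow_mul, ← pow_succ']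
  have hπ2 : π ^ 2 ^ e = 1 := Equiv.ext fun χ => Subtype.ext (funext fun g => by
    rw [hπ, ← pow_mod_natCard, h.2.1, pow_mod_natCard, pow_one]; rfl)
  have hP : IsPGroup 2 (Subgroup.zpowers π) :=
    IsPGroup.of_card_dvd_pow (n := e) (by rw [Nat.card_zpowers]; exact orderOf_dvd_of_pow_eq_one hπ2)
  have hw : ∀ (q : Subgroup.zpowers π) (χ : Cfsg.IrrCharacter G), m (q • χ) ^ 2 = m χ ^ 2 := by
    have h1 : ∀ χ, m (π χ) = m χ := fun χ => by
      apply Nat.cast_injective (R := ℂ)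
      rw [← hm, ← hm]
      conv_rhs => rw [← classInner_pow (G := N)
        (h.1.coprime_dvd_right (Subgroup.card_subgroup_dvd_card N))]
      congr 1
      funext n; exact (hθ n).symm
    rintro ⟨q, hq⟩ χ
    obtain ⟨j, rfl⟩ := (isOfFinOrder_of_finite π).mem_powers_iff_mem_zpowers.2 hq
    show m ((π ^ j) χ) ^ 2 = m χ ^ 2
    congr 1
    induction j with
    | zero => rfl
    | succ j ih => rw [pow_succ', Equiv.Perm.mul_apply, h1, ih (Subgroup.pow_mem _ (Subgroup.mem_zpowers π) _)]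
  haveI : Fact (Nat.Prime 2) := ⟨Nat.prime_two⟩
  have hfix := TC.sum_modEq_fixed hP (fun χ => m χ ^ 2) hw
  obtain ⟨χ, hχ, hmχ⟩ : ∃ χ, χ ∈ MulAction.fixedPoints (Subgroup.zpowers π) (Cfsg.IrrCharacter G) ∧
      m χ ≠ 0 := by
    by_contra hno
    push Not at hno
    rw [Finset.sum_eq_zero (s := Finset.univ.filter fun χ =>
        χ ∈ MulAction.fixedPoints (Subgroup.zpowers π) (Cfsg.IrrCharacter G)) fun χ hχ => by
      rw [hno χ (Finset.mem_filter.1 hχ).2, zero_pow two_ne_zero]] at hfix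
    exact Nat.not_even_iff_odd.2 hodd (even_iff_two_dvd.2 (Nat.modEq_zero_iff_dvd.1 hfix))
  refine ⟨χ, by rw [hm]; exact Nat.cast_ne_zero.2 hmχ, fun g => ?_⟩
  exact congrFun (congrArg Subtype.val (hχ ⟨π, Subgroup.mem_zpowers π⟩)) g

/-- Some extension is fixed. -/
theorem fixed_extension (hidx : Odd N.index) {k e : ℕ} (h : Good G k e) (θ : Cfsg.IrrCharacter N)
    (hθ : ∀ n : N, (θ : N → ℂ) (n ^ k) = (θ : N → ℂ) n)
    (hext : ∃ χ : G → ℂ, Cfsg.IsIrrCharacter G χ ∧ ∀ n : N, χ n = (θ : N → ℂ) n) :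
    ∃ χ : Cfsg.IrrCharacter G, (∀ n : N, (χ : G → ℂ) n = (θ : N → ℂ) n) ∧
      ∀ g, (χ : G → ℂ) (g ^ k) = (χ : G → ℂ) g := by
  obtain ⟨χ₀, hχ₀, hres⟩ := hext
  obtain ⟨d, σ, hσ, hσc⟩ := θ.2
  haveI := hσ
  obtain ⟨η, hη, hηc⟩ := Cfsg.Agent.CharExtend.exists_rep_of_char σ
    (IsIrrCharacter.isCharacter hχ₀) fun n => (hres n).trans (congrFun hσc n).symm
  obtain ⟨η', hη', hηc'⟩ := Cfsg.Agent.CharExtend.exists_rep_of_char σ
    (IsIrrCharacter.isCharacter (Cfsg.Agent.CharGalois.IsIrrCharacter.powMap hχ₀ h.1)) fun n => by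
      show χ₀ ((n : G) ^ k) = _
      rw [← SubgroupClass.coe_pow, hres, hθ, congrFun hσc n]
  obtain ⟨c, hcN, hc⟩ := Cfsg.Agent.CharExtend.exists_linear_of_extensions σ η η' hη hη'
  have hk' : ∀ g, χ₀ (g ^ k) = (c g : ℂ) * χ₀ g := fun g => by
    have h1 : η'.character g = (c g : ℂ) * η.character g := by
      simp [Representation.character, hc g]
    rwa [hηc, hηc'] at h1
  obtain ⟨j, hj⟩ := hidx
  have hci : ∀ g, c g ^ (2 * j + 1) = 1 := fun g => by
    rw [← hj]
    simpa using DFunLike.congr_fun (Cfsg.Agent.CharExtend.pow_index_eq_one c hcN) g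
  let μ : G →* ℂˣ := c ^ (j + 1)
  have hμN : ∀ n : N, μ n = 1 := fun n => by simp [μ, hcN]
  let η₂ : Representation ℂ G (Fin d → ℂ) :=
    { toFun := fun g => (μ g : ℂ) • η g
      map_one' := by simp
      map_mul' := fun a b => by rw [map_mul, map_mul, Units.val_mul, smul_mul_smul_comm] }
  have h2 : ∀ n : N, η₂ n = σ n := fun n => by
    show (μ n : ℂ) • η n = σ n
    rw [hμN, Units.val_one, one_smul, hη]
  have hval : ∀ g, η₂.character g = (μ g : ℂ) * χ₀ g := fun g => by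
    rw [← hηc]; simp [Representation.character, η₂]
  obtain ⟨hirr, hres2⟩ := Cfsg.Agent.CharExtend.exists_char_of_rep h2
  refine ⟨⟨_, hirr⟩, fun n => (hres2 n).trans (congrFun hσc n), fun g => ?_⟩
  show η₂.character (g ^ k) = η₂.character g
  rw [hval, hval, hk', ← mul_assoc]
  congr 1
  have hμk : μ (g ^ k) = (μ g)⁻¹ := by
    have := hμN ⟨_, mem_of_good N ⟨j, hj⟩ h g⟩
    rw [map_mul] at this
    exact eq_inv_of_mul_eq_one_right this
  rw [hμk, ← Units.val_mul]
  congr 1
  show (c g ^ (j + 1))⁻¹ * c g = c g ^ (j + 1)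
  rw [inv_mul_eq_iff_eq_mul, ← pow_add, show j + 1 + (j + 1) = 2 * j + 1 + 1 by omega, pow_succ,
    hci, one_mul]

omit [Fintype G] in
theorem conj_fixed {k : ℕ} {θ : N → ℂ} (hθ : ∀ n : N, θ (n ^ k) = θ n) (g : G) (n : N) :
    conjChar N g θ (n ^ k) = conjChar N g θ n := by
  show θ (conjHom N g (n ^ k)) = θ (conjHom N g n)
  rw [map_pow, hθ]

/-- Invariant fixed characters extend when the quotient is a group of odd prime power order. -/
theorem extend_pgroup {q : ℕ} (hq : q.Prime) (hq2 : Odd q) : ∀ (a : ℕ) (G : Type u) [Group G]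
    [Fintype G] (N : Subgroup G) [hN : N.Normal] [Fintype N], N.index = q ^ a →
    ∀ (k e : ℕ), Good G k e → ∀ θ : Cfsg.IrrCharacter N,
      (∀ n : N, (θ : N → ℂ) (n ^ k) = (θ : N → ℂ) n) →
      (∀ g : G, conjChar N g (θ : N → ℂ) = θ) →
      ∃ χ : Cfsg.IrrCharacter G, (∀ n : N, (χ : G → ℂ) n = (θ : N → ℂ) n) ∧
        ∀ g, (χ : G → ℂ) (g ^ k) = (χ : G → ℂ) g := by
  intro a
  induction a with
  | zero =>
    intro G _ _ N _ _ hidx k e h θ hθ hinv
    have htop : ∀ g : G, g ∈ N := fun g => by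
      have hN : N = ⊤ := Subgroup.index_eq_one.1 (by simpa using hidx)
      rw [hN]; exact Subgroup.mem_top g
    let f : G →* N :=
      { toFun := fun g => ⟨g, htop g⟩, map_one' := rfl, map_mul' := fun _ _ => rfl }
    refine ⟨⟨fun g => (θ : N → ℂ) (f g),
      IsIrrCharacter.comp θ.2 f fun n => ⟨n, Subtype.ext rfl⟩⟩, fun n => rfl, fun g => ?_⟩
    show (θ : N → ℂ) (f (g ^ k)) = _
    rw [map_pow, hθ]
  | succ a ih =>
    intro G _ _ N hNn _ hidx k e h θ hθ hinv
    classical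
    haveI : Fact q.Prime := ⟨hq⟩
    have hcard : Nat.card (G ⧸ N) = q ^ (a + 1) := by rw [← Subgroup.index_eq_card, hidx]
    obtain ⟨B, hB⟩ := Sylow.exists_subgroup_card_pow_prime (G := G ⧸ N) q (n := a)
      (by rw [hcard]; exact pow_dvd_pow q (by omega))
    have hBi : B.index = q := by
      have := B.card_mul_index
      rw [hB, hcard, pow_succ] at this
      exact Nat.eq_of_mul_eq_mul_left (pow_pos hq.pos a) this
    haveI : B.Normal := Subgroup.normal_of_index_eq_minFac_card (by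
      rw [hBi, hcard, hq.pow_minFac (by omega)])
    let M := B.comap (QuotientGroup.mk' N)
    haveI : M.Normal := Subgroup.Normal.comap inferInstance _
    haveI : Fintype M := Fintype.ofFinite M
    have hNM : N ≤ M := fun n hn => by
      show QuotientGroup.mk' N n ∈ B
      rw [show QuotientGroup.mk' N n = 1 from (QuotientGroup.eq_one_iff n).2 hn]
      exact one_mem B
    have hMi : M.index = q := by
      rw [Subgroup.index_comap_of_surjective B (QuotientGroup.mk'_surjective N), hBi]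
    have hrel : (N.subgroupOf M).index = q ^ a := by
      have := Subgroup.relIndex_mul_index hNM
      rw [hMi, hidx, pow_succ] at this
      exact Nat.eq_of_mul_eq_mul_right hq.pos this
    haveI : Fintype (N.subgroupOf M) := Fintype.ofFinite _
    let ε := Subgroup.subgroupOfEquivOfLe hNM
    let θ' : Cfsg.IrrCharacter (N.subgroupOf M) :=
      ⟨fun x => (θ : N → ℂ) (ε x), IsIrrCharacter.comp θ.2 ε.toMonoidHom ε.surjective⟩
    have hθ' : ∀ x : N.subgroupOf M, (θ' : _ → ℂ) (x ^ k) = (θ' : _ → ℂ) x := fun x => by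
      show (θ : N → ℂ) (ε (x ^ k)) = _
      rw [map_pow, hθ]
    obtain ⟨χM, hMres, hMfix⟩ := ih M (N.subgroupOf M) hrel k e (good_subgroup h M) θ' hθ'
      fun g => funext fun x => (congrFun (hinv (g : G)) (ε x) : _)
    have hodd' : Odd (N.subgroupOf M).index := by rw [hrel]; exact hq2.pow
    have hMinv : ∀ g : G, conjChar M g (χM : M → ℂ) = χM := by
      intro g
      let χg : Cfsg.IrrCharacter M := ⟨_, isIrrCharacter_conjChar M χM.2 g⟩
      refine congrArg Subtype.val (unique (N.subgroupOf M) hodd' (good_subgroup h M) θ' χM χg ?_ ?_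
        hMfix fun x => ?_)
      · rw [show (fun n : N.subgroupOf M => (χM : M → ℂ) n) = (θ' : _ → ℂ) from funext hMres,
          classInner_self_irr θ'.2]
        exact one_ne_zero
      · have hres' : (fun n : N.subgroupOf M => (χg : M → ℂ) n) = (θ' : _ → ℂ) := funext fun x => by
          show (χM : M → ℂ) (conjHom M g x) = _
          refine (hMres ⟨conjHom M g (x : M), Subgroup.mem_subgroupOf.2 (hNn.conj_mem _
            (Subgroup.mem_subgroupOf.1 x.2) g)⟩).trans ?_
          exact congrFun (hinv g) (ε x)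
        rw [hres', classInner_self_irr θ'.2]
        exact one_ne_zero
      · exact conj_fixed M hMfix g x
    obtain ⟨d, σ, hσ, hσc⟩ := χM.2
    haveI := hσ
    haveI : IsCyclic (G ⧸ M) := isCyclic_of_prime_card (p := q)
      (by rw [← Subgroup.index_eq_card, hMi])
    obtain ⟨η, hη⟩ := Cfsg.Agent.CharExtend.exists_extension_of_cyclic σ
      (fun g => by rw [hσc]; exact hMinv g) inferInstance
    obtain ⟨hirr, hres⟩ := Cfsg.Agent.CharExtend.exists_char_of_rep hη
    obtain ⟨χ, hχres, hχfix⟩ := fixed_extension M (by rw [hMi]; exact hq2) h χM hMfix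
      ⟨_, hirr, fun n => (hres n).trans (congrFun hσc n)⟩
    refine ⟨χ, fun n => (hχres ⟨n, hNM n.2⟩).trans ?_, hχfix⟩
    exact hMres ⟨⟨n, hNM n.2⟩, n.2⟩

/-- Invariant fixed characters extend. -/
theorem extend (hidx : Odd N.index) {k e : ℕ} (h : Good G k e) (θ : Cfsg.IrrCharacter N)
    (hθ : ∀ n : N, (θ : N → ℂ) (n ^ k) = (θ : N → ℂ) n)
    (hinv : ∀ g : G, conjChar N g (θ : N → ℂ) = θ) :
    ∃ χ : G → ℂ, Cfsg.IsIrrCharacter G χ ∧ ∀ n : N, χ n = (θ : N → ℂ) n := by
  classical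
  refine Cfsg.Agent.CharExtend.exists_extension_sylow θ.2 (fun g n => congrFun (hinv g) n)
    fun p hp => ?_
  by_cases hpd : p ∣ N.index
  · haveI : Fact p.Prime := ⟨hp⟩
    obtain ⟨S⟩ : Nonempty (Sylow p (G ⧸ N)) := inferInstance
    let P := (S : Subgroup (G ⧸ N)).comap (QuotientGroup.mk' N)
    have hNP : N ≤ P := fun n hn => by
      show QuotientGroup.mk' N n ∈ (S : Subgroup (G ⧸ N))
      rw [show QuotientGroup.mk' N n = 1 from (QuotientGroup.eq_one_iff n).2 hn]
      exact one_mem _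
    have hPi : P.index = (S : Subgroup (G ⧸ N)).index :=
      Subgroup.index_comap_of_surjective _ (QuotientGroup.mk'_surjective N)
    obtain ⟨a, ha⟩ := S.isPGroup'.exists_card_eq
    have hrel : (N.subgroupOf P).index = p ^ a := by
      have h1 := Subgroup.relIndex_mul_index hNP
      rw [hPi, Subgroup.index_eq_card N, ← (S : Subgroup (G ⧸ N)).card_mul_index, ha] at h1
      exact Nat.eq_of_mul_eq_mul_right (Nat.pos_of_ne_zero Subgroup.index_ne_zero_of_finite) h1
    haveI : Fintype P := Fintype.ofFinite P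
    haveI : Fintype (N.subgroupOf P) := Fintype.ofFinite _
    let ε := Subgroup.subgroupOfEquivOfLe hNP
    let θ' : Cfsg.IrrCharacter (N.subgroupOf P) :=
      ⟨fun x => (θ : N → ℂ) (ε x), IsIrrCharacter.comp θ.2 ε.toMonoidHom ε.surjective⟩
    obtain ⟨χ, hχ, -⟩ := extend_pgroup hp (hidx.of_dvd_nat hpd) a P (N.subgroupOf P) hrel k e
      (good_subgroup h P) θ'
      (fun x => by show (θ : N → ℂ) (ε (x ^ k)) = _; rw [map_pow, hθ])
      fun g => funext fun x => (congrFun (hinv (g : G)) (ε x) : _)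
    refine ⟨P, hNP, _, ?_, IsIrrCharacter.isCharacter χ.2, fun n => hχ ⟨⟨n, hNP n.2⟩, n.2⟩⟩
    rw [hPi]
    exact (hp.coprime_iff_not_dvd.2 S.not_dvd_index).symm
  · exact ⟨N, le_rfl, _, (hp.coprime_iff_not_dvd.2 hpd).symm, IsIrrCharacter.isCharacter θ.2,
      fun _ => rfl⟩


/-- Let N be a normal subgroup of odd index in the finite group G, and let k be coprime to the order of G with k ^ (2 ^ e) ≡ 1 modulo the order of G for some e and g ^ k = g⁻¹ for every element g of odd order (so g ↦ g ^ k induces a field automorphism of 2-power order inverting the roots of unity of odd order). If an irreducible character θ of N satisfies θ (n ^ k) = θ n for all n, then there is exactly one irreducible character χ of G with θ a constituent of its restriction to N and χ (g ^ k) = χ g for all g; moreover, if θ is invariant under conjugation by G, that χ restricts to θ. -/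
theorem result {G : Type*} [Group G] [Fintype G] (N : Subgroup G) [hN : N.Normal] [Fintype N] (hidx : Odd N.index) (k e : ℕ) (hk : Nat.Coprime k (Nat.card G)) (hke : k ^ (2 ^ e) ≡ 1 [MOD Nat.card G]) (hk₂ : ∀ g : G, Odd (orderOf g) → g ^ k = g⁻¹) (θ : Cfsg.IrrCharacter N) (hθ : ∀ n : N, (θ : N → ℂ) (n ^ k) = (θ : N → ℂ) n) : ∃ χ : Cfsg.IrrCharacter G, (Cfsg.classInner (fun n : N => (χ : G → ℂ) n) (θ : N → ℂ) ≠ 0 ∧ (∀ g : G, (χ : G → ℂ) (g ^ k) = (χ : G → ℂ) g) ∧ ((∀ g : G, ∀ n : N, (θ : N → ℂ) ⟨g * n * g⁻¹, hN.conj_mem n n.2 g⟩ = (θ : N → ℂ) n) → ∀ n : N, (χ : G → ℂ) n = (θ : N → ℂ) n)) ∧ ∀ χ' : Cfsg.IrrCharacter G, Cfsg.classInner (fun n : N => (χ' : G → ℂ) n) (θ : N → ℂ) ≠ 0 → (∀ g : G, (χ' : G → ℂ) (g ^ k) = (χ' : G → ℂ) g) → χ' = χ := by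
  have h : Good G k e := ⟨hk, hke, hk₂⟩
  obtain ⟨χ, hc, hf⟩ := exists_fixed N hidx h θ hθ
  refine ⟨χ, ⟨hc, hf, fun hinv => ?_⟩, fun χ' hc' hf' => unique N hidx h θ χ χ' hc hc' hf hf'⟩
  obtain ⟨χ₁, hres, hf₁⟩ := fixed_extension N hidx h θ hθ
    (extend N hidx h θ hθ fun g => funext fun n => hinv g n)
  have hc₁ : Cfsg.classInner (fun n : N => (χ₁ : G → ℂ) n) (θ : N → ℂ) ≠ 0 := by
    rw [show (fun n : N => (χ₁ : G → ℂ) n) = (θ : N → ℂ) from funext hres,
      Cfsg.Agent.Char.classInner_self_irr θ.2]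
    exact one_ne_zero
  rw [← unique N hidx h θ χ χ₁ hc hc₁ hf hf₁]
  exact hres

end Cfsg.Agent.S4519
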