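import Cfsg.Statements.S4520
import Cfsg.Agent.Lib.Blocks.Covering
import Cfsg.Agent.Lib.Blocks.Real
import Cfsg.Agent.Lib.BrauerPairs.RealBlock
import Cfsg.Agent.Lib.BrauerPairs.PrincipalOver

set_option autoImplicit false
set_option linter.style.haveILetI false
open Cfsg

namespace Cfsg.Agent.S4520

open Cfsg.Agent.Blocks Cfsg.Agent.Char
open scoped ComplexConjugate

universe u

/-- A real element of a group of odd order is trivial. -/
theorem eq_one_of_real {Q : Type*} [Group Q] [Finite Q] (hQ : Odd (Nat.card Q)) {x : Q}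
    (hx : IsConj x x⁻¹) : x = 1 := by
  obtain ⟨c, hc⟩ := isConj_iff.1 hx
  have h2 : c ^ 2 * x * (c ^ 2)⁻¹ = x := by
    calc c ^ 2 * x * (c ^ 2)⁻¹ = c * (c * x * c⁻¹) * c⁻¹ := by simp [pow_two, mul_assoc]
      _ = x := by rw [hc, show c * x⁻¹ * c⁻¹ = (c * x * c⁻¹)⁻¹ by group, hc, inv_inv]
  have hcomm : Commute (c ^ 2) x := mul_inv_eq_iff_eq_mul.1 h2
  obtain ⟨j, hj⟩ := hQ
  have hc1 : c = (c ^ 2) ^ (j + 1) := by
    rw [← pow_mul, show 2 * (j + 1) = Nat.card Q + 1 by omega, pow_succ, pow_card_eq_one', one_mul]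
  have hcx : Commute c x := hc1 ▸ hcomm.pow_left _
  rw [hcx.eq, mul_inv_cancel_right] at hc
  have hx2 : x ^ 2 = 1 := by
    rw [pow_two]; nth_rw 1 [hc]; exact inv_mul_cancel x
  calc x = x ^ (Nat.card Q + 1) := by rw [pow_succ, pow_card_eq_one', one_mul]
    _ = 1 := by rw [show Nat.card Q + 1 = 2 * (j + 1) by omega, pow_mul, hx2, one_pow]

theorem isConj_inv {G : Type*} [Group G] {a b : G} (h : IsConj a b) : IsConj a⁻¹ b⁻¹ :=
  let ⟨c, hc⟩ := isConj_iff.1 h; isConj_iff.2 ⟨c, by rw [← hc]; group⟩

variable {G : Type u} [Group G] [Fintype G] {M : Ideal AlgInt} [M.IsPrime]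

/-- The parity argument: agreement with the principal character on `N` suffices. -/
theorem mem_principal (hM : IsPModular 2 M) (N : Subgroup G) [N.Normal] (hidx : Odd N.index)
    (χ : IrrCharacter G)
    (hreg : ∀ g : G, ¬ 2 ∣ orderOf g → (χ : G → ℂ) g⁻¹ = (χ : G → ℂ) g)
    (hN : ∀ n : N, MemLocalIdeal M
      (centralChar (χ : G → ℂ) (n : G) - centralChar (principal G : G → ℂ) (n : G))) :
    χ ∈ principalBlock M G := by
  classical
  haveI : Finite (ConjClasses G) := Finite.of_surjective _ ConjClasses.mk_surjective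
  haveI : Fintype (ConjClasses G) := Fintype.ofFinite _
  haveI : CharP (resField M) 2 := resField_charP hM
  set B := principalBlock M G with hBdef
  have hB : IsPBlock M B := isPBlock_principalBlock M G
  have hp : principal G ∈ B := principal_mem_principalBlock
  by_contra hne
  have hconjp : conjIrr (principal G) = principal G :=
    Subtype.ext (funext fun g => by simp [conjIrr_apply, principal])
  have hcoef : ∀ g : G, blockCoeff B g⁻¹ = blockCoeff B g := fun g => by
    refine blockCoeff_eq_of_perm B conjIrr (fun χ hχ => conjIrr_mem hB hp (by rwa [hconjp]) hχ)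
      conjIrr_injective.injOn (fun χ _ => by rw [conjIrr_apply, conj_irr_one]) fun χ _ => ?_
    rw [conjIrr_apply, irr_inv]
  let F : G → ℂ := fun g =>
    blockCoeff B g * (centralChar (χ : G → ℂ) g - centralChar (principal G : G → ℂ) g)
  have hFr : ∀ g, MemLocalRing M (F g) := fun g => (locRing M).mul_mem (blockCoeff_memLocalRing hB g)
    ((locRing M).sub_mem (centralChar_memLocalRing χ g) (centralChar_memLocalRing _ g))
  have hFconj : ∀ a b : G, IsConj a b → F a = F b := fun a b h => by
    obtain ⟨c, rfl⟩ := isConj_iff.1 h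
    have e1 : ∀ ψ : IrrCharacter G,
        centralChar (ψ : G → ℂ) (c * a * c⁻¹) = centralChar (ψ : G → ℂ) a := fun ψ => by
      rw [← omega_classSum, ← omega_classSum]
      congr 1
      exact gaExt fun x => by
        simp only [coeff_classSum]
        exact if_congr ⟨fun h' => h.trans h', fun h' => h.symm.trans h'⟩ rfl rfl
    simp only [F, e1, blockCoeff_isConj B h]
  have hFinv : ∀ g, F g⁻¹ = F g := fun g => by
    by_cases hs : 2 ∣ orderOf g
    · simp only [F, hcoef, blockCoeff_eq_zero_of_singular hM hB hs, zero_mul]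
    · simp only [F, hcoef, Cfsg.Agent.BrauerPairs.centralChar_inv]
      simp [centralChar, hreg g hs, principal]
  have hout : ∀ C : ConjClasses G, ConjClasses.mk C.out = C := fun C => Quotient.out_eq C
  let ι : ConjClasses G → ConjClasses G := fun C => ConjClasses.mk C.out⁻¹
  have hι : ∀ C, IsConj (ι C).out C.out⁻¹ := fun C => ConjClasses.mk_eq_mk_iff_isConj.1 (hout _)
  have hιι : ∀ C, ι (ι C) = C := fun C => by
    refine ((ConjClasses.mk_eq_mk_iff_isConj.2 ?_).trans (hout C))
    simpa using isConj_inv (hι C)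
  let D : ConjClasses G → resField M := fun C => res M ⟨F C.out, hFr _⟩
  have hDι : ∀ C, D (ι C) = D C := fun C => by
    simp only [D, hFconj _ _ (hι C), hFinv]
  have hzero : ∑ C, D C = 0 := by
    refine Finset.sum_involution (fun C _ => ι C) (fun C _ => ?_) (fun C _ hC => ?_)
      (fun C _ => Finset.mem_univ _) fun C _ => hιι C
    · rw [hDι, CharTwo.add_self_eq_zero]
    · intro hfix
      refine hC ?_
      have hreal : IsConj C.out C.out⁻¹ := by
        have := hι C
        rwa [hfix] at this
      have hmem : C.out ∈ N := (QuotientGroup.eq_one_iff _).1 (eq_one_of_real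
        (by rwa [← Subgroup.index_eq_card]) (MonoidHom.map_isConj (QuotientGroup.mk' N) hreal |>.trans
          (by rw [map_inv]; rfl)))
      exact res_eq_zero_iff.2 (MemLocalIdeal.mul_left (blockCoeff_memLocalRing hB _)
        (hN ⟨_, hmem⟩))
  simp only [D, ← map_sum] at hzero
  rw [res_eq_zero_iff] at hzero
  push_cast at hzero
  have hx := isClassElt_blockEltR (M := M) B
  have key : ∑ C : ConjClasses G, F C.out = -1 := by
    have h1 := omegaR_blockEltR hB χ
    have h2 := omegaR_blockEltR hB (principal G)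
    rw [if_neg hne, omegaR_eq_sum χ hx] at h1
    rw [if_pos hp, omegaR_eq_sum (principal G) hx] at h2
    simp only [coeff_blockEltR hB] at h1 h2
    simp only [F, mul_sub, Finset.sum_sub_distrib, h1, h2, zero_sub]
  rw [key] at hzero
  exact not_memLocalIdeal_one (M := M) (by simpa using MemLocalIdeal.neg hzero)

/-- Let N be a normal subgroup of odd index in the finite group G, M a maximal ideal of the algebraic integers containing 2, and k coprime to the order of G with k ^ (2 ^ e) ≡ 1 modulo the order of G for some e and g ^ k = g⁻¹ for every element g of odd order. Let θ be an irreducible character of N and χ an irreducible character of G over θ, both unchanged by composing with g ↦ g ^ k. Then χ lies in the principal 2-block of G if and only if θ lies in the principal 2-block of N. -/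
theorem result {G : Type*} [Group G] [Fintype G] (M : Ideal Cfsg.AlgInt) (hM : Cfsg.IsPModular 2 M) (N : Subgroup G) [N.Normal] [Fintype N] (hidx : Odd N.index) (k e : ℕ) (hk : Nat.Coprime k (Nat.card G)) (hke : k ^ (2 ^ e) ≡ 1 [MOD Nat.card G]) (hk₂ : ∀ g : G, Odd (orderOf g) → g ^ k = g⁻¹) (θ : Cfsg.IrrCharacter N) (hθ : ∀ n : N, (θ : N → ℂ) (n ^ k) = (θ : N → ℂ) n) (χ : Cfsg.IrrCharacter G) (hχ : ∀ g : G, (χ : G → ℂ) (g ^ k) = (χ : G → ℂ) g) (hover : Cfsg.classInner (fun n : N => (χ : G → ℂ) n) (θ : N → ℂ) ≠ 0) : χ ∈ Cfsg.principalBlock M G ↔ θ ∈ Cfsg.principalBlock M N := by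
  classical
  haveI := IsPModular.isPrime hM
  set B := principalBlock M G
  set b := principalBlock M N
  have hB : IsPBlock M B := isPBlock_principalBlock M G
  have hb : IsPBlock M b := isPBlock_principalBlock M N
  have hp : principal G ∈ B := principal_mem_principalBlock
  have hp' : principal N ∈ b := principal_mem_principalBlock
  have hpp : Cfsg.classInner (fun n : N => (principal G : G → ℂ) n) (principal N : N → ℂ) ≠ 0 := by
    show Cfsg.classInner (principal N : N → ℂ) (principal N : N → ℂ) ≠ 0
    rw [classInner_self_irr (principal N).2]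
    exact one_ne_zero
  constructor
  · intro hχB
    obtain ⟨g, θ', hθ', e⟩ := constituents_conjugate_blocks N hB hb hp hp' hpp hχB hover
    have h1 : SameBlock M (cjIrr N g (principal N) : N → ℂ) (cjIrr N g θ' : N → ℂ) :=
      sameBlock_cjIrr N (show SameBlock M (principal N : N → ℂ) (θ' : N → ℂ) from hθ') g
    have e1 : cjIrr N g (principal N) = principal N :=
      Subtype.ext (funext fun n => by rw [cjIrr_apply]; rfl)
    have e2 : cjIrr N g θ' = θ := Subtype.ext (by rw [cjIrr_apply, e])
    rw [e1, e2] at h1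
    exact h1
  · intro hθb
    refine mem_principal hM N hidx χ (fun g hg => ?_) fun n => ?_
    · rw [← hk₂ g (Nat.odd_iff.2 (Nat.two_dvd_ne_zero.1 hg)), hχ]
    · rw [(constituent_iff N χ θ).1 hover n]
      simpa using MemLocalIdeal.neg (covering_congr N hB hb hp hp' hpp hp hθb n)

end Cfsg.Agent.S4520
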