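import Cfsg.Statements.S4521
import Cfsg.Agent.Lib.Blocks.RegularCriterion
import Cfsg.Agent.Lib.Blocks.RegularSum
import Cfsg.Agent.Lib.Char.Clifford

set_option autoImplicit false
open Cfsg

namespace Cfsg.Agent.S4521

/-- Let the finite group G be generated by subgroups U₁ and U₂ that commute elementwise and whose intersection is a p-group, and let M be a maximal ideal of the algebraic integers containing the prime p. If the irreducible character χ of G has the irreducible constituents ψ₁ on U₁ and ψ₂ on U₂, then χ lies in the principal block of G if and only if ψ₁ and ψ₂ lie in the principal blocks of U₁ and U₂. -/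
theorem result {G : Type*} [Group G] [Fintype G] (p : ℕ) [Fact p.Prime] (M : Ideal Cfsg.AlgInt) (hM : Cfsg.IsPModular p M) (U₁ U₂ : Subgroup G) [Fintype U₁] [Fintype U₂] (hcomm : ∀ u ∈ U₁, ∀ v ∈ U₂, u * v = v * u) (hgen : U₁ ⊔ U₂ = ⊤) (hZ : IsPGroup p ↥(U₁ ⊓ U₂)) (χ : Cfsg.IrrCharacter G) (ψ₁ : Cfsg.IrrCharacter U₁) (ψ₂ : Cfsg.IrrCharacter U₂) (h₁ : Cfsg.classInner (fun u : U₁ => (χ : G → ℂ) u) (ψ₁ : U₁ → ℂ) ≠ 0) (h₂ : Cfsg.classInner (fun u : U₂ => (χ : G → ℂ) u) (ψ₂ : U₂ → ℂ) ≠ 0) : χ ∈ Cfsg.principalBlock M G ↔ (ψ₁ ∈ Cfsg.principalBlock M U₁ ∧ ψ₂ ∈ Cfsg.principalBlock M U₂) := by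
  classical
  haveI : M.IsPrime := hM.2.1.isPrime
  have hp : p.Prime := hM.1
  let H : Subgroup G :=
    { carrier := {x | ∃ u ∈ U₁, ∃ v ∈ U₂, x = u * v}
      one_mem' := ⟨1, U₁.one_mem, 1, U₂.one_mem, (one_mul 1).symm⟩
      mul_mem' := by
        rintro _ _ ⟨u, hu, v, hv, rfl⟩ ⟨u', hu', v', hv', rfl⟩
        refine ⟨u * u', U₁.mul_mem hu hu', v * v', U₂.mul_mem hv hv', ?_⟩
        rw [mul_assoc, ← mul_assoc v u', ← hcomm u' hu' v hv]
        simp only [mul_assoc]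
      inv_mem' := by
        rintro _ ⟨u, hu, v, hv, rfl⟩
        exact ⟨u⁻¹, U₁.inv_mem hu, v⁻¹, U₂.inv_mem hv,
          by rw [mul_inv_rev, hcomm _ (U₁.inv_mem hu) _ (U₂.inv_mem hv)]⟩ }
  have hdec : ∀ x : G, ∃ u ∈ U₁, ∃ v ∈ U₂, x = u * v := by
    intro x
    have : U₁ ⊔ U₂ ≤ H := sup_le (fun u hu => ⟨u, hu, 1, U₂.one_mem, (mul_one u).symm⟩)
      (fun v hv => ⟨1, U₁.one_mem, v, hv, (one_mul v).symm⟩)
    exact this (hgen ▸ Subgroup.mem_top x)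
  have conj1 : ∀ a : G, ∃ a₁ ∈ U₁, ∀ u ∈ U₁, a * u * a⁻¹ = a₁ * u * a₁⁻¹ := by
    intro a
    obtain ⟨a₁, ha₁, a₂, ha₂, rfl⟩ := hdec a
    refine ⟨a₁, ha₁, fun u hu => ?_⟩
    calc a₁ * a₂ * u * (a₁ * a₂)⁻¹ = a₁ * (a₂ * u) * a₂⁻¹ * a₁⁻¹ := by group
      _ = _ := by rw [← hcomm u hu a₂ ha₂]; group
  have conj2 : ∀ a : G, ∃ a₂ ∈ U₂, ∀ v ∈ U₂, a * v * a⁻¹ = a₂ * v * a₂⁻¹ := by
    intro a
    obtain ⟨a₁, ha₁, a₂, ha₂, rfl⟩ := hdec a
    refine ⟨a₂, ha₂, fun v hv => ?_⟩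
    have h : a₁ * (a₂ * v * a₂⁻¹) = a₂ * v * a₂⁻¹ * a₁ :=
      hcomm a₁ ha₁ _ (U₂.mul_mem (U₂.mul_mem ha₂ hv) (U₂.inv_mem ha₂))
    calc a₁ * a₂ * v * (a₁ * a₂)⁻¹ = a₁ * (a₂ * v * a₂⁻¹) * a₁⁻¹ := by group
      _ = _ := by rw [h]; group
  have side : ∀ (U : Subgroup G) [Fintype U] (ψ : Cfsg.IrrCharacter U),
      (∀ a : G, ∃ a' ∈ U, ∀ u ∈ U, a * u * a⁻¹ = a' * u * a'⁻¹) →
      Cfsg.classInner (fun u : U => (χ : G → ℂ) u) (ψ : U → ℂ) ≠ 0 →
      ∀ u : U, centralChar (χ : G → ℂ) (u : G) = centralChar (ψ : U → ℂ) u ∧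
        (Subgroup.centralizer ({(u : G)} : Set G)).index =
          (Subgroup.centralizer ({u} : Set U)).index := by
    intro U _ ψ hconj hψ u
    haveI hn : U.Normal := ⟨fun x hx a => by
      obtain ⟨a', ha', h⟩ := hconj a
      rw [h x hx]
      exact U.mul_mem (U.mul_mem ha' hx) (U.inv_mem ha')⟩
    have hidx : (Subgroup.centralizer ({(u : G)} : Set G)).index =
        (Subgroup.centralizer ({u} : Set U)).index := by
      rw [← Cfsg.Agent.Blocks.card_isConj_eq_index, ← Cfsg.Agent.Blocks.card_isConj_eq_index]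
      refine (Nat.card_eq_of_bijective
        (fun x : {x : U // IsConj u x} => (⟨(x.1 : G), U.subtype.map_isConj x.2⟩ :
          {x : G // IsConj (u : G) x})) ⟨fun x y h => Subtype.ext (Subtype.ext
            (congrArg Subtype.val h :)), ?_⟩).symm
      rintro ⟨x, hx⟩
      obtain ⟨a, rfl⟩ := isConj_iff.1 hx
      obtain ⟨a', ha', h⟩ := hconj a
      exact ⟨⟨⟨a', ha'⟩ * u * ⟨a', ha'⟩⁻¹, isConj_iff.2 ⟨⟨a', ha'⟩, rfl⟩⟩,
        Subtype.ext (h (u : G) u.2).symm⟩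
    refine ⟨?_, hidx⟩
    have horb : Cfsg.Agent.Char.conjOrbit U (ψ : U → ℂ) = {(ψ : U → ℂ)} := by
      ext f
      rw [Cfsg.Agent.Char.mem_conjOrbit, Finset.mem_singleton]
      refine ⟨?_, fun h => ⟨1, by rw [h, Cfsg.Agent.Char.conjChar_one]⟩⟩
      rintro ⟨a, rfl⟩
      funext w
      obtain ⟨a', ha', h⟩ := hconj a
      show (ψ : U → ℂ) (Cfsg.Agent.Char.conjHom U a w) = _
      rw [show Cfsg.Agent.Char.conjHom U a w = ⟨a', ha'⟩ * w * ⟨a', ha'⟩⁻¹ from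
        Subtype.ext (h (w : G) w.2)]
      exact Cfsg.Agent.Blocks.irr_conj_invariant ψ w _
    have hc := Cfsg.Agent.Char.clifford U χ.2 ψ.2 hψ
    rw [horb, Finset.sum_singleton] at hc
    have hu := congrFun hc u
    have h1 := congrFun hc 1
    simp only [Pi.smul_apply, smul_eq_mul, OneMemClass.coe_one] at hu h1
    unfold centralChar
    rw [hidx, hu, h1, mul_left_comm, mul_div_mul_left _ _ hψ]
  have S1 := side U₁ ψ₁ conj1 h₁
  have S2 := side U₂ ψ₂ conj2 h₂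
  constructor
  · intro hχ
    rw [Cfsg.Agent.Blocks.mem_principalBlock_iff] at hχ
    constructor <;> rw [Cfsg.Agent.Blocks.mem_principalBlock_iff] <;> intro u
    · have := hχ u; rwa [(S1 u).1, (S1 u).2] at this
    · have := hχ u; rwa [(S2 u).1, (S2 u).2] at this
  rintro ⟨h1, h2⟩
  rw [Cfsg.Agent.Blocks.mem_principalBlock_iff] at h1 h2
  refine Cfsg.Agent.Blocks.sameBlock_symm (Cfsg.Agent.Blocks.sameBlock_of_regular hM
    (χ := χ) (ψ := Cfsg.Agent.Char.principal G) fun g hg => ?_)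
  -- a decomposition into p-regular factors
  obtain ⟨u₀, hu₀, v₀, hv₀, hg0⟩ := hdec g
  set N := Nat.card G
  have hcop : Nat.Coprime (p ^ N.factorization p) (orderOf g) :=
    (Nat.Coprime.pow_left _ (hp.coprime_iff_not_dvd.2 hg))
  obtain ⟨m, hm1, hm2⟩ : ∃ m, p ^ N.factorization p ∣ m ∧ m ≡ 1 [MOD orderOf g] := by
    obtain ⟨m, hm⟩ := Nat.chineseRemainder hcop 0 1
    exact ⟨m, Nat.modEq_zero_iff_dvd.1 hm.1, hm.2⟩
  have hreg : ∀ x : G, ¬ p ∣ orderOf (x ^ m) := by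
    intro x hd
    have h : (x ^ m) ^ (N / p ^ N.factorization p) = 1 := by
      obtain ⟨c, rfl⟩ := hm1
      rw [← pow_mul, show p ^ N.factorization p * c * (N / p ^ N.factorization p) =
        (p ^ N.factorization p * (N / p ^ N.factorization p)) * c by ring,
        Nat.ordProj_mul_ordCompl_eq_self, pow_mul, pow_card_eq_one', one_pow]
    exact Nat.not_dvd_ordCompl hp Nat.card_pos.ne' (hd.trans (orderOf_dvd_of_pow_eq_one h))
  set u := u₀ ^ m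
  set v := v₀ ^ m
  have hu : u ∈ U₁ := U₁.pow_mem hu₀ m
  have hv : v ∈ U₂ := U₂.pow_mem hv₀ m
  have hguv : g = u * v := by
    conv_lhs => rw [← pow_one g, ← pow_eq_pow_iff_modEq.2 hm2, hg0]
    exact Commute.mul_pow (hcomm u₀ hu₀ v₀ hv₀) m
  have hprod : Cfsg.Agent.Blocks.classSum ℂ u * Cfsg.Agent.Blocks.classSum ℂ v =
      Cfsg.Agent.Blocks.classSum ℂ g := by
    refine Cfsg.Agent.Blocks.gaExt fun x => ?_
    rw [Cfsg.Agent.Blocks.coeff_mul_univ]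
    simp only [Cfsg.Agent.Blocks.coeff_classSum, ite_mul, one_mul, zero_mul]
    have huniq : ∀ a b : G, IsConj u a → IsConj v (a⁻¹ * x) → IsConj u b →
        IsConj v (b⁻¹ * x) → a = b := by
      intro a b ha ha' hb hb'
      obtain ⟨c, rfl⟩ := isConj_iff.1 ha
      obtain ⟨d, rfl⟩ := isConj_iff.1 hb
      obtain ⟨c₁, hc₁, hcc⟩ := conj1 c
      obtain ⟨d₁, hd₁, hdd⟩ := conj1 d
      rw [hcc u hu] at ha' ⊢
      rw [hdd u hu] at hb' ⊢
      obtain ⟨c', hc'⟩ := isConj_iff.1 ha'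
      obtain ⟨d', hd'⟩ := isConj_iff.1 hb'
      obtain ⟨c₂, hc₂, hcc'⟩ := conj2 c'
      obtain ⟨d₂, hd₂, hdd'⟩ := conj2 d'
      rw [hcc' v hv] at hc'
      rw [hdd' v hv] at hd'
      set a := c₁ * u * c₁⁻¹ with hadef
      set b := d₁ * u * d₁⁻¹ with hbdef
      have ha1 : a ∈ U₁ := U₁.mul_mem (U₁.mul_mem hc₁ hu) (U₁.inv_mem hc₁)
      have hb1 : b ∈ U₁ := U₁.mul_mem (U₁.mul_mem hd₁ hu) (U₁.inv_mem hd₁)
      have hz2 : b⁻¹ * a ∈ U₂ := by
        have e : b⁻¹ * a = (b⁻¹ * x) * (a⁻¹ * x)⁻¹ := by group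
        rw [e, ← hc', ← hd']
        exact U₂.mul_mem (U₂.mul_mem (U₂.mul_mem hd₂ hv) (U₂.inv_mem hd₂))
          (U₂.inv_mem (U₂.mul_mem (U₂.mul_mem hc₂ hv) (U₂.inv_mem hc₂)))
      obtain ⟨i, hi⟩ := hZ ⟨b⁻¹ * a, ⟨U₁.mul_mem (U₁.inv_mem hb1) ha1, hz2⟩⟩
      have hi' : (b⁻¹ * a) ^ p ^ i = 1 := congrArg Subtype.val hi
      have hcz : Commute b (b⁻¹ * a) := hcomm b hb1 _ hz2
      have hord : ∀ c : G, (c * u * c⁻¹) ^ orderOf u = 1 := fun c => by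
        rw [conj_pow, pow_orderOf_eq_one]; group
      have hz : (b⁻¹ * a) ^ orderOf u = 1 := by
        have := hord c₁
        rw [← hadef, show a = b * (b⁻¹ * a) by group, hcz.mul_pow] at this
        rwa [hbdef, hord d₁, one_mul] at this
      have h1 : orderOf (b⁻¹ * a) ∣ Nat.gcd (p ^ i) (orderOf u) :=
        Nat.dvd_gcd (orderOf_dvd_of_pow_eq_one hi') (orderOf_dvd_of_pow_eq_one hz)
      rw [Nat.Coprime.pow_left i (hp.coprime_iff_not_dvd.2 (hreg u₀)), Nat.dvd_one,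
        orderOf_eq_one_iff, inv_mul_eq_one] at h1
      exact h1.symm
    by_cases hx : IsConj g x
    · rw [if_pos hx]
      obtain ⟨c, rfl⟩ := isConj_iff.1 hx
      rw [Finset.sum_eq_single (c * u * c⁻¹)]
      · rw [if_pos (isConj_iff.2 ⟨c, rfl⟩), if_pos (isConj_iff.2 ⟨c, by rw [hguv]; group⟩)]
      · intro b _ hb
        split_ifs with h3 h4
        · exact absurd (huniq b (c * u * c⁻¹) h3 h4 (isConj_iff.2 ⟨c, rfl⟩)
            (isConj_iff.2 ⟨c, by rw [hguv]; group⟩)) hb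
        · rfl
        · rfl
      · exact fun h => absurd (Finset.mem_univ _) h
    · rw [if_neg hx]
      refine Finset.sum_eq_zero fun a _ => ?_
      split_ifs with h3 h4
      · exfalso
        obtain ⟨c, rfl⟩ := isConj_iff.1 h3
        obtain ⟨d, hd⟩ := isConj_iff.1 h4
        obtain ⟨c₁, hc₁, hcc⟩ := conj1 c
        obtain ⟨d₂, hd₂, hdd⟩ := conj2 d
        refine hx (isConj_iff.2 ⟨c₁ * d₂, ?_⟩)
        rw [show x = (c * u * c⁻¹) * ((c * u * c⁻¹)⁻¹ * x) by group, ← hd, hcc u hu, hdd v hv,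
          hguv]
        calc c₁ * d₂ * (u * v) * (c₁ * d₂)⁻¹ = c₁ * (d₂ * u) * v * d₂⁻¹ * c₁⁻¹ := by group
          _ = c₁ * u * (d₂ * v * d₂⁻¹) * c₁⁻¹ := by rw [← hcomm u hu d₂ hd₂]; group
          _ = c₁ * u * (c₁⁻¹ * (d₂ * v * d₂⁻¹)) := by
            rw [hcomm c₁⁻¹ (U₁.inv_mem hc₁) (d₂ * v * d₂⁻¹)
              (U₂.mul_mem (U₂.mul_mem hd₂ hv) (U₂.inv_mem hd₂))]
            group
          _ = _ := by group
      · rfl
      · rfl
  have hmul : ∀ φ : Cfsg.IrrCharacter G, centralChar (φ : G → ℂ) g =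
      centralChar (φ : G → ℂ) u * centralChar (φ : G → ℂ) v := by
    intro φ
    rw [← Cfsg.Agent.Blocks.omega_classSum, ← Cfsg.Agent.Blocks.omega_classSum,
      ← Cfsg.Agent.Blocks.omega_classSum, ← Cfsg.Agent.Blocks.omega_mul φ
        (Cfsg.Agent.Blocks.isClassElt_classSum u) (Cfsg.Agent.Blocks.isClassElt_classSum v), hprod]
  rw [hmul χ, hmul (Cfsg.Agent.Char.principal G)]
  simp only [show ((Cfsg.Agent.Char.principal G : Cfsg.IrrCharacter G) : G → ℂ) = fun _ => 1 from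
    rfl, Cfsg.Agent.Blocks.centralChar_one_fun]
  have a1 := h1 ⟨u, hu⟩
  have a2 := h2 ⟨v, hv⟩
  rw [← (S1 ⟨u, hu⟩).1, ← (S1 ⟨u, hu⟩).2] at a1
  rw [← (S2 ⟨v, hv⟩).1, ← (S2 ⟨v, hv⟩).2] at a2
  have r1 := Cfsg.Agent.Blocks.centralChar_memLocalRing (M := M) χ u
  have r2 : Cfsg.MemLocalRing M ((Subgroup.centralizer ({v} : Set G)).index : ℂ) :=
    natCast_mem (Cfsg.Agent.Blocks.locRing M) _
  have := Cfsg.Agent.Blocks.MemLocalIdeal.add
    (Cfsg.Agent.Blocks.MemLocalIdeal.mul_left r1 (Cfsg.Agent.Blocks.MemLocalIdeal.neg a2))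
    (Cfsg.Agent.Blocks.MemLocalIdeal.mul_left r2 (Cfsg.Agent.Blocks.MemLocalIdeal.neg a1))
  convert this using 1
  ring

end Cfsg.Agent.S4521
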