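import Cfsg.Statements.S4523
import Cfsg.Agent.Lib.S4523.Main
import Cfsg.Agent.Lib.AbelInv.Main
-- import your own Cfsg.Agent.* helpers here

set_option autoImplicit false
open Cfsg

namespace Cfsg.Agent.S4523

/-- Let S be a non-abelian finite simple group with commutative Sylow 2-subgroups and M a maximal ideal of the algebraic integers containing 2. Let k be a natural number with g ^ k = g for every 2-element g and g ^ k = g⁻¹ for every element g of odd order. Then S has an irreducible character χ₁ of even degree with χ₁ (g ^ k) = χ₁ g for all g, and its principal 2-block contains a character χ₂ other than the principal character with χ₂ (g ^ k) = χ₂ g for all g. -/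
theorem result {S : Type*} [Group S] [Finite S] [IsSimpleGroup S] (hna : ¬ IsMulCommutative S) (P : Sylow 2 S) (hP : IsMulCommutative P) (M : Ideal Cfsg.AlgInt) (hM : Cfsg.IsPModular 2 M) (k : ℕ) (hk₁ : ∀ g : S, (∃ j : ℕ, orderOf g = 2 ^ j) → g ^ k = g) (hk₂ : ∀ g : S, Odd (orderOf g) → g ^ k = g⁻¹) : (∃ χ₁ : Cfsg.IrrCharacter S, Even (Cfsg.charDegree (χ₁ : S → ℂ)) ∧ ∀ g : S, (χ₁ : S → ℂ) (g ^ k) = (χ₁ : S → ℂ) g) ∧ ∃ χ₂ ∈ Cfsg.principalBlock M S, (χ₂ : S → ℂ) ≠ (fun _ => 1) ∧ ∀ g : S, (χ₂ : S → ℂ) (g ^ k) = (χ₂ : S → ℂ) g := by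
  classical
  haveI : Fact (Nat.Prime 2) := ⟨Nat.prime_two⟩
  haveI : Fintype S := Fintype.ofFinite S
  haveI := Cfsg.Agent.Blocks.IsPModular.isPrime hM
  have hsol : ¬ Group.IsSolvable S := fun h => by
    haveI := h
    exact hna ⟨⟨fun a b => IsSimpleGroup.comm_iff_isSolvable.2 h a b⟩⟩
  have hev : 2 ∣ Nat.card S := by
    rw [← even_iff_two_dvd, ← Nat.not_odd_iff_even]
    exact fun h => hsol (Cfsg.Agent.S0205.result h)
  have hcop : k.Coprime (Nat.card S) := by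
    refine Nat.coprime_of_dvd fun p hp hpk hpS => ?_
    haveI := Fact.mk hp
    obtain ⟨g, hg⟩ := exists_prime_orderOf_dvd_card' (G := S) p hpS
    have h1 : g ^ k = 1 := orderOf_dvd_iff_pow_eq_one.1 (hg ▸ hpk)
    rcases hp.eq_two_or_odd' with rfl | hodd
    · rw [hk₁ g ⟨1, by rw [hg, pow_one]⟩] at h1
      rw [h1, orderOf_one] at hg
      norm_num at hg
    · rw [hk₂ g (hg ▸ hodd), inv_eq_one] at h1
      rw [h1, orderOf_one] at hg
      exact hp.one_lt.ne hg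
  have hinvol : ∀ g : S, (g ^ k) ^ k = g := by
    intro g
    obtain ⟨j, m, hm, e⟩ := Nat.exists_eq_two_pow_mul_odd (n := orderOf g) (orderOf_pos g).ne'
    obtain ⟨i, -, hi⟩ := (Nat.dvd_prime_pow Nat.prime_two).1 (orderOf_dvd_of_pow_eq_one
      (show (g ^ m) ^ 2 ^ j = 1 by rw [← pow_mul, mul_comm, ← e, pow_orderOf_eq_one]))
    have h2 : ((g ^ m) ^ k) ^ k = g ^ m := by rw [hk₁ _ ⟨i, hi⟩, hk₁ _ ⟨i, hi⟩]
    have ho : Odd (orderOf (g ^ 2 ^ j)) := hm.of_dvd_nat (orderOf_dvd_of_pow_eq_one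
      (by rw [← pow_mul, ← e, pow_orderOf_eq_one]))
    have h3 : ((g ^ 2 ^ j) ^ k) ^ k = g ^ 2 ^ j := by
      rw [hk₂ _ ho, inv_pow, hk₂ _ ho, inv_inv]
    set z := (g ^ k) ^ k * g⁻¹ with hz
    have hc : Commute ((g ^ k) ^ k) g⁻¹ := (((Commute.refl g).pow_left k).pow_left k).inv_right
    have hzm : z ^ m = 1 := by
      rw [hz, hc.mul_pow, inv_pow, ← pow_mul, ← pow_mul, show k * (k * m) = m * k * k by ring,
        pow_mul, pow_mul, h2, mul_inv_cancel]
    have hzj : z ^ 2 ^ j = 1 := by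
      rw [hz, hc.mul_pow, inv_pow, ← pow_mul, ← pow_mul, show k * (k * 2 ^ j) = 2 ^ j * k * k by ring,
        pow_mul, pow_mul, h3, mul_inv_cancel]
    have h1 : z = 1 := orderOf_eq_one_iff.1 (Nat.eq_one_of_dvd_coprimes
      ((Nat.coprime_two_left.2 hm).pow_left j) (orderOf_dvd_of_pow_eq_one hzj)
      (orderOf_dvd_of_pow_eq_one hzm))
    exact mul_inv_eq_one.1 h1
  let w : Cfsg.Agent.S4523Lib.Pw S := ⟨k, hcop, hinvol⟩
  refine ⟨?_, ?_⟩
  swap
  · obtain ⟨χ, hχ, hne, hfix⟩ := w.exists_principal_fixed hM hev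
    exact ⟨χ, hχ, hne, hfix⟩
  have hab : Cfsg.Agent.S4523Lib.Ab S := fun Q hQ a ha b hb =>
    congrArg Subtype.val ((Cfsg.Agent.AbelInv.comm_of_two hP hQ).is_comm.comm ⟨a, ha⟩ ⟨b, hb⟩)
  have hinv : Cfsg.Agent.S4523Lib.Inverted S := by
    obtain ⟨t, ht⟩ := exists_prime_orderOf_dvd_card' (G := S) 2 hev
    obtain ⟨y, hy1, hyo, hty⟩ := Cfsg.Agent.S0200.result t ht (fun N hN hNp htN => by
      rcases hN.eq_bot_or_eq_top with rfl | rfl
      · rw [Subgroup.mem_bot] at htN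
        rw [htN, orderOf_one] at ht
        norm_num at ht
      · haveI := hNp.isNilpotent
        exact hsol (Group.isSolvable_of_surjective (f := (Subgroup.topEquiv : _ ≃* S).toMonoidHom)
          Subgroup.topEquiv.surjective))
    exact ⟨y, t, hy1, hyo, hty⟩
  obtain ⟨B, hB, hconj, hne⟩ := Cfsg.Agent.S4523Lib.exists_real_block hM hab hinv
  obtain ⟨χ, hχ, hfix⟩ := w.exists_fixed hM hB (w.stable_of_conj hM hk₂ hB hconj)
  refine ⟨χ, Nat.not_odd_iff_even.1 fun ho => hne ?_, hfix⟩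
  refine Cfsg.Agent.Blocks.principal_of_inv_stable hM hB ?_ fun g _ =>
    Cfsg.Agent.Blocks.blockCoeff_eq_of_perm B Cfsg.Agent.Blocks.conjIrr hconj
      Cfsg.Agent.Blocks.conjIrr_injective.injOn
      (fun ψ _ => by rw [Cfsg.Agent.Blocks.conjIrr_apply, Cfsg.Agent.Blocks.conj_irr_one])
      (fun ψ _ => by rw [Cfsg.Agent.Blocks.conjIrr_apply, Cfsg.Agent.Blocks.irr_inv])
  rw [Cfsg.Agent.Blocks.isPBlock_eq_blockOf hB hχ]
  exact Cfsg.Agent.Blocks.blockDefect_eq_top_of_odd_degree hM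
    (fun h2 => Nat.not_even_iff_odd.2 ho (even_iff_two_dvd.2 h2))

end Cfsg.Agent.S4523
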