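import Cfsg.Statements.S4530
import Cfsg.Agent.Lib.BrauerPairs.SDQBlock

set_option linter.style.haveILetI false

set_option autoImplicit false
open Cfsg

namespace Cfsg.Agent.S4530

/-- Let B be a 2-block of the finite group G (relative to a maximal ideal M of the algebraic integers containing 2) whose defect group D is generalized quaternion of order 2 ^ n, n ≥ 3. Then its 2-regular rank l is between 1 and 3, the number of irreducible characters in B is l + 2 ^ (n - 2) + 2, exactly four members have height zero, and every other member has height one or height n - 2; when n ≥ 4 exactly 2 ^ (n - 2) - 1 members have height one. -/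
theorem result {G : Type*} [Group G] [Finite G] (M : Ideal Cfsg.AlgInt) (hM : Cfsg.IsPModular 2 M) (B : Set (Cfsg.IrrCharacter G)) (hB : Cfsg.IsPBlock M B) (D : Subgroup G) (hD : Cfsg.IsDefectGroup 2 M B D) (n : ℕ) (hn : 3 ≤ n) (hq : Nonempty (D ≃* QuaternionGroup (2 ^ (n - 2)))) : 1 ≤ Cfsg.blockRank 2 B ∧ Cfsg.blockRank 2 B ≤ 3 ∧ Nat.card B = Cfsg.blockRank 2 B + 2 ^ (n - 2) + 2 ∧ Nat.card {χ : Cfsg.IrrCharacter G // χ ∈ B ∧ Cfsg.blockHeight 2 B (χ : G → ℂ) = 0} = 4 ∧ (∀ χ ∈ B, Cfsg.blockHeight 2 B (χ : G → ℂ) = 0 ∨ Cfsg.blockHeight 2 B (χ : G → ℂ) = 1 ∨ Cfsg.blockHeight 2 B (χ : G → ℂ) = n - 2) ∧ (4 ≤ n → Nat.card {χ : Cfsg.IrrCharacter G // χ ∈ B ∧ Cfsg.blockHeight 2 B (χ : G → ℂ) = 1} = 2 ^ (n - 2) - 1) := by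
  classical
  haveI : Fintype G := Fintype.ofFinite G
  haveI : M.IsPrime := hM.2.1.isPrime
  haveI : CharP (Cfsg.Agent.Blocks.resField M) 2 := Cfsg.Agent.Blocks.resField_charP hM
  obtain ⟨f⟩ := hq
  obtain ⟨d, hdh, hdτ⟩ := Cfsg.Agent.SDQ.exists_of_quaternion (D := D) (k := 2 ^ (n - 2))
    (s := n - 3) (by rw [← pow_succ']; congr 1; omega) f
  obtain ⟨e, hmax⟩ := Cfsg.Agent.SDQSetup.exists_max hM hB hD
  obtain ⟨hl1, hl3, h0, hht, h1, hQ, -⟩ :=
    Cfsg.Agent.SDQSetup.invariants (a := (D, e)) hM hB hmax d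
  have hh0 := d.h_pos
  have hyy : d.y * d.y = d.z := by
    rcases d.kind with ⟨-, h⟩ | ⟨h, -, -⟩
    · exact h
    · omega
  have hk := hQ hyy
  rw [hdh] at hk
  refine ⟨hl1, hl3, hk, h0, fun χ hχ => ?_, fun hn4 => (h1 ?_).trans (by rw [hdh])⟩
  · rcases hht χ hχ with h | h | h
    · exact Or.inl h
    · exact Or.inr (Or.inl h)
    · exact Or.inr (Or.inr (Nat.pow_right_injective le_rfl (h.trans hdh)))
  · have h4 : 4 ≤ d.h := by
      rw [hdh, show (4 : ℕ) = 2 ^ 2 from rfl]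
      exact Nat.pow_le_pow_right two_pos (by omega)
    have := d.hq
    omega

end Cfsg.Agent.S4530
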