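import Cfsg.Statements.S4531
import Cfsg.Agent.Lib.BrauerPairs.DihedralCentral
import Cfsg.Agent.Lib.BrauerPairs.DihedralSolvable

set_option linter.style.haveILetI false

set_option autoImplicit false
open Cfsg

namespace Cfsg.Agent.S4531

/-- Let the finite group G have a 2-block B (relative to a maximal ideal M of the algebraic integers containing 2) of 2-regular rank three (three irreducible Brauer characters) whose defect group D is dihedral of order 2 ^ n with n ≥ 3 or semidihedral. Then the centre of G has odd order and G is not solvable. -/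
theorem result {G : Type*} [Group G] [Finite G] (M : Ideal Cfsg.AlgInt) (hM : Cfsg.IsPModular 2 M) (B : Set (Cfsg.IrrCharacter G)) (hB : Cfsg.IsPBlock M B) (D : Subgroup G) (hD : Cfsg.IsDefectGroup 2 M B D) (hD' : (∃ n : ℕ, 3 ≤ n ∧ Nonempty (D ≃* DihedralGroup (2 ^ (n - 1)))) ∨ Cfsg.IsQuasiDihedral D) (hl : Cfsg.blockRank 2 B = 3) : Odd (Nat.card (Subgroup.center G)) ∧ ¬ Group.IsSolvable G := by
  classical
  haveI : M.IsPrime := hM.2.1.isPrime
  haveI : Fintype G := Fintype.ofFinite G
  haveI : Fact (Nat.Prime 2) := ⟨Nat.prime_two⟩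
  haveI : CharP (Blocks.resField M) 2 := Blocks.resField_charP hM
  have hDp : IsPGroup 2 D := ((BrauerPairs.isDefectGroup_iff hB D).1 hD).pgroup
  refine ⟨?_, fun hsol => ?_⟩
  swap
  · have := DihRankThree.solvable_aux _ G M rfl hM hsol B hB D hD hD'
    omega
  rw [← Nat.not_even_iff_odd]
  intro heven
  obtain ⟨⟨z, hzc⟩, hzo⟩ := exists_prime_orderOf_dvd_card' (G := Subgroup.center G) 2
    (even_iff_two_dvd.1 heven)
  rw [Subgroup.orderOf_mk] at hzo
  haveI hNn : (Subgroup.zpowers z).Normal := ⟨fun a ha g => by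
    obtain ⟨i, rfl⟩ := Subgroup.mem_zpowers_iff.1 ha
    rw [Subgroup.mem_center_iff.1 (zpow_mem hzc i) g, mul_inv_cancel_right]
    exact ha⟩
  have hzD : z ∈ D := Blocks.le_defectGroup_of_normal hM hB hD (Subgroup.zpowers z)
    (IsPGroup.of_card (n := 1) (by rw [Nat.card_zpowers, hzo, pow_one])) (Subgroup.mem_zpowers z)
  have hzc' : ∀ g : G, g * z = z * g := Subgroup.mem_center_iff.1 hzc
  have hzz : z * z = 1 := by rw [← pow_two, ← hzo, pow_orderOf_eq_one]
  have hz1 : z ≠ 1 := fun e => by rw [e, orderOf_one] at hzo; omega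
  obtain ⟨-, hodd, -⟩ := DihRankThree.shape_facts hD' hDp
  have key : Cfsg.blockRank 2 B ≤ 2 := by
    rcases hD' with ⟨n, hn, ⟨e⟩⟩ | hS
    · obtain ⟨d, hd⟩ := DihedralFusion.exists_data (Nat.le_self_pow (by omega) 2)
        (dvd_pow_self 2 (by omega : n - 1 ≠ 0)) e
      obtain ⟨s, rfl⟩ : ∃ s, n = s + 3 := ⟨n - 3, by omega⟩
      have hd2 : d.m = 2 * 2 ^ (s + 1) := by rw [hd, ← pow_succ']; congr 1
      have hm4 : 4 ≤ d.m := by
        have h2 : 2 ≤ 2 ^ (s + 1) := Nat.le_self_pow (by omega) 2
        omega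
      have hzx : z ∈ Subgroup.zpowers d.x := by
        rcases d.cases z hzD with ⟨i, hi⟩ | ⟨i, hi⟩
        · exact ⟨i, hi.symm⟩
        exfalso
        have h1 : z * d.x * z⁻¹ = d.x := by rw [← hzc' d.x, mul_inv_cancel_right]
        have h2 : z * d.x * z⁻¹ = d.x⁻¹ := by
          rw [hi]
          calc d.x ^ i * d.y * d.x * (d.x ^ i * d.y)⁻¹
              = d.x ^ i * (d.y * d.x * d.y⁻¹) * (d.x ^ i)⁻¹ := by group
            _ = d.x⁻¹ := by
              rw [d.inv, ((Commute.refl d.x).inv_right.zpow_left i).eq, mul_inv_cancel_right]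
        have h3 : d.x ^ 2 = 1 := by
          rw [pow_two]; nth_rw 2 [show d.x = d.x⁻¹ from h1.symm.trans h2]; exact mul_inv_cancel _
        exact pow_ne_one_of_lt_orderOf two_ne_zero (by rw [d.hm]; omega) h3
      have hxz : d.x ^ (2 ^ (s + 1)) = z := by
        rw [(d.sq_cases hzx hzz).resolve_left hz1, TwoFus.Dih.z, ← zpow_natCast, hd2]
        congr 1
        push_cast
        omega
      refine DihRankThree.rank_le_two_of_central hM hB hD hzc hzo (s := s) rfl d.hx d.hy
        (by rw [d.hm, hd2]) hxz d.yy ?_ d.ynot (by rw [d.card, hd2]; ring) d.cases hodd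
      rw [d.inv, inv_mul_cancel]
      exact one_mem _
    · obtain ⟨d, -⟩ := QD.exists_pres hS
      have hzd : (⟨z, hzD⟩ : D) = d.z := by
        rcases d.sq_eq_one_cases (g := ⟨z, hzD⟩) (Subtype.ext hzz) with h | h | ⟨i, -, h⟩
        · exact absurd (congrArg Subtype.val h) hz1
        · exact h
        · exfalso
          have hc : d.x ^ i * d.y * d.x ^ (1 : ℤ) = d.x ^ (1 : ℤ) * (d.x ^ i * d.y) := by
            rw [← h]
            exact Subtype.ext (hzc' _).symm
          have := (d.commute_form_pow i 1).1 hc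
          have := Int.le_of_dvd one_pos this
          have := d.r_pos
          omega
      have hpow : (d.z : D) = d.x ^ (2 ^ (d.p + 2) : ℕ) := by
        rw [QD.Pres.z, ← zpow_natCast, QD.Pres.r]
        congr 1
        push_cast
        ring
      refine DihRankThree.rank_le_two_of_central hM hB hD hzc hzo (x := (d.x : G)) (y := (d.y : G))
        (s := d.p + 1) (m := 2 ^ (d.p + 2)) rfl d.x.2 d.y.2 ?_ ?_ ?_ ?_ ?_ ?_ ?_ hodd
      · rw [Subgroup.orderOf_coe, d.hx, ← pow_succ']
      · rw [← SubgroupClass.coe_pow, ← hpow, ← hzd]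
      · exact congrArg Subtype.val d.yy
      · have e1 : d.y * d.x * d.y⁻¹ * d.x = d.z := by
          rw [d.conj_x, QD.Pres.z]
          nth_rw 2 [← zpow_one d.x]
          rw [← zpow_add]
          congr 1
          ring
        have e2 : (d.y : G) * d.x * (d.y : G)⁻¹ * d.x = z := by
          rw [← hzd] at e1
          exact congrArg Subtype.val e1
        rw [e2]
        exact Subgroup.mem_zpowers z
      · intro hm
        obtain ⟨i, hi⟩ := Subgroup.mem_zpowers_iff.1 hm
        exact d.y_not_mem ⟨i, Subtype.ext (by rw [← hi]; push_cast; rfl)⟩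
      · rw [d.hcard]; ring
      · intro a ha
        rcases d.cases ⟨a, ha⟩ with ⟨i, hi⟩ | ⟨i, hi⟩
        · exact Or.inl ⟨i, by simpa using congrArg Subtype.val hi⟩
        · exact Or.inr ⟨i, by simpa using congrArg Subtype.val hi⟩
  omega

end Cfsg.Agent.S4531
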