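import Cfsg.Statements.S4550
import Cfsg.Agent.Lib.Blocks.Block
import Cfsg.Agent.Lib.Char.Galois
import Cfsg.Agent.Lib.Transfer.Basic

set_option autoImplicit false
open Cfsg

namespace Cfsg.Agent.S4550

open Cfsg.Agent

theorem even_odd_degree {G : Type*} [Group G] [Fintype G] {M : Ideal Cfsg.AlgInt}
    (hM : Cfsg.IsPModular 2 M) (hev : Even (Nat.card G)) :
    Even (Nat.card {χ : Cfsg.IrrCharacter G //
      χ ∈ Cfsg.principalBlock M G ∧ Odd (Cfsg.charDegree (χ : G → ℂ))}) := by
  classical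
  haveI := Blocks.IsPModular.isPrime hM
  set B := Cfsg.principalBlock M G with hB
  set S := Finset.univ.filter (fun χ : Cfsg.IrrCharacter G => χ ∈ B) with hS
  have h1 : Cfsg.MemLocalIdeal M ((∑ χ ∈ S, Cfsg.charDegree (χ : G → ℂ) ^ 2 : ℕ) : ℂ) := by
    have hc := Blocks.blockCoeff_memLocalRing (Blocks.isPBlock_principalBlock M G) (1 : G)
    rw [← hB, Blocks.blockCoeff_eq_sum] at hc
    have h := Blocks.MemLocalIdeal.mul_right
      ((Blocks.natCast_memLocalIdeal_iff hM _).2 (even_iff_two_dvd.1 hev)) hc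
    rw [← mul_assoc, mul_inv_cancel₀ (Nat.cast_ne_zero.2 Nat.card_pos.ne'), one_mul] at h
    convert h using 1
    push_cast
    refine Finset.sum_congr rfl fun χ _ => ?_
    rw [Blocks.conj_irr_one, ← Blocks.irr_one_eq_charDegree, sq]
  have h2 : 2 ∣ ∑ χ ∈ S, Cfsg.charDegree (χ : G → ℂ) ^ 2 :=
    (Blocks.natCast_memLocalIdeal_iff hM _).1 h1
  have h3 := (Finset.even_sum_iff_even_card_odd
    (fun χ : Cfsg.IrrCharacter G => Cfsg.charDegree (χ : G → ℂ) ^ 2) (s := S)).1
      (even_iff_two_dvd.2 h2)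
  have e : {χ : Cfsg.IrrCharacter G // χ ∈ B ∧ Odd (Cfsg.charDegree (χ : G → ℂ))} ≃
      {χ : Cfsg.IrrCharacter G // χ ∈ S.filter fun χ : Cfsg.IrrCharacter G => Odd (Cfsg.charDegree (χ : G → ℂ) ^ 2)} :=
    Equiv.subtypeEquivRight fun χ => by
      simp [hS, Nat.odd_pow_iff]
  rw [Nat.card_congr e, Nat.card_eq_finsetCard]
  exact h3

/-- Let G be a finite group of even order and M a maximal ideal of the algebraic integers containing 2. Let k be a natural number with g ^ k = g ^ 3 for every 2-element g and g ^ k = g for every element g of odd order (such k exist); an irreducible character χ is unchanged by g ↦ g ^ k exactly when it is fixed by the field automorphism that cubes the 2-power roots of unity and fixes the roots of unity of odd order. Then the number of members χ of the principal 2-block of odd degree with χ (g ^ k) = χ g for all g is even. -/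
theorem result {G : Type*} [Group G] [Finite G] (M : Ideal Cfsg.AlgInt) (hM : Cfsg.IsPModular 2 M) (hev : Even (Nat.card G)) (k : ℕ) (hk₁ : ∀ g : G, (∃ j : ℕ, orderOf g = 2 ^ j) → g ^ k = g ^ 3) (hk₂ : ∀ g : G, Odd (orderOf g) → g ^ k = g) : Even (Nat.card {χ : Cfsg.IrrCharacter G // χ ∈ Cfsg.principalBlock M G ∧ Odd (Cfsg.charDegree (χ : G → ℂ)) ∧ ∀ g : G, (χ : G → ℂ) (g ^ k) = (χ : G → ℂ) g}) := by
  haveI := Fintype.ofFinite G
  haveI := Blocks.IsPModular.isPrime hM
  have hcop : k.Coprime (Nat.card G) := by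
    refine Nat.coprime_of_dvd fun q hq hqk hqG => ?_
    haveI := Fact.mk hq
    obtain ⟨g, hg⟩ := exists_prime_orderOf_dvd_card' q hqG
    have hgk : g ^ k = 1 := orderOf_dvd_iff_pow_eq_one.1 (hg ▸ hqk)
    rcases hq.eq_two_or_odd' with rfl | ho
    · have h3 := hk₁ g ⟨1, by rw [hg, pow_one]⟩
      rw [hgk] at h3
      have := orderOf_dvd_iff_pow_eq_one.2 h3.symm
      rw [hg] at this
      norm_num at this
    · have h3 := hk₂ g (hg ▸ ho)
      rw [hgk] at h3
      rw [← h3, orderOf_one] at hg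
      exact hq.ne_one hg.symm
  set S := {χ : Cfsg.IrrCharacter G //
    χ ∈ Cfsg.principalBlock M G ∧ Odd (Cfsg.charDegree (χ : G → ℂ))}
  have hmem : ∀ χ : S, ((⟨_, CharGalois.IsIrrCharacter.powMap χ.1.2 hcop⟩ : Cfsg.IrrCharacter G) ∈
      Cfsg.principalBlock M G ∧ Odd (Cfsg.charDegree (fun g : G => (χ.1 : G → ℂ) (g ^ k)))) := by
    intro χ
    refine ⟨fun g => ?_, ?_⟩
    · have hc : Subgroup.centralizer ({g ^ k} : Set G) = Subgroup.centralizer ({g} : Set G) := by
        ext x
        simp only [Subgroup.mem_centralizer_singleton_iff]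
        refine ⟨fun h => ?_, fun h => Commute.pow_right (h : Commute x g) k⟩
        obtain ⟨l, hl⟩ := exists_pow_eq_self_of_coprime
          (hcop.coprime_dvd_right (orderOf_dvd_natCard g))
        exact hl ▸ Commute.pow_right (h : Commute x (g ^ k)) l
      have := χ.2.1 (g ^ k)
      simp only [Cfsg.centralChar, hc, one_pow] at this ⊢
      exact this
    · simpa [Cfsg.charDegree, one_pow] using χ.2.2
  let σ : S → S := fun χ => ⟨⟨_, CharGalois.IsIrrCharacter.powMap χ.1.2 hcop⟩, hmem χ⟩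
  set a := (Nat.card G).factorization 2 with ha
  have hord : ∀ g : G, g ^ k ^ 2 ^ a = g := by
    intro g
    obtain ⟨u, v, huv, hu, hv, ⟨j, hj⟩, hvo⟩ := PBasic.exists_pPart_mul (p := 2) g
    have hcomm : Commute u v := by
      obtain ⟨i, rfl⟩ := Subgroup.mem_zpowers_iff.1 hu
      obtain ⟨l, rfl⟩ := Subgroup.mem_zpowers_iff.1 hv
      exact Commute.zpow_zpow_self g i l
    have huk : ∀ i, u ^ k ^ i = u ^ 3 ^ i := by
      intro i
      induction i with
      | zero => rfl
      | succ i ih =>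
        rw [pow_succ, pow_mul, ih, hk₁ (u ^ 3 ^ i) ?_, ← pow_mul, ← pow_succ]
        exact ⟨j, by rw [Nat.Coprime.orderOf_pow (hj ▸ Nat.Coprime.pow j i (by norm_num)), hj]⟩
    have hvk : ∀ i, v ^ k ^ i = v := by
      intro i
      induction i with
      | zero => simp
      | succ i ih => rw [pow_succ, pow_mul, ih, hk₂ v (Nat.coprime_two_right.1 hvo)]
    rw [← huv, hcomm.mul_pow, huk, hvk]
    congr 1
    have hja : j ≤ a := by
      rw [ha, ← Nat.prime_two.pow_dvd_iff_le_factorization Nat.card_pos.ne', ← hj]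
      exact orderOf_dvd_natCard u
    conv_rhs => rw [← pow_one u]
    rw [pow_eq_pow_iff_modEq, hj]
    have h1 : (3 : ℕ) ^ Nat.totient (2 ^ j) ≡ 1 [MOD 2 ^ j] :=
      Nat.ModEq.pow_totient (Nat.Coprime.pow_right j (by norm_num))
    obtain ⟨d, hd⟩ : Nat.totient (2 ^ j) ∣ 2 ^ a := by
      rcases Nat.eq_zero_or_pos j with rfl | hj0
      · simp
      · rw [Nat.totient_prime_pow Nat.prime_two hj0]
        simpa using Nat.pow_dvd_pow 2 (by omega : j - 1 ≤ a)
    rw [hd, pow_mul]
    simpa using h1.pow d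
  have hiter : ∀ (i : ℕ) (χ : S) (g : G),
      ((σ^[i] χ).1 : G → ℂ) g = (χ.1 : G → ℂ) (g ^ k ^ i) := by
    intro i
    induction i with
    | zero => simp
    | succ i ih =>
      intro χ g
      rw [Function.iterate_succ_apply', pow_succ' k i, pow_mul]
      exact ih χ (g ^ k)
  have hσN : ∀ χ, σ^[2 ^ a] χ = χ := fun χ =>
    Subtype.ext (Subtype.ext (funext fun g => by rw [hiter, hord]))
  let e : Equiv.Perm S :=
    { toFun := σ
      invFun := σ^[2 ^ a - 1]
      left_inv := fun χ => by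
        rw [← Function.iterate_succ_apply, Nat.succ_eq_add_one,
          Nat.sub_add_cancel (Nat.one_le_two_pow), hσN]
      right_inv := fun χ => by
        rw [← Function.iterate_succ_apply' σ, Nat.succ_eq_add_one,
          Nat.sub_add_cancel (Nat.one_le_two_pow), hσN] }
  have hepow : ∀ (i : ℕ) χ, (e ^ i) χ = σ^[i] χ := fun i => by
    induction i with
    | zero => simp
    | succ i ih =>
      intro χ
      rw [pow_succ', Equiv.Perm.mul_apply, ih, Function.iterate_succ_apply']
      rfl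
  have hH : IsPGroup 2 (Subgroup.zpowers e) := by
    intro x
    refine ⟨a, ?_⟩
    obtain ⟨z, hz⟩ := Subgroup.mem_zpowers_iff.1 x.2
    have he1 : e ^ 2 ^ a = 1 := Equiv.ext fun χ => by rw [hepow, hσN]; rfl
    apply Subtype.ext
    rw [Subgroup.coe_pow, ← hz, ← zpow_natCast (e ^ z), ← zpow_mul, mul_comm, zpow_mul,
      zpow_natCast, he1, one_zpow, Subgroup.coe_one]
  haveI : Fact (Nat.Prime 2) := ⟨Nat.prime_two⟩
  have hmod := hH.card_modEq_card_fixedPoints (α := S)
  have hfix : {χ : Cfsg.IrrCharacter G // χ ∈ Cfsg.principalBlock M G ∧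
      Odd (Cfsg.charDegree (χ : G → ℂ)) ∧ ∀ g : G, (χ : G → ℂ) (g ^ k) = (χ : G → ℂ) g} ≃
      MulAction.fixedPoints (Subgroup.zpowers e) S :=
    { toFun := fun χ => ⟨⟨χ.1, χ.2.1, χ.2.2.1⟩, by
        have he : e ⟨χ.1, χ.2.1, χ.2.2.1⟩ = ⟨χ.1, χ.2.1, χ.2.2.1⟩ :=
          Subtype.ext (Subtype.ext (funext χ.2.2.2))
        rintro ⟨x, hx⟩
        obtain ⟨z, rfl⟩ := Subgroup.mem_zpowers_iff.1 hx
        exact Equiv.Perm.zpow_apply_eq_self_of_apply_eq_self he z⟩
      invFun := fun χ => ⟨χ.1.1, χ.1.2.1, χ.1.2.2, fun g => by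
        have := χ.2 ⟨e, Subgroup.mem_zpowers e⟩
        exact congrFun (congrArg (fun x : S => (x.1 : G → ℂ)) this) g⟩
      left_inv := fun _ => rfl
      right_inv := fun _ => rfl }
  rw [Nat.card_congr hfix, Nat.even_iff, ← hmod, ← Nat.even_iff]
  exact even_odd_degree hM hev

end Cfsg.Agent.S4550
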