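import Cfsg.Statements.S4549
import Cfsg.Agent.Lib.Blocks.CyclicQuotientFixed
import Cfsg.Agent.Lib.Blocks.KernelBlock
import Cfsg.Agent.Lib.Blocks.AlperinIso
import Cfsg.Agent.S4550

set_option autoImplicit false
open Cfsg

set_option linter.style.haveILetI false

namespace Cfsg.Agent.S4549

open Cfsg.Agent Cfsg.Agent.Char Cfsg.Agent.Blocks

universe u

/-- A linear character of the principal block has its inverse there. -/
theorem inv_mem_principal {N : Type u} [Group N] [Finite N] {M : Ideal Cfsg.AlgInt} [M.IsPrime]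
    (c : N →* ℂˣ) (θ θ' : Cfsg.IrrCharacter N) (hc : ∀ n, (θ : N → ℂ) n = (c n : ℂ))
    (hc' : ∀ n, (θ' : N → ℂ) n = ((c⁻¹) n : ℂ)) (h : θ ∈ Cfsg.principalBlock M N) :
    θ' ∈ Cfsg.principalBlock M N := by
  intro n
  have e : Cfsg.centralChar (fun _ : N => (1 : ℂ)) n - Cfsg.centralChar (θ' : N → ℂ) n =
      (-((c⁻¹) n : ℂ)) * (Cfsg.centralChar (fun _ : N => (1 : ℂ)) n - Cfsg.centralChar (θ : N → ℂ) n) := by
    simp only [Cfsg.centralChar, hc, hc', map_one, Units.val_one, div_one, mul_one]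
    have h1 : ((c⁻¹) n : ℂ) * (c n : ℂ) = 1 := by
      rw [← Units.val_mul, MonoidHom.inv_apply, inv_mul_cancel, Units.val_one]
    linear_combination (((Subgroup.centralizer ({n} : Set N)).index : ℂ)) * (-h1)
  rw [e]
  refine MemLocalIdeal.mul_left ?_ (h n)
  have hz : IsIntegral ℤ (((c⁻¹) n : ℂˣ) : ℂ) := by
    rw [← hc']
    exact irr_isIntegral θ' n
  exact ⟨⟨_, hz.neg⟩, 1, fun h1 => Ideal.IsPrime.ne_top' (M.eq_top_iff_one.2 h1), by simp⟩

/-- With no linear character of order two, nontrivial ones pair off with their inverses: a Galois-fixed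
invariant character of the residual of odd degree and degree above one exists. -/
theorem exists_nonlinear {G : Type u} [Group G] [Finite G] {M : Ideal Cfsg.AlgInt} (hM : Cfsg.IsPModular 2 M)
    (k : ℕ) (hk₁ : ∀ g : G, (∃ j : ℕ, orderOf g = 2 ^ j) → g ^ k = g ^ 3) (hk₂ : ∀ g : G, Odd (orderOf g) → g ^ k = g)
    (P : Sylow 2 G) (N : Subgroup G) [hN : N.Normal] [Fintype N] (hev : Even (Nat.card N))
    (hres : ∀ c : N →* ℂˣ, c⁻¹ = c → c = 1) :
    ∃ θ : Cfsg.IrrCharacter N, θ ∈ Cfsg.principalBlock M N ∧ Odd (Cfsg.charDegree (θ : N → ℂ)) ∧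
      (∀ n : N, (θ : N → ℂ) (n ^ k) = (θ : N → ℂ) n) ∧
      (∀ x ∈ (P : Subgroup G), ∀ n : N, (θ : N → ℂ) ⟨x * n * x⁻¹, hN.conj_mem n n.2 x⟩ = (θ : N → ℂ) n) ∧
      Cfsg.charDegree (θ : N → ℂ) ≠ 1 := by
  classical
  haveI := IsPModular.isPrime hM
  haveI : Fact (Nat.Prime 2) := ⟨Nat.prime_two⟩
  haveI : Fintype G := Fintype.ofFinite G
  by_contra! hcon
  let S := {θ : Cfsg.IrrCharacter N // θ ∈ Cfsg.principalBlock M N ∧ Odd (Cfsg.charDegree (θ : N → ℂ)) ∧
    ∀ n : N, (θ : N → ℂ) (n ^ k) = (θ : N → ℂ) n}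
  have hS : Even (Nat.card S) := Cfsg.Agent.S4550.result M hM hev k
    (fun g hg => Subtype.ext (by
      rw [Subgroup.coe_pow, Subgroup.coe_pow]; exact hk₁ g (by simpa using hg)))
    (fun g hg => Subtype.ext (by rw [Subgroup.coe_pow]; exact hk₂ g (by simpa using hg)))
  have hconj : ∀ (g : G) (θ : S),
      (cjIrr N g θ.1) ∈ Cfsg.principalBlock M N ∧ Odd (Cfsg.charDegree (cjIrr N g θ.1 : N → ℂ)) ∧
        ∀ n : N, (cjIrr N g θ.1 : N → ℂ) (n ^ k) = (cjIrr N g θ.1 : N → ℂ) n := by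
    intro g θ
    refine ⟨?_, ?_, fun n => ?_⟩
    · obtain ⟨φ, hφ, hφe⟩ := AlperinIso.transfer (M := M) (MulAut.conjNormal g : N ≃* N) θ.1 θ.2.1
      convert hφ
      refine Subtype.ext (funext fun n => ?_)
      rw [hφe]
      rfl
    · have : (cjIrr N g θ.1 : N → ℂ) 1 = (θ.1 : N → ℂ) 1 := congrArg θ.1.1 (Subtype.ext (by simp))
      rw [Cfsg.charDegree, this]
      exact θ.2.2.1
    · show (θ.1 : N → ℂ) (conjHom N g (n ^ k)) = (θ.1 : N → ℂ) (conjHom N g n)
      rw [map_pow]; exact θ.2.2.2 _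
  letI : MulAction (P : Subgroup G) S :=
    { smul := fun x θ => ⟨cjIrr N ((x : G)⁻¹) θ.1, hconj _ θ⟩
      one_smul := fun θ => Subtype.ext (by
        show cjIrr N (((1 : (P : Subgroup G)) : G)⁻¹) θ.1 = θ.1
        rw [OneMemClass.coe_one, inv_one, cjIrr_one])
      mul_smul := fun a b θ => Subtype.ext (Subtype.ext (by
        show conjChar N (((a : G) * b)⁻¹) (θ.1 : N → ℂ) = conjChar N (a : G)⁻¹ (conjChar N (b : G)⁻¹ θ.1)
        rw [mul_inv_rev, conjChar_mul])) }
  have hfix := P.isPGroup'.card_modEq_card_fixedPoints (α := S)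
  set F := MulAction.fixedPoints (P : Subgroup G) S with hF
  have hlin : ∀ θ : F, ∃ c : N →* ℂˣ, ∀ n, (θ.1.1 : N → ℂ) n = (c n : ℂ) := by
    intro θ
    have hd : Cfsg.charDegree (θ.1.1 : N → ℂ) = 1 := by
      refine hcon θ.1.1 θ.1.2.1 θ.1.2.2.1 θ.1.2.2.2 fun x hx n => ?_
      have h := congrArg (fun s : S => (s.1 : N → ℂ) n) (θ.2 ⟨x⁻¹, inv_mem hx⟩)
      change conjChar N (x⁻¹)⁻¹ (θ.1.1 : N → ℂ) n = _ at h
      rw [inv_inv] at h
      exact h
    obtain ⟨c, hc⟩ := exists_hom_of_degree_one (irr_isCharacter θ.1.1)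
      (by rw [irr_one_eq_charDegree, hd, Nat.cast_one])
    exact ⟨c, congrFun hc⟩
  choose c hc using hlin
  have hmem : ∀ θ : F, ∃ θ' : F, ∀ n, (θ'.1.1 : N → ℂ) n = (((c θ)⁻¹) n : ℂ) := by
    intro θ
    let φ : Cfsg.IrrCharacter N := ⟨fun n => (((c θ)⁻¹) n : ℂ), isIrrCharacter_linear _⟩
    have hinv : ∀ m n : N, (θ.1.1 : N → ℂ) m = (θ.1.1 : N → ℂ) n → (φ : N → ℂ) m = (φ : N → ℂ) n := by
      intro m n h
      rw [hc, hc] at h
      show (((c θ)⁻¹) m : ℂ) = (((c θ)⁻¹) n : ℂ)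
      rw [MonoidHom.inv_apply, MonoidHom.inv_apply, Units.ext h]
    have hφ : φ ∈ Cfsg.principalBlock M N ∧ Odd (Cfsg.charDegree (φ : N → ℂ)) ∧
        ∀ n : N, (φ : N → ℂ) (n ^ k) = (φ : N → ℂ) n :=
      ⟨inv_mem_principal (c θ) θ.1.1 φ (hc θ) (fun _ => rfl) θ.1.2.1, by simp [φ, Cfsg.charDegree],
        fun n => hinv _ _ (θ.1.2.2.2 n)⟩
    refine ⟨⟨⟨φ, hφ⟩, fun x => Subtype.ext (Subtype.ext (funext fun n => ?_))⟩, fun _ => rfl⟩
    show (φ : N → ℂ) (conjHom N (x : G)⁻¹ n) = (φ : N → ℂ) n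
    exact hinv _ _ (congrArg (fun s : S => (s.1 : N → ℂ) n) (θ.2 x))
  choose i hi using hmem
  have hone : (⟨principal N, ⟨principal_mem_principalBlock, by simp [principal, Cfsg.charDegree],
      fun _ => rfl⟩⟩ : S) ∈ F := fun x => Subtype.ext (Subtype.ext rfl)
  have heq : ∀ θ θ' : F, c θ = c θ' → θ = θ' := fun θ θ' h =>
    Subtype.ext (Subtype.ext (Subtype.ext (funext fun n => by rw [hc, hc, h])))
  have hci : ∀ θ, c (i θ) = (c θ)⁻¹ := fun θ => MonoidHom.ext fun n => Units.ext (by rw [← hc, hi])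
  have hinvol : Function.Involutive i := fun θ => heq _ _ (MonoidHom.ext fun n => by simp [hci])
  let τ : Equiv.Perm F := hinvol.toPerm
  haveI : Fintype F := Fintype.ofFinite F
  have hτ : τ ^ 2 ^ 1 = 1 := by
    rw [pow_one, pow_two]
    exact Equiv.ext hinvol
  have hmod := Equiv.Perm.card_fixedPoints_modEq (f := ((fun θ => i θ) : Function.End F)) (p := 2) (n := 1)
    (funext fun θ => by
      show (τ ^ 2) θ = θ
      rw [pow_one] at hτ
      rw [hτ]; rfl)
  have hfp : Fintype.card (Function.fixedPoints (fun θ : F => i θ)) = 1 := by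
    refine Fintype.card_eq_one_iff.2 ⟨⟨⟨_, hone⟩, heq _ _ ?_⟩, fun θ => Subtype.ext (heq _ _ ?_)⟩
    · show c (i _) = _
      rw [hci]
      refine MonoidHom.ext fun n => ?_
      have h1 : c ⟨_, hone⟩ n = 1 := Units.ext ((hc ⟨_, hone⟩ n).symm)
      rw [MonoidHom.inv_apply, h1, inv_one]
    · have h1 : c θ.1 = 1 := hres _ ((hci θ.1).symm.trans (congrArg c θ.2))
      rw [h1]
      exact MonoidHom.ext fun n => Units.ext (hc ⟨_, hone⟩ n)
  rw [hfp, ← Nat.card_eq_fintype_card] at hmod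
  have h3 : Nat.card S ≡ 1 [MOD 2] := hfix.trans hmod
  rw [Nat.ModEq, Nat.even_iff.1 hS] at h3
  exact absurd h3 (by norm_num)

/-- Let G be a finite group and M a maximal ideal of the algebraic integers containing 2. Let k be a natural number with g ^ k = g ^ 3 for every 2-element g and g ^ k = g for every element g of odd order (such k exist); an irreducible character χ is unchanged by g ↦ g ^ k exactly when it is fixed by the field automorphism that cubes the 2-power roots of unity and fixes the roots of unity of odd order. Then G has a normal 2-complement if and only if every member χ of the principal 2-block of odd degree with χ (g ^ k) = χ g for all g has degree one. -/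
theorem result {G : Type*} [Group G] [Finite G] (M : Ideal Cfsg.AlgInt) (hM : Cfsg.IsPModular 2 M) (k : ℕ) (hk₁ : ∀ g : G, (∃ j : ℕ, orderOf g = 2 ^ j) → g ^ k = g ^ 3) (hk₂ : ∀ g : G, Odd (orderOf g) → g ^ k = g) : Cfsg.HasNormalPComplement 2 G ↔ ∀ χ ∈ Cfsg.principalBlock M G, Odd (Cfsg.charDegree (χ : G → ℂ)) → (∀ g : G, (χ : G → ℂ) (g ^ k) = (χ : G → ℂ) g) → Cfsg.charDegree (χ : G → ℂ) = 1 := by
  classical
  haveI := Fintype.ofFinite G
  haveI := IsPModular.isPrime hM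
  haveI : Fact (Nat.Prime 2) := ⟨Nat.prime_two⟩
  constructor
  · intro h χ hχ hodd _
    obtain ⟨K, hKn, hKc, hKi⟩ := PBasic.hasNormalPComplement_iff.1 h
    haveI := hKn
    haveI : Fintype K := Fintype.ofFinite K
    have htriv : ∀ n ∈ K, (χ : G → ℂ) n = (χ : G → ℂ) 1 :=
      trivialOn_of_sameBlock hM K ((Nat.Prime.coprime_iff_not_dvd Nat.prime_two).1 hKc.symm)
        (χ := principal G) hχ fun _ _ => rfl
    have hcon : classInner (fun n : K => (χ : G → ℂ) n) (principal K : K → ℂ) ≠ 0 := by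
      have e : (fun n : K => (χ : G → ℂ) n) = fun _ => (χ : G → ℂ) 1 := funext fun n => htriv n n.2
      rw [e]
      simp [classInner, principal, irr_one_ne_zero, Nat.card_eq_fintype_card]
    obtain ⟨e, he, hed⟩ := exists_ratio_dvd_index K χ.2 (principal K).2 hcon
    obtain ⟨j, hj⟩ := hKi
    have he' : Cfsg.charDegree (χ : G → ℂ) = e := by
      apply Nat.cast_injective (R := ℂ)
      rw [← Cfsg.Agent.CharX.irr_deg, he]
      simp [principal]
    rw [hj] at hed
    obtain ⟨l, -, hl⟩ := (Nat.dvd_prime_pow Nat.prime_two).1 hed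
    rw [he', hl] at hodd ⊢
    rcases Nat.eq_zero_or_pos l with rfl | hl0
    · rfl
    · exact absurd hodd (Nat.not_odd_iff_even.2 ((Nat.even_pow).2 ⟨even_two, hl0.ne'⟩))
  · intro h
    by_contra hno
    obtain ⟨P⟩ : Nonempty (Sylow 2 G) := inferInstance
    set N := Cfsg.pResidual 2 G with hNdef
    haveI : Fintype N := Fintype.ofFinite N
    have hev : Even (Nat.card N) := by
      by_contra hodd
      exact hno (PBasic.hasNormalPComplement_iff_pResidual.2
        (Nat.coprime_two_right.2 (Nat.not_even_iff_odd.1 hodd)))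
    have hres : ∀ c : N →* ℂˣ, c⁻¹ = c → c = 1 := by
      intro c hc
      have h2 : c ^ 2 = 1 := by
        have h3 : c⁻¹ * c = 1 := inv_mul_cancel c
        rw [hc] at h3
        rw [pow_two]; exact h3
      rcases (Nat.dvd_prime Nat.prime_two).1 (orderOf_dvd_of_pow_eq_one h2) with e | e
      · exact orderOf_eq_one_iff.1 e
      · exact absurd (show 2 ∣ orderOf c by rw [e]) (S4455.not_dvd_orderOf c)
    obtain ⟨θ, hθB, hθodd, hθk, hθP, hθ1⟩ := exists_nonlinear hM k hk₁ hk₂ P N hev hres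
    obtain ⟨n, hn⟩ := PBasic.exists_index_pow_of_isPGroup_quotient
      (PBasic.quotient_pResidual_isPGroup 2 G)
    have hinv : ∀ (g : G) (m : N), (θ : N → ℂ)
        ⟨g * m * g⁻¹, (inferInstance : N.Normal).conj_mem (m : G) m.2 g⟩ = (θ : N → ℂ) m := by
      intro g m
      obtain ⟨a, ha, x, hx, rfl⟩ := Subgroup.mem_sup_of_normal_left.1
        (((sup_comm N (P : Subgroup G)).trans (PBasic.sylow_sup_pResidual P)).ge (Subgroup.mem_top g))
      rw [show (⟨a * x * (m : G) * (a * x)⁻¹, (inferInstance : N.Normal).conj_mem (m : G) m.2 (a * x)⟩ : N) =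
        ⟨a, ha⟩ * ⟨x * m * x⁻¹, (inferInstance : N.Normal).conj_mem m m.2 x⟩ * (⟨a, ha⟩ : N)⁻¹ from
          Subtype.ext (by simp [mul_assoc])]
      rw [IsCharacter.isClassFunction (irr_isCharacter θ), hθP x hx m]
    have hdet : ¬ 2 ∣ detOrder (θ : N → ℂ) := by
      obtain ⟨m, ρ, -, hρ⟩ := θ.2
      rw [← hρ, Cfsg.Agent.CharExtend.detOrder_eq]
      exact S4455.not_dvd_orderOf _
    have hd2 : ¬ 2 ∣ Cfsg.charDegree (θ : N → ℂ) := fun e => Nat.not_even_iff_odd.2 hθodd (even_iff_two_dvd.2 e)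
    obtain ⟨χ₀, ⟨hχ₀, hχ₀r, hχ₀d⟩, huniq⟩ := S0867.result N (θ : N → ℂ) θ.2 hinv
      (charDegree (θ : N → ℂ)) (Cfsg.Agent.CharX.irr_deg θ) (by
        rw [hn]
        exact Nat.Coprime.pow_left _ (Nat.prime_two.coprime_iff_not_dvd.2
          ((Nat.Prime.not_dvd_mul Nat.prime_two) hdet hd2)))
    have hkc : k.Coprime (Nat.card G) := CyclicQuotientFixed.coprime_of_hyp (p := 2)
      hk₁ fun g hg => hk₂ g (Nat.coprime_two_right.1 hg)
    obtain ⟨σ, hσ⟩ := CharGalois.exists_galoisAut (Nat.card_pos (α := G)).ne' hkc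
    have hc := IsIrrCharacter.isCharacter hχ₀
    have hmap : ∀ g, σ (χ₀ g) = χ₀ (g ^ k) := fun g => CharGalois.map_char hc σ.toRingHom hσ g
    have hχ₀k : ∀ g, χ₀ (g ^ k) = χ₀ g := fun g => by
      rw [← hmap]
      refine congrFun (huniq (fun g => σ (χ₀ g)) (CharGalois.IsIrrCharacter.twist hχ₀ σ) (fun m => ?_) ?_) g
      · show σ (χ₀ (m : G)) = _
        rw [hmap, ← Subgroup.coe_pow, hχ₀r, hθk]
      · rw [Cfsg.Agent.DetComp.detOrder_galois σ hc, hχ₀d, hn]
        exact Nat.Coprime.pow_left _ (Nat.prime_two.coprime_iff_not_dvd.2 hdet)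
    let χ : Cfsg.IrrCharacter G := ⟨χ₀, hχ₀⟩
    have hcov : classInner (fun y : N => (χ : G → ℂ) y) (θ : N → ℂ) ≠ 0 := by
      rw [show (fun y : N => (χ : G → ℂ) y) = (θ : N → ℂ) from funext hχ₀r, classInner_self_irr θ.2]
      exact one_ne_zero
    have hc1 : classInner (fun y : N => (principal G : G → ℂ) y) (principal N : N → ℂ) ≠ 0 := by
      rw [show (fun y : N => (principal G : G → ℂ) y) = (principal N : N → ℂ) from rfl,
        classInner_self_irr (principal N).2]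
      exact one_ne_zero
    have hχB : χ ∈ Cfsg.principalBlock M G := by
      obtain ⟨B, -, hu⟩ := existsUnique_covering N hM ⟨n, hn⟩ (isPBlock_principalBlock M N)
      have e1 := hu _ ⟨isPBlock_blockOf (M := M) χ, χ, self_mem_blockOf _, θ, hθB, hcov⟩
      have e2 := hu _ ⟨isPBlock_principalBlock M G, principal G, principal_mem_principalBlock,
        principal N, principal_mem_principalBlock, hc1⟩
      rw [e2, ← e1]
      exact self_mem_blockOf _
    have hdeg : Cfsg.charDegree (χ : G → ℂ) = Cfsg.charDegree (θ : N → ℂ) := by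
      apply Nat.cast_injective (R := ℂ)
      rw [← Cfsg.Agent.CharX.irr_deg, ← Cfsg.Agent.CharX.irr_deg, ← hχ₀r 1, OneMemClass.coe_one]
    exact hθ1 (hdeg.symm.trans (h χ hχB (hdeg ▸ hθodd) hχ₀k))

end Cfsg.Agent.S4549
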