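import Cfsg.Statements.S4558
import Cfsg.Agent.Lib.Char.Integral
import Mathlib.Algebra.CharP.Lemmas

set_option autoImplicit false
open Cfsg

namespace Cfsg.Agent.S4558

theorem multiset_pow_congr (p n : ℕ) (hp : p.Prime) :
    ∀ M : Multiset ℂ, (∀ z ∈ M, IsIntegral ℤ z) → ∃ w : ℂ, IsIntegral ℤ w ∧
      M.sum ^ p ^ n = (M.map (fun z => z ^ p ^ n)).sum + (p : ℂ) * w := by
  intro M
  induction M using Multiset.induction with
  | empty =>
    intro _
    exact ⟨0, isIntegral_zero, by simp [hp.ne_zero]⟩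
  | cons a M ih =>
    intro h
    obtain ⟨w, hw, hwe⟩ := ih fun z hz => h z (Multiset.mem_cons_of_mem hz)
    let A := integralClosure ℤ ℂ
    obtain ⟨r, hr⟩ := exists_add_pow_prime_pow_eq hp
      (⟨a, h a (Multiset.mem_cons_self _ _)⟩ : A)
      ⟨M.sum, Char.isIntegral_multiset_sum M fun z hz => h z (Multiset.mem_cons_of_mem hz)⟩ n
    have hr' := congrArg (fun x : A => (x : ℂ)) hr
    simp only [AddMemClass.coe_add, SubmonoidClass.coe_pow, MulMemClass.coe_mul] at hr'
    rw [Multiset.sum_cons, hr', Multiset.map_cons, Multiset.sum_cons, hwe]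
    refine ⟨w + a * M.sum * (r : ℂ), hw.add ?_, by push_cast; ring⟩
    exact ((h a (Multiset.mem_cons_self _ _)).mul (Char.isIntegral_multiset_sum M fun z hz =>
        h z (Multiset.mem_cons_of_mem hz))).mul r.2


/-- Let χ be a character of the finite group G and g an element of p-power order for the prime p. If χ g = 0, then p divides the degree of χ. -/
theorem result {G : Type*} [Group G] [Finite G] (p : ℕ) [Fact p.Prime] (χ : G → ℂ) (hχ : Cfsg.IsCharacter G χ) (g : G) (hg : ∃ j : ℕ, orderOf g = p ^ j) (h0 : χ g = 0) : p ∣ Cfsg.charDegree χ := by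
  have hp : p.Prime := Fact.out
  obtain ⟨j, hj⟩ := hg
  obtain ⟨n, ρ, rfl⟩ := hχ
  obtain ⟨M, hM1, hM2, hM3, -⟩ := Char.exists_eigenvalues ρ g
  have h1 := hM3 1
  simp only [pow_one, Multiset.map_id'] at h1
  rw [h0] at h1
  obtain ⟨w, hw, hwe⟩ := multiset_pow_congr p j hp M fun z hz =>
    Char.isIntegral_of_pow_eq_one (isOfFinOrder_of_finite g).orderOf_pos (hM2 z hz)
  rw [← h1, zero_pow (pow_ne_zero _ hp.ne_zero), Multiset.map_congr rfl (g := fun _ => (1 : ℂ))
    (fun z hz => hj ▸ hM2 z hz), Multiset.map_const', Multiset.sum_replicate, hM1, nsmul_one] at hwe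
  have hd : Cfsg.charDegree ρ.character = Module.finrank ℂ (Fin n → ℂ) := by
    simp [Cfsg.charDegree, Representation.char_one]
  rw [hd]
  refine Char.dvd_of_isIntegral_div hp.ne_zero ?_
  have : ((Module.finrank ℂ (Fin n → ℂ) : ℕ) : ℂ) / (p : ℂ) = -w := by
    rw [div_eq_iff (Nat.cast_ne_zero.mpr hp.ne_zero)]
    linear_combination -hwe
  rw [this]
  exact hw.neg

end Cfsg.Agent.S4558
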