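import Cfsg.Statements.S4560
import Cfsg.Agent.Lib.Char.FourTrans
import Mathlib.GroupTheory.SpecificGroups.Alternating
import Mathlib.GroupTheory.Perm.Fin

set_option autoImplicit false
set_option linter.style.haveILetI false
open Cfsg

namespace Cfsg.Agent.S4560

open Cfsg.Agent.Char Cfsg.Agent.Char.FourTrans Equiv Equiv.Perm

open Fin.NatCast in
/-- A permutation made of `a` cycles of length `m + 1`, `b` of length `l + 1` and `f` fixed
points. -/
theorem exists_perm (n a m b l f : ℕ) (hn : n = a * (m + 1) + b * (l + 1) + f) :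
    ∃ g : Perm (Fin n), sign g = (-1) ^ (a * m + b * l) ∧
      (∀ N : ℕ, (m + 1) ∣ N → (l + 1) ∣ N → g ^ N = 1) ∧
      (1 ≤ m → 1 ≤ l → Nat.card (MulAction.fixedBy (Fin n) g) = f) ∧
      (2 ≤ m → 2 ≤ l → ∀ x, g (g x) = x → g x = x) := by
  classical
  let e : ((Fin a × Fin (m + 1)) ⊕ (Fin b × Fin (l + 1))) ⊕ Fin f ≃ Fin n :=
    (Fintype.equivFinOfCardEq (by simp [hn]))
  let σ : Perm (((Fin a × Fin (m + 1)) ⊕ (Fin b × Fin (l + 1))) ⊕ Fin f) :=
    Equiv.sumCongr (Equiv.sumCongr (prodCongrRight fun _ => finRotate (m + 1))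
      (prodCongrRight fun _ => finRotate (l + 1))) 1
  refine ⟨e.permCongr σ, ?_, fun N h1 h2 => ?_, fun h1 h2 => ?_, fun h1 h2 => ?_⟩
  · rw [sign_permCongr, sign_sumCongr, sign_sumCongr, sign_prodCongrRight, sign_prodCongrRight,
      map_one, mul_one]
    simp only [sign_finRotate, Finset.prod_const, Finset.card_univ, Fintype.card_fin]
    rw [pow_add, mul_comm a, mul_comm b, pow_mul, pow_mul]
    simp
  · have hσ : ∀ k : ℕ, ∀ x, (σ ^ k) x = Sum.map (Sum.map (fun p => (p.1, p.2 + (k : Fin (m + 1))))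
        (fun p => (p.1, p.2 + (k : Fin (l + 1))))) id x := by
      intro k
      induction k with
      | zero => rintro ((⟨i, j⟩ | ⟨i, j⟩) | i) <;> simp
      | succ k ih =>
        rintro ((⟨i, j⟩ | ⟨i, j⟩) | i) <;>
          simp [pow_succ', ih, σ, Perm.mul_apply, add_assoc]
    have e1 : σ ^ N = 1 := by
      ext x
      rw [hσ, (Fin.natCast_eq_zero).2 h1, (Fin.natCast_eq_zero).2 h2]
      rcases x with (⟨i, j⟩ | ⟨i, j⟩) | i <;> simp
    have e2 : e.permCongr σ ^ N = e.permCongr (σ ^ N) := (map_pow e.permCongrHom σ N).symm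
    rw [e2, e1]
    ext x; simp
  · have hne : ∀ (k : ℕ), 1 ≤ k → ∀ j : Fin (k + 1), j + 1 ≠ j := fun k hk j h => by
      have h' : (1 : Fin (k + 1)) = 0 := add_eq_left.1 h
      have := congrArg Fin.val h'
      rw [Fin.val_one', Fin.val_zero, Nat.one_mod_eq_one.2 (by omega)] at this
      exact one_ne_zero this
    refine Eq.trans ?_ (Nat.card_fin f)
    refine (Nat.card_congr (Equiv.ofBijective (fun i : Fin f => (⟨e (Sum.inr i), by
      simp [MulAction.mem_fixedBy, σ]⟩ : MulAction.fixedBy (Fin n) (e.permCongr σ))) ⟨?_, ?_⟩)).symm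
    · intro i j h
      exact Sum.inr.inj (e.injective (congrArg Subtype.val h))
    · rintro ⟨x, hx⟩
      obtain ⟨y, rfl⟩ := e.surjective x
      rw [MulAction.mem_fixedBy, Perm.smul_def, Equiv.permCongr_apply, Equiv.symm_apply_apply,
        e.injective.eq_iff] at hx
      rcases y with (⟨i, j⟩ | ⟨i, j⟩) | i
      · simp [σ, hne m h1] at hx
      · simp [σ, hne l h2] at hx
      · exact ⟨i, rfl⟩
  · have hne : ∀ (k : ℕ), 2 ≤ k → ∀ j : Fin (k + 1), j + 1 + 1 ≠ j := fun k hk j h => by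
      rw [add_assoc] at h
      have h' : (1 + 1 : Fin (k + 1)) = 0 := add_eq_left.1 h
      have := congrArg Fin.val h'
      rw [Fin.val_add, Fin.val_one', Fin.val_zero, Nat.one_mod_eq_one.2 (by omega),
        Nat.mod_eq_of_lt (by omega)] at this
      omega
    intro x hx
    obtain ⟨y, rfl⟩ := e.surjective x
    simp only [Equiv.permCongr_apply, Equiv.symm_apply_apply, e.injective.eq_iff] at hx ⊢
    rcases y with (⟨i, j⟩ | ⟨i, j⟩) | i
    · simp [σ, hne m h1] at hx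
    · simp [σ, hne l h2] at hx
    · simp [σ]

theorem two_element (k : ℕ) (hk : 2 ≤ k) :
    ∃ a b : ℕ, 4 * k = a * 4 + b * 8 ∧ Even (a * 3 + b * 7) := by
  rcases Nat.even_or_odd k with ⟨j, rfl⟩ | ⟨j, rfl⟩
  · exact ⟨2 * j, 0, by ring, ⟨3 * j, by ring⟩⟩
  · exact ⟨2 * j - 1, 1, by omega, ⟨3 * j + 2, by omega⟩⟩

/-- For n ≥ 7 the alternating group on n letters has an irreducible character that vanishes at some 2-element and is the restriction of an irreducible character of the symmetric group, and an irreducible character that vanishes at some element of order 3 and is the restriction of an irreducible character of the symmetric group. -/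
theorem result (n : ℕ) (hn : 7 ≤ n) : (∃ χ : Cfsg.IrrCharacter (alternatingGroup (Fin n)), (∃ x : alternatingGroup (Fin n), (∃ j : ℕ, orderOf x = 2 ^ j) ∧ (χ : alternatingGroup (Fin n) → ℂ) x = 0) ∧ ∃ ψ : Cfsg.IrrCharacter (Equiv.Perm (Fin n)), ∀ x : alternatingGroup (Fin n), (ψ : Equiv.Perm (Fin n) → ℂ) x = (χ : alternatingGroup (Fin n) → ℂ) x) ∧ (∃ χ : Cfsg.IrrCharacter (alternatingGroup (Fin n)), (∃ y : alternatingGroup (Fin n), orderOf y = 3 ∧ (χ : alternatingGroup (Fin n) → ℂ) y = 0) ∧ ∃ ψ : Cfsg.IrrCharacter (Equiv.Perm (Fin n)), ∀ x : alternatingGroup (Fin n), (ψ : Equiv.Perm (Fin n) → ℂ) x = (χ : alternatingGroup (Fin n) → ℂ) x) := by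
  classical
  haveI h4A : MulAction.IsMultiplyPretransitive (alternatingGroup (Fin n)) (Fin n) 4 := by
    haveI := alternatingGroup.isMultiplyPretransitive (Fin n)
    exact MulAction.isMultiplyPretransitive_of_le (n := Nat.card (Fin n) - 2)
      (by simp only [Nat.card_fin]; omega) (by simp)
  haveI h4S : MulAction.IsMultiplyPretransitive (Perm (Fin n)) (Fin n) 4 :=
    Equiv.Perm.isMultiplyPretransitive (Fin n) 4
  have hn4 : 4 ≤ Nat.card (Fin n) := by simp; omega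
  obtain ⟨a1, a2, a3⟩ := chi_irr (G := alternatingGroup (Fin n))
    (patTrans_of_pretransitive _ _ hn4) hn4
  obtain ⟨s1, s2, s3⟩ := chi_irr (G := Perm (Fin n)) (patTrans_of_pretransitive _ _ hn4) hn4
  have memA : ∀ {g : Perm (Fin n)} {c : ℕ}, sign g = (-1) ^ c → Even c →
      g ∈ alternatingGroup (Fin n) := fun h hc => by
    rw [mem_alternatingGroup, h, hc.neg_one_pow]
  have two : ∀ {g : Perm (Fin n)} (hg : g ∈ alternatingGroup (Fin n)) (j : ℕ), g ^ 2 ^ j = 1 →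
      ∃ i : ℕ, orderOf (⟨g, hg⟩ : alternatingGroup (Fin n)) = 2 ^ i := fun hg j hj => by
    obtain ⟨i, -, hi⟩ := (Nat.dvd_prime_pow Nat.prime_two).1
      (orderOf_dvd_of_pow_eq_one (G := alternatingGroup (Fin n)) (x := ⟨_, hg⟩) (Subtype.ext hj))
    exact ⟨i, hi⟩
  have three : ∀ {g : Perm (Fin n)} (hg : g ∈ alternatingGroup (Fin n)) {f : ℕ}, f < n →
      g ^ 3 = 1 → Nat.card (MulAction.fixedBy (Fin n) g) = f →
      orderOf (⟨g, hg⟩ : alternatingGroup (Fin n)) = 3 := fun {g} hg {f} hf h3 hc => by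
    haveI := Fact.mk Nat.prime_three
    refine orderOf_eq_prime (Subtype.ext h3) fun h1 => ?_
    obtain rfl : g = 1 := congrArg Subtype.val h1
    rw [MulAction.fixedBy_one_eq_univ, Nat.card_univ, Nat.card_fin] at hc
    omega
  have v1 : ∀ {g : Perm (Fin n)} (hg : g ∈ alternatingGroup (Fin n)),
      Nat.card (MulAction.fixedBy (Fin n) g) = 1 →
      chiOne (alternatingGroup (Fin n)) (Fin n) ⟨g, hg⟩ = 0 := fun {g} hg hc => by
    show (Nat.card (MulAction.fixedBy (Fin n) g) : ℂ) - 1 = 0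
    rw [hc]; simp
  have v2 : ∀ {g : Perm (Fin n)} (hg : g ∈ alternatingGroup (Fin n)),
      (∀ x, g (g x) = x → g x = x) →
      (Nat.card (MulAction.fixedBy (Fin n) g) = 0 ∨ Nat.card (MulAction.fixedBy (Fin n) g) = 3) →
      chiTwo (alternatingGroup (Fin n)) (Fin n) ⟨g, hg⟩ = 0 := fun {g} hg hs hc => by
    obtain ⟨e1, -⟩ := values_of_no_swap (G := alternatingGroup (Fin n)) ⟨g, hg⟩
      (fun x h => hs x h) rfl
    have e0 : piX (alternatingGroup (Fin n)) (Fin n) ⟨g, hg⟩ =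
        (Nat.card (MulAction.fixedBy (Fin n) g) : ℂ) := rfl
    rw [chiTwo, Pi.sub_apply, e1, e0]
    change ((Nat.card (MulAction.fixedBy (Fin n) g)).choose 2 : ℂ) - _ = 0
    rcases hc with h | h <;> rw [h] <;> norm_num [Nat.choose_two_right]
  have v3 : ∀ {g : Perm (Fin n)} (hg : g ∈ alternatingGroup (Fin n)),
      (∀ x, g (g x) = x → g x = x) → Nat.card (MulAction.fixedBy (Fin n) g) = 2 →
      chiAlt (alternatingGroup (Fin n)) (Fin n) ⟨g, hg⟩ = 0 := fun {g} hg hs hc => by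
    obtain ⟨e1, e2⟩ := values_of_no_swap (G := alternatingGroup (Fin n)) ⟨g, hg⟩
      (fun x h => hs x h) hc
    have e0 : piX (alternatingGroup (Fin n)) (Fin n) ⟨g, hg⟩ = (2 : ℂ) :=
      (congrArg (fun k : ℕ => (k : ℂ)) hc).trans (by norm_num)
    rw [chiAlt, Pi.add_apply, Pi.sub_apply, Pi.sub_apply, e1, e2, e0]
    norm_num
  constructor
  · rcases Nat.even_or_odd n with ⟨h, hh⟩ | ⟨h, hh⟩
    · rcases Nat.even_or_odd h with ⟨k, hk⟩ | ⟨k, hk⟩
      · obtain ⟨a, b, hab, hev⟩ := two_element k (by omega)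
        obtain ⟨g, hs, hpow, hfix, hsw⟩ := exists_perm n a 3 b 7 0 (by omega)
        exact ⟨⟨_, a2⟩, ⟨⟨g, memA hs hev⟩, two _ 3 (hpow _ (by norm_num) (by norm_num)),
          v2 _ (hsw (by omega) (by omega)) (Or.inl (hfix (by omega) (by omega)))⟩,
          ⟨_, s2⟩, fun x => rfl⟩
      · obtain ⟨a, b, hab, hev⟩ := two_element k (by omega)
        obtain ⟨g, hs, hpow, hfix, hsw⟩ := exists_perm n a 3 b 7 2 (by omega)
        exact ⟨⟨_, a3⟩, ⟨⟨g, memA hs hev⟩, two _ 3 (hpow _ (by norm_num) (by norm_num)),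
          v3 _ (hsw (by omega) (by omega)) (hfix (by omega) (by omega))⟩,
          ⟨_, s3⟩, fun x => rfl⟩
    · obtain ⟨a, b, hab, hev⟩ : ∃ a b : ℕ, n = a * 2 + b * 4 + 1 ∧ Even (a * 1 + b * 3) := by
        rcases Nat.even_or_odd h with ⟨k, hk⟩ | ⟨k, hk⟩
        · exact ⟨h, 0, by omega, ⟨k, by omega⟩⟩
        · exact ⟨h - 2, 1, by omega, ⟨k + 1, by omega⟩⟩
      obtain ⟨g, hs, hpow, hfix, -⟩ := exists_perm n a 1 b 3 1 hab
      exact ⟨⟨_, a1⟩, ⟨⟨g, memA hs hev⟩, two _ 2 (hpow _ (by norm_num) (by norm_num)),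
        v1 _ (hfix (by omega) (by omega))⟩, ⟨_, s1⟩, fun x => rfl⟩
  · have hev : ∀ a : ℕ, Even (a * 2 + 0 * 2) := fun a => ⟨a, by omega⟩
    rcases (show n % 3 = 0 ∨ n % 3 = 1 ∨ n % 3 = 2 by omega) with h | h | h
    · obtain ⟨g, hs, hpow, hfix, hsw⟩ := exists_perm n (n / 3) 2 0 2 0 (by omega)
      exact ⟨⟨_, a2⟩, ⟨⟨g, memA hs (hev _)⟩,
        three _ (f := 0) (by omega) (hpow _ dvd_rfl dvd_rfl) (hfix (by omega) (by omega)),
        v2 _ (hsw le_rfl le_rfl) (Or.inl (hfix (by omega) (by omega)))⟩, ⟨_, s2⟩, fun x => rfl⟩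
    · obtain ⟨g, hs, hpow, hfix, -⟩ := exists_perm n (n / 3) 2 0 2 1 (by omega)
      exact ⟨⟨_, a1⟩, ⟨⟨g, memA hs (hev _)⟩,
        three _ (f := 1) (by omega) (hpow _ dvd_rfl dvd_rfl) (hfix (by omega) (by omega)),
        v1 _ (hfix (by omega) (by omega))⟩, ⟨_, s1⟩, fun x => rfl⟩
    · obtain ⟨g, hs, hpow, hfix, hsw⟩ := exists_perm n (n / 3) 2 0 2 2 (by omega)
      exact ⟨⟨_, a3⟩, ⟨⟨g, memA hs (hev _)⟩,
        three _ (f := 2) (by omega) (hpow _ dvd_rfl dvd_rfl) (hfix (by omega) (by omega)),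
        v3 _ (hsw le_rfl le_rfl) (hfix (by omega) (by omega))⟩, ⟨_, s3⟩, fun x => rfl⟩

end Cfsg.Agent.S4560
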