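import Cfsg.Statements.S4563
import Cfsg.Agent.Lib.Char.FullyRamifiedComplement
import Cfsg.Agent.Lib.Solvable.Criteria

set_option autoImplicit false
set_option linter.style.haveILetI false
open Cfsg

namespace Cfsg.Agent.S4563

open Cfsg.Agent.Char Cfsg.Agent.Char.FullRam

/-- Let χ be an irreducible character of the finite group H that is fully ramified over the normal subgroup Z: the restriction of χ to Z is e times an irreducible character of Z with e ^ 2 equal to the index of Z. If K is a proper normal subgroup of H containing Z and χ is induced from a character of K, then H/K is solvable; in particular, if K is solvable then so is H. -/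
theorem result {H : Type*} [Group H] [Fintype H] (Z : Subgroup H) [Z.Normal] (χ : Cfsg.IrrCharacter H) (hfr : ∃ (θ : Cfsg.IrrCharacter ↥Z) (e : ℕ), e ^ 2 = Z.index ∧ ∀ z : ↥Z, (χ : H → ℂ) z = (e : ℂ) * (θ : ↥Z → ℂ) z) (K : Subgroup H) [K.Normal] [Fintype K] (hZK : Z ≤ K) (hK : K ≠ ⊤) (φ : ↥K → ℂ) (hφ : Cfsg.IsCharacter ↥K φ) (hind : Cfsg.indFun K φ = (χ : H → ℂ)) : Group.IsSolvable (H ⧸ K) ∧ (Group.IsSolvable ↥K → Group.IsSolvable H) := by
  classical
  haveI : Fintype Z := Fintype.ofFinite Z
  obtain ⟨θ, e, he, hres⟩ := hfr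
  let D : Setup χ θ K := ⟨e, he, hres, hZK⟩
  have hsolv : Group.IsSolvable (H ⧸ K) := by
    refine Cfsg.Agent.SolvCriteria.solvable_of_hall_complements fun p hp => ?_
    haveI := Fact.mk hp
    refine exists_complement D p fun S hZS ζ f k o m hm hmK hk hζ1 hdeg' hdeg hnorm _ => ?_
    haveI : Fintype (S ⊓ K : Subgroup H) := Fintype.ofFinite _
    haveI : Fintype (⊤ : Subgroup H) := Fintype.ofFinite _
    have hχc := IsIrrCharacter.isCharacter χ.2
    have h1 : Cfsg.classInner φ (fun x : K => (χ : H → ℂ) x) = 1 := by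
      rw [← classInner_indFun_left K φ (IsCharacter.isClassFunction hχc), hind,
        classInner_self_irr χ.2]
    obtain ⟨φ₀, hφ₀, hφ₀χ⟩ : ∃ φ₀ : Cfsg.IrrCharacter K, Cfsg.classInner φ (φ₀ : K → ℂ) ≠ 0 ∧
        Cfsg.classInner (fun x : K => (χ : H → ℂ) x) (φ₀ : K → ℂ) ≠ 0 := by
      by_contra hnone
      push Not at hnone
      rw [IsCharacter.eq_sum hφ, classInner_sum_left] at h1
      refine zero_ne_one (α := ℂ) (Eq.trans ?_ h1)
      refine (Finset.sum_eq_zero fun ψ _ => ?_).symm
      rw [classInner_smul_left]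
      by_cases h : Cfsg.classInner φ (ψ : K → ℂ) = 0
      · rw [h, zero_mul]
      · have e0 : Cfsg.classInner (ψ : K → ℂ) (fun x : K => (χ : H → ℂ) x) = 0 := by
          rw [← classInner_conj_symm, hnone ψ h, map_zero]
        rw [e0, mul_zero]
    obtain ⟨a, ha⟩ := IsCharacter.exists_degree hφ
    obtain ⟨b, hb⟩ := IsCharacter.exists_degree (IsIrrCharacter.isCharacter φ₀.2)
    obtain ⟨x, hx⟩ := IsCharacter.exists_degree hχc
    obtain ⟨t₁, ht₁⟩ := IsCharacter.exists_degree (IsIrrCharacter.isCharacter θ.2)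
    have hba : b ≤ a := degree_le_of_constituent hφ φ₀.2 hφ₀ ha hb
    have hxa : x = K.index * a := by
      have := congrFun hind 1
      rw [indFun_one_apply, ha, hx] at this
      exact_mod_cast this.symm
    have hxb : x ≤ K.index * b := by
      refine degree_le_of_constituent (isCharacter_indFun K (IsIrrCharacter.isCharacter φ₀.2)) χ.2 ?_
        (by rw [indFun_one_apply, hb, Nat.cast_mul]) hx
      rw [classInner_indFun_left K _ (IsCharacter.isClassFunction hχc), ← classInner_conj_symm]
      exact (map_ne_zero _).2 hφ₀χ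
    have hab : a = b := le_antisymm
      (Nat.le_of_mul_le_mul_left (hxa ▸ hxb) (Nat.pos_of_ne_zero Subgroup.index_ne_zero_of_finite)) hba
    -- every constituent below has the same degree
    have hRK : (S ⊓ K : Subgroup H) ≤ K := inf_le_right
    have hc0 := IsCharacter.comp (IsIrrCharacter.isCharacter φ₀.2) (Subgroup.inclusion hRK)
    choose w hw using fun ψ : Cfsg.IrrCharacter (S ⊓ K : Subgroup H) =>
      IsCharacter.exists_classInner_nat hc0 (IsIrrCharacter.isCharacter ψ.2)
    have hsame : ∀ ψ : Cfsg.IrrCharacter (S ⊓ K : Subgroup H),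
        w ψ ≠ 0 → (ψ : (S ⊓ K : Subgroup H) → ℂ) 1 = (ζ : (S ⊓ K : Subgroup H) → ℂ) 1 := by
      intro ψ hψ
      refine hdeg' ψ fun h0 => ?_
      have hne : resInner (hRK.trans le_top) (fun g : (⊤ : Subgroup H) => (χ : H → ℂ) g)
          (ψ : (S ⊓ K : Subgroup H) → ℂ) ≠ 0 :=
        resInner_ne_zero_of_constituent (Z := (S ⊓ K : Subgroup H)) hRK le_top
          (IsCharacter.restrict hχc ⊤) ψ φ₀ hφ₀χ
          (by
            show Cfsg.classInner _ _ ≠ 0
            exact fun h => hψ (by rw [← Nat.cast_eq_zero (R := ℂ), ← hw ψ]; exact h))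
      have hi := inner_restrict χ θ he hres (le_inf hZS hZK) (ψ : (S ⊓ K : Subgroup H) → ℂ)
      rw [h0, mul_zero] at hi
      refine hne ?_
      rw [resInner, ← classInner_conj_symm]
      show (starRingEnd ℂ) (Cfsg.classInner (ψ : (S ⊓ K : Subgroup H) → ℂ)
        (fun r : (S ⊓ K : Subgroup H) => (χ : H → ℂ) r)) = 0
      rw [(mul_eq_zero.1 hi).resolve_right (Nat.cast_ne_zero.2 Subgroup.index_ne_zero_of_finite),
        map_zero]
    obtain ⟨u, hu⟩ : ∃ u : ℕ, b = u * (k * t₁) := by
      refine ⟨∑ ψ : Cfsg.IrrCharacter (S ⊓ K : Subgroup H), w ψ, ?_⟩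
      rw [← Nat.cast_inj (R := ℂ), ← hb]
      have := congrFun (IsCharacter.eq_sum hc0) 1
      simp only [map_one, Finset.sum_apply, Pi.smul_apply, smul_eq_mul, hw] at this
      push_cast
      rw [this, Finset.sum_mul]
      refine Finset.sum_congr rfl fun ψ _ => ?_
      by_cases hψ : w ψ = 0
      · simp [hψ]
      · rw [hsame ψ hψ, hζ1, ht₁]
    have he' : e * t₁ = x := by
      have := hres 1
      rw [ht₁] at this
      simp only [OneMemClass.coe_one, hx] at this
      exact_mod_cast this.symm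
    have ht0 : 0 < t₁ := Nat.pos_of_ne_zero fun h => IsIrrCharacter.one_ne_zero θ.2 (by
      rw [ht₁, h, Nat.cast_zero])
    have hek : e = K.index * u * k := Nat.eq_of_mul_eq_mul_right ht0 (by
      rw [he', hxa, hab, hu]; ring)
    -- compare the powers of `p`
    have he0 : e ≠ 0 := e_ne_zero χ θ he hres
    have hk0 : k ≠ 0 := fun h => he0 (by rw [hek, h, mul_zero])
    have hd1 : p ^ m ∣ K.index := hmK ▸ Nat.ordProj_dvd _ _
    have hd2 : f ^ 2 * o * k ∣ p ^ e.factorization p := by
      obtain ⟨j, -, hj⟩ := (Nat.dvd_prime_pow hp).1 (dvd_of_mul_left_eq _ hdeg : k ∣ _)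
      rw [hnorm, hm, hj, ← pow_add]
      refine pow_dvd_pow p ((hp.pow_dvd_iff_le_factorization he0).1 ?_)
      rw [pow_add, ← hj, hek, mul_assoc]
      exact mul_dvd_mul hd1 (dvd_mul_left _ _)
    rw [show D.e = e from rfl] at hdeg
    rw [show f ^ 2 * o * k = f * (f * o * k) by ring, hdeg] at hd2
    exact Nat.eq_one_of_dvd_one ((Nat.mul_dvd_mul_iff_right (pow_pos hp.pos _)).1
      (by rwa [one_mul]))
  refine ⟨hsolv, fun hK' => ?_⟩
  exact Group.isSolvable_of_ker_le_range K.subtype (QuotientGroup.mk' K)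
    (by rw [QuotientGroup.ker_mk', Subgroup.range_subtype])

end Cfsg.Agent.S4563
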