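import Cfsg.Statements.S4564
import Cfsg.Agent.Lib.Char.FullyRamifiedComplement

set_option autoImplicit false
set_option linter.style.haveILetI false
open Cfsg

namespace Cfsg.Agent.S4564

open Cfsg.Agent.Char Cfsg.Agent.Char.FullRam

/-- Let χ be an irreducible character of the finite group H that is fully ramified over the normal subgroup Z: the restriction of χ to Z is e times an irreducible character of Z with e ^ 2 equal to the index of Z. Let K be a normal subgroup of H containing Z and P a cyclic Sylow p-subgroup of H/K. Then P has a complement in H/K: a subgroup meeting P trivially whose product with P is the whole group. -/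
theorem result {H : Type*} [Group H] [Finite H] (Z : Subgroup H) [Z.Normal] (χ : Cfsg.IrrCharacter H) (hfr : ∃ (θ : Cfsg.IrrCharacter ↥Z) (e : ℕ), e ^ 2 = Z.index ∧ ∀ z : ↥Z, (χ : H → ℂ) z = (e : ℂ) * (θ : ↥Z → ℂ) z) (K : Subgroup H) [K.Normal] (hZK : Z ≤ K) (p : ℕ) [Fact p.Prime] (P : Sylow p (H ⧸ K)) (hcyc : IsCyclic P) : ∃ M : Subgroup (H ⧸ K), M.IsComplement' (P : Subgroup (H ⧸ K)) := by
  classical
  haveI : Fintype H := Fintype.ofFinite H
  haveI : Fintype Z := Fintype.ofFinite Z
  obtain ⟨θ, e, he, hres⟩ := hfr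
  have hp : p.Prime := Fact.out
  let D : Setup χ θ K := ⟨e, he, hres, hZK⟩
  obtain ⟨M, hM⟩ := exists_complement D p fun S hZS ζ f k o m hm hmK _ _ _ _ _ hcycS => by
    refine hcycS ?_
    have hcard : Nat.card (S.map (QuotientGroup.mk' K)) = p ^ (Nat.card (H ⧸ K)).factorization p := by
      have h1 := Subgroup.relIndex_ker (QuotientGroup.mk' K) (K := S)
      rw [QuotientGroup.ker_mk'] at h1
      rw [← h1, ← Subgroup.inf_relIndex_left, hm, hmK]; rfl
    haveI := hcyc
    exact isCyclic_of_surjective (Sylow.equiv P (Sylow.ofCard _ hcard))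
      (Sylow.equiv P (Sylow.ofCard _ hcard)).surjective
  refine ⟨M, Subgroup.isComplement'_of_coprime ?_ ?_⟩
  · rw [P.card_eq_multiplicity, ← hM, Subgroup.card_mul_index]
  · rw [P.card_eq_multiplicity]
    refine (Nat.Coprime.pow_right _ ((hp.coprime_iff_not_dvd.2 fun h => ?_).symm))
    obtain ⟨v, hv⟩ : ∃ v, v = (Nat.card (H ⧸ K)).factorization p := ⟨_, rfl⟩
    rw [← hv] at hM
    have hdd : p ^ (v + 1) ∣ Nat.card (H ⧸ K) := by
      rw [← M.card_mul_index, hM, pow_succ']
      exact mul_dvd_mul_right h _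
    have := (hp.pow_dvd_iff_le_factorization Nat.card_pos.ne').1 hdd
    omega

end Cfsg.Agent.S4564
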