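import Cfsg.Statements.S4565
import Cfsg.Agent.Lib.Char.ExtensionChar
import Cfsg.Agent.Lib.Char.CoprimeConstituent
import Cfsg.Agent.Lib.Char.Conjugate

set_option autoImplicit false
set_option linter.style.haveILetI false
open Cfsg

namespace Cfsg.Agent.S4565

open Cfsg.Agent.Char
open scoped ComplexConjugate

universe u v

variable {K : Type u} [Group K] [Fintype K] {A : Type v} [CommGroup A] [Finite A]

/-- Isolation of one coset by the linear characters of an abelian quotient. -/
theorem sum_coset (π : K →* A) [DecidableEq A] [Fintype (A →* ℂˣ)] (a : A) (F : K → ℂ) :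
    ∑ f : A →* ℂˣ, (f a⁻¹ : ℂ) * ∑ k : K, (f (π k) : ℂ) * F k =
      (Nat.card A : ℂ) * ∑ k ∈ Finset.univ.filter (fun k => π k = a), F k := by
  simp only [Finset.mul_sum, ← mul_assoc, ← Units.val_mul, ← map_mul]
  rw [Finset.sum_comm, Finset.sum_filter]
  refine Finset.sum_congr rfl fun k _ => ?_
  rw [← Finset.sum_mul, Cfsg.Agent.CoprimeConst.sum_hom_apply]
  by_cases h : π k = a
  · simp [h]
  · have : ¬ a⁻¹ * π k = 1 := fun e => h (inv_mul_eq_one.1 e).symm
    simp [h, this]

theorem classInner_twist (π : K →* A) (f : A →* ℂˣ) (φ γ : K → ℂ) :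
    Cfsg.classInner (fun k => (f (π k) : ℂ) * φ k) γ =
      (Nat.card K : ℂ)⁻¹ * ∑ k : K, (f (π k) : ℂ) * (φ k * conj (γ k)) := by
  simp only [Cfsg.classInner, mul_assoc]

theorem twist_isCharacter (π : K →* A) (f : A →* ℂˣ) {φ : K → ℂ} (hφ : Cfsg.IsCharacter K φ) :
    Cfsg.IsCharacter K (fun k => (f (π k) : ℂ) * φ k) :=
  IsCharacter.mul (IsIrrCharacter.isCharacter (isIrrCharacter_linear (f.comp π))) hφ

/-- Let χ be an irreducible character of the finite group H that is fully ramified over the normal subgroup Z: the restriction of χ to Z is e times an irreducible character of Z with e ^ 2 equal to the index of Z. If Z ≠ H, then H/Z has no cyclic subgroup that is its own centralizer. -/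
theorem result {H : Type*} [Group H] [Finite H] (Z : Subgroup H) [Z.Normal] (χ : Cfsg.IrrCharacter H) (hfr : ∃ (θ : Cfsg.IrrCharacter ↥Z) (e : ℕ), e ^ 2 = Z.index ∧ ∀ z : ↥Z, (χ : H → ℂ) z = (e : ℂ) * (θ : ↥Z → ℂ) z) (hZ : Z ≠ ⊤) (C : Subgroup (H ⧸ Z)) (hC : IsCyclic C) : Subgroup.centralizer (C : Set (H ⧸ Z)) ≠ C := by
  classical
  haveI : Fintype H := Fintype.ofFinite H
  haveI : Fintype Z := Fintype.ofFinite Z
  obtain ⟨θ, e, he, hres⟩ := hfr
  intro hcent
  have he0 : (e : ℂ) ≠ 0 := Nat.cast_ne_zero.2 fun h =>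
    Subgroup.index_ne_zero_of_finite (H := Z) (by rw [← he, h]; rfl)
  -- `χ` vanishes off `Z`
  have hsθ : ∑ z : Z, (θ : Z → ℂ) z * conj ((θ : Z → ℂ) z) = (Nat.card Z : ℂ) := by
    have := classInner_self_irr θ.2
    rwa [Cfsg.classInner, inv_mul_eq_one₀ (Nat.cast_ne_zero.2 Nat.card_pos.ne'), eq_comm] at this
  have hvan : ∀ h : H, h ∉ Z → (χ : H → ℂ) h = 0 := by
    have h1 := classInner_self_irr χ.2
    rw [Cfsg.classInner, inv_mul_eq_one₀ (Nat.cast_ne_zero.2 Nat.card_pos.ne'), eq_comm,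
      ← Finset.sum_filter_add_sum_filter_not Finset.univ (· ∈ Z)] at h1
    have h2 : ∑ h ∈ Finset.univ.filter (· ∈ Z), (χ : H → ℂ) h * conj ((χ : H → ℂ) h) =
        (Nat.card H : ℂ) := by
      rw [Finset.sum_subtype (p := (· ∈ Z)) _ (fun h => by simp), ← Z.card_mul_index, ← he]
      push_cast
      rw [← hsθ, Finset.sum_mul]
      exact Fintype.sum_congr _ _ fun z => by
        rw [hres z, map_mul, map_natCast]; ring
    rw [h2, add_eq_left] at h1
    intro h hh
    have h3 : ∑ h ∈ Finset.univ.filter (· ∉ Z), Complex.normSq ((χ : H → ℂ) h) = 0 := by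
      simp only [Complex.mul_conj] at h1
      exact_mod_cast h1
    exact Complex.normSq_eq_zero.1
      ((Finset.sum_eq_zero_iff_of_nonneg fun _ _ => Complex.normSq_nonneg _).1 h3 h
        (Finset.mem_filter.2 ⟨Finset.mem_univ _, hh⟩))
  -- the preimage of `C` and an extension of `θ`
  obtain ⟨K, hK⟩ : ∃ K, K = C.comap (QuotientGroup.mk' Z) := ⟨_, rfl⟩
  have hZK : Z ≤ K := hK ▸ fun z hz => by
    rw [Subgroup.mem_comap, QuotientGroup.mk'_apply, (QuotientGroup.eq_one_iff z).2 hz]
    exact C.one_mem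
  have hmemK : ∀ h : H, h ∈ K ↔ (h : H ⧸ Z) ∈ C := fun h => hK ▸ Iff.rfl
  haveI : Fintype K := Fintype.ofFinite K
  letI : CommGroup C := IsCyclic.commGroup
  haveI : Fintype (C →* ℂˣ) := Fintype.ofFinite _
  let π : K →* C :=
    { toFun := fun k => ⟨((k : H) : H ⧸ Z), (hmemK k).1 k.2⟩
      map_one' := rfl
      map_mul' := fun _ _ => rfl }
  have hπ : Function.Surjective π := fun ⟨q, hq⟩ => by
    obtain ⟨h, rfl⟩ := QuotientGroup.mk_surjective q
    exact ⟨⟨h, (hmemK h).2 hq⟩, rfl⟩
  have hker : π.ker = Z.subgroupOf K := by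
    ext k
    rw [MonoidHom.mem_ker, Subgroup.mem_subgroupOf, ← QuotientGroup.eq_one_iff]
    exact ⟨congrArg Subtype.val, fun h => Subtype.ext h⟩
  have hcyc : IsCyclic (K ⧸ Z.subgroupOf K) :=
    isCyclic_of_surjective ((QuotientGroup.quotientMulEquivOfEq hker.symm).trans
      (QuotientGroup.quotientKerEquivOfSurjective π hπ)).symm
      ((QuotientGroup.quotientMulEquivOfEq hker.symm).trans
      (QuotientGroup.quotientKerEquivOfSurjective π hπ)).symm.surjective
  let eZ := Subgroup.subgroupOfEquivOfLe hZK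
  have hθ' : Cfsg.IsIrrCharacter (Z.subgroupOf K) (fun n => (θ : Z → ℂ) (eZ n)) :=
    IsIrrCharacter.comp θ.2 eZ.toMonoidHom eZ.surjective
  obtain ⟨d, σ, hσ, hσc⟩ := hθ'
  haveI := hσ
  have hinv : ∀ g : K, Cfsg.Agent.Char.conjChar (Z.subgroupOf K) g σ.character = σ.character := by
    intro g
    rw [hσc]
    funext n
    refine mul_left_cancel₀ he0 ?_
    rw [← hres, ← hres]
    exact IsCharacter.isClassFunction (IsIrrCharacter.isCharacter χ.2) ((n : K) : H) (g : H)
  obtain ⟨η, hη⟩ := Cfsg.Agent.CharExtend.exists_extension_of_cyclic σ hinv hcyc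
  obtain ⟨hφ, hφres⟩ := Cfsg.Agent.CharExtend.exists_char_of_rep hη
  obtain ⟨φ, hφdef⟩ : ∃ φ, φ = η.character := ⟨_, rfl⟩
  rw [← hφdef] at hφ hφres
  have hφZ : ∀ (k : K) (h : (k : H) ∈ Z), φ k = (θ : Z → ℂ) ⟨k, h⟩ := fun k h => by
    rw [hφres ⟨k, Subgroup.mem_subgroupOf.2 h⟩, hσc]; rfl
  obtain ⟨c, hc⟩ := hC.exists_generator
  have hc1 : c ≠ 1 := by
    rintro rfl
    have hbot : C = ⊥ := by
      refine (Subgroup.eq_bot_iff_forall C).2 fun q hq => ?_
      obtain ⟨k, hk⟩ := Subgroup.mem_zpowers_iff.1 (hc ⟨q, hq⟩)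
      rw [one_zpow] at hk
      exact (congrArg Subtype.val hk).symm
    refine hZ ((Subgroup.eq_top_iff' Z).2 fun h => (QuotientGroup.eq_one_iff h).1 ?_)
    have : (h : H ⧸ Z) ∈ Subgroup.centralizer (C : Set (H ⧸ Z)) :=
      Subgroup.mem_centralizer_iff.2 fun x hx => by
        rw [hbot] at hx
        rw [Subgroup.mem_bot.1 hx, one_mul, mul_one]
    rw [hcent, hbot] at this
    exact Subgroup.mem_bot.1 this
  -- the coset sums against restrictions
  have hZsum : ∀ F : H → ℂ, ∑ k : K, (if π k = 1 then F k else 0) = ∑ z : Z, F z := by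
    intro F
    rw [← Finset.sum_filter]
    refine Finset.sum_nbij' (fun k => if h : (k : H) ∈ Z then (⟨k, h⟩ : Z) else 1)
      (fun z => (⟨z, hZK z.2⟩ : K)) (fun k _ => Finset.mem_univ _) (fun z _ => ?_)
      (fun k hk => ?_) (fun z _ => ?_) fun k hk => ?_
    · refine Finset.mem_filter.2 ⟨Finset.mem_univ _, Subtype.ext ?_⟩
      exact (QuotientGroup.eq_one_iff (z : H)).2 z.2
    · have h : (k : H) ∈ Z :=
        (QuotientGroup.eq_one_iff (k : H)).1 (congrArg Subtype.val (Finset.mem_filter.1 hk).2)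
      simp [dif_pos h]
    · simp
    · have h : (k : H) ∈ Z :=
        (QuotientGroup.eq_one_iff (k : H)).1 (congrArg Subtype.val (Finset.mem_filter.1 hk).2)
      simp [dif_pos h]
  have hzero : ∀ ψ : IrrCharacter H, ψ ≠ χ →
      ∑ k ∈ Finset.univ.filter (fun k => π k = c), φ k * conj ((ψ : H → ℂ) k) = 0 := by
    intro ψ hψ
    have hψK : Cfsg.IsCharacter K (fun k : K => (ψ : H → ℂ) k) :=
      IsCharacter.restrict (IsIrrCharacter.isCharacter ψ.2) K
    choose m hm using fun f : C →* ℂˣ =>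
      IsCharacter.exists_classInner_nat (twist_isCharacter π f (IsIrrCharacter.isCharacter hφ)) hψK
    have hsum := sum_coset π (1 : C) (fun k => φ k * conj ((ψ : H → ℂ) k))
    have hz : ∑ k ∈ Finset.univ.filter (fun k => π k = 1), φ k * conj ((ψ : H → ℂ) k) = 0 := by
      have h0 := classInner_irr_of_ne χ.2 ψ.2 (fun h => hψ (Subtype.ext h.symm))
      rw [Cfsg.classInner, mul_eq_zero, or_iff_right
        (inv_ne_zero (Nat.cast_ne_zero.2 Nat.card_pos.ne')),
        ← Finset.sum_filter_of_ne (p := (· ∈ Z)) (fun h _ hne => by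
          by_contra hh; exact hne (by rw [hvan h hh, zero_mul])),
        Finset.sum_subtype (p := (· ∈ Z)) _ (fun h => by simp)] at h0
      simp only [hres, mul_assoc, ← Finset.mul_sum, mul_eq_zero, he0, false_or] at h0
      rw [← h0, Finset.sum_filter, ← hZsum (fun h => if hh : h ∈ Z then
        (θ : Z → ℂ) ⟨h, hh⟩ * conj ((ψ : H → ℂ) h) else 0) |>.trans (Fintype.sum_congr _ _ fun z =>
          by simp)]
      refine Fintype.sum_congr _ _ fun k => ?_
      by_cases hk : π k = 1
      · have h : (k : H) ∈ Z := (QuotientGroup.eq_one_iff (k : H)).1 (congrArg Subtype.val hk)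
        rw [if_pos hk, if_pos hk, dif_pos h, hφZ k h]
      · rw [if_neg hk, if_neg hk]
    have hm0 : ∀ f, m f = 0 := by
      have : (∑ f : C →* ℂˣ, m f : ℕ) = 0 := by
        rw [← Nat.cast_eq_zero (R := ℂ), Nat.cast_sum]
        rw [hz, mul_zero] at hsum
        simp only [inv_one, map_one, Units.val_one, one_mul] at hsum
        simp only [← hm, classInner_twist, ← Finset.mul_sum, hsum, mul_zero]
      exact fun f => Finset.sum_eq_zero_iff.1 this f (Finset.mem_univ _)
    have hc' := sum_coset π c (fun k => φ k * conj ((ψ : H → ℂ) k))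
    have hall : ∀ f : C →* ℂˣ, ∑ k : K, (f (π k) : ℂ) * (φ k * conj ((ψ : H → ℂ) k)) = 0 :=
      fun f => by
      have := hm f
      rw [hm0, Nat.cast_zero, classInner_twist] at this
      exact (mul_eq_zero.1 this).resolve_left (inv_ne_zero (Nat.cast_ne_zero.2 Nat.card_pos.ne'))
    simp only [hall, mul_zero, Finset.sum_const_zero] at hc'
    exact (mul_eq_zero.1 hc'.symm).resolve_left (Nat.cast_ne_zero.2 Nat.card_pos.ne')
  -- the averaged function
  let φ0 : H → ℂ := fun h =>
    if hh : h ∈ K then (if π ⟨h, hh⟩ = c then φ ⟨h, hh⟩ else 0) else 0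
  let F : H → ℂ := fun h => ∑ x : H, φ0 (x * h * x⁻¹)
  have hFc : Cfsg.IsClassFunction H F := fun h y =>
    Fintype.sum_equiv (Equiv.mulRight y) _ _ fun x => by
      simp only [Equiv.coe_mulRight]; congr 1; group
  have hφ0K : ∀ k : K, φ0 (k : H) = if π k = c then φ k else 0 := fun k => by
    simp only [φ0, dif_pos k.2, Subtype.coe_eta]
  have hφ0sum : ∀ G' : H → ℂ, ∑ h : H, φ0 h * G' h =
      ∑ k ∈ Finset.univ.filter (fun k => π k = c), φ k * G' k := by
    intro G'
    rw [← Finset.sum_filter_of_ne (p := (· ∈ K)) (fun h _ hne => by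
        by_contra hh; exact hne (by simp only [φ0, dif_neg hh, zero_mul])),
      Finset.sum_subtype (p := (· ∈ K)) _ (fun h => by simp), Finset.sum_filter]
    exact Fintype.sum_congr _ _ fun k => by rw [hφ0K, ite_mul, zero_mul]
  have hF0 : F = 0 := by
    refine eq_zero_of_orthogonal hFc fun ψ hψ => ?_
    rw [Cfsg.classInner]
    refine mul_eq_zero_of_right _ ?_
    simp only [F, Finset.sum_mul]
    rw [Finset.sum_comm]
    refine Finset.sum_eq_zero fun x _ => ?_
    refine Eq.trans (Fintype.sum_equiv (MulAut.conj x).toEquiv _ (fun h => φ0 h * conj (ψ h))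
      fun h => ?_) ?_
    · show φ0 (x * h * x⁻¹) * conj (ψ h) = φ0 (x * h * x⁻¹) * conj (ψ (x * h * x⁻¹))
      rw [IsCharacter.isClassFunction (IsIrrCharacter.isCharacter hψ) h x]
    rw [hφ0sum]
    by_cases hψχ : (⟨ψ, hψ⟩ : IrrCharacter H) = χ
    · refine Finset.sum_eq_zero fun k hk => ?_
      have : (k : H) ∉ Z := fun h => hc1 (by
        rw [← (Finset.mem_filter.1 hk).2]
        exact Subtype.ext ((QuotientGroup.eq_one_iff (k : H)).2 h))
      rw [show ψ = (χ : H → ℂ) from congrArg Subtype.val hψχ, hvan _ this, map_zero, mul_zero]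
    · exact hzero ⟨ψ, hψ⟩ hψχ
  -- but it is a positive multiple of the extension on the coset
  have hφc : ∀ k : K, π k = c → φ k = 0 := by
    intro k hk
    have h0 : F (k : H) = 0 := congrFun hF0 _
    have hout : ∀ x : H, x ∉ K → φ0 (x * k * x⁻¹) = 0 := by
      intro x hx
      by_contra hne
      refine hx ((hmemK x).2 ?_)
      rw [← hcent, Subgroup.mem_centralizer_iff]
      have hcomm : (x : H ⧸ Z) * (c : H ⧸ Z) = (c : H ⧸ Z) * (x : H ⧸ Z) := by
        simp only [φ0] at hne
        split_ifs at hne with h1 h2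
        · have e : ((x * k * x⁻¹ : H) : H ⧸ Z) = (c : H ⧸ Z) := congrArg Subtype.val h2
          have e' : ((k : H) : H ⧸ Z) = (c : H ⧸ Z) := congrArg Subtype.val hk
          rw [QuotientGroup.mk_mul, QuotientGroup.mk_mul, QuotientGroup.mk_inv, e',
            mul_inv_eq_iff_eq_mul] at e
          exact e
        · exact absurd rfl hne
        · exact absurd rfl hne
      intro q hq
      obtain ⟨j, hj⟩ := Subgroup.mem_zpowers_iff.1 (hc ⟨q, hq⟩)
      rw [show q = (c : H ⧸ Z) ^ j from (congrArg Subtype.val hj).symm]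
      exact ((Commute.zpow_right hcomm j).eq).symm
    have hin : ∀ x : H, x ∈ K → φ0 (x * k * x⁻¹) = φ k := by
      intro x hx
      have e : x * k * x⁻¹ = ((⟨x, hx⟩ * k * ⟨x, hx⟩⁻¹ : K) : H) := rfl
      rw [e, hφ0K, if_pos (by rw [map_mul, map_mul, mul_comm (π ⟨x, hx⟩), mul_assoc,
        ← map_mul π ⟨x, hx⟩, mul_inv_cancel, map_one, mul_one, hk]),
        IsCharacter.isClassFunction (IsIrrCharacter.isCharacter hφ)]
    have : F (k : H) = (Finset.univ.filter (· ∈ K)).card • φ k := by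
      show ∑ x : H, φ0 (x * k * x⁻¹) = _
      rw [← Finset.sum_filter_add_sum_filter_not Finset.univ (· ∈ K),
        Finset.sum_congr rfl (g := fun _ => φ k) (fun x hx => hin x (Finset.mem_filter.1 hx).2),
        Finset.sum_congr rfl (g := fun _ => (0 : ℂ)) (fun x hx => hout x (Finset.mem_filter.1 hx).2),
        Finset.sum_const_zero, add_zero, Finset.sum_const]
    rw [this, nsmul_eq_mul] at h0
    refine (mul_eq_zero.1 h0).resolve_left (Nat.cast_ne_zero.2 (Finset.card_pos.2 ?_).ne')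
    exact ⟨1, Finset.mem_filter.2 ⟨Finset.mem_univ _, K.one_mem⟩⟩
  -- norm contradiction
  choose m hm using fun f : C →* ℂˣ =>
    IsCharacter.exists_classInner_nat (twist_isCharacter π f (IsIrrCharacter.isCharacter hφ))
      (IsIrrCharacter.isCharacter hφ)
  have hm1 : m 1 = 1 := by
    rw [← Nat.cast_inj (R := ℂ), ← hm, Nat.cast_one]
    simpa using classInner_self_irr hφ
  have hKC : (Nat.card K : ℂ) = (Nat.card C : ℂ) * (Nat.card Z : ℂ) := by
    rw [← Nat.cast_mul, Nat.cast_inj, ← (Z.subgroupOf K).card_mul_index,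
      Nat.card_congr eZ.toEquiv, ← hker, Subgroup.index_ker,
      Nat.card_congr (Equiv.ofBijective π.range.subtype ⟨π.range.subtype_injective, fun q => by
        obtain ⟨k, rfl⟩ := hπ q
        exact ⟨⟨π k, k, rfl⟩, rfl⟩⟩), mul_comm]
  have hsum1 : (∑ f : C →* ℂˣ, m f : ℕ) = 1 := by
    have h := sum_coset π (1 : C) (fun k => φ k * conj (φ k))
    simp only [inv_one, map_one, Units.val_one, one_mul] at h
    have hz : ∑ k ∈ Finset.univ.filter (fun k => π k = 1), φ k * conj (φ k) = (Nat.card Z : ℂ) := by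
      rw [← hsθ, Finset.sum_filter, ← hZsum (fun h => if hh : h ∈ Z then
        (θ : Z → ℂ) ⟨h, hh⟩ * conj ((θ : Z → ℂ) ⟨h, hh⟩) else 0) |>.trans
          (Fintype.sum_congr _ _ fun z => by simp)]
      refine Fintype.sum_congr _ _ fun k => ?_
      by_cases hk : π k = 1
      · have h : (k : H) ∈ Z := (QuotientGroup.eq_one_iff (k : H)).1 (congrArg Subtype.val hk)
        rw [if_pos hk, if_pos hk, dif_pos h, hφZ k h]
      · rw [if_neg hk, if_neg hk]
    rw [hz, ← hKC] at h
    rw [← Nat.cast_inj (R := ℂ), Nat.cast_sum, Nat.cast_one]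
    simp only [← hm, classInner_twist, ← Finset.mul_sum, h]
    exact inv_mul_cancel₀ (Nat.cast_ne_zero.2 Nat.card_pos.ne')
  have hmf : ∀ f : C →* ℂˣ, f ≠ 1 → m f = 0 := fun f hf => by
    have h := Finset.add_sum_erase Finset.univ m (Finset.mem_univ (1 : C →* ℂˣ))
    rw [hsum1, hm1] at h
    exact Finset.sum_eq_zero_iff.1 (by omega : ∑ g ∈ Finset.univ.erase (1 : C →* ℂˣ), m g = 0) f
      (Finset.mem_erase.2 ⟨hf, Finset.mem_univ _⟩)
  have h := sum_coset π c (fun k => φ k * conj (φ k))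
  rw [Finset.sum_eq_single (1 : C →* ℂˣ) (fun f _ hf => by
      have := hm f
      rw [hmf f hf, Nat.cast_zero, classInner_twist] at this
      rw [(mul_eq_zero.1 this).resolve_left (inv_ne_zero (Nat.cast_ne_zero.2 Nat.card_pos.ne')),
        mul_zero]) (fun h => absurd (Finset.mem_univ _) h),
    Finset.sum_eq_zero (s := Finset.univ.filter (fun k => π k = c)) (fun k hk => by
      rw [hφc k (Finset.mem_filter.1 hk).2, zero_mul]), mul_zero] at h
  have h' := classInner_self_irr hφ
  rw [Cfsg.classInner] at h'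
  simp only [MonoidHom.one_apply, Units.val_one, one_mul] at h
  rw [h, mul_zero] at h'
  exact zero_ne_one h'

end Cfsg.Agent.S4565
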