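import Cfsg.Statements.S4566
import Cfsg.Agent.Lib.Char.Integral

set_option autoImplicit false
open Cfsg

namespace Cfsg.Agent.S4566

/-- Let N be a central subgroup of the finite group G, ψ a faithful irreducible (hence degree-one) character of N, and χ an irreducible character of G whose restriction to N contains ψ. If g ∈ G and some x ∈ G has commutator x⁻¹ g⁻¹ x g in N but different from 1, then χ g = 0. -/
theorem result {G : Type*} [Group G] [Fintype G] (N : Subgroup G) [Fintype N] (hN : N ≤ Subgroup.center G) (ψ : Cfsg.IrrCharacter ↥N) (hfaith : ∀ n : ↥N, (ψ : ↥N → ℂ) n = (ψ : ↥N → ℂ) 1 → n = 1) (χ : Cfsg.IrrCharacter G) (hover : Cfsg.classInner (fun n : ↥N => (χ : G → ℂ) n) (ψ : ↥N → ℂ) ≠ 0) (g x : G) (hcomm : x⁻¹ * g⁻¹ * x * g ∈ N) (hne : x⁻¹ * g⁻¹ * x * g ≠ 1) : (χ : G → ℂ) g = 0 := by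
  obtain ⟨n, ρ, hρ, hχ⟩ := χ.2
  have hc : ∀ z : N, ∃ c : ℂ, ρ z = c • LinearMap.id := fun z =>
    Char.schur_scalar ρ (ρ z) fun h v => by
      rw [← Module.End.mul_apply, ← map_mul, ← Module.End.mul_apply, ← map_mul,
        Subgroup.mem_center_iff.mp (hN z.2) h]
  choose lam hlam using hc
  have hd : (χ : G → ℂ) 1 ≠ 0 := Char.IsIrrCharacter.one_ne_zero χ.2
  have hmul : ∀ (z : N) (h : G), (χ : G → ℂ) (z * h) = lam z * (χ : G → ℂ) h := by
    intro z h
    rw [← hχ]
    simp only [Representation.character, map_mul, hlam]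
    rw [show (lam z • (LinearMap.id : (Fin n → ℂ) →ₗ[ℂ] _)) * ρ h = lam z • ρ h by
      ext v; simp, map_smul, smul_eq_mul]
  have hlam1 : lam 1 = 1 := by
    have := hmul 1 1
    simp only [OneMemClass.coe_one, mul_one] at this
    exact mul_right_cancel₀ hd (by rw [one_mul]; exact this.symm)
  let f : N →* ℂ :=
    { toFun := lam
      map_one' := hlam1
      map_mul' := fun a b => by
        have h1 := hmul (a * b) 1
        rw [Subgroup.coe_mul, mul_one, hmul, show (χ : G → ℂ) b = lam b * (χ : G → ℂ) 1 by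
          simpa using hmul b 1] at h1
        exact mul_right_cancel₀ hd (by rw [← h1, mul_assoc]) }
  have hψ : (ψ : N → ℂ) = fun z => lam z := by
    by_contra hne
    apply hover
    have hlin : Cfsg.IsIrrCharacter N (fun z => lam z) := Char.isIrrCharacter_linear f.toHomUnits
    have e : (fun z : N => (χ : G → ℂ) z) = (χ : G → ℂ) 1 • (fun z => lam z) := by
      funext z
      have := hmul z 1
      rw [mul_one] at this
      rw [Pi.smul_apply, smul_eq_mul, this, mul_comm]
    rw [e, Char.classInner_smul_left, Char.classInner_irr_of_ne hlin ψ.2 (Ne.symm hne), mul_zero]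
  set c : N := ⟨x⁻¹ * g⁻¹ * x * g, hcomm⟩ with hcdef
  have hconj : (χ : G → ℂ) (x⁻¹ * g * x⁻¹⁻¹) = (χ : G → ℂ) g :=
    Char.IsCharacter.isClassFunction (Char.IsIrrCharacter.isCharacter χ.2) g x⁻¹
  have e : x⁻¹ * g * x⁻¹⁻¹ = ((c⁻¹ : N) : G) * g := by
    have hc' := Subgroup.mem_center_iff.mp (hN (c⁻¹).2) g
    rw [← hc', hcdef]
    simp [mul_assoc]
  rw [e, hmul] at hconj
  by_contra hg
  have hl : lam c⁻¹ = 1 := mul_right_cancel₀ hg (by rw [one_mul]; exact hconj)
  have := hfaith c⁻¹ (by rw [hψ]; simp only; rw [hl, hlam1])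
  rw [inv_eq_one] at this
  exact hne (congrArg Subtype.val this)

end Cfsg.Agent.S4566
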