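import Cfsg.Statements.S4567
import Cfsg.Agent.Lib.Char.DegreeCenter
import Cfsg.Agent.Lib.Char.Complete
import Cfsg.Agent.Lib.Char.Degree

set_option autoImplicit false
set_option linter.style.haveILetI false
open Cfsg

namespace Cfsg.Agent.S4567

open Cfsg.Agent.Char
open scoped ComplexConjugate

universe u

variable {G : Type u} [Group G]

theorem exists_hom_central [Finite G] {χ : G → ℂ} (h : Cfsg.IsIrrCharacter G χ) (N : Subgroup G)
    (hN : N ≤ Subgroup.center G) :
    ∃ c : N →* ℂˣ, ∀ (n : N) (g : G), χ (g * n) = (c n : ℂ) * χ g := by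
  choose c hc using fun n : N => IsIrrCharacter.exists_central_scalar h (hN n.2)
  have h1 := IsIrrCharacter.one_ne_zero h
  have hone : c 1 = 1 := ((hc 1).2.2).2 rfl
  have hmul : ∀ a b : N, c (a * b) = c a * c b := fun a b => by
    refine mul_right_cancel₀ h1 ?_
    rw [mul_assoc, ← (hc _).2.1, ← (hc b).2.1, ← (hc a).2.1, Subgroup.coe_mul, mul_assoc]
  let f : N →* ℂ := { toFun := c, map_one' := hone, map_mul' := hmul }
  refine ⟨f.toHomUnits, fun n g => ?_⟩
  show χ (g * n) = c n * χ g
  rw [Subgroup.mem_center_iff.1 (hN n.2) g, (hc n).2.1]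

/-- A coset is special when commuting modulo `N` means commuting. -/
def Spec (N : Subgroup G) [N.Normal] (g : G) : Prop :=
  ∀ x : G, Commute (x : G ⧸ N) (g : G ⧸ N) → Commute x g

theorem spec_conj {N : Subgroup G} [N.Normal] (hN : N ≤ Subgroup.center G) {g g' : G}
    (hg : Spec N g) (h : IsConj (g : G ⧸ N) (g' : G ⧸ N)) : Spec N g' := by
  obtain ⟨q, hq⟩ := isConj_iff.1 h
  obtain ⟨y, rfl⟩ := QuotientGroup.mk_surjective q
  obtain ⟨n, hn, rfl⟩ : ∃ n ∈ N, y * g * y⁻¹ * n = g' :=
    ⟨(y * g * y⁻¹)⁻¹ * g', QuotientGroup.eq.1 hq, mul_inv_cancel_left _ _⟩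
  intro x hx
  have hx' : Commute ((y⁻¹ * x * y : G) : G ⧸ N) (g : G ⧸ N) := by
    rw [QuotientGroup.mk_mul, (QuotientGroup.eq_one_iff n).2 hn, mul_one] at hx
    have e := congrArg (fun z : G ⧸ N => (y : G ⧸ N)⁻¹ * z * (y : G ⧸ N)) hx.eq
    show ((y⁻¹ * x * y : G) : G ⧸ N) * (g : G ⧸ N) = (g : G ⧸ N) * ((y⁻¹ * x * y : G) : G ⧸ N)
    simp only [QuotientGroup.mk_mul, QuotientGroup.mk_inv] at e ⊢
    simpa [mul_assoc] using e
  have e := congrArg (fun z : G => y * z * y⁻¹) (hg _ hx').eq
  refine Commute.mul_right ?_ (Subgroup.mem_center_iff.1 (hN hn) x)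
  show x * (y * g * y⁻¹) = y * g * y⁻¹ * x
  simpa [mul_assoc] using e

/-- Let N be a central subgroup of the finite group G and ψ a faithful irreducible (hence degree-one) character of N. Call a coset g N special when every x ∈ G whose commutator x⁻¹ g⁻¹ x g lies in N actually commutes with g (this depends only on the coset). Then the number of irreducible characters of G whose restriction to N contains ψ equals the number of conjugacy classes of G/N consisting of special cosets. -/
theorem result {G : Type*} [Group G] [Fintype G] (N : Subgroup G) [N.Normal] [Fintype N] (hN : N ≤ Subgroup.center G) (ψ : Cfsg.IrrCharacter ↥N) (hfaith : ∀ n : ↥N, (ψ : ↥N → ℂ) n = (ψ : ↥N → ℂ) 1 → n = 1) : Nat.card {χ : Cfsg.IrrCharacter G // Cfsg.classInner (fun n : ↥N => (χ : G → ℂ) n) (ψ : ↥N → ℂ) ≠ 0} = Nat.card {C : ConjClasses (G ⧸ N) // ∃ g : G, ConjClasses.mk (g : G ⧸ N) = C ∧ ∀ x : G, x⁻¹ * g⁻¹ * x * g ∈ N → x * g = g * x} := by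
  classical
  -- `ψ` is linear
  obtain ⟨c₀, hc₀⟩ := exists_hom_central ψ.2 ⊤ (fun n _ => Subgroup.mem_center_iff.2 fun m =>
    Subtype.ext (Subgroup.mem_center_iff.1 (hN n.2) m))
  have hval : ∀ n : N, (ψ : N → ℂ) n = (c₀ ⟨n, Subgroup.mem_top n⟩ : ℂ) * (ψ : N → ℂ) 1 := fun n => by
    simpa using hc₀ ⟨n, Subgroup.mem_top n⟩ 1
  have hψ1 : (ψ : N → ℂ) 1 = 1 := by
    have h := classInner_self_irr ψ.2
    have hu : ∀ n : N, (c₀ ⟨n, Subgroup.mem_top n⟩ : ℂ) * conj (c₀ ⟨n, Subgroup.mem_top n⟩ : ℂ) = 1 := fun n => by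
      rw [Complex.mul_conj', norm_eq_one_of_pow (m := Nat.card (⊤ : Subgroup N))
        Nat.card_pos.ne' (by rw [← Units.val_pow_eq_pow_val, ← map_pow, pow_card_eq_one',
          map_one, Units.val_one])]
      norm_num
    have hd : conj ((ψ : N → ℂ) 1) = (ψ : N → ℂ) 1 := by
      rw [Cfsg.Agent.CharX.irr_deg ψ, map_natCast]
    rw [show (ψ : N → ℂ) = fun n => (c₀ ⟨n, Subgroup.mem_top n⟩ : ℂ) * (ψ : N → ℂ) 1 from funext hval] at h
    simp only [Cfsg.classInner] at h
    simp only [map_mul, hd] at h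
    rw [Finset.sum_congr rfl (g := fun _ => (ψ : N → ℂ) 1 * (ψ : N → ℂ) 1) (fun n _ => by
        rw [mul_mul_mul_comm, hu, one_mul]), Finset.sum_const, Finset.card_univ, nsmul_eq_mul,
      ← Nat.card_eq_fintype_card] at h
    rw [← mul_assoc, inv_mul_cancel₀ (Nat.cast_ne_zero.2 Nat.card_pos.ne'), one_mul,
      Cfsg.Agent.CharX.irr_deg ψ, ← Nat.cast_mul] at h
    rw [Cfsg.Agent.CharX.irr_deg ψ, Nat.eq_one_of_mul_eq_one_left (Nat.cast_eq_one.1 h),
      Nat.cast_one]
  obtain ⟨φ, hφ⟩ := exists_hom_of_degree_one (IsIrrCharacter.isCharacter ψ.2) hψ1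
  have hinjφ : ∀ n : N, φ n = 1 → n = 1 := fun n h => hfaith n (by simp [hφ, h])
  -- the characters over `ψ`
  have hover : ∀ χ : IrrCharacter G,
      Cfsg.classInner (fun n : N => (χ : G → ℂ) n) (ψ : N → ℂ) ≠ 0 ↔
      ∀ (n : N) (g : G), (χ : G → ℂ) (g * n) = (φ n : ℂ) * (χ : G → ℂ) g := by
    intro χ
    obtain ⟨c, hc⟩ := exists_hom_central χ.2 N hN
    have hr : (fun n : N => (χ : G → ℂ) n) = (χ : G → ℂ) 1 • fun n : N => (c n : ℂ) := by
      funext n
      have := hc n 1
      rw [one_mul] at this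
      simp [this, mul_comm]
    have h1 := IsIrrCharacter.one_ne_zero χ.2
    rw [hr, classInner_smul_left, hφ, classInner_irr (isIrrCharacter_linear c) (isIrrCharacter_linear φ)]
    constructor
    · intro h n g
      by_cases e : (fun n : N => (c n : ℂ)) = fun n => (φ n : ℂ)
      · rw [hc, congrFun e n]
      · simp [e] at h
    · intro h
      have e : (fun n : N => (c n : ℂ)) = fun n => (φ n : ℂ) := funext fun n =>
        mul_right_cancel₀ h1 ((hc n 1).symm.trans (h n 1))
      simp [e, h1]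
  -- special classes
  have hspec : ∀ g : G, (∀ x : G, x⁻¹ * g⁻¹ * x * g ∈ N → x * g = g * x) ↔ Spec N g := by
    intro g
    refine forall_congr' fun x => imp_congr ?_ Iff.rfl
    rw [← QuotientGroup.eq_one_iff, commute_iff_eq]
    simp only [QuotientGroup.mk_mul, QuotientGroup.mk_inv]
    constructor <;> intro h
    · have := congrArg (fun z : G ⧸ N => (g : G ⧸ N) * (x : G ⧸ N) * z) h
      simpa [mul_assoc] using this
    · rw [mul_assoc, h]; group
  simp only [hspec]
  set Ov := {χ : IrrCharacter G // Cfsg.classInner (fun n : N => (χ : G → ℂ) n) (ψ : N → ℂ) ≠ 0}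
  set Sp := {C : ConjClasses (G ⧸ N) // ∃ g : G, ConjClasses.mk (g : G ⧸ N) = C ∧ Spec N g}
  haveI : Fintype Ov := Fintype.ofFinite _
  haveI : Finite (ConjClasses (G ⧸ N)) :=
    Finite.of_surjective ConjClasses.mk ConjClasses.mk_surjective
  haveI : Fintype Sp := Fintype.ofFinite _
  choose r hr hrs using fun C : Sp => C.2
  let comb : (Ov → ℂ) → G → ℂ := fun c => ∑ χ : Ov, c χ • ((χ.1 : IrrCharacter G) : G → ℂ)
  have hcl : ∀ c, Cfsg.IsClassFunction G (comb c) := fun c x y => by
    simp only [comb, Finset.sum_apply, Pi.smul_apply]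
    exact Finset.sum_congr rfl fun χ _ => by
      rw [IsCharacter.isClassFunction (IsIrrCharacter.isCharacter χ.1.2) x y]
  have heq : ∀ c (n : N) (g : G), comb c (g * n) = (φ n : ℂ) * comb c g := fun c n g => by
    simp only [comb, Finset.sum_apply, Pi.smul_apply, smul_eq_mul, Finset.mul_sum]
    exact Finset.sum_congr rfl fun χ _ => by rw [(hover χ.1).1 χ.2 n g]; ring
  let Φ : (Ov → ℂ) →ₗ[ℂ] (Sp → ℂ) :=
    { toFun := fun c C => comb c (r C)
      map_add' := fun c d => by funext C; simp [comb, add_mul, Finset.sum_add_distrib]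
      map_smul' := fun t c => by funext C; simp [comb, Finset.mul_sum, mul_assoc] }
  -- every element is a conjugate of a representative times an element of `N`, if special
  have hform : ∀ g : G, Spec N g →
      ∃ (C : Sp) (y : G) (n : N), g = y * r C * y⁻¹ * n := by
    intro g hg
    refine ⟨⟨ConjClasses.mk (g : G ⧸ N), g, rfl, hg⟩, ?_⟩
    obtain ⟨q, hq⟩ := isConj_iff.1 (ConjClasses.mk_eq_mk_iff_isConj.1
      (hr ⟨ConjClasses.mk (g : G ⧸ N), g, rfl, hg⟩))
    obtain ⟨y, rfl⟩ := QuotientGroup.mk_surjective q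
    exact ⟨y, ⟨_, QuotientGroup.eq.1 hq⟩, (mul_inv_cancel_left _ _).symm⟩
  choose fC fy fn hfeq using hform
  have hinj : Function.Injective Φ := by
    intro c d hcd
    have hv : comb c = comb d := by
      funext g
      by_cases hg : Spec N g
      · rw [hfeq g hg, heq, heq, hcl, hcl]
        exact congrArg _ (congrFun hcd _)
      · simp only [Spec, not_forall] at hg
        obtain ⟨x, hx, hne⟩ := hg
        have hm : g⁻¹ * (x * g * x⁻¹) ∈ N := by
          rw [← QuotientGroup.eq_one_iff]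
          simp only [QuotientGroup.mk_mul, QuotientGroup.mk_inv]
          rw [hx.eq]; group
        have hn1 : (φ ⟨_, hm⟩ : ℂ) ≠ 1 := fun h => hne (by
          have e : g⁻¹ * (x * g * x⁻¹) = 1 :=
            congrArg Subtype.val (hinjφ ⟨_, hm⟩ (Units.ext h))
          rw [inv_mul_eq_one] at e
          show x * g = g * x
          conv_rhs => rw [e]
          group)
        have hz : ∀ c, comb c g = 0 := fun c => by
          have e := heq c ⟨_, hm⟩ g
          rw [mul_inv_cancel_left, hcl c g x] at e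
          exact (mul_eq_zero.1 (show ((φ ⟨_, hm⟩ : ℂ) - 1) * comb c g = 0 by
            rw [sub_mul, ← e, one_mul, sub_self])).resolve_left (sub_ne_zero.2 hn1)
        rw [hz, hz]
    funext χ
    have := congrArg (fun f => Cfsg.classInner f ((χ.1 : IrrCharacter G) : G → ℂ)) hv
    simp only [comb, classInner_sum_left, classInner_smul_left,
      classInner_irr (Subtype.prop _) χ.1.2] at this
    have hiff : ∀ i : Ov, ((i.1 : IrrCharacter G) : G → ℂ) = ((χ.1 : IrrCharacter G) : G → ℂ) ↔ i = χ :=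
      fun i => ⟨fun e => Subtype.ext (Subtype.ext e), fun e => e ▸ rfl⟩
    simp only [mul_ite, mul_one, mul_zero] at this
    rw [Finset.sum_eq_single χ (fun i _ hi => if_neg fun e => hi ((hiff i).1 e))
      (fun h => absurd (Finset.mem_univ _) h), Finset.sum_eq_single χ
      (fun i _ hi => if_neg fun e => hi ((hiff i).1 e))
      (fun h => absurd (Finset.mem_univ _) h), if_pos rfl, if_pos rfl] at this
    exact this
  have hsurj : Function.Surjective Φ := by
    intro F
    let f : G → ℂ := fun g => if hg : Spec N g then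
      (φ (fn g hg) : ℂ) * F (fC g hg) else 0
    -- well-definedness
    have huniq : ∀ {C C' : Sp} {y y' : G} {n n' : N},
        y * r C * y⁻¹ * (n : G) = y' * r C' * y'⁻¹ * (n' : G) → C = C' ∧ n = n' := by
      intro C C' y y' n n' e
      have e' : (y : G ⧸ N) * (r C : G ⧸ N) * (y : G ⧸ N)⁻¹ =
          (y' : G ⧸ N) * (r C' : G ⧸ N) * (y' : G ⧸ N)⁻¹ := by
        have := congrArg (fun z : G => (z : G ⧸ N)) e
        simpa [(QuotientGroup.eq_one_iff (n : G)).2 n.2, (QuotientGroup.eq_one_iff (n' : G)).2 n'.2]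
          using this
      have hC : C = C' := by
        refine Subtype.ext ?_
        rw [← hr C, ← hr C', ConjClasses.mk_eq_mk_iff_isConj]
        refine (isConj_iff.2 ⟨(y : G ⧸ N), rfl⟩).trans ?_
        rw [e']
        exact (isConj_iff.2 ⟨_, rfl⟩).symm
      subst hC
      refine ⟨rfl, ?_⟩
      have hc : Commute ((y'⁻¹ * y : G) : G ⧸ N) (r C : G ⧸ N) := by
        have := congrArg (fun z : G ⧸ N => (y' : G ⧸ N)⁻¹ * z * (y : G ⧸ N)) e'
        show _ = _
        simp only [QuotientGroup.mk_mul, QuotientGroup.mk_inv] at this ⊢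
        simpa [mul_assoc] using this
      have e2 : y * r C * y⁻¹ = y' * r C * y'⁻¹ := by
        have := congrArg (fun z : G => y' * z * y⁻¹) (hrs C _ hc).eq
        simpa [mul_assoc] using this
      rw [e2] at e
      exact Subtype.ext (mul_left_cancel e)
    have hf : ∀ (C : Sp) (y : G) (n : N), f (y * r C * y⁻¹ * n) = (φ n : ℂ) * F C := by
      intro C y n
      have hs : Spec N (y * r C * y⁻¹ * n) := spec_conj hN (hrs C) (isConj_iff.2 ⟨(y : G ⧸ N), by
        simp [(QuotientGroup.eq_one_iff (n : G)).2 n.2]⟩)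
      simp only [f, dif_pos hs]
      obtain ⟨h1, h2⟩ := huniq (hfeq _ hs)
      rw [← h1, ← h2]
    have hf0 : ∀ g, ¬ Spec N g → f g = 0 := fun g hg => by simp only [f, dif_neg hg]
    have hfe : ∀ (g : G) (m : N), f (g * m) = (φ m : ℂ) * f g := by
      intro g m
      by_cases hg : Spec N g
      · rw [hfeq g hg, mul_assoc, ← Subgroup.coe_mul, hf, hf, map_mul, Units.val_mul]; ring
      · rw [hf0 _ hg, mul_zero, hf0]
        intro h
        refine hg (spec_conj hN h ?_)
        rw [QuotientGroup.mk_mul, (QuotientGroup.eq_one_iff (m : G)).2 m.2, mul_one]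
    have hfc : Cfsg.IsClassFunction G f := by
      intro g x
      by_cases hg : Spec N g
      · have key : ∀ (C : Sp) (y : G) (n : N),
            f (x * (y * r C * y⁻¹ * n) * x⁻¹) = f (y * r C * y⁻¹ * n) := fun C y n => by
          rw [show x * (y * r C * y⁻¹ * n) * x⁻¹ = (x * y) * r C * (x * y)⁻¹ * n by
            rw [show x * (y * r C * y⁻¹ * n) * x⁻¹ = x * (y * r C * y⁻¹) * (n * x⁻¹) by group,
              ← Subgroup.mem_center_iff.1 (hN n.2) x⁻¹]
            group, hf, hf]
        rw [hfeq g hg]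
        exact key _ _ _
      · rw [hf0 _ hg, hf0]
        intro h
        refine hg (spec_conj hN h (isConj_iff.2 ⟨(x : G ⧸ N)⁻¹, ?_⟩))
        simp only [QuotientGroup.mk_mul, QuotientGroup.mk_inv]
        group
    have hzero : ∀ χ : IrrCharacter G,
        ¬ Cfsg.classInner (fun n : N => (χ : G → ℂ) n) (ψ : N → ℂ) ≠ 0 →
        Cfsg.classInner f (χ : G → ℂ) = 0 := by
      intro χ hχ
      obtain ⟨c, hc⟩ := exists_hom_central χ.2 N hN
      by_contra hne
      refine hχ ((hover χ).2 fun n g => ?_)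
      rw [hc]
      congr 1
      have key : Cfsg.classInner f (χ : G → ℂ) =
          ((φ n : ℂ) * conj (c n : ℂ)) * Cfsg.classInner f (χ : G → ℂ) := by
        unfold Cfsg.classInner
        rw [mul_left_comm]
        congr 1
        rw [Finset.mul_sum]
        refine (Fintype.sum_equiv (Equiv.mulRight (n : G)) _ _ fun g => ?_).symm
        simp only [Equiv.coe_mulRight, hfe, hc, map_mul]; ring
      have hk : (φ n : ℂ) * conj (c n : ℂ) = 1 :=
        mul_right_cancel₀ hne (key.symm.trans (one_mul _).symm)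
      have hn1 : (c n : ℂ) * conj (c n : ℂ) = 1 := by
        rw [Complex.mul_conj', norm_eq_one_of_pow (m := Nat.card N) Nat.card_pos.ne'
          (by rw [← Units.val_pow_eq_pow_val, ← map_pow, pow_card_eq_one', map_one, Units.val_one])]
        norm_num
      exact mul_right_cancel₀ (right_ne_zero_of_mul_eq_one hn1) (hn1.trans hk.symm)
    refine ⟨fun χ => Cfsg.classInner f ((χ.1 : IrrCharacter G) : G → ℂ), funext fun C => ?_⟩
    show comb _ (r C) = F C
    have hfs := congrFun (classFunction_eq_sum hfc) (r C)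
    simp only [comb, Finset.sum_apply, Pi.smul_apply] at hfs ⊢
    rw [← Finset.sum_filter_of_ne (p := fun χ : IrrCharacter G =>
        Cfsg.classInner (fun n : N => (χ : G → ℂ) n) (ψ : N → ℂ) ≠ 0) (fun χ _ h => by
          intro e
          exact h (by rw [hzero χ (not_not_intro e), zero_smul])),
      Finset.sum_subtype (p := fun χ : IrrCharacter G =>
        Cfsg.classInner (fun n : N => (χ : G → ℂ) n) (ψ : N → ℂ) ≠ 0) _ (fun χ => by simp)] at hfs
    have h1 := hf C 1 1
    simp only [Subgroup.coe_one, one_mul, inv_one, mul_one, map_one, Units.val_one] at h1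
    rw [← h1, hfs]
  have := (LinearEquiv.ofBijective Φ ⟨hinj, hsurj⟩).finrank_eq
  simpa [Nat.card_eq_fintype_card] using this

end Cfsg.Agent.S4567
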