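import Cfsg.Statements.S4570
import Cfsg.Agent.Lib.Blocks.RegularOrbit.Counts
-- import your own Cfsg.Agent.* helpers here

set_option autoImplicit false
open Cfsg

namespace Cfsg.Agent.S4570

/-- Let G be a finite group with a commutative Sylow 2-subgroup P and M a maximal ideal of the algebraic integers containing 2, and suppose some involution x of G has the property that the principal 2-block of its centralizer has 2-regular rank one. If P has order 8 then the principal 2-block of G contains exactly 8 irreducible characters, and if P has order 16 it contains 8 or 16. -/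
theorem result {G : Type*} [Group G] [Finite G] (M : Ideal Cfsg.AlgInt) (hM : Cfsg.IsPModular 2 M) (P : Sylow 2 G) (hab : IsMulCommutative P) (x : G) (hx : orderOf x = 2) (hl : Cfsg.blockRank 2 (Cfsg.principalBlock M ↥(Subgroup.centralizer ({x} : Set G))) = 1) : (Nat.card P = 8 → Nat.card (Cfsg.principalBlock M G) = 8) ∧ (Nat.card P = 16 → Nat.card (Cfsg.principalBlock M G) = 8 ∨ Nat.card (Cfsg.principalBlock M G) = 16) := by
  haveI : M.IsPrime := hM.2.1.isPrime
  haveI : Fintype G := Fintype.ofFinite G
  haveI : Fact (Nat.Prime 2) := ⟨Nat.prime_two⟩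
  classical
  obtain ⟨k, hk⟩ : ∃ k, orderOf x = 2 ^ k := ⟨1, hx⟩
  obtain ⟨v, hv, hconj⟩ := Cfsg.Agent.RegularOrbit.conj_into (P := P) ⟨k, hk⟩
  obtain ⟨g, rfl⟩ := isConj_iff.1 hconj
  haveI : Fintype (Subgroup.centralizer ({x} : Set G)) := Fintype.ofFinite _
  have hnp := (Cfsg.Agent.BrauerPairs.pNilpotent_iff_nilpotent_principal hM).2
    ((Cfsg.Agent.S4646.result 2 M hM).2 hl)
  refine Cfsg.Agent.RegularOrbit.counts hM (x := g * x * g⁻¹)
    ⟨fun a ha b hb => congrArg Subtype.val (hab.is_comm.comm ⟨a, ha⟩ ⟨b, hb⟩), hv,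
      by rw [← hx, ← MulAut.conj_apply, MulEquiv.orderOf_eq],
      Cfsg.Agent.RegularOrbit.stab_of_nilpotent hnp hab hv⟩

end Cfsg.Agent.S4570
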