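import Cfsg.Statements.S4573
import Cfsg.Agent.Lib.Char.Monomial
import Cfsg.Agent.Lib.Char.Gallagher
import Cfsg.Agent.Lib.Char.Orbit
import Cfsg.Agent.Lib.Char.ExtensionChar
import Cfsg.Agent.Lib.Solvable.MinimalNonNilpotent
import Cfsg.Agent.Lib.Char.PermChar
import Mathlib.GroupTheory.RegularWreathProduct

set_option autoImplicit false
set_option linter.style.haveILetI false
universe u
open Cfsg

namespace Cfsg.Agent.S4573

open Cfsg.Agent.Char

def IsM (M : Type u) [Group M] [Fintype M] : Prop :=
  ∀ χ : M → ℂ, Cfsg.IsIrrCharacter M χ →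
    ∃ (H : Subgroup M) (lam : ↥H →* ℂˣ), χ = Cfsg.indFun H (fun h => (lam h : ℂ))

section pi

variable {ι : Type u} [Fintype ι] [DecidableEq ι] {M : Type u} [Group M] [Fintype M]

/-- The tensor product of characters. -/
noncomputable def tens (θ : ι → (M → ℂ)) : (ι → M) → ℂ := fun f => ∏ x, θ x (f x)

theorem isCharacter_tens (θ : ι → Cfsg.IrrCharacter M) :
    Cfsg.IsCharacter (ι → M) (tens fun x => (θ x : M → ℂ)) := by
  classical
  have h : ∀ s : Finset ι, Cfsg.IsCharacter (ι → M) (fun f => ∏ x ∈ s, (θ x : M → ℂ) (f x)) := by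
    intro s
    induction s using Finset.induction_on with
    | empty => simpa using (isCharacter_one (G := ι → M))
    | insert a s ha ih =>
      have e := IsCharacter.mul
        (IsCharacter.comp (IsIrrCharacter.isCharacter (θ a).2) (Pi.evalMonoidHom (fun _ => M) a)) ih
      refine (?_ : (fun f : ι → M => (θ a : M → ℂ) (f a)) * (fun f => ∏ x ∈ s, (θ x : M → ℂ) (f x)) =
        fun f => ∏ x ∈ insert a s, (θ x : M → ℂ) (f x)) ▸ e
      funext f
      rw [Finset.prod_insert ha]
      rfl
  exact h Finset.univ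

theorem classInner_tens (θ φ : ι → (M → ℂ)) :
    Cfsg.classInner (tens θ) (tens φ) = ∏ x, Cfsg.classInner (θ x) (φ x) := by
  classical
  simp only [Cfsg.classInner, tens]
  rw [Finset.prod_mul_distrib, Finset.prod_const, Fintype.prod_sum, Finset.card_univ, Nat.card_fun,
    Nat.cast_pow, ← inv_pow, ← Nat.card_eq_fintype_card (α := ι)]
  congr 1
  exact Finset.sum_congr rfl fun g _ => by rw [map_prod, Finset.prod_mul_distrib]

theorem isIrr_tens (θ : ι → Cfsg.IrrCharacter M) :
    Cfsg.IsIrrCharacter (ι → M) (tens fun x => (θ x : M → ℂ)) := by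
  refine IsCharacter.isIrr_of_norm_one (isCharacter_tens θ) ?_
  rw [classInner_tens]
  exact Finset.prod_eq_one fun x _ => classInner_self_irr (θ x).2

theorem exists_tens {χ : (ι → M) → ℂ} (hχ : Cfsg.IsIrrCharacter (ι → M) χ) :
    ∃ θ : ι → Cfsg.IrrCharacter M, χ = tens fun x => (θ x : M → ℂ) := by
  classical
  let T : (ι → Cfsg.IrrCharacter M) → Cfsg.IrrCharacter (ι → M) := fun θ => ⟨_, isIrr_tens θ⟩
  have hinj : Function.Injective T := by
    intro θ φ h
    by_contra hne
    obtain ⟨x, hx⟩ := Function.ne_iff.1 hne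
    have h1 : Cfsg.classInner (T θ : (ι → M) → ℂ) (T φ : (ι → M) → ℂ) = 1 := by
      rw [h]; exact classInner_self_irr (T φ).2
    rw [show Cfsg.classInner (T θ : (ι → M) → ℂ) (T φ : (ι → M) → ℂ) = _ from classInner_tens _ _,
      Finset.prod_eq_zero (Finset.mem_univ x)
      (classInner_irr_of_ne (θ x).2 (φ x).2 fun e => hx (Subtype.ext e))] at h1
    exact zero_ne_one h1
  by_contra hne
  push Not at hne
  have hnot : (⟨χ, hχ⟩ : Cfsg.IrrCharacter (ι → M)) ∉ Finset.univ.image T := by
    intro h
    obtain ⟨θ, -, hθ⟩ := Finset.mem_image.1 h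
    exact hne θ (congrArg Subtype.val hθ).symm
  have h1 := sum_sq_degree (G := ι → M)
  rw [← Finset.sum_sdiff (Finset.subset_univ (Finset.univ.image T))
      (f := fun t : Cfsg.IrrCharacter (ι → M) => ((t : (ι → M) → ℂ) 1) ^ 2),
    Finset.sum_image hinj.injOn] at h1
  have h2 : ∑ θ : ι → Cfsg.IrrCharacter M, ((T θ : (ι → M) → ℂ) 1) ^ 2 =
      (Nat.card (ι → M) : ℂ) := by
    have e : ∀ θ : ι → Cfsg.IrrCharacter M, ((T θ : (ι → M) → ℂ) 1) ^ 2 =
        ∏ x, ((θ x : M → ℂ) 1) ^ 2 := fun θ => (Finset.prod_pow _ 2 _).symm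
    simp only [e]
    rw [← Fintype.prod_sum (fun (_ : ι) (t : Cfsg.IrrCharacter M) => ((t : M → ℂ) 1) ^ 2),
      sum_sq_degree, Finset.prod_const, Finset.card_univ, Nat.card_fun, Nat.cast_pow,
      ← Nat.card_eq_fintype_card (α := ι)]
  rw [h2, add_eq_right] at h1
  have hmem : (⟨χ, hχ⟩ : Cfsg.IrrCharacter (ι → M)) ∈
      Finset.univ \ Finset.univ.image T := Finset.mem_sdiff.2 ⟨Finset.mem_univ _, hnot⟩
  have h3 : ∀ t : Cfsg.IrrCharacter (ι → M),
      ((t : (ι → M) → ℂ) 1) ^ 2 = ((Cfsg.charDegree (t : (ι → M) → ℂ) ^ 2 : ℕ) : ℂ) := fun t => by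
    rw [Cfsg.Agent.CharX.irr_deg, Nat.cast_pow]
  simp only [h3, ← Nat.cast_sum, Nat.cast_eq_zero, Finset.sum_eq_zero_iff, sq_eq_zero_iff] at h1
  exact (Cfsg.Agent.CharX.irr_deg_pos _).ne' (h1 _ hmem)

theorem indFun_pi (H : ι → Subgroup M) (φ : ∀ x, ↥(H x) → ℂ) (f : ι → M) :
    Cfsg.indFun (Subgroup.pi Set.univ H)
      (fun y => ∏ x, φ x ⟨(y : ι → M) x, y.2 x (Set.mem_univ x)⟩) f =
      ∏ x, Cfsg.indFun (H x) (φ x) (f x) := by
  classical
  simp only [indFun_apply]
  rw [Finset.prod_mul_distrib, Fintype.prod_sum]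
  have hc : Nat.card (Subgroup.pi Set.univ H) = ∏ x, Nat.card (H x) := by
    rw [← Nat.card_pi]
    exact Nat.card_congr
      { toFun := fun y x => ⟨(y : ι → M) x, y.2 x (Set.mem_univ x)⟩
        invFun := fun g => ⟨fun x => (g x : M), fun x _ => (g x).2⟩
        left_inv := fun y => rfl
        right_inv := fun g => rfl }
  rw [hc, Nat.cast_prod, Finset.prod_inv_distrib]
  congr 1
  refine Finset.sum_congr rfl fun g _ => ?_
  by_cases hg : g⁻¹ * f * g ∈ Subgroup.pi Set.univ H
  · rw [extendByZero_mem _ _ hg]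
    refine Finset.prod_congr rfl fun x _ => ?_
    rw [extendByZero_mem (H x) (φ x) (x := (g x)⁻¹ * f x * g x) (hg x (Set.mem_univ x))]
    rfl
  · rw [extendByZero_not_mem _ _ hg]
    obtain ⟨x, hx⟩ : ∃ x, (g x)⁻¹ * f x * g x ∉ H x := by
      by_contra h
      push Not at h
      exact hg fun x _ => h x
    exact (Finset.prod_eq_zero (Finset.mem_univ x) (extendByZero_not_mem (H x) (φ x) hx)).symm

end pi

/-- The wreath product of an M-group with a group of prime order is an M-group. -/
theorem isM_wreath {M C : Type u} [Group M] [Fintype M] [Group C] [Fintype C]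
    [Fintype (RegularWreathProduct M C)] (hC : (Nat.card C).Prime) (hM : IsM M) :
    IsM (RegularWreathProduct M C) := by
  classical
  let B : Subgroup (RegularWreathProduct M C) := (RegularWreathProduct.rightHom (D := M) (Q := C)).ker
  haveI : Fintype B := Fintype.ofFinite B
  have hBr : ∀ b : B, (b : (RegularWreathProduct M C)).right = 1 := fun b => b.2
  let e : B →* (C → M) :=
    { toFun := fun b => (b : (RegularWreathProduct M C)).left
      map_one' := rfl
      map_mul' := fun a b => funext fun x => by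
        show (a : (RegularWreathProduct M C)).left x * (b : (RegularWreathProduct M C)).left ((a : (RegularWreathProduct M C)).right⁻¹ * x) = _
        rw [hBr a]; simp }
  have hes : Function.Surjective e := fun l => ⟨⟨⟨l, 1⟩, rfl⟩, rfl⟩
  let eB : B ≃* (C → M) := MulEquiv.ofBijective e
    ⟨fun a b h => Subtype.ext (RegularWreathProduct.ext h ((hBr a).trans (hBr b).symm)), hes⟩
  intro χ hχ
  obtain ⟨θ, hθc⟩ := exists_restrict_constituent hχ B
  obtain ⟨t, ht⟩ := exists_tens (IsIrrCharacter.comp θ.2 eB.symm.toMonoidHom eB.symm.surjective)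
  have hθv : ∀ b : B, (θ : B → ℂ) b = ∏ x, (t x : M → ℂ) ((b : (RegularWreathProduct M C)).left x) := fun b => by
    have := congrFun ht (eB b)
    rw [MulEquiv.coe_toMonoidHom, eB.symm_apply_apply] at this
    exact this
  by_cases htop : inertia B (θ : B → ℂ) = ⊤
  · -- an invariant character extends monomially
    have hinv : ∀ g : (RegularWreathProduct M C), conjChar B g (θ : B → ℂ) = θ := fun g =>
      (mem_inertia B).1 (htop ▸ Subgroup.mem_top g)
    have hshift : ∀ (c : C) (f : C → M),
        ∏ x, (t x : M → ℂ) (f (c⁻¹ * x)) = ∏ x, (t x : M → ℂ) (f x) := by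
      intro c f
      have h1 := congrFun (hinv (RegularWreathProduct.inl c)) (eB.symm f)
      have hb : ((eB.symm f : B) : (RegularWreathProduct M C)) = ⟨f, 1⟩ := RegularWreathProduct.ext
        (eB.apply_symm_apply f) (hBr _)
      change (θ : B → ℂ) (conjHom B (RegularWreathProduct.inl c) (eB.symm f)) = _ at h1
      rw [hθv, hθv, hb] at h1
      refine Eq.trans (Finset.prod_congr rfl fun x _ => ?_) h1
      congr 1
      rw [conjHom_coe, hb]
      simp
    have hteq : ∀ x, t x = t 1 := by
      intro x
      by_contra hne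
      have h1 : ∀ m : M, (t x : M → ℂ) m * ∏ z ∈ Finset.univ.erase x, (t z : M → ℂ) 1 =
          (t 1 : M → ℂ) m * ∏ z ∈ Finset.univ.erase (1 : C), (t z : M → ℂ) 1 := by
        intro m
        have e1 : ∀ y : C, ∏ z, (t z : M → ℂ) ((Pi.mulSingle y m : C → M) z) =
            (t y : M → ℂ) m * ∏ z ∈ Finset.univ.erase y, (t z : M → ℂ) 1 := by
          intro y
          rw [← Finset.mul_prod_erase _ _ (Finset.mem_univ y), Pi.mulSingle_eq_same]
          congr 1
          exact Finset.prod_congr rfl fun z hz => by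
            rw [Pi.mulSingle_eq_of_ne (Finset.ne_of_mem_erase hz)]
        rw [← e1, ← e1, ← hshift x (Pi.mulSingle 1 m)]
        refine Finset.prod_congr rfl fun z _ => ?_
        congr 1
        rcases eq_or_ne z x with rfl | h
        · simp
        · rw [Pi.mulSingle_eq_of_ne h, Pi.mulSingle_eq_of_ne]
          simpa [inv_mul_eq_one] using h.symm
      set r := ∏ z ∈ Finset.univ.erase x, (t z : M → ℂ) 1
      set r' := ∏ z ∈ Finset.univ.erase (1 : C), (t z : M → ℂ) 1
      have h2 : r • (t x : M → ℂ) = r' • (t 1 : M → ℂ) := funext fun m => by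
        simp only [Pi.smul_apply, smul_eq_mul]; rw [mul_comm, h1, mul_comm]
      have h3 := congrArg (fun g => Cfsg.classInner g (t x : M → ℂ)) h2
      simp only [classInner_smul_left, classInner_self_irr (t x).2,
        classInner_irr_of_ne (t 1).2 (t x).2 (fun e => hne (Subtype.ext e.symm)), mul_one,
        mul_zero] at h3
      exact Finset.prod_ne_zero_iff.2 (fun z _ => IsIrrCharacter.one_ne_zero (t z).2) h3
    obtain ⟨H0, l0, hl0⟩ := hM (t 1 : M → ℂ) (t 1).2
    let K : Subgroup (RegularWreathProduct M C) :=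
      { carrier := {w | ∀ x, w.left x ∈ H0}
        one_mem' := fun x => one_mem _
        mul_mem' := fun {a b} ha hb x => mul_mem (ha x) (hb _)
        inv_mem' := fun {a} ha x => inv_mem (ha _) }
    let Λ : K →* ℂˣ :=
      { toFun := fun w => ∏ x, l0 ⟨(w : (RegularWreathProduct M C)).left x, w.2 x⟩
        map_one' := Finset.prod_eq_one fun x _ => map_one l0
        map_mul' := fun a b => by
          calc ∏ x, l0 ⟨((a * b : K) : (RegularWreathProduct M C)).left x, (a * b).2 x⟩
              = ∏ x, (l0 ⟨(a : (RegularWreathProduct M C)).left x, a.2 x⟩ *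
                  l0 ⟨(b : (RegularWreathProduct M C)).left ((a : (RegularWreathProduct M C)).right⁻¹ * x), b.2 _⟩) :=
                Finset.prod_congr rfl fun x _ => by rw [← map_mul]; rfl
            _ = (∏ x, l0 ⟨(a : (RegularWreathProduct M C)).left x, a.2 x⟩) *
                ∏ x, l0 ⟨(b : (RegularWreathProduct M C)).left ((a : (RegularWreathProduct M C)).right⁻¹ * x), b.2 _⟩ := Finset.prod_mul_distrib
            _ = _ := congrArg _ (Fintype.prod_equiv (Equiv.mulLeft (a : (RegularWreathProduct M C)).right⁻¹) _ _ fun x => rfl) }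
    haveI : Fintype K := Fintype.ofFinite K
    let ε : (RegularWreathProduct M C) → ℂ := Cfsg.indFun K (fun w => (Λ w : ℂ))
    have hεc : Cfsg.IsCharacter (RegularWreathProduct M C) ε :=
      isCharacter_indFun K (IsIrrCharacter.isCharacter (isIrrCharacter_linear Λ))
    have hεres : ∀ b : B, ε b = (θ : B → ℂ) b := by
      intro b
      have hθb : (θ : B → ℂ) b = Cfsg.indFun (Subgroup.pi Set.univ fun _ : C => H0)
          (fun y => ∏ x, (l0 ⟨(y : C → M) x, y.2 x (Set.mem_univ x)⟩ : ℂ)) ((b : (RegularWreathProduct M C)).left) := by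
        rw [indFun_pi (fun _ : C => H0) (fun _ h => (l0 h : ℂ)), hθv]
        exact Finset.prod_congr rfl fun x _ => by rw [hteq x, hl0]
      rw [hθb]
      simp only [ε, indFun_apply]
      have hK : Nat.card K = Nat.card (Subgroup.pi Set.univ fun _ : C => H0) * Nat.card C := by
        rw [← Nat.card_prod]
        exact Nat.card_congr
          { toFun := fun w => (⟨(w : (RegularWreathProduct M C)).left, fun x _ => w.2 x⟩, (w : (RegularWreathProduct M C)).right)
            invFun := fun p => ⟨⟨(p.1 : C → M), p.2⟩, fun x => p.1.2 x (Set.mem_univ x)⟩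
            left_inv := fun w => rfl
            right_inv := fun p => rfl }
      have hsum : ∀ w : (RegularWreathProduct M C), Cfsg.extendByZero K (fun w => (Λ w : ℂ)) (w⁻¹ * (b : (RegularWreathProduct M C)) * w) =
          Cfsg.extendByZero (Subgroup.pi Set.univ fun _ : C => H0)
            (fun y => ∏ x, (l0 ⟨(y : C → M) x, y.2 x (Set.mem_univ x)⟩ : ℂ))
            (w.left⁻¹ * (b : (RegularWreathProduct M C)).left * w.left) := by
        intro w
        have hleft : ∀ y, (w⁻¹ * (b : (RegularWreathProduct M C)) * w).left y =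
            (w.left⁻¹ * (b : (RegularWreathProduct M C)).left * w.left) (w.right * y) := by
          intro y
          simp [hBr b, mul_assoc]
        by_cases hm : w.left⁻¹ * (b : (RegularWreathProduct M C)).left * w.left ∈ Subgroup.pi Set.univ fun _ : C => H0
        · have hm' : w⁻¹ * (b : (RegularWreathProduct M C)) * w ∈ K := fun y => by
            rw [hleft]; exact hm _ (Set.mem_univ _)
          rw [extendByZero_mem _ _ hm, extendByZero_mem _ _ hm']
          show ((∏ x, l0 ⟨(w⁻¹ * (b : (RegularWreathProduct M C)) * w).left x, hm' x⟩ : ℂˣ) : ℂ) = _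
          rw [Units.coe_prod]
          exact Fintype.prod_equiv (Equiv.mulLeft w.right) _ _ fun x =>
            congrArg (fun h => ((l0 h : ℂˣ) : ℂ)) (Subtype.ext (hleft x))
        · have hm' : w⁻¹ * (b : (RegularWreathProduct M C)) * w ∉ K := fun h => hm fun x _ => by
            have := h (w.right⁻¹ * x)
            rwa [hleft, mul_inv_cancel_left] at this
          rw [extendByZero_not_mem _ _ hm, extendByZero_not_mem _ _ hm']
      rw [Finset.sum_congr rfl fun w _ => hsum w,
        ← Equiv.sum_comp (RegularWreathProduct.equivProd M C).symm,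
        Fintype.sum_prod_type]
      simp only [show ∀ (l : C → M) (c : C),
        ((RegularWreathProduct.equivProd M C).symm (l, c)).left = l from fun l c => rfl]
      simp only [Finset.sum_const, Finset.card_univ, nsmul_eq_mul, ← Finset.mul_sum,
        ← Nat.card_eq_fintype_card]
      rw [hK, Nat.cast_mul, mul_inv, mul_assoc,
        inv_mul_cancel_left₀ (Nat.cast_ne_zero.2 hC.ne_zero)]
    have hres' : (fun b : B => ε b) = (θ : B → ℂ) := funext hεres
    obtain ⟨β, hβ1, hβ⟩ := (gallagher_one B hεc (hres'.symm ▸ θ.2)).2.2 χ hχ (by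
      rw [hres']; exact hθc)
    have hcomm : ∀ a b : (RegularWreathProduct M C), a * b * a⁻¹ * b⁻¹ ∈ B := by
      intro a b
      haveI : Fact (Nat.card C).Prime := ⟨hC⟩
      have hcyc : IsCyclic C := isCyclic_of_prime_card rfl
      show (a * b * a⁻¹ * b⁻¹).right = 1
      simp only [RegularWreathProduct.mul_right, RegularWreathProduct.inv_right]
      rw [IsCyclic.commGroup.mul_comm a.right b.right]
      group
    obtain ⟨f, hf⟩ := exists_hom_of_degree_one (IsIrrCharacter.isCharacter β.2)
      (degree_one_of_commutators β.2 fun a b => hβ1 ⟨_, hcomm a b⟩)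
    refine ⟨K, f.comp K.subtype * Λ, ?_⟩
    rw [← hβ, mul_indFun K (IsCharacter.isClassFunction (IsIrrCharacter.isCharacter β.2))]
    congr 1
    funext w
    rw [hf]
    rfl
  · -- otherwise it is induced from the base
    have hT : inertia B (θ : B → ℂ) = B := by
      have hle := le_inertia B (IsCharacter.isClassFunction (IsIrrCharacter.isCharacter θ.2))
      have hidx : B.index = Nat.card C := by
        rw [Subgroup.index_ker, MonoidHom.range_eq_top.2 fun c => ⟨RegularWreathProduct.inl c, rfl⟩,
          Subgroup.card_top]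
      have h1 := Subgroup.relIndex_mul_index hle
      rw [hidx] at h1
      rcases (Nat.dvd_prime hC).1 (Dvd.intro_left _ h1) with h2 | h2
      · exact absurd (Subgroup.index_eq_one.1 h2) htop
      · rw [h2, Nat.mul_eq_right hC.ne_zero, Subgroup.relIndex_eq_one] at h1
        exact le_antisymm h1 hle
    have hirr : Cfsg.IsIrrCharacter (RegularWreathProduct M C) (Cfsg.indFun B (θ : B → ℂ)) := by
      refine IsCharacter.isIrr_of_norm_one
        (isCharacter_indFun B (IsIrrCharacter.isCharacter θ.2)) ?_
      rw [classInner_indFun_normal B θ.2 θ.2,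
        show Nat.card {g : (RegularWreathProduct M C) // conjChar B g (θ : B → ℂ) = θ} = Nat.card B from
          congrArg (fun S : Subgroup (RegularWreathProduct M C) => Nat.card S) hT,
        inv_mul_cancel₀ (Nat.cast_ne_zero.2 Nat.card_pos.ne')]
    have heq : χ = Cfsg.indFun B (θ : B → ℂ) := by
      by_contra hne
      apply hθc
      rw [← classInner_indFun_right B _ (IsCharacter.isClassFunction (IsIrrCharacter.isCharacter hχ)),
        classInner_irr_of_ne hχ hirr hne]
    choose H l hl using fun x => hM (t x : M → ℂ) (t x).2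
    let μ : ↥(Subgroup.pi Set.univ H) →* ℂˣ :=
      { toFun := fun y => ∏ x, l x ⟨(y : C → M) x, y.2 x (Set.mem_univ x)⟩
        map_one' := Finset.prod_eq_one fun x _ => map_one (l x)
        map_mul' := fun a b => by
          calc ∏ x, l x ⟨((a * b : ↥(Subgroup.pi Set.univ H)) : C → M) x, (a * b).2 x (Set.mem_univ x)⟩
              = ∏ x, (l x ⟨(a : C → M) x, a.2 x (Set.mem_univ x)⟩ *
                  l x ⟨(b : C → M) x, b.2 x (Set.mem_univ x)⟩) :=
                Finset.prod_congr rfl fun x _ => by rw [← map_mul]; rfl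
            _ = _ := Finset.prod_mul_distrib }
    let D : Subgroup B := (Subgroup.pi Set.univ H).comap e
    haveI : Fintype D := Fintype.ofFinite D
    let μD : D →* ℂˣ := μ.comp
      { toFun := fun d => ⟨e d, d.2⟩
        map_one' := Subtype.ext (map_one e)
        map_mul' := fun a b => Subtype.ext (map_mul e (a : B) b) }
    have hθD : (θ : B → ℂ) = Cfsg.indFun D (fun d => (μD d : ℂ)) := by
      funext b
      rw [← indFun_comap e hes (Subgroup.pi Set.univ H) (fun y => (μ y : ℂ))
        (fun d => (μD d : ℂ)) (fun d => rfl) b, hθv]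
      have e1 : (fun y : ↥(Subgroup.pi Set.univ H) => (μ y : ℂ)) =
          fun (y : ↥(Subgroup.pi Set.univ H)) => ∏ x, (l x ⟨(y : C → M) x, y.2 x (Set.mem_univ x)⟩ : ℂ) :=
        funext fun y => Units.coe_prod _ _
      rw [e1, indFun_pi H (fun x h => (l x h : ℂ))]
      exact Finset.prod_congr rfl fun x _ => by rw [← hl x]; rfl
    let H' : Subgroup (RegularWreathProduct M C) := D.map B.subtype
    haveI : Fintype H' := Fintype.ofFinite H'
    let iso : D ≃* H' := D.equivMapOfInjective B.subtype B.subtype_injective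
    refine ⟨H', μD.comp iso.symm.toMonoidHom, ?_⟩
    rw [heq, hθD, ← indFun_trans H' B (Subgroup.map_subtype_le D)]
    congr 1
    refine Cfsg.Agent.Char.indFun_congr (Subgroup.comap_map_eq_self_of_injective
      B.subtype_injective D).symm _ _ fun y => ?_
    show (μD y : ℂ) = (μD (iso.symm _) : ℂ)
    congr 2
    exact (iso.symm_apply_eq.2 (Subtype.ext rfl)).symm

/-- The Krasner–Kaloujnine map. -/
noncomputable def kk {G M : Type u} [Group G] [Group M] (N : Subgroup G) [N.Normal]
    (f : N →* M) : G →* RegularWreathProduct M (G ⧸ N) where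
  toFun g := ⟨fun q => f ⟨q.out⁻¹ * g * (((g : G ⧸ N))⁻¹ * q).out, by
    rw [← QuotientGroup.eq_one_iff]; simp⟩, (g : G ⧸ N)⟩
  map_one' := by
    refine RegularWreathProduct.ext (funext fun q => ?_) rfl
    refine Eq.trans (congrArg f (Subtype.ext ?_)) (map_one f)
    show q.out⁻¹ * 1 * (((1 : G) : G ⧸ N)⁻¹ * q).out = 1
    rw [QuotientGroup.mk_one, inv_one, one_mul, mul_one, inv_mul_cancel]
  map_mul' a b := by
    refine RegularWreathProduct.ext (funext fun q => ?_) rfl
    simp only [RegularWreathProduct.mul_left, Pi.mul_apply, ← map_mul]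
    congr 1
    refine Subtype.ext ?_
    simp only [QuotientGroup.mk_mul, mul_inv_rev, mul_assoc, Subgroup.coe_mul]
    group

theorem kk_injective {G M : Type u} [Group G] [Group M] (N : Subgroup G) [N.Normal]
    (f : N →* M) (hf : Function.Injective f) : Function.Injective (kk N f) := by
  rw [injective_iff_map_eq_one]
  intro g hg
  have h2 : (g : G ⧸ N) = 1 := congrArg RegularWreathProduct.right hg
  have h1 := congrFun (congrArg RegularWreathProduct.left hg) 1
  change f _ = 1 at h1
  rw [← map_one f] at h1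
  have h3 := congrArg Subtype.val (hf h1)
  change (1 : G ⧸ N).out⁻¹ * g * ((g : G ⧸ N)⁻¹ * 1).out = 1 at h3
  rw [h2, inv_one, one_mul, mul_eq_one_iff_eq_inv, inv_mul_eq_iff_eq_mul, mul_inv_cancel] at h3
  exact h3

theorem embeds : ∀ (n : ℕ) (G : Type u) [Group G] [Finite G], Nat.card G = n →
    Group.IsSolvable G → ∃ (M : Type u) (_ : Group M) (_ : Fintype M),
      IsM M ∧ ∃ f : G →* M, Function.Injective f := by
  intro n
  induction n using Nat.strong_induction_on with
  | _ n ih =>
  intro G _ _ hn hsolv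
  rcases subsingleton_or_nontrivial G with hs | hnt
  · haveI : Fintype G := Fintype.ofFinite G
    haveI : Group.IsNilpotent G := IsPGroup.isNilpotent (p := 2) (hp := ⟨Nat.prime_two⟩)
      (fun g => ⟨0, Subsingleton.elim _ _⟩)
    exact ⟨G, inferInstance, inferInstance,
      fun χ hχ => exists_monomial_of_nilpotent _ G rfl χ hχ, MonoidHom.id G, fun _ _ h => h⟩
  · haveI := hsolv
    obtain ⟨N, hN, hp, -⟩ := Cfsg.Agent.SolvMinNN.exists_normal_prime_index (G := G)
    haveI := hN
    have hlt : Nat.card N < n := by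
      rw [← hn, ← N.card_mul_index]
      exact lt_mul_of_one_lt_right Nat.card_pos hp.one_lt
    obtain ⟨M, _, _, hM, f, hf⟩ := ih _ hlt N rfl inferInstance
    haveI : Fintype (G ⧸ N) := Fintype.ofFinite _
    haveI : Fintype (RegularWreathProduct M (G ⧸ N)) := Fintype.ofFinite _
    exact ⟨RegularWreathProduct M (G ⧸ N), inferInstance, inferInstance,
      isM_wreath (Subgroup.index_eq_card N ▸ hp) hM, kk N f, kk_injective N f hf⟩

/-- Every finite solvable group is isomorphic to a subgroup of a finite M-group, a group each of whose irreducible characters is induced from a homomorphism of some subgroup into ℂˣ. -/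
theorem result {G : Type u} [Group G] [Finite G] (hsolv : Group.IsSolvable G) : ∃ (M : Type u) (_ : Group M) (_ : Fintype M), (∀ χ : M → ℂ, Cfsg.IsIrrCharacter M χ → (∃ (H : Subgroup M) (lam : ↥H →* ℂˣ), χ = Cfsg.indFun H (fun h => (lam h : ℂ)))) ∧ ∃ f : G →* M, Function.Injective f := by
  exact embeds _ G rfl hsolv

end Cfsg.Agent.S4573
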