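import Cfsg.Statements.S4580
import Cfsg.Agent.Lib.BrauerPairs.RealBlock

set_option autoImplicit false
open Cfsg

namespace Cfsg.Agent.S4580

/-- Let N be a normal subgroup of the finite group G, M a maximal ideal of the algebraic integers containing 2, and θ a real-valued irreducible character of N of odd degree that extends to G (some irreducible character of G restricts to θ). Then θ has an extension to G lying in the principal 2-block of G. -/
theorem result {G : Type*} [Group G] [Finite G] (N : Subgroup G) [N.Normal] (M : Ideal Cfsg.AlgInt) (hM : Cfsg.IsPModular 2 M) (θ : Cfsg.IrrCharacter N) (hreal : ∀ n : N, ((θ : N → ℂ) n).im = 0) (hodd : Odd (Cfsg.charDegree (θ : N → ℂ))) (hext : ∃ η : Cfsg.IrrCharacter G, ∀ n : N, (η : G → ℂ) n = (θ : N → ℂ) n) :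
    ∃ η : Cfsg.IrrCharacter G, (∀ n : N, (η : G → ℂ) n = (θ : N → ℂ) n) ∧ η ∈ Cfsg.principalBlock M G := by
  classical
  haveI := Fintype.ofFinite G
  haveI := Cfsg.Agent.Blocks.IsPModular.isPrime hM
  obtain ⟨η, hη⟩ := hext
  obtain ⟨f, hfN, hf⟩ := Cfsg.Agent.BrauerPairs.exists_linear_conj N θ hreal η hη
  set a := (Nat.card G).factorization 2 with ha
  set m := Nat.card G / 2 ^ a with hm
  have hmul : 2 ^ a * m = Nat.card G := Nat.ordProj_mul_ordCompl_eq_self _ 2
  have hmodd : ¬ 2 ∣ m := Nat.not_dvd_ordCompl Nat.prime_two Nat.card_pos.ne'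
  set j := m / 2 with hj
  have h2j : 1 + 2 * j = m := by omega
  let μ : G →* ℂˣ := (powMonoidHom j).comp f
  have hμ : ∀ g, (μ g : ℂ) = (f g : ℂ) ^ j := fun g => by simp [μ]
  let η' : IrrCharacter G :=
    ⟨_, Cfsg.Agent.BrauerPairs.isIrr_mul_linear η.2 μ⟩
  have hη' : ∀ g, (η' : G → ℂ) g = (η : G → ℂ) g * (f g : ℂ) ^ j := fun g => by
    show (η : G → ℂ) g * (μ g : ℂ) = _
    rw [hμ]
  have hres : ∀ n : N, (η' : G → ℂ) n = (θ : N → ℂ) n := fun n => by
    rw [hη', hη, hfN _ n.2, Units.val_one, one_pow, mul_one]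
  refine ⟨η', hres, Cfsg.Agent.BrauerPairs.mem_principalBlock_two hM η' ?_ ?_⟩
  · have : (η' : G → ℂ) 1 = (θ : N → ℂ) 1 := by simpa using hres 1
    simpa [Cfsg.charDegree, this] using hodd
  · intro g
    have hν : ((f g : ℂ) ^ m) ^ 2 ^ a = 1 := by
      rw [← pow_mul, mul_comm, hmul, ← Units.val_pow_eq_pow_val, ← map_pow, pow_card_eq_one',
        map_one, Units.val_one]
    have hfg : (η' : G → ℂ) g = (η' : G → ℂ) g⁻¹ * (f g : ℂ) ^ m := by
      rw [Cfsg.Agent.Blocks.irr_inv, hη' g, map_mul, map_pow,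
        Cfsg.Agent.BrauerPairs.conj_linear, ← h2j, pow_add, pow_one, pow_mul', sq]
      have h0 := (f g).ne_zero
      have he := hf g
      rw [inv_pow]
      field_simp
      linear_combination he
    have key : Cfsg.centralChar (η' : G → ℂ) g⁻¹ - Cfsg.centralChar (η' : G → ℂ) g =
        Cfsg.centralChar (η' : G → ℂ) g⁻¹ * -((f g : ℂ) ^ m - 1) := by
      rw [Cfsg.Agent.BrauerPairs.centralChar_inv]
      simp only [Cfsg.centralChar]
      rw [hfg]
      ring
    rw [key]
    exact Cfsg.Agent.Blocks.MemLocalIdeal.mul_left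
      (Cfsg.Agent.Blocks.centralChar_memLocalRing η' g⁻¹)
      (Cfsg.Agent.Blocks.MemLocalIdeal.neg
        (Cfsg.Agent.Blocks.memLocalIdeal_sub_one_of_pow_eq_one hM hν))

end Cfsg.Agent.S4580
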