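import Cfsg.Statements.S4582
import Cfsg.Agent.Lib.Char.ThompsonComplement
import Cfsg.Agent.Lib.Char.Gallagher
import Cfsg.Agent.Lib.Char.Orbit
import Cfsg.Agent.Lib.Char.RealPPrime
import Cfsg.Agent.Lib.Char.Degree
import Cfsg.Agent.S0862
import Cfsg.Agent.Lib.Solvable.Basic

set_option autoImplicit false
set_option linter.style.haveILetI false
open Cfsg

namespace Cfsg.Agent.S4582

open Cfsg.Agent.Char
open Cfsg.Agent.RealPPrime (conj_unit)
open scoped commutatorElement

universe u v

/-- An involution leaving an odd total weight invariant has a fixed point of odd weight. -/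
theorem exists_fixed_odd {ι : Type v} (s : Finset ι) (w : ι → ℕ) (f : ι → ι)
    (hf : ∀ a ∈ s, f a ∈ s) (hinv : ∀ a ∈ s, f (f a) = a) (hw : ∀ a ∈ s, w (f a) = w a)
    (hodd : Odd (∑ a ∈ s, w a)) : ∃ a ∈ s, f a = a ∧ Odd (w a) := by
  classical
  by_contra hnone
  push Not at hnone
  have h0 : ∀ a ∈ s, f a = a → (w a : ZMod 2) = 0 := fun a ha h =>
    (ZMod.natCast_eq_zero_iff_even).2 (Nat.not_odd_iff_even.1 (hnone a ha h))
  have h1 : ∑ a ∈ s, (w a : ZMod 2) = 0 := by
    refine Finset.sum_involution (fun a _ => f a) (fun a ha => ?_) (fun a ha hne h => hne (h0 a ha h))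
      hf hinv
    rw [hw a ha]; exact CharTwo.add_self_eq_zero _
  rw [← Nat.cast_sum, ZMod.natCast_eq_zero_iff_even] at h1
  exact Nat.not_odd_iff_even.2 h1 hodd

theorem detHom_dual {K : Type u} [Group K] {V : Type v} [AddCommGroup V] [Module ℂ V]
    [FiniteDimensional ℂ V] (ρ : Representation ℂ K V) :
    CharExtend.detHom ρ.dual = (CharExtend.detHom ρ)⁻¹ := by
  refine MonoidHom.ext fun g => ?_
  rw [MonoidHom.inv_apply, ← map_inv]
  refine Units.ext ?_
  rw [CharExtend.detHom_apply, CharExtend.detHom_apply, Representation.dual_apply]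
  exact LinearMap.det_dualMap _

theorem real_dual {K : Type u} [Group K] [Finite K] {V : Type v} [AddCommGroup V] [Module ℂ V]
    [FiniteDimensional ℂ V] (ρ : Representation ℂ K V)
    (hr : ∀ g, starRingEnd ℂ (ρ.character g) = ρ.character g) :
    ρ.dual.character = ρ.character := by
  funext g
  rw [Representation.char_dual, char_inv, hr]

theorem det_sq {K : Type u} [Group K] [Finite K] {V : Type v} [AddCommGroup V] [Module ℂ V]
    [FiniteDimensional ℂ V] (ρ : Representation ℂ K V)
    (hr : ∀ g, starRingEnd ℂ (ρ.character g) = ρ.character g) :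
    CharExtend.detHom ρ ^ 2 = 1 := by
  obtain ⟨e⟩ := nonempty_equiv_of_char_eq ρ.dual ρ (real_dual ρ hr)
  have h : CharExtend.detHom ρ = CharExtend.detHom ρ.dual :=
    MonoidHom.ext fun g => Units.ext (CharExtend.det_eq_of_equiv e g)
  rw [detHom_dual] at h
  rw [pow_two]
  exact mul_eq_one_iff_eq_inv.2 h

theorem hom_eq_one {K : Type u} [Group K] (c : K →* ℂˣ)
    (hodd : Odd (Nat.card (Abelianization K))) (h2 : c ^ 2 = 1) : c = 1 := by
  ext g
  have ha : c g ^ 2 = 1 := by simpa using DFunLike.congr_fun h2 g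
  have hb : c g ^ Nat.card (Abelianization K) = 1 := by
    rw [← Abelianization.lift_apply_of c g, ← map_pow, pow_card_eq_one', map_one]
  have := CharExtend.eq_one_of_pow_coprime ha hb (Nat.coprime_two_left.2 hodd)
  simp [this]

theorem twist {K : Type u} [Group K] [Fintype K] (f : K →* ℂˣ) {η : K → ℂ}
    (hη : Cfsg.IsIrrCharacter K η) : Cfsg.IsIrrCharacter K (fun x => (f x : ℂ) * η x) := by
  refine IsCharacter.isIrr_of_norm_one
    (IsCharacter.mul (IsIrrCharacter.isCharacter (isIrrCharacter_linear f))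
      (IsIrrCharacter.isCharacter hη)) ?_
  refine Eq.trans ?_ (classInner_self_irr hη)
  simp only [Cfsg.classInner, Pi.mul_apply, map_mul]
  congr 1
  refine Finset.sum_congr rfl fun x _ => ?_
  have h : (f x : ℂ) * starRingEnd ℂ (f x : ℂ) = 1 := by
    rw [conj_unit, ← Units.val_mul, ← map_mul, mul_inv_cancel, map_one, Units.val_one]
  linear_combination (η x * starRingEnd ℂ (η x)) * h

theorem classInner_congr {A : Type u} [Group A] [Fintype A] {B : Type v} [Group B] [Fintype B]
    (e : A ≃ B) (f g : B → ℂ) :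
    Cfsg.classInner (fun a => f (e a)) (fun a => g (e a)) = Cfsg.classInner f g := by
  simp only [Cfsg.classInner]
  rw [Nat.card_congr e]
  congr 1
  exact Fintype.sum_equiv e _ _ fun _ => rfl

theorem classInner_conj {A : Type u} [Group A] [Fintype A] (f g : A → ℂ) :
    Cfsg.classInner (fun a => starRingEnd ℂ (f a)) (fun a => starRingEnd ℂ (g a)) =
      starRingEnd ℂ (Cfsg.classInner f g) := by
  simp only [Cfsg.classInner, map_mul, map_inv₀, map_sum, map_natCast]

theorem key {G : Type u} [Group G] [Finite G] (N : Subgroup G) [hN : N.Normal] (P : Sylow 2 G)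
    (hQ : ∀ x ∈ (P : Subgroup G) ⊓ N, x ^ 2 ∈ ⁅(P : Subgroup G) ⊓ N, (P : Subgroup G) ⊓ N⁆)
    (hodd : Odd (Nat.card (Abelianization N))) (lam : (P : Subgroup G) →* ℂˣ) :
    ∃ ν : (P : Subgroup G) →* ℂˣ, ν ^ 2 = 1 ∧
      ∀ y : (P : Subgroup G), (y : G) ∈ N → ν y = lam y := by
  classical
  haveI : Fintype G := Fintype.ofFinite G
  haveI : Fintype N := Fintype.ofFinite N
  let D0 : Subgroup N := (P : Subgroup G).subgroupOf N
  haveI : Fintype D0 := Fintype.ofFinite D0
  let f : D0 → ℂ := fun y => (lam ⟨((y : N) : G), y.2⟩ : ℂ)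
  -- `lam` has values `± 1` on `P ⊓ N`
  have hsq : ∀ y : (P : Subgroup G), (y : G) ∈ N → lam y ^ 2 = 1 := by
    intro y hy
    have h1 : ⁅(P : Subgroup G) ⊓ N, (P : Subgroup G) ⊓ N⁆ ≤ lam.ker.map (P : Subgroup G).subtype := by
      rw [Subgroup.commutator_le]
      intro a ha b hb
      refine ⟨⁅(⟨a, ha.1⟩ : (P : Subgroup G)), ⟨b, hb.1⟩⁆, ?_, rfl⟩
      rw [SetLike.mem_coe, MonoidHom.mem_ker, map_commutatorElement]
      exact commutatorElement_eq_one_iff_mul_comm.2 (mul_comm _ _)
    obtain ⟨w, hw, hwe⟩ := h1 (hQ y ⟨y.2, hy⟩)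
    have he : w = y ^ 2 := Subtype.ext hwe
    rw [SetLike.mem_coe, MonoidHom.mem_ker, he, map_pow] at hw
    exact hw
  have hinvlam : ∀ y : (P : Subgroup G), (y : G) ∈ N → lam y⁻¹ = lam y := by
    intro y hy
    rw [map_inv, inv_eq_iff_mul_eq_one, ← pow_two, hsq y hy]
  have hfreal : ∀ y, starRingEnd ℂ (f y) = f y := fun y => by
    show starRingEnd ℂ (lam _ : ℂ) = _
    rw [conj_unit, hinvlam _ (y : N).2]
  let f' : D0 →* ℂˣ := lam.comp
    { toFun := fun y => ⟨((y : N) : G), y.2⟩
      map_one' := rfl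
      map_mul' := fun _ _ => rfl }
  have hfchar : Cfsg.IsCharacter D0 f := IsIrrCharacter.isCharacter (isIrrCharacter_linear f')
  have hPhi : Cfsg.IsCharacter N (Cfsg.indFun D0 f) := isCharacter_indFun D0 hfchar
  let Φ : N → ℂ := Cfsg.indFun D0 f
  have hΦr : ∀ n, starRingEnd ℂ (Φ n) = Φ n := by
    intro n
    simp only [Φ, Cfsg.indFun, map_mul, map_inv₀, map_sum, map_natCast]
    congr 1
    refine Finset.sum_congr rfl fun x _ => ?_
    by_cases hm : x⁻¹ * n * x ∈ D0
    · rw [extendByZero_mem D0 f hm]; exact hfreal _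
    · rw [extendByZero_not_mem D0 f hm]; exact map_zero _
  have hΦP : ∀ p ∈ (P : Subgroup G), conjChar N p Φ = Φ := by
    intro p hp
    funext n
    show Φ (conjHom N p n) = Φ n
    simp only [Φ, Cfsg.indFun]
    congr 1
    symm
    refine Fintype.sum_equiv (Equiv.ofBijective (conjHom N p)
      (Finite.surjective_iff_bijective.mp (conjHom_surjective N p))) _ _ fun x => ?_
    simp only [Equiv.ofBijective_apply, ← map_inv, ← map_mul]
    set m := x⁻¹ * n * x
    by_cases hm : m ∈ D0
    · have hm' : conjHom N p m ∈ D0 := by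
        show (p * (m : G) * p⁻¹) ∈ (P : Subgroup G)
        exact mul_mem (mul_mem hp hm) (inv_mem hp)
      rw [extendByZero_mem D0 f hm, extendByZero_mem D0 f hm']
      show (lam ⟨(m : G), hm⟩ : ℂ) = (lam (⟨p, hp⟩ * ⟨(m : G), hm⟩ * ⟨p, hp⟩⁻¹) : ℂ)
      rw [map_mul, map_mul, map_inv, mul_comm (lam ⟨p, hp⟩), mul_inv_cancel_right]
    · have hm' : conjHom N p m ∉ D0 := by
        intro h
        apply hm
        have h' : p * (m : G) * p⁻¹ ∈ (P : Subgroup G) := h
        show (m : G) ∈ (P : Subgroup G)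
        have := mul_mem (mul_mem (inv_mem hp) h') hp
        rwa [show p⁻¹ * (p * (m : G) * p⁻¹) * p = (m : G) by group] at this
      rw [extendByZero_not_mem D0 f hm, extendByZero_not_mem D0 f hm']
  -- odd degree
  have hcard := Cfsg.Agent.SolvBasic.card_sup_mul_card_inf (N := N) (H := (P : Subgroup G))
    (by rw [Subgroup.normalizer_eq_top]; exact le_top)
  have hD0 : Odd D0.index := by
    have e1 : Nat.card D0 = Nat.card (N ⊓ (P : Subgroup G) : Subgroup G) := by
      rw [← Subgroup.card_map_of_injective N.subtype_injective, Subgroup.subgroupOf_map_subtype,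
        inf_comm]
    have e2 := D0.card_mul_index
    have e3 : Nat.card (N ⊔ (P : Subgroup G) : Subgroup G) =
        Nat.card (P : Subgroup G) * (P : Subgroup G).relIndex (N ⊔ (P : Subgroup G)) :=
      by
        have := ((P : Subgroup G).subgroupOf (N ⊔ (P : Subgroup G))).card_mul_index
        rw [Nat.card_congr (Subgroup.subgroupOfEquivOfLe
          (le_sup_right : (P : Subgroup G) ≤ N ⊔ P)).toEquiv] at this
        exact this.symm
    have e4 : D0.index = (P : Subgroup G).relIndex (N ⊔ (P : Subgroup G)) := by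
      rw [e3, ← e1, ← e2] at hcard
      have hpos : 0 < Nat.card D0 * Nat.card (P : Subgroup G) := Nat.mul_pos Nat.card_pos Nat.card_pos
      refine (Nat.eq_of_mul_eq_mul_left hpos ?_).symm
      linarith
    rw [e4]
    refine Nat.odd_iff.2 ?_
    refine Nat.two_dvd_ne_zero.1 fun h => P.not_dvd_index (h.trans ?_)
    exact Subgroup.relIndex_dvd_index_of_le le_sup_right
  -- an invariant real constituent of odd multiplicity and degree
  choose a ha using fun θ : Cfsg.IrrCharacter N =>
    IsCharacter.exists_classInner_nat hPhi (IsIrrCharacter.isCharacter θ.2)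
  letI : MulAction (P : Subgroup G) (Cfsg.IrrCharacter N) :=
    { smul := fun g θ => ⟨conjChar N (g : G)⁻¹ θ.1, isIrrCharacter_conjChar N θ.2 _⟩
      one_smul := fun θ => Subtype.ext (by
        show conjChar N ((1 : G))⁻¹ θ.1 = θ.1
        rw [inv_one, conjChar_one])
      mul_smul := fun a b θ => Subtype.ext (by
        show conjChar N ((a : G) * b)⁻¹ θ.1 = conjChar N (a : G)⁻¹ (conjChar N (b : G)⁻¹ θ.1)
        rw [mul_inv_rev, conjChar_mul]) }
  let w : Cfsg.IrrCharacter N → ℕ := fun θ => a θ * Cfsg.charDegree (θ : N → ℂ)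
  have hwsum : Odd (∑ θ, w θ) := by
    have h1 := congrFun (IsCharacter.eq_sum hPhi) 1
    rw [indFun_one_apply] at h1
    simp only [Finset.sum_apply, Pi.smul_apply, smul_eq_mul, ha,
      Cfsg.Agent.CharX.irr_deg] at h1
    have hf1 : f 1 = 1 := congrArg Units.val (map_one lam)
    rw [hf1, mul_one] at h1
    have h2 : D0.index = ∑ θ, w θ := by
      rw [← Nat.cast_inj (R := ℂ), h1, Nat.cast_sum]
      exact Finset.sum_congr rfl fun θ _ => (Nat.cast_mul _ _).symm
    exact h2 ▸ hD0
  have hconj1 : ∀ (g : G) (θ : N → ℂ), conjChar N g θ 1 = θ 1 := fun g θ =>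
    congrArg θ (map_one (conjHom N g))
  have hwP : ∀ (g : (P : Subgroup G)) (θ : Cfsg.IrrCharacter N), w (g • θ) = w θ := by
    intro g θ
    have e1 : a (g • θ) = a θ := by
      rw [← Nat.cast_inj (R := ℂ), ← ha, ← ha]
      show Cfsg.classInner Φ (conjChar N (g : G)⁻¹ (θ : N → ℂ)) = _
      conv_lhs => rw [← hΦP (g : G)⁻¹ (inv_mem g.2)]
      rw [classInner_conjChar]
    have e2 : Cfsg.charDegree ((g • θ : Cfsg.IrrCharacter N) : N → ℂ) =
        Cfsg.charDegree (θ : N → ℂ) := by
      unfold Cfsg.charDegree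
      rw [show ((g • θ : Cfsg.IrrCharacter N) : N → ℂ) 1 = (θ : N → ℂ) 1 from hconj1 _ _]
    show a (g • θ) * _ = a θ * _
    rw [e1, e2]
  have hmod := TC.sum_modEq_fixed P.isPGroup' w hwP
  let cF : Cfsg.IrrCharacter N → Cfsg.IrrCharacter N := fun θ =>
    ⟨fun n => starRingEnd ℂ ((θ : N → ℂ) n), IsIrrCharacter.conj θ.2⟩
  obtain ⟨θ, hθfix, hθr, hθodd⟩ := exists_fixed_odd
    (Finset.univ.filter fun θ : Cfsg.IrrCharacter N =>
      θ ∈ MulAction.fixedPoints (P : Subgroup G) (Cfsg.IrrCharacter N)) w cF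
    (fun θ hθ => by
      rw [Finset.mem_filter] at hθ ⊢
      exact ⟨Finset.mem_univ _, fun g => Subtype.ext (funext fun n =>
        congrArg (starRingEnd ℂ) (congrFun (congrArg Subtype.val (hθ.2 g)) n))⟩)
    (fun θ _ => Subtype.ext (funext fun n => Complex.conj_conj _))
    (fun θ _ => by
      have e1 : a (cF θ) = a θ := by
        rw [← Nat.cast_inj (R := ℂ), ← ha, ← Complex.conj_natCast, ← ha, ← classInner_conj]
        congr 1
        exact funext fun n => (hΦr n).symm
      show a (cF θ) * _ = a θ * _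
      rw [e1]
      unfold Cfsg.charDegree
      simp [cF])
    (Nat.odd_iff.2 (Eq.trans (Eq.symm hmod) (Nat.odd_iff.1 hwsum)))
  obtain ⟨haodd, hdodd⟩ := Nat.odd_mul.1 hθodd
  have hθP : ∀ p ∈ (P : Subgroup G), conjChar N p (θ : N → ℂ) = θ := by
    intro p hp
    have := congrArg Subtype.val ((Finset.mem_filter.1 hθfix).2 ⟨p⁻¹, inv_mem hp⟩)
    change conjChar N (p⁻¹)⁻¹ (θ : N → ℂ) = θ at this
    rwa [inv_inv] at this
  have hθreal : ∀ n, starRingEnd ℂ ((θ : N → ℂ) n) = (θ : N → ℂ) n := fun n =>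
    congrFun (congrArg Subtype.val hθr) n
  -- the canonical extension to `N ⊔ P`
  let H : Subgroup G := N ⊔ (P : Subgroup G)
  let N' : Subgroup H := N.subgroupOf H
  let eN : N' ≃* N := Subgroup.subgroupOfEquivOfLe le_sup_left
  haveI : Fintype N' := Fintype.ofFinite N'
  haveI : Fintype H := Fintype.ofFinite H
  let θ' : N' → ℂ := fun x => (θ : N → ℂ) (eN x)
  have hθ' : Cfsg.IsIrrCharacter N' θ' := IsIrrCharacter.comp θ.2 eN.toMonoidHom eN.surjective
  have htop : inertia N' θ' = ⊤ := by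
    have h1 : N ⊔ (P : Subgroup G) ≤ (inertia N' θ').map H.subtype := by
      refine sup_le (fun x hx => ?_) fun x hx => ?_
      · exact ⟨⟨x, Subgroup.mem_sup_left hx⟩, le_inertia N'
          (IsCharacter.isClassFunction (IsIrrCharacter.isCharacter hθ')) hx, rfl⟩
      · refine ⟨⟨x, Subgroup.mem_sup_right hx⟩, ?_, rfl⟩
        rw [SetLike.mem_coe, mem_inertia]
        funext n
        exact (congrArg (θ : N → ℂ) (Subtype.ext rfl)).trans (congrFun (hθP x hx) (eN n))
    refine eq_top_iff.2 fun h _ => ?_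
    obtain ⟨h', hh', he⟩ := h1 h.2
    rwa [← H.subtype_injective he]
  have hinv' : ∀ (g : H) (n : N'),
      θ' ⟨g * n * g⁻¹, (inferInstance : N'.Normal).conj_mem (n : H) n.2 g⟩ = θ' n := fun g n =>
    congrFun ((mem_inertia N').1 (htop ▸ Subgroup.mem_top g)) n
  let d : ℕ := Cfsg.charDegree (θ : N → ℂ)
  have hd : θ' 1 = (d : ℂ) := by
    show (θ : N → ℂ) (eN 1) = _
    rw [map_one]; exact Cfsg.Agent.CharX.irr_deg θ
  have hcop : Nat.Coprime N'.index d := by
    obtain ⟨k, hk⟩ := P.isPGroup'.exists_card_eq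
    have h2 : N'.index ∣ 2 ^ k := by
      rw [← hk]
      show N.relIndex (N ⊔ (P : Subgroup G)) ∣ _
      rw [Subgroup.relIndex_sup_left]
      exact Subgroup.relIndex_dvd_card _ _
    exact Nat.Coprime.coprime_dvd_left h2 (Nat.Coprime.pow_left _ (Nat.coprime_two_left.2 hdodd))
  have hdet : Cfsg.detChar θ' = fun _ => 1 := by
    obtain ⟨m, σ, hσ, hσc⟩ := hθ'
    have hr : ∀ g, starRingEnd ℂ (σ.character g) = σ.character g := fun g => by
      rw [hσc]; exact hθreal _
    have hc : CharExtend.detHom σ = 1 := hom_eq_one _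
      ((Nat.card_congr eN.abelianizationCongr.toEquiv).symm ▸ hodd) (det_sq σ hr)
    rw [← hσc, CharExtend.detChar_eq, hc]
    rfl
  obtain ⟨χ0, hχ0, hχ0res⟩ := CharExtend.exists_extension_det hθ' hinv' hd hcop 1
    (fun n => by rw [hdet]; rfl)
  obtain ⟨χ, ⟨hχirr, hχres, hχdet⟩, huniq⟩ := Cfsg.Agent.S0862.result N' θ' hθ' d hd hcop
    ⟨χ0, hχ0, hχ0res⟩ (fun _ => 1) ⟨isCharacter_one, rfl⟩ (fun n => by rw [hdet])
  have hχreal : ∀ x, starRingEnd ℂ (χ x) = χ x := by
    obtain ⟨m, ρ, hρc⟩ := IsIrrCharacter.isCharacter hχirr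
    have e : (fun x => starRingEnd ℂ (χ x)) = ρ.dual.character := by
      funext x; rw [Representation.char_dual, char_inv, hρc]
    have h1 : Cfsg.detChar (fun x => starRingEnd ℂ (χ x)) = fun _ => 1 := by
      rw [e, CharExtend.detChar_eq, detHom_dual]
      rw [← hρc, CharExtend.detChar_eq] at hχdet
      funext g
      have hg : CharExtend.detHom ρ g = 1 := Units.ext (congrFun hχdet g)
      simp [hg]
    exact congrFun (huniq _ ⟨IsIrrCharacter.conj hχirr, fun n =>
      (congrArg (starRingEnd ℂ) (hχres n)).trans ((hθreal _).trans rfl), h1⟩)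
  -- the restriction to `P`
  let D1 : Subgroup (P : Subgroup G) := N.subgroupOf (P : Subgroup G)
  haveI : Fintype (P : Subgroup G) := Fintype.ofFinite _
  haveI : Fintype D1 := Fintype.ofFinite D1
  let m1 : D1 → ℂ := fun y => (lam (y : (P : Subgroup G)) : ℂ)
  have hψ : Cfsg.IsCharacter (P : Subgroup G)
      (fun x : (P : Subgroup G) => χ (Subgroup.inclusion le_sup_right x)) :=
    IsCharacter.comp (IsIrrCharacter.isCharacter hχirr) _
  have hm1 : Cfsg.IsCharacter D1 m1 :=
    IsIrrCharacter.isCharacter (isIrrCharacter_linear (lam.comp D1.subtype))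
  let ψ : ↥(P : Subgroup G) → ℂ := fun x => χ (Subgroup.inclusion le_sup_right x)
  have hψD : Cfsg.classInner (fun y : D1 => ψ y) m1 = (a θ : ℂ) := by
    let e : D1 ≃ D0 :=
      { toFun := fun y => ⟨⟨((y : (P : Subgroup G)) : G), y.2⟩, (y : (P : Subgroup G)).2⟩
        invFun := fun y => ⟨⟨((y : N) : G), y.2⟩, (y : N).2⟩
        left_inv := fun _ => rfl
        right_inv := fun _ => rfl }
    have e1 : (fun y : D1 => ψ y) = fun y => (fun z : D0 => (θ : N → ℂ) z) (e y) := by
      funext y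
      exact hχres ⟨Subgroup.inclusion le_sup_right (y : (P : Subgroup G)), y.2⟩
    have e2 : m1 = fun y => f (e y) := rfl
    rw [e1, e2, classInner_congr e (fun z : D0 => (θ : N → ℂ) z) f,
      classInner_comm_of_isCharacter (IsCharacter.restrict (IsIrrCharacter.isCharacter θ.2) D0) hfchar,
      ← ha, classInner_indFun_left D0 f (IsCharacter.isClassFunction (IsIrrCharacter.isCharacter θ.2))]
  choose b hb using fun η : Cfsg.IrrCharacter (P : Subgroup G) =>
    IsCharacter.exists_classInner_nat hψ (IsIrrCharacter.isCharacter η.2)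
  choose c hc using fun η : Cfsg.IrrCharacter (P : Subgroup G) =>
    IsCharacter.exists_classInner_nat (IsCharacter.restrict (IsIrrCharacter.isCharacter η.2) D1) hm1
  have hsum : a θ = ∑ η, b η * c η := by
    rw [← Nat.cast_inj (R := ℂ), ← hψD, Nat.cast_sum]
    have e := IsCharacter.eq_sum hψ
    have e1 : (fun y : D1 => ψ y) = ∑ η, (b η : ℂ) •
        fun y : D1 => (η : ↥(P : Subgroup G) → ℂ) y := by
      funext y
      refine (congrFun e y).trans ?_
      simp only [Finset.sum_apply, Pi.smul_apply, hb]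
    rw [e1, classInner_sum_left]
    exact Finset.sum_congr rfl fun η _ => by rw [classInner_smul_left, hc, Nat.cast_mul]
  let cP : Cfsg.IrrCharacter (P : Subgroup G) → Cfsg.IrrCharacter (P : Subgroup G) := fun η =>
    ⟨fun x => starRingEnd ℂ ((η : ↥(P : Subgroup G) → ℂ) x), IsIrrCharacter.conj η.2⟩
  obtain ⟨η, -, hηr, hηodd⟩ := exists_fixed_odd Finset.univ (fun η => b η * c η) cP
    (fun _ _ => Finset.mem_univ _) (fun η _ => Subtype.ext (funext fun n => Complex.conj_conj _))
    (fun η _ => by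
      have e1 : b (cP η) = b η := by
        rw [← Nat.cast_inj (R := ℂ), ← hb, ← Complex.conj_natCast, ← hb, ← classInner_conj]
        congr 1
        exact funext fun n => (hχreal _).symm
      have e2 : c (cP η) = c η := by
        rw [← Nat.cast_inj (R := ℂ), ← hc, ← Complex.conj_natCast, ← hc, ← classInner_conj]
        congr 1
        exact funext fun y => by
          show (lam _ : ℂ) = starRingEnd ℂ (lam _ : ℂ)
          rw [conj_unit, hinvlam _ y.2]
      simp only [e1, e2])
    (hsum ▸ haodd)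
  have hcodd := (Nat.odd_mul.1 hηodd).2
  -- `η` lies over `lam`, hence is linear
  let β : ↥(P : Subgroup G) → ℂ := fun x => ((lam⁻¹) x : ℂ) * (η : ↥(P : Subgroup G) → ℂ) x
  have hβ : Cfsg.IsIrrCharacter (P : Subgroup G) β := twist lam⁻¹ η.2
  have hβ1 : Cfsg.classInner (fun y : D1 => β y) (fun _ => 1) = (c η : ℂ) := by
    rw [← hc]
    simp only [Cfsg.classInner, map_one, mul_one, β, m1, conj_unit, MonoidHom.inv_apply, ← map_inv]
    congr 1
    exact Finset.sum_congr rfl fun y _ => mul_comm _ _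
  have hres : ∀ y : D1, (η : ↥(P : Subgroup G) → ℂ) y =
      (η : ↥(P : Subgroup G) → ℂ) 1 * (lam (y : (P : Subgroup G)) : ℂ) := by
    intro y
    have := restrict_over_one D1 hβ (by
      rw [hβ1]; exact Nat.cast_ne_zero.2 fun h => by simp [h] at hcodd) y
    simp only [β, map_one, Units.val_one, one_mul, MonoidHom.inv_apply, inv_one] at this
    rw [← this]
    rw [mul_comm, ← mul_assoc, ← Units.val_mul, mul_inv_cancel, Units.val_one, one_mul]
  have hcd : c η = Cfsg.charDegree (η : ↥(P : Subgroup G) → ℂ) := by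
    rw [← Nat.cast_inj (R := ℂ), ← hc, ← Cfsg.Agent.CharX.irr_deg]
    have e : (fun y : D1 => (η : ↥(P : Subgroup G) → ℂ) y) =
        (η : ↥(P : Subgroup G) → ℂ) 1 • m1 := funext fun y => by
      rw [hres y]; rfl
    rw [e, classInner_smul_left,
      classInner_self_irr (χ := m1) (isIrrCharacter_linear (lam.comp D1.subtype)), mul_one]
  have hη1 : (η : ↥(P : Subgroup G) → ℂ) 1 = 1 := by
    obtain ⟨k, hk⟩ := P.isPGroup'.exists_card_eq
    have h1 := Cfsg.Agent.CharX.irr_deg_dvd_card η
    rw [hk, ← hcd] at h1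
    obtain ⟨j, -, hj⟩ := (Nat.dvd_prime_pow Nat.prime_two).1 h1
    rw [Cfsg.Agent.CharX.irr_deg, ← hcd]
    rcases j with _ | j
    · simp [hj]
    · exact absurd hcodd (by rw [hj]; simp [Nat.even_pow])
  obtain ⟨ν, hν⟩ := exists_hom_of_degree_one (IsIrrCharacter.isCharacter η.2) hη1
  refine ⟨ν, MonoidHom.ext fun x => ?_, fun y hy => ?_⟩
  · have h := congrFun (congrArg Subtype.val hηr) x
    simp only [cP, hν, conj_unit] at h
    have h' : ν x⁻¹ = ν x := Units.ext h
    rw [map_inv, inv_eq_iff_mul_eq_one] at h'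
    rw [MonoidHom.pow_apply, pow_two, h', MonoidHom.one_apply]
  · refine Units.ext ?_
    have := hres ⟨y, hy⟩
    rw [hη1, one_mul, hν] at this
    exact this

/-- Let N be a normal subgroup of the finite group G, P a Sylow 2-subgroup of G and Q = P ∩ N. Suppose that P/QP' and Q/Q' are elementary abelian (every square of an element of P lies in the subgroup generated by Q and the derived subgroup of P, and every square of an element of Q lies in the derived subgroup of Q), and that the commutator factor group N/N' has odd order. Then P/P' is elementary abelian. -/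
theorem result {G : Type*} [Group G] [Finite G] (N : Subgroup G) [N.Normal] (P : Sylow 2 G)
    (hP : ∀ x ∈ (P : Subgroup G), x ^ 2 ∈ ((P : Subgroup G) ⊓ N) ⊔ ⁅(P : Subgroup G), (P : Subgroup G)⁆)
    (hQ : ∀ x ∈ (P : Subgroup G) ⊓ N, x ^ 2 ∈ ⁅(P : Subgroup G) ⊓ N, (P : Subgroup G) ⊓ N⁆)
    (hodd : Odd (Nat.card (Abelianization N))) :
    ∀ x ∈ (P : Subgroup G), x ^ 2 ∈ ⁅(P : Subgroup G), (P : Subgroup G)⁆ := by
  classical
  intro x hx
  let Pm : Subgroup G := (P : Subgroup G)
  have htriv : ∀ lam : Pm →* ℂˣ, lam ⟨x, hx⟩ ^ 2 = 1 := by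
    intro lam
    obtain ⟨ν, hν2, hν⟩ := key N P hQ hodd lam
    have hle : (Pm ⊓ N) ⊔ ⁅Pm, Pm⁆ ≤ (lam / ν).ker.map Pm.subtype := by
      refine sup_le (fun y hy => ?_) ?_
      · refine ⟨⟨y, hy.1⟩, ?_, rfl⟩
        rw [SetLike.mem_coe, MonoidHom.mem_ker, MonoidHom.div_apply, hν ⟨y, hy.1⟩ hy.2, div_self']
      · rw [Subgroup.commutator_le]
        intro a ha b hb
        refine ⟨⁅(⟨a, ha⟩ : Pm), ⟨b, hb⟩⁆, ?_, rfl⟩
        rw [SetLike.mem_coe, MonoidHom.mem_ker, map_commutatorElement]
        exact commutatorElement_eq_one_iff_mul_comm.2 (mul_comm _ _)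
    obtain ⟨w, hw, hwe⟩ := hle (hP x hx)
    have he : w = (⟨x, hx⟩ : Pm) ^ 2 := Subtype.ext hwe
    rw [SetLike.mem_coe, MonoidHom.mem_ker, he, map_pow, MonoidHom.div_apply, div_pow,
      ← MonoidHom.pow_apply ν, hν2, MonoidHom.one_apply, div_one] at hw
    exact hw
  haveI : Finite (Abelianization Pm) := Quotient.finite _
  by_contra hmem
  have hne : Abelianization.of ((⟨x, hx⟩ : Pm) ^ 2) ≠ 1 := by
    intro h
    apply hmem
    have h1 : (⟨x, hx⟩ : Pm) ^ 2 ∈ commutator Pm := by
      rw [← Abelianization.ker_of]; exact h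
    have h2 := Subgroup.mem_map_of_mem Pm.subtype h1
    rw [commutator_def, Subgroup.map_commutator, ← MonoidHom.range_eq_map,
      Subgroup.range_subtype] at h2
    exact h2
  obtain ⟨f, hf⟩ := CommGroup.exists_apply_ne_one_of_hasEnoughRootsOfUnity (Abelianization Pm) ℂ hne
  exact hf (by rw [map_pow, map_pow]; exact htriv (f.comp Abelianization.of))

end Cfsg.Agent.S4582
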