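import Cfsg.Statements.S4585
import Cfsg.Agent.S4584
import Mathlib.GroupTheory.Nilpotent
import Mathlib.GroupTheory.Frattini

set_option autoImplicit false
open Cfsg
open scoped commutatorElement

namespace Cfsg.Agent.S4585

theorem isMulCommutative_of_small {Q : Type*} [Group Q] [Finite Q] {p n : ℕ} [Fact p.Prime]
    (h : Nat.card Q = p ^ n) (hn : n ≤ 2) : IsMulCommutative Q := by
  interval_cases n
  · have : Subsingleton Q := (Nat.card_eq_one_iff_unique.mp (by simpa using h)).1
    exact ⟨⟨fun a b => Subsingleton.elim _ _⟩⟩
  · haveI := isCyclic_of_prime_card (α := Q) (p := p) (by simpa using h)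
    exact ⟨⟨fun a b => (IsCyclic.commGroup (α := Q)).mul_comm a b⟩⟩
  · exact IsPGroup.isMulCommutative_of_card_eq_prime_sq h

theorem class_le_one_iff {Q : Type*} [Group Q] [Group.IsNilpotent Q] :
    Group.nilpotencyClass Q ≤ 1 ↔ IsMulCommutative Q :=
  Group.IsNilpotent.nilpotencyClass_le_one_iff


/-- Let p be a prime and P a group of order p^4. Then P' has index p^2 in P if and only if P has maximal nilpotency class, that is, nilpotency class exactly 3. -/
theorem result {P : Type*} [Group P] [Finite P] (p : ℕ) [Fact p.Prime] (hP : Nat.card P = p ^ 4) :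
    (commutator P).index = p ^ 2 ↔ Group.nilpotencyClass P = 3 := by
  have hp : p.Prime := Fact.out
  have hPp : IsPGroup p P := IsPGroup.of_card hP
  haveI hnil := hPp.isNilpotent
  haveI : Nontrivial P := Finite.one_lt_card_iff_nontrivial.mp
    (by rw [hP]; exact Nat.one_lt_pow (by norm_num) hp.one_lt)
  set Z := Subgroup.center P with hZdef
  obtain ⟨k, hk0, hk⟩ := IsPGroup.card_center_eq_prime_pow hP (by norm_num)
  have hmul := Z.card_mul_index
  rw [hP, hk] at hmul
  obtain ⟨j, -, hj⟩ := (Nat.dvd_prime_pow hp).mp (Dvd.intro_left _ hmul : Z.index ∣ p ^ 4)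
  rw [hj, ← pow_add] at hmul
  have hkj := Nat.pow_right_injective hp.two_le hmul
  have hQcard : Nat.card (P ⧸ Z) = p ^ j := by rw [← hj]; rfl
  have hclassP : Group.nilpotencyClass P = Group.nilpotencyClass (P ⧸ Z) + 1 :=
    Group.nilpotencyClass_eq_quotient_center_plus_one
  have hle3 : Group.nilpotencyClass (P ⧸ Z) ≤ 2 := by
    rcases Nat.eq_zero_or_pos j with h0 | h0
    · have hs : Subsingleton (P ⧸ Z) := (Nat.card_eq_one_iff_unique.mp (by simp [hQcard, h0])).1
      simp [Group.nilpotencyClass_zero_iff_subsingleton.mpr hs]
    haveI : Nontrivial (P ⧸ Z) := Finite.one_lt_card_iff_nontrivial.mp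
      (by rw [hQcard]; exact Nat.one_lt_pow h0.ne' hp.one_lt)
    rw [Group.nilpotencyClass_eq_quotient_center_plus_one (G := P ⧸ Z)]
    obtain ⟨k', hk0', hk'⟩ := IsPGroup.card_center_eq_prime_pow hQcard h0
    have hmul' := (Subgroup.center (P ⧸ Z)).card_mul_index
    rw [hQcard, hk'] at hmul'
    obtain ⟨j', -, hj'⟩ := (Nat.dvd_prime_pow hp).mp
      (Dvd.intro_left _ hmul' : (Subgroup.center (P ⧸ Z)).index ∣ p ^ j)
    rw [hj', ← pow_add] at hmul'
    have := Nat.pow_right_injective hp.two_le hmul'
    have hc := isMulCommutative_of_small (Q := (P ⧸ Z) ⧸ Subgroup.center (P ⧸ Z)) (n := j')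
      (by rw [← hj']; rfl) (by omega)
    exact Nat.succ_le_succ (class_le_one_iff.mpr hc)
  have hiff : Group.nilpotencyClass P = 3 ↔ ¬ commutator P ≤ Z := by
    constructor
    · intro h hle
      have hc : IsMulCommutative (P ⧸ Z) := ⟨⟨fun a b => by
        induction a using QuotientGroup.induction_on with
        | H x =>
          induction b using QuotientGroup.induction_on with
          | H y =>
            refine commutatorElement_eq_one_iff_mul_comm.mp ?_
            change ⁅QuotientGroup.mk' Z x, QuotientGroup.mk' Z y⁆ = 1
            rw [← map_commutatorElement]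
            exact (QuotientGroup.eq_one_iff _).mpr
              (hle (Subgroup.commutator_mem_commutator trivial trivial))⟩⟩
      have := class_le_one_iff.mpr hc
      omega
    · intro h
      by_contra hne
      refine h ?_
      have hc : IsMulCommutative (P ⧸ Z) := class_le_one_iff.mp (by omega)
      rw [commutator_def, Subgroup.commutator_le]
      intro x _ y _
      rw [hZdef, ← QuotientGroup.eq_one_iff]
      change QuotientGroup.mk' Z ⁅x, y⁆ = 1
      rw [map_commutatorElement]
      exact commutatorElement_eq_one_iff_mul_comm.mpr (hc.is_comm.comm _ _)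
  rw [hiff]
  set D := commutator P with hDdef
  have hD := D.card_mul_index
  rw [hP] at hD
  obtain ⟨d, -, hd⟩ := (Nat.dvd_prime_pow hp).mp (Dvd.intro _ hD : Nat.card D ∣ p ^ 4)
  have hcomm_of : D = ⊥ → j = 0 := fun h => by
    have hZtop := S4584.comm_eq_top h
    rw [← hZdef] at hZtop
    rw [hZtop, Subgroup.index_top] at hj
    exact (Nat.pow_eq_one.mp hj.symm).resolve_left hp.one_lt.ne'
  constructor
  · intro hi hle
    rw [hd, hi, ← pow_add] at hD
    have hd2 : d = 2 := by have := Nat.pow_right_injective hp.two_le hD; omega
    subst hd2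
    have hdvd : p ^ 2 ∣ p ^ k := by rw [← hk, ← hd]; exact Subgroup.card_dvd_of_le hle
    have := (Nat.pow_dvd_pow_iff_le_right hp.one_lt).mp hdvd
    rcases Nat.lt_or_ge j 2 with hj2 | hj2
    · -- cyclic central quotient
      have hc := isMulCommutative_of_small (Q := P ⧸ Z) hQcard (by omega)
      haveI : IsCyclic (P ⧸ Z) := by
        interval_cases j
        · haveI : Subsingleton (P ⧸ Z) := (Nat.card_eq_one_iff_unique.mp (by simp [hQcard])).1
          infer_instance
        · exact isCyclic_of_prime_card (p := p) (by simp [hQcard])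
      have hcc := isMulCommutative_of_isCyclic_quotient_center_self P
      have : D = ⊥ := by
        rw [eq_bot_iff, hDdef, commutator_def, Subgroup.commutator_le]
        intro x _ y _
        exact commutatorElement_eq_one_iff_mul_comm.mpr (hcc.is_comm.comm x y)
      rw [this, Subgroup.card_bot] at hd
      exact (Nat.one_lt_pow (by norm_num) hp.one_lt).ne hd
    · have : Z.index = p ^ 2 := by rw [hj, show j = 2 by omega]
      have h := S4584.derived_card this
      rw [← hDdef, hd] at h
      have := Nat.pow_right_injective hp.two_le (h.trans (pow_one p).symm)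
      omega
  · intro hnle
    have hd0 : d ≠ 0 := fun h => hnle (by
      rw [h, pow_zero] at hd
      rw [Subgroup.eq_bot_of_card_eq D hd]
      exact bot_le)
    have hd1 : d ≠ 1 := fun h => hnle (by
      rw [h, pow_one] at hd
      obtain ⟨y, hy, hy1⟩ := (Subgroup.bot_or_exists_ne_one _).resolve_left
        (S4584.inf_center_ne_bot hPp D (fun hb => by rw [hb, Subgroup.card_bot] at hd; exact hp.one_lt.ne hd))
      intro g hg
      have hyy : Subgroup.zpowers y = D := by
        refine Subgroup.eq_of_le_of_card_ge (Subgroup.zpowers_le.mpr hy.1) (le_of_eq ?_)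
        have : orderOf (⟨y, hy.1⟩ : D) = p :=
          orderOf_eq_prime (by rw [← hd]; exact pow_card_eq_one') (by simpa [Subtype.ext_iff] using hy1)
        rw [Nat.card_zpowers, hd, ← this, ← Subgroup.orderOf_coe]
      obtain ⟨n, hn⟩ := hyy.symm ▸ hg
      rw [← hn]
      exact Subgroup.zpow_mem Z hy.2 n)
    have hi2 : D.index ≠ 1 := fun h => hnle (by
      have : Group.IsSolvable P := inferInstance
      exact absurd (Subgroup.index_eq_one.mp h) (by
        intro htop
        exact (Group.IsSolvable.commutator_lt_top_of_nontrivial P).ne htop))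
    have hip : D.index ≠ p := by
      intro h
      have hD1 : D ≠ ⊤ := fun h' => hp.ne_one (by rw [← h, h', Subgroup.index_top])
      obtain ⟨g, hg⟩ : ∃ g, g ∉ D := by
        by_contra hh
        push Not at hh
        exact hD1 (eq_top_iff.mpr fun x _ => hh x)
      have hsup : Subgroup.zpowers g ⊔ D = ⊤ := by
        have hA : D ≤ Subgroup.zpowers g ⊔ D := le_sup_right
        have h1 := Subgroup.relIndex_mul_index hA
        rw [h] at h1
        rcases hp.eq_one_or_self_of_dvd _ (Dvd.intro _ h1) with h2 | h2
        · exact absurd (Subgroup.relIndex_eq_one.mp h2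
            (Subgroup.mem_sup_left (Subgroup.mem_zpowers g))) hg
        · rw [h2] at h1
          exact Subgroup.index_eq_one.mp (Nat.eq_of_mul_eq_mul_left hp.pos (by rw [h1, mul_one]))
      have hfr : D ≤ frattini P := by
        refine le_iInf fun M => le_iInf fun hM => ?_
        have hMn : M.Normal := Subgroup.NormalizerCondition.normal_of_coatom M normalizerCondition_of_isNilpotent hM
        haveI : IsSimpleGroup (P ⧸ M) := by
          refine { toNontrivial := ?_, eq_bot_or_eq_top_of_normal := fun N _ => ?_ }
          · exact Finite.one_lt_card_iff_nontrivial.mp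
              (Subgroup.one_lt_index_of_ne_top hM.ne_top)
          · have hle : M ≤ N.comap (QuotientGroup.mk' M) := QuotientGroup.le_comap_mk' _ _
            rcases hM.le_iff.mp hle with h' | h'
            · right
              rw [← Subgroup.map_comap_eq_self_of_surjective (QuotientGroup.mk'_surjective M) N, h',
                Subgroup.map_top_of_surjective _ (QuotientGroup.mk'_surjective M)]
            · left
              rw [← Subgroup.map_comap_eq_self_of_surjective (QuotientGroup.mk'_surjective M) N, h',
                QuotientGroup.map_mk'_self]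
        intro x hx
        have hker : D ≤ (QuotientGroup.mk' M).ker := by
          rw [hDdef, commutator_def, Subgroup.commutator_le]
          intro a _ b _
          rw [MonoidHom.mem_ker, map_commutatorElement, commutatorElement_eq_one_iff_mul_comm]
          exact mul_comm _ _
        simpa using hker hx
      have hg2 := frattini_nongenerating (K := Subgroup.zpowers g)
        (eq_top_iff.mpr (hsup.ge.trans (sup_le_sup_left hfr _)))
      refine hnle ?_
      have : IsMulCommutative P := ⟨⟨fun a b => by
        obtain ⟨m, rfl⟩ := (hg2 ▸ Subgroup.mem_top a : a ∈ Subgroup.zpowers g)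
        obtain ⟨n, rfl⟩ := (hg2 ▸ Subgroup.mem_top b : b ∈ Subgroup.zpowers g)
        exact zpow_mul_comm g m n⟩⟩
      rw [hDdef, commutator_def, Subgroup.commutator_le]
      intro x _ y _
      rw [commutatorElement_eq_one_iff_mul_comm.mpr (this.is_comm.comm x y)]
      exact one_mem _
    obtain ⟨i, -, hi⟩ := (Nat.dvd_prime_pow hp).mp (Dvd.intro_left _ hD : D.index ∣ p ^ 4)
    rw [hd, hi, ← pow_add] at hD
    have := Nat.pow_right_injective hp.two_le hD
    have : i ≠ 0 := fun h => hi2 (by simp [hi, h])
    have : i ≠ 1 := fun h => hip (by simp [hi, h])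
    rw [hi, show i = 2 by omega]

end Cfsg.Agent.S4585
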