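import Cfsg.Statements.S4586
import Mathlib.GroupTheory.Abelianization.Defs
import Mathlib.GroupTheory.Commutator.Basic
import Mathlib.Tactic

set_option autoImplicit false
open Cfsg
open scoped commutatorElement

namespace Cfsg.Agent.S4586

theorem key {P : Type*} [Group P] [Finite P] (p : ℕ) [Fact p.Prime] (N : Subgroup P) [hNn : N.Normal]
    (hN : N.index = p) (x : P) (hx : x ∉ N) :
    (commutator P).index * Nat.card (commutator N) =
      p * Nat.card {n : N // x * n * x⁻¹ * (n : P)⁻¹ ∈ (commutator N).map N.subtype} := by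
  have hp : p.Prime := Fact.out
  let c : N →* N :=
    { toFun := fun n => ⟨x * n * x⁻¹, hNn.conj_mem n n.2 x⟩
      map_one' := by ext; simp
      map_mul' := fun a b => by ext; simp }
  let q : N →* Abelianization N := Abelianization.of
  let f : N →* Abelianization N :=
    { toFun := fun n => q (c n) * (q n)⁻¹
      map_one' := by simp
      map_mul' := fun a b => by
        simp only [map_mul, mul_inv_rev]
        ac_rfl }
  set L0 : Subgroup N := f.range.comap q with hL0
  set L : Subgroup P := L0.map N.subtype with hLdef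
  have hN'L : commutator N ≤ L0 := by
    intro d hd
    rw [hL0, Subgroup.mem_comap]
    have : q d = 1 := by
      rw [← MonoidHom.mem_ker]
      simp only [q, Abelianization.ker_of]
      exact hd
    rw [this]
    exact one_mem _
  have hqc : ∀ d : N, q d = 1 → q (c d) = 1 := by
    intro d hd
    rw [← MonoidHom.mem_ker] at hd ⊢
    simp only [q, Abelianization.ker_of] at hd ⊢
    have h1 : (commutator N).map c ≤ commutator N := by
      rw [commutator_def, Subgroup.map_commutator]
      exact Subgroup.commutator_mono le_top le_top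
    exact h1 ⟨d, hd, rfl⟩
  have hqsurj : Function.Surjective q := Quotient.mk''_surjective
  have hqc' : ∀ a b : N, q a = q b → q (c a) = q (c b) := by
    intro a b h
    have := hqc (a * b⁻¹) (by rw [map_mul, map_inv, h, mul_inv_cancel])
    rwa [map_mul, map_inv, map_mul, map_inv, mul_inv_eq_one] at this
  have htop : N ⊔ Subgroup.zpowers x = ⊤ := by
    have h1 := Subgroup.relIndex_mul_index (le_sup_left : N ≤ N ⊔ Subgroup.zpowers x)
    rw [hN] at h1
    rcases hp.eq_one_or_self_of_dvd _ (Dvd.intro _ h1) with h2 | h2
    · exact absurd (Subgroup.relIndex_eq_one.mp h2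
        (Subgroup.mem_sup_right (Subgroup.mem_zpowers x))) hx
    · rw [h2] at h1
      exact Subgroup.index_eq_one.mp (Nat.eq_of_mul_eq_mul_left hp.pos (by rw [h1, mul_one]))
  have hcL : ∀ n : N, n ∈ L0 → c n ∈ L0 := by
    rintro n ⟨m, hm⟩
    refine ⟨c m, ?_⟩
    change q (c (c m)) * (q (c m))⁻¹ = q (c n)
    change q (c m) * (q m)⁻¹ = q n at hm
    rw [← map_inv, ← map_mul] at hm ⊢
    have := hqc' _ _ hm
    rwa [map_mul, map_inv] at this
  haveI hLn : L.Normal := by
    rw [← Subgroup.normalizer_eq_top_iff, eq_top_iff, ← htop]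
    refine sup_le ?_ (Subgroup.zpowers_le.mpr ?_)
    · intro n hn
      haveI : L0.Normal := Subgroup.Normal.comap inferInstance _
      rw [Subgroup.mem_normalizer_iff_map_conj_eq]
      refine Subgroup.eq_of_le_of_card_ge ?_ (le_of_eq ?_)
      · rintro _ ⟨_, ⟨d, hd, rfl⟩, rfl⟩
        exact ⟨(⟨n, hn⟩ : N) * d * (⟨n, hn⟩ : N)⁻¹, this.conj_mem d hd _, rfl⟩
      · exact (Nat.card_congr ((L).equivMapOfInjective _ (MulEquiv.injective _)).toEquiv)
    · rw [Subgroup.mem_normalizer_iff_map_conj_eq]
      refine Subgroup.eq_of_le_of_card_ge ?_ (le_of_eq ?_)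
      · rintro _ ⟨_, ⟨d, hd, rfl⟩, rfl⟩
        exact ⟨c d, hcL d hd, rfl⟩
      · exact (Nat.card_congr ((L).equivMapOfInjective _ (MulEquiv.injective _)).toEquiv)
  have hxN : ∀ n : N, ⁅x, (n : P)⁆ ∈ L := by
    intro n
    refine ⟨c n * n⁻¹, ⟨n, ?_⟩, ?_⟩
    · change q (c n) * (q n)⁻¹ = q (c n * n⁻¹)
      rw [map_mul, map_inv]
    · simp [c, commutatorElement_def]
  have hPL : commutator P = L := by
    refine le_antisymm ?_ ?_
    · let π := QuotientGroup.mk' L
      have hcomm : ∀ a b : P, Commute (π a) (π b) := by
        have hNN : ∀ a b : N, Commute (π a) (π b) := fun a b => by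
          refine commutatorElement_eq_one_iff_mul_comm.mp ?_
          rw [← map_commutatorElement]
          exact (QuotientGroup.eq_one_iff _).mpr
            ⟨⁅a, b⁆, hN'L (Subgroup.commutator_mem_commutator trivial trivial), rfl⟩
        have hxn : ∀ n : N, Commute (π x) (π n) := fun n => by
          refine commutatorElement_eq_one_iff_mul_comm.mp ?_
          rw [← map_commutatorElement]
          exact (QuotientGroup.eq_one_iff _).mpr (hxN n)
        have hgen : ∀ b : P, Commute (π x) (π b) → (∀ n : N, Commute (π n) (π b)) →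
            ∀ a : P, Commute (π a) (π b) := by
          intro b hb hn a
          have hle : N ⊔ Subgroup.zpowers x ≤ (Subgroup.centralizer ({π b} : Set _)).comap π :=
            sup_le (fun n hn' => Subgroup.mem_centralizer_singleton_iff.mpr (hn ⟨n, hn'⟩))
              (Subgroup.zpowers_le.mpr (Subgroup.mem_centralizer_singleton_iff.mpr hb))
          rw [htop] at hle
          exact Subgroup.mem_centralizer_singleton_iff.mp (hle (Subgroup.mem_top a))
        intro a b
        exact hgen b (hgen x (Commute.refl _) (fun n => (hxn n).symm) b).symm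
          (fun n => (hgen n (hxn n) (fun m => hNN m n) b).symm) a
      rw [commutator_def, Subgroup.commutator_le]
      intro a _ b _
      rw [← QuotientGroup.eq_one_iff]
      change π ⁅a, b⁆ = 1
      rw [map_commutatorElement]
      exact commutatorElement_eq_one_iff_mul_comm.mpr (hcomm a b)
    · rintro _ ⟨d, ⟨m, hm⟩, rfl⟩
      have h1 : q (d * (c m * m⁻¹)⁻¹) = 1 := by
        rw [map_mul, map_inv, map_mul, map_inv, ← hm]
        exact mul_inv_cancel _
      rw [← MonoidHom.mem_ker] at h1
      simp only [q, Abelianization.ker_of] at h1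
      have h2 : ((d * (c m * m⁻¹)⁻¹ : N) : P) ∈ commutator P := by
        have : (commutator N).map N.subtype ≤ commutator P := by
          rw [commutator_def, Subgroup.map_commutator, commutator_def]
          exact Subgroup.commutator_mono le_top le_top
        exact this ⟨_, h1, rfl⟩
      have h3 : ((c m * m⁻¹ : N) : P) ∈ commutator P := by
        have : ((c m * m⁻¹ : N) : P) = ⁅x, (m : P)⁆ := by simp [c, commutatorElement_def]
        rw [this]
        exact Subgroup.commutator_mem_commutator trivial trivial
      have e : N.subtype d = ((d * (c m * m⁻¹)⁻¹ : N) : P) * ((c m * m⁻¹ : N) : P) := by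
        rw [← Subgroup.coe_mul, inv_mul_cancel_right]; rfl
      rw [e]
      exact mul_mem h2 h3
  have hidx : L.index = L0.index * p := by
    rw [hLdef, Subgroup.index_map_subtype, hN]
  have hC : Nat.card {n : N // x * n * x⁻¹ * (n : P)⁻¹ ∈ (commutator N).map N.subtype} =
      Nat.card f.ker := by
    refine Nat.card_congr (Equiv.subtypeEquivRight fun n => ?_)
    rw [MonoidHom.mem_ker]
    change _ ↔ q (c n) * (q n)⁻¹ = 1
    rw [← map_inv, ← map_mul, ← MonoidHom.mem_ker]
    simp only [q, Abelianization.ker_of]
    constructor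
    · rintro ⟨d, hd, hd'⟩
      have : d = c n * n⁻¹ := Subtype.ext (by simpa [c] using hd')
      exact this ▸ hd
    · intro h
      exact ⟨_, h, by simp [c]⟩
  rw [hPL, hidx, hC]
  have h1 : L0.index = f.range.index := Subgroup.index_comap_of_surjective _ hqsurj
  have h2 := f.range.card_mul_index
  have h3 := f.ker.card_mul_index
  rw [Subgroup.index_ker] at h3
  have h4 : Nat.card (Abelianization N) * Nat.card (commutator N) = Nat.card N := by
    rw [← (commutator N).card_mul_index, mul_comm]
    rfl
  rw [h1]
  haveI : Finite (Abelianization N) := Quotient.finite _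
  have hr : 0 < Nat.card f.range := Nat.card_pos
  refine Nat.eq_of_mul_eq_mul_left hr ?_
  calc Nat.card f.range * (f.range.index * p * Nat.card (commutator N))
      = p * (Nat.card f.range * f.range.index * Nat.card (commutator N)) := by ring
    _ = p * (Nat.card f.ker * Nat.card f.range) := by rw [h2, h4, h3]
    _ = Nat.card f.range * (p * Nat.card f.ker) := by ring


/-- Let p be a prime, P a finite p-group and N a normal subgroup of P of index p. For x ∈ P write c(x) for the number of elements n of N whose commutator x n x⁻¹ n⁻¹ lies in the derived subgroup N' (so c(x)/#N' is the order of the centralizer of x acting on N/N'). Then [P : P'] = p² if and only if c(x) = p·#N' for every x ∈ P outside N, and also if and only if c(x) = p·#N' for some x ∈ P outside N. -/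
theorem result {P : Type*} [Group P] [Finite P] (p : ℕ) [Fact p.Prime] (hP : IsPGroup p P) (N : Subgroup P) [N.Normal] (hN : N.index = p) :
    ((commutator P).index = p ^ 2 ↔ ∀ x : P, x ∉ N →
        Nat.card {n : N // x * n * x⁻¹ * (n : P)⁻¹ ∈ (commutator N).map N.subtype} = p * Nat.card (commutator N)) ∧
    ((commutator P).index = p ^ 2 ↔ ∃ x : P, x ∉ N ∧
        Nat.card {n : N // x * n * x⁻¹ * (n : P)⁻¹ ∈ (commutator N).map N.subtype} = p * Nat.card (commutator N)) := by
  have hp : p.Prime := Fact.out
  have hiff : ∀ x : P, x ∉ N → ((commutator P).index = p ^ 2 ↔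
      Nat.card {n : N // x * n * x⁻¹ * (n : P)⁻¹ ∈ (commutator N).map N.subtype} =
        p * Nat.card (commutator N)) := by
    intro x hx
    have h := key p N hN x hx
    have hc : 0 < Nat.card (commutator N) := Nat.card_pos
    constructor
    · intro h2
      rw [h2] at h
      refine Nat.eq_of_mul_eq_mul_left hp.pos ?_
      rw [← h]; ring
    · intro h2
      rw [h2] at h
      refine Nat.eq_of_mul_eq_mul_right hc ?_
      rw [h]; ring
  obtain ⟨x₀, hx₀⟩ : ∃ x, x ∉ N := by
    by_contra hh
    push Not at hh
    have : N = ⊤ := eq_top_iff.mpr fun x _ => hh x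
    rw [this, Subgroup.index_top] at hN
    exact hp.one_lt.ne hN
  exact ⟨⟨fun h x hx => (hiff x hx).mp h, fun h => (hiff x₀ hx₀).mpr (h x₀ hx₀)⟩,
    ⟨fun h => ⟨x₀, hx₀, (hiff x₀ hx₀).mp h⟩, fun ⟨x, hx, h⟩ => (hiff x hx).mpr h⟩⟩

end Cfsg.Agent.S4586
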