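import Cfsg.Statements.S4587
import Cfsg.Agent.Lib.PLocal.MaxClass
import Cfsg.Agent.Lib.Transfer.Tate
import Cfsg.Agent.Lib.FGBasics.Sylow
import Cfsg.Agent.Lib.Solvable.Basic
import Cfsg.Agent.Lib.Solvable.Fitting
import Cfsg.Agent.Lib.Solvable.NilpotentFrattini
import Cfsg.Agent.Lib.FiniteGroup.Regular
import Mathlib

set_option autoImplicit false
set_option linter.style.haveILetI false
open Cfsg

namespace Cfsg.Agent.S4587

open Cfsg.Agent
open scoped commutatorElement Pointwise IsMulCommutative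

section PGroup
variable {R : Type*} [Group R]

theorem comm_le_of_gen {A K : Subgroup R} [K.Normal] {s : R} (hgen : A ⊔ Subgroup.zpowers s = ⊤)
    (hA : ∀ a ∈ A, ∀ b ∈ A, ⁅a, b⁆ ∈ K) (hs : ∀ a ∈ A, ⁅a, s⁆ ∈ K) : commutator R ≤ K := by
  set f := QuotientGroup.mk' K
  have hcm : ∀ {a b : R}, ⁅a, b⁆ ∈ K → f a * f b = f b * f a := fun {a b} h => by
    rw [← commutatorElement_eq_one_iff_mul_comm, ← map_commutatorElement]
    exact (QuotientGroup.eq_one_iff _).2 h
  have hS : ∀ x : R, f x * f s = f s * f x := by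
    intro x
    have h1 : A ⊔ Subgroup.zpowers s ≤ (Subgroup.centralizer {f s}).comap f :=
      sup_le (fun a ha => Subgroup.mem_centralizer_singleton_iff.2 (hcm (hs a ha)))
        (Subgroup.zpowers_le.2 (Subgroup.mem_centralizer_singleton_iff.2 rfl))
    exact Subgroup.mem_centralizer_singleton_iff.1 (h1 (hgen ▸ Subgroup.mem_top x))
  have hAx : ∀ a ∈ A, ∀ x : R, f x * f a = f a * f x := by
    intro a ha x
    have h1 : A ⊔ Subgroup.zpowers s ≤ (Subgroup.centralizer {f a}).comap f :=
      sup_le (fun b hb => Subgroup.mem_centralizer_singleton_iff.2 (hcm (hA b hb a ha)))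
        (Subgroup.zpowers_le.2 (Subgroup.mem_centralizer_singleton_iff.2 (hS a).symm))
    exact Subgroup.mem_centralizer_singleton_iff.1 (h1 (hgen ▸ Subgroup.mem_top x))
  rw [commutator_def, Subgroup.commutator_le]
  intro x _ y _
  refine (QuotientGroup.eq_one_iff _).1 ?_
  show f _ = 1
  rw [map_commutatorElement, commutatorElement_eq_one_iff_mul_comm]
  have h1 : A ⊔ Subgroup.zpowers s ≤ (Subgroup.centralizer {f x}).comap f :=
    sup_le (fun b hb => Subgroup.mem_centralizer_singleton_iff.2 (hAx b hb x).symm)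
      (Subgroup.zpowers_le.2 (Subgroup.mem_centralizer_singleton_iff.2 (hS x).symm))
  exact (Subgroup.mem_centralizer_singleton_iff.1 (h1 (hgen ▸ Subgroup.mem_top y))).symm

variable [Finite R] {p : ℕ} [hp : Fact p.Prime] (hR : IsPGroup p R)
  (hi : (commutator R).index = p ^ 2)
include hR hi

/-- A normal subgroup outside the derived subgroup contains it and is of index `p` or `1`. -/
theorem comm_le {A : Subgroup R} [A.Normal] (hA : ¬ A ≤ commutator R) :
    commutator R ≤ A ∧ (A ≠ ⊤ → A.index = p) := by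
  haveI := hR.isNilpotent
  set M := A ⊔ commutator R with hM
  have hlt : commutator R < M := lt_of_le_not_ge le_sup_right fun h => hA (le_sup_left.trans h)
  have hMi : M.index = 1 ∨ M.index = p := by
    obtain ⟨j, hj, hje⟩ := (Nat.dvd_prime_pow hp.out).1 (hi ▸ Subgroup.index_dvd_of_le hlt.le)
    have h2 := Subgroup.index_strictAnti hlt
    rw [hi, hje] at h2
    have := (Nat.pow_lt_pow_iff_right hp.out.one_lt).1 h2
    rcases (by omega : j = 0 ∨ j = 1) with rfl | rfl
    · exact Or.inl (by rw [hje, pow_zero])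
    · exact Or.inr (by rw [hje, pow_one])
  have hcom : commutator R ≤ A := by
    rcases hMi with h | h
    · rw [RegularP.eq_top_of_sup_commutator (Subgroup.index_eq_one.1 h)]
      exact le_top
    · obtain ⟨s, hs⟩ : ∃ s, s ∉ M := by
        by_contra! hall
        rw [show M = ⊤ from eq_top_iff.2 fun x _ => hall x, Subgroup.index_top] at h
        exact hp.out.ne_one h.symm
      refine comm_le_of_gen (A := A) (s := s) ?_ (fun a ha b hb => ?_) fun a ha => ?_
      · refine RegularP.eq_top_of_sup_commutator ?_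
        have hlt' : M < A ⊔ Subgroup.zpowers s ⊔ commutator R := by
          refine SetLike.lt_iff_le_and_exists.2 ⟨sup_le_sup_right le_sup_left _, s, ?_, hs⟩
          exact Subgroup.mem_sup_left (Subgroup.mem_sup_right (Subgroup.mem_zpowers s))
        have h3 := Subgroup.index_strictAnti hlt'
        rw [h] at h3
        have h4 : (A ⊔ Subgroup.zpowers s ⊔ commutator R).index ∣ p := h ▸ Subgroup.index_dvd_of_le hlt'.le
        rcases (Nat.dvd_prime hp.out).1 h4 with h5 | h5
        · exact Subgroup.index_eq_one.1 h5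
        · omega
      · rw [commutatorElement_def, mul_assoc, mul_assoc]
        exact mul_mem ha (mul_mem hb (mul_mem (inv_mem ha) (inv_mem hb)))
      · rw [show ⁅a, s⁆ = a * (s * a⁻¹ * s⁻¹) by rw [commutatorElement_def]; group]
        exact mul_mem ha ((inferInstance : A.Normal).conj_mem _ (inv_mem ha) s)
  refine ⟨hcom, fun hne => ?_⟩
  rcases hMi with h | h
  · exact absurd (RegularP.eq_top_of_sup_commutator (Subgroup.index_eq_one.1 h)) hne
  · rwa [hM, sup_eq_left.2 hcom] at h

/-- Two disjoint nontrivial normal subgroups lie in the derived subgroup. -/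
theorem pair_le {A B : Subgroup R} [A.Normal] [B.Normal] (hA : A ≠ ⊥) (hB : B ≠ ⊥)
    (hd : A ⊓ B = ⊥) (hna : commutator R ≠ ⊥) : A ≤ commutator R := by
  by_contra h
  have h1 := (comm_le hR hi h).1
  by_cases hBle : B ≤ commutator R
  · exact hB (le_bot_iff.1 (hd ▸ le_inf (hBle.trans h1) le_rfl))
  · exact hna (le_bot_iff.1 (hd ▸ le_inf h1 (comm_le hR hi hBle).1))

/-- Outside an abelian subgroup of index `p` the centralizers have order `p ^ 2`. -/
theorem card_centralizer_eq {Q : Subgroup R} [Q.Normal] (hQa : IsMulCommutative Q) (hQ : Q.index = p)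
    {u : R} (hu : u ∉ Q) : Nat.card ↥(Subgroup.centralizer ({u} : Set R)) = p ^ 2 := by
  have hcm : ∀ a ∈ Q, ∀ b ∈ Q, a * b = b * a := fun a ha b hb =>
    congrArg Subtype.val (hQa.is_comm.comm ⟨a, ha⟩ ⟨b, hb⟩)
  have hgen : Q ⊔ Subgroup.zpowers u = ⊤ := by
    have h1 : (Q ⊔ Subgroup.zpowers u).index ∣ p := hQ ▸ Subgroup.index_dvd_of_le le_sup_left
    rcases (Nat.dvd_prime hp.out).1 h1 with h | h
    · exact Subgroup.index_eq_one.1 h
    · refine absurd ?_ hu
      have hlt : Q < Q ⊔ Subgroup.zpowers u :=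
        left_lt_sup.2 fun hle => hu (hle (Subgroup.mem_zpowers u))
      have := Subgroup.index_strictAnti hlt
      omega
  have hmem : ∀ q ∈ Q, ⁅q, u⁆ ∈ Q := fun q hq => by
    rw [show ⁅q, u⁆ = q * (u * q⁻¹ * u⁻¹) by rw [commutatorElement_def]; group]
    exact mul_mem hq ((inferInstance : Q.Normal).conj_mem _ (inv_mem hq) u)
  let φ : ↥Q →* R := MonoidHom.mk' (fun q => ⁅(q : R), u⁆) fun a b => by
    show ⁅(a : R) * b, u⁆ = ⁅(a : R), u⁆ * ⁅(b : R), u⁆
    rw [show ⁅(a : R) * b, u⁆ = (a : R) * ⁅(b : R), u⁆ * (a : R)⁻¹ * ⁅(a : R), u⁆ by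
      simp only [commutatorElement_def]; group, hcm _ a.2 _ (hmem _ b.2), mul_inv_cancel_right,
      hcm _ (hmem _ b.2) _ (hmem _ a.2)]
  have hQn : φ.range ≤ Q := by rintro _ ⟨q, rfl⟩; exact hmem _ q.2
  haveI hKn : φ.range.Normal := by
    refine ⟨fun k hk g => ?_⟩
    have h1 : Q ⊔ Subgroup.zpowers u ≤ Subgroup.normalizer (φ.range : Set R) := by
      refine sup_le (fun a ha => ?_) (Subgroup.zpowers_le.2 ?_)
      · rw [Subgroup.mem_normalizer_iff]
        intro x
        constructor <;> intro hx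
        · rwa [hcm a ha x (hQn hx), mul_inv_cancel_right]
        · have := hcm _ (hQn hx) _ ha
          have e : x = a⁻¹ * (a * x * a⁻¹) * a := by group
          rw [e, mul_assoc, this, ← mul_assoc, inv_mul_cancel, one_mul]
          exact hx
      · rw [Subgroup.mem_normalizer_iff_map_conj_eq]
        refine Subgroup.eq_of_le_of_card_ge ?_ ?_
        · rintro _ ⟨_, ⟨q, rfl⟩, rfl⟩
          exact ⟨⟨u * q * u⁻¹, (inferInstance : Q.Normal).conj_mem _ q.2 u⟩, by
            show ⁅u * (q : R) * u⁻¹, u⁆ = u * ⁅(q : R), u⁆ * u⁻¹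
            simp only [commutatorElement_def]; group⟩
        · exact (Subgroup.card_map_of_injective (MulAut.conj u).injective).ge
    exact (Subgroup.mem_normalizer_iff.1 (h1 (hgen ▸ Subgroup.mem_top g)) k).1 hk
  have hK : commutator R ≤ φ.range := by
    refine comm_le_of_gen hgen (fun a ha b hb => ?_) fun a ha => ⟨⟨a, ha⟩, rfl⟩
    rw [commutatorElement_eq_one_iff_mul_comm.2 (hcm a ha b hb)]
    exact one_mem _
  have hK' : φ.range = commutator R := le_antisymm (by
    rintro _ ⟨q, rfl⟩
    exact Subgroup.commutator_mem_commutator (Subgroup.mem_top _) (Subgroup.mem_top _)) hK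
  set C := Subgroup.centralizer ({u} : Set R) with hC
  have hker : Nat.card φ.ker = Nat.card ↥(Q ⊓ C) := by
    refine Nat.card_congr
      { toFun := fun q => ⟨q.1, q.1.2, Subgroup.mem_centralizer_singleton_iff.2
          (commutatorElement_eq_one_iff_mul_comm.1 q.2)⟩
        invFun := fun x => ⟨⟨x, x.2.1⟩, commutatorElement_eq_one_iff_mul_comm.2
          (Subgroup.mem_centralizer_singleton_iff.1 x.2.2)⟩
        left_inv := fun _ => rfl
        right_inv := fun _ => rfl }
  have h1 := φ.ker.card_mul_index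
  rw [Subgroup.index_ker, hK', hker] at h1
  have h2 := Q.card_mul_index
  have h3 := (commutator R).card_mul_index
  rw [hQ] at h2
  rw [hi] at h3
  have h4 : Nat.card ↥(Q ⊓ C) = p := by
    refine Nat.eq_of_mul_eq_mul_left (show 0 < Nat.card ↥(commutator R) * p from
      Nat.mul_pos Nat.card_pos hp.out.pos) ?_
    rw [mul_right_comm, mul_comm (Nat.card ↥(commutator R)) (Nat.card ↥(Q ⊓ C)), h1, h2, ← h3]
    ring
  have h5 : Q.relIndex C = p := by
    rw [← Subgroup.relIndex_sup_right, show C ⊔ Q = ⊤ by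
      rw [eq_top_iff, ← hgen]
      exact sup_le le_sup_right (le_sup_of_le_left (Subgroup.zpowers_le.2
        (Subgroup.mem_centralizer_singleton_iff.2 rfl))), Subgroup.relIndex_top_right, hQ]
  have h6 := Subgroup.relIndex_mul_relIndex (H := (⊥ : Subgroup R)) (K := Q ⊓ C) (L := C) bot_le
    inf_le_right
  rw [Subgroup.relIndex_bot_left, Subgroup.relIndex_bot_left, Subgroup.inf_relIndex_right, h4, h5] at h6
  rw [← h6, sq]

end PGroup

section Prod
variable {M : Type*} [Group M] [Finite M] {p : ℕ} [hp : Fact p.Prime]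

theorem sylow_decomp (Rs : Sylow p M) {W C : Subgroup M} [W.Normal] [C.Normal] (h1 : W ⊔ C = ⊤)
    (h2 : W ⊓ C = ⊥) {m : M} (hm : m ∈ (Rs : Subgroup M)) :
    ∃ w ∈ (Rs : Subgroup M) ⊓ W, ∃ c ∈ (Rs : Subgroup M) ⊓ C, w * c = m := by
  have hcard : ∀ (X : Subgroup M) [X.Normal], Nat.card ↥((Rs : Subgroup M) ⊓ X) =
      p ^ (Nat.card X).factorization p := fun X _ => by
    obtain ⟨S, hS⟩ := FGBasics.exists_sylow_inf Rs X
    rw [← hS, Subgroup.card_map_of_injective X.subtype_injective]
    exact S.card_eq_multiplicity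
  have hM : Nat.card M = Nat.card W * Nat.card C := by
    rw [← SolvBasic.card_sup_of_inf_eq_bot (by rw [Subgroup.normalizer_eq_top]; exact le_top) h2, h1,
      Subgroup.card_top]
  let f : ↥((Rs : Subgroup M) ⊓ W) × ↥((Rs : Subgroup M) ⊓ C) → ↥(Rs : Subgroup M) := fun x =>
    ⟨(x.1 : M) * x.2, mul_mem x.1.2.1 x.2.2.1⟩
  have hf : Function.Injective f := by
    rintro ⟨a, b⟩ ⟨c, d⟩ h
    have haW : (a : M) ∈ W := (Subgroup.mem_inf.1 a.2).2
    have hcW : (c : M) ∈ W := (Subgroup.mem_inf.1 c.2).2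
    have hbC : (b : M) ∈ C := (Subgroup.mem_inf.1 b.2).2
    have hdC : (d : M) ∈ C := (Subgroup.mem_inf.1 d.2).2
    have h' : (a : M) * b = c * d := congrArg Subtype.val h
    have e : (c : M)⁻¹ * a = d * (b : M)⁻¹ := by
      rw [inv_mul_eq_iff_eq_mul, ← mul_assoc, ← h', mul_inv_cancel_right]
    have h3 : (c : M)⁻¹ * a ∈ W ⊓ C := Subgroup.mem_inf.2
      ⟨W.mul_mem (W.inv_mem hcW) haW, e ▸ C.mul_mem hdC (C.inv_mem hbC)⟩
    rw [h2, Subgroup.mem_bot, inv_mul_eq_one] at h3
    rw [← h3, mul_left_cancel_iff] at h'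
    exact Prod.ext (Subtype.ext h3.symm) (Subtype.ext h')
  have hf2 : Function.Bijective f := by
    refine hf.bijective_of_nat_card_le ?_
    rw [Nat.card_prod, hcard W, hcard C, Rs.card_eq_multiplicity, hM,
      Nat.factorization_mul Nat.card_pos.ne' Nat.card_pos.ne', Finsupp.add_apply, pow_add]
  obtain ⟨⟨w, c⟩, hwc⟩ := hf2.2 ⟨m, hm⟩
  exact ⟨w, w.2, c, c.2, congrArg Subtype.val hwc⟩

end Prod

section Main
variable {G : Type*} [Group G] [Finite G] {p : ℕ} [hp : Fact p.Prime] (P : Sylow p G)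

/-- a subgroup of a normal subgroup, viewed in the Sylow subgroup -/
def toP {N : Subgroup G} (X : Subgroup N) : Subgroup (P : Subgroup G) :=
  (X.map N.subtype).subgroupOf (P : Subgroup G)

theorem mem_toP {N : Subgroup G} {X : Subgroup N} {x : (P : Subgroup G)} :
    x ∈ toP P X ↔ ∃ h : (x : G) ∈ N, (⟨x, h⟩ : N) ∈ X := by
  constructor
  · rintro ⟨m, hm, he⟩
    have he' : (m : G) = x := he
    have h : (x : G) ∈ N := he' ▸ m.2
    exact ⟨h, by rwa [show (⟨x, h⟩ : N) = m from Subtype.ext he'.symm]⟩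
  · rintro ⟨h, hx⟩
    exact ⟨⟨x, h⟩, hx, rfl⟩

theorem toP_normal {N : Subgroup G} [N.Normal] {X : Subgroup N}
    (hX : ∀ r : (P : Subgroup G), ∀ m ∈ X, MulAut.conjNormal (r : G) m ∈ X) : (toP P X).Normal :=
  ⟨fun x hx r => by
    obtain ⟨h, hm⟩ := (mem_toP P).1 hx
    refine (mem_toP P).2 ⟨(inferInstance : N.Normal).conj_mem _ h r, ?_⟩
    convert hX r _ hm using 1
    exact Subtype.ext (by simp)⟩

/-- the normal subgroups giving the bound -/
theorem exists_normal (hi : (commutator (P : Subgroup G)).index = p ^ 2)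
    (hna : commutator (P : Subgroup G) ≠ ⊥) (hcore : Cfsg.pPrimeCore p G = ⊥)
    (hcore' : ∀ K : Subgroup G, K.Normal → K ≤ ⁅(P : Subgroup G), (P : Subgroup G)⁆ → K = ⊥)
    (hnas : ¬ ∃ S : Subgroup G, S.Normal ∧ IsSimpleGroup S ∧ ¬ IsMulCommutative S ∧
      Subgroup.centralizer (S : Set G) = ⊥) :
    ∃ N : Subgroup G, N.Normal ∧ IsMulCommutative (N.subgroupOf (P : Subgroup G)) ∧
      (N.subgroupOf (P : Subgroup G)).index = p := by
  have hR : IsPGroup p (P : Subgroup G) := P.isPGroup'
  haveI := hR.isNilpotent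
  have hcomm : ⁅(P : Subgroup G), (P : Subgroup G)⁆ =
      (commutator (P : Subgroup G)).map (P : Subgroup G).subtype := by
    rw [Subgroup.map_subtype_commutator]
  by_cases hO : Cfsg.pCore p G = ⊥
  swap
  · haveI hn := FittingCores.pCore_normal (G := G) p
    set N := Cfsg.pCore p G with hN
    have hNP : N ≤ (P : Subgroup G) := FittingCores.pCore_le_sylow P
    have hnot : ¬ N.subgroupOf (P : Subgroup G) ≤ commutator (P : Subgroup G) := fun h => hO (hcore' N hn
      (by rw [hcomm, ← Subgroup.map_subgroupOf_eq_of_le hNP]; exact Subgroup.map_mono h))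
    have hab : ⁅N, N⁆ = ⊥ := hcore' _ inferInstance (Subgroup.commutator_mono hNP hNP)
    have hQa : IsMulCommutative (N.subgroupOf (P : Subgroup G)) := ⟨⟨fun a b => Subtype.ext (Subtype.ext (by
      have h1 : ⁅((a : (P : Subgroup G)) : G), ((b : (P : Subgroup G)) : G)⁆ ∈ ⁅N, N⁆ :=
        Subgroup.commutator_mem_commutator a.2 b.2
      rw [hab, Subgroup.mem_bot, commutatorElement_eq_one_iff_mul_comm] at h1
      exact h1))⟩⟩
    refine ⟨N, hn, hQa, (comm_le hR hi hnot).2 fun htop => hna ?_⟩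
    rw [commutator_def, ← htop, Subgroup.commutator_eq_bot_iff_le_centralizer]
    intro a ha
    rw [Subgroup.mem_centralizer_iff]
    intro b hb
    exact congrArg Subtype.val (hQa.is_comm.comm ⟨b, hb⟩ ⟨a, ha⟩)
  -- normal subgroups
  have habel : ∀ A : Subgroup G, A.Normal → IsMulCommutative A → A = ⊥ := by
    intro A hA hAc
    have := FittingCores.le_fitting hA (by haveI := hAc; exact CommGroup.isNilpotent)
    rwa [FittingCores.fitting_eq_pCore hp.out hcore, hO, le_bot_iff] at this
  have htate : ∀ K : Subgroup G, K.Normal → K ≠ ⊥ →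
      ¬ K.subgroupOf (P : Subgroup G) ≤ commutator (P : Subgroup G) := by
    intro K hK hK0 hle
    obtain ⟨S, L, hL, hLS⟩ := Tate.hasNormalPComplement_of_inf_le P K (fun x hx =>
      ⟨⟨x, hx.2⟩, SolvStruct.commutator_le_frattini _ (hle (show (⟨x, hx.2⟩ : (P : Subgroup G)) ∈ _ from hx.1)), rfl⟩)
    have hcop : (Nat.card L).Coprime p := by
      rw [Nat.coprime_comm, hp.out.coprime_iff_not_dvd, ← hLS.index_eq_card]
      exact S.not_dvd_index
    have hL0 : L = ⊥ := by
      have h1 := FittingCores.pPrimeCore_map_subtype_le p hK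
      rw [hcore, le_bot_iff, Subgroup.map_eq_bot_iff_of_injective _ K.subtype_injective] at h1
      exact le_bot_iff.1 (h1 ▸ FittingCores.le_pPrimeCore hL hcop)
    subst hL0
    have hS : (S : Subgroup K) = ⊤ := Subgroup.isComplement'_bot_left.1 hLS
    have hKp : IsPGroup p K := by
      have := S.isPGroup'
      rw [hS] at this
      exact this.of_equiv Subgroup.topEquiv
    exact hK0 (le_bot_iff.1 (hO ▸ FittingCores.le_pCore hK hKp))
  obtain ⟨N, hNn, hN0, -, hNmin⟩ := SolvBasic.exists_minimal_normal (G := G) (N := ⊤) inferInstance (by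
    intro h
    refine hna ?_
    haveI : Subsingleton G := Subgroup.subsingleton_iff.1 (subsingleton_of_bot_eq_top h.symm)
    exact Subsingleton.elim _ _)
  haveI := hNn
  have hNna : ¬ IsMulCommutative N := fun h => hN0 (habel N hNn h)
  have hZ : N ⊓ Subgroup.centralizer (N : Set G) = ⊥ := by
    refine habel _ inferInstance ⟨⟨fun a b => Subtype.ext ?_⟩⟩
    exact Subgroup.mem_centralizer_iff.1 b.2.2 _ a.2.1
  have hpairP : ∀ A B : Subgroup (P : Subgroup G), A.Normal → B.Normal → A ⊓ B = ⊥ → A ≠ ⊥ → B ≠ ⊥ →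
      A ≤ commutator _ ∧ B ≤ commutator _ := fun A B hA hB hd h1 h2 =>
    ⟨pair_le hR hi h1 h2 hd hna, pair_le hR hi h2 h1 (by rwa [inf_comm]) hna⟩
  have hQne : ∀ K : Subgroup G, K.Normal → K ≠ ⊥ → K.subgroupOf (P : Subgroup G) ≠ ⊥ := fun K hK hK0 h =>
    htate K hK hK0 (h ▸ bot_le)
  have hCN : Subgroup.centralizer (N : Set G) = ⊥ := by
    by_contra h0
    refine htate N hNn hN0 (hpairP _ ((Subgroup.centralizer (N : Set G)).subgroupOf _) inferInstance
      inferInstance ?_ (hQne N hNn hN0) (hQne _ inferInstance h0)).1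
    rw [Subgroup.subgroupOf, Subgroup.subgroupOf, ← Subgroup.comap_inf, hZ, MonoidHom.comap_bot, Subgroup.ker_subtype]
  have hsimple : ¬ IsSimpleGroup N := fun h => hnas ⟨N, hNn, h, hNna, hCN⟩
  -- a minimal normal subgroup of `N`
  haveI : Nontrivial N := (Subgroup.nontrivial_iff_ne_bot N).2 hN0
  obtain ⟨T, hTn, hT0, -, hTmin⟩ := SolvBasic.exists_minimal_normal (G := ↥N) (N := ⊤) inferInstance top_ne_bot
  haveI := hTn
  set act : G → MulAut ↥N := fun g => MulAut.conjNormal g with hact
  let cj : G → Subgroup N := fun g => T.map (act g).toMonoidHom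
  have hcjn : ∀ g, (cj g).Normal := fun g => hTn.map _ (act g).surjective
  have hcjmin : ∀ g, ∀ K : Subgroup N, K.Normal → K ≤ cj g → K = ⊥ ∨ K = cj g := by
    intro g K hK hKg
    rcases hTmin (K.comap (act g).toMonoidHom) (hK.comap _) (fun x hx => by
      obtain ⟨t, ht, he⟩ := hKg (show (act g) x ∈ K from hx)
      rwa [← (act g).injective he]) with h | h
    · left
      rw [← Subgroup.map_comap_eq_self_of_surjective (f := (act g).toMonoidHom) (act g).surjective K, h,
        Subgroup.map_bot]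
    · right
      rw [← Subgroup.map_comap_eq_self_of_surjective (f := (act g).toMonoidHom) (act g).surjective K, h]
  have hcj0 : ∀ g, cj g ≠ ⊥ := fun g h => hT0 ((Subgroup.map_eq_bot_iff_of_injective _ (act g).injective).1 h)
  have hdis : ∀ g h, cj g ≠ cj h → cj g ≤ Subgroup.centralizer (cj h : Set N) := by
    intro g h hne a ha
    rw [Subgroup.mem_centralizer_iff]
    intro b hb
    haveI := hcjn g
    haveI := hcjn h
    refine Subgroup.commute_of_normal_of_disjoint (cj h) (cj g) (hcjn h) (hcjn g) ?_ b a hb ha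
    rw [disjoint_iff]
    rcases hcjmin h (cj h ⊓ cj g) inferInstance inf_le_left with h1 | h1
    · exact h1
    · rcases hcjmin g (cj h) (hcjn h) (h1 ▸ inf_le_right) with h2 | h2
      · exact absurd h2 (hcj0 h)
      · exact absurd h2.symm hne
  have hcj1 : cj 1 = T := by
    show T.map _ = T
    ext x
    simp [hact]
  have hcjmul : ∀ g h, cj (g * h) = (cj h).map (act g).toMonoidHom := by
    intro g h
    show T.map _ = (T.map _).map _
    rw [Subgroup.map_map]
    congr 1
    ext x
    simp [hact, mul_assoc]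
  have hgenN : ∀ K : Subgroup N, (∀ g, cj g ≤ K) → K = ⊤ := by
    intro K hK
    set V := ⨆ g, cj g with hV
    have hVn : (V.map N.subtype).Normal := ⟨fun x hx a => by
      obtain ⟨m, hm, rfl⟩ := hx
      refine ⟨act a m, ?_, rfl⟩
      have h1 : V ≤ V.comap (act a).toMonoidHom := by
        refine iSup_le fun g => ?_
        rw [← Subgroup.map_le_iff_le_comap, ← hcjmul]
        exact le_iSup cj (a * g)
      exact h1 hm⟩
    rcases hNmin _ hVn (Subgroup.map_subtype_le V) with h | h
    · rw [Subgroup.map_eq_bot_iff_of_injective _ N.subtype_injective] at h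
      exact absurd (le_bot_iff.1 (h ▸ le_iSup cj 1)) (hcj0 1)
    · refine eq_top_iff.2 (le_trans ?_ (iSup_le hK))
      intro m _
      obtain ⟨m', hm', he⟩ := (h.symm ▸ m.2 : (m : G) ∈ V.map N.subtype)
      rwa [← Subtype.ext he]
  obtain ⟨Rs, hRs⟩ := FGBasics.exists_sylow_inf P N
  have hmemRs : ∀ x : N, x ∈ (Rs : Subgroup N) ↔ (x : G) ∈ (P : Subgroup G) := fun x => by
    constructor
    · intro hx
      exact (hRs ▸ Subgroup.mem_map_of_mem N.subtype hx : (x : G) ∈ (P : Subgroup G) ⊓ N).1
    · intro hx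
      obtain ⟨y, hy, he⟩ := (hRs.symm ▸ ⟨hx, x.2⟩ : (x : G) ∈ (Rs : Subgroup N).map N.subtype)
      rwa [← Subtype.ext he]
  have hpT : ∀ g, ¬ Disjoint (Rs : Subgroup N) (cj g) := by
    intro g hd
    haveI := hcjn g
    obtain ⟨S, hS⟩ := FGBasics.exists_sylow_inf Rs (cj g)
    rw [hd.eq_bot, Subgroup.map_eq_bot_iff_of_injective _ (cj g).subtype_injective] at hS
    have hcop : (Nat.card (cj g)).Coprime p := by
      have := S.card_eq_multiplicity
      rw [hS, Subgroup.card_bot, eq_comm, pow_eq_one_iff_right hp.out.ne_one] at this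
      rcases Nat.factorization_eq_zero_iff _ _ |>.1 this with h | h | h
      · exact absurd hp.out h
      · exact Nat.coprime_comm.1 ((hp.out.coprime_iff_not_dvd).2 h)
      · exact absurd h Nat.card_pos.ne'
    have h1 := FittingCores.pPrimeCore_map_subtype_le p hNn
    rw [hcore, le_bot_iff, Subgroup.map_eq_bot_iff_of_injective _ N.subtype_injective] at h1
    exact hcj0 g (le_bot_iff.1 (h1 ▸ FittingCores.le_pPrimeCore (hcjn g) hcop))
  -- the conjugates under `P`
  set W : Subgroup N := ⨆ a : (P : Subgroup G), cj a with hW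
  haveI hWn : W.Normal := by
    haveI := fun a : (P : Subgroup G) => hcjn a
    exact Subgroup.iSup_normal _
  set C : Subgroup N := Subgroup.centralizer (W : Set N) with hC
  have hWC : W ⊔ C = ⊤ := hgenN _ fun g => by
    by_cases h : ∃ a : (P : Subgroup G), cj g = cj a
    · obtain ⟨a, ha⟩ := h
      exact ha ▸ le_sup_of_le_left (le_iSup (fun a : (P : Subgroup G) => cj a) a)
    · push Not at h
      refine le_sup_of_le_right ?_
      rw [hC, Subgroup.le_centralizer_iff, hW]
      exact iSup_le fun a => hdis _ _ (h a).symm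
  have hcen : ∀ m : N, (∀ n : N, m * n = n * m) → m = 1 := fun m hm => by
    have h1 : (m : G) ∈ Subgroup.centralizer (N : Set G) :=
      Subgroup.mem_centralizer_iff.2 fun n hn => (congrArg Subtype.val (hm ⟨n, hn⟩)).symm
    rw [hCN, Subgroup.mem_bot] at h1
    exact Subtype.ext h1
  have hWC' : W ⊓ C = ⊥ := by
    rw [eq_bot_iff]
    intro m hm
    refine Subgroup.mem_bot.2 (hcen m fun n => ?_)
    have h1 : W ⊔ C ≤ Subgroup.centralizer {m} := sup_le
      (fun w hw => Subgroup.mem_centralizer_singleton_iff.2 (Subgroup.mem_centralizer_iff.1 hm.2 w hw))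
      (fun c hc => Subgroup.mem_centralizer_singleton_iff.2 (Subgroup.mem_centralizer_iff.1 hc m hm.1).symm)
    exact (Subgroup.mem_centralizer_singleton_iff.1 (h1 (hWC ▸ Subgroup.mem_top n))).symm
  have hWinv : ∀ r : (P : Subgroup G), ∀ m ∈ W, act r m ∈ W := by
    intro r m hm
    have h1 : W ≤ W.comap (act r).toMonoidHom := by
      refine iSup_le fun a => ?_
      rw [← Subgroup.map_le_iff_le_comap, ← hcjmul]
      exact le_iSup (fun a : (P : Subgroup G) => cj a) (r * a)
    exact h1 hm
  have hCinv : ∀ r : (P : Subgroup G), ∀ m ∈ C, act r m ∈ C := by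
    intro r m hm
    rw [hC, Subgroup.mem_centralizer_iff] at hm ⊢
    intro w hw
    have h2 := hWinv r⁻¹ w hw
    have h3 := congrArg (act r) (hm _ h2)
    rw [map_mul, map_mul] at h3
    have e : act r (act (r⁻¹ : (P : Subgroup G)) w) = w := Subtype.ext (by simp [hact, mul_assoc])
    rwa [e] at h3
  have hWP := toP_normal P hWinv
  have hCP := toP_normal P hCinv
  have hWP0 : toP P W ≠ ⊥ := by
    intro h0
    refine hpT 1 (disjoint_iff.2 (eq_bot_iff.2 fun m hm => ?_))
    have h1 : (⟨(m : G), (hmemRs m).1 hm.1⟩ : (P : Subgroup G)) ∈ toP P W :=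
      (mem_toP P).2 ⟨m.2, le_iSup (fun a : (P : Subgroup G) => cj a) 1 hm.2⟩
    rw [h0, Subgroup.mem_bot] at h1
    exact Subgroup.mem_bot.2 (Subtype.ext (congrArg (fun z : (P : Subgroup G) => (z : G)) h1))
  have hCP0 : toP P C = ⊥ := by
    by_contra h0
    have hd : toP P W ⊓ toP P C = ⊥ := by
      rw [eq_bot_iff]
      intro x hx
      obtain ⟨h, hw⟩ := (mem_toP P).1 hx.1
      obtain ⟨_, hc⟩ := (mem_toP P).1 hx.2
      have h1 : (⟨(x : G), h⟩ : N) ∈ W ⊓ C := ⟨hw, hc⟩
      rw [hWC', Subgroup.mem_bot] at h1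
      exact Subgroup.mem_bot.2 (Subtype.ext (congrArg (fun m : N => (m : G)) h1))
    obtain ⟨h1, h2⟩ := hpairP _ _ hWP hCP hd hWP0 h0
    refine htate N hNn hN0 fun x hx => ?_
    obtain ⟨w, hw, c, hc, he⟩ := sylow_decomp Rs hWC hWC' ((hmemRs ⟨x, hx⟩).2 x.2)
    have ex : x = ⟨(w : G), (hmemRs w).1 hw.1⟩ * ⟨(c : G), (hmemRs c).1 hc.1⟩ :=
      Subtype.ext (congrArg (fun m : N => (m : G)) he).symm
    rw [ex]
    exact mul_mem (h1 ((mem_toP P).2 ⟨w.2, hw.2⟩)) (h2 ((mem_toP P).2 ⟨c.2, hc.2⟩))
  have hCR : Disjoint (Rs : Subgroup N) C := disjoint_iff.2 (eq_bot_iff.2 fun m hm => by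
    have h1 : (⟨(m : G), (hmemRs m).1 hm.1⟩ : (P : Subgroup G)) ∈ toP P C := (mem_toP P).2 ⟨m.2, hm.2⟩
    rw [hCP0, Subgroup.mem_bot] at h1
    exact Subgroup.mem_bot.2 (Subtype.ext (congrArg (fun z : (P : Subgroup G) => (z : G)) h1)))
  have hallP : ∀ g, ∃ a : (P : Subgroup G), cj g = cj a := by
    intro g
    by_contra! h
    refine hpT g (hCR.mono_right ?_)
    rw [hC, Subgroup.le_centralizer_iff, hW]
    exact iSup_le fun a => hdis _ _ (h a).symm
  -- some element of `P` moves `T`
  obtain ⟨s, hs⟩ : ∃ s : (P : Subgroup G), cj s ≠ T := by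
    by_contra! h
    refine hsimple ?_
    have hT : T = ⊤ := hgenN T fun g => by
      obtain ⟨a, ha⟩ := hallP g
      rw [ha, h a]
    exact { eq_bot_or_eq_top_of_normal := fun K hK => by
              rcases hTmin K hK (le_of_le_of_eq le_top hT.symm) with h1 | h1
              · exact Or.inl h1
              · exact Or.inr (h1.trans hT) }
  set Q := N.subgroupOf (P : Subgroup G) with hQdef
  have hQcj : ∀ r : (P : Subgroup G), r ∈ Q → cj r = T := by
    intro r hr
    show T.map _ = T
    refine Subgroup.eq_of_le_of_card_ge ?_ (Subgroup.card_map_of_injective (act r).injective).ge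
    rintro _ ⟨t, ht, rfl⟩
    convert hTn.conj_mem t ht ⟨(r : G), hr⟩ using 1
    exact Subtype.ext (by simp [hact])
  have hsQ : s ∉ Q := fun h => hs (hQcj s h)
  have hnQ : ¬ Q ≤ commutator _ := htate N hNn hN0
  have hQi : Q.index = p := (comm_le hR hi hnQ).2 fun h => hsQ (by rw [h]; exact Subgroup.mem_top s)
  have hgen : Q ⊔ Subgroup.zpowers s = ⊤ := by
    have h1 : (Q ⊔ Subgroup.zpowers s).index ∣ p :=
      (Subgroup.index_dvd_of_le le_sup_left).trans hQi.dvd
    rcases (Nat.dvd_prime hp.out).1 h1 with h | h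
    · exact Subgroup.index_eq_one.1 h
    · exfalso
      have hlt : Q < Q ⊔ Subgroup.zpowers s := left_lt_sup.2 fun hle => hsQ (hle (Subgroup.mem_zpowers s))
      have := Subgroup.index_strictAnti hlt
      omega
  refine ⟨N, hNn, ?_, hQi⟩
  -- the quotient by the centralizer of `T`
  set C₁ : Subgroup N := Subgroup.centralizer (T : Set N) with hC₁
  have hTC : T ⊔ C₁ = ⊤ := hgenN _ fun g => by
    by_cases h : cj g = T
    · exact h ▸ le_sup_left
    · exact le_sup_of_le_right (by rw [hC₁, ← hcj1]; exact hdis _ _ (by rwa [hcj1]))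
  have hTC' : T ⊓ C₁ = ⊥ := by
    rw [eq_bot_iff]
    intro m hm
    refine Subgroup.mem_bot.2 (hcen m fun n => ?_)
    have h1 : T ⊔ C₁ ≤ Subgroup.centralizer {m} := sup_le
      (fun w hw => Subgroup.mem_centralizer_singleton_iff.2 (Subgroup.mem_centralizer_iff.1 hm.2 w hw))
      (fun c hc => Subgroup.mem_centralizer_singleton_iff.2 (Subgroup.mem_centralizer_iff.1 hc m hm.1).symm)
    exact (Subgroup.mem_centralizer_singleton_iff.1 (h1 (hTC ▸ Subgroup.mem_top n))).symm
  haveI : Q.Normal := inferInstance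
  let j : ↥Q →* N := MonoidHom.mk' (fun q => ⟨((q : (P : Subgroup G)) : G), q.2⟩) fun _ _ => rfl
  let E := ↥Q ⧸ C₁.comap j
  let f : ↥Q →* E := QuotientGroup.mk' (C₁.comap j)
  let φ : ↥Q →* Abelianization E := Abelianization.of.comp f
  have hφs : Function.Surjective φ :=
    (show Function.Surjective (Abelianization.of : E →* Abelianization E) from QuotientGroup.mk_surjective).comp
      (QuotientGroup.mk'_surjective _)
  have hφC : ∀ q : ↥Q, j q ∈ C₁ → φ q = 1 := fun q hq => by
    show Abelianization.of (f q) = 1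
    rw [show f q = 1 from (QuotientGroup.eq_one_iff _).2 hq, map_one]
  let c : ℕ → ↥Q →* ↥Q := fun i => (MulAut.conjNormal (s ^ i) : MulAut ↥Q).toMonoidHom
  let θ : ↥Q →* Abelianization E := ∏ i ∈ Finset.range p, φ.comp (c i)
  have hθ : ∀ q, θ q = ∏ i ∈ Finset.range p, φ (c i q) := fun q => by
    simp only [θ, MonoidHom.finset_prod_apply, MonoidHom.coe_comp, Function.comp_apply]
  have hφconj : ∀ (r : (P : Subgroup G)) (hr : r ∈ Q) (q : ↥Q), φ (MulAut.conjNormal r q) = φ q := by
    intro r hr q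
    rw [show MulAut.conjNormal r q = (⟨r, hr⟩ : ↥Q) * q * (⟨r, hr⟩ : ↥Q)⁻¹ from Subtype.ext (by simp),
      map_mul, map_mul, map_inv, mul_comm (φ _) (φ q), mul_inv_cancel_right]
  have hsp : s ^ p ∈ Q := by
    have := Subgroup.pow_index_mem Q s
    rwa [hQi] at this
  have hθs : ∀ q, θ (MulAut.conjNormal s q) = θ q := by
    intro q
    have e : ∀ i, c i (MulAut.conjNormal s q) = c (i + 1) q := fun i => Subtype.ext (by
      simp [c, pow_succ, mul_assoc])
    rw [hθ, hθ]
    simp only [e]
    have h1 := Finset.prod_range_succ' (fun i => φ (c i q)) p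
    have h2 := Finset.prod_range_succ (fun i => φ (c i q)) p
    rw [h1, show φ (c p q) = φ (c 0 q) by
      rw [show c 0 q = q from Subtype.ext (by simp [c])]
      exact hφconj _ hsp q] at h2
    exact mul_right_cancel h2
  let K : Subgroup (P : Subgroup G) := θ.ker.map Q.subtype
  have hinv : ∀ (r : (P : Subgroup G)) (q : ↥Q), θ (MulAut.conjNormal r q) = θ q := by
    intro r
    let S : Subgroup (P : Subgroup G) :=
      { carrier := {r | ∀ q : ↥Q, θ (MulAut.conjNormal r q) = θ q}
        one_mem' := fun q => by simp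
        mul_mem' := fun {a b} ha hb q => by rw [map_mul, MulAut.mul_apply, ha, hb]
        inv_mem' := fun {a} ha q => by
          conv_rhs => rw [show q = MulAut.conjNormal a (MulAut.conjNormal a⁻¹ q) by
            rw [← MulAut.mul_apply, ← map_mul, mul_inv_cancel, map_one, MulAut.one_apply]]
          rw [ha] }
    have hS : Q ⊔ Subgroup.zpowers s ≤ S := sup_le (fun a ha q => by
      rw [show MulAut.conjNormal a q = (⟨a, ha⟩ : ↥Q) * q * (⟨a, ha⟩ : ↥Q)⁻¹ from Subtype.ext (by simp),
        map_mul, map_mul, map_inv, mul_comm (θ _) (θ q), mul_inv_cancel_right])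
      (Subgroup.zpowers_le.2 hθs)
    exact hS (hgen ▸ Subgroup.mem_top r)
  haveI hKn : K.Normal := ⟨fun x hx r => by
    obtain ⟨q, hq, rfl⟩ := hx
    exact ⟨MulAut.conjNormal r q, by rw [SetLike.mem_coe, MonoidHom.mem_ker, hinv]; exact hq, by simp⟩⟩
  have hKle : commutator (P : Subgroup G) ≤ K := by
    refine comm_le_of_gen hgen (fun a ha b hb => ⟨⁅(⟨a, ha⟩ : ↥Q), ⟨b, hb⟩⁆, ?_, rfl⟩) fun a ha =>
      ⟨(⟨a, ha⟩ : ↥Q) * (MulAut.conjNormal s ⟨a, ha⟩)⁻¹, ?_, ?_⟩
    · rw [SetLike.mem_coe, MonoidHom.mem_ker, map_commutatorElement, commutatorElement_eq_one_iff_mul_comm]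
      exact mul_comm _ _
    · rw [SetLike.mem_coe, MonoidHom.mem_ker, map_mul, map_inv, hθs, mul_inv_cancel]
    · simp [commutatorElement_def, mul_assoc]
  -- the image of `θ` is everything
  have hθsurj : Function.Surjective θ := by
    intro z
    obtain ⟨q, rfl⟩ := hφs z
    obtain ⟨w, hw, c', hc', he⟩ := sylow_decomp Rs hTC hTC' ((hmemRs (j q)).2 q.1.2)
    let qw : ↥Q := ⟨⟨(w : G), (hmemRs w).1 hw.1⟩, w.2⟩
    let qc : ↥Q := ⟨⟨(c' : G), (hmemRs c').1 hc'.1⟩, c'.2⟩
    have eq' : q = qw * qc := Subtype.ext (Subtype.ext (congrArg (fun m : N => (m : G)) he).symm)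
    have hjc : j qc = c' := rfl
    refine ⟨qw, ?_⟩
    rw [eq', map_mul φ, hφC qc (by rw [hjc]; exact hc'.2), mul_one, hθ,
      Finset.prod_eq_single 0]
    · rw [show c 0 qw = qw from Subtype.ext (by simp [c])]
    · intro i hi' hi0
      refine hφC _ ?_
      have hne : cj ((s ^ i : (P : Subgroup G)) : G) ≠ T := by
        intro h
        refine hs ?_
        let St : Subgroup (P : Subgroup G) :=
          { carrier := {r | cj (r : G) = T}
            one_mem' := hcj1
            mul_mem' := fun {a b} ha hb => by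
              show cj ((a : G) * b) = T
              rw [hcjmul, hb]; exact ha
            inv_mem' := fun {a} ha => by
              show cj ((a : G)⁻¹) = T
              have ha' : cj (a : G) = T := ha
              conv_lhs => rw [← mul_one ((a : G)⁻¹), hcjmul, hcj1, ← ha', ← hcjmul, inv_mul_cancel]
              exact hcj1 }
        have h1 : s ^ i ∈ St := h
        have h2 : s ^ p ∈ St := hQcj _ hsp
        have hco : IsCoprime (i : ℤ) (p : ℤ) := by
          rw [Int.isCoprime_iff_nat_coprime, Int.natAbs_natCast, Int.natAbs_natCast, Nat.coprime_comm,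
            hp.out.coprime_iff_not_dvd]
          exact fun hd => by have := Nat.le_of_dvd (by omega) hd; rw [Finset.mem_range] at hi'; omega
        obtain ⟨a, b, hab⟩ := hco
        have h3 : s ^ (a * i + b * p) ∈ St := by
          rw [zpow_add, mul_comm a, mul_comm b, zpow_mul, zpow_mul, zpow_natCast, zpow_natCast]
          exact mul_mem (zpow_mem h1 a) (zpow_mem h2 b)
        rw [hab, zpow_one] at h3
        exact h3
      have h4 : j (c i qw) ∈ cj ((s ^ i : (P : Subgroup G)) : G) :=
        ⟨w, hw.2, Subtype.ext (by simp [c, j, hact, qw, -map_pow])⟩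
      rw [hC₁, ← hcj1]
      exact hdis _ _ (by rwa [hcj1]) h4
    · intro h
      exact absurd (Finset.mem_range.2 hp.out.pos) h
  have hA : Nat.card (Abelianization E) ≤ p := by
    have h1 : θ.ker.index = Nat.card (Abelianization E) := by
      rw [Subgroup.index_ker, MonoidHom.range_eq_top.2 hθsurj, Subgroup.card_top]
    have h2 : K.index = θ.ker.index * p := by
      show (θ.ker.map Q.subtype).index = _
      rw [Subgroup.index_map_subtype, hQi]
    have h3 := Nat.le_of_dvd (pow_pos hp.out.pos 2) (hi ▸ Subgroup.index_dvd_of_le hKle)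
    rw [h2, h1, sq] at h3
    exact Nat.le_of_mul_le_mul_right h3 hp.out.pos
  have hE : IsPGroup p E := (hR.to_subgroup Q).to_quotient _
  haveI := hE.isNilpotent
  haveI : IsCyclic (E ⧸ commutator E) := by
    obtain ⟨k, hk⟩ := IsPGroup.iff_card.1 (hE.to_quotient (commutator E))
    have hk1 : k ≤ 1 := by
      have : p ^ k ≤ p := hk ▸ hA
      exact (Nat.pow_le_pow_iff_right hp.out.one_lt).1 (by rwa [pow_one])
    rcases (by omega : k = 0 ∨ k = 1) with rfl | rfl
    · haveI : Subsingleton (E ⧸ commutator E) := by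
        rw [← Finite.card_le_one_iff_subsingleton, hk, pow_zero]
      infer_instance
    · exact isCyclic_of_prime_card (p := p) (by rw [hk, pow_one])
  have hEc : commutator E = ⊥ := MaxClass.commutator_eq_bot_of_cyclic
  have hab : ∀ a b : ↥Q, ∀ t ∈ T, ⁅j a, j b⁆ * t = t * ⁅j a, j b⁆ := by
    intro a b t ht
    have h1 : f ⁅a, b⁆ = 1 := by
      rw [map_commutatorElement]
      have := Subgroup.commutator_mem_commutator (H₁ := (⊤ : Subgroup E)) (H₂ := ⊤) (Subgroup.mem_top (f a))
        (Subgroup.mem_top (f b))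
      rwa [← commutator_def, hEc, Subgroup.mem_bot] at this
    have h2 : j ⁅a, b⁆ ∈ C₁ := (QuotientGroup.eq_one_iff (N := C₁.comap j) ⁅a, b⁆).1 h1
    rw [map_commutatorElement] at h2
    exact (Subgroup.mem_centralizer_iff.1 h2 t ht).symm
  refine ⟨⟨fun a b => ?_⟩⟩
  rw [← commutatorElement_eq_one_iff_mul_comm]
  have hz : j ⁅a, b⁆ = 1 := by
    refine hcen _ fun n => ?_
    have h1 : (⊤ : Subgroup N) ≤ Subgroup.centralizer {j ⁅a, b⁆} := by
      rw [← hgenN _ (fun g => ?_)]
      obtain ⟨r, hr⟩ := hallP g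
      rw [hr]
      rintro _ ⟨t, ht, rfl⟩
      rw [Subgroup.mem_centralizer_singleton_iff]
      have h2 := congrArg (act r) (hab (MulAut.conjNormal r⁻¹ a) (MulAut.conjNormal r⁻¹ b) t ht)
      rw [map_mul, map_mul, map_commutatorElement] at h2
      have e : ∀ x : ↥Q, act r (j (MulAut.conjNormal r⁻¹ x)) = j x := fun x =>
        Subtype.ext (by simp [hact, j, mul_assoc])
      rw [e, e] at h2
      rw [map_commutatorElement]
      exact h2.symm
    exact (Subgroup.mem_centralizer_singleton_iff.1 (h1 (Subgroup.mem_top n))).symm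
  exact Subtype.ext (Subtype.ext (congrArg (fun m : N => (m : G)) hz))

/-- a `p`-element, its Sylow centralizer, moved into `P` -/
theorem exists_conj_centralizer {x : G} (hx : ∃ k : ℕ, orderOf x = p ^ k) :
    ∃ (g : G) (u : (P : Subgroup G)), (u : G) = g * x * g⁻¹ ∧
      Nat.card ↥(Subgroup.centralizer ({u} : Set (P : Subgroup G))) =
        p ^ (Nat.card (Subgroup.centralizer ({x} : Set G))).factorization p := by
  obtain ⟨k, hk⟩ := hx
  set C := Subgroup.centralizer ({x} : Set G) with hC
  have hxC : x ∈ C := Subgroup.mem_centralizer_singleton_iff.2 rfl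
  have hxp : IsPGroup p ↥(Subgroup.zpowers (⟨x, hxC⟩ : C)) := IsPGroup.of_card (n := k) (by
    rw [Nat.card_zpowers, Subgroup.orderOf_mk, hk])
  obtain ⟨S, hS⟩ := hxp.exists_le_sylow
  obtain ⟨P₂, hP₂⟩ := (S.isPGroup'.map C.subtype).exists_le_sylow
  obtain ⟨g, hg⟩ := MulAction.exists_smul_eq G P₂ P
  have hmem : ∀ y ∈ (S : Subgroup C), g * (y : G) * g⁻¹ ∈ (P : Subgroup G) := fun y hy => by
    have h1 : g * (y : G) * g⁻¹ ∈ MulAut.conj g • (P₂ : Subgroup G) :=
      ⟨y, hP₂ ⟨y, hy, rfl⟩, by simp⟩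
    rw [← hg, Sylow.coe_subgroup_smul]
    exact h1
  refine ⟨g, ⟨g * x * g⁻¹, hmem _ (hS (Subgroup.mem_zpowers _))⟩, rfl, ?_⟩
  set u : (P : Subgroup G) := ⟨g * x * g⁻¹, hmem _ (hS (Subgroup.mem_zpowers _))⟩
  set D := Subgroup.centralizer ({u} : Set (P : Subgroup G))
  refine Nat.dvd_antisymm ?_ ?_
  · obtain ⟨a, ha⟩ := IsPGroup.iff_card.1 (P.isPGroup'.to_subgroup D)
    rw [ha]
    refine Nat.pow_dvd_pow p ((hp.out.pow_dvd_iff_le_factorization Nat.card_pos.ne').1 ?_)
    rw [← ha]
    refine Subgroup.card_dvd_of_injective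
      (MonoidHom.mk' (fun d : D => (⟨g⁻¹ * ((d : (P : Subgroup G)) : G) * g, ?_⟩ : C)) fun a b =>
        Subtype.ext (by simp [mul_assoc])) fun a b h => ?_
    · rw [hC, Subgroup.mem_centralizer_singleton_iff]
      have h1 : ((d : (P : Subgroup G)) : G) * (g * x * g⁻¹) = g * x * g⁻¹ * ((d : (P : Subgroup G)) : G) :=
        congrArg Subtype.val (Subgroup.mem_centralizer_singleton_iff.1 d.2)
      calc g⁻¹ * ((d : (P : Subgroup G)) : G) * g * x
          = g⁻¹ * (((d : (P : Subgroup G)) : G) * (g * x * g⁻¹)) * g := by group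
        _ = x * (g⁻¹ * ((d : (P : Subgroup G)) : G) * g) := by rw [h1]; group
    · exact Subtype.ext (Subtype.ext (mul_left_cancel (mul_right_cancel (congrArg Subtype.val h))))
  · rw [← S.card_eq_multiplicity]
    refine Subgroup.card_dvd_of_injective
      (MonoidHom.mk' (fun y : (S : Subgroup C) => (⟨⟨g * ((y : C) : G) * g⁻¹, hmem _ y.2⟩, ?_⟩ : D))
        fun a b => Subtype.ext (Subtype.ext (by simp [mul_assoc]))) fun a b h => ?_
    · rw [Subgroup.mem_centralizer_singleton_iff]
      refine Subtype.ext ?_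
      show g * ((y : C) : G) * g⁻¹ * (g * x * g⁻¹) = g * x * g⁻¹ * (g * ((y : C) : G) * g⁻¹)
      have h1 := Subgroup.mem_centralizer_singleton_iff.1 (y : C).2
      calc _ = g * (((y : C) : G) * x) * g⁻¹ := by group
        _ = _ := by rw [h1]; group
    · exact Subtype.ext (Subtype.ext (mul_left_cancel (mul_right_cancel
        (congrArg (fun d : D => ((d : (P : Subgroup G)) : G)) h))))

theorem index_commutator_le_card_centralizer (u : (P : Subgroup G)) :
    (commutator (P : Subgroup G)).index ≤ Nat.card ↥(Subgroup.centralizer ({u} : Set (P : Subgroup G))) := by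
  set C := Subgroup.centralizer ({u} : Set (P : Subgroup G))
  let f : (P : Subgroup G) ⧸ C → ↥(commutator (P : Subgroup G)) := fun q =>
    ⟨⁅q.out, u⁆, Subgroup.commutator_mem_commutator (Subgroup.mem_top _) (Subgroup.mem_top _)⟩
  have hf : Function.Injective f := by
    intro a b h
    have h1 : a.out * u * a.out⁻¹ = b.out * u * b.out⁻¹ := by
      have := congrArg Subtype.val h
      simpa [f, commutatorElement_def] using this
    rw [← Quotient.out_eq' a, ← Quotient.out_eq' b]
    refine QuotientGroup.eq.2 (Subgroup.mem_centralizer_singleton_iff.2 ?_)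
    calc a.out⁻¹ * b.out * u = a.out⁻¹ * (b.out * u * b.out⁻¹) * b.out := by group
      _ = u * (a.out⁻¹ * b.out) := by rw [← h1]; group
  have h2 := Nat.card_le_card_of_injective f hf
  rw [← Subgroup.index_eq_card] at h2
  have h3 := (commutator (P : Subgroup G)).card_mul_index
  have h4 := C.card_mul_index
  refine Nat.le_of_mul_le_mul_left ?_ (Nat.card_pos (α := ↥(commutator (P : Subgroup G))))
  rw [h3, ← h4, mul_comm]
  exact Nat.mul_le_mul_right _ h2

end Main

/-- Let G be a finite group, p a prime and P a Sylow p-subgroup of order at least p². Assume that G has no nontrivial normal subgroup of order prime to p, that the derived subgroup P' of P contains no nontrivial normal subgroup of G, and that G is not almost simple (there is no non-abelian simple normal subgroup of G with trivial centralizer). Then [P : P'] = p² if and only if some p-element x of G has centralizer whose order has p-part exactly p². -/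
theorem result {G : Type*} [Group G] [Finite G] (p : ℕ) [Fact p.Prime] (P : Sylow p G) (hbig : p ^ 2 ∣ Nat.card G) (hcore : Cfsg.pPrimeCore p G = ⊥)
    (hcore' : (⁅(P : Subgroup G), (P : Subgroup G)⁆).normalCore = ⊥) (hnas : ¬ ∃ S : Subgroup G, S.Normal ∧ IsSimpleGroup S ∧ ¬ IsMulCommutative S ∧ Subgroup.centralizer (S : Set G) = ⊥) :
    (⁅(P : Subgroup G), (P : Subgroup G)⁆).relIndex (P : Subgroup G) = p ^ 2 ↔
      ∃ x : G, (∃ k : ℕ, orderOf x = p ^ k) ∧ (Nat.card (Subgroup.centralizer ({x} : Set G))).factorization p = 2 := by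
  have hp : p.Prime := Fact.out
  have hR : IsPGroup p (P : Subgroup G) := P.isPGroup'
  have hrel : (⁅(P : Subgroup G), (P : Subgroup G)⁆).relIndex (P : Subgroup G) =
      (commutator (P : Subgroup G)).index := by
    rw [← Subgroup.map_subtype_commutator, Subgroup.relIndex, Subgroup.subgroupOf,
      Subgroup.comap_map_eq_self_of_injective (Subgroup.subtype_injective _)]
  have hP2 : p ^ 2 ≤ Nat.card (P : Subgroup G) :=
    Nat.le_of_dvd Nat.card_pos (P.pow_dvd_card_of_pow_dvd_card hbig)
  rw [hrel]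
  constructor
  · intro hi
    by_cases hna : commutator (P : Subgroup G) = ⊥
    · refine ⟨1, ⟨0, by simp⟩, ?_⟩
      rw [hna, Subgroup.index_bot, P.card_eq_multiplicity] at hi
      rw [show Subgroup.centralizer ({(1 : G)} : Set G) = ⊤ from eq_top_iff.2 fun g _ =>
        Subgroup.mem_centralizer_singleton_iff.2 (by simp), Subgroup.card_top]
      exact Nat.pow_right_injective hp.two_le hi
    obtain ⟨N, hN, hNa, hNi⟩ := exists_normal P hi hna hcore (fun K hK hle => le_bot_iff.1
      (hcore' ▸ Subgroup.normal_le_normalCore.2 hle)) hnas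
    haveI := hN
    obtain ⟨x, hx⟩ : ∃ x : (P : Subgroup G), x ∉ N.subgroupOf (P : Subgroup G) := by
      by_contra! hall
      rw [show N.subgroupOf (P : Subgroup G) = ⊤ from eq_top_iff.2 fun x _ => hall x,
        Subgroup.index_top] at hNi
      exact hp.ne_one hNi.symm
    have hxk : ∃ k : ℕ, orderOf (x : G) = p ^ k := by
      obtain ⟨k, hk⟩ := hR.exists_orderOf_eq_pow x  
      exact ⟨k, by rw [Subgroup.orderOf_coe, hk]⟩
    refine ⟨x, hxk, ?_⟩
    obtain ⟨g, u, hu, hc⟩ := exists_conj_centralizer P hxk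
    have huN : u ∉ N.subgroupOf (P : Subgroup G) := fun h => hx (by
      have h1 := hN.conj_mem _ (show (u : G) ∈ N from h) g⁻¹
      rw [hu] at h1
      show (x : G) ∈ N
      convert h1 using 1
      group)
    rw [card_centralizer_eq hR hi hNa hNi huN] at hc
    exact (Nat.pow_right_injective hp.two_le hc).symm
  · rintro ⟨x, hx, hf⟩
    obtain ⟨g, u, -, hc⟩ := exists_conj_centralizer P hx
    have h1 := index_commutator_le_card_centralizer P u
    rw [hc, hf] at h1
    refine le_antisymm h1 ?_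
    by_cases hna : commutator (P : Subgroup G) = ⊥
    · rw [hna, Subgroup.index_bot]
      exact hP2
    · exact MaxClass.sq_le_index_commutator hR hna

end Cfsg.Agent.S4587
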