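import Cfsg.Statements.S4594
import Cfsg.Agent.Lib.SylowSplit.Quasi
import Cfsg.Agent.Lib.SylowSplit.AbelianIndex
import Cfsg.Agent.Lib.GW.Main
import Cfsg.Agent.Lib.SchurMult.AltSmall

set_option autoImplicit false
open Cfsg

namespace Cfsg.Agent.S4594

/-- Let G be a finite quasisimple group with a non-abelian Sylow 2-subgroup P whose centre has index 4 in P. Then P has order 8, and G is isomorphic to the alternating group on 7 letters, or G has centre of order 3 with central quotient isomorphic to the alternating group on 7 letters, or the central quotient of G is isomorphic to PSL(2, F) for some finite field F of odd order. -/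
theorem result {G : Type*} [Group G] [Finite G] (hq : Cfsg.IsQuasisimple G) (P : Sylow 2 G) (hna : ¬ IsMulCommutative (P : Subgroup G)) (hZ : (Subgroup.center (P : Subgroup G)).index = 4) :
    Nat.card (P : Subgroup G) = 8 ∧
      (Nonempty (G ≃* alternatingGroup (Fin 7)) ∨
       (Nat.card (Subgroup.center G) = 3 ∧ Nonempty (G ⧸ Subgroup.center G ≃* alternatingGroup (Fin 7))) ∨
       ∃ (F : Type) (_ : Field F) (_ : Fintype F), Odd (Fintype.card F) ∧ Nonempty (G ⧸ Subgroup.center G ≃* Matrix.ProjectiveSpecialLinearGroup (Fin 2) F)) := by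
  classical
  haveI : Fact (Nat.Prime 2) := ⟨Nat.prime_two⟩
  haveI : IsSimpleGroup (G ⧸ Subgroup.center G) := hq.2
  haveI : Group.IsPerfect G := hq.1
  have hperf : commutator G = ⊤ := Group.isPerfect_def.1 hq.1
  have hperfX : commutator (G ⧸ Subgroup.center G) = ⊤ := Group.isPerfect_def.1 inferInstance
  set π : G →* G ⧸ Subgroup.center G := QuotientGroup.mk' (Subgroup.center G) with hπ
  have hsurj : Function.Surjective π := QuotientGroup.mk'_surjective _
  have hπ1 : ∀ {x}, π x = 1 ↔ x ∈ Subgroup.center G := fun {x} => QuotientGroup.eq_one_iff x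
  have h : SylowSplit.IndexFour P := by
    refine ⟨?_, hZ⟩
    by_contra hne
    push Not at hne
    exact hna ⟨⟨fun a b => Subtype.ext (hne a a.2 b b.2).eq⟩⟩
  obtain ⟨c, hcz, hc1, hcc, hcom, hcen⟩ := h.central_cases hperf
  set Q : Sylow 2 (G ⧸ Subgroup.center G) := P.mapSurjective hsurj with hQ
  have hQc : (Q : Subgroup (G ⧸ Subgroup.center G)) = (P : Subgroup G).map π := rfl
  have hcP : c ∈ (P : Subgroup G) := (SylowSplit.mem_zc.1 hcz).1
  by_cases hcZ : c ∈ Subgroup.center G
  · -- the quotient has a four-group as Sylow subgroup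
    have hπc : π c = 1 := hπ1.2 hcZ
    have hmapcard : ∀ S : Subgroup G, S ≤ (P : Subgroup G) → c ∈ S →
        Nat.card (S.map π) * 2 = Nat.card S := by
      intro S hS hcS
      have hker : (π.comp S.subtype).ker = (Subgroup.zpowers c).subgroupOf S := by
        ext ⟨x, hx⟩
        rw [MonoidHom.mem_ker, Subgroup.mem_subgroupOf]
        show π x = 1 ↔ x ∈ Subgroup.zpowers c
        rw [hπ1]
        refine ⟨fun hxc => ?_, fun hxc => Subgroup.zpowers_le.2 hcZ hxc⟩
        rcases hcen x (hS hx) hxc with rfl | rfl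
        · exact one_mem _
        · exact Subgroup.mem_zpowers _
      have e := (π.comp S.subtype).ker.card_mul_index
      rw [Subgroup.index_ker, hker, Nat.card_congr (Subgroup.subgroupOfEquivOfLe
        (Subgroup.zpowers_le.2 hcS)).toEquiv, Nat.card_zpowers, SylowSplit.orderOf_two hcc hc1,
        MonoidHom.range_comp, Subgroup.range_subtype] at e
      rw [← e, mul_comm]
    have hzP : SylowSplit.zc P ≤ (P : Subgroup G) := fun x hx => (SylowSplit.mem_zc.1 hx).1
    have hQab : IsMulCommutative (Q : Subgroup (G ⧸ Subgroup.center G)) := by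
      refine ⟨⟨?_⟩⟩
      rintro ⟨_, p, hp, rfl⟩ ⟨_, q, hq', rfl⟩
      apply Subtype.ext
      show π p * π q = π q * π p
      by_cases hpq : Commute p q
      · rw [← map_mul, ← map_mul, hpq.eq]
      · have e := congrArg π (hcom p hp q hq' hpq)
        rw [map_mul, map_mul, map_mul, map_inv, hπc, one_mul] at e
        exact mul_inv_eq_iff_eq_mul.1 e
    set R := (SylowSplit.zc P).map π with hR
    have hRQ : R ≤ (Q : Subgroup (G ⧸ Subgroup.center G)) := Subgroup.map_mono hzP
    have hcardQ := hmapcard P le_rfl hcP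
    have hcardR := hmapcard _ hzP hcz
    rw [← hR] at hcardR
    have h4 : R.relIndex (Q : Subgroup (G ⧸ Subgroup.center G)) = 4 := by
      have e : R.relIndex (Q : Subgroup (G ⧸ Subgroup.center G)) * Nat.card R =
          Nat.card (Q : Subgroup (G ⧸ Subgroup.center G)) := by
        rw [← Nat.card_congr (Subgroup.subgroupOfEquivOfLe hRQ).toEquiv]
        exact Subgroup.index_mul_card _
      refine Nat.eq_of_mul_eq_mul_right (Nat.card_pos (α := R)) ?_
      rw [e]
      have := h.card_zc
      rw [hQc]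
      omega
    have hnorm : ∀ g : G, π g ∈ Subgroup.normalizer
        ((Q : Subgroup (G ⧸ Subgroup.center G)) : Set (G ⧸ Subgroup.center G)) →
        g ∈ Subgroup.normalizer ((P : Subgroup G) : Set G) := by
      have key : ∀ g : G, π g ∈ Subgroup.normalizer
          ((Q : Subgroup (G ⧸ Subgroup.center G)) : Set (G ⧸ Subgroup.center G)) →
          ∀ p ∈ (P : Subgroup G), g * p * g⁻¹ ∈ (P : Subgroup G) := by
        intro g hg p hp
        have hm := (Subgroup.mem_normalizer_iff.1 hg (π p)).1 ⟨p, hp, rfl⟩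
        rw [← map_inv, ← map_mul, ← map_mul] at hm
        obtain ⟨p', hp', e⟩ := hm
        obtain ⟨z, hz, hze⟩ : ∃ z ∈ Subgroup.center G, p' * z = g * p * g⁻¹ :=
          ⟨p'⁻¹ * (g * p * g⁻¹), hπ1.1 (by rw [map_mul, map_inv, e, inv_mul_cancel]), by group⟩
        have hcz' : Commute p' z := Subgroup.mem_center_iff.1 hz p'
        have hcm : Commute p'⁻¹ (g * p * g⁻¹) := by
          rw [← hze]
          exact ((Commute.refl p').mul_right hcz').inv_left
        obtain ⟨k, hk⟩ : ∃ k, orderOf z = 2 ^ k := by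
          refine SylowSplit.two_elt_of_mem (SylowSplit.pGroup_pair
            (SylowSplit.two_elt_of_mem P.2 (inv_mem hp'))
            (SylowSplit.two_elt_conj (SylowSplit.two_elt_of_mem P.2 hp) g)
            (by rw [hcm.eq, mul_inv_cancel_right]; exact Subgroup.mem_zpowers _)) ?_
          rw [show z = p'⁻¹ * (g * p * g⁻¹) by rw [← hze, inv_mul_cancel_left]]
          exact mul_mem (Subgroup.mem_sup_left (Subgroup.mem_zpowers _))
            (Subgroup.mem_sup_right (Subgroup.mem_zpowers _))
        obtain ⟨t, ht⟩ := SylowSplit.exists_conj_mem P ⟨k, hk⟩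
        rw [Subgroup.mem_center_iff.1 hz t, mul_inv_cancel_right] at ht
        exact hze ▸ mul_mem hp' ht
      intro g hg
      refine Subgroup.mem_normalizer_iff.2 fun p => ⟨key g hg p, fun hp => ?_⟩
      have := key g⁻¹ (by rw [map_inv]; exact inv_mem hg) _ hp
      rwa [inv_inv, show g⁻¹ * (g * p * g⁻¹) * g = p by group] at this
    have hRbot : R = ⊥ := SylowSplit.eq_bot_of_index_four hperfX Q hQab R hRQ (by
      intro m hm r hr
      obtain ⟨g, rfl⟩ := hsurj m
      obtain ⟨z, hz, rfl⟩ := hr
      exact ⟨g * z * g⁻¹, SylowSplit.norm_zc (hnorm g hm) hz, by rw [map_mul, map_mul, map_inv]⟩) h4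
    have hzc2 : Nat.card (SylowSplit.zc P) = 2 := by
      rw [← hcardR, hRbot, Subgroup.card_bot]
    have hP8 : Nat.card (P : Subgroup G) = 8 := by rw [← h.card_zc, hzc2]
    refine ⟨hP8, ?_⟩
    have hQ4 : Nat.card (Q : Subgroup (G ⧸ Subgroup.center G)) = 4 := by
      rw [hQc]
      omega
    haveI : IsKleinFour (Q : Subgroup (G ⧸ Subgroup.center G)) := by
      haveI : Nontrivial (Q : Subgroup (G ⧸ Subgroup.center G)) :=
        Finite.one_lt_card_iff_nontrivial.1 (by omega)
      refine ⟨hQ4, (Monoid.exponent_eq_prime_iff Nat.prime_two).2 ?_⟩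
      intro x hx1
      refine SylowSplit.orderOf_two ?_ hx1
      obtain ⟨p, hp, e⟩ := x.2
      refine Subtype.ext ?_
      rw [Subgroup.coe_mul, Subgroup.coe_one, ← e, ← map_mul]
      exact Subgroup.mem_bot.1 (hRbot ▸ Subgroup.mem_map_of_mem π (h.sq_mem hp) :
        π (p * p) ∈ (⊥ : Subgroup (G ⧸ Subgroup.center G)))
    rcases GW.simpleDihedral (G ⧸ Subgroup.center G) Q 2 le_rfl IsKleinFour.nonempty_mulEquiv with
      ⟨F, hF, hF', hodd, -, he⟩ | ⟨⟨e⟩⟩
    · exact Or.inr (Or.inr ⟨F, hF, hF', hodd, he⟩)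
    · exfalso
      refine Q.not_dvd_index ?_
      have hX : Nat.card (G ⧸ Subgroup.center G) = 2520 := by
        rw [Nat.card_congr e.toEquiv, nat_card_alternatingGroup]
        simp [Nat.factorial]
      have := (Q : Subgroup (G ⧸ Subgroup.center G)).index_mul_card
      rw [hQ4, hX] at this
      omega
  · -- the quotient has the same Sylow subgroup
    have hinj : ∀ x ∈ (P : Subgroup G), x ∈ Subgroup.center G → x = 1 := fun x hx hxc =>
      (hcen x hx hxc).resolve_right fun e => hcZ (e ▸ hxc)
    have hinj' : Function.Injective (π.comp (P : Subgroup G).subtype) := by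
      rw [injective_iff_map_eq_one]
      exact fun x hx => Subtype.ext (hinj x x.2 (hπ1.1 hx))
    let f : (P : Subgroup G) →* (Q : Subgroup (G ⧸ Subgroup.center G)) :=
      (π.comp (P : Subgroup G).subtype).codRestrict _ fun x => ⟨x, x.2, rfl⟩
    have hf : Function.Bijective f := by
      refine ⟨fun a b hab => hinj' (congrArg Subtype.val hab), ?_⟩
      rintro ⟨_, x, hx, rfl⟩
      exact ⟨⟨x, hx⟩, rfl⟩
    let e : (P : Subgroup G) ≃* (Q : Subgroup (G ⧸ Subgroup.center G)) := MulEquiv.ofBijective f hf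
    have hQ4 : SylowSplit.IndexFour Q := by
      refine ⟨?_, ?_⟩
      · obtain ⟨x, hx, y, hy, hxy⟩ := h.nonab
        refine ⟨π x, ⟨x, hx, rfl⟩, π y, ⟨y, hy, rfl⟩, fun hc' => hxy ?_⟩
        have h1 : (⟨x, hx⟩ * ⟨y, hy⟩ : (P : Subgroup G)) = ⟨y, hy⟩ * ⟨x, hx⟩ := hinj' (by
          show π (x * y) = π (y * x)
          rw [map_mul, map_mul, hc'.eq])
        exact congrArg Subtype.val h1
      · have e1 := (Subgroup.center (P : Subgroup G)).card_mul_index
        have e2 := (Subgroup.center (Q : Subgroup (G ⧸ Subgroup.center G))).card_mul_index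
        rw [← Nat.card_congr (Subgroup.centerCongr e).toEquiv, ← Nat.card_congr e.toEquiv, ← e1, hZ] at e2
        exact Nat.eq_of_mul_eq_mul_left Nat.card_pos e2
    obtain ⟨hQ8, hQD⟩ := hQ4.dihedral_four hperfX
    refine ⟨(Nat.card_congr e.toEquiv).trans hQ8, ?_⟩
    rcases GW.simpleDihedral (G ⧸ Subgroup.center G) Q 4 (by norm_num) hQD with
      ⟨F, hF, hF', hodd, -, he⟩ | ⟨⟨eA⟩⟩
    · exact Or.inr (Or.inr ⟨F, hF, hF', hodd, he⟩)
    · -- the centre is a quotient of the multiplier
      have hdvd : Nat.card (Subgroup.center G) ∣ 6 := by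
        have hk : ((eA.toMonoidHom).comp π).ker = Subgroup.center G := by
          ext x
          rw [MonoidHom.mem_ker, MonoidHom.comp_apply, ← hπ1]
          exact eA.map_eq_one_iff
        have h1 := Schur.card_dvd_card_multiplier ((eA.toMonoidHom).comp π)
          (eA.surjective.comp hsurj) hk.le
        rw [hk, hperf, inf_top_eq] at h1
        have h6 := (Schur.hasCyclicSchurMultiplier_iff 6).1
          (SchurMult.cyclic_six SchurMult.a7_card_le SchurMult.a7_surj2 SchurMult.a7_surj3)
        exact h6.2 ▸ h1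
      have hodd : ¬ 2 ∣ Nat.card (Subgroup.center G) := by
        intro h2
        obtain ⟨z, hz⟩ := exists_prime_orderOf_dvd_card' 2 h2
        obtain ⟨t, ht⟩ := SylowSplit.exists_conj_mem P (x := (z : G))
          ⟨1, by rw [Subgroup.orderOf_coe, hz, pow_one]⟩
        rw [Subgroup.mem_center_iff.1 z.2 t, mul_inv_cancel_right] at ht
        have := hinj _ ht z.2
        rw [← Subgroup.orderOf_coe, this, orderOf_one] at hz
        omega
      have hle : Nat.card (Subgroup.center G) ≤ 6 := Nat.le_of_dvd (by norm_num) hdvd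
      rcases (show Nat.card (Subgroup.center G) = 1 ∨ Nat.card (Subgroup.center G) = 3 by
        interval_cases Nat.card (Subgroup.center G) <;> simp_all <;> omega) with hz | hz
      · refine Or.inl ⟨?_⟩
        exact ((MulEquiv.ofBijective π ⟨(injective_iff_map_eq_one π).2 fun x hx =>
          Subgroup.mem_bot.1 (Subgroup.card_eq_one.1 hz ▸ hπ1.1 hx), hsurj⟩).trans eA)
      · exact Or.inr (Or.inl ⟨hz, ⟨eA⟩⟩)

end Cfsg.Agent.S4594
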