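import Cfsg.Statements.S4601
import Cfsg.Agent.Lib.Solvable.PLengthBasics

set_option autoImplicit false
open Cfsg

namespace Cfsg.Agent.S4601

/-- Let p and q be primes and G a finite group that is p-solvable or q-solvable, in which no q-element has conjugacy class size divisible by p. Then some Sylow p-subgroup of G normalizes some Sylow q-subgroup of G. -/
theorem result {G : Type*} [Group G] [Finite G] (p q : ℕ) [Fact p.Prime] [Fact q.Prime] (hsolv : Cfsg.IsPSolvable p G ∨ Cfsg.IsPSolvable q G)
    (h : ∀ y : G, (∃ k : ℕ, orderOf y = q ^ k) → ¬ p ∣ (Subgroup.centralizer ({y} : Set G)).index) :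
    ∃ (P : Sylow p G) (Q : Sylow q G), (P : Subgroup G) ≤ Subgroup.normalizer ((Q : Subgroup G) : Set G) := by
  by_cases hpq : p = q
  · subst hpq
    exact ⟨default, default, Subgroup.le_normalizer⟩
  rcases hsolv with hps | hqs
  · refine (PLengthBasics.exists_normalizes_iff hpq hps).2 fun hd => ?_
    have hn := FittingCores.pPrimeCore_normal (G := G) p
    set f := QuotientGroup.mk' (Cfsg.pPrimeCore p G) with hf
    have hfs : Function.Surjective f := QuotientGroup.mk'_surjective _
    obtain ⟨Q⟩ : Nonempty (Sylow q G) := inferInstance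
    refine Q.not_dvd_index (hd.trans (Subgroup.index_dvd_of_le fun y hy => ?_))
    set C := Subgroup.centralizer ({y} : Set G) with hC
    obtain ⟨j, hj⟩ := (Subgroup.orderOf_coe (⟨y, hy⟩ : (Q : Subgroup G))) ▸
      IsPGroup.iff_orderOf.1 Q.isPGroup' ⟨y, hy⟩
    obtain ⟨T⟩ : Nonempty (Sylow p C) := inferInstance
    have hcard : Nat.card ((T : Subgroup C).map C.subtype) = p ^ (Nat.card G).factorization p := by
      rw [Subgroup.card_map_of_injective C.subtype_injective, T.card_eq_multiplicity,
        ← C.card_mul_index, Nat.factorization_mul Nat.card_pos.ne' Subgroup.index_ne_zero_of_finite,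
        Finsupp.coe_add, Pi.add_apply, Nat.factorization_eq_zero_of_not_dvd (h y ⟨j, hj⟩), add_zero]
    set P := Sylow.ofCard ((T : Subgroup C).map C.subtype) hcard with hP
    have hfy : f y ∈ Cfsg.pCore p (G ⧸ Cfsg.pPrimeCore p G) := by
      refine PSolvable.centralizer_pCore_le (PSolvable.quotient _ hps)
        (PBasic.pPrimeCore_quotient_pPrimeCore p G) (Subgroup.mem_centralizer_iff.2 fun z hz => ?_)
      have hz' : z ∈ ((P.mapSurjective hfs : Sylow p _) : Subgroup (G ⧸ Cfsg.pPrimeCore p G)) :=
        FittingCores.pCore_le_sylow _ hz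
      obtain ⟨x, hx, rfl⟩ := hz'
      rw [hP, Sylow.coe_ofCard] at hx
      rw [← map_mul, ← map_mul,
        Subgroup.mem_centralizer_iff.1 (Subgroup.map_subtype_le _ hx : x ∈ C) y rfl]
    rw [← QuotientGroup.eq_one_iff]
    refine PBasic.eq_one_of_isPGroup_of_coprime (p := p) (FittingCores.pCore_isPGroup p) hfy
      (Nat.Coprime.coprime_dvd_left (orderOf_map_dvd f y) ?_)
    rw [hj]
    exact ((Nat.coprime_primes (Fact.out : q.Prime) (Fact.out : p.Prime)).2 (Ne.symm hpq)).pow_left j
  · obtain ⟨Q, hQ⟩ := PLengthBasics.exists_normalizes_of_classSize hpq _ rfl hqs h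
    set N := Subgroup.normalizer ((Q : Subgroup G) : Set G) with hN
    obtain ⟨T⟩ : Nonempty (Sylow p N) := inferInstance
    have hcard : Nat.card ((T : Subgroup N).map N.subtype) = p ^ (Nat.card G).factorization p := by
      rw [Subgroup.card_map_of_injective N.subtype_injective, T.card_eq_multiplicity,
        ← N.card_mul_index, Nat.factorization_mul Nat.card_pos.ne' Subgroup.index_ne_zero_of_finite,
        Finsupp.coe_add, Pi.add_apply, Nat.factorization_eq_zero_of_not_dvd hQ, add_zero]
    exact ⟨Sylow.ofCard _ hcard, Q, by rw [Sylow.coe_ofCard]; exact Subgroup.map_subtype_le _⟩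

end Cfsg.Agent.S4601
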