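import Cfsg.Statements.S4608
import Cfsg.Agent.Lib.BlockAlg.CornerBound
import Cfsg.Agent.Lib.BlockAlg.CornerDim
import Cfsg.Agent.Lib.BlockAlg.AbelianEight
-- import your own Cfsg.Agent.* helpers here

set_option autoImplicit false
set_option linter.style.haveILetI false
open Cfsg MonoidAlgebra Cfsg.Agent.Blocks Cfsg.Agent.BrauerPairs Cfsg.Agent.BlockAlg

namespace Cfsg.Agent.S4608

/-- Let G be a finite group, p a prime, M a maximal ideal of the algebraic integers containing p, and B a p-block of G with defect group D. If B has p-regular rank one and exactly five irreducible characters, then D is cyclic of order 5, or D has order 8 and is non-abelian (dihedral or quaternion). -/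
theorem result {G : Type*} [Group G] [Finite G] (p : ℕ) [Fact p.Prime] (M : Ideal Cfsg.AlgInt) (hM : Cfsg.IsPModular p M) (B : Set (Cfsg.IrrCharacter G)) (hB : Cfsg.IsPBlock M B) (D : Subgroup G) (hD : Cfsg.IsDefectGroup p M B D)
    (hl : Cfsg.blockRank p B = 1) (hk : Nat.card B = 5) :
    (Nat.card D = 5) ∨ (Nat.card D = 8 ∧ ¬ IsMulCommutative D) := by
  classical
  haveI := Fintype.ofFinite G
  haveI : M.IsPrime := IsPModular.isPrime hM
  haveI : CharP (resField M) p := resField_charP hM
  haveI : IsAlgClosed (resField M) := Cfsg.Agent.DefOne.isAlgClosed_resField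
  have hp : p.Prime := hM.1
  obtain ⟨f, F, hf, hFs, hFe, J, n, hJ, hker⟩ := exists_surjective_rep hM hB hl
  let DC : CornerData (resField M) (MonoidAlgebra (resField M) G) f :=
    { e := Ek M B
      e_idem := Ek_idem hB
      e_comm := fun b => IsClassElt.comm (isClassElt_Ek B) b
      F := F
      F_surj := hFs
      F_e := hFe
      J := J
      nJ := n
      J_pow := hJ
      ker_le := hker }
  obtain ⟨φ⟩ := exists_frame_exact hf DC
  let τ : MonoidAlgebra (resField M) G →ₗ[resField M] resField M :=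
    { toFun := fun x => x.coeff 1
      map_add' := fun x y => by simp
      map_smul' := fun c x => by simp }
  have h8 : Module.finrank (resField M) φ.A ≤ 8 := by
    refine finrank_corner_le_eight φ τ (fun x y => ?_) (fun a ha => ?_)
      ((finrank_corner_quotient_le hB rfl φ).trans hk.le)
    · show (x * y).coeff 1 = (y * x).coeff 1
      rw [coeff_mul_univ, coeff_mul_univ]
      refine Fintype.sum_equiv (Equiv.inv G) _ _ fun g => ?_
      simp [mul_comm]
    · refine gaExt fun g => ?_
      have h : (MonoidAlgebra.single g⁻¹ (1 : resField M) * a).coeff 1 = 0 := ha _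
      rw [coeff_mul_univ, Finset.sum_eq_single g⁻¹ (fun b _ hb => by simp [hb]) (by simp)] at h
      simpa using h
  have hz0 : φ.z ≠ 0 := fun h => by
    have h1 := φ.hFz
    rw [h, map_zero] at h1
    simpa using congrFun (congrFun h1 φ.o) φ.o
  have hpos : 0 < Module.finrank (resField M) φ.A :=
    Module.finrank_pos_iff.2 ⟨⟨⟨φ.z, φ.zA⟩, 0, fun h => hz0 (congrArg Subtype.val h)⟩⟩
  have hdvd := Nat.le_of_dvd hpos (pow_defect_dvd_corner hM hB hl hf (D := DC) rfl φ)
  have hcard := card_defectGroup hM hB hD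
  have hge := card_le_pow_defect hM hB hl
  rw [hk, ← hcard] at hge
  rw [← hcard] at hdvd
  set e := blockDefect p B
  have hp8 : Nat.card D ≤ 8 := hdvd.trans h8
  rcases (by omega : Nat.card D = 5 ∨ Nat.card D = 6 ∨ Nat.card D = 7 ∨ Nat.card D = 8) with
    h | h | h | h
  · exact Or.inl h
  · exfalso
    rw [h] at hcard
    have he : e ≠ 0 := fun he => by rw [he, pow_zero] at hcard; omega
    have h2 : p ∣ 6 := hcard ▸ dvd_pow_self p he
    rcases (Nat.dvd_prime_pow hp).1 (⟨1, by rw [mul_one, hcard]⟩ : 6 ∣ p ^ e) with ⟨i, -, hi⟩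
    have h3 : p = 2 := by
      have := Nat.Prime.dvd_of_dvd_pow Nat.prime_two (hi ▸ (by norm_num : 2 ∣ 6) : 2 ∣ p ^ i)
      exact ((Nat.prime_dvd_prime_iff_eq Nat.prime_two hp).1 this).symm
    have h4 : p = 3 := by
      have := Nat.Prime.dvd_of_dvd_pow Nat.prime_three (hi ▸ (by norm_num : 3 ∣ 6) : 3 ∣ p ^ i)
      exact ((Nat.prime_dvd_prime_iff_eq Nat.prime_three hp).1 this).symm
    omega
  · exfalso
    haveI : Fact (Nat.Prime 7) := ⟨by norm_num⟩
    have := card_defect_le_card hM hB hl hD (isCyclic_of_prime_card h)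
    omega
  · refine Or.inr ⟨h, fun hcm => ?_⟩
    have hp2 : p = 2 := by
      rw [h] at hcard
      have := Nat.Prime.dvd_of_dvd_pow Nat.prime_two (hcard ▸ (by norm_num : 2 ∣ 8) : 2 ∣ p ^ e)
      exact ((Nat.prime_dvd_prime_iff_eq Nat.prime_two hp).1 this).symm
    subst hp2
    haveI := hcm
    refine Cfsg.Agent.AbelianEight.card_ne_five hM hB hD h (fun x hx => ?_) hl hk
    rw [Subgroup.mem_centralizer_iff]
    exact fun y hy => congrArg Subtype.val (mul_comm' (⟨y, hy⟩ : D) ⟨x, hx⟩)

end Cfsg.Agent.S4608
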