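import Cfsg.Statements.S4609
import Cfsg.Agent.Lib.BlockThree.Main
import Cfsg.Agent.Lib.PLocal.MaxClass
-- import your own Cfsg.Agent.* helpers here

set_option autoImplicit false
set_option linter.style.haveILetI false
open Cfsg Cfsg.Agent.Blocks Cfsg.Agent.Char

namespace Cfsg.Agent.S4609

/-- Let G be a finite group, p a prime, M a maximal ideal of the algebraic integers containing p, and B a p-block of G with defect group D containing exactly three irreducible characters. Suppose the number of height-zero characters of B equals the number of height-zero characters of its Brauer correspondent b, the block of N_G(D) with defect group D inducing B (as the Alperin–McKay conjecture predicts). Then D has order 3. -/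
theorem result {G : Type*} [Group G] [Finite G] (p : ℕ) [Fact p.Prime] (M : Ideal Cfsg.AlgInt) (hM : Cfsg.IsPModular p M) (B : Set (Cfsg.IrrCharacter G)) (hB : Cfsg.IsPBlock M B) (D : Subgroup G) (hD : Cfsg.IsDefectGroup p M B D) (hk : Nat.card B = 3)
    (b : Set (Cfsg.IrrCharacter (Subgroup.normalizer (D : Set G)))) (hbB : Cfsg.IsInducedBlock M (Subgroup.normalizer (D : Set G)) b B)
    (hbD : Cfsg.IsDefectGroup p M b (D.subgroupOf (Subgroup.normalizer (D : Set G))))
    (hAM : Nat.card {χ : Cfsg.IrrCharacter G // χ ∈ B ∧ Cfsg.blockHeight p B (χ : G → ℂ) = 0} =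
           Nat.card {ψ : Cfsg.IrrCharacter (Subgroup.normalizer (D : Set G)) // ψ ∈ b ∧ Cfsg.blockHeight p b (ψ : Subgroup.normalizer (D : Set G) → ℂ) = 0}) :
    Nat.card D = 3 := by
  classical
  haveI := Fintype.ofFinite G
  haveI : M.IsPrime := IsPModular.isPrime hM
  have hp : p.Prime := hM.1
  haveI : Fintype (Subgroup.normalizer (D : Set G)) := Fintype.ofFinite _
  set P := D.subgroupOf (Subgroup.normalizer (D : Set G)) with hPdef
  haveI : P.Normal := ⟨fun n hn k => Subgroup.mem_subgroupOf.2 <| by
    simpa using (Subgroup.mem_normalizer_iff.1 k.2 n).1 (Subgroup.mem_subgroupOf.1 hn)⟩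
  have hPp : IsPGroup p P := isPGroup_defectGroup hbD
  set K : Subgroup (Subgroup.normalizer (D : Set G)) := ⁅P, P⁆ with hK
  have hKP : K ≤ P := Subgroup.commutator_le_left P P
  have hKp : IsPGroup p K := hPp.to_le hKP
  haveI : Fintype ((Subgroup.normalizer (D : Set G)) ⧸ K) := Fintype.ofFinite _
  obtain ⟨bb, hbb, hinfl, hdef⟩ := exists_quotient_block K hM hKp hbB.1
  set π := QuotientGroup.mk' K with hπ
  have hDb : IsDefectGroup p M bb (P.map π) := (hdef _).2 ⟨P, hbD, rfl⟩
  haveI : (P.map π).Normal :=
    Subgroup.Normal.map inferInstance π (QuotientGroup.mk'_surjective K)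
  have hcomm : ∀ x ∈ P.map π, ∀ y ∈ P.map π, x * y = y * x := by
    rintro _ ⟨a, ha, rfl⟩ _ ⟨c, hc, rfl⟩
    rw [← map_mul, ← map_mul]
    refine QuotientGroup.eq.2 ?_
    rw [show (a * c)⁻¹ * (c * a) = c⁻¹ * a⁻¹ * c⁻¹⁻¹ * a⁻¹⁻¹ by group]
    exact Subgroup.commutator_mem_commutator (inv_mem hc) (inv_mem ha)
  -- the height zero members
  have hcardN : Nat.card (Subgroup.normalizer (D : Set G)) = Nat.card ((Subgroup.normalizer (D : Set G)) ⧸ K) * Nat.card K := K.card_eq_card_quotient_mul_card_subgroup
  have hcardP : Nat.card P = Nat.card (P.map π) * Nat.card K := by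
    rw [← Subgroup.relIndex_bot_left (P.map π), ← Subgroup.relIndex_comap, MonoidHom.comap_bot,
      hπ, QuotientGroup.ker_mk', ← Subgroup.relIndex_bot_left K, mul_comm,
      Subgroup.relIndex_mul_relIndex _ _ _ bot_le hKP, Subgroup.relIndex_bot_left]
  have hheight : ∀ χ ∈ bb,
      blockHeight p b ((Cfsg.Agent.CharX.infl K χ : IrrCharacter (Subgroup.normalizer (D : Set G))) : (Subgroup.normalizer (D : Set G)) → ℂ) = 0 := by
    intro χ hχ
    have h1 := (blockHeight_eq_zero_iff hM hbb hχ).1 ((reynolds hM hbb hDb).1 hcomm χ hχ)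
    rw [blockHeight_eq_zero_iff hM hbB.1 (hinfl χ hχ)]
    have hdeg : charDegree ((Cfsg.Agent.CharX.infl K χ : IrrCharacter (Subgroup.normalizer (D : Set G))) : (Subgroup.normalizer (D : Set G)) → ℂ) =
        charDegree (χ : (Subgroup.normalizer (D : Set G)) ⧸ K → ℂ) := by
      simp [charDegree, Cfsg.Agent.CharX.infl_apply]
    rw [hdeg, h1, hcardN, Nat.factorization_mul Nat.card_pos.ne' Nat.card_pos.ne',
      Finsupp.add_apply]
    have hb1 := card_defectGroup hM hbB.1 hbD
    have hb2 := card_defectGroup hM hbb hDb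
    obtain ⟨j, hj⟩ := IsPGroup.iff_card.1 hKp
    rw [hcardP, hb2, hj, ← pow_add] at hb1
    have h3 := Nat.pow_right_injective hp.two_le hb1
    rw [hj, hp.factorization_pow, Finsupp.single_eq_same, ← h3]
    omega
  have hk0 : Nat.card bb ≤ 3 := by
    have h1 : Nat.card bb ≤ Nat.card {ψ : IrrCharacter (Subgroup.normalizer (D : Set G)) //
        ψ ∈ b ∧ blockHeight p b (ψ : (Subgroup.normalizer (D : Set G)) → ℂ) = 0} := by
      refine Nat.card_le_card_of_injective
        (fun χ : bb => ⟨Cfsg.Agent.CharX.infl K χ.1, hinfl _ χ.2, hheight _ χ.2⟩) fun x y h => ?_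
      refine Subtype.ext (Subtype.ext (funext fun q => ?_))
      obtain ⟨q, rfl⟩ := QuotientGroup.mk_surjective q
      have := congrFun (congrArg (fun t : {ψ : IrrCharacter (Subgroup.normalizer (D : Set G)) //
        ψ ∈ b ∧ blockHeight p b (ψ : (Subgroup.normalizer (D : Set G)) → ℂ) = 0} => ((t : IrrCharacter (Subgroup.normalizer (D : Set G))) : (Subgroup.normalizer (D : Set G)) → ℂ)) h) q
      simpa [Cfsg.Agent.CharX.infl_apply] using this
    rw [← hAM] at h1
    exact h1.trans ((Nat.card_le_card_of_injective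
      (fun χ : {χ : IrrCharacter G // χ ∈ B ∧ blockHeight p B (χ : G → ℂ) = 0} =>
        (⟨χ.1, χ.2.1⟩ : B)) fun x y h => Subtype.ext (congrArg (fun t : B => t.1) h)).trans hk.le)
  have hQ3 : Nat.card (P.map π) ≤ 3 :=
    Cfsg.Agent.BlockThree.card_defect_le_three hM hbb hDb hcomm hk0
  -- the defect group is abelian
  have hcomP : commutator P = ⊥ := by
    haveI := hPp.isNilpotent
    haveI : IsCyclic (P ⧸ commutator P) := by
      have hcard : Nat.card (P ⧸ commutator P) = Nat.card (P.map π) := by
        have h1 := (commutator P).card_eq_card_quotient_mul_card_subgroup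
        have h2 : Nat.card (commutator P) = Nat.card K := by
          rw [hK, ← Subgroup.map_subtype_commutator,
            Subgroup.card_map_of_injective Subtype.val_injective]
        rw [hcardP, h2] at h1
        exact (Nat.eq_of_mul_eq_mul_right Nat.card_pos h1).symm
      rcases (by have := Nat.card_pos (α := P ⧸ commutator P); omega :
        Nat.card (P ⧸ commutator P) = 1 ∨ Nat.card (P ⧸ commutator P) = 2 ∨
          Nat.card (P ⧸ commutator P) = 3) with h | h | h
      · haveI : Subsingleton (P ⧸ commutator P) := (Nat.card_eq_one_iff_unique.1 h).1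
        infer_instance
      · haveI := Fact.mk Nat.prime_two
        exact isCyclic_of_prime_card h
      · haveI := Fact.mk Nat.prime_three
        exact isCyclic_of_prime_card h
    exact Cfsg.Agent.MaxClass.commutator_eq_bot_of_cyclic
  have hK1 : Nat.card K = 1 := by
    rw [hK, ← Subgroup.map_subtype_commutator, hcomP, Subgroup.map_bot, Subgroup.card_bot]
  have hD3 : Nat.card D ≤ 3 := by
    rw [← Nat.card_congr (Subgroup.subgroupOfEquivOfLe (Subgroup.le_normalizer : D ≤ (Subgroup.normalizer (D : Set G)))).toEquiv,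
      ← hPdef, hcardP, hK1, mul_one]
    exact hQ3
  have hne2 : Nat.card D ≠ 2 := fun h => by
    have := (Cfsg.Agent.BrauerPairs.card_two_iff hM hB hD).2 h
    omega
  have hne1 : Nat.card D ≠ 1 := fun h => by
    obtain ⟨-, hz, -⟩ := Cfsg.Agent.BrauerPairs.rank_full_iff hM hB
    have h0 : blockDefect p B = 0 := by
      rw [card_defectGroup hM hB hD] at h
      rcases Nat.pow_eq_one.1 h with h | h
      · exact absurd h hp.one_lt.ne'
      · exact h
    have := (hz.1 h0).1
    omega
  have := Nat.card_pos (α := D)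
  omega

end Cfsg.Agent.S4609
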