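import Cfsg.Statements.S4611
import Cfsg.Agent.Lib.Blocks.RegularSum
import Cfsg.Agent.Lib.Blocks.KernelBlock
import Cfsg.Agent.Lib.Solvable.Fitting
import Cfsg.Agent.Lib.PLocal.PSolvable

set_option autoImplicit false
set_option linter.style.haveILetI false
open Cfsg

namespace Cfsg.Agent.S4611

open Cfsg.Agent.Blocks Cfsg.Agent.Char

theorem linear_mem_principalBlock {G : Type*} [Group G] [Fintype G] [Group.IsSolvable G] {p : ℕ}
    {M : Ideal AlgInt} [M.IsPrime] (hM : IsPModular p M) (lam : G →* ℂˣ)
    (hlam : pPrimeCore p G ≤ lam.ker) :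
    (⟨fun g => (lam g : ℂ), isIrrCharacter_linear lam⟩ : IrrCharacter G) ∈ principalBlock M G := by
  classical
  haveI := Fact.mk hM.1
  rw [mem_principalBlock_iff]
  intro g
  set C := Subgroup.centralizer ({g} : Set G) with hC
  have hval : ((C.index : ℂ)) - centralChar (fun x => (lam x : ℂ)) g =
      (C.index : ℂ) * (1 - (lam g : ℂ)) := by
    simp only [centralChar, map_one, Units.val_one, div_one, ← hC]; ring
  show MemLocalIdeal M ((C.index : ℂ) - centralChar (fun x => (lam x : ℂ)) g)
  rw [hval]
  have hlint : MemLocalRing M (1 - (lam g : ℂ)) := by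
    refine mem_locRing_of_isIntegral (isIntegral_one.sub ?_)
    exact IsCharacter.isIntegral (IsIrrCharacter.isCharacter (isIrrCharacter_linear lam)) g
  by_cases hp : p ∣ C.index
  · exact MemLocalIdeal.mul_right ((natCast_memLocalIdeal_iff hM _).2 hp) hlint
  · -- `g` centralises a Sylow subgroup
    obtain ⟨Q⟩ : Nonempty (Sylow p C) := inferInstance
    have hQc : Nat.card ((Q : Subgroup C).map C.subtype) = p ^ (Nat.card G).factorization p := by
      rw [Subgroup.card_map_of_injective C.subtype_injective, Sylow.card_eq_multiplicity,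
        ← C.card_mul_index, Nat.factorization_mul Nat.card_pos.ne'
          Subgroup.index_ne_zero_of_finite, Finsupp.add_apply,
        Nat.factorization_eq_zero_of_not_dvd hp, add_zero]
    let S : Sylow p G := Sylow.ofCard _ hQc
    have hS : (S : Subgroup G) ≤ C := by
      show (Q : Subgroup C).map C.subtype ≤ C
      exact Subgroup.map_subtype_le _
    set K := pPrimeCore p G with hK
    haveI : K.Normal := Cfsg.Agent.FittingCores.pPrimeCore_normal p
    let f := QuotientGroup.mk' K
    have hle : pCore p (G ⧸ K) ≤ (S : Subgroup G).map f :=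
      Cfsg.Agent.PBasic.pCore_le_sylow (S.mapSurjective (QuotientGroup.mk'_surjective K))
    haveI : Group.IsSolvable (G ⧸ K) :=
      Group.isSolvable_of_surjective (QuotientGroup.mk'_surjective K)
    have hg : f g ∈ pCore p (G ⧸ K) := by
      refine Cfsg.Agent.FittingCores.centralizer_pCore_le hM.1
        (Cfsg.Agent.FittingCores.pPrimeCore_quotient_eq_bot p K rfl) ?_
      rw [Subgroup.mem_centralizer_iff]
      intro z hz
      obtain ⟨s, hs, rfl⟩ := hle hz
      rw [← map_mul, ← map_mul, Subgroup.mem_centralizer_singleton_iff.1 (hS hs)]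
    obtain ⟨k, hk⟩ := IsPGroup.iff_orderOf.1 (Cfsg.Agent.FittingCores.pCore_isPGroup p) ⟨f g, hg⟩
    rw [← Subgroup.orderOf_coe] at hk
    have hgk : g ^ p ^ k ∈ K := by
      rw [← QuotientGroup.eq_one_iff (N := K)]
      show f (g ^ p ^ k) = 1
      rw [map_pow, ← orderOf_dvd_iff_pow_eq_one]
      exact hk.dvd
    have hpow : (lam g : ℂ) ^ p ^ k = 1 := by
      rw [← Units.val_pow_eq_pow_val, ← map_pow, hlam hgk, Units.val_one]
    refine MemLocalIdeal.mul_left (natCast_mem (locRing M) _) ?_
    rw [← neg_sub]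
    exact MemLocalIdeal.neg (memLocalIdeal_sub_one_of_pow_eq_one hM hpow)

/-- Let G be a finite solvable group and π a nonempty set of primes, each dividing the order of G; fix for each p in π a maximal ideal M p of the algebraic integers containing p. Then the only irreducible character lying in the principal p-block for every p in π is the principal character if and only if G is generated by the subgroups O_{p'}(G), p in π (the largest normal subgroups of order prime to p). -/
theorem result {G : Type*} [Group G] [Finite G] [Group.IsSolvable G] (π : Set ℕ) (hπ : ∀ p ∈ π, p.Prime ∧ p ∣ Nat.card G) (hne : π.Nonempty) (M : ℕ → Ideal Cfsg.AlgInt) (hM : ∀ p ∈ π, Cfsg.IsPModular p (M p)) :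
    (∀ χ : Cfsg.IrrCharacter G, (∀ p ∈ π, χ ∈ Cfsg.principalBlock (M p) G) → (χ : G → ℂ) = fun _ => 1) ↔
      ⨆ p ∈ π, Cfsg.pPrimeCore p G = ⊤ := by
  classical
  haveI : Fintype G := Fintype.ofFinite G
  haveI hK : ∀ p, (Cfsg.pPrimeCore p G).Normal := Cfsg.Agent.FittingCores.pPrimeCore_normal
  constructor
  · intro h
    set N := ⨆ p ∈ π, Cfsg.pPrimeCore p G with hN
    by_contra hne'
    haveI : N.Normal := by
      haveI hK' : ∀ p : ℕ, (⨆ _ : p ∈ π, Cfsg.pPrimeCore p G).Normal := fun p =>
        Subgroup.iSup_normal _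
      exact Subgroup.iSup_normal _
    haveI : Nontrivial (G ⧸ N) := QuotientGroup.nontrivial_iff.2 hne'
    haveI : Group.IsSolvable (G ⧸ N) :=
      Group.isSolvable_of_surjective (QuotientGroup.mk'_surjective N)
    have hc : commutator (G ⧸ N) < ⊤ := Group.IsSolvable.commutator_lt_top_of_nontrivial (G ⧸ N)
    obtain ⟨q, -, hq⟩ := SetLike.exists_of_lt hc
    have hq' : (Abelianization.of q) ≠ 1 := fun e => hq ((QuotientGroup.eq_one_iff q).1 e)
    obtain ⟨φ, hφ⟩ := CommGroup.exists_apply_ne_one_of_hasEnoughRootsOfUnity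
      (Abelianization (G ⧸ N)) ℂ hq'
    obtain ⟨g, rfl⟩ := QuotientGroup.mk_surjective q
    let lam : G →* ℂˣ := φ.comp (Abelianization.of.comp (QuotientGroup.mk' N))
    refine hφ (Units.ext ?_)
    have h1 := h ⟨fun x => (lam x : ℂ), isIrrCharacter_linear lam⟩ fun p hp => by
      haveI : (M p).IsPrime := (hM p hp).2.1.isPrime
      refine linear_mem_principalBlock (hM p hp) lam fun x hx => ?_
      have : ((x : G) : G ⧸ N) = 1 := (QuotientGroup.eq_one_iff x).2 (by
        exact Subgroup.mem_iSup_of_mem p (Subgroup.mem_iSup_of_mem hp hx))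
      show φ (Abelianization.of ((x : G) : G ⧸ N)) = 1
      rw [this, map_one, map_one]
    exact congrFun h1 g
  · intro htop χ hχ
    obtain ⟨K, -, hK', -, -⟩ := Cfsg.Agent.CharX.exists_ker χ
    have hle : ⨆ p ∈ π, Cfsg.pPrimeCore p G ≤ K := iSup₂_le fun p hp x hx => by
      haveI : (M p).IsPrime := (hM p hp).2.1.isPrime
      refine (hK' x).2 (trivialOn_of_sameBlock (hM p hp) _ ?_ (χ := principal G) (hχ p hp)
        (fun _ _ => rfl) x hx)
      exact (Nat.Prime.coprime_iff_not_dvd (hπ p hp).1).1
        (Cfsg.Agent.FittingCores.pPrimeCore_coprime p).symm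
    have hall : (χ : G → ℂ) = fun _ => (χ : G → ℂ) 1 :=
      funext fun x => (hK' x).1 (hle (htop ▸ Subgroup.mem_top x))
    by_contra hne1
    have h0 := classInner_irr_of_ne χ.2 isIrrCharacter_one hne1
    rw [hall] at h0
    simp [Cfsg.classInner, IsIrrCharacter.one_ne_zero χ.2] at h0

end Cfsg.Agent.S4611
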