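import Cfsg.Statements.S4613
import Cfsg.Agent.Lib.FixSylow.Classical
import Cfsg.Agent.Lib.FixSylow.Twisted
import Cfsg.Agent.Lib.FixSylow.Suzuki
import Cfsg.Agent.Lib.Lie.GoodK
import Cfsg.Agent.Lib.Lie.TwE6
import Cfsg.Agent.Lib.Lie.TwD4
import Cfsg.Agent.Lib.Lie.TwF4
import Cfsg.Agent.Lib.Lie.TwG2
import Cfsg.Agent.Lib.Orthogonal.NegOne

set_option autoImplicit false
open Cfsg

namespace Cfsg.Agent.S4613

/-- Let G be a finite simple group of Lie type in characteristic p and α an automorphism of G of order prime to p that fixes some Sylow p-subgroup of G elementwise. Then α is the identity. -/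
theorem result {G : Type*} [Group G] [Finite G] [IsSimpleGroup G] (p : ℕ) [Fact p.Prime] (hG : Cfsg.IsLieTypeChar p G) (α : MulAut G) (hα : ¬ p ∣ orderOf α) (U : Sylow p G) (hfix : ∀ x ∈ (U : Subgroup G), α x = x) : α = 1 := by

  suffices h : FixSylow.Rigid p G by
    obtain ⟨H, Q, S⟩ := h
    exact FixSylow.eq_one_of_sep S α hα U hfix
  clear hfix hα α U
  rcases hG with h | h | h | h | h | h | h | h | ⟨hp, h⟩ | ⟨hp, h⟩ | ⟨hp, h⟩
  · obtain ⟨F, _, _, _, n, hn, -, ⟨e⟩⟩ := h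
    exact FixSylow.rigid_psl p hn e
  · obtain ⟨F, _, _, _, m, hm, -, ⟨e⟩⟩ := h
    exact FixSylow.rigid_psp p hm e
  · obtain ⟨F, _, _, _, n, q, hq, hn, -, ⟨e⟩⟩ := h
    exact FixSylow.rigid_psu p hn hq e
  · obtain ⟨F, _, _, _, m, hm, hodd, ⟨e⟩⟩ := h
    have h2 := Orth.two_ne_zero_of_odd hodd
    obtain ⟨H, Q, S⟩ := FixSylow.rigid_pomega p (Orth.qOdd F m) (Orth.qOdd_nondeg h2 m) (by simp; omega)
      (FixSylow.single_ne (F := F) (Sum.inr (Sum.inl ⟨0, by omega⟩)))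
      (by rw [Orth.coe_qOdd, Cfsg.quadFormOdd]; simp [Pi.single_apply])
    exact S.rigid_equiv (e.trans (MulEquiv.cast (M := fun f => Cfsg.POmega F f) (Orth.coe_qOdd m)).symm)
  · obtain ⟨F, _, _, _, m, hm, ⟨e⟩⟩ := h
    obtain ⟨H, Q, S⟩ := FixSylow.rigid_pomega p (Orth.qPlus F m) (Orth.qPlus_nondeg m) (by simp; omega)
      (FixSylow.single_ne (F := F) (Sum.inl ⟨0, by omega⟩))
      (by rw [Orth.coe_qPlus, Cfsg.quadFormPlus]; simp [Pi.single_apply])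
    exact S.rigid_equiv (e.trans (MulEquiv.cast (M := fun f => Cfsg.POmega F f) (Orth.coe_qPlus m)).symm)
  · obtain ⟨F, _, _, _, m, a, b, hm, hab, ⟨e⟩⟩ := h
    obtain ⟨H, Q, S⟩ := FixSylow.rigid_pomega p (Orth.qMinus F (m - 1) a b) (Orth.qMinus_nondeg hab (m - 1))
      (by simp; omega) (FixSylow.single_ne (F := F) (Sum.inl (Sum.inl ⟨0, by omega⟩)))
      (by rw [Orth.coe_qMinus, Cfsg.quadFormMinus]; simp [Pi.single_apply])
    exact S.rigid_equiv (e.trans (MulEquiv.cast (M := fun f => Cfsg.POmega F f) (Orth.coe_qMinus (m - 1) a b)).symm)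
  · obtain ⟨F, _, _, _, h⟩ := h
    have key : ∀ D : Cfsg.Lie.ChevalleyDatum, D ∈ [Cfsg.Lie.chevG2, Cfsg.Lie.chevB2, Cfsg.Lie.chevD4,
        Cfsg.Lie.chevF4, Cfsg.Lie.chevE6, Cfsg.Lie.chevE7, Cfsg.Lie.chevE8] → 0 < D.rank →
        Nonempty (G ≃* D.group F) → FixSylow.Rigid p G := by
      intro D hD hr he
      obtain ⟨T, K, g, rfl⟩ := Chev.exists_goodK hD
      obtain ⟨e⟩ := he
      obtain ⟨H, Q, S⟩ := FixSylow.rigid_chev (F := F) g p (g.rank_eq ▸ hr)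
      exact S.rigid_equiv e
    rcases h with ⟨-, h⟩ | h | h | h | h
    · exact key _ (by simp) (by decide) h
    · exact key _ (by simp) (by decide) h
    · exact key _ (by simp) (by decide) h
    · exact key _ (by simp) (by decide) h
    · exact key _ (by simp) (by decide) h
  · obtain ⟨F, _, _, _, q, hq, ⟨hK, ⟨e⟩⟩ | ⟨hK, ⟨e⟩⟩⟩ := h
    · obtain ⟨H, Q, S⟩ := FixSylow.rigid_twist (g := Chev.TwE6.gK) (Chev.TwE6.X hq hK) p (Nat.zero_lt_succ _)
        fun b hb => (Chev.TwE6.X hq hK).exists_fixed_ne_one (Chev.TwE6.blocks hq hK) hq.one_lt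
          (Chev.TwE6.hblk hq hK) hb
      exact S.rigid_equiv e
    · obtain ⟨H, Q, S⟩ := FixSylow.rigid_twist (g := Chev.TwD4.gK) (Chev.TwD4.X hq hK) p (Nat.zero_lt_succ _)
        fun b hb => (Chev.TwD4.X hq hK).exists_fixed_ne_one (Chev.TwD4.blocks hq hK) hq.one_lt
          (Chev.TwD4.hblk hq hK) hb
      exact S.rigid_equiv e
  · subst hp
    obtain ⟨F, _, _, m, hm, hF, ⟨e⟩⟩ := h
    exact FixSylow.rigid_suzuki ⟨hm, hF⟩ e
  · subst hp
    obtain ⟨F, _, _, m, hm, hF, ⟨e⟩⟩ := h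
    haveI : CharP F 2 := charP_of_card_eq_prime_pow (f := 2 * m + 1) hF
    obtain ⟨H, Q, S⟩ := FixSylow.rigid_twist (Chev.TwF4.X hF) 2 (Nat.zero_lt_succ _)
      fun b hb => (Chev.TwF4.X hF).exists_fixed_ne_one (Chev.TwF4.blocks hF) Chev.TwF4.hq (Chev.TwF4.hblk hF) hb
    exact S.rigid_equiv e
  · subst hp
    obtain ⟨F, _, _, m, hm, hF, ⟨e⟩⟩ := h
    haveI : CharP F 3 := charP_of_card_eq_prime_pow (f := 2 * m + 1) hF
    obtain ⟨H, Q, S⟩ := FixSylow.rigid_twist (Chev.TwG2.X hF) 3 (Nat.zero_lt_succ _)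
      fun b hb => (Chev.TwG2.X hF).exists_fixed_ne_one (Chev.TwG2.blocks hF) Chev.TwG2.hq (Chev.TwG2.hblk hF) hb
    exact S.rigid_equiv e

end Cfsg.Agent.S4613
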