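import Cfsg.Statements.S4620
import Mathlib.GroupTheory.Sylow
import Mathlib.Order.Preorder.Finite
import Mathlib.Tactic

set_option autoImplicit false
open scoped Pointwise
open Cfsg

namespace Cfsg.Agent.S4620

variable {H : Type*} [Group H] [Finite H] {p : ℕ} [Fact p.Prime]

/-- The trivial intersection property, phrased elementwise, for every Sylow subgroup. -/
theorem ti_elem (P : Sylow p H)
    (hTI : ∀ g : H, g ∉ Subgroup.normalizer ((P : Subgroup H) : Set H) →
      (P : Subgroup H) ⊓ (MulAut.conj g • (P : Subgroup H)) = ⊥)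
    (R : Sylow p H) {u g : H} (hu : u ∈ R) (hu' : g⁻¹ * u * g ∈ R) (hu1 : u ≠ 1) :
    g ∈ Subgroup.normalizer ((R : Subgroup H) : Set H) := by
  obtain ⟨a, rfl⟩ := MulAction.exists_smul_eq H P R
  have hmem : ∀ x, x ∈ ((a • P : Sylow p H) : Subgroup H) ↔ a⁻¹ * x * a ∈ (P : Subgroup H) := by
    intro x
    rw [Sylow.smul_def, Sylow.pointwise_smul_def, Subgroup.mem_pointwise_smul_iff_inv_smul_mem]
    simp [MulAut.smul_def, MulAut.conj_inv_apply]
  rw [← SetLike.mem_coe] at hu hu'
  have h1 := (hmem _).mp hu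
  have h2 := (hmem _).mp hu'
  have hk : a⁻¹ * g * a ∈ Subgroup.normalizer ((P : Subgroup H) : Set H) := by
    by_contra hk
    have hx : a⁻¹ * u * a ∈ (P : Subgroup H) ⊓ (MulAut.conj (a⁻¹ * g * a) • (P : Subgroup H)) := by
      refine Subgroup.mem_inf.mpr ⟨h1, ?_⟩
      rw [Subgroup.mem_pointwise_smul_iff_inv_smul_mem, MulAut.smul_def,
        MulAut.conj_inv_apply]
      convert h2 using 1
      group
    rw [hTI _ hk, Subgroup.mem_bot] at hx
    apply hu1
    calc u = a * (a⁻¹ * u * a) * a⁻¹ := by group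
      _ = 1 := by rw [hx]; group
  rw [Subgroup.mem_normalizer_iff] at hk ⊢
  intro x
  rw [hmem, hmem, hk]
  constructor <;> intro h <;> convert h using 1 <;> group

/-- A normal `p`-subgroup of a normal subgroup is trivial. -/
theorem eq_bot_of_pgroup (hOp : Cfsg.pCore p H = ⊥) (N : Subgroup H) [hN : N.Normal]
    (T : Subgroup H) (hTN : T ≤ N) (hT : IsPGroup p T)
    (hn : ∀ n ∈ N, ∀ t ∈ T, n * t * n⁻¹ ∈ T) : T = ⊥ := by
  obtain ⟨SN⟩ : Nonempty (Sylow p N) := inferInstance
  obtain ⟨R, hR⟩ := (SN.2.map N.subtype).exists_le_sylow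
  have hall : ∀ T' : Subgroup H, T' ≤ N → IsPGroup p T' → (∀ n ∈ N, ∀ t ∈ T', n * t * n⁻¹ ∈ T') →
      T' ≤ R := by
    intro T' hle hp' hn'
    haveI : (T'.subgroupOf N).Normal := ⟨fun t ht n => hn' n n.2 t ht⟩
    have h1 : IsPGroup p ↥(T'.subgroupOf N) :=
      hp'.of_equiv (Subgroup.subgroupOfEquivOfLe hle).symm
    have h2 : T'.subgroupOf N ≤ (SN : Subgroup N) := by
      have h3 := IsPGroup.to_sup_of_normal_right SN.2 h1
      rw [← SN.3 h3 le_sup_left]
      exact le_sup_right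
    intro t ht
    exact hR ⟨⟨t, hle ht⟩, h2 (show (⟨t, hle ht⟩ : N) ∈ T'.subgroupOf N from ht), rfl⟩
  set X := (R : Subgroup H).normalCore with hX
  have hXb : X = ⊥ := by
    rw [eq_bot_iff, ← hOp]
    exact le_sSup ⟨Subgroup.normalCore_normal _, R.2.to_le (Subgroup.normalCore_le _)⟩
  rw [eq_bot_iff, ← hXb]
  intro t ht g
  have hg : ∀ x ∈ T.map (MulAut.conj g).toMonoidHom, x ∈ (R : Subgroup H) := by
    refine fun x hx => hall _ ?_ (hT.map _) ?_ hx
    · rintro _ ⟨y, hy, rfl⟩
      exact hN.conj_mem y (hTN hy) g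
    · rintro n hn' _ ⟨y, hy, rfl⟩
      refine ⟨g⁻¹ * n * g * y * (g⁻¹ * n * g)⁻¹, hn _ ?_ y hy, ?_⟩
      · simpa using hN.conj_mem n hn' g⁻¹
      · simp only [MulEquiv.coe_toMonoidHom, MulAut.conj_apply]
        group
  exact hg _ ⟨t, ht, rfl⟩

/-- No normal subgroup of a normal subgroup with order divisible by `p` centralizes a nontrivial
`p`-element. -/
theorem no_centralized (hOp : Cfsg.pCore p H = ⊥) (P : Sylow p H)
    (hTI : ∀ g : H, g ∉ Subgroup.normalizer ((P : Subgroup H) : Set H) →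
      (P : Subgroup H) ⊓ (MulAut.conj g • (P : Subgroup H)) = ⊥)
    (N : Subgroup H) [N.Normal] (M : Subgroup H) (hMN : M ≤ N)
    (hn : ∀ n ∈ N, ∀ m ∈ M, n * m * n⁻¹ ∈ M) (hp : p ∣ Nat.card M)
    (u : H) (hu : orderOf u = p) (hc : ∀ m ∈ M, m * u = u * m) : False := by
  have hup : IsPGroup p (Subgroup.zpowers u) :=
    IsPGroup.of_card (n := 1) (by rw [Nat.card_zpowers, hu, pow_one])
  obtain ⟨R, hR⟩ := hup.exists_le_sylow
  have huR : u ∈ R := hR (Subgroup.mem_zpowers u)
  have hu1 : u ≠ 1 := fun h => by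
    rw [h, orderOf_one] at hu
    exact (Fact.out : p.Prime).one_lt.ne hu
  have hMR : M ≤ Subgroup.normalizer ((R : Subgroup H) : Set H) := fun m hm =>
    ti_elem P hTI R huR (by
      rw [mul_assoc, ← hc m hm, inv_mul_cancel_left]; exact huR) hu1
  haveI hsn : ((R : Subgroup H).subgroupOf M).Normal :=
    ⟨fun t ht m => (Subgroup.mem_normalizer_iff.mp (hMR m.2) t).mp ht⟩
  obtain ⟨S⟩ : Nonempty (Sylow p M) := inferInstance
  obtain ⟨R', hR'⟩ := (S.2.map M.subtype).exists_le_sylow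
  -- the intersection with `R` is the unique Sylow subgroup of `M`
  obtain ⟨v, hv⟩ := exists_prime_orderOf_dvd_card' p hp
  have hmax : ∀ T : Subgroup M, IsPGroup p T → T ≤ (R : Subgroup H).subgroupOf M := by
    intro T hT m hm
    have hmp : IsPGroup p (Subgroup.zpowers (m : H)) :=
      (hT.map M.subtype).to_le (Subgroup.zpowers_le.mpr ⟨m, hm, rfl⟩)
    have hRm : IsPGroup p ↥((R : Subgroup H) ⊔ Subgroup.zpowers (m : H)) :=
      R.2.to_sup_of_normal_left' hmp (Subgroup.zpowers_le.mpr (hMR m.2))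
    have heq := R.3 hRm le_sup_left
    exact heq ▸ Subgroup.mem_sup_right (Subgroup.mem_zpowers (m : H))
  set T := ((R : Subgroup H).subgroupOf M).map M.subtype with hT
  have hTp : IsPGroup p ↥((R : Subgroup H).subgroupOf M) :=
    R.2.comap_of_injective M.subtype Subtype.val_injective
  have hbot : T = ⊥ := by
    refine eq_bot_of_pgroup hOp N T ((Subgroup.map_subtype_le _).trans hMN) (hTp.map _) ?_
    rintro n hn' _ ⟨t, ht, rfl⟩
    let c : M →* M :=
      { toFun := fun m => ⟨n * m * n⁻¹, hn n hn' m m.2⟩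
        map_one' := by ext; simp
        map_mul' := fun a b => by ext; simp }
    exact ⟨c t, hmax _ (hTp.map c) ⟨t, ht, rfl⟩, rfl⟩
  have hvT : (v : H) ∈ T := ⟨v, hmax _ (IsPGroup.of_card (n := 1)
    (by rw [Nat.card_zpowers, hv, pow_one])) (Subgroup.mem_zpowers v), rfl⟩
  rw [hbot, Subgroup.mem_bot] at hvT
  have : v = 1 := Subtype.ext hvT
  rw [this, orderOf_one] at hv
  exact (Fact.out : p.Prime).one_lt.ne hv

/-- A nontrivial normal subgroup of a normal subgroup has order divisible by `p`. -/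
theorem dvd_card_of_normal (hOp' : Cfsg.pPrimeCore p H = ⊥) (N : Subgroup H) [hN : N.Normal]
    (S : Subgroup N) [hSn : S.Normal] (hS : S ≠ ⊥) : p ∣ Nat.card S := by
  by_contra hdvd
  have hpp : p.Prime := Fact.out
  have hcop : (Nat.card S).Coprime p := ((hpp.coprime_iff_not_dvd).mpr hdvd).symm
  obtain ⟨T, hTS, hTmax⟩ := (Set.toFinite {T : Subgroup N | T.Normal ∧ (Nat.card T).Coprime p}).exists_le_maximal
    ⟨hSn, hcop⟩
  haveI := hTmax.1.1
  have habs : ∀ T' : Subgroup N, T'.Normal → (Nat.card T').Coprime p → T' ≤ T := by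
    intro T' hn' hc'
    haveI := hn'
    have : (Nat.card ↥(T ⊔ T')).Coprime p := by
      refine Nat.Coprime.coprime_dvd_left ?_ (hTmax.1.2.mul_left hc')
      rw [← Subgroup.relIndex_bot_left (T ⊔ T'), ← Subgroup.relIndex_mul_relIndex ⊥ T (T ⊔ T') bot_le le_sup_left,
        Subgroup.relIndex_bot_left, sup_comm, Subgroup.relIndex_sup_right]
      exact Nat.mul_dvd_mul_left _ (Subgroup.relIndex_dvd_card _ _)
    exact le_trans le_sup_right (hTmax.2 ⟨Subgroup.sup_normal T T', this⟩ le_sup_left)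
  have hbot : T.map N.subtype = ⊥ := by
    rw [eq_bot_iff, ← hOp']
    refine le_sSup ⟨⟨?_⟩, ?_⟩
    · rintro _ ⟨t, ht, rfl⟩ g
      let c : N →* N :=
        { toFun := fun m => ⟨g * m * g⁻¹, hN.conj_mem m m.2 g⟩
          map_one' := by ext; simp
          map_mul' := fun a b => by ext; simp }
      refine ⟨c t, habs (T.map c) ⟨?_⟩ ?_ ⟨t, ht, rfl⟩, rfl⟩
      · rintro _ ⟨s, hs, rfl⟩ m
        let m' : N := ⟨g⁻¹ * m * g, by simpa using hN.conj_mem m m.2 g⁻¹⟩
        refine ⟨m' * s * m'⁻¹, hTmax.1.1.conj_mem s hs m', ?_⟩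
        ext
        simp [c, m', mul_assoc]
      · exact Nat.Coprime.coprime_dvd_left (Subgroup.card_map_dvd _ _) hTmax.1.2
    · rw [Subgroup.card_map_of_injective Subtype.val_injective]
      exact hTmax.1.2
  rw [Subgroup.map_eq_bot_iff_of_injective _ Subtype.val_injective] at hbot
  exact hS (eq_bot_iff.mpr (hbot ▸ hTS))


/-- Let H be a finite group with no nontrivial normal p-subgroup and no nontrivial normal subgroup of order prime to p, whose Sylow p-subgroup P is nontrivial and a trivial-intersection set (P meets its conjugates by elements outside N_H(P) trivially). Then H has a unique minimal normal subgroup N; N is non-abelian simple with trivial centralizer in H (so H embeds in Aut(N)), and a Sylow p-subgroup of N is again a nontrivial trivial-intersection set in N. -/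
theorem result {H : Type*} [Group H] [Finite H] (p : ℕ) [Fact p.Prime] (hOp : Cfsg.pCore p H = ⊥) (hOp' : Cfsg.pPrimeCore p H = ⊥) (P : Sylow p H) (hP1 : (P : Subgroup H) ≠ ⊥)
    (hTI : ∀ g : H, g ∉ Subgroup.normalizer ((P : Subgroup H) : Set H) → (P : Subgroup H) ⊓ (MulAut.conj g • (P : Subgroup H)) = ⊥) :
    ∃ N : Subgroup H, N.Normal ∧ N ≠ ⊥ ∧ (∀ K : Subgroup H, K.Normal → K ≠ ⊥ → N ≤ K) ∧
      IsSimpleGroup N ∧ ¬ IsMulCommutative N ∧ Subgroup.centralizer (N : Set H) = ⊥ ∧
      ∀ Q : Sylow p N, (Q : Subgroup N) ≠ ⊥ ∧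
        ∀ n : N, n ∉ Subgroup.normalizer ((Q : Subgroup N) : Set N) → (Q : Subgroup N) ⊓ (MulAut.conj n • (Q : Subgroup N)) = ⊥ := by
  have hpp : p.Prime := Fact.out
  haveI hH : Nontrivial H := by
    by_contra h
    rw [not_nontrivial_iff_subsingleton] at h
    exact hP1 (Subsingleton.elim _ _)
  obtain ⟨N, -, hNmin⟩ := (Set.toFinite {K : Subgroup H | K.Normal ∧ K ≠ ⊥}).exists_le_minimal
    (show (⊤ : Subgroup H) ∈ _ from ⟨inferInstance, top_ne_bot⟩)
  haveI hNn := hNmin.1.1
  have hN0 := hNmin.1.2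
  have hC : ∀ K : Subgroup H, K.Normal → K ≠ ⊥ → Subgroup.centralizer (K : Set H) = ⊥ := by
    intro K hK hK0
    by_contra hC
    haveI := hK
    have hdK : p ∣ Nat.card K := by
      by_contra hd
      refine hK0 (eq_bot_iff.mpr (hOp' ▸ le_sSup ⟨hK, ?_⟩))
      exact ((hpp.coprime_iff_not_dvd).mpr hd).symm
    set C := Subgroup.centralizer (K : Set H) with hCdef
    have hdC : p ∣ Nat.card C := by
      by_contra hd
      refine hC (eq_bot_iff.mpr (hOp' ▸ le_sSup ⟨inferInstance, ?_⟩))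
      exact ((hpp.coprime_iff_not_dvd).mpr hd).symm
    obtain ⟨u, hu⟩ := exists_prime_orderOf_dvd_card' p hdC
    exact no_centralized hOp P hTI K K le_rfl (fun n hn m hm => mul_mem (mul_mem hn hm) (inv_mem hn))
      hdK u (by rw [Subgroup.orderOf_coe, hu]) (fun m hm => Subgroup.mem_centralizer_iff.mp u.2 m hm)
  refine ⟨N, hNn, hN0, ?_, ?_, ?_, hC N hNn hN0, ?_⟩
  · intro K hK hK0
    haveI := hK
    by_contra hle
    have hKN : N ⊓ K = ⊥ := by
      by_contra hne
      exact hle (le_trans (hNmin.2 ⟨Subgroup.normal_inf_normal N K, hne⟩ inf_le_left) inf_le_right)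
    refine hK0 (eq_bot_iff.mpr (hC N hNn hN0 ▸ ?_))
    intro k hk
    rw [Subgroup.mem_centralizer_iff]
    intro n hn
    exact Subgroup.commute_of_normal_of_disjoint N K hNn hK (disjoint_iff.mpr hKN) n k hn hk
  · haveI : Nontrivial N := (Subgroup.nontrivial_iff_ne_bot N).mpr hN0
    refine ⟨fun S hSn => ?_⟩
    by_contra hne
    push Not at hne
    obtain ⟨S0, hS0le, hS0⟩ := (Set.toFinite {T : Subgroup N | T.Normal ∧ T ≠ ⊥}).exists_le_minimal
      (show S ∈ _ from ⟨hSn, hne.1⟩)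
    haveI := hS0.1.1
    have hS0N : (S0.map N.subtype).Normal := by
      refine ⟨?_⟩
      rintro _ ⟨s, hs, rfl⟩ g
      by_contra hg
      let c : N →* N :=
        { toFun := fun m => ⟨g * m * g⁻¹, hNn.conj_mem m m.2 g⟩
          map_one' := by ext; simp
          map_mul' := fun a b => by ext; simp }
      set S1 := S0.map c with hS1
      have hS1n : S1.Normal := by
        refine ⟨?_⟩
        rintro _ ⟨s, hs, rfl⟩ m
        let m' : N := ⟨g⁻¹ * m * g, by simpa using hNn.conj_mem m m.2 g⁻¹⟩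
        refine ⟨m' * s * m'⁻¹, hS0.1.1.conj_mem s hs m', ?_⟩
        ext
        simp [c, m', mul_assoc]
      haveI := hS1n
      have hcinj : Function.Injective c := fun a b h => by
        have h' : g * (a : H) * g⁻¹ = g * (b : H) * g⁻¹ := congrArg Subtype.val h
        exact Subtype.ext (mul_left_cancel (mul_right_cancel h'))
      have hd : Disjoint S0 S1 := by
        rw [disjoint_iff]
        by_contra hne'
        have h1 : S0 ≤ S1 := le_trans (hS0.2 ⟨Subgroup.normal_inf_normal S0 S1, hne'⟩ inf_le_left)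
          inf_le_right
        have h2 : S0 = S1 := Subgroup.eq_of_le_of_card_ge h1
          (le_of_eq (Subgroup.card_map_of_injective hcinj))
        exact hg ⟨c s, h2.symm ▸ ⟨s, hs, rfl⟩, rfl⟩
      obtain ⟨u, hu⟩ := exists_prime_orderOf_dvd_card' p (dvd_card_of_normal hOp' N S0 hS0.1.2)
      refine no_centralized hOp P hTI N (S1.map N.subtype) (Subgroup.map_subtype_le _) ?_ ?_
        (u : N) (by rw [Subgroup.orderOf_coe, Subgroup.orderOf_coe, hu]) ?_
      · rintro n hn _ ⟨m, hm, rfl⟩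
        exact ⟨⟨n, hn⟩ * m * ⟨n, hn⟩⁻¹, hS1n.conj_mem m hm _, rfl⟩
      · rw [Subgroup.card_map_of_injective Subtype.val_injective]
        refine dvd_card_of_normal hOp' N S1 ?_
        rw [hS1, Ne, Subgroup.map_eq_bot_iff_of_injective _ hcinj]
        exact hS0.1.2
      · rintro _ ⟨m, hm, rfl⟩
        exact congrArg Subtype.val
          (Subgroup.commute_of_normal_of_disjoint S1 S0 hS1n hS0.1.1 hd.symm m u hm u.2).eq
    have h0 : S0.map N.subtype = N := le_antisymm (Subgroup.map_subtype_le _) (hNmin.2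
      ⟨hS0N, by rw [Ne, Subgroup.map_eq_bot_iff_of_injective _ Subtype.val_injective]; exact hS0.1.2⟩
      (Subgroup.map_subtype_le _))
    refine hne.2 (eq_top_iff.mpr fun m _ => ?_)
    obtain ⟨m', hm', hmm⟩ := h0.ge m.2
    exact Subtype.ext (hmm : (m' : H) = m) ▸ hS0le hm'
  · intro hcomm
    refine hN0 (eq_bot_iff.mpr (hC N hNn hN0 ▸ ?_))
    intro n hn
    rw [Subgroup.mem_centralizer_iff]
    intro m hm
    exact congrArg Subtype.val (hcomm.is_comm.comm (⟨m, hm⟩ : N) ⟨n, hn⟩)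
  · intro Q
    have hdN : p ∣ Nat.card N := by
      have : p ∣ Nat.card (⊤ : Subgroup N) :=
        dvd_card_of_normal hOp' N ⊤ (by
          haveI : Nontrivial N := (Subgroup.nontrivial_iff_ne_bot N).mpr hN0
          exact top_ne_bot)
      rwa [Subgroup.card_top] at this
    refine ⟨Q.ne_bot_of_dvd_card hdN, fun n hn => ?_⟩
    obtain ⟨R, hR⟩ := (Q.2.map N.subtype).exists_le_sylow
    have hQR : ∀ m : N, (m : H) ∈ R → m ∈ Q := by
      intro m hm
      have h1 : (R : Subgroup H).comap N.subtype = (Q : Subgroup N) :=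
        Q.3 (R.2.comap_of_injective N.subtype Subtype.val_injective)
          (fun a ha => hR ⟨a, ha, rfl⟩)
      exact (SetLike.ext_iff.mp h1 m).mp hm
    by_contra hne
    obtain ⟨u, hu, hu0⟩ := (Subgroup.bot_or_exists_ne_one _).resolve_left hne
    obtain ⟨hu1, hu2⟩ := Subgroup.mem_inf.mp hu
    rw [Subgroup.mem_pointwise_smul_iff_inv_smul_mem, MulAut.smul_def,
      MulAut.conj_inv_apply] at hu2
    have h1 : (u : H) ∈ R := hR ⟨u, hu1, rfl⟩
    have h2 : (n : H)⁻¹ * u * n ∈ R := hR ⟨_, hu2, by simp⟩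
    have h3 := ti_elem P hTI R h1 h2 (fun h => hu0 (Subtype.ext h))
    refine hn (Subgroup.mem_normalizer_iff.mpr fun m => ?_)
    have hiff : ∀ m : N, m ∈ (Q : Subgroup N) ↔ (m : H) ∈ (R : Subgroup H) :=
      fun m => ⟨fun hm => hR ⟨m, hm, rfl⟩, hQR m⟩
    rw [hiff, hiff]
    exact Subgroup.mem_normalizer_iff.mp h3 m

end Cfsg.Agent.S4620
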