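import Cfsg.Statements.S4621
import Cfsg.Agent.Lib.CopBase.Main

set_option autoImplicit false
open Cfsg

namespace Cfsg.Agent.S4621

/-- Let F be a finite field of odd characteristic, V a finite-dimensional vector space over F, and G a finite solvable group acting faithfully and linearly on V with the order of G coprime to the number of vectors of V. Then there are two vectors x, y ∈ V such that the only element of G fixing both x and y is the identity. -/
theorem result {F : Type*} [Field F] [Fintype F] (hF : ringChar F ≠ 2) {V : Type*} [AddCommGroup V] [Module F V] [FiniteDimensional F V] [Finite V]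
    {G : Type*} [Group G] [Finite G] [Group.IsSolvable G] (ρ : Representation F G V) (hfaith : Function.Injective ρ) (hcop : (Nat.card G).Coprime (Nat.card V)) :
    ∃ x y : V, ∀ g : G, ρ g x = x → ρ g y = y → g = 1 := by
  rcases subsingleton_or_nontrivial V with hV | hV
  · exact ⟨0, 0, fun g _ _ => hfaith (LinearMap.ext fun x => Subsingleton.elim _ _)⟩
  haveI : CharP F (ringChar F) := ringChar.charP F
  have hp : (ringChar F).Prime := CharP.char_is_prime F _
  have hcard : (Nat.card G : F) ≠ 0 := by
    intro h
    rw [CharP.cast_eq_zero_iff F (ringChar F)] at h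
    obtain ⟨n, -, hn⟩ := FiniteField.card F (ringChar F)
    have hd : ringChar F ∣ Nat.card V := by
      rw [Module.natCard_eq_pow_finrank (K := F), Nat.card_eq_fintype_card, hn, ← pow_mul]
      exact dvd_pow_self _ (Nat.mul_ne_zero n.ne_zero Module.finrank_pos.ne')
    exact hp.ne_one (Nat.dvd_one.1 (hcop ▸ Nat.dvd_gcd h hd))
  exact CopBase.two_all (Ring.two_ne_zero hF) _ V G ρ (Nat.lt_succ_self _) hfaith inferInstance hcard

end Cfsg.Agent.S4621
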