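import Cfsg.Statements.S4626
import Cfsg.Agent.Lib.Blocks.MinMax
import Cfsg.Agent.Lib.Char.Integral

set_option autoImplicit false
open Cfsg

namespace Cfsg.Agent.S4626

/-- Let G be a finite group, p a prime, M a maximal ideal of the algebraic integers containing p, P a Sylow p-subgroup of G and N a normal subgroup of index prime to p containing the centralizer C_G(P). Then every irreducible character of G whose kernel contains N lies in the principal p-block of G. -/
theorem result {G : Type*} [Group G] [Finite G] (p : ℕ) [Fact p.Prime] (M : Ideal Cfsg.AlgInt) (hM : Cfsg.IsPModular p M) (P : Sylow p G) (N : Subgroup G) [N.Normal] (hidx : ¬ p ∣ N.index)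
    (hC : Subgroup.centralizer ((P : Subgroup G) : Set G) ≤ N) (χ : Cfsg.IrrCharacter G) (hker : ∀ n ∈ N, (χ : G → ℂ) n = (χ : G → ℂ) 1) :
    χ ∈ Cfsg.principalBlock M G := by
  haveI := Fintype.ofFinite G
  haveI := Cfsg.Agent.Blocks.IsPModular.isPrime hM
  intro g
  obtain ⟨χ', -, hχ', hirr⟩ := Cfsg.Agent.Char.IsCharacter.deflate
    (Cfsg.Agent.Blocks.irr_isCharacter χ) N hker
  have hdeg : ¬ p ∣ Cfsg.charDegree (χ : G → ℂ) := fun hd => hidx (by
    rw [Subgroup.index_eq_card]
    refine hd.trans (Cfsg.Agent.Char.degree_dvd_card (hirr χ.2) ?_)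
    rw [show (1 : G ⧸ N) = ((1 : G) : G ⧸ N) from rfl, hχ']
    exact Cfsg.Agent.Blocks.irr_one_eq_charDegree χ)
  set idx := (Subgroup.centralizer ({g} : Set G)).index with hi
  have hone : Cfsg.centralChar (fun _ : G => (1 : ℂ)) g = idx := by simp [Cfsg.centralChar, hi]
  rw [hone]
  by_cases hdvd : p ∣ idx
  · have h1 := (Cfsg.Agent.Blocks.natCast_memLocalIdeal_iff hM idx).2 hdvd
    refine Cfsg.Agent.Blocks.MemLocalIdeal.sub h1 ?_
    simp only [Cfsg.centralChar, ← hi, mul_div_assoc]
    refine Cfsg.Agent.Blocks.MemLocalIdeal.mul_right h1 ?_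
    rw [div_eq_mul_inv, Cfsg.Agent.Blocks.irr_one_eq_charDegree]
    exact (Cfsg.Agent.Blocks.locRing M).mul_mem
      (Cfsg.Agent.Blocks.mem_locRing_of_isIntegral (Cfsg.Agent.Blocks.irr_isIntegral χ g))
      (Cfsg.Agent.Blocks.inv_natCast_memLocalRing hM hdeg)
  · have hgN : g ∈ N := by
      obtain ⟨Q⟩ : Nonempty (Sylow p (Subgroup.centralizer ({g} : Set G))) := inferInstance
      have hcard : Nat.card (Cfsg.Agent.Blocks.sylowImage Q) =
          p ^ (Nat.card G).factorization p := by
        rw [Cfsg.Agent.Blocks.card_sylowImage,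
          ← Subgroup.card_mul_index (Subgroup.centralizer ({g} : Set G)),
          Nat.factorization_mul Nat.card_pos.ne' Subgroup.index_ne_zero_of_finite,
          Finsupp.add_apply, Nat.factorization_eq_zero_of_not_dvd hdvd, add_zero]
      obtain ⟨y, hy⟩ := MulAction.exists_smul_eq G
        (Sylow.ofCard (Cfsg.Agent.Blocks.sylowImage Q) hcard) P
      have hmem : y * g * y⁻¹ ∈ N := by
        refine hC (Subgroup.mem_centralizer_iff.2 fun u hu => ?_)
        rw [← hy, Sylow.coe_subgroup_smul] at hu
        obtain ⟨t, ht, rfl⟩ := hu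
        have htg := Subgroup.mem_centralizer_iff.1 (Cfsg.Agent.Blocks.sylowImage_le Q ht) g
          (Set.mem_singleton g)
        simp only [MulDistribMulAction.toMonoidEnd_apply, MulDistribMulAction.toMonoidHom_apply,
          MulAut.smul_def, MulAut.conj_apply]
        calc y * t * y⁻¹ * (y * g * y⁻¹) = y * (t * g) * y⁻¹ := by group
          _ = y * (g * t) * y⁻¹ := by rw [htg]
          _ = y * g * y⁻¹ * (y * t * y⁻¹) := by group
      have := (inferInstance : N.Normal).conj_mem _ hmem y⁻¹
      convert this using 1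
      group
    have : Cfsg.centralChar (χ : G → ℂ) g = idx := by
      rw [Cfsg.centralChar, hker g hgN, mul_div_assoc,
        div_self (Cfsg.Agent.Blocks.irr_one_ne_zero χ), mul_one]
    rw [this, sub_self]
    exact Cfsg.Agent.Blocks.memLocalIdeal_zero

end Cfsg.Agent.S4626
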