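import Cfsg.Statements.S4633
import Cfsg.Agent.Lib.BrauerPairs.AbelianInertia

set_option autoImplicit false
open Cfsg

namespace Cfsg.Agent.S4633

/-- Let B be a block of the finite group G relative to a maximal ideal M of the algebraic integers containing the prime p, with a nontrivial cyclic defect group P. Let c be a block of C_G(P) inducing B and T the stabilizer of c in N_G(P) (the elements of N_G(P) conjugating c to itself); T contains C_G(P). Then T/C_G(P) is cyclic of order dividing p − 1, and it acts freely on the non-identity elements of P: an element of T fixing some non-identity element of P under conjugation lies in C_G(P). -/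
theorem result {G : Type*} [Group G] [Finite G] (p : ℕ) [Fact p.Prime] (M : Ideal Cfsg.AlgInt) (hM : Cfsg.IsPModular p M) (B : Set (Cfsg.IrrCharacter G)) (hB : Cfsg.IsPBlock M B) (P : Subgroup G) (hPD : Cfsg.IsDefectGroup p M B P) (hP1 : P ≠ ⊥) (hcyc : IsCyclic P) (c : Set (Cfsg.IrrCharacter (Subgroup.centralizer (P : Set G)))) (hc : Cfsg.IsInducedBlock M (Subgroup.centralizer (P : Set G)) c B) (T : Subgroup G) (hT : ∀ g : G, g ∈ T ↔ (g ∈ Subgroup.normalizer (P : Set G) ∧ Cfsg.StabilizesBlock (Subgroup.centralizer (P : Set G)) c g)) [hn : ((Subgroup.centralizer (P : Set G)).subgroupOf T).Normal] : IsCyclic (T ⧸ (Subgroup.centralizer (P : Set G)).subgroupOf T) ∧ (Subgroup.centralizer (P : Set G)).relIndex T ∣ p - 1 ∧ ∀ g ∈ T, ∀ x ∈ P, x ≠ 1 → g * x * g⁻¹ = x → g ∈ Subgroup.centralizer (P : Set G) := by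
  classical
  haveI : Fintype G := Fintype.ofFinite G
  haveI : M.IsPrime := hM.2.1.isPrime
  have hPp : IsPGroup p P := Cfsg.Agent.Blocks.isPGroup_defectGroup hPD
  obtain ⟨⟨y, hyP⟩, hy⟩ := IsCyclic.exists_generator (α := P)
  have hgen : ∀ u ∈ P, ∃ i : ℤ, y ^ i = u := fun u hu => by
    obtain ⟨i, hi⟩ := Subgroup.mem_zpowers_iff.1 (hy ⟨u, hu⟩)
    exact ⟨i, by simpa using congrArg Subtype.val hi⟩
  have hPC : P ≤ Subgroup.centralizer (P : Set G) := fun u hu =>
    Subgroup.mem_centralizer_iff.2 fun v hv => by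
      obtain ⟨i, rfl⟩ := hgen u hu
      obtain ⟨j, rfl⟩ := hgen v hv
      exact (Commute.zpow_zpow_self y j i).eq
  have hTe : T = Cfsg.Agent.BrauerPairs.stabP
      (P, Cfsg.Agent.BrauerPairs.zB M (Subgroup.centralizer (P : Set G)) c) :=
    Subgroup.ext fun g => (hT g).trans (Cfsg.Agent.BrauerPairs.stab_iff hc.1 g)
  have hm : ¬ p ∣ (Subgroup.centralizer (P : Set G)).relIndex T := by
    rw [hTe]; exact Cfsg.Agent.BrauerPairs.not_dvd_inertia hM hPD hPC hc
  have hTN : T ≤ Subgroup.normalizer (P : Set G) := fun g hg => ((hT g).1 hg).1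
  have hpow : ∀ g ∈ T, g ^ (Subgroup.centralizer (P : Set G)).relIndex T ∈
      Subgroup.centralizer (P : Set G) := fun g hg => Subgroup.mem_subgroupOf.1
    (Subgroup.pow_index_mem ((Subgroup.centralizer (P : Set G)).subgroupOf T) ⟨g, hg⟩)
  have hfree : ∀ g ∈ T, ∀ x ∈ P, x ≠ 1 → g * x * g⁻¹ = x →
      g ∈ Subgroup.centralizer (P : Set G) := fun g hg x hx hx1 h =>
    Cfsg.Agent.BrauerPairs.mem_centralizer_of_fix hPp hcyc hTN hm hpow hg hx hx1 h
  obtain ⟨⟨x0, hx0P⟩, hx0⟩ := exists_prime_orderOf_dvd_card' (G := P) p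
    (by
      obtain ⟨k, hk⟩ := IsPGroup.iff_card.1 hPp
      rw [hk]
      exact dvd_pow_self p fun h => hP1 (Subgroup.eq_bot_of_card_eq P (by rw [hk, h, pow_zero])))
  rw [← Subgroup.orderOf_coe] at hx0
  change orderOf x0 = p at hx0
  have hx01 : x0 ≠ 1 := fun h => (Fact.out : p.Prime).ne_one (by rw [← hx0, h, orderOf_one])
  have hTO : ∀ g ∈ T, g * x0 * g⁻¹ ∈ Subgroup.zpowers x0 := by
    intro g hg
    obtain ⟨a, ha⟩ := hgen _ ((Subgroup.mem_normalizer_iff.1 (hTN hg) y).1 hyP)
    obtain ⟨i, rfl⟩ := hgen x0 hx0P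
    refine ⟨a, ?_⟩
    show (y ^ i) ^ a = g * y ^ i * g⁻¹
    rw [← conj_zpow, ← ha, ← zpow_mul, ← zpow_mul, mul_comm]
  have hTN' : T ≤ Subgroup.normalizer (Subgroup.zpowers x0 : Set G) := by
    intro g hg
    rw [Subgroup.mem_normalizer_iff_map_conj_eq]
    refine Subgroup.eq_of_le_of_card_ge ?_
      (Subgroup.card_map_of_injective (MulAut.conj g).injective).ge
    rw [MonoidHom.map_zpowers, Subgroup.zpowers_le]
    exact hTO g hg
  let φ : T →* MulAut (Subgroup.zpowers x0) :=
    (Subgroup.zpowers x0).normalizerMonoidHom.comp (Subgroup.inclusion hTN')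
  have hker : φ.ker = (Subgroup.centralizer (P : Set G)).subgroupOf T := by
    ext g
    rw [MonoidHom.mem_ker, Subgroup.mem_subgroupOf]
    constructor
    · intro h
      refine hfree g g.2 x0 hx0P hx01 ?_
      exact congrArg Subtype.val (DFunLike.congr_fun h
        (⟨x0, Subgroup.mem_zpowers x0⟩ : Subgroup.zpowers x0))
    · intro h
      refine MulEquiv.ext fun q => Subtype.ext ?_
      show (g : G) * (q : G) * (g : G)⁻¹ = q
      rw [mul_inv_eq_iff_eq_mul]
      exact (Subgroup.mem_centralizer_iff.1 h q (Subgroup.zpowers_le.2 hx0P q.2)).symm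
  have hcard : Nat.card (Subgroup.zpowers x0) = p := by rw [Nat.card_zpowers, hx0]
  have e : MulAut (Subgroup.zpowers x0) ≃* (ZMod p)ˣ :=
    hcard ▸ IsCyclic.mulAutMulEquiv (Subgroup.zpowers x0)
  refine ⟨?_, ?_, hfree⟩
  · exact isCyclic_of_injective
      ((e.toMonoidHom.comp (QuotientGroup.kerLift φ)).comp
        (QuotientGroup.quotientMulEquivOfEq hker.symm).toMonoidHom)
      ((e.injective.comp (QuotientGroup.kerLift_injective φ)).comp
        (QuotientGroup.quotientMulEquivOfEq hker.symm).injective)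
  · show ((Subgroup.centralizer (P : Set G)).subgroupOf T).index ∣ p - 1
    rw [← hker, Subgroup.index_ker, ← ZMod.card_units p, ← Nat.card_eq_fintype_card,
      ← Nat.card_congr e.toEquiv]
    exact Subgroup.card_subgroup_dvd_card φ.range

end Cfsg.Agent.S4633
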