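import Cfsg.Statements.S4634
import Cfsg.Agent.Lib.Star.Abelian.CyclicData
import Cfsg.Agent.Lib.Star.Abelian.FrobeniusData

set_option autoImplicit false
set_option linter.style.haveILetI false
open Cfsg

namespace Cfsg.Agent.S4634

/-- Let B be a block of the finite group G relative to a maximal ideal M of the algebraic integers containing the prime p, with a nontrivial cyclic defect group P, let c be a block of C_G(P) inducing B, T the stabilizer of c in N_G(P) and e the index of C_G(P) in T. Let F be any finite group of order #P · e having a cyclic subgroup Q of order #P that is its own centralizer (F is then the semidirect product of Q by a cyclic group of order e acting faithfully). Then there is a perfect isometry from the set of all irreducible characters of F onto B whose signs agree on all the characters of F that do not contain Q in their kernel. -/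
theorem result {G : Type*} [Group G] [Finite G] (p : ℕ) [Fact p.Prime] (M : Ideal Cfsg.AlgInt) (hM : Cfsg.IsPModular p M) (B : Set (Cfsg.IrrCharacter G)) (hB : Cfsg.IsPBlock M B) (P : Subgroup G) (hPD : Cfsg.IsDefectGroup p M B P) (hP1 : P ≠ ⊥) (hcyc : IsCyclic P) (c : Set (Cfsg.IrrCharacter (Subgroup.centralizer (P : Set G)))) (hc : Cfsg.IsInducedBlock M (Subgroup.centralizer (P : Set G)) c B) (T : Subgroup G) (hT : ∀ g : G, g ∈ T ↔ (g ∈ Subgroup.normalizer (P : Set G) ∧ Cfsg.StabilizesBlock (Subgroup.centralizer (P : Set G)) c g)) (e : ℕ) (he : (Subgroup.centralizer (P : Set G)).relIndex T = e) (F : Type*) [Group F] [Finite F] (hF : Nat.card F = Nat.card P * e) (Q : Subgroup F) (hQ : IsCyclic Q) (hQcard : Nat.card Q = Nat.card P) (hQC : Subgroup.centralizer (Q : Set F) = Q) : ∃ (I : Cfsg.IrrCharacter F → Cfsg.IrrCharacter G) (ε : Cfsg.IrrCharacter F → ℤ), Cfsg.IsPerfectIsometry p M (Set.univ : Set (Cfsg.IrrCharacter F)) B I ε ∧ ∀ η η' : Cfsg.IrrCharacter F, (∃ x ∈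 Q, (η : F → ℂ) x ≠ (η : F → ℂ) 1) → (∃ x ∈ Q, (η' : F → ℂ) x ≠ (η' : F → ℂ) 1) → ε η = ε η' := by
  classical
  haveI : Fintype G := Fintype.ofFinite G
  haveI : Fintype F := Fintype.ofFinite F
  haveI : M.IsPrime := hM.2.1.isPrime
  haveI : CharP (Cfsg.Agent.Blocks.resField M) p := Cfsg.Agent.Blocks.resField_charP hM
  haveI := hcyc
  haveI := hQ
  have hp : p.Prime := Fact.out
  obtain rfl : T = Cfsg.Agent.BrauerPairs.stabP
      (P, Cfsg.Agent.BrauerPairs.zB M (Subgroup.centralizer (P : Set G)) c) :=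
    Subgroup.ext fun g => (hT g).trans (Cfsg.Agent.BrauerPairs.stab_iff hc.1 g)
  obtain ⟨hdiv, -, -⟩ := Cfsg.Agent.Abelian.cyclic_counts hM hPD hcyc hP1 hc he
  have hp1 : 0 < p - 1 := by have := hp.two_le; omega
  have he0 : 0 < e := Nat.pos_of_dvd_of_pos hdiv hp1
  have hep : e < p := by have := Nat.le_of_dvd hp1 hdiv; omega
  have hP : IsPGroup p P := Cfsg.Agent.Blocks.isPGroup_defectGroup hPD
  obtain ⟨a, ha⟩ := hP.exists_card_eq
  have hQp : IsPGroup p Q := IsPGroup.of_card (hQcard.trans ha)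
  have hidx : Q.index = e := by
    have h := Q.card_mul_index
    rw [hQcard, hF] at h
    exact Nat.eq_of_mul_eq_mul_left Nat.card_pos h
  haveI hQn : Q.Normal := ⟨fun q hq x => by
    have key : ∀ y : F, y⁻¹ * q * y ∈ Q := by
      intro y
      obtain ⟨n, hn⟩ := hQp.card_orbit (QuotientGroup.mk y : F ⧸ Q)
      have hle : Nat.card (MulAction.orbit Q (QuotientGroup.mk y : F ⧸ Q)) ≤ e := by
        rw [← hidx, Subgroup.index]
        exact Nat.card_le_card_of_injective _ Subtype.val_injective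
      rw [hn] at hle
      obtain rfl : n = 0 := by
        by_contra h
        have := Nat.le_of_dvd (pow_pos hp.pos n) (dvd_pow_self p h)
        omega
      rw [pow_zero] at hn
      haveI := (Nat.card_eq_one_iff_unique.1 hn).1
      have heq : ((⟨q, hq⟩ : Q) • (QuotientGroup.mk y : F ⧸ Q)) = QuotientGroup.mk y :=
        congrArg Subtype.val (Subsingleton.elim
          (⟨_, MulAction.mem_orbit _ (⟨q, hq⟩ : Q)⟩ :
            MulAction.orbit Q (QuotientGroup.mk y : F ⧸ Q)) ⟨_, MulAction.mem_orbit_self _⟩)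
      have h2 : (QuotientGroup.mk (q * y) : F ⧸ Q) = QuotientGroup.mk y := heq
      have h3 := Q.inv_mem (QuotientGroup.eq.1 h2)
      simpa [mul_assoc] using h3
    simpa using key x⁻¹⟩
  let ι : Q ≃* P := mulEquivOfCyclicCardEq hQcard
  let φ : F →* MulAut P := (MulAut.congr ι).toMonoidHom.comp MulAut.conjNormal
  have hφ : ∀ (x : F) (q : Q), φ x (ι q) = ι ⟨x * q * x⁻¹, hQn.conj_mem q q.2 x⟩ := by
    intro x q
    show ι (MulAut.conjNormal x (ι.symm (ι q))) = _
    rw [ι.symm_apply_apply]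
    exact congrArg ι (Subtype.ext (MulAut.conjNormal_apply x q))
  have hker : φ.ker = Q := by
    conv_rhs => rw [← hQC]
    ext x
    rw [MonoidHom.mem_ker, Subgroup.mem_centralizer_iff]
    refine ⟨fun h y hy => ?_, fun h => MulEquiv.ext fun v => ?_⟩
    · have h1 := hφ x ⟨y, hy⟩
      rw [h] at h1
      have h2 : y = x * y * x⁻¹ := congrArg Subtype.val (ι.injective h1)
      exact (mul_inv_eq_iff_eq_mul.1 h2.symm).symm
    · obtain ⟨q, rfl⟩ := ι.surjective v
      rw [hφ]
      exact congrArg ι (Subtype.ext (show x * (q : F) * x⁻¹ = q by rw [← h q q.2, mul_inv_cancel_right]))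
  have hΓ : Nat.card φ.range = e := by rw [← Subgroup.index_ker, hker, hidx]
  have hΓeq : φ.range = Cfsg.Agent.Abelian.autImage P _
      (Cfsg.Agent.BrauerPairs.stabP_le_normalizer
        (P, Cfsg.Agent.BrauerPairs.zB M (Subgroup.centralizer (P : Set G)) c)) :=
    Cfsg.Agent.Abelian.autSubgroup_unique hcyc hp ha hdiv hΓ
      ((Cfsg.Agent.Abelian.card_autImage P _ _).trans he)
  have hfree : ∀ τ ∈ φ.range, ∀ v, τ v = v → v ≠ 1 → τ = 1 := by
    rw [hΓeq]
    exact Cfsg.Agent.Abelian.autImage_free (fun g hg y hy hy1 hfix =>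
      Cfsg.Agent.BrauerPairs.cyclic_free hM hPD hcyc hc hg hy hy1 hfix) _
  have hcomm : ∀ s ∈ φ.range, ∀ t ∈ φ.range, s * t = t * s := fun s _ t _ =>
    (IsCyclic.mulAutMulEquiv P).injective (by rw [map_mul, map_mul, mul_comm])
  letI : CommGroup P := IsCyclic.commGroup
  obtain ⟨m, -, ⟨o⟩⟩ := Cfsg.Agent.Abelian.exists_orbits φ.range hfree
  obtain ⟨⟨R⟩, hη, hm, hpe, -, hmc⟩ :=
    Cfsg.Agent.Abelian.exists_rowData hM hPD hcyc hP1 hc he hΓ o
  obtain ⟨S, hS1, hS2⟩ := Cfsg.Agent.Abelian.exists_frobenius_data (p := p) (M := M) ha hker hφ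
    hfree hcomm hΓ hpe hF o hη hmc hm
  obtain ⟨I, ε, hI, hsign⟩ := Cfsg.Agent.Abelian.exists_perfect_isometry hM hm hpe hη R S
  refine ⟨I, ε, hI, fun η η' h h' => ?_⟩
  have hnot : ∀ ξ : Cfsg.IrrCharacter F, (∃ x ∈ Q, (ξ : F → ℂ) x ≠ (ξ : F → ℂ) 1) →
      (⟨ξ, Set.mem_univ ξ⟩ : {χ // χ ∈ (Set.univ : Set (Cfsg.IrrCharacter F))}) ∉ S.C :=
    fun ξ ⟨x, hx, hne⟩ hmem => hne (hS1 _ hmem x hx)
  exact hsign _ (hnot η h) _ (hnot η' h') (by rw [hS2 _ (hnot η h), hS2 _ (hnot η' h')])

end Cfsg.Agent.S4634
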