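import Cfsg.Statements.S4635
import Cfsg.Agent.Lib.Star.Abelian.Correspondent

set_option autoImplicit false
set_option linter.style.haveILetI false
open Cfsg

namespace Cfsg.Agent.S4635

/-- Let B be a block of the finite group G relative to a maximal ideal M of the algebraic integers containing the prime p, with a nontrivial cyclic defect group P; let Z be the subgroup of order p of P and H = N_G(Z), which contains N_G(P). Let c be the block of H with defect group P that induces B. Then B and c contain the same number of irreducible characters, have the same p-regular rank, and there is a perfect isometry from c onto B. -/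
theorem result {G : Type*} [Group G] [Finite G] (p : ℕ) [Fact p.Prime] (M : Ideal Cfsg.AlgInt) (hM : Cfsg.IsPModular p M) (B : Set (Cfsg.IrrCharacter G)) (hB : Cfsg.IsPBlock M B) (P : Subgroup G) (hPD : Cfsg.IsDefectGroup p M B P) (hP1 : P ≠ ⊥) (hcyc : IsCyclic P) (Z : Subgroup G) (hZ : Z ≤ P) (hZcard : Nat.card Z = p) (H : Subgroup G) (hH : H = Subgroup.normalizer (Z : Set G)) (c : Set (Cfsg.IrrCharacter H)) (hcD : Cfsg.IsDefectGroup p M c (P.subgroupOf H)) (hc : Cfsg.IsInducedBlock M H c B) : Nat.card c = Nat.card B ∧ Cfsg.blockRank p c = Cfsg.blockRank p B ∧ ∃ (I : Cfsg.IrrCharacter H → Cfsg.IrrCharacter G) (ε : Cfsg.IrrCharacter H → ℤ), Cfsg.IsPerfectIsometry p M c B I ε := by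
  classical
  haveI : Fintype G := Fintype.ofFinite G
  haveI : Fintype H := Fintype.ofFinite H
  haveI : M.IsPrime := hM.2.1.isPrime
  haveI : CharP (Cfsg.Agent.Blocks.resField M) p := Cfsg.Agent.Blocks.resField_charP hM
  have hp : p.Prime := Fact.out
  haveI := hcyc
  have hN : Subgroup.normalizer (P : Set G) ≤ H := by
    have hZset : ∀ x ∈ P, x ^ p = 1 → x ∈ Z := by
      intro x hx hxp
      haveI : Fintype P := Fintype.ofFinite P
      let S : Finset P := Finset.univ.filter fun v : P => (v : G) ∈ Z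
      have hsub : S ⊆ Finset.univ.filter fun v : P => v ^ p = 1 := fun v hv => by
        refine Finset.mem_filter.2 ⟨Finset.mem_univ _, Subtype.ext ?_⟩
        have h1 := pow_card_eq_one' (x := (⟨(v : G), (Finset.mem_filter.1 hv).2⟩ : Z))
        rw [hZcard] at h1
        simpa using congrArg Subtype.val h1
      have hScard : S.card = p := by
        rw [← hZcard, ← Nat.card_congr (Subgroup.subgroupOfEquivOfLe hZ).toEquiv]
        rw [Nat.card_eq_fintype_card]
        exact (Fintype.card_of_subtype S fun v => by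
          simp [S, Subgroup.mem_subgroupOf]).symm
      have heq := Finset.eq_of_subset_of_card_le hsub
        ((IsCyclic.card_pow_eq_one_le (α := P) hp.pos).trans hScard.ge)
      have hmem : (⟨x, hx⟩ : P) ∈ S :=
        heq ▸ Finset.mem_filter.2 ⟨Finset.mem_univ _, Subtype.ext hxp⟩
      exact (Finset.mem_filter.1 hmem).2
    have hconj : ∀ g ∈ Subgroup.normalizer (P : Set G), ∀ z ∈ Z, g * z * g⁻¹ ∈ Z := by
      intro g hg z hz
      have hzp : z ^ p = 1 := by
        have h1 := pow_card_eq_one' (x := (⟨z, hz⟩ : Z))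
        rw [hZcard] at h1
        exact congrArg Subtype.val h1
      exact hZset _ ((Subgroup.mem_normalizer_iff.1 hg z).1 (hZ hz))
        (by rw [conj_pow, hzp, mul_one, mul_inv_cancel])
    intro g hg
    rw [hH, Subgroup.mem_normalizer_iff]
    refine fun z => ⟨fun hz => hconj g hg z hz, fun hz => ?_⟩
    have := hconj g⁻¹ (inv_mem hg) _ hz
    simpa [mul_assoc] using this
  have hPH : P ≤ H := Subgroup.le_normalizer.trans hN
  have hP : IsPGroup p P := Cfsg.Agent.Blocks.isPGroup_defectGroup hPD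
  have hPC := Cfsg.Agent.BrauerPairs.cyclic_le_centralizer hcyc
  obtain ⟨c0, c1, hc0, hc1, hrel⟩ :=
    Cfsg.Agent.Abelian.exists_common_root hM hP hPC hN hcD hc
  let ι : P.subgroupOf H ≃* P := Subgroup.subgroupOfEquivOfLe hPH
  have hcyc' : IsCyclic (P.subgroupOf H) := isCyclic_of_surjective ι.symm ι.symm.surjective
  have hP1' : P.subgroupOf H ≠ ⊥ := fun h => hP1 (Subgroup.card_eq_one.1 (by
    rw [← Nat.card_congr ι.toEquiv, h, Subgroup.card_bot]))
  obtain ⟨hdiv, hl, -⟩ := Cfsg.Agent.Abelian.cyclic_counts hM hPD hcyc hP1 hc0 rfl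
  obtain ⟨-, hl', -⟩ := Cfsg.Agent.Abelian.cyclic_counts hM hcD hcyc' hP1' hc1 hrel
  obtain ⟨m, -, ⟨o⟩⟩ :=
    letI : CommGroup P := IsCyclic.commGroup
    Cfsg.Agent.Abelian.exists_orbits _ (Cfsg.Agent.Abelian.autImage_free (fun g hg y hy hy1 hfix =>
      Cfsg.Agent.BrauerPairs.cyclic_free hM hPD hcyc hc0 hg hy hy1 hfix)
      (Cfsg.Agent.BrauerPairs.stabP_le_normalizer
        (P, Cfsg.Agent.BrauerPairs.zB M (Subgroup.centralizer (P : Set G)) c0)))
  have hΓ := Cfsg.Agent.Abelian.card_autImage P _ (Cfsg.Agent.BrauerPairs.stabP_le_normalizer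
    (P, Cfsg.Agent.BrauerPairs.zB M (Subgroup.centralizer (P : Set G)) c0))
  obtain ⟨⟨R⟩, hη, hm, hpe, hkB, -⟩ :=
    Cfsg.Agent.Abelian.exists_rowData hM hPD hcyc hP1 hc0 rfl hΓ o
  obtain ⟨⟨S'⟩, -, -, -, hkc, -⟩ :=
    Cfsg.Agent.Abelian.exists_rowData hM hcD hcyc' hP1' hc1 hrel
      ((Nat.card_congr (Subgroup.equivMapOfInjective _ _
        (MulAut.congr ι.symm).injective).toEquiv).symm.trans hΓ) (o.transport ι)
  obtain ⟨I, ε, hI, -⟩ := Cfsg.Agent.Abelian.exists_perfect_isometry hM hm hpe hη R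
    (S'.transport ι (Cfsg.Agent.Abelian.Orbits.eta_transport ι o))
  exact ⟨by rw [hkc, hkB], by rw [hl', hl], I, ε, hI⟩

end Cfsg.Agent.S4635
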