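import Cfsg.Statements.S4636
-- import your own Cfsg.Agent.* helpers here

set_option autoImplicit false
open scoped Pointwise
open Cfsg

namespace Cfsg.Agent.S4636

/-- Let P be a nontrivial cyclic p-subgroup of the finite group G and Z its subgroup of order p. For every x outside N_G(Z), P meets its conjugate xPx⁻¹ trivially; consequently N_G(Q) ≤ N_G(Z) for every nontrivial subgroup Q of P. -/
theorem result {G : Type*} [Group G] [Finite G] (p : ℕ) [Fact p.Prime] (P : Subgroup G) (hP : IsPGroup p P) (hP1 : P ≠ ⊥) (hcyc : IsCyclic P) (Z : Subgroup G) (hZ : Z ≤ P) (hZcard : Nat.card Z = p) : (∀ x : G, x ∉ Subgroup.normalizer (Z : Set G) → P ⊓ MulAut.conj x • P = ⊥) ∧ ∀ Q : Subgroup G, Q ≤ P → Q ≠ ⊥ → Subgroup.normalizer (Q : Set G) ≤ Subgroup.normalizer (Z : Set G) := by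
  have hp : p.Prime := Fact.out
  have hZQ : ∀ Q : Subgroup G, Q ≤ P → Q ≠ ⊥ → Z ≤ Q := by
    intro Q hQ hQ1
    have hQp : IsPGroup p Q := hP.to_le hQ
    have : Nontrivial Q := (Subgroup.nontrivial_iff_ne_bot Q).mpr hQ1
    obtain ⟨n, hn⟩ := IsPGroup.iff_card.mp hQp
    have hdvd : p ∣ Nat.card Q := by
      rcases Nat.eq_zero_or_pos n with h0 | h0
      · exact absurd hn (by rw [h0, pow_zero]; exact Finite.one_lt_card.ne')
      · rw [hn]; exact dvd_pow_self p h0.ne'
    obtain ⟨x, hx⟩ := exists_prime_orderOf_dvd_card' p hdvd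
    have hxP : Subgroup.zpowers (x : G) ≤ P := Subgroup.zpowers_le.mpr (hQ x.2)
    have : Fintype P := Fintype.ofFinite P
    classical
    have hsub : ∀ H : Subgroup G, H ≤ P → Nat.card H = p →
        ∀ y : P, (y : G) ∈ H ↔ y ∈ Finset.univ.filter (fun a : P => a ^ p = 1) := by
      intro H hH hHc y
      have hsub : Finset.univ.filter (fun a : P => (a : G) ∈ H) ⊆
          Finset.univ.filter (fun a : P => a ^ p = 1) := by
        intro a ha
        simp only [Finset.mem_filter, Finset.mem_univ, true_and] at ha ⊢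
        have := pow_card_eq_one' (G := H) (x := ⟨a, ha⟩)
        rw [hHc] at this
        exact Subtype.ext (by simpa using congrArg Subtype.val this)
      have hcard : (Finset.univ.filter (fun a : P => (a : G) ∈ H)).card = p := by
        rw [← Fintype.card_subtype, ← Nat.card_eq_fintype_card, ← hHc]
        exact Nat.card_congr
          { toFun := fun a => ⟨a.1.1, a.2⟩
            invFun := fun h => ⟨⟨h.1, hH h.2⟩, h.2⟩
            left_inv := fun a => rfl
            right_inv := fun h => rfl }
      have heq := Finset.eq_of_subset_of_card_le hsub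
        (le_of_le_of_eq (IsCyclic.card_pow_eq_one_le hp.pos) hcard.symm)
      rw [← heq]
      simp
    have e2 : Z = Subgroup.zpowers (x : G) := by
      have hxc : Nat.card (Subgroup.zpowers (x : G)) = p := by
        rw [Nat.card_zpowers, Subgroup.orderOf_coe, hx]
      ext g
      constructor <;> intro hg
      · exact ((hsub _ hxP hxc ⟨g, hZ hg⟩).trans (hsub Z hZ hZcard ⟨g, hZ hg⟩).symm).mpr hg
      · exact ((hsub _ hxP hxc ⟨g, hxP hg⟩).trans (hsub Z hZ hZcard ⟨g, hxP hg⟩).symm).mp hg
    rw [e2]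
    exact Subgroup.zpowers_le.mpr x.2
  have key : ∀ x : G, ∀ R : Subgroup G, R ≠ ⊥ → R ≤ P → MulAut.conj x • R ≤ P →
      x ∈ Subgroup.normalizer (Z : Set G) := by
    intro x R hR hRP hxR
    have h1 : MulAut.conj x • Z ≤ P :=
      le_trans (Subgroup.pointwise_smul_le_pointwise_smul_iff.mpr (hZQ R hRP hR)) hxR
    have hcard : Nat.card ↥(MulAut.conj x • Z) = Nat.card Z :=
      (Nat.card_congr (Subgroup.equivSMul _ Z).toEquiv).symm
    have h2 : Z ≤ MulAut.conj x • Z := by
      refine hZQ _ h1 ?_
      intro h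
      rw [h, Subgroup.card_bot, hZcard] at hcard
      exact hp.one_lt.ne hcard
    have h3 := Subgroup.eq_of_le_of_card_ge h2 hcard.le
    rw [Subgroup.mem_normalizer_iff_map_conj_eq]
    exact h3.symm
  refine ⟨fun x hx => ?_, fun Q hQ hQ1 g hg => key g Q hQ1 hQ ?_⟩
  · by_contra h
    apply hx
    refine key x ((MulAut.conj x)⁻¹ • (P ⊓ MulAut.conj x • P)) ?_ ?_ ?_
    · intro h0
      apply h
      have := congrArg (fun S => MulAut.conj x • S) h0
      simpa using this
    · refine le_trans (Subgroup.pointwise_smul_le_pointwise_smul_iff.mpr inf_le_right) ?_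
      simp
    · simp
  · rintro z ⟨y, hy, rfl⟩
    exact hQ ((Subgroup.mem_normalizer_iff.mp hg y).mp hy)

end Cfsg.Agent.S4636
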