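import Cfsg.Statements.S4642
import Cfsg.Agent.Lib.Blocks.PrincipalType

set_option autoImplicit false
set_option linter.style.haveILetI false
open Cfsg

namespace Cfsg.Agent.S4642

open Cfsg.Agent.Char Cfsg.Agent.Blocks Cfsg.Agent.PrincipalType
open scoped ComplexConjugate

universe u

/-- The Glauberman correspondent on the centraliser of a `p`-subgroup. -/
theorem exists_correspondent {G : Type u} [Group G] [Fintype G] {p : ℕ} [Fact p.Prime]
    {K : Subgroup G} [K.Normal] [Fintype K] (hKp : ¬ p ∣ Nat.card K) (θ : IrrCharacter K)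
    (hinv : ∀ (g : G) (k : K), (θ : K → ℂ) (MulAut.conjNormal g k) = (θ : K → ℂ) k)
    {R : Subgroup G} (hR : IsPGroup p R)
    [Fintype (K.subgroupOf (Subgroup.centralizer (R : Set G)))] :
    ∃ θ₀ : IrrCharacter (K.subgroupOf (Subgroup.centralizer (R : Set G))),
      ∀ (β : IrrCharacter (K.subgroupOf (Subgroup.centralizer (R : Set G)))) (m : ℕ),
        classInner (fun a : K.subgroupOf (Subgroup.centralizer (R : Set G)) =>
            (θ : K → ℂ) ⟨((a : Subgroup.centralizer (R : Set G)) : G), a.2⟩)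
          (β : _ → ℂ) = (m : ℂ) → (¬ p ∣ m ↔ β = θ₀) := by
  classical
  let φ : R →* MulAut K := (MulAut.conjNormal (H := K)).comp R.subtype
  haveI : Fintype (GlaubermanMod.fixedSub φ) := Fintype.ofFinite _
  obtain ⟨γ, hγ, hγu⟩ := GlaubermanMod.exists_unique_constituent φ hR hKp θ fun u k => hinv u k
  let K0 := K.subgroupOf (Subgroup.centralizer (R : Set G))
  have hfix : ∀ a : K0,
      (⟨((a : Subgroup.centralizer (R : Set G)) : G), a.2⟩ : K) ∈ GlaubermanMod.fixedSub φ := by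
    intro a u
    refine Subtype.ext ?_
    show ((MulAut.conjNormal (u : G)
      (⟨((a : Subgroup.centralizer (R : Set G)) : G), a.2⟩ : K) : K) : G) = _
    rw [MulAut.conjNormal_apply]
    show (u : G) * ((a : Subgroup.centralizer (R : Set G)) : G) * (u : G)⁻¹ = _
    rw [Subgroup.mem_centralizer_iff.1 (a : Subgroup.centralizer (R : Set G)).2 u u.2,
      mul_inv_cancel_right]
  let e : K0 ≃* GlaubermanMod.fixedSub φ :=
    { toFun := fun a => ⟨_, hfix a⟩
      invFun := fun b => ⟨⟨((b : K) : G), Subgroup.mem_centralizer_iff.2 fun r hr => by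
        have h1 := congrArg Subtype.val (b.2 ⟨r, hr⟩)
        rw [show φ ⟨r, hr⟩ (b : K) = MulAut.conjNormal r (b : K) from rfl,
          MulAut.conjNormal_apply, mul_inv_eq_iff_eq_mul] at h1
        exact h1⟩, (b : K).2⟩
      left_inv := fun a => rfl
      right_inv := fun b => rfl
      map_mul' := fun a b => rfl }
  refine ⟨⟨fun a => (γ : GlaubermanMod.fixedSub φ → ℂ) (e a),
    IsIrrCharacter.comp γ.2 e.toMonoidHom e.surjective⟩, fun β m hm => ?_⟩
  let β' : IrrCharacter (GlaubermanMod.fixedSub φ) :=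
    ⟨fun b => (β : K0 → ℂ) (e.symm b), IsIrrCharacter.comp β.2 e.symm.toMonoidHom e.symm.surjective⟩
  have hmult : GlaubermanMod.mult φ θ β' = m := by
    have h1 := GlaubermanMod.classInner_resC φ θ β'
    rw [← inner_equiv e] at h1
    have h2 : (fun a : K0 => (β' : _ → ℂ) (e a)) = (β : K0 → ℂ) :=
      funext fun a => congrArg (β : K0 → ℂ) (e.symm_apply_apply a)
    rw [h2] at h1
    exact_mod_cast h1.symm.trans hm
  constructor
  · intro hpm
    have hb : β' = γ := by
      by_contra hne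
      exact hpm (hmult ▸ hγu β' hne)
    refine Subtype.ext (funext fun a => ?_)
    show _ = (γ : _ → ℂ) (e a)
    rw [← hb]
    exact (congrArg (β : K0 → ℂ) (e.symm_apply_apply a)).symm
  · rintro rfl hd
    have hb : β' = γ := Subtype.ext (funext fun b =>
      congrArg (γ : _ → ℂ) (e.apply_symm_apply b))
    rw [← hmult, hb] at hd
    have h1 : (GlaubermanMod.mult φ θ γ : ZMod p) = 0 := (ZMod.natCast_eq_zero_iff _ p).2 hd
    rcases hγ with h | h <;> rw [h1] at h <;> simp at h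

theorem main {G : Type u} [Group G] [Fintype G] {p : ℕ} [Fact p.Prime] {M : Ideal AlgInt}
    (hM : IsPModular p M) {K Q : Subgroup G} [K.Normal] [Fintype K] {θ : IrrCharacter K}
    (h : Setup p K Q θ) (B : Set (IrrCharacter G))
    (hBdef : ∀ χ : IrrCharacter G, χ ∈ B ↔
      classInner (fun k : K => (χ : G → ℂ) k) (θ : K → ℂ) ≠ 0) :
    IsPBlock M B ∧ (∀ S : Sylow p G, IsDefectGroup p M B S) ∧
      ∀ R : Subgroup G, IsPGroup p R →
        ∃! f : Set (IrrCharacter (Subgroup.centralizer (R : Set G))),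
          IsInducedBlock M (Subgroup.centralizer (R : Set G)) f B := by
  classical
  haveI := hM.2.1.isPrime
  obtain ⟨χ₀, hχ₀⟩ := Blocks.exists_over K θ
  obtain rfl : B = blockOf M (χ₀ : G → ℂ) :=
    Set.ext fun χ => (hBdef χ).trans (h.mem_blockOf_iff hM hχ₀ χ).symm
  have hB := isPBlock_blockOf (M := M) χ₀
  refine ⟨hB, h.defect hM hχ₀, fun R hR => ?_⟩
  -- normalise `Q`
  obtain ⟨S, hRS⟩ := hR.exists_le_sylow
  haveI := h.hL
  set L := K ⊔ Q with hLdef
  have hQ₁p : IsPGroup p ((S : Subgroup G) ⊓ L : Subgroup G) := S.isPGroup'.to_le inf_le_left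
  obtain ⟨k, hk, hkQ⟩ := h.exists_conj hQ₁p inf_le_right
  obtain ⟨x, hx⟩ : ∃ x : G, ∀ q ∈ Q, x * q * x⁻¹ ∈ (S : Subgroup G) := by
    obtain ⟨S', hS'⟩ := h.hQ.exists_le_sylow
    obtain ⟨x, hx⟩ := MulAction.exists_smul_eq G S' S
    refine ⟨x, fun q hq => ?_⟩
    rw [← hx, Sylow.coe_subgroup_smul, Subgroup.mem_pointwise_smul_iff_inv_smul_mem,
      MulAut.smul_def, ← map_inv, MulAut.conj_apply]
    convert hS' hq using 1
    group
  have heq : Q.map (MulAut.conj k).toMonoidHom = (S : Subgroup G) ⊓ L := by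
    refine (Subgroup.eq_of_le_of_card_ge ?_ ?_).symm
    · intro t ht
      exact ⟨k⁻¹ * t * k, hkQ t ht, by simp [mul_assoc]⟩
    rw [Subgroup.card_map_of_injective (MulAut.conj k).injective]
    calc Nat.card Q = Nat.card (Q.map (MulAut.conj x).toMonoidHom) :=
          (Nat.card_congr (Subgroup.equivMapOfInjective Q (MulAut.conj x).toMonoidHom
            (MulAut.conj x).injective).toEquiv)
      _ ≤ _ := Subgroup.card_le_of_le (by
          rintro _ ⟨q, hq, rfl⟩
          exact Subgroup.mem_inf.2 ⟨hx q hq, h.hL.conj_mem q (Subgroup.mem_sup_right hq) x⟩)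
  set Q₁ := Q.map (MulAut.conj k).toMonoidHom with hQ₁def
  have hKQ₁ : K ⊔ Q₁ = K ⊔ Q := by
    refine le_antisymm (sup_le le_sup_left ?_) (sup_le le_sup_left ?_)
    · rintro _ ⟨q, hq, rfl⟩
      exact h.hL.conj_mem q (Subgroup.mem_sup_right hq) k
    · intro q hq
      rw [show q = k⁻¹ * (k * q * k⁻¹) * k by group]
      exact mul_mem (mul_mem (Subgroup.mem_sup_left (inv_mem hk))
        (Subgroup.mem_sup_right ⟨q, hq, rfl⟩)) (Subgroup.mem_sup_left hk)
  have h₁ : Setup p K Q₁ θ := by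
    refine ⟨h.hKp, h.hQ.map _, hKQ₁ ▸ h.hL, fun g hg hord => ?_, h.hinv⟩
    have h1 : k⁻¹ * g * k ∈ Subgroup.centralizer (Q : Set G) := by
      refine Subgroup.mem_centralizer_iff.2 fun q hq => ?_
      have h2 : k * q * k⁻¹ * g = g * (k * q * k⁻¹) :=
        Subgroup.mem_centralizer_iff.1 hg _ ⟨q, hq, rfl⟩
      calc q * (k⁻¹ * g * k) = k⁻¹ * (k * q * k⁻¹ * g) * k := by group
        _ = k⁻¹ * (g * (k * q * k⁻¹)) * k := by rw [h2]
        _ = k⁻¹ * g * k * q := by group
    have h3 := h.hreg _ h1 (by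
      rwa [show k⁻¹ * g * k = MulAut.conj k⁻¹ g by simp, MulEquiv.orderOf_eq])
    rw [show g = k * (k⁻¹ * g * k) * k⁻¹ by group]
    exact mul_mem (mul_mem hk h3) (inv_mem hk)
  have hRQ : R ≤ Subgroup.normalizer (Q₁ : Set G) := by
    rw [heq]
    intro r hr
    have hr' : r ∈ (S : Subgroup G) := hRS hr
    refine Subgroup.mem_normalizer_iff.2 fun z => ⟨fun hz => ?_, fun hz => ?_⟩
    · obtain ⟨hz1, hz2⟩ := Subgroup.mem_inf.1 hz
      exact Subgroup.mem_inf.2 ⟨mul_mem (mul_mem hr' hz1) (inv_mem hr'), h.hL.conj_mem z hz2 r⟩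
    · obtain ⟨hz1, hz2⟩ := Subgroup.mem_inf.1 hz
      refine Subgroup.mem_inf.2 ⟨?_, ?_⟩
      · rw [show z = r⁻¹ * (r * z * r⁻¹) * r by group]
        exact mul_mem (mul_mem (inv_mem hr') hz1) hr'
      · simpa [mul_assoc] using h.hL.conj_mem _ hz2 r⁻¹
  -- the centraliser
  let C := Subgroup.centralizer (R : Set G)
  haveI : Fintype C := Fintype.ofFinite C
  haveI : Fintype (K.subgroupOf C) := Fintype.ofFinite _
  obtain ⟨θ₀, hθ₀⟩ := exists_correspondent h.hKp θ h.hinv hR
  let res : K.subgroupOf C → ℂ := fun a => (θ : K → ℂ) ⟨((a : C) : G), a.2⟩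
  have hresc : IsCharacter (K.subgroupOf C) res := by
    obtain ⟨d, ρ, -, hρ⟩ := θ.2
    let ι : K.subgroupOf C →* K :=
      { toFun := fun a => ⟨((a : C) : G), a.2⟩
        map_one' := rfl
        map_mul' := fun _ _ => rfl }
    exact ⟨d, ρ.comp ι, funext fun a => by
      show ρ.character (ι a) = res a
      rw [hρ]; rfl⟩
  choose m hm using fun β : IrrCharacter (K.subgroupOf C) =>
    IsCharacter.exists_classInner_nat hresc (irr_isCharacter β)
  have hinv₀ : ∀ (c : C) (a : K.subgroupOf C),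
      (θ₀ : K.subgroupOf C → ℂ) (MulAut.conjNormal c a) = (θ₀ : K.subgroupOf C → ℂ) a := by
    intro c a
    let β : IrrCharacter (K.subgroupOf C) :=
      ⟨fun a => (θ₀ : K.subgroupOf C → ℂ) (MulAut.conjNormal c a),
        IsIrrCharacter.comp θ₀.2 (MulAut.conjNormal c : K.subgroupOf C ≃* _).toMonoidHom
          (MulAut.conjNormal c : K.subgroupOf C ≃* _).surjective⟩
    have h1 : classInner res (β : _ → ℂ) = (m θ₀ : ℂ) := by
      rw [← hm θ₀, ← inner_equiv (MulAut.conjNormal c : K.subgroupOf C ≃* _) res (θ₀ : _ → ℂ)]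
      congr 1
      funext a
      show (θ : K → ℂ) _ = (θ : K → ℂ) _
      rw [← h.hinv (c : G) ⟨((a : C) : G), a.2⟩]
      exact congrArg (θ : K → ℂ) (Subtype.ext (by simp))
    have h2 := (hθ₀ β _ h1).1 ((hθ₀ θ₀ _ (hm θ₀)).2 rfl)
    exact congrFun (congrArg Subtype.val h2) a
  have hC := h₁.centralizer hR hRQ θ₀ hinv₀
  -- the central element of `θ`
  set e := blockEltR M (blockOf M (θ : K → ℂ)) with he
  have hdeg0 : (charDegree (θ : K → ℂ)).factorization p = (Nat.card K).factorization p := by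
    have h1 : (Nat.card K).factorization p = 0 := Nat.factorization_eq_zero_of_not_dvd h.hKp
    have h2 := degExp_le_card (p := p) θ
    omega
  have hsing : blockOf M (θ : K → ℂ) = {θ} := blockOf_eq_singleton hM θ hdeg0
  have hcoef : ∀ a : K, (e.coeff a : ℂ) =
      (Nat.card K : ℂ)⁻¹ * ((θ : K → ℂ) 1 * conj ((θ : K → ℂ) a)) := by
    intro a
    rw [he, coeff_blockEltR (isPBlock_blockOf θ), blockCoeff_eq_sum, hsing]
    congr 1
    simp [Finset.sum_filter]
  let x₀ : MonoidAlgebra (locRing M) G :=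
    gaOfFun fun g => if hg : g ∈ K then e.coeff ⟨g, hg⟩ else 0
  have hx₀ : IsClassElt x₀ := isClassElt_gaOfFun fun g c => by
    by_cases hg : g ∈ K
    · rw [dif_pos hg, dif_pos ((inferInstance : K.Normal).conj_mem g hg c)]
      refine Subtype.ext ?_
      rw [hcoef, hcoef, ← h.hinv c ⟨g, hg⟩]
      congr 3
    · rw [dif_neg hg, dif_neg]
      intro hc
      exact hg (by simpa [mul_assoc] using (inferInstance : K.Normal).conj_mem _ hc c⁻¹)
  have hsupp : ∀ g, g ∉ K → x₀.coeff g = 0 := fun g hg => by simp [x₀, hg]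
  have hresK : restrictElt K x₀ = e := gaExt fun a => by simp [x₀, coeff_restrictElt]
  have hωG : ∀ (χ : IrrCharacter G), ¬ MemLocalIdeal M (omegaR χ x₀) →
      classInner (fun a : K => (χ : G → ℂ) a) (θ : K → ℂ) ≠ 0 := by
    intro χ hu
    obtain ⟨β, hβ⟩ := exists_restrict_constituent χ.2 K
    rw [Cfsg.Agent.AlperinIso.omega_restrict K χ β hβ hx₀ hsupp, hresK, he,
      omegaR_blockEltR (isPBlock_blockOf θ)] at hu
    by_cases hb : β ∈ blockOf M (θ : K → ℂ)
    · rw [hsing, Set.mem_singleton_iff] at hb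
      exact hb ▸ hβ
    · rw [if_neg hb] at hu
      exact absurd memLocalIdeal_zero hu
  have hωone : ∀ χ ∈ blockOf M (χ₀ : G → ℂ), omegaR χ x₀ = 1 := fun χ hχ => by
    rw [Cfsg.Agent.AlperinIso.omega_restrict K χ θ ((h.mem_blockOf_iff hM hχ₀ χ).1 hχ) hx₀ hsupp,
      hresK, he, omegaR_blockEltR (isPBlock_blockOf θ), if_pos (self_mem_blockOf θ)]
  -- on the blocks of the centraliser
  have hωC : ∀ (ξ : IrrCharacter C) (β : IrrCharacter (K.subgroupOf C)),
      classInner (fun a : K.subgroupOf C => (ξ : C → ℂ) a) (β : _ → ℂ) ≠ 0 →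
      (¬ MemLocalIdeal M (omegaR ξ (restrictElt C x₀)) ↔ β = θ₀) := by
    intro ξ β hβ
    rw [← hθ₀ β _ (hm β), Cfsg.Agent.AlperinIso.omega_restrict _ ξ β hβ
      (IsClassElt.restrictElt hx₀ C) (fun c hc => hsupp _ hc), omega_eq_sum_div]
    have hβp : ¬ p ∣ charDegree (β : K.subgroupOf C → ℂ) := fun hd => hC.hKp
      (hd.trans (Cfsg.Agent.CharX.irr_deg_dvd_card β))
    have hθp : ¬ p ∣ charDegree (θ : K → ℂ) := fun hd => h.hKp (hd.trans (Cfsg.Agent.CharX.irr_deg_dvd_card θ))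
    obtain ⟨ω, hω⟩ : ∃ ω, ω = (∑ a : K.subgroupOf C,
        ((restrictElt (K.subgroupOf C) (restrictElt C x₀)).coeff a : ℂ) * (β : _ → ℂ) a) /
          (β : K.subgroupOf C → ℂ) 1 := ⟨_, rfl⟩
    rw [← hω]
    have key : ω * ((Nat.card K * charDegree (β : K.subgroupOf C → ℂ) : ℕ) : ℂ) =
        ((m β * charDegree (θ : K → ℂ) * Nat.card (K.subgroupOf C) : ℕ) : ℂ) := by
      have hsum : ∑ a : K.subgroupOf C,
          ((restrictElt (K.subgroupOf C) (restrictElt C x₀)).coeff a : ℂ) * (β : _ → ℂ) a =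
          (Nat.card K : ℂ)⁻¹ * (θ : K → ℂ) 1 *
            conj ((Nat.card (K.subgroupOf C) : ℂ) * classInner res (β : _ → ℂ)) := by
        rw [classInner, ← mul_assoc, mul_inv_cancel₀ (Nat.cast_ne_zero.2 Nat.card_pos.ne'),
          one_mul, map_sum, Finset.mul_sum]
        refine Finset.sum_congr rfl fun a _ => ?_
        have ha : x₀.coeff ((a : C) : G) = e.coeff ⟨((a : C) : G), a.2⟩ := by
          simp only [x₀, coeff_gaOfFun]
          exact dif_pos a.2
        rw [coeff_restrictElt, coeff_restrictElt, ha, hcoef, map_mul, Complex.conj_conj]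
        simp only [res]
        ring
      rw [hω, hsum, hm, map_mul, map_natCast, map_natCast,
        Cfsg.Agent.CharX.irr_deg θ, Cfsg.Agent.CharX.irr_deg β]
      have hd0 : (charDegree (β : K.subgroupOf C → ℂ) : ℂ) ≠ 0 :=
        Nat.cast_ne_zero.2 (Cfsg.Agent.CharX.irr_deg_pos β).ne'
      have : (Nat.card K : ℂ) ≠ 0 := Nat.cast_ne_zero.2 Nat.card_pos.ne'
      push_cast
      field_simp
    have hden : ¬ p ∣ Nat.card K * charDegree (β : K.subgroupOf C → ℂ) := fun hd =>
      ((Fact.out : p.Prime).dvd_mul.1 hd).elim h.hKp hβp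
    refine not_congr ⟨fun hmem => ?_, fun hdvd => ?_⟩
    · have h3 := MemLocalIdeal.mul_right hmem
        (natCast_mem (locRing M) (Nat.card K * charDegree (β : K.subgroupOf C → ℂ)))
      rw [key, natCast_memLocalIdeal_iff hM] at h3
      exact (((Fact.out : p.Prime).dvd_mul.1 h3).resolve_right hC.hKp |>
        (Fact.out : p.Prime).dvd_mul.1).resolve_right hθp
    · have h3 : MemLocalIdeal M ((m β * charDegree (θ : K → ℂ) * Nat.card (K.subgroupOf C) : ℕ) : ℂ) :=
        (natCast_memLocalIdeal_iff hM _).2 ((hdvd.mul_right _).mul_right _)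
      rw [← key] at h3
      have h4 := MemLocalIdeal.mul_right h3 (inv_natCast_memLocalRing hM hden)
      rwa [mul_inv_cancel_right₀ ((Nat.cast_ne_zero (R := ℂ)).2 fun (h0 : Nat.card K * charDegree (β : K.subgroupOf C → ℂ) = 0) => hden (h0 ▸ dvd_zero p))] at h4
  obtain ⟨ξ₀, hξ₀⟩ := Blocks.exists_over (K.subgroupOf C) θ₀
  obtain ⟨B', hB'⟩ := exists_induced_centralizer hM hR (isPBlock_blockOf (M := M) ξ₀)
  obtain ⟨χ', hχ'⟩ := isPBlock_nonempty hB'.2.1
  have hχ'θ := hωG χ' fun hu => (hωC ξ₀ θ₀ hξ₀).2 rfl (by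
    have := MemLocalIdeal.add (isInducedBlock_omegaR hB' (self_mem_blockOf ξ₀) hχ' hx₀) hu
    simpa using this)
  obtain rfl : B' = blockOf M (χ₀ : G → ℂ) :=
    isPBlock_eq_of_mem hB'.2.1 hB hχ' ((h.mem_blockOf_iff hM hχ₀ χ').2 hχ'θ)
  refine ⟨blockOf M (ξ₀ : C → ℂ), hB', fun f hf => ?_⟩
  obtain ⟨ξ, hξ⟩ := isPBlock_nonempty hf.1
  obtain ⟨β, hβ⟩ := exists_restrict_constituent ξ.2 (K.subgroupOf C)
  have hu : ¬ MemLocalIdeal M (omegaR ξ (restrictElt C x₀)) := fun hu => by
    have h1 := MemLocalIdeal.sub hu (isInducedBlock_omegaR hf hξ (self_mem_blockOf χ₀) hx₀)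
    rw [hωone χ₀ (self_mem_blockOf χ₀), sub_sub_cancel] at h1
    exact not_memLocalIdeal_one h1
  obtain rfl := (hωC ξ β hβ).1 hu
  exact isPBlock_eq_of_mem hf.1 (isPBlock_blockOf ξ₀) hξ
    ((hC.mem_blockOf_iff hM hξ₀ ξ).2 hβ)

/-- Let G be a finite group, p a prime, M a maximal ideal of the algebraic integers containing p, K the largest normal subgroup of G of order prime to p, and L the preimage in G of the largest normal p-subgroup of G/K. Let Q be a Sylow p-subgroup of L and suppose C_G(Q) ≤ L. Let θ be an irreducible character of K invariant under conjugation by every element of G, and let B be the set of irreducible characters of G whose restriction to K contains θ. Then B is a block of G, every Sylow p-subgroup of G is a defect group of B, and B is of principal type: for every p-subgroup R of G exactly one block of C_G(R) induces B. -/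
theorem result {G : Type*} [Group G] [Fintype G] (p : ℕ) [Fact p.Prime] (M : Ideal Cfsg.AlgInt) (hM : Cfsg.IsPModular p M) (K : Subgroup G) (hK : K = Cfsg.pPrimeCore p G) [Fintype K] (L : Subgroup G) (hL : L = Cfsg.pPrimePCore p G) (Q : Subgroup G) (hQL : Q ≤ L) (hQp : IsPGroup p Q) (hQS : ¬ p ∣ Q.relIndex L) (hCQ : Subgroup.centralizer (Q : Set G) ≤ L) (θ : Cfsg.IrrCharacter K) (hθ : ∀ g : G, Cfsg.IsConjCharOf K g (θ : K → ℂ) (θ : K → ℂ)) (B : Set (Cfsg.IrrCharacter G)) (hBdef : ∀ χ : Cfsg.IrrCharacter G, χ ∈ B ↔ Cfsg.classInner (fun k : K => (χ : G → ℂ) k) (θ : K → ℂ) ≠ 0) : Cfsg.IsPBlock M B ∧ (∀ S : Sylow p G, Cfsg.IsDefectGroup p M B S) ∧ ∀ R : Subgroup G, IsPGroup p R → ∃! f : Set (Cfsg.IrrCharacter (Subgroup.centralizer (R : Set G))), Cfsg.IsInducedBlock M (Subgroup.centralizer (R : Set G)) f B := by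
  classical
  subst hK hL
  haveI := hM.2.1.isPrime
  haveI : (Cfsg.pPrimeCore p G).Normal :=
    Cfsg.Agent.AxB.sSup_induction_normal (fun H => H.Normal) inferInstance
      (fun H K' hH hK' _ _ => inferInstance) _ fun H hH => ⟨hH.1, hH.1⟩
  have hKp : ¬ p ∣ Nat.card (Cfsg.pPrimeCore p G) := fun hd =>
    ((Fact.out : p.Prime).coprime_iff_not_dvd.1
      (Cfsg.Agent.AxB.coprime_card_pPrimeCore p).symm) hd
  have hKL : Cfsg.pPrimeCore p G ≤ Cfsg.pPrimePCore p G := fun x hx => by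
    show QuotientGroup.mk' _ x ∈ Cfsg.pCore p _
    rw [QuotientGroup.mk'_apply, (QuotientGroup.eq_one_iff x).2 hx]
    exact one_mem _
  have hLp : ∀ x ∈ Cfsg.pPrimePCore p G, ∃ a : ℕ, x ^ p ^ a ∈ Cfsg.pPrimeCore p G := by
    intro x hx
    obtain ⟨a, ha⟩ := Cfsg.Agent.AxB.isPGroup_pCore p ⟨_, hx⟩
    refine ⟨a, (QuotientGroup.eq_one_iff _).1 ?_⟩
    have := congrArg Subtype.val ha
    simpa [QuotientGroup.mk_pow] using this
  have hLsup : Cfsg.pPrimeCore p G ⊔ Q = Cfsg.pPrimePCore p G := by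
    refine le_antisymm (sup_le hKL hQL) fun x hx => ?_
    have hle : Cfsg.pPrimeCore p G ⊔ Q ≤ Cfsg.pPrimePCore p G := sup_le hKL hQL
    set L := Cfsg.pPrimePCore p G
    haveI : ((Cfsg.pPrimeCore p G).subgroupOf L).Normal := inferInstance
    have hpg : IsPGroup p (L ⧸ (Cfsg.pPrimeCore p G).subgroupOf L) := by
      intro y
      obtain ⟨y, rfl⟩ := QuotientGroup.mk_surjective y
      obtain ⟨a, ha⟩ := hLp y y.2
      exact ⟨a, by rw [← QuotientGroup.mk_pow, QuotientGroup.eq_one_iff]; exact ha⟩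
    obtain ⟨b, hb⟩ := IsPGroup.iff_card.1 hpg
    have h1 : (Cfsg.pPrimeCore p G ⊔ Q).relIndex L ∣ p ^ b := by
      rw [← hb]
      exact Subgroup.index_dvd_of_le (Subgroup.comap_mono le_sup_left)
    have h2 : (Cfsg.pPrimeCore p G ⊔ Q).relIndex L ∣ Q.relIndex L :=
      Subgroup.index_dvd_of_le (Subgroup.comap_mono le_sup_right)
    have h3 : (Cfsg.pPrimeCore p G ⊔ Q).relIndex L = 1 :=
      Nat.eq_one_of_dvd_coprimes ((((Fact.out : p.Prime).coprime_iff_not_dvd).2 hQS).pow_left b)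
        h1 h2
    exact Subgroup.relIndex_eq_one.1 h3 hx
  have hreg : ∀ g ∈ Subgroup.centralizer (Q : Set G), ¬ p ∣ orderOf g →
      g ∈ Cfsg.pPrimeCore p G := by
    intro g hg hord
    obtain ⟨a, ha⟩ := hLp g (hCQ hg)
    obtain ⟨b, hb⟩ := exists_pow_eq_self_of_coprime (x := g) (n := p ^ a)
      ((((Fact.out : p.Prime).coprime_iff_not_dvd).2 hord).pow_left a)
    rw [← hb]
    exact pow_mem ha b
  refine main hM ⟨hKp, hQp, hLsup ▸ ?_, hreg, fun g k => ?_⟩ B hBdef
  · exact Subgroup.Normal.comap (Cfsg.Agent.AxB.sSup_induction_normal (fun H => H.Normal)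
      inferInstance (fun H K' hH hK' _ _ => inferInstance) _ fun H hH => ⟨hH.1, hH.1⟩) _
  · exact hθ g k _ (MulAut.conjNormal_apply g k)

end Cfsg.Agent.S4642
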