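import Cfsg.Statements.S4644
import Cfsg.Agent.Lib.BrauerPairs.WatanabeFixed
import Cfsg.Agent.Lib.BrauerPairs.FusionBridge

set_option autoImplicit false
open Cfsg

namespace Cfsg.Agent.S4644

/-- Let B be a block of the finite group G relative to a maximal ideal M of the algebraic integers containing the prime p, with a commutative defect group P; let c be a block of C_G(P) inducing B and T the stabilizer of c in N_G(P). Let u be an element of P fixed under conjugation by every element of T, H = C_G(u) (so C_G(P) ≤ H), and f the block of H induced by c inside H. Then B and f have the same p-regular rank and the same number of irreducible characters. -/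
theorem result {G : Type*} [Group G] [Finite G] (p : ℕ) [Fact p.Prime] (M : Ideal Cfsg.AlgInt) (hM : Cfsg.IsPModular p M) (B : Set (Cfsg.IrrCharacter G)) (hB : Cfsg.IsPBlock M B) (P : Subgroup G) (hPD : Cfsg.IsDefectGroup p M B P) (hPab : ∀ x ∈ P, ∀ y ∈ P, x * y = y * x) (c : Set (Cfsg.IrrCharacter (Subgroup.centralizer (P : Set G)))) (hc : Cfsg.IsInducedBlock M (Subgroup.centralizer (P : Set G)) c B) (T : Subgroup G) (hT : ∀ g : G, g ∈ T ↔ (g ∈ Subgroup.normalizer (P : Set G) ∧ Cfsg.StabilizesBlock (Subgroup.centralizer (P : Set G)) c g)) (u : G) (hu : u ∈ P) (huT : ∀ g ∈ T, g * u * g⁻¹ = u) (H : Subgroup G) (hH : H = Subgroup.centralizer ({u} : Set G)) (f : Set (Cfsg.IrrCharacter H)) (hf : Cfsg.IsInducedBlockIn M H (Subgroup.centralizer (P : Set G)) c f) : Cfsg.blockRank p B = Cfsg.blockRank p f ∧ Nat.card B = Nat.card f := by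
  classical
  letI : Fintype G := Fintype.ofFinite G
  haveI := Cfsg.Agent.Blocks.IsPModular.isPrime hM
  haveI : CharP (Cfsg.Agent.Blocks.resField M) p := Cfsg.Agent.Blocks.resField_charP hM
  have hPC : P ≤ Subgroup.centralizer (P : Set G) := fun x hx =>
    Subgroup.mem_centralizer_iff.2 fun y hy => hPab y hy x hx
  obtain ⟨hpB, -⟩ := Cfsg.Agent.BrauerPairs.abelian_pair hM hPD hPC hc
  have hD := (Cfsg.Agent.BrauerPairs.isDefectGroup_iff hB P).1 hPD
  set a : Cfsg.Agent.BrauerPairs.Pr (Cfsg.Agent.Blocks.resField M) G :=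
    (P, Cfsg.Agent.BrauerPairs.zB M (Subgroup.centralizer (P : Set G)) c) with ha
  have hmax : Cfsg.Agent.BrauerPairs.IsMax p (Cfsg.Agent.BrauerPairs.Ek M B) a := ⟨hpB, hD⟩
  have hfix : ∀ t ∈ Cfsg.Agent.BrauerPairs.stabP a, t * u * t⁻¹ = u := fun t ht =>
    huT t ((hT t).2 ((Cfsg.Agent.BrauerPairs.stab_iff hc.1 t).2 ht))
  obtain ⟨hl, hk⟩ := Cfsg.Agent.WatanabeFixed.fixed_counts hM hB hmax hPC hu hfix
  have hsec : Cfsg.Agent.Star.secC u = H := by rw [hH, Cfsg.Agent.Star.secC_eq]
  subst hsec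
  have hp := Cfsg.Agent.BrauerPairs.pairOf_self (M := M) hc.1 hD.pgroup hPC rfl
  have hpf : Cfsg.Agent.BrauerPairs.IsPairOf p (Cfsg.Agent.Star.secC u)
      (Cfsg.Agent.BrauerPairs.zB M (Cfsg.Agent.Star.secC u) f) a :=
    Cfsg.Agent.BrauerPairs.pairOf_of_inducedIn hM
      (Cfsg.Agent.AbelianSections.le_secC (a := a) hPC hu).2 hf hp inf_le_right
  obtain ⟨e1, e2⟩ := Cfsg.Agent.AbelianSections.lr_eq hf.2.1 hpf
  exact ⟨hl.symm.trans e1, hk.symm.trans e2⟩

end Cfsg.Agent.S4644
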