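import Cfsg.Statements.S4645
import Cfsg.Agent.Lib.BrauerPairs.NilpotentRankOne

set_option autoImplicit false
open Cfsg Cfsg.Agent.BrauerPairs

namespace Cfsg.Agent.S4645

/-- Let B be a block of the finite group G relative to a maximal ideal M of the algebraic integers containing the prime p, with a nontrivial cyclic defect group P; let c be a block of C_G(P) inducing B and T the stabilizer of c in N_G(P). Let Q be a nontrivial subgroup of P (so C_G(P) ≤ C_G(Q)), f the block of C_G(Q) induced by c inside C_G(Q), and T' the stabilizer of f in N_G(Q). Then T' = T·C_G(Q), the index of C_G(Q) in T' equals the index of C_G(P) in T, f has p-regular rank 1, and f is a nilpotent block of C_G(Q). -/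
theorem result {G : Type*} [Group G] [Finite G] (p : ℕ) [Fact p.Prime] (M : Ideal Cfsg.AlgInt) (hM : Cfsg.IsPModular p M) (B : Set (Cfsg.IrrCharacter G)) (hB : Cfsg.IsPBlock M B) (P : Subgroup G) (hPD : Cfsg.IsDefectGroup p M B P) (hP1 : P ≠ ⊥) (hcyc : IsCyclic P) (c : Set (Cfsg.IrrCharacter (Subgroup.centralizer (P : Set G)))) (hc : Cfsg.IsInducedBlock M (Subgroup.centralizer (P : Set G)) c B) (T : Subgroup G) (hT : ∀ g : G, g ∈ T ↔ (g ∈ Subgroup.normalizer (P : Set G) ∧ Cfsg.StabilizesBlock (Subgroup.centralizer (P : Set G)) c g)) (Q : Subgroup G) (hQP : Q ≤ P) (hQ1 : Q ≠ ⊥) (f : Set (Cfsg.IrrCharacter (Subgroup.centralizer (Q : Set G)))) (hf : Cfsg.IsInducedBlockIn M (Subgroup.centralizer (Q : Set G)) (Subgroup.centralizer (P : Set G)) c f) (T' : Subgroup G) (hT' : ∀ g : G, g ∈ T' ↔ (g ∈ Subgroup.normalizer (Q : Set G) ∧ Cfsg.StabilizesBlock (Subgroup.centralizer (Q : Set G)) f g)) : T' = T ⊔ Subgroup.centralizer (Q : Set G) ∧ (Subgroup.centralizer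 (Q : Set G)).relIndex T' = (Subgroup.centralizer (P : Set G)).relIndex T ∧ Cfsg.blockRank p f = 1 ∧ Cfsg.IsNilpotentBlock p M f := by
  classical
  haveI : Fintype G := Fintype.ofFinite G
  haveI : M.IsPrime := hM.2.1.isPrime
  haveI : CharP (Cfsg.Agent.Blocks.resField M) p := Cfsg.Agent.Blocks.resField_charP hM
  have hPp : IsPGroup p P := Cfsg.Agent.Blocks.isPGroup_defectGroup hPD
  obtain ⟨⟨y, hyP⟩, hy⟩ := IsCyclic.exists_generator (α := P)
  have hgen : ∀ u ∈ P, ∃ i : ℤ, y ^ i = u := fun u hu => by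
    obtain ⟨i, hi⟩ := Subgroup.mem_zpowers_iff.1 (hy ⟨u, hu⟩)
    exact ⟨i, by simpa using congrArg Subtype.val hi⟩
  have hPC : P ≤ Subgroup.centralizer (P : Set G) := fun u hu =>
    Subgroup.mem_centralizer_iff.2 fun v hv => by
      obtain ⟨i, rfl⟩ := hgen u hu
      obtain ⟨j, rfl⟩ := hgen v hv
      exact (Commute.zpow_zpow_self y j i).eq
  let C := Subgroup.centralizer (P : Set G)
  let D := Subgroup.centralizer (Q : Set G)
  have hCD : C ≤ D := Subgroup.centralizer_le hQP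
  have hPD' : P ≤ D := hPC.trans hCD
  have hTe : T = stabP (P, zB M C c) :=
    Subgroup.ext fun g => (hT g).trans (stab_iff hc.1 g)
  have hTe' : T' = stabP (Q, zB M D f) :=
    Subgroup.ext fun g => (hT' g).trans (stab_iff hf.2.1 g)
  obtain ⟨hpB, -⟩ := abelian_pair hM hPD hPC hc
  have hD := (isDefectGroup_iff hB P).1 hPD
  have hmax : IsMax p (Ek M B) (P, zB M C c) := ⟨hpB, hD⟩
  obtain ⟨f0, hf0, -⟩ := existsUnique_below hpB.pair hQP
  have hpf : IsPairOf p D (zB M D f) (P, zB M C c) :=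
    pairOf_of_inducedIn hM hCD hf (pairOf_self (M := M) hc.1 hD.pgroup hPC rfl) inf_le_right
  have hpf0 : IsPairOf p D f0 (P, zB M C c) :=
    ⟨(isPair_sub_iff hCD).2 ⟨hpB.pair, hPD'⟩, (hf0.left hpB.pair).blkC,
      (hf0.nsub hpB.pair (hPD'.trans (Subgroup.centralizer_le_normalizer _))).occ⟩
  have hfe : zB M D f = f0 := hpf.unique hpf0
  rw [← hfe] at hf0
  have hm : ¬ p ∣ C.relIndex T := by
    rw [hTe]; exact not_dvd_inertia hM hPD hPC hc
  have hTN : T ≤ Subgroup.normalizer (P : Set G) := fun g hg => ((hT g).1 hg).1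
  haveI : (C.subgroupOf T).Normal := Subgroup.normal_subgroupOf_of_le_normalizer (fun g hg =>
    mem_normalizer_of_cjS_eq (by rw [cjS_centralizer, cjS_eq_of_mem_normalizer (hTN hg)]))
  have hpow : ∀ g ∈ T, g ^ C.relIndex T ∈ C := fun g hg => Subgroup.mem_subgroupOf.1
    (Subgroup.pow_index_mem (C.subgroupOf T) ⟨g, hg⟩)
  have hfree : ∀ g ∈ T, ∀ x ∈ P, x ≠ 1 → g * x * g⁻¹ = x → g ∈ C := fun g hg x hx hx1 h =>
    mem_centralizer_of_fix hPp hcyc hTN hm hpow hg hx hx1 h
  have hTQ : T ≤ Subgroup.normalizer (Q : Set G) := fun g hg => by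
    refine mem_normalizer_of_cjS_eq (Subgroup.eq_of_le_of_card_ge ?_ (card_cjS g Q).ge)
    obtain ⟨a, ha⟩ := hgen _ ((Subgroup.mem_normalizer_iff.1 (hTN hg) y).1 hyP)
    rintro _ ⟨w, hw, rfl⟩
    obtain ⟨i, rfl⟩ := hgen w (hQP hw)
    show g * y ^ i * g⁻¹ ∈ Q
    rw [← conj_zpow, ← ha, ← zpow_mul, mul_comm, zpow_mul]
    exact zpow_mem hw _
  have hDN : D ≤ Subgroup.normalizer (Q : Set G) := Subgroup.centralizer_le_normalizer _
  have hTT : T' = T ⊔ D := by
    refine le_antisymm (fun x hx => ?_) (sup_le (fun g hg => ?_) ?_)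
    · rw [hTe'] at hx
      obtain ⟨z, hz, -, d, hd, rfl⟩ := abelian_stab_factor hmax hf0 hPD' hx
      exact Subgroup.mul_mem_sup (hTe ▸ hz) hd
    · rw [hTe']
      exact inter_le_stabP hmax hf0 (hTe ▸ hg) (hTQ hg)
    · rw [hTe']
      exact centralizer_le_stabP (b := (Q, zB M D f)) (hf0.left hpB.pair).blkC
  obtain ⟨x, hx, hx1⟩ := (Subgroup.ne_bot_iff_exists_ne_one.1 hQ1 |>
    fun ⟨x, hx⟩ => (⟨x, x.2, fun e => hx (Subtype.ext e)⟩ : ∃ x : G, x ∈ Q ∧ x ≠ 1))
  have hTD : ∀ g ∈ T, g ∈ D → g ∈ C := fun g hg hgD => hfree g hg x (hQP hx) hx1 (by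
    rw [← Subgroup.mem_centralizer_iff.1 hgD x hx, mul_inv_cancel_right])
  have hTDN : T ≤ Subgroup.normalizer (D : Set G) := fun g hg => by
    refine mem_normalizer_of_cjS_eq ?_
    rw [cjS_centralizer, cjS_eq_of_mem_normalizer (hTQ hg)]
  have hnil : Cfsg.IsNilpotentBlock p M f := by
    refine (local_nilpotent_iff hM hPD hPC hc hCD hf).2 fun g hg => ?_
    exact hTD g (hTe ▸ hg.1) hg.2
  have hnoT := hpB.noExt hD
  have hnoD : NoExt p D (P, zB M C c) := fun b hb => by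
    have hCb : Subgroup.centralizer (b.1 : Set G) ≤ D := (Subgroup.centralizer_le hb.le).trans hCD
    exact hnoT b ⟨hpB.pair, ((isPair_sub_iff hCb).1 hb.right).1, hb.le, hb.normal, hb.inv, hb.occ⟩
  have hdf : Cfsg.IsDefectGroup p M f (P.subgroupOf D) :=
    (isDefectGroup_subgroupOf_iff hf.2.1 hPD').2 (hnoD.isDefGrp hpf)
  refine ⟨hTT, ?_, blockRank_eq_one_of_nilpotent_abelian hM hnil hdf (fun z hz => ?_), hnil⟩
  · rw [hTT, relIndex_sup_eq hTDN]
    show D.relIndex T = C.relIndex T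
    rw [← Subgroup.inf_relIndex_right D, ← Subgroup.inf_relIndex_right C]
    congr 1
    exact le_antisymm (le_inf (fun g hg => hTD g hg.2 hg.1) inf_le_right) (inf_le_inf_right _ hCD)
  · rw [Subgroup.mem_centralizer_iff]
    exact fun w hw => Subtype.ext (Subgroup.mem_centralizer_iff.1
      (hPC (Subgroup.mem_subgroupOf.1 hz)) w hw)

end Cfsg.Agent.S4645
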