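import Cfsg.Statements.S4647
import Cfsg.Agent.Lib.BlockAlg.OrbitBasis

set_option autoImplicit false
set_option linter.style.haveILetI false
open Cfsg

namespace Cfsg.Agent.S4647

/-- Let B be a block of the finite group G relative to a maximal ideal M of the algebraic integers containing the prime p, p^a the p-part of the order of G and p^d the order of a defect group D of B. If Σ_{χ ∈ B} χ(1)² = p^(2a−d) (the least possible value), then B is nilpotent. -/
theorem result {G : Type*} [Group G] [Finite G] (p : ℕ) [Fact p.Prime] (M : Ideal Cfsg.AlgInt) (hM : Cfsg.IsPModular p M) (B : Set (Cfsg.IrrCharacter G)) (hB : Cfsg.IsPBlock M B) (D : Subgroup G) (hD : Cfsg.IsDefectGroup p M B D) (a d : ℕ) (ha : (Nat.card G).factorization p = a) (hd : Nat.card D = p ^ d) (hmin : ∑ᶠ χ ∈ B, Cfsg.charDegree (χ : G → ℂ) ^ 2 = p ^ (2 * a - d)) : Cfsg.IsNilpotentBlock p M B := by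
  classical
  haveI : Fintype G := Fintype.ofFinite G
  haveI : M.IsPrime := hM.2.1.isPrime
  haveI : CharP (Cfsg.Agent.Blocks.resField M) p := Cfsg.Agent.Blocks.resField_charP hM
  have hp : p.Prime := Fact.out
  refine ⟨hB, fun Q e hQe x hxN _ hxreg => ?_⟩
  have hpair := (Cfsg.Agent.BrauerPairs.pairOf_iff hM hQe.1 hB).1 hQe
  have hblk := Cfsg.Agent.BrauerPairs.isBlk_Ek (M := M) hB
  have hDef := (Cfsg.Agent.BrauerPairs.isDefectGroup_iff hB D).1 hD
  obtain ⟨P, hQP⟩ := hQe.1.1.exists_le_sylow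
  obtain ⟨P', hDP'⟩ := hDef.pgroup.exists_le_sylow
  obtain ⟨g, hg⟩ := MulAction.exists_smul_eq G P' P
  have hD1P : Cfsg.Agent.BrauerPairs.cjS g D ≤ (P : Subgroup G) := by
    rw [← hg, Sylow.coe_subgroup_smul]
    exact Subgroup.map_mono hDP'
  have hPcard : Nat.card (P : Subgroup G) = p ^ a := by rw [P.card_eq_multiplicity, ha]
  have hda : d ≤ a := by
    have h := Subgroup.card_le_of_le hD1P
    rw [Cfsg.Agent.BrauerPairs.card_cjS, hd, hPcard] at h
    exact (Nat.pow_le_pow_iff_right hp.one_lt).1 h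
  have hdim : Module.finrank (Cfsg.Agent.Blocks.resField M)
      (LinearMap.range (LinearMap.mulRight (Cfsg.Agent.Blocks.resField M)
        (Cfsg.Agent.BrauerPairs.Ek M B))) * Nat.card (Cfsg.Agent.BrauerPairs.cjS g D) ≤
      Nat.card (P : Subgroup G) * Nat.card (P : Subgroup G) := by
    rw [Cfsg.Agent.BlockAlg.finrank_range_mulRight_Ek hB, Cfsg.Agent.BrauerPairs.card_cjS, hd,
      hPcard, ← pow_add, show ∑ χ ∈ Finset.univ.filter (· ∈ B),
        Cfsg.charDegree (χ : G → ℂ) ^ 2 = p ^ (2 * a - d) from by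
          rw [← hmin, finsum_mem_eq_finite_toFinset_sum _ (Set.toFinite B)]
          exact Finset.sum_congr (by ext; simp) fun _ _ => rfl, ← pow_add]
    exact Nat.pow_le_pow_right hp.pos (by omega)
  obtain ⟨w, hw, hwq⟩ := Cfsg.Agent.BlockAlg.twist_inner hblk (hDef.cj' hblk (Subgroup.mem_top g))
    P.2 hD1P hdim hQP hpair.brTrunc_ne_zero
    (fun q hq => hQP ((Subgroup.mem_normalizer_iff.1 hxN q).1 hq))
  have hpow : ∀ n : ℕ, ∀ q ∈ Q, x ^ n * q * (x ^ n)⁻¹ = w ^ n * q * (w ^ n)⁻¹ := by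
    intro n
    induction n with
    | zero => intro q _; simp
    | succ n ih =>
      intro q hq
      have h1 := ih (x * q * x⁻¹) ((Subgroup.mem_normalizer_iff.1 hxN q).1 hq)
      conv_rhs at h1 => rw [← hwq q hq]
      rw [pow_succ, pow_succ]
      calc x ^ n * x * q * (x ^ n * x)⁻¹ = x ^ n * (x * q * x⁻¹) * (x ^ n)⁻¹ := by group
        _ = w ^ n * (w * q * w⁻¹) * (w ^ n)⁻¹ := h1
        _ = w ^ n * w * q * (w ^ n * w)⁻¹ := by group
  have hwk : w ^ p ^ a = 1 := by
    have h := congrArg Subtype.val (pow_card_eq_one' (x := (⟨w, hw⟩ : (P : Subgroup G))))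
    rw [hPcard] at h
    simpa using h
  have hxC : x ^ p ^ a ∈ Subgroup.centralizer (Q : Set G) :=
    Subgroup.mem_centralizer_iff.2 fun q hq => by
      have h := hpow (p ^ a) q hq
      rw [hwk, one_mul, inv_one, mul_one] at h
      exact (mul_inv_eq_iff_eq_mul.1 h).symm
  obtain ⟨j, hj⟩ := exists_pow_eq_self_of_coprime (x := x) (n := p ^ a)
    (Nat.Coprime.pow_left a (hp.coprime_iff_not_dvd.2 hxreg))
  rw [← hj]
  exact pow_mem hxC j

end Cfsg.Agent.S4647
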