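import Cfsg.Statements.S4648
import Cfsg.Agent.Lib.BrauerPairs.SmallDefect

set_option autoImplicit false
open Cfsg

namespace Cfsg.Agent.S4648

/-- Let B be a block of the finite group G relative to a maximal ideal M of the algebraic integers containing the prime p, with a nontrivial defect group D. If B has p-regular rank 1 and at most four irreducible characters, then B is nilpotent, D has exactly as many elements as B has irreducible characters, and p is 2 or 3. -/
theorem result {G : Type*} [Group G] [Finite G] (p : ℕ) [Fact p.Prime] (M : Ideal Cfsg.AlgInt) (hM : Cfsg.IsPModular p M) (B : Set (Cfsg.IrrCharacter G)) (hB : Cfsg.IsPBlock M B) (D : Subgroup G) (hD : Cfsg.IsDefectGroup p M B D) (hD1 : D ≠ ⊥) (hl : Cfsg.blockRank p B = 1) (hk : Nat.card B ≤ 4) : Cfsg.IsNilpotentBlock p M B ∧ Nat.card D = Nat.card B ∧ (p = 2 ∨ p = 3) := by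
  classical
  haveI : Fintype G := Fintype.ofFinite G
  haveI : M.IsPrime := hM.2.1.isPrime
  obtain ⟨hn, he⟩ := Cfsg.Agent.BrauerPairs.nilpotent_of_small hM hB hD hl hk
  refine ⟨hn, he.symm, ?_⟩
  have hp := hM.1
  obtain ⟨n, hn'⟩ : ∃ n, Nat.card D = p ^ n :=
    ⟨_, Cfsg.Agent.Blocks.card_defectGroup hM hB hD⟩
  have h0 : n ≠ 0 := fun h => hD1 (Subgroup.eq_bot_of_card_eq D (by rw [hn', h, pow_zero]))
  have h1 : p ≤ 4 := (Nat.le_self_pow h0 p).trans (by omega)
  have h2 := hp.two_le
  interval_cases p
  · exact Or.inl rfl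
  · exact Or.inr rfl
  · exact absurd hp (by norm_num)

end Cfsg.Agent.S4648
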