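import Cfsg.Statements.S4650
import Cfsg.Agent.Lib.BrauerPairs.AbelianInertia

set_option autoImplicit false
open Cfsg

namespace Cfsg.Agent.S4650

/-- Let B be a block of the finite group G relative to a maximal ideal M of the algebraic integers containing the prime p, with a nontrivial commutative defect group P; let c be a block of C_G(P) inducing B and T the stabilizer of c in N_G(P). Then T/C_G(P) acts freely on the non-identity elements of P (an element of T fixing a non-identity element of P under conjugation lies in C_G(P)) if and only if, for every nontrivial subgroup Q of P, the block of C_G(Q) induced by c inside C_G(Q) is a nilpotent block of C_G(Q). -/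
theorem result {G : Type*} [Group G] [Finite G] (p : ℕ) [Fact p.Prime] (M : Ideal Cfsg.AlgInt) (hM : Cfsg.IsPModular p M) (B : Set (Cfsg.IrrCharacter G)) (hB : Cfsg.IsPBlock M B) (P : Subgroup G) (hPD : Cfsg.IsDefectGroup p M B P) (hPab : ∀ x ∈ P, ∀ y ∈ P, x * y = y * x) (hP1 : P ≠ ⊥) (c : Set (Cfsg.IrrCharacter (Subgroup.centralizer (P : Set G)))) (hc : Cfsg.IsInducedBlock M (Subgroup.centralizer (P : Set G)) c B) (T : Subgroup G) (hT : ∀ g : G, g ∈ T ↔ (g ∈ Subgroup.normalizer (P : Set G) ∧ Cfsg.StabilizesBlock (Subgroup.centralizer (P : Set G)) c g)) : (∀ g ∈ T, ∀ x ∈ P, x ≠ 1 → g * x * g⁻¹ = x → g ∈ Subgroup.centralizer (P : Set G)) ↔ ∀ Q : Subgroup G, Q ≤ P → Q ≠ ⊥ → ∀ f : Set (Cfsg.IrrCharacter (Subgroup.centralizer (Q : Set G))), Cfsg.IsInducedBlockIn M (Subgroup.centralizer (Q : Set G)) (Subgroup.centralizer (P : Set G)) c f → Cfsg.IsNilpotentBlock p M f := by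
  classical
  haveI : Fintype G := Fintype.ofFinite G
  haveI : M.IsPrime := hM.2.1.isPrime
  have hPC : P ≤ Subgroup.centralizer (P : Set G) := fun u hu =>
    Subgroup.mem_centralizer_iff.2 fun v hv => hPab v hv u hu
  have hTe : T = Cfsg.Agent.BrauerPairs.stabP
      (P, Cfsg.Agent.BrauerPairs.zB M (Subgroup.centralizer (P : Set G)) c) :=
    Subgroup.ext fun g => (hT g).trans (Cfsg.Agent.BrauerPairs.stab_iff hc.1 g)
  constructor
  · intro hfree Q hQP hQ1 f hf
    refine (Cfsg.Agent.BrauerPairs.local_nilpotent_iff hM hPD hPC hc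
      (Subgroup.centralizer_le hQP) hf).2 fun g hg => ?_
    obtain ⟨x, hx, hx1⟩ := (Subgroup.ne_bot_iff_exists_ne_one.1 hQ1 |>
      fun ⟨x, hx⟩ => (⟨x, x.2, fun e => hx (Subtype.ext e)⟩ : ∃ x : G, x ∈ Q ∧ x ≠ 1))
    refine hfree g (hTe ▸ hg.1) x (hQP hx) hx1 ?_
    rw [← Subgroup.mem_centralizer_iff.1 hg.2 x hx, mul_inv_cancel_right]
  · intro hnil g hg x hx hx1 hfix
    have hQP : Subgroup.zpowers x ≤ P := Subgroup.zpowers_le.2 hx
    obtain ⟨f, hf⟩ := Cfsg.Agent.BrauerPairs.exists_local_block hM hPD hPC hc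
      (Subgroup.centralizer_le hQP)
    refine (Cfsg.Agent.BrauerPairs.local_nilpotent_iff hM hPD hPC hc
      (Subgroup.centralizer_le hQP) hf).1 (hnil _ hQP (by simpa [Subgroup.zpowers_eq_bot] using hx1)
        f hf) ⟨hTe ▸ hg, ?_⟩
    refine Subgroup.mem_centralizer_iff.2 fun u hu => ?_
    obtain ⟨i, rfl⟩ := Subgroup.mem_zpowers_iff.1 hu
    exact (Commute.zpow_left (show Commute x g from (mul_inv_eq_iff_eq_mul.1 hfix).symm) i).eq

end Cfsg.Agent.S4650
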