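import Cfsg.Statements.S4654
import Cfsg.Agent.Lib.BrauerPairs.Correspondence

set_option autoImplicit false
open Cfsg

namespace Cfsg.Agent.S4654

open Cfsg Cfsg.Agent.BrauerPairs Cfsg.Agent.Blocks

/-- Fix a prime p and a maximal ideal M of the algebraic integers containing p. Let P be a normal p-subgroup of the finite group G, B a p-block of G and e a p-block of C_G(P) such that (P, e) is a Brauer pair of B (as P is normal, this says that e occurs in the idempotent of B, which is supported on C_G(P)). Let T be the stabilizer of e in G under conjugation. Then the idempotent of e is a block idempotent of T: some block E of T has, at every element of T, the same idempotent coefficient as e (zero off C_G(P)); and the idempotent of B is the sum of the distinct G-conjugates of the idempotent of e: its coefficient at g is the sum over all x in G of the coefficient of e at x⁻¹ g x, divided by the order of T. -/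
theorem result {G : Type*} [Group G] [Fintype G] (p : ℕ) [Fact p.Prime] (M : Ideal Cfsg.AlgInt) (hM : Cfsg.IsPModular p M) (P : Subgroup G) [P.Normal] (hP : IsPGroup p P) (B : Set (Cfsg.IrrCharacter G)) (e : Set (Cfsg.IrrCharacter (Subgroup.centralizer (P : Set G)))) (hBe : Cfsg.IsBrauerPairOf p M B P e) (T : Subgroup G) (hT : ∀ x : G, x ∈ T ↔ Cfsg.StabilizesBlock (Subgroup.centralizer (P : Set G)) e x) : (∃ E : Set (Cfsg.IrrCharacter T), Cfsg.IsPBlock M E ∧ ∀ t : T, Cfsg.blockCoeff E t = Cfsg.subgroupBlockCoeff (Subgroup.centralizer (P : Set G)) e (t : G)) ∧ ∀ g : G, Cfsg.blockCoeff B g = (Nat.card T : ℂ)⁻¹ * ∑ x : G, Cfsg.subgroupBlockCoeff (Subgroup.centralizer (P : Set G)) e (x⁻¹ * g * x) := by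
  haveI := IsPModular.isPrime hM
  haveI : CharP (resField M) p := resField_charP hM
  obtain ⟨he, hB, ho⟩ := (isBrauerPairOf_iff hM).1 hBe
  have hTeq : T = stabP (zI M ⟨P, e⟩) := Subgroup.ext fun y => (hT y).trans
    ⟨fun h => (stab_iff he.2 y).1 ⟨by rw [Subgroup.normalizer_eq_top_iff.2 ‹P.Normal›]; trivial, h⟩,
      fun h => ((stab_iff he.2 y).2 h).2⟩
  subst hTeq
  obtain ⟨E, hE, hEe⟩ := exists_eq_zB (H := stabP (zI M ⟨P, e⟩))
    (isBlk_stabP ho.pair.pgroup ho.pair.blkC)
  exact ⟨⟨E, hE, blockCoeff_eq_of_zB (centralizer_le_stabP ho.pair.blkC) he.2 hE hEe⟩,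
    blockCoeff_eq_orbit hM hBe⟩

end Cfsg.Agent.S4654
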