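import Cfsg.Statements.S4661
import Cfsg.Agent.Lib.BrauerPairs.FusionBridge

set_option autoImplicit false
open Cfsg

namespace Cfsg.Agent.S4661

open Cfsg Cfsg.Agent.BrauerPairs Cfsg.Agent.Blocks

/-- Fix a prime p and a maximal ideal M of the algebraic integers containing p. Let (P, e) be a maximal Brauer pair of the p-block B of the finite group G, Q ≤ P, and f the p-block of C_G(Q) with (Q, f) ≤ (P, e). Then C_P(Q) is contained in a defect group of f (as a block of the group C_G(Q)); and for some x in G the conjugate pair (x Q x⁻¹, conjugate of f) again lies below (P, e) and C_P(x Q x⁻¹) is a defect group of the conjugate of f in C_G(x Q x⁻¹). -/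
theorem result {G : Type*} [Group G] [Fintype G] (p : ℕ) [Fact p.Prime] (M : Ideal Cfsg.AlgInt) (hM : Cfsg.IsPModular p M) (B : Set (Cfsg.IrrCharacter G)) (P Q : Subgroup G) (e : Set (Cfsg.IrrCharacter (Subgroup.centralizer (P : Set G)))) (f : Set (Cfsg.IrrCharacter (Subgroup.centralizer (Q : Set G)))) (hmax : Cfsg.IsMaximalBrauerPair p M B P e) (hQP : Q ≤ P) (hf : Cfsg.IsPBlock M f) (hle : Cfsg.SubpairLE p M Q f P e) : (∃ D : Subgroup (Subgroup.centralizer (Q : Set G)), Cfsg.IsDefectGroup p M f D ∧ (P ⊓ Subgroup.centralizer (Q : Set G)).subgroupOf (Subgroup.centralizer (Q : Set G)) ≤ D) ∧ ∃ x : G, Cfsg.SubpairLE p M (Q.map (MulAut.conj x).toMonoidHom) (Cfsg.conjBlock Q x f) P e ∧ Cfsg.IsDefectGroup p M (Cfsg.conjBlock Q x f) ((P ⊓ Subgroup.centralizer ((Q.map (MulAut.conj x).toMonoidHom) : Set G)).subgroupOf (Subgroup.centralizer ((Q.map (MulAut.conj x).toMonoidHom) : Set G))) := by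
  haveI := IsPModular.isPrime hM
  haveI : CharP (resField M) p := resField_charP hM
  obtain ⟨hB, hp, hI⟩ := isMax_zI hM hmax
  have hb : SubLE p ⊤ (zI M ⟨Q, f⟩) (zI M ⟨P, e⟩) := subpairLE_imp hM (a := ⟨Q, f⟩) (b := ⟨P, e⟩) hle
  have hfC := (hb.left hI.pair).blkC
  refine ⟨?_, ?_⟩
  · obtain ⟨D, hD, hle'⟩ := hI.exists_defect_ge hb (centralizer_le_stabP hfC) hfC
    exact ⟨D.subgroupOf _, (isDefectGroup_subgroupOf_iff hf hD.le).2 hD, fun u hu => hle' hu⟩
  · obtain ⟨x, hx, hD⟩ := hI.exists_conj_defect (hb.pairOf_iff.2 hI.pairOf) (centralizer_le_stabP hfC) hfC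
    refine ⟨x, (subpairLE_conj_iff hM hp hf x).2 hx,
      (isDefectGroup_subgroupOf_iff (isPBlock_conjBlock hf x) inf_le_right).2 ?_⟩
    rw [cjS_centralizer] at hD
    have e : zB M (Subgroup.centralizer ((Q.map (MulAut.conj x).toMonoidHom) : Set G))
        (conjBlock Q x f) = cj x (zI M ⟨Q, f⟩).2 := congrArg Prod.snd (zB_conjBlock hf x)
    rw [e]
    exact hD

end Cfsg.Agent.S4661
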