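import Cfsg.Statements.S4662
import Cfsg.Agent.Lib.BrauerPairs.FusionBridge

set_option autoImplicit false
open Cfsg

namespace Cfsg.Agent.S4662

open Cfsg Cfsg.Agent.BrauerPairs Cfsg.Agent.Blocks

/-- Fix a prime p and a maximal ideal M of the algebraic integers containing p. Let (P, e) be a maximal Brauer pair of the p-block B of the finite group G, Q ≤ P, and f the p-block of C_G(Q) with (Q, f) ≤ (P, e). Let T be the stabilizer of f in N_G(Q). Then the idempotent of f is a block idempotent of T, and N_P(Q) is contained in a defect group of that block of T; moreover for some x in G the conjugate pair (x Q x⁻¹, conjugate of f) again lies below (P, e) and, with T' the stabilizer of the conjugate of f in N_G(x Q x⁻¹), N_P(x Q x⁻¹) is a defect group of the block of T' whose idempotent is that of the conjugate of f. -/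
theorem result {G : Type*} [Group G] [Fintype G] (p : ℕ) [Fact p.Prime] (M : Ideal Cfsg.AlgInt) (hM : Cfsg.IsPModular p M) (B : Set (Cfsg.IrrCharacter G)) (P Q : Subgroup G) (e : Set (Cfsg.IrrCharacter (Subgroup.centralizer (P : Set G)))) (f : Set (Cfsg.IrrCharacter (Subgroup.centralizer (Q : Set G)))) (hmax : Cfsg.IsMaximalBrauerPair p M B P e) (hQP : Q ≤ P) (hf : Cfsg.IsPBlock M f) (hle : Cfsg.SubpairLE p M Q f P e) (T : Subgroup G) (hT : ∀ y : G, y ∈ T ↔ y ∈ Subgroup.normalizer (Q : Set G) ∧ Cfsg.StabilizesBlock (Subgroup.centralizer (Q : Set G)) f y) : (∃ F : Set (Cfsg.IrrCharacter T), Cfsg.IsPBlock M F ∧ (∀ t : T, Cfsg.blockCoeff F t = Cfsg.subgroupBlockCoeff (Subgroup.centralizer (Q : Set G)) f (t : G)) ∧ ∃ D : Subgroup T, Cfsg.IsDefectGroup p M F D ∧ (P ⊓ Subgroup.normalizer (Q : Set G)).subgroupOf T ≤ D) ∧ ∃ x : G, Cfsg.SubpairLE p M (Q.map (MulAut.conj x).toMonoidHom) (Cfsg.conjBlock Q x f) P e ∧ ∀ (T' : Subgroup G), (∀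 y : G, y ∈ T' ↔ y ∈ Subgroup.normalizer ((Q.map (MulAut.conj x).toMonoidHom) : Set G) ∧ Cfsg.StabilizesBlock (Subgroup.centralizer ((Q.map (MulAut.conj x).toMonoidHom) : Set G)) (Cfsg.conjBlock Q x f) y) → ∃ F' : Set (Cfsg.IrrCharacter T'), Cfsg.IsPBlock M F' ∧ (∀ t : T', Cfsg.blockCoeff F' t = Cfsg.subgroupBlockCoeff (Subgroup.centralizer ((Q.map (MulAut.conj x).toMonoidHom) : Set G)) (Cfsg.conjBlock Q x f) (t : G)) ∧ Cfsg.IsDefectGroup p M F' ((P ⊓ Subgroup.normalizer ((Q.map (MulAut.conj x).toMonoidHom) : Set G)).subgroupOf T') := by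
  haveI := IsPModular.isPrime hM
  haveI : CharP (resField M) p := resField_charP hM
  obtain ⟨hB, hp, hI⟩ := isMax_zI hM hmax
  have hb : SubLE p ⊤ (zI M ⟨Q, f⟩) (zI M ⟨P, e⟩) := subpairLE_imp hM (a := ⟨Q, f⟩) (b := ⟨P, e⟩) hle
  have hfC := (hb.left hI.pair).blkC
  have hbl := isBlk_stabP (hb.left hI.pair).pgroup hfC
  have hTeq : T = stabP (zI M ⟨Q, f⟩) := Subgroup.ext fun y => (hT y).trans (stab_iff hf y)
  refine ⟨?_, ?_⟩
  · subst hTeq
    obtain ⟨F, hF, hFe⟩ := exists_eq_zB (H := stabP (zI M ⟨Q, f⟩)) hbl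
    obtain ⟨D, hD, hle'⟩ := hI.exists_defect_ge hb le_rfl hbl
    refine ⟨F, hF, blockCoeff_eq_of_zB (centralizer_le_stabP hfC) hf hF hFe, D.subgroupOf _,
      (isDefectGroup_subgroupOf_iff hF hD.le).2 (hFe.symm ▸ hD), fun u hu => ?_⟩
    rw [hI.inf_stabP hb] at hle'
    exact hle' hu
  · obtain ⟨x, hx, hD⟩ := hI.exists_conj_defect (hb.pairOf_iff.2 hI.pairOf) le_rfl hbl
    refine ⟨x, (subpairLE_conj_iff hM hp hf x).2 hx, fun T' hT' => ?_⟩
    have hf' := isPBlock_conjBlock hf x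
    have hTeq' : T' = stabP (zI M ⟨_, conjBlock Q x f⟩) :=
      Subgroup.ext fun y => (hT' y).trans (stab_iff hf' y)
    subst hTeq'
    have hx' : SubLE p ⊤ (zI M ⟨_, conjBlock Q x f⟩) (zI M ⟨P, e⟩) := (zB_conjBlock hf x).symm ▸ hx
    have hfC' := (hx'.left hI.pair).blkC
    obtain ⟨F', hF', hFe'⟩ := exists_eq_zB (H := stabP (zI M ⟨_, conjBlock Q x f⟩))
      (isBlk_stabP (hx'.left hI.pair).pgroup hfC')
    rw [cjS_stabP, ← zB_conjBlock hf x, hI.inf_stabP hx'] at hD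
    refine ⟨F', hF', blockCoeff_eq_of_zB (centralizer_le_stabP hfC') hf' hF' hFe', ?_⟩
    refine (isDefectGroup_subgroupOf_iff hF' ?_).2 (hFe'.symm ▸ ?_)
    · exact (hI.inf_stabP hx').ge.trans inf_le_right
    · exact (congrArg Prod.snd (zB_conjBlock hf x)).symm ▸ hD

end Cfsg.Agent.S4662
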