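import Cfsg.Statements.S4665
import Cfsg.Agent.Lib.BrauerPairs.ClassCount

set_option autoImplicit false
open Cfsg

namespace Cfsg.Agent.S4665

/-- Fix a prime p, a maximal ideal M of the algebraic integers containing p, and a p-block B of the finite group G, and let p^a be the p-part of the order of G. Let χ be an integer combination of the irreducible characters in B. If the function that agrees with χ on p-regular elements and vanishes on p-singular elements is again an integer combination of the irreducible characters in B, then p^a divides χ(1). -/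
theorem result {G : Type*} [Group G] [Fintype G] (p : ℕ) [Fact p.Prime] (M : Ideal Cfsg.AlgInt) (hM : Cfsg.IsPModular p M) (B : Set (Cfsg.IrrCharacter G)) (hB : Cfsg.IsPBlock M B) (χ : G → ℂ) (hχ : (∃ n : Cfsg.IrrCharacter G → ℤ, ∀ g : G, χ g = ∑ᶠ ψ ∈ B, (n ψ : ℂ) * (ψ : G → ℂ) g)) (h0 : (∃ n : Cfsg.IrrCharacter G → ℤ, ∀ g : G, Cfsg.pRegularPart p χ g = ∑ᶠ ψ ∈ B, (n ψ : ℂ) * (ψ : G → ℂ) g)) : ∃ k : ℤ, χ 1 = (p ^ (Nat.card G).factorization p : ℂ) * k := by
  classical
  obtain ⟨n, hn⟩ := h0
  obtain ⟨P⟩ : Nonempty (Sylow p G) := inferInstance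
  choose m hm using fun ψ : IrrCharacter G =>
    Cfsg.Agent.BrauerPairs.exists_sum_subgroup_nat ψ (P : Subgroup G)
  refine ⟨∑ ψ ∈ Finset.univ.filter (· ∈ B), n ψ * m ψ, ?_⟩
  have h1 : ∑ u : (P : Subgroup G), Cfsg.pRegularPart p χ u = χ 1 := by
    rw [Finset.sum_eq_single (1 : (P : Subgroup G))]
    · simp [Cfsg.pRegularPart, Cfsg.IsPRegular, (Fact.out : p.Prime).ne_one]
    · intro u _ hu
      simp only [Cfsg.pRegularPart, Cfsg.IsPRegular]
      refine if_neg ?_
      intro hreg
      obtain ⟨k, hk⟩ := P.isPGroup' u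
      obtain ⟨i, -, hi⟩ := (Nat.dvd_prime_pow (Fact.out : p.Prime)).1 (orderOf_dvd_of_pow_eq_one hk)
      rw [Subgroup.orderOf_coe, hi] at hreg
      cases i with
      | zero => exact hu (orderOf_eq_one_iff.1 (by simpa using hi))
      | succ i => exact hreg (dvd_pow_self p i.succ_ne_zero)
    · simp
  rw [← h1]
  simp only [hn, finsum_mem_eq_finite_toFinset_sum _ (Set.toFinite B)]
  rw [Finset.sum_comm]
  simp only [← Finset.mul_sum, hm, P.card_eq_multiplicity, Nat.cast_pow]
  push_cast
  rw [Finset.mul_sum, show (Set.toFinite B).toFinset = Finset.univ.filter (· ∈ B) by ext; simp]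
  exact Finset.sum_congr rfl fun ψ _ => by ring

end Cfsg.Agent.S4665
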