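import Cfsg.Statements.S4668
import Cfsg.Agent.Lib.BrauerPairs.Lift

set_option autoImplicit false
open Cfsg

namespace Cfsg.Agent.S4668

open Cfsg Cfsg.Agent.BrauerPairs Cfsg.Agent.Blocks

/-- Fix a prime p and a maximal ideal M of the algebraic integers containing p. Let Q₀ < Q₁ < ⋯ < Q_m be a strictly increasing chain of p-subgroups of the finite group G and N the intersection of their normalizers. Then every block idempotent of N is supported on C_G(Q_m): for every p-block E of N, the idempotent coefficient of E vanishes at every element of N outside C_G(Q_m). -/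
theorem result {G : Type*} [Group G] [Fintype G] (p : ℕ) [Fact p.Prime] (M : Ideal Cfsg.AlgInt) (hM : Cfsg.IsPModular p M) (m : ℕ) (Q : Fin (m + 1) → Subgroup G) (hQ : StrictMono Q) (hQp : ∀ i, IsPGroup p (Q i)) (N : Subgroup G) (hN : ∀ g : G, g ∈ N ↔ ∀ i, g ∈ Subgroup.normalizer (Q i : Set G)) (E : Set (Cfsg.IrrCharacter N)) (hE : Cfsg.IsPBlock M E) (n : N) (hn : (n : G) ∉ Subgroup.centralizer (Q (Fin.last m) : Set G)) : Cfsg.blockCoeff E n = 0 := by
  haveI := IsPModular.isPrime hM
  haveI : Fintype N := Fintype.ofFinite N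
  by_cases hreg : IsPRegular p n
  swap
  · exact blockCoeff_eq_zero_of_singular hM hE (not_not.1 hreg)
  haveI : ((Q (Fin.last m) ⊓ N).subgroupOf N).Normal := by
    refine (Subgroup.normal_subgroupOf_iff_le_normalizer inf_le_right).2 fun g hg => ?_
    refine mem_normalizer_of_cjS_eq ?_
    rw [cjS_inf, cjS_self hg, cjS_eq_of_mem_normalizer ((hN g).1 hg _)]
  refine blockCoeff_supp_centralizer hM
    (P := (Q (Fin.last m) ⊓ N).subgroupOf N)
    (((hQp _).to_le inf_le_left).comap_of_injective _ Subtype.val_injective) hE fun hc => hn ?_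
  rw [← le_centralizer_singleton_iff]
  refine centralizes_chain (by simpa only [IsPRegular, Subgroup.orderOf_coe] using hreg) m Q
    hQ.monotone hQp (fun i => (hN n).1 n.2 i) fun x hx hxN => ?_
  rw [Subgroup.mem_centralizer_singleton_iff]
  exact congrArg Subtype.val (Subgroup.mem_centralizer_iff.1 hc ⟨x, (hN x).2 hxN⟩ ⟨hx, (hN x).2 hxN⟩)

end Cfsg.Agent.S4668
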