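import Cfsg.Statements.S4672
import Cfsg.Agent.Lib.BrauerPairs.NormalPIndex

set_option autoImplicit false
open Cfsg

namespace Cfsg.Agent.S4672

open Cfsg Cfsg.Agent.BrauerPairs Cfsg.Agent.Blocks

/-- Fix a prime p and a maximal ideal M of the algebraic integers containing p. Let N be a normal subgroup of the finite group G of p-power index and c a p-block of N stable under conjugation by G. Then the idempotent of c is a block idempotent of G: there is a p-block B of G whose idempotent coefficients agree with those of c on N and vanish off N; and for every defect group P of such a block B, G = NP and P ∩ N is a defect group of c. -/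
theorem result {G : Type*} [Group G] [Fintype G] (p : ℕ) [Fact p.Prime] (M : Ideal Cfsg.AlgInt) (hM : Cfsg.IsPModular p M) (N : Subgroup G) [N.Normal] (hN : ∃ k : ℕ, N.index = p ^ k) (c : Set (Cfsg.IrrCharacter N)) (hc : Cfsg.IsPBlock M c) (hst : ∀ x : G, Cfsg.StabilizesBlock N c x) : (∃ B : Set (Cfsg.IrrCharacter G), Cfsg.IsPBlock M B ∧ ∀ g : G, Cfsg.blockCoeff B g = Cfsg.subgroupBlockCoeff N c g) ∧ ∀ B : Set (Cfsg.IrrCharacter G), Cfsg.IsPBlock M B → (∀ g : G, Cfsg.blockCoeff B g = Cfsg.subgroupBlockCoeff N c g) → ∀ P : Subgroup G, Cfsg.IsDefectGroup p M B P → N ⊔ P = ⊤ ∧ Cfsg.IsDefectGroup p M c ((P ⊓ N).subgroupOf N) := by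
  haveI := IsPModular.isPrime hM
  haveI : CharP (resField M) p := resField_charP hM
  have hstz : ∀ x : G, cj x (zB M N c) = zB M N c := fun x =>
    (stabilizesBlock_iff hc (hst x).1).1 (hst x)
  constructor
  · obtain ⟨B, hB, -, hBc⟩ := exists_block_stable hM hN hc hst
    exact ⟨B, hB, hBc⟩
  · intro B hB hBc P hP
    have hD := (isDefectGroup_iff hB P).1 hP
    rw [Ek_eq_zB_of_coeff hc hB hBc] at hD
    obtain ⟨h1, h2⟩ := defect_of_stable hM hN (isBlk_zB N hc) hstz hD
    exact ⟨h1, (isDefectGroup_subgroupOf_iff hc inf_le_right).2 h2⟩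

end Cfsg.Agent.S4672
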