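import Cfsg.Statements.S4679
import Cfsg.Agent.Lib.BrauerPairs.FusionBridge

set_option autoImplicit false
open Cfsg

namespace Cfsg.Agent.S4679

open Cfsg Cfsg.Agent.BrauerPairs Cfsg.Agent.Blocks

/-- Fix a prime p and a maximal ideal M of the algebraic integers containing p, a p-block B of the finite group G with maximal Brauer pair (P, e), its fusion system F on P, a Brauer pair (Q, f) ≤ (P, e), and let T be the stabilizer of f in N_G(Q). Then Q is fully normalized in F if and only if N_P(Q) is a defect group of the block of T whose idempotent is that of f. -/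
theorem result {G : Type*} [Group G] [Fintype G] (p : ℕ) [Fact p.Prime] (M : Ideal Cfsg.AlgInt) (hM : Cfsg.IsPModular p M) (B : Set (Cfsg.IrrCharacter G)) (P : Subgroup G) (e : Set (Cfsg.IrrCharacter (Subgroup.centralizer (P : Set G)))) (hmax : Cfsg.IsMaximalBrauerPair p M B P e) (F : Cfsg.FusionSystem P) (hF : Cfsg.IsBlockFusionSystemOn p M B P e F) (Q : Subgroup G) (f : Set (Cfsg.IrrCharacter (Subgroup.centralizer (Q : Set G)))) (hQP : Q ≤ P) (hf : Cfsg.IsPBlock M f) (hle : Cfsg.SubpairLE p M Q f P e) (T : Subgroup G) (hT : ∀ y : G, y ∈ T ↔ y ∈ Subgroup.normalizer (Q : Set G) ∧ Cfsg.StabilizesBlock (Subgroup.centralizer (Q : Set G)) f y) : F.IsFullyNormalized Q ↔ ∃ F' : Set (Cfsg.IrrCharacter T), Cfsg.IsPBlock M F' ∧ (∀ t : T, Cfsg.blockCoeff F' t = Cfsg.subgroupBlockCoeff (Subgroup.centralizer (Q : Set G)) f (t : G)) ∧ Cfsg.IsDefectGroup p M F' ((P ⊓ Subgroup.normalizer (Q : Set G)).subgroupOf T) := by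
  haveI := IsPModular.isPrime hM
  haveI : CharP (resField M) p := resField_charP hM
  obtain ⟨hB, hp, hI⟩ := isMax_zI hM hmax
  have hb : SubLE p ⊤ (zI M ⟨Q, f⟩) (zI M ⟨P, e⟩) := subpairLE_imp hM (a := ⟨Q, f⟩) (b := ⟨P, e⟩) hle
  have hfC := (hb.left hI.pair).blkC
  have hTeq : T = stabP (zI M ⟨Q, f⟩) := Subgroup.ext fun y => (hT y).trans (stab_iff hf y)
  subst hTeq
  have hPT : P ⊓ Subgroup.normalizer (Q : Set G) ≤ stabP (zI M ⟨Q, f⟩) :=
    (hI.inf_stabP hb).ge.trans inf_le_right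
  rw [eq_blockFusion hM hmax hF]
  refine (fullyNormalized_iff hI hb).trans ⟨fun hD => ?_, ?_⟩
  · obtain ⟨F', hF', hFe⟩ := exists_eq_zB (H := stabP (zI M ⟨Q, f⟩))
      (isBlk_stabP (hb.left hI.pair).pgroup hfC)
    exact ⟨F', hF', blockCoeff_eq_of_zB (centralizer_le_stabP hfC) hf hF' hFe,
      (isDefectGroup_subgroupOf_iff hF' hPT).2 (hFe.symm ▸ hD)⟩
  · rintro ⟨F', hF', hc, hD⟩
    have := (isDefectGroup_subgroupOf_iff hF' hPT).1 hD
    rwa [zB_eq_of_blockCoeff (centralizer_le_stabP hfC) hf hF' hc] at this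

end Cfsg.Agent.S4679
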