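import Cfsg.Statements.S4681
import Cfsg.Agent.Lib.BrauerPairs.FusionBridge
import Cfsg.Agent.Lib.BrauerPairs.Principal

set_option autoImplicit false
open Cfsg

namespace Cfsg.Agent.S4681

open Cfsg Cfsg.Agent.BrauerPairs Cfsg.Agent.Blocks

/-- Fix a prime p and a maximal ideal M of the algebraic integers containing p. Let B₀ be the principal p-block of the finite group G, P a Sylow p-subgroup and e₀ the principal p-block of C_G(P). Then (P, e₀) is a maximal Brauer pair of B₀, and the fusion system of B₀ on (P, e₀) is the fusion system of G on P: its maps from each subgroup of P are exactly the conjugation maps into P by elements of G. -/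
theorem result {G : Type*} [Group G] [Fintype G] (p : ℕ) [Fact p.Prime] (M : Ideal Cfsg.AlgInt) (hM : Cfsg.IsPModular p M) (S : Sylow p G) : Cfsg.IsMaximalBrauerPair p M (Cfsg.principalBlock M G) (S : Subgroup G) (Cfsg.principalBlock M (Subgroup.centralizer ((S : Subgroup G) : Set G))) ∧ ∀ F : Cfsg.FusionSystem (S : Subgroup G), Cfsg.IsBlockFusionSystemOn p M (Cfsg.principalBlock M G) (S : Subgroup G) (Cfsg.principalBlock M (Subgroup.centralizer ((S : Subgroup G) : Set G))) F → ∀ Q : Subgroup G, F.Hom Q = (Cfsg.groupFusionSystem (S : Subgroup G)).Hom Q := by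
  haveI := IsPModular.isPrime hM
  haveI : CharP (resField M) p := resField_charP hM
  have hp : IsPBlock M (principalBlock M (Subgroup.centralizer ((S : Subgroup G) : Set G))) :=
    isPBlock_principalBlock M _
  have hmax : IsMaximalBrauerPair p M (principalBlock M G) (S : Subgroup G)
      (principalBlock M (Subgroup.centralizer ((S : Subgroup G) : Set G))) :=
    (maximal_iff hM).2 ⟨principal_pairOf hM S.isPGroup',
      (isDefectGroup_principal_iff hM _).2 ⟨S, rfl⟩⟩
  refine ⟨hmax, fun F hF Q => ?_⟩
  rw [eq_blockFusion hM hmax hF]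
  obtain ⟨-, -, hI⟩ := isMax_zI hM hmax
  refine Set.ext fun φ => ⟨?_, ?_⟩
  · intro hφ
    obtain ⟨g, hg, f, hf, hgf⟩ := hφ
    exact ⟨hf.le, fun u => (hg u).symm ▸ hgf.le (mem_cjS_of_eq u.2), g, hg⟩
  · rintro ⟨hQ, hS, g, hg⟩
    obtain ⟨f, hf, -⟩ := existsUnique_below hI.pair hQ
    have hgQ : cjS g Q ≤ (S : Subgroup G) := by
      rintro _ ⟨u, hu, rfl⟩
      have h1 := hS ⟨u, hu⟩
      rw [hg] at h1
      exact h1
    obtain ⟨f', hf', -⟩ := existsUnique_below hI.pair hgQ
    have hprin : IsPrin (Subgroup.centralizer (Q : Set G)) f := by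
      simpa using hf.isPrin (by simpa [zI] using isPrin_zB (M := M) (Subgroup.centralizer ((S : Subgroup G) : Set G)))
    have hprin' : IsPrin (Subgroup.centralizer (cjS g Q : Set G)) f' := by
      simpa using hf'.isPrin (by simpa [zI] using isPrin_zB (M := M) (Subgroup.centralizer ((S : Subgroup G) : Set G)))
    refine ⟨g, hg, f, hf, ?_⟩
    have : cj g f = f' := (IsPrin.unique ⟨by
      rw [← cjS_centralizer]; exact hprin.blk.cj g, by rw [aug_cj, hprin.aug_eq]⟩ hprin')
    show SubLE p ⊤ (cjS g Q, cj g f) _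
    rw [this]
    exact hf'

end Cfsg.Agent.S4681
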