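import Cfsg.Statements.S4682
import Cfsg.Agent.Lib.BrauerPairs.FusionBridge

set_option autoImplicit false
open Cfsg

namespace Cfsg.Agent.S4682

open Cfsg Cfsg.Agent.BrauerPairs Cfsg.Agent.Blocks

/-- Fix a prime p and a maximal ideal M of the algebraic integers containing p, a p-block B of the finite group G with maximal Brauer pair (P, e), P abelian, and a Brauer pair (Q, f) ≤ (P, e). Let T_Q be the stabilizer of f in N_G(Q) and T_P the stabilizer of e in N_G(P). Then every element of T_Q is a product of an element of T_P and an element of C_G(Q); and the index of C_G(Q) in T_Q equals the index of T_P ∩ C_G(Q) in T_P ∩ N_G(Q). -/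
theorem result {G : Type*} [Group G] [Fintype G] (p : ℕ) [Fact p.Prime] (M : Ideal Cfsg.AlgInt) (hM : Cfsg.IsPModular p M) (B : Set (Cfsg.IrrCharacter G)) (P : Subgroup G) (e : Set (Cfsg.IrrCharacter (Subgroup.centralizer (P : Set G)))) (hmax : Cfsg.IsMaximalBrauerPair p M B P e) (hab : ∀ x ∈ P, ∀ y ∈ P, x * y = y * x) (Q : Subgroup G) (f : Set (Cfsg.IrrCharacter (Subgroup.centralizer (Q : Set G)))) (hQP : Q ≤ P) (hf : Cfsg.IsPBlock M f) (hle : Cfsg.SubpairLE p M Q f P e) (TQ : Subgroup G) (hTQ : ∀ y : G, y ∈ TQ ↔ y ∈ Subgroup.normalizer (Q : Set G) ∧ Cfsg.StabilizesBlock (Subgroup.centralizer (Q : Set G)) f y) (TP : Subgroup G) (hTP : ∀ y : G, y ∈ TP ↔ y ∈ Subgroup.normalizer (P : Set G) ∧ Cfsg.StabilizesBlock (Subgroup.centralizer (P : Set G)) e y) : (∀ x ∈ TQ, ∃ y ∈ TP, ∃ c ∈ Subgroup.centralizer (Q : Set G), x = y * c) ∧ ((Subgroup.centralizer (Q : Set G)).subgroupOf TQ).index = ((TP ⊓ Subgroup.centralizer (Q : Set G)).subgroupOf (TP ⊓ Subgroup.normalizer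 (Q : Set G))).index := by
  haveI := IsPModular.isPrime hM
  haveI : CharP (resField M) p := resField_charP hM
  obtain ⟨hB, hp, hI⟩ := isMax_zI hM hmax
  have hb : SubLE p ⊤ (zI M ⟨Q, f⟩) (zI M ⟨P, e⟩) := subpairLE_imp hM (a := ⟨Q, f⟩) (b := ⟨P, e⟩) hle
  have hTQ' : TQ = stabP (zI M ⟨Q, f⟩) := Subgroup.ext fun y => (hTQ y).trans (stab_iff hf y)
  have hTP' : TP = stabP (zI M ⟨P, e⟩) := Subgroup.ext fun y => (hTP y).trans (stab_iff hp.2 y)
  subst hTQ' hTP'
  have hPC : P ≤ Subgroup.centralizer (Q : Set G) := fun u hu =>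
    Subgroup.mem_centralizer_iff.2 fun v hv => hab v (hQP hv) u hu
  refine ⟨fun x hx => ?_, ?_⟩
  · obtain ⟨y, hy, -, c, hc, h⟩ := abelian_stab_factor hI hb hPC hx
    exact ⟨y, hy, c, hc, h⟩
  · show (Subgroup.centralizer (Q : Set G)).relIndex _ =
      (stabP (zI M ⟨P, e⟩) ⊓ Subgroup.centralizer (Q : Set G)).relIndex
        (stabP (zI M ⟨P, e⟩) ⊓ Subgroup.normalizer (Q : Set G))
    set K := stabP (zI M ⟨P, e⟩) ⊓ Subgroup.normalizer (Q : Set G) with hK
    have e1 : stabP (zI M ⟨P, e⟩) ⊓ Subgroup.centralizer (Q : Set G) =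
        Subgroup.centralizer (Q : Set G) ⊓ K := by
      rw [hK, inf_comm (Subgroup.centralizer (Q : Set G)), inf_assoc,
        inf_eq_right.2 (Subgroup.centralizer_le_normalizer _)]
    have e2 : stabP (zI M ⟨Q, f⟩) = K ⊔ Subgroup.centralizer (Q : Set G) := by
      refine le_antisymm (fun x hx => ?_) (sup_le (fun y hy => inter_le_stabP hI hb hy.1 hy.2)
        (centralizer_le_stabP (hb.left hI.pair).blkC))
      obtain ⟨y, hy, hyQ, c, hc, rfl⟩ := abelian_stab_factor hI hb hPC hx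
      exact Subgroup.mul_mem_sup ⟨hy, hyQ⟩ hc
    rw [e1, e2, Subgroup.inf_relIndex_right]
    exact relIndex_sup_eq (inf_le_right.trans (normalizer_le_normalizer_centralizer Q))

end Cfsg.Agent.S4682
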