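import Cfsg.Statements.S4683
import Cfsg.Agent.Lib.BrauerPairs.Bridge
import Cfsg.Agent.Lib.Blocks.Subsections

set_option autoImplicit false
open Cfsg

namespace Cfsg.Agent.S4683

open Cfsg Cfsg.Agent.BrauerPairs Cfsg.Agent.Blocks Cfsg.Agent.Char

/-- Fix a prime p and a maximal ideal M of the algebraic integers containing p, a p-block B of the finite group G, a p-element u and a p-block e of C = C_G(u) such that (⟨u⟩, e) is a Brauer pair of B (a Brauer element of B). For χ ∈ B let χ_u be the e-part of the class function c ↦ χ(u c) on C and χ_u' the e-part of c ↦ χ(u⁻¹ c). Then the sum over χ ∈ B and over the p-regular elements s of C of χ_u(s)·χ_u'(s⁻¹) equals the order of C times the p-regular rank of e (the number of irreducible Brauer characters of e). -/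
theorem result {G : Type*} [Group G] [Fintype G] (p : ℕ) [Fact p.Prime] (M : Ideal Cfsg.AlgInt) (hM : Cfsg.IsPModular p M) (B : Set (Cfsg.IrrCharacter G)) (u : G) (hu : ∃ k : ℕ, orderOf u = p ^ k) (e : Set (Cfsg.IrrCharacter (Subgroup.centralizer (Subgroup.zpowers u : Set G)))) (hBe : Cfsg.IsBrauerPairOf p M B (Subgroup.zpowers u) e) : ∑ᶠ χ ∈ B, ∑ᶠ s : Subgroup.centralizer (Subgroup.zpowers u : Set G), Cfsg.pRegularPart p (Cfsg.blockPart e (fun c : Subgroup.centralizer (Subgroup.zpowers u : Set G) => (χ : G → ℂ) (u * c))) s * Cfsg.blockPart e (fun c : Subgroup.centralizer (Subgroup.zpowers u : Set G) => (χ : G → ℂ) (u⁻¹ * c)) s⁻¹ = (Nat.card (Subgroup.centralizer (Subgroup.zpowers u : Set G)) : ℂ) * (Cfsg.blockRank p e : ℂ) := by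
  classical
  haveI := IsPModular.isPrime hM
  obtain ⟨⟨-, he⟩, hB, hocc⟩ := hBe
  have hC := centralizer_zpowers_eq u
  have hU : e ∈ unitBlocks M (restrictElt (Subgroup.centralizer (Subgroup.zpowers u : Set G)) (blockEltR M B)) := by
    refine mem_unitBlocks.2 ⟨he, fun ξ hξ => ?_⟩
    have h := hocc ξ hξ
    rw [show restrictElt (Subgroup.centralizer (Subgroup.zpowers u : Set G)) (blockEltR M B) =
      BrauerPairs.restr (Subgroup.centralizer (Subgroup.zpowers u : Set G)) (blockEltR M B) from rfl, omegaR_restr]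
    rwa [show (fun g => ((blockEltR M B).coeff g : ℂ)) = blockCoeff B from
      funext fun g => coeff_blockEltR hB g]
  have hinv : ∀ (χ : IrrCharacter G) (s : (Subgroup.centralizer (Subgroup.zpowers u : Set G))),
      blockPart e (fun c : (Subgroup.centralizer (Subgroup.zpowers u : Set G)) => (χ : G → ℂ) (u⁻¹ * c)) s⁻¹ =
        (starRingEnd ℂ) (blockPart e (secFun u (Subgroup.centralizer (Subgroup.zpowers u : Set G)) (χ : G → ℂ)) s) := by
    intro χ s
    rw [blockPart_eq_pair, blockPart_eq_pair, map_mul, map_inv₀, map_natCast, map_sum]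
    congr 1
    refine Fintype.sum_equiv (Equiv.inv (Subgroup.centralizer (Subgroup.zpowers u : Set G))) _ _ fun w => ?_
    rw [map_mul]
    congr 1
    · simp only [secFun, Equiv.inv_apply, Subgroup.coe_inv]
      rw [← irr_inv, mul_inv_rev, inv_inv]
      have h1 := IsCharacter.isClassFunction (irr_isCharacter χ) (u⁻¹ * (w : G)) (w : G)
      rw [← h1]
      congr 1
      group
    · unfold blockPair
      rw [map_sum]
      refine Finset.sum_congr rfl fun φ _ => ?_
      rw [map_mul, Equiv.inv_apply, irr_inv, irr_inv, Complex.conj_conj]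
  rw [finsum_mem_eq_finite_toFinset_sum _ (Set.toFinite B)]
  simp only [finsum_eq_sum_of_fintype]
  rw [Finset.sum_comm, blockRank_eq hM he, mul_inv_cancel_left₀
    (Nat.cast_ne_zero.2 Nat.card_pos.ne'), Finset.sum_filter]
  refine Finset.sum_congr rfl fun s _ => ?_
  by_cases hs : p ∣ orderOf s
  · rw [if_neg (not_not.2 hs)]
    exact Finset.sum_eq_zero fun χ _ => by simp [pRegularPart, IsPRegular, hs]
  · rw [if_pos hs]
    have h := blockPart_secFun_gram hM hu hC hB he hs hs
    rw [if_pos hU] at h
    rw [← h]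
    refine Finset.sum_congr (by ext; simp) fun χ _ => ?_
    rw [hinv]
    simp only [pRegularPart, IsPRegular, hs, not_false_eq_true, if_true]
    rfl

end Cfsg.Agent.S4683
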