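import Cfsg.Statements.S4684
import Cfsg.Agent.Lib.Star.Focal
import Cfsg.Agent.Lib.BrauerPairs.FusionBridge

set_option autoImplicit false
open Cfsg

namespace Cfsg.Agent.S4684

/-- Fix a prime p and a maximal ideal M of the algebraic integers containing p, a p-block B of the finite group G with maximal Brauer pair (P, e) and fusion system F on P. Then the number of irreducible characters of height zero in B is divisible by the index in P of the focal subgroup of F. -/
theorem result {G : Type*} [Group G] [Fintype G] (p : ℕ) [Fact p.Prime] (M : Ideal Cfsg.AlgInt) (hM : Cfsg.IsPModular p M) (B : Set (Cfsg.IrrCharacter G)) (P : Subgroup G) (e : Set (Cfsg.IrrCharacter (Subgroup.centralizer (P : Set G)))) (hmax : Cfsg.IsMaximalBrauerPair p M B P e) (F : Cfsg.FusionSystem P) (hF : Cfsg.IsBlockFusionSystemOn p M B P e F) : (F.focalSubgroup.subgroupOf P).index ∣ Nat.card {χ : Cfsg.IrrCharacter G // χ ∈ B ∧ Cfsg.blockHeight p B (χ : G → ℂ) = 0} := by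
  haveI := hM.2.1.isPrime
  haveI : CharP (Cfsg.Agent.Blocks.resField M) p := Cfsg.Agent.Blocks.resField_charP hM
  obtain ⟨hB, hp, hm⟩ := Cfsg.Agent.BrauerPairs.isMax_zI hM hmax
  have hgen : ∀ (g : G) (b : Cfsg.Agent.BrauerPairs.Pr (Cfsg.Agent.Blocks.resField M) G),
      Cfsg.Agent.BrauerPairs.SubLE p ⊤ b (Cfsg.Agent.BrauerPairs.zI M ⟨P, e⟩) →
      Cfsg.Agent.BrauerPairs.SubLE p ⊤ (Cfsg.Agent.BrauerPairs.cjP g b)
        (Cfsg.Agent.BrauerPairs.zI M ⟨P, e⟩) →
      ∀ u ∈ b.1, u⁻¹ * (g * u * g⁻¹) ∈ F.focalSubgroup := by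
    intro g b hb hgb u hu
    refine Subgroup.subset_closure ⟨b.1, Cfsg.conjHom b.1 g, ⟨u, hu⟩, ?_, rfl⟩
    rw [Cfsg.Agent.BrauerPairs.eq_blockFusion hM hmax hF]
    exact ⟨g, fun _ => rfl, b.2, hb, hgb⟩
  exact Cfsg.Agent.Star.focal_index_dvd_card hM hB hp.2 hm F.focalSubgroup hgen
    (fun g hg u hu => hgen g _ Relation.ReflTransGen.refl
      (by rw [hm.cjP_eq hg]; exact Relation.ReflTransGen.refl) u hu)

end Cfsg.Agent.S4684
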