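import Cfsg.Statements.S4688
import Cfsg.Agent.Lib.BrauerPairs.NilBlock

set_option autoImplicit false
open Cfsg

namespace Cfsg.Agent.S4688

open Cfsg Cfsg.Agent.BrauerPairs Cfsg.Agent.Blocks

/-- Fix a prime p and a maximal ideal M of the algebraic integers containing p, and a nilpotent p-block B of the finite group G with maximal Brauer pair (P, e). Then for every Brauer pair (Q, f) of B, f is a nilpotent block of C_G(Q); and if moreover (Q, f) ≤ (P, e), then C_P(Q) is a defect group of f as a block of C_G(Q). -/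
theorem result {G : Type*} [Group G] [Fintype G] (p : ℕ) [Fact p.Prime] (M : Ideal Cfsg.AlgInt) (hM : Cfsg.IsPModular p M) (B : Set (Cfsg.IrrCharacter G)) (P : Subgroup G) (e : Set (Cfsg.IrrCharacter (Subgroup.centralizer (P : Set G)))) (hmax : Cfsg.IsMaximalBrauerPair p M B P e) (hnil : Cfsg.IsNilpotentBlock p M B) (Q : Subgroup G) (f : Set (Cfsg.IrrCharacter (Subgroup.centralizer (Q : Set G)))) (hQf : Cfsg.IsBrauerPairOf p M B Q f) : Cfsg.IsNilpotentBlock p M f ∧ (Cfsg.SubpairLE p M Q f P e → Cfsg.IsDefectGroup p M f ((P ⊓ Subgroup.centralizer (Q : Set G)).subgroupOf (Subgroup.centralizer (Q : Set G)))) := by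
  haveI := IsPModular.isPrime hM
  haveI : CharP (resField M) p := resField_charP hM
  obtain ⟨hB, hp, hI⟩ := isMax_zI hM hmax
  obtain ⟨hq, -, hqo⟩ := (isBrauerPairOf_iff hM).1 hQf
  have hn := ((isNilpotentBlock_iff hM).1 hnil).2
  refine ⟨isNilpotentBlock_of_isNilB hM hq.2 (IsNilB.centralizer hn hqo), fun hle => ?_⟩
  have hb : SubLE p ⊤ (zI M ⟨Q, f⟩) (zI M ⟨P, e⟩) :=
    subpairLE_imp hM (a := ⟨Q, f⟩) (b := ⟨P, e⟩) hle
  rw [isDefectGroup_subgroupOf_iff hq.2 inf_le_right]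
  refine (fullyCentralized_iff hI hb).1 ⟨hb.le, ?_⟩
  intro R hR
  obtain ⟨φ, hφ, rfl⟩ := hR
  rw [fusion_inner_of_isNilB hI hn] at hφ
  obtain ⟨-, u, hu, hue⟩ := hφ
  show Nat.card (P ⊓ Subgroup.centralizer (φ.range : Set G) : Subgroup G) ≤
    Nat.card (P ⊓ Subgroup.centralizer (Q : Set G) : Subgroup G)
  rw [range_eq_cjS hue, show Subgroup.centralizer (cjS u (zI M ⟨Q, f⟩).1 : Set G) =
    cjS u (Subgroup.centralizer (Q : Set G)) from (cjS_centralizer u Q).symm]
  conv_lhs => rw [← cjS_eq_of_mem_normalizer (Subgroup.le_normalizer (H := P) hu), ← cjS_inf]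
  exact (card_cjS u _).le

end Cfsg.Agent.S4688
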