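import Cfsg.Statements.S4689
import Cfsg.Agent.Lib.BrauerPairs.NilpotentMain

set_option autoImplicit false
open Cfsg

namespace Cfsg.Agent.S4689

/-- Fix a prime p and a maximal ideal M of the algebraic integers containing p, and a nilpotent p-block B of the finite group G. Then B has p-regular rank one (a single irreducible Brauer character), and some χ₀ ∈ B restricts to that Brauer character: every χ ∈ B agrees on the p-regular elements with a natural-number multiple of χ₀. -/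
theorem result {G : Type*} [Group G] [Fintype G] (p : ℕ) [Fact p.Prime] (M : Ideal Cfsg.AlgInt) (hM : Cfsg.IsPModular p M) (B : Set (Cfsg.IrrCharacter G)) (hnil : Cfsg.IsNilpotentBlock p M B) : Cfsg.blockRank p B = 1 ∧ ∃ χ₀ ∈ B, ∀ χ ∈ B, ∃ d : ℕ, ∀ x : G, Cfsg.pRegularPart p (χ : G → ℂ) x = (d : ℂ) * Cfsg.pRegularPart p (χ₀ : G → ℂ) x := by
  haveI := Cfsg.Agent.Blocks.IsPModular.isPrime hM
  haveI : CharP (Cfsg.Agent.Blocks.resField M) p := Cfsg.Agent.Blocks.resField_charP hM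
  obtain ⟨hB, -⟩ := (Cfsg.Agent.BrauerPairs.isNilpotentBlock_iff hM).1 hnil
  obtain ⟨P, hP⟩ := Cfsg.Agent.Blocks.exists_isDefectGroup (p := p) hB
  have hD := (Cfsg.Agent.BrauerPairs.isDefectGroup_iff hB P).1 hP
  obtain ⟨e, he⟩ := Cfsg.Agent.BrauerPairs.exists_pairOf_defGrp
    (Cfsg.Agent.BrauerPairs.isBlk_Ek hB) hD
  obtain ⟨χ₀, hχ₀, -, Φ, -, -, hreg, hsurj⟩ :=
    Cfsg.Agent.NilpotentMain.exists_nilpotent_structure hM hnil (a := (P, e)) ⟨he, hD⟩
  have hmul := Cfsg.Agent.NilpotentMain.multiples_of_structure hreg hsurj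
  exact ⟨Cfsg.Agent.NilpotentMain.blockRank_of_multiples hχ₀ hmul, χ₀, hχ₀, hmul⟩

end Cfsg.Agent.S4689
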