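import Cfsg.Statements.S4693
import Cfsg.Agent.Lib.BrauerPairs.Correspondence

set_option autoImplicit false
open Cfsg

namespace Cfsg.Agent.S4693

open Cfsg Cfsg.Agent.BrauerPairs Cfsg.Agent.Blocks

/-- Fix a prime p and a maximal ideal M of the algebraic integers containing p, a p-block B of the finite group G with maximal Brauer pair (P, e) and fusion system F on P, and a Brauer pair (Q, f) ≤ (P, e) with Q centric in F. Suppose every element of G normalizes Q and stabilizes f. Then the idempotent of B agrees with that of f modulo M at every element of G, and f is the idempotent of a nilpotent block of Q·C_G(Q): some p-block of Q·C_G(Q) has the idempotent coefficients of f and is nilpotent. -/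
theorem result {G : Type*} [Group G] [Fintype G] (p : ℕ) [Fact p.Prime] (M : Ideal Cfsg.AlgInt) (hM : Cfsg.IsPModular p M) (B : Set (Cfsg.IrrCharacter G)) (P : Subgroup G) (e : Set (Cfsg.IrrCharacter (Subgroup.centralizer (P : Set G)))) (hmax : Cfsg.IsMaximalBrauerPair p M B P e) (F : Cfsg.FusionSystem P) (hF : Cfsg.IsBlockFusionSystemOn p M B P e F) (Q : Subgroup G) (f : Set (Cfsg.IrrCharacter (Subgroup.centralizer (Q : Set G)))) (hQP : Q ≤ P) (hf : Cfsg.IsPBlock M f) (hle : Cfsg.SubpairLE p M Q f P e) (hcen : F.IsCentric Q) (hG : ∀ x : G, x ∈ Subgroup.normalizer (Q : Set G) ∧ Cfsg.StabilizesBlock (Subgroup.centralizer (Q : Set G)) f x) : (∀ g : G, Cfsg.MemLocalIdeal M (Cfsg.blockCoeff B g - Cfsg.subgroupBlockCoeff (Subgroup.centralizer (Q : Set G)) f g)) ∧ ∃ F' : Set (Cfsg.IrrCharacter ↥(Q ⊔ Subgroup.centralizer (Q : Set G))), Cfsg.IsPBlock M F' ∧ (∀ t : ↥(Q ⊔ Subgroup.centralizer (Q : Set G)), Cfsg.blockCoeff F' t = Cfsg.subgroupBlockCoeff (Subgroup.centralizer (Q :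 Set G)) f (t : G)) ∧ Cfsg.IsNilpotentBlock p M F' := by
  haveI := IsPModular.isPrime hM
  haveI : CharP (resField M) p := resField_charP hM
  obtain ⟨hB, hp, hI⟩ := isMax_zI hM hmax
  have hb : SubLE p ⊤ (zI M ⟨Q, f⟩) (zI M ⟨P, e⟩) :=
    subpairLE_imp hM (a := ⟨Q, f⟩) (b := ⟨P, e⟩) hle
  have hbp := hb.left hI.pair
  refine ⟨fun g => ?_, ?_⟩
  · have h := pairOf_stable_eq (hb.pairOf_iff.2 hI.pairOf)
      (top_le_iff.1 fun x _ => (stab_iff hf x).1 (hG x))
    obtain ⟨hm, he⟩ := coeff_zB_eq (M := M) hf g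
    have h2 : (Ek M B).coeff g = (zB M (Subgroup.centralizer (Q : Set G)) f).coeff g :=
      congrArg (fun z : MonoidAlgebra (resField M) G => z.coeff g) h
    rw [coeff_Ek hB, he, res_eq_res_iff] at h2
    exact h2
  · have hcen' : (blockFusion (isMax_zI hM hmax).2.2).IsCentric Q := eq_blockFusion hM hmax hF ▸ hcen
    have hD := (centric_iff hI hb).1 hcen'
    have hle' : (Q ⊔ Subgroup.centralizer (Q : Set G)) ≤ stabP (zI M ⟨Q, f⟩) :=
      sup_le (self_le_stabP hbp.blkC) (centralizer_le_stabP hbp.blkC)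
    obtain ⟨F', hF', hFe⟩ := exists_eq_zB (H := Q ⊔ Subgroup.centralizer (Q : Set G))
      (isBlk_of_le hbp.pgroup (show Q ≤ Q ⊔ Subgroup.centralizer (Q : Set G) from le_sup_left)
        (hle'.trans (stabP_le_normalizer _))
        (show Subgroup.centralizer (Q : Set G) ≤ Q ⊔ Subgroup.centralizer (Q : Set G) from
          le_sup_right)
        hbp.blkC fun u hu => isInvElt_stabP (zI M ⟨Q, f⟩) u (hle' hu))
    refine ⟨F', hF', blockCoeff_eq_of_zB le_sup_right hf hF' hFe,
      isNilpotentBlock_of_isNilB hM hF' ?_⟩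
    rw [hFe]
    exact isNilB_sup_centralizer (b := zI M ⟨Q, f⟩) hbp hD

end Cfsg.Agent.S4693
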