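import Cfsg.Statements.S4694
import Cfsg.Agent.Lib.Blocks.WeightPair

set_option autoImplicit false
open Cfsg

namespace Cfsg.Agent.S4694

/-- Fix a prime p and a maximal ideal M of the algebraic integers containing p, a p-block B of the finite group G and a Brauer pair (Q, e) of B. Let T be the stabilizer of e in N_G(Q) and suppose that (Q, e) carries a weight: the block of T whose idempotent is that of e contains an irreducible character χ that is constant on the cosets of Q and whose degree has p-part equal to the p-part of the index of Q in T. Then Z(Q) is a defect group of e as a block of C_G(Q), and Q is the largest normal p-subgroup of T: every p-subgroup of T normalized by T lies in Q. -/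
theorem result {G : Type*} [Group G] [Fintype G] (p : ℕ) [Fact p.Prime] (M : Ideal Cfsg.AlgInt) (hM : Cfsg.IsPModular p M) (B : Set (Cfsg.IrrCharacter G)) (Q : Subgroup G) (e : Set (Cfsg.IrrCharacter (Subgroup.centralizer (Q : Set G)))) (hQe : Cfsg.IsBrauerPairOf p M B Q e) (T : Subgroup G) (hT : ∀ y : G, y ∈ T ↔ y ∈ Subgroup.normalizer (Q : Set G) ∧ Cfsg.StabilizesBlock (Subgroup.centralizer (Q : Set G)) e y) (F' : Set (Cfsg.IrrCharacter T)) (hF' : Cfsg.IsPBlock M F') (hF'e : ∀ t : T, Cfsg.blockCoeff F' t = Cfsg.subgroupBlockCoeff (Subgroup.centralizer (Q : Set G)) e (t : G)) (χ : Cfsg.IrrCharacter T) (hχ : χ ∈ F') (hχQ : ∀ q : G, q ∈ Q → ∀ t : T, ∀ t' : T, (t' : G) = q * (t : G) → (χ : T → ℂ) t' = (χ : T → ℂ) t) (hdeg : (Cfsg.charDegree (χ : T → ℂ)).factorization p + (Nat.card Q).factorization p = (Nat.card T).factorization p) : Cfsg.IsDefectGroup p M e ((Q ⊓ Subgroup.centralizer (Q : Set G)).subgroupOf (Subgroup.centralizer (Q : Set G))) ∧ ∀ R : Subgroup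 G, R ≤ T → IsPGroup p R → (∀ t ∈ T, t ∈ Subgroup.normalizer (R : Set G)) → R ≤ Q := by
  classical
  haveI := hM.2.1.isPrime
  obtain ⟨⟨hQp, he⟩, -, -⟩ := hQe
  set C := Subgroup.centralizer (Q : Set G) with hC
  haveI : Fintype T := Fintype.ofFinite T
  haveI : Fintype C := Fintype.ofFinite C
  have hQC : ∀ c ∈ C, ∀ q ∈ Q, c * q = q * c := fun c hc q hq =>
    (Subgroup.mem_centralizer_iff.mp hc q hq).symm
  have hCN : ∀ c ∈ C, c ∈ Subgroup.normalizer (Q : Set G) := fun c hc => by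
    refine Subgroup.mem_normalizer_iff.mpr fun a => ⟨fun ha => ?_, fun ha => ?_⟩
    · rwa [hQC c hc a ha, mul_inv_cancel_right]
    · have h1 := hQC c hc _ ha
      rw [inv_mul_cancel_right] at h1
      exact mul_left_cancel h1 ▸ ha
  have hNC : ∀ y ∈ Subgroup.normalizer (Q : Set G), ∀ c ∈ C, y * c * y⁻¹ ∈ C := fun y hy c hc => by
    refine Subgroup.mem_centralizer_iff.mpr fun q hq => ?_
    have h1 : y⁻¹ * q * y ∈ Q := by
      have := (Subgroup.mem_normalizer_iff.mp (Subgroup.inv_mem _ hy) q).mp hq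
      rwa [inv_inv] at this
    have h2 := hQC c hc _ h1
    calc q * (y * c * y⁻¹) = y * ((y⁻¹ * q * y) * c) * y⁻¹ := by group
      _ = y * (c * (y⁻¹ * q * y)) * y⁻¹ := by rw [h2]
      _ = y * c * y⁻¹ * q := by group
  have hCT : C ≤ T := fun c hc => (hT c).mpr ⟨hCN c hc, ?_, fun φ hφ => ⟨φ, hφ, fun k k' hk => ?_⟩⟩
  rotate_left
  · exact Subgroup.le_normalizer hc
  · rw [show k' = ⟨c, hc⟩ * k * (⟨c, hc⟩ : C)⁻¹ from Subtype.ext hk]
    exact Cfsg.Agent.Char.IsCharacter.isClassFunction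
      (Cfsg.Agent.Char.IsIrrCharacter.isCharacter φ.2) k ⟨c, hc⟩
  let ι : C →* T := Subgroup.inclusion hCT
  haveI : ι.range.Normal := ⟨by
    rintro _ ⟨c, rfl⟩ y
    exact ⟨⟨(y : G) * c * (y : G)⁻¹, hNC y ((hT y).mp y.2).1 c c.2⟩, Subtype.ext rfl⟩⟩
  haveI hQn : (Q.subgroupOf T).Normal := ⟨fun q hq y =>
    (Subgroup.mem_normalizer_iff.mp ((hT y).mp y.2).1 q).mp hq⟩
  have hQpT : IsPGroup p (Q.subgroupOf T) :=
    hQp.comap_of_injective T.subtype T.subtype_injective
  have hχT : ∀ x ∈ Q.subgroupOf T, (χ : T → ℂ) x = (χ : T → ℂ) 1 := fun x hx =>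
    hχQ x hx 1 x (mul_one _).symm
  have hle : (Nat.card (Q.subgroupOf T)).factorization p ≤ (Nat.card Q).factorization p := by
    obtain ⟨a, ha⟩ := hQpT.exists_card_eq
    obtain ⟨b, hb⟩ := hQp.exists_card_eq
    have h1 : Nat.card (Q.subgroupOf T) ≤ Nat.card Q := Nat.card_le_card_of_injective
      (fun x : Q.subgroupOf T => (⟨((x : T) : G), x.2⟩ : Q)) fun x y h =>
        Subtype.ext (Subtype.ext (congrArg (fun z : Q => (z : G)) h))
    rw [ha, hb, Nat.Prime.factorization_pow Fact.out, Nat.Prime.factorization_pow Fact.out,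
      Finsupp.single_eq_same, Finsupp.single_eq_same]
    rw [ha, hb] at h1
    exact (Nat.pow_le_pow_iff_right (Fact.out : p.Prime).one_lt).mp h1
  have hsub : Q ≤ T := fun q hq => (hT q).mpr ⟨Subgroup.le_normalizer hq, ?_, fun φ hφ => ⟨φ, hφ, ?_⟩⟩
  rotate_left
  · refine Subgroup.mem_normalizer_iff.mpr fun c => ?_
    have hqN := Subgroup.le_normalizer (H := Q) hq
    refine ⟨fun h => hNC q hqN c h, fun h => ?_⟩
    have h2 := hNC q⁻¹ (Subgroup.inv_mem _ hqN) _ h
    rwa [show q⁻¹ * (q * c * q⁻¹) * q⁻¹⁻¹ = c by group] at h2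
  · intro k k' hk
    rw [show k' = k from Subtype.ext (by rw [hk, ← hQC _ k.2 q hq, mul_inv_cancel_right])]
  have hcardQ : Nat.card (Q.subgroupOf T) = Nat.card Q :=
    Nat.card_congr (Subgroup.subgroupOfEquivOfLe hsub).toEquiv
  rw [← hcardQ] at hdeg
  refine ⟨?_, fun R hR hRp hRn => ?_⟩
  · exact Cfsg.Agent.WeightPair.centric hM ι (Subgroup.inclusion_injective hCT) he (Q.subgroupOf T)
      hQpT (fun c x hx => Subtype.ext (hQC c c.2 x hx)) ((Q ⊓ C).subgroupOf C)
      (fun c => ⟨fun h => h.1, fun h => ⟨h, c.2⟩⟩) hF'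
      (fun c => by
        rw [hF'e]
        exact dif_pos c.2)
      (fun t ht => by
        rw [hF'e, Cfsg.subgroupBlockCoeff, dif_neg fun h => ht ⟨⟨t, h⟩, Subtype.ext rfl⟩])
      χ hχ hχT hdeg
  · haveI : (R.subgroupOf T).Normal := ⟨fun r hr y =>
      (Subgroup.mem_normalizer_iff.mp (hRn y y.2) r).mp hr⟩
    intro r hr
    exact Cfsg.Agent.WeightPair.radical χ (Q.subgroupOf T) (R.subgroupOf T)
      (hRp.comap_of_injective T.subtype T.subtype_injective) hQpT hχT hdeg
      (show (⟨r, hR hr⟩ : T) ∈ R.subgroupOf T from hr)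

end Cfsg.Agent.S4694
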