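import Cfsg.Statements.S4697
import Cfsg.Agent.Lib.BrauerPairs.AbelianRankTwo
-- import your own Cfsg.Agent.* helpers here

set_option autoImplicit false
open Cfsg

namespace Cfsg.Agent.S4697

/-- Let p be a prime, M a maximal ideal of the algebraic integers containing p, and B a p-block of the finite group G with an abelian defect group D of order p^d. If D has rank 2 (its least number of generators is 2) then B contains at most p^d irreducible characters; if D has rank 3 then the number k of irreducible characters in B satisfies k^3 ≤ p^(5d). -/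
theorem result {G : Type*} [Group G] [Finite G] (p : ℕ) [Fact p.Prime] (M : Ideal Cfsg.AlgInt) (hM : Cfsg.IsPModular p M) (B : Set (Cfsg.IrrCharacter G)) (hB : Cfsg.IsPBlock M B) (D : Subgroup G) (hBD : Cfsg.IsDefectGroup p M B D) (hab : IsMulCommutative D) (d : ℕ) (hDd : Nat.card D = p ^ d) : (Group.rank D = 2 → Nat.card B ≤ p ^ d) ∧ (Group.rank D = 3 → Nat.card B ^ 3 ≤ p ^ (5 * d)) := by
  classical
  haveI := Cfsg.Agent.Blocks.IsPModular.isPrime hM
  haveI : Fintype G := Fintype.ofFinite G
  have hDC : D ≤ Subgroup.centralizer (D : Set G) := fun x hx =>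
    Subgroup.mem_centralizer_iff.2 fun y hy =>
      congrArg Subtype.val (hab.is_comm.comm (⟨y, hy⟩ : D) ⟨x, hx⟩)
  refine ⟨fun h2 => ?_, fun h3 => ?_⟩
  · obtain ⟨S, hS, hcl⟩ := Group.rank_spec D
    rw [h2] at hS
    obtain ⟨a, b, -, rfl⟩ := Finset.card_eq_two.1 hS
    rw [← hDd]
    exact Cfsg.Agent.ProjVec.card_le_of_two_generated hM hB hBD hDC (a := a) (b := b)
      (by simpa using hcl)
  · obtain ⟨S, hS, hcl⟩ := Group.rank_spec D
    rw [h3] at hS
    obtain ⟨u, hu, hmax⟩ := Finset.exists_max_image S (fun v => orderOf v)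
      (Finset.card_pos.1 (by omega))
    obtain ⟨v, w, -, he⟩ := Finset.card_eq_two.1
      (show (S.erase u).card = 2 by rw [Finset.card_erase_of_mem hu, hS])
    have hS' : S = {u, v, w} := by rw [← Finset.insert_erase hu, he]
    refine Cfsg.Agent.ProjVec.card_pow_three_le_of_three_generated hM hB hBD hDC (a := u) (b := v)
      (c := w) ?_ (hmax v (hS' ▸ by simp)) (hmax w (hS' ▸ by simp)) hDd
    rw [hS'] at hcl
    simpa using hcl

end Cfsg.Agent.S4697
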