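import Cfsg.Statements.S4699
import Cfsg.Agent.Lib.TISylowTrace.Mackey

set_option autoImplicit false
set_option linter.style.haveILetI false
set_option maxHeartbeats 800000
open Cfsg

namespace Cfsg.Agent.S4699

open Polynomial in
theorem aeval_sub_one_pow_eq {k : Type*} [Field k] {A : Type*} [Ring A] [Algebra k A] {p : ℕ}
    [Fact p.Prime] [CharP k p] (n : ℕ) (a : A) :
    ∑ i ∈ Finset.range (p ^ n), a ^ i = (a - 1) ^ (p ^ n - 1) := by
  have hpoly : (∑ i ∈ Finset.range (p ^ n), (X : k[X]) ^ i) = (X - 1) ^ (p ^ n - 1) := by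
    have hne : (X - 1 : k[X]) ≠ 0 := by
      rw [← C_1]
      exact X_sub_C_ne_zero 1
    refine mul_right_cancel₀ hne ?_
    rw [geom_sum_mul, ← pow_succ, Nat.sub_add_cancel (Nat.one_le_pow _ _ (Fact.out : p.Prime).pos),
      sub_pow_char_pow, one_pow]
  have := congrArg (aeval a) hpoly
  simpa using this

open Polynomial in
theorem unipotent_pow_sub_one {k : Type*} [Field k] {A : Type*} [Ring A] [Algebra k A] {p : ℕ}
    [Fact p.Prime] [CharP k p] (n : ℕ) (a : A) : (a - 1) ^ (p ^ n) = a ^ (p ^ n) - 1 := by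
  have hpoly : ((X : k[X]) - 1) ^ (p ^ n) = X ^ (p ^ n) - 1 := by rw [sub_pow_char_pow, one_pow]
  have := congrArg (aeval a) hpoly
  simpa using this

theorem nilpotent_pow_finrank {F V : Type*} [Field F] [AddCommGroup V] [Module F V]
    [FiniteDimensional F V] (x : Module.End F V) (h : IsNilpotent x) :
    x ^ Module.finrank F V = 0 := by
  obtain ⟨j, hj⟩ := h
  have hc : x.charpoly = Polynomial.X ^ Module.finrank F V :=
    (LinearMap.charpoly_eq_X_pow_iff x).mpr fun m => ⟨j, by rw [hj]; rfl⟩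
  have := LinearMap.aeval_self_charpoly x
  rw [hc] at this
  simpa using this

/-- The trace from a cyclic `p`-group of order `q` has image inside the image of
`(y - 1) ^ (q - d)`. -/
theorem trace_mem {F V : Type*} [Field F] [AddCommGroup V] [Module F V] {p : ℕ} [Fact p.Prime]
    [CharP F p] (n d : ℕ) (y z : Module.End F V) (hz : (z - 1) ^ d = 0) (E : Module.End F V) :
    ∃ E' : Module.End F V,
      ∑ i ∈ Finset.range (p ^ n), y ^ i * E * z ^ i = (y - 1) ^ (p ^ n - d) * E' := by
  let L : Module.End F (Module.End F V) := LinearMap.mulLeft F y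
  let R : Module.End F (Module.End F V) := LinearMap.mulRight F z
  have hLR : Commute L R := LinearMap.ext fun W => by
    simp [L, R, mul_assoc]
  have hL1 : L - 1 = LinearMap.mulLeft F (y - 1) := LinearMap.ext fun W => by
    simp [L, sub_mul]
  have hR1 : R - 1 = LinearMap.mulRight F (z - 1) := LinearMap.ext fun W => by
    simp [R, mul_sub]
  have hsum : ∑ i ∈ Finset.range (p ^ n), y ^ i * E * z ^ i
      = (∑ i ∈ Finset.range (p ^ n), (L * R) ^ i) E := by
    rw [LinearMap.sum_apply]
    refine Finset.sum_congr rfl fun i _ => ?_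
    rw [hLR.mul_pow, LinearMap.pow_mulLeft, LinearMap.pow_mulRight]
    simp [mul_assoc]
  have hAB : L * R - 1 = (L - 1) * R + (R - 1) := by rw [sub_mul, one_mul]; abel
  have hc : Commute ((L - 1) * R) (R - 1) :=
    ((Commute.refl R).sub_right (Commute.one_right R)).symm.symm |> fun hR =>
      Commute.mul_left ((hLR.sub_left (Commute.one_left R)).sub_right (Commute.one_right _)) hR
  rw [hsum, aeval_sub_one_pow_eq (k := F) n (L * R), hAB, hc.add_pow, LinearMap.sum_apply]
  choose c hcE using fun a : Finset.range (p ^ n - 1 + 1) => show ∃ E' : Module.End F V,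
      (((L - 1) * R) ^ (a : ℕ) * (R - 1) ^ (p ^ n - 1 - a) * ((p ^ n - 1).choose a : ℕ)) E
        = (y - 1) ^ (p ^ n - d) * E' from by
    by_cases hb : d ≤ p ^ n - 1 - a
    · refine ⟨0, ?_⟩
      rw [mul_zero, hR1, LinearMap.pow_mulRight, pow_eq_zero_of_le hb hz]
      simp
    · have ha : p ^ n - d ≤ (a : ℕ) := by omega
      obtain ⟨t, ht⟩ := Nat.exists_eq_add_of_le ha
      refine ⟨(y - 1) ^ t * ((R ^ (a : ℕ) * (R - 1) ^ (p ^ n - 1 - a) *
        ((p ^ n - 1).choose a : ℕ)) E), ?_⟩
      rw [(hLR.sub_left (Commute.one_left R)).mul_pow, hL1, LinearMap.pow_mulLeft, ← mul_assoc,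
        ← pow_add, ← ht]
      simp [mul_assoc]
  refine ⟨∑ a : Finset.range (p ^ n - 1 + 1), c a, ?_⟩
  rw [Finset.mul_sum, ← Finset.sum_coe_sort (Finset.range (p ^ n - 1 + 1))]
  exact Finset.sum_congr rfl fun a _ => hcE a

open Cfsg.Agent.TISylowTrace

/-- Let p be a prime and G a finite group whose Sylow p-subgroup P is cyclic of order p^n with n ≥ 2 and meets every other Sylow p-subgroup trivially. Then every faithful irreducible representation of G on a finite-dimensional space over a finite field of characteristic p has dimension at least p^n − (p − 1). -/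
theorem result {G : Type*} [Group G] [Finite G] (p : ℕ) [Fact p.Prime] (P : Sylow p G) (hcyc : IsCyclic P) (n : ℕ) (hn : 2 ≤ n) (hPn : Nat.card P = p ^ n) (hTI : ∀ Q : Sylow p G, Q ≠ P → (P : Subgroup G) ⊓ (Q : Subgroup G) = ⊥) (F : Type*) [Field F] [Finite F] [CharP F p] (V : Type*) [AddCommGroup V] [Module F V] [FiniteDimensional F V] (ρ : Representation F G V) (hfaith : Function.Injective ρ) (hirr : ρ.IsIrreducible) : p ^ n - (p - 1) ≤ Module.finrank F V := by
  classical
  haveI : Fintype G := Fintype.ofFinite G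
  haveI : Fintype (P : Subgroup G) := Fintype.ofFinite _
  have hp : p.Prime := Fact.out
  by_contra hd
  rw [not_le] at hd
  set N := Subgroup.normalizer ((P : Subgroup G) : Set G) with hNdef
  obtain ⟨y0, hy0⟩ := hcyc.exists_generator
  let y : G := y0
  have hord : orderOf y = p ^ n := by
    rw [Subgroup.orderOf_coe, orderOf_eq_card_of_forall_mem_zpowers hy0, hPn]
  have hmem : ∀ x ∈ (P : Subgroup G), ∃ i : ℕ, i < p ^ n ∧ y ^ i = x := by
    intro x hx
    have h1 : (⟨x, hx⟩ : (P : Subgroup G)) ∈ Subgroup.zpowers y0 := hy0 _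
    rw [mem_zpowers_iff_mem_range_orderOf, Finset.mem_image] at h1
    obtain ⟨i, hi, hix⟩ := h1
    refine ⟨i, ?_, ?_⟩
    · rw [Finset.mem_range, ← Subgroup.orderOf_coe, hord] at hi
      exact hi
    · exact congrArg Subtype.val hix
  let Y : Module.End F V := ρ y
  have hYq : Y ^ (p ^ n) = 1 := by
    show ρ y ^ (p ^ n) = 1
    rw [← map_pow, ← hord, pow_orderOf_eq_one, map_one]
  have hnil : IsNilpotent (Y - 1) :=
    ⟨p ^ n, by rw [unipotent_pow_sub_one (k := F), hYq, sub_self]⟩
  let d := Module.finrank F V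
  let Z : Module.End F V := ρ y⁻¹
  have hZq : Z ^ (p ^ n) = 1 := by
    show ρ y⁻¹ ^ (p ^ n) = 1
    rw [← map_pow, inv_pow, ← hord, pow_orderOf_eq_one, inv_one, map_one]
  have hZ : (Z - 1) ^ d = 0 := nilpotent_pow_finrank _
    ⟨p ^ n, by rw [unipotent_pow_sub_one (k := F), hZq, sub_self]⟩
  -- the conjugates of `y` under the normalizer
  let S : Finset G := Finset.univ.filter fun s => ∃ c ∈ N, c * y * c⁻¹ = s
  have hSP : ∀ s ∈ S, s ∈ (P : Subgroup G) := by
    intro s hs
    obtain ⟨c, hc, rfl⟩ := (Finset.mem_filter.mp hs).2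
    exact (Subgroup.mem_normalizer_iff.mp hc y).mp y0.2
  have hr : ∀ s : S, ∃ r : ℕ, y ^ r = s ∧ ¬ p ∣ r := by
    intro s
    obtain ⟨i, -, hi⟩ := hmem s (hSP s s.2)
    refine ⟨i, hi, ?_⟩
    rintro ⟨j, rfl⟩
    obtain ⟨c, -, hc⟩ := (Finset.mem_filter.mp s.2).2
    have h1 : orderOf (s : G) = p ^ n := by
      rw [← hc, ← hord]
      exact orderOf_injective (MulAut.conj c).toMonoidHom (MulAut.conj c).injective y
    have h2 : (s : G) ^ (p ^ (n - 1)) = 1 := by
      rw [← hi, ← pow_mul, show p * j * p ^ (n - 1) = p ^ n * j from ?_, pow_mul, ← hord,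
        pow_orderOf_eq_one, one_pow]
      rw [show p ^ n = p * p ^ (n - 1) by rw [← pow_succ']; congr 1; omega]
      ring
    have h3 := orderOf_dvd_of_pow_eq_one h2
    rw [h1, Nat.pow_dvd_pow_iff_le_right hp.one_lt] at h3
    omega
  choose r hr hrp using hr
  -- the invariant endomorphism
  let f : Module.End F V := ∑ s ∈ S, (ρ s - 1) ^ (p - 1)
  have hfN : ∀ a ∈ N, ρ a * f = f * ρ a := by
    intro a ha
    simp only [f, Finset.mul_sum, Finset.sum_mul]
    refine Finset.sum_bij (fun s _ => a * s * a⁻¹) ?_ ?_ ?_ ?_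
    · intro s hs
      obtain ⟨c, hc, rfl⟩ := (Finset.mem_filter.mp hs).2
      exact Finset.mem_filter.mpr ⟨Finset.mem_univ _, a * c, mul_mem ha hc, by group⟩
    · intro s _ t _ h
      simpa using h
    · intro t ht
      obtain ⟨c, hc, rfl⟩ := (Finset.mem_filter.mp ht).2
      exact ⟨a⁻¹ * c * y * (a⁻¹ * c)⁻¹, Finset.mem_filter.mpr
        ⟨Finset.mem_univ _, a⁻¹ * c, mul_mem (inv_mem ha) hc, rfl⟩, by group⟩
    · intro s _
      have h : SemiconjBy (ρ a) (ρ s - 1) (ρ (a * s * a⁻¹) - 1) := by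
        show ρ a * (ρ s - 1) = (ρ (a * s * a⁻¹) - 1) * ρ a
        rw [mul_sub, sub_mul, mul_one, one_mul, ← map_mul, ← map_mul, inv_mul_cancel_right]
      exact h.pow_right (p - 1)
  -- `f` is `(Y - 1) ^ (p - 1)` times a unit
  let U : Polynomial F := ∑ s : S, (∑ i ∈ Finset.range (r s), Polynomial.X ^ i) ^ (p - 1)
  have hfU : f = (Y - 1) ^ (p - 1) * Polynomial.aeval Y U := by
    simp only [f, U, map_sum, Finset.mul_sum, map_pow, Polynomial.aeval_X]
    rw [← Finset.sum_coe_sort S]
    refine Finset.sum_congr rfl fun s _ => ?_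
    have hc : Commute (Y - 1) (∑ i ∈ Finset.range (r s), Y ^ i) :=
      Commute.sum_right _ _ _ fun i _ =>
        (((Commute.refl Y).sub_left (Commute.one_left Y))).pow_right i
    rw [← hc.mul_pow, mul_geom_sum, ← hr s, map_pow]
  have hScard : ¬ p ∣ S.card := by
    intro hdvd
    -- the orbit of `y` has size prime to `p`
    let C : Subgroup N := (Subgroup.centralizer ({y} : Set G)).subgroupOf N
    have hcard : Nat.card (N ⧸ C) = S.card := by
      rw [← Fintype.card_coe, ← Nat.card_eq_fintype_card]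
      let ψ : N → S := fun c => ⟨(c : G) * y * (c : G)⁻¹,
        Finset.mem_filter.mpr ⟨Finset.mem_univ _, c, c.2, rfl⟩⟩
      have hψ : ∀ a b : N, ψ a = ψ b ↔ a⁻¹ * b ∈ C := by
        intro a b
        rw [Subgroup.mem_subgroupOf, Subgroup.mem_centralizer_singleton_iff, Subtype.ext_iff]
        show (a : G) * y * (a : G)⁻¹ = (b : G) * y * (b : G)⁻¹ ↔
          ((a : G)⁻¹ * (b : G)) * y = y * ((a : G)⁻¹ * (b : G))
        constructor
        · intro h
          calc ((a : G)⁻¹ * (b : G)) * y = (a : G)⁻¹ * ((b : G) * y * (b : G)⁻¹) * (b : G) := by group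
            _ = y * ((a : G)⁻¹ * (b : G)) := by rw [← h]; group
        · intro h
          calc (a : G) * y * (a : G)⁻¹
              = (a : G) * (y * ((a : G)⁻¹ * (b : G))) * (b : G)⁻¹ := by group
            _ = _ := by rw [← h]; group
      refine Nat.card_congr (Equiv.ofBijective
        (fun q => Quotient.liftOn' q ψ fun a b h => (hψ a b).mpr ?_) ⟨?_, ?_⟩)
      · rwa [QuotientGroup.leftRel_apply] at h
      · intro a b
        induction a using QuotientGroup.induction_on with
        | H a => induction b using QuotientGroup.induction_on with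
          | H b => exact fun h => QuotientGroup.eq.mpr ((hψ a b).mp h)
      · intro s
        obtain ⟨c, hc, hcs⟩ := (Finset.mem_filter.mp s.2).2
        exact ⟨((⟨c, hc⟩ : N) : N ⧸ C), Subtype.ext hcs⟩
    have h1 : C.index ∣ ((P : Subgroup G).subgroupOf N).index := by
      refine Subgroup.index_dvd_of_le ?_
      intro x hx
      rw [Subgroup.mem_subgroupOf] at hx ⊢
      rw [Subgroup.mem_centralizer_singleton_iff]
      obtain ⟨i, -, hi⟩ := hmem x hx
      rw [← hi]
      exact ((Commute.refl y).pow_left i).eq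
    have h2 : ((P : Subgroup G).subgroupOf N).index ∣ (P : Subgroup G).index :=
      Subgroup.relIndex_dvd_index_of_le Subgroup.le_normalizer
    exact P.not_dvd_index (dvd_trans hdvd (hcard ▸ dvd_trans h1 h2))
  have hU1 : U.eval 1 = (S.card : F) := by
    simp only [U, Polynomial.eval_finsetSum, Polynomial.eval_pow, Polynomial.eval_X, one_pow,
      Finset.sum_const, Finset.card_range, nsmul_one]
    rw [Finset.sum_congr rfl (g := fun _ => (1 : F)) fun s _ => ?_]
    · simp
    · have h1 : ((r s : ℕ) : ZMod p) ≠ 0 := by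
        rw [Ne, ZMod.natCast_eq_zero_iff]; exact hrp s
      have h2 := congrArg (ZMod.castHom (dvd_refl p) F) (ZMod.pow_card_sub_one_eq_one h1)
      simpa using h2
  have hunit : IsUnit (Polynomial.aeval Y U) := by
    obtain ⟨Q, hQ⟩ : (Polynomial.X - Polynomial.C 1) ∣ U - Polynomial.C (U.eval 1) :=
      Polynomial.X_sub_C_dvd_sub_C_eval
    have h1 : Polynomial.aeval Y U
        = (Y - 1) * Polynomial.aeval Y Q + algebraMap F _ (S.card : F) := by
      have h2 := congrArg (Polynomial.aeval Y) hQ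
      simp only [map_sub, map_mul, Polynomial.aeval_X, Polynomial.aeval_C, hU1, map_one] at h2
      rw [← h2]; abel
    rw [h1]
    have hu : IsUnit (algebraMap F (Module.End F V) (S.card : F)) := by
      refine IsUnit.map _ (isUnit_iff_ne_zero.mpr ?_)
      rwa [Ne, CharP.cast_eq_zero_iff F p]
    have hcQ : Commute (Y - 1) (Polynomial.aeval Y Q) := by
      have := (Commute.all (Polynomial.X - Polynomial.C (1 : F)) Q).map (Polynomial.aeval Y)
      simpa using this
    exact (hcQ.isNilpotent_mul_right hnil).isUnit_add_right_of_commute hu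
      (Algebra.commute_algebraMap_right _ _)
  -- the trace
  obtain ⟨g, E, hgG, hg⟩ := exists_trace_eq_add ρ (P : Subgroup G) N Subgroup.le_normalizer
    (fun g hg x hx => free_of_ti P hTI g hg x hx) f hfN
  have hT : ∑ x : (P : Subgroup G), conjEnd ρ (x : G) E
      = ∑ i ∈ Finset.range (p ^ n), Y ^ i * E * Z ^ i := by
    symm
    refine Finset.sum_bij (fun i _ => (⟨y ^ i, pow_mem y0.2 i⟩ : (P : Subgroup G))) ?_ ?_ ?_ ?_
    · intros; exact Finset.mem_univ _
    · intro i hi j hj h
      rw [Finset.mem_range, ← hord] at hi hj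
      exact pow_injOn_Iio_orderOf hi hj (congrArg Subtype.val h)
    · intro x _
      obtain ⟨i, hi, hix⟩ := hmem x x.2
      exact ⟨i, Finset.mem_range.mpr hi, Subtype.ext hix⟩
    · intro i _
      simp only [conjEnd, Y, Z, map_pow, ← inv_pow]
  obtain ⟨E', hE'⟩ := trace_mem (p := p) n d Y Z hZ E
  have hm : p - 1 < p ^ n - d := by show p - 1 < p ^ n - Module.finrank F V; omega
  obtain ⟨m', hm'⟩ := Nat.exists_eq_add_of_lt hm
  -- `g` vanishes
  have hg0 : g = 0 := by
    have hgr : g = (Y - 1) * ((Y - 1) ^ (p - 1 - 1) * Polynomial.aeval Y U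
        + (Y - 1) ^ (p ^ n - d - 1) * E') := by
      rw [hg, hT, hE', hfU, mul_add, ← mul_assoc, ← mul_assoc, ← pow_succ', ← pow_succ',
        Nat.sub_add_cancel (by have := hp.two_le; omega),
        Nat.sub_add_cancel (by omega)]
    haveI := hirr
    let φ : Representation.IntertwiningMap ρ ρ :=
      ⟨g, fun a => LinearMap.ext fun v => ?_⟩
    rotate_left
    · exact (LinearMap.congr_fun (hgG a) v).symm
    rcases Representation.IsIrreducible.bijective_or_eq_zero φ with hb | h0
    · exfalso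
      have hgs : Function.Surjective g := hb.2
      have hsurj : Function.Surjective (Y - 1 : Module.End F V) := by
        intro v
        obtain ⟨w, rfl⟩ := hgs v
        rw [hgr]
        exact ⟨_, rfl⟩
      obtain ⟨j, hj⟩ := hnil
      have hz : ∀ v : V, v = 0 := by
        intro v
        obtain ⟨w, hw⟩ := hsurj.iterate j v
        rw [← hw, ← Module.End.coe_pow, hj]
        rfl
      have hone : ρ y = ρ 1 := LinearMap.ext fun v => by rw [hz (ρ y v), hz (ρ 1 v)]
      have := hfaith hone
      rw [this, orderOf_one] at hord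
      exact absurd hord.symm (Nat.one_lt_pow (by omega) hp.one_lt).ne'
    · exact congrArg Representation.IntertwiningMap.toLinearMap h0
  -- conclusion
  have hkey : (Y - 1) ^ (p - 1) = (Y - 1) ^ ((p - 1) + 1) *
      ((Y - 1) ^ m' * (-E') * (hunit.unit⁻¹ : (Module.End F V)ˣ)) := by
    have h1 : (Y - 1) ^ (p - 1) * Polynomial.aeval Y U = (Y - 1) ^ (p ^ n - d) * (-E') := by
      rw [hg, hT, hE', hfU, add_eq_zero_iff_eq_neg] at hg0
      rw [hg0, mul_neg]
    rw [← mul_assoc, ← mul_assoc, ← pow_add,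
      show p - 1 + 1 + m' = p ^ n - d by omega, ← h1, mul_assoc, IsUnit.mul_val_inv, mul_one]
  have hzero : (Y - 1) ^ (p - 1) = 0 := by
    generalize hA : ((Y - 1) ^ m' * (-E') * (hunit.unit⁻¹ : (Module.End F V)ˣ)) = A at hkey
    have hj : ∀ j, (Y - 1) ^ (p - 1) = (Y - 1) ^ ((p - 1) + j) * A ^ j := by
      intro j
      induction j with
      | zero => simp
      | succ j ih =>
        calc (Y - 1) ^ (p - 1) = (Y - 1) ^ ((p - 1) + j) * A ^ j := ih
          _ = (Y - 1) ^ j * (Y - 1) ^ (p - 1) * A ^ j := by rw [← pow_add, add_comm (p - 1) j]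
          _ = (Y - 1) ^ j * ((Y - 1) ^ ((p - 1) + 1) * A) * A ^ j := by rw [← hkey]
          _ = (Y - 1) ^ ((p - 1) + (j + 1)) * A ^ (j + 1) := by
            rw [← mul_assoc, ← pow_add, mul_assoc, ← pow_succ',
              show j + ((p - 1) + 1) = (p - 1) + (j + 1) by ring]
    obtain ⟨j, hj0⟩ := hnil
    rw [hj j, pow_add, hj0, mul_zero, zero_mul]
  have hYp : Y ^ p = 1 := by
    have h1 := unipotent_pow_sub_one (k := F) (p := p) 1 Y
    rw [pow_one, pow_eq_zero_of_le (Nat.sub_le p 1) hzero] at h1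
    exact sub_eq_zero.mp h1.symm
  have hyp : y ^ p = 1 := hfaith (by rw [map_pow, map_one]; exact hYp)
  have h1 := orderOf_dvd_of_pow_eq_one hyp
  rw [hord] at h1
  have h2 : p ^ n ≤ p := Nat.le_of_dvd hp.pos h1
  have h3 : p ^ 1 < p ^ n := Nat.pow_lt_pow_right hp.one_lt (by omega)
  rw [pow_one] at h3
  omega

end Cfsg.Agent.S4699
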