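import Cfsg.Statements.S4703
import Cfsg.Agent.Lib.Feit.Cases
import Cfsg.Agent.Lib.Feit.Reduce
import Cfsg.Agent.Lib.Feit.Quotient

set_option autoImplicit false
open Cfsg

namespace Cfsg.Agent.S4703

/-- Let G be a finite group whose centre Z has odd order, p > 7 a prime, and suppose a Sylow p-subgroup of G has order p and is not normal. Let ζ be a faithful irreducible character of G (only the identity lies in its kernel). Then either G/Z is isomorphic to PSL(2, p) and ζ has degree (p + 1)/2 or (p − 1)/2, or ζ has degree at least p − 2. -/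
theorem result {G : Type*} [Group G] [Finite G] (hZ : Odd (Nat.card (Subgroup.center G))) (p : ℕ) [Fact p.Prime] (hp : 7 < p) (P : Sylow p G) (hP : Nat.card P = p) (hnn : ¬ (P : Subgroup G).Normal) (ζ : G → ℂ) (hζ : Cfsg.IsIrrCharacter G ζ) (hfaith : ∀ g : G, ζ g = ζ 1 → g = 1) : ((∃ (F : Type) (_ : Field F) (_ : Fintype F), Fintype.card F = p ∧ Nonempty (G ⧸ Subgroup.center G ≃* Matrix.ProjectiveSpecialLinearGroup (Fin 2) F)) ∧ (2 * Cfsg.charDegree ζ = p + 1 ∨ 2 * Cfsg.charDegree ζ = p - 1)) ∨ p - 2 ≤ Cfsg.charDegree ζ := by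
  haveI : Fintype G := Fintype.ofFinite G
  by_cases hd : p - 2 ≤ charDegree ζ
  · exact Or.inr hd
  have hpp : p.Prime := Fact.out
  have h11 : 11 ≤ p := by
    by_contra h
    interval_cases p <;> norm_num at hpp
  set d := charDegree ζ with hdd
  obtain ⟨ρ, hρ, -, -, L, hLn, hcore, hirr⟩ :=
    Cfsg.Agent.Feit.exists_core (d := d) (⟨ζ, hζ⟩ : IrrCharacter G) rfl hfaith (by omega) (by omega) P hnn
  haveI := hLn
  haveI := hirr
  haveI : Fintype L := Fintype.ofFinite L
  have hinj : Function.Injective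
      (MonoidHom.comp ρ L.subtype : Representation ℂ L (Fin d → ℂ)) := hρ.comp L.subtype_injective
  rcases Cfsg.Agent.Feit.core_cases hcore h11 (d := d) (by omega) _ hinj with
    ⟨hd2, ⟨e⟩⟩ | ⟨t, e, -, -, -, -, hev, -, -⟩
  · refine Or.inl ⟨⟨ZMod p, inferInstance, inferInstance, ZMod.card p,
      Cfsg.Agent.Feit.quotient_of_core (by omega) ρ hρ L hcore hirr e⟩, ?_⟩
    omega
  · exact absurd (Cfsg.Agent.Feit.odd_center ρ hρ L hZ) (Nat.not_odd_iff_even.2 hev)

end Cfsg.Agent.S4703
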