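import Cfsg.Statements.S4704
import Cfsg.Agent.Lib.Feit.GapDegree

set_option autoImplicit false
open Cfsg

namespace Cfsg.Agent.S4704

/-- Let G be a finite group with centre Z, p > 7 a prime, and suppose a Sylow p-subgroup of G has order p and is not normal. Let ζ be a faithful irreducible character of G and t the number of conjugacy classes of G consisting of elements of order p. Then one of the following holds: G/Z is isomorphic to PSL(2, p), ζ has degree (p + 1)/2 or (p − 1)/2 and t = 2; or ζ has degree at least p − 1; or ζ has degree at least p + 3/2 − √(p + 5/4) and p ≤ t^2 − 3t + 1. -/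
theorem result {G : Type*} [Group G] [Finite G] (p : ℕ) [Fact p.Prime] (hp : 7 < p) (P : Sylow p G) (hP : Nat.card P = p) (hnn : ¬ (P : Subgroup G).Normal) (ζ : G → ℂ) (hζ : Cfsg.IsIrrCharacter G ζ) (hfaith : ∀ g : G, ζ g = ζ 1 → g = 1) (t : ℕ) (ht : Nat.card {c : ConjClasses G // ∃ g : G, ConjClasses.mk g = c ∧ orderOf g = p} = t) : ((∃ (F : Type) (_ : Field F) (_ : Fintype F), Fintype.card F = p ∧ Nonempty (G ⧸ Subgroup.center G ≃* Matrix.ProjectiveSpecialLinearGroup (Fin 2) F)) ∧ (2 * Cfsg.charDegree ζ = p + 1 ∨ 2 * Cfsg.charDegree ζ = p - 1) ∧ t = 2) ∨ p - 1 ≤ Cfsg.charDegree ζ ∨ ((p : ℝ) + 3 / 2 - Real.sqrt ((p : ℝ) + 5 / 4) ≤ (Cfsg.charDegree ζ : ℝ) ∧ (p : ℤ) ≤ (t : ℤ) ^ 2 - 3 * t + 1) := by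
  haveI : NeZero p := ⟨(Fact.out : p.Prime).ne_zero⟩
  by_cases hd : p - 1 ≤ charDegree ζ
  · exact Or.inr (Or.inl hd)
  have hp11 : 11 ≤ p := by
    by_contra h
    have := (Fact.out : p.Prime)
    interval_cases p <;> norm_num at this
  rcases Cfsg.Agent.Feit.degree_classes (d := charDegree ζ) hp11 P hP hnn ⟨ζ, hζ⟩ rfl hfaith (by omega) ht with
    ⟨h2, ht2, hiso⟩ | ⟨e, hde, he, hpt⟩
  · exact Or.inl ⟨⟨ZMod p, inferInstance, inferInstance, ZMod.card p, hiso⟩, by omega, ht2⟩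
  · exact Or.inr (Or.inr ⟨Cfsg.Agent.Feit.sqrt_bound hde he, hpt⟩)

end Cfsg.Agent.S4704
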