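import Cfsg.Statements.S4707
import Cfsg.Agent.Lib.DegreePTwo.DegreeTwoP

set_option autoImplicit false
set_option linter.style.haveILetI false
open Cfsg

namespace Cfsg.Agent.S4707

open MulAction DegreePTwo
open scoped Pointwise

/-- The group `SL(2, q)`, `q = p - 1 > 4`, has no subgroup of index `2 p`. -/
theorem eq_five {G : Type*} [Group G] [Fintype G] {p : ℕ} {one θ : Cfsg.IrrCharacter G}
    {Y : Finset (Cfsg.IrrCharacter G)} (S : Blk p one θ Y) (H : Subgroup G) (hH : H.index = 2 * p) :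
    p = 5 := by
  classical
  haveI := Fact.mk Nat.prime_two
  have h5 := S.five
  obtain ⟨a, ha, hG, hC⟩ := S.exists_pow_two
  by_contra hp5
  have ha3 : 3 ≤ a := by
    by_contra h
    interval_cases a <;> omega
  obtain ⟨b, rfl⟩ : ∃ b, a = b + 1 := ⟨a - 1, by omega⟩
  have hHc : Nat.card H = 2 ^ b * (p - 2) := by
    have h := Subgroup.card_mul_index H
    rw [hH, hG, pow_succ] at h
    refine Nat.eq_of_mul_eq_mul_right (show 0 < 2 * p by omega) ?_
    rw [h]; ring
  obtain ⟨D⟩ : Nonempty (Sylow 2 H) := inferInstance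
  have hodd : Odd (p - 2) := by
    obtain ⟨r, hr⟩ := S.prime.odd_of_ne_two (by omega)
    exact ⟨r - 1, by omega⟩
  have hDc : Nat.card (D : Subgroup H) = 2 ^ b := by
    rw [D.card_eq_multiplicity, hHc, Nat.factorization_mul (by positivity) (by omega), Finsupp.add_apply,
      Nat.factorization_pow, Finsupp.smul_apply, Nat.prime_two.factorization_self, smul_eq_mul, mul_one,
      Nat.factorization_eq_zero_of_not_dvd (by rw [← even_iff_two_dvd, Nat.not_even_iff_odd]; exact hodd),
      add_zero]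
  obtain ⟨Q, hQ⟩ := (D.2.map H.subtype).exists_le_sylow
  have hb4 : 4 ≤ 2 ^ b := by
    calc 4 = 2 ^ 2 := rfl
      _ ≤ 2 ^ b := Nat.pow_le_pow_right (by norm_num) (by omega)
  have hinQ : ∀ d ∈ (D : Subgroup H), (d : G) ∈ (Q : Subgroup G) := fun d hd => hQ ⟨d, hd, rfl⟩
  have hinv : ∀ d ∈ (D : Subgroup H), d ≠ 1 → orderOf (d : G) = 2 := by
    intro d hd hd1
    obtain ⟨u, huQ, hu⟩ := S.exists_involution Q
    exact orderOf_eq_prime (by rw [sq]; exact (S.sylow_eq_centralizer Q hu huQ).2 _ (hinQ d hd))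
      (fun e => hd1 (Subtype.ext e))
  have hcentQ : ∀ d ∈ (D : Subgroup H), d ≠ 1 →
      (Q : Subgroup G) = Subgroup.centralizer ({(d : G)} : Set G) := fun d hd hd1 =>
    (S.sylow_eq_centralizer Q (hinv d hd hd1) (hinQ d hd)).1
  -- a prime order element of odd order centralizes no involution
  have hno : ∀ (y d : G) (r : ℕ), r.Prime → r ≠ 2 → orderOf y = r → orderOf d = 2 →
      y * d ≠ d * y := by
    intro y d r hr hr2 hy hd h
    have hmem : y ∈ Subgroup.centralizer ({d} : Set G) := Subgroup.mem_centralizer_singleton_iff.2 h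
    have := Subgroup.orderOf_dvd_natCard _ hmem
    rw [hy, hC d hd] at this
    exact hr2 ((Nat.prime_dvd_prime_iff_eq hr Nat.prime_two).1 (hr.dvd_of_dvd_pow this))
  have hcount : ∀ (y : G) (r : ℕ), r.Prime → r ≠ 2 → orderOf y = r →
      ∀ K : Subgroup G, (∀ d ∈ K, y * d * y⁻¹ ∈ K) → (∀ d ∈ K, d ≠ 1 → orderOf d = 2) →
        Nat.card K % r = 1 := by
    intro y r hr hr2 hy K hinvK hK2
    haveI := Fact.mk hr
    have hyN : Subgroup.zpowers y ≤ Subgroup.normalizer (K : Set G) := by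
      rw [Subgroup.zpowers_le, Subgroup.mem_normalizer_iff]
      intro d
      refine ⟨hinvK d, fun hd => ?_⟩
      have hpow : ∀ k : ℕ, ∀ e ∈ K, y ^ k * e * (y ^ k)⁻¹ ∈ K := by
        intro k
        induction k with
        | zero => intro e he; simpa using he
        | succ k ih =>
          intro e he
          have := hinvK _ (ih e he)
          rw [pow_succ']
          simpa [mul_assoc] using this
      have h1 := hpow (orderOf y - 1) _ hd
      have hpos := orderOf_pos y
      have e1 : y ^ (orderOf y - 1) = y⁻¹ := by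
        rw [eq_inv_iff_mul_eq_one, ← pow_succ, Nat.sub_add_cancel hpos, pow_orderOf_eq_one]
      rw [e1] at h1
      simpa [mul_assoc] using h1
    let act : MulAction (Subgroup.zpowers y) K :=
      { smul := fun g d => ⟨(g : G) * d * (g : G)⁻¹, (Subgroup.mem_normalizer_iff.1 (hyN g.2) d).1 d.2⟩
        one_smul := fun d => Subtype.ext (show (1 : G) * (d : G) * (1 : G)⁻¹ = d by simp)
        mul_smul := fun g g' d => Subtype.ext (show ((g : G) * (g' : G)) * (d : G) * ((g : G) * (g' : G))⁻¹ =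
          (g : G) * ((g' : G) * d * (g' : G)⁻¹) * (g : G)⁻¹ by group) }
    letI := act
    have hpr : IsPGroup r (Subgroup.zpowers y) :=
      IsPGroup.of_card (n := 1) (by rw [Nat.card_zpowers, hy, pow_one])
    have hfp : Nat.card (fixedPoints (Subgroup.zpowers y) K) = 1 := by
      rw [Nat.card_eq_one_iff_unique]
      refine ⟨⟨fun a b => ?_⟩, ⟨⟨1, fun g => Subtype.ext (show (g : G) * (1 : G) * (g : G)⁻¹ = 1 by group)⟩⟩⟩
      suffices h : ∀ a : fixedPoints (Subgroup.zpowers y) K, ((a : K) : G) = 1 from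
        Subtype.ext (Subtype.ext ((h a).trans (h b).symm))
      intro a
      by_contra hne
      have he : y * ((a : K) : G) * y⁻¹ = ((a : K) : G) :=
        congrArg Subtype.val (a.2 ⟨y, Subgroup.mem_zpowers y⟩)
      exact hno y _ r hr hr2 hy (hK2 _ (a : K).2 hne) (mul_inv_eq_iff_eq_mul.1 he)
    have h := hpr.card_modEq_card_fixedPoints K
    rw [hfp] at h
    rw [h, Nat.mod_eq_of_lt hr.one_lt]
  -- the normalizer of `D` in `H` is `D`
  have hN : Subgroup.normalizer ((D : Subgroup H) : Set H) = (D : Subgroup H) := by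
    have hle : (D : Subgroup H) ≤ Subgroup.normalizer ((D : Subgroup H) : Set H) := Subgroup.le_normalizer
    refine (Subgroup.eq_of_le_of_card_ge hle ?_).symm
    by_contra hlt
    obtain ⟨k, hk⟩ := Subgroup.card_dvd_of_le hle
    have hk1 : k ≠ 1 := fun h => hlt (by rw [hk, h, mul_one])
    obtain ⟨r, hr, hrk⟩ := Nat.exists_prime_and_dvd hk1
    have hr2 : r ≠ 2 := by
      rintro rfl
      have h1 : Nat.card (D : Subgroup H) * 2 ∣ Nat.card H :=
        (Nat.mul_dvd_mul dvd_rfl hrk).trans (hk ▸ Subgroup.card_subgroup_dvd_card _)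
      rw [hDc, hHc, ← pow_succ] at h1
      have h2 : (2 ^ (b + 1)).Coprime (p - 2) :=
        Nat.Coprime.pow_left _ (Nat.coprime_two_left.2 hodd)
      have h3 := Nat.le_of_dvd (by positivity) (h2.dvd_of_dvd_mul_right h1)
      rw [pow_succ] at h3
      omega
    haveI := Fact.mk hr
    obtain ⟨y, hy⟩ := exists_prime_orderOf_dvd_card'
      (G := Subgroup.normalizer ((D : Subgroup H) : Set H)) r (hrk.trans ⟨_, hk.trans (mul_comm _ _)⟩)
    have hy' : orderOf ((y : H) : G) = r := by rw [Subgroup.orderOf_coe, Subgroup.orderOf_coe, hy]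
    obtain ⟨d₀, hd₀, hd₀1⟩ : ∃ d ∈ (D : Subgroup H), d ≠ 1 := by
      by_contra hne
      push Not at hne
      rw [(Subgroup.eq_bot_iff_forall _).2 hne, Subgroup.card_bot] at hDc
      omega
    have hconjD : ∀ d ∈ (D : Subgroup H), (y : H) * d * (y : H)⁻¹ ∈ (D : Subgroup H) := fun d hd =>
      (Subgroup.mem_normalizer_iff.1 y.2 d).1 hd
    have h1 := hcount _ r hr hr2 hy' ((D : Subgroup H).map H.subtype) (by
        rintro _ ⟨d, hd, rfl⟩
        exact ⟨_, hconjD d hd, rfl⟩) (by
        rintro _ ⟨d, hd, rfl⟩ hd1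
        exact hinv d hd fun e => hd1 (by rw [e]; rfl))
    have h2 := hcount _ r hr hr2 hy' (Q : Subgroup G) (by
        intro d hd
        set d₁ := (y : H) * d₀ * (y : H)⁻¹ with hd₁
        have hd₁1 : d₁ ≠ 1 := fun e => hd₀1 (conj_eq_one_iff.1 e)
        rw [hcentQ d₁ (hconjD d₀ hd₀) hd₁1]
        rw [hcentQ d₀ hd₀ hd₀1, Subgroup.mem_centralizer_singleton_iff] at hd
        rw [Subgroup.mem_centralizer_singleton_iff]
        simp only [hd₁, Subgroup.coe_mul, Subgroup.coe_inv]
        calc _ = ((y : H) : G) * (d * (d₀ : G)) * ((y : H) : G)⁻¹ := by group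
          _ = _ := by rw [hd]; group) (by
        intro d hd hd1
        obtain ⟨u, huQ, hu⟩ := S.exists_involution Q
        exact orderOf_eq_prime (by rw [sq]; exact (S.sylow_eq_centralizer Q hu huQ).2 d hd) hd1)
    rw [Subgroup.card_map_of_injective H.subtype_injective, hDc] at h1
    rw [hcentQ d₀ hd₀ hd₀1, hC _ (hinv d₀ hd₀ hd₀1), pow_succ', two_mul, Nat.add_mod, h1] at h2
    rw [Nat.mod_eq_of_lt (show 1 + 1 < r by have := hr.two_le; omega)] at h2
    omega
  -- transfer
  have hcent : Subgroup.normalizer ((D : Subgroup H) : Set H) ≤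
      Subgroup.centralizer ((D : Subgroup H) : Set H) := by
    rw [hN]
    intro x hx
    rw [Subgroup.mem_centralizer_iff]
    intro z hz
    by_cases hz1 : z = 1
    · rw [hz1, one_mul, mul_one]
    have := hinQ x hx
    rw [hcentQ z hz hz1, Subgroup.mem_centralizer_singleton_iff] at this
    exact (Subtype.ext this).symm
  set W := (MonoidHom.transferSylow D hcent).ker with hW
  haveI : W.Normal := MonoidHom.normal_ker _
  have hWc : Nat.card W = p - 2 := by
    have h := (MonoidHom.ker_transferSylow_isComplement' D hcent).card_mul_card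
    rw [hDc, hHc, mul_comm (2 ^ b) (p - 2)] at h
    exact Nat.eq_of_mul_eq_mul_right (by positivity) h
  have hfix : ∀ d ∈ (D : Subgroup H), d ≠ 1 → ∀ w ∈ W, d * w = w * d → w = 1 := by
    intro d hd hd1 w hw h
    have hmem : (w : G) ∈ Subgroup.centralizer ({(d : G)} : Set G) :=
      Subgroup.mem_centralizer_singleton_iff.2 (congrArg Subtype.val h).symm
    have h1 := Subgroup.orderOf_dvd_natCard _ hmem
    rw [hC _ (hinv d hd hd1), Subgroup.orderOf_coe] at h1
    have h2 := Subgroup.orderOf_dvd_natCard W hw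
    rw [hWc] at h2
    exact orderOf_eq_one_iff.1 (Nat.dvd_one.1
      ((Nat.Coprime.pow_left _ (Nat.coprime_two_left.2 hodd) : (2 ^ (b + 1)).Coprime (p - 2)) ▸
        Nat.dvd_gcd h1 h2))
  have hinvert : ∀ d ∈ (D : Subgroup H), d ≠ 1 → ∀ w ∈ W, d * w * d⁻¹ = w⁻¹ := by
    intro d hd hd1
    have hd2 : d * d = 1 := by
      apply Subtype.ext
      have := hinv d hd hd1
      rw [Subgroup.coe_mul, Subgroup.coe_one, ← sq, ← this, pow_orderOf_eq_one]
    have hWn : ∀ w ∈ W, d * w * d⁻¹ ∈ W := fun w hw => (inferInstance : W.Normal).conj_mem w hw d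
    let f : W → W := fun w => ⟨(w : H)⁻¹ * (d * w * d⁻¹), W.mul_mem (W.inv_mem w.2) (hWn w w.2)⟩
    have hf : Function.Injective f := by
      intro w w' e
      have e' : (w : H)⁻¹ * (d * w * d⁻¹) = (w' : H)⁻¹ * (d * w' * d⁻¹) := congrArg Subtype.val e
      have : (w' : H) * (w : H)⁻¹ = 1 := by
        refine hfix d hd hd1 _ (W.mul_mem w'.2 (W.inv_mem w.2)) ?_
        calc d * ((w' : H) * (w : H)⁻¹) = (d * w' * d⁻¹) * (d * w * d⁻¹)⁻¹ * d := by group
          _ = ((w' : H) * ((w' : H)⁻¹ * (d * w' * d⁻¹))) * (d * w * d⁻¹)⁻¹ * d := by group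
          _ = (w' : H) * (w : H)⁻¹ * d := by rw [← e']; group
      exact Subtype.ext (mul_inv_eq_one.1 this).symm
    intro w hw
    obtain ⟨v, hv⟩ := (Finite.injective_iff_surjective.1 hf) ⟨w, hw⟩
    have hv' : (v : H)⁻¹ * (d * v * d⁻¹) = w := congrArg Subtype.val hv
    have hdi : d⁻¹ = d := inv_eq_of_mul_eq_one_right hd2
    rw [← hv']
    calc d * ((v : H)⁻¹ * (d * v * d⁻¹)) * d⁻¹ = (d * (v : H)⁻¹ * d) * v * (d⁻¹ * d⁻¹) := by group
      _ = ((v : H)⁻¹ * (d * v * d⁻¹))⁻¹ := by rw [← mul_inv_rev d d, hd2, hdi]; simp [mul_assoc, hdi]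
  obtain ⟨d₁, hd₁, d₂, hd₂, h1, h2, h12⟩ : ∃ d₁ ∈ (D : Subgroup H), ∃ d₂ ∈ (D : Subgroup H),
      d₁ ≠ 1 ∧ d₂ ≠ 1 ∧ d₁ ≠ d₂ := by
    have hlt : 2 < Fintype.card (D : Subgroup H) := by rw [← Nat.card_eq_fintype_card, hDc]; omega
    obtain ⟨x, hx⟩ := Fintype.exists_ne_of_one_lt_card (by omega) (1 : (D : Subgroup H))
    obtain ⟨y, -, hy⟩ := Finset.exists_mem_notMem_of_card_lt_card
      (s := ({1, x} : Finset (D : Subgroup H))) (t := Finset.univ) (by
        rw [Finset.card_univ]
        exact lt_of_le_of_lt Finset.card_le_two hlt)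
    simp only [Finset.mem_insert, Finset.mem_singleton, not_or] at hy
    exact ⟨x, x.2, y, y.2, fun e => hx (Subtype.ext e), fun e => hy.1 (Subtype.ext e),
      fun e => hy.2 (Subtype.ext e.symm)⟩
  have hW1 : ∀ w ∈ W, w = 1 := by
    intro w hw
    have hd12 : d₁ * d₂ ≠ 1 := by
      intro e
      have hd2 : d₂ * d₂ = 1 := by
        apply Subtype.ext
        rw [Subgroup.coe_mul, Subgroup.coe_one, ← sq, ← hinv d₂ hd₂ h2, pow_orderOf_eq_one]
      exact h12 (mul_right_cancel (e.trans hd2.symm))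
    refine hfix _ ((D : Subgroup H).mul_mem hd₁ hd₂) hd12 w hw (mul_inv_eq_iff_eq_mul.1 ?_)
    calc d₁ * d₂ * w * (d₁ * d₂)⁻¹ = d₁ * (d₂ * w * d₂⁻¹) * d₁⁻¹ := by group
      _ = d₁ * w⁻¹ * d₁⁻¹ := by rw [hinvert d₂ hd₂ h2 w hw]
      _ = (d₁ * w * d₁⁻¹)⁻¹ := by group
      _ = w := by rw [hinvert d₁ hd₁ h1 w hw, inv_inv]
  have : Nat.card W = 1 := by
    rw [Subgroup.card_eq_one, Subgroup.eq_bot_iff_forall]
    exact hW1
  omega

/-- Let p > 3 be a prime and G a primitive permutation group of degree 2p that is not doubly transitive. If a Sylow p-subgroup of G has normalizer of order 2p, then p = 5 and G is isomorphic to the alternating group of degree 5. -/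
theorem result {α : Type*} [Fintype α] [DecidableEq α] {p : ℕ} [Fact p.Prime] (hp : 3 < p) (hα : Fintype.card α = 2 * p) (G : Subgroup (Equiv.Perm α)) (hprim : MulAction.IsPreprimitive G α) (hnot2 : ¬ MulAction.IsMultiplyPretransitive G α 2) (P : Sylow p G) (hN : Nat.card (Subgroup.normalizer ((P : Subgroup G) : Set G)) = 2 * p) : p = 5 ∧ Nonempty (G ≃* alternatingGroup (Fin 5)) := by
  classical
  have hcard : Nat.card α = 2 * p := by rw [Nat.card_eq_fintype_card, hα]
  have hp' := (Fact.out : p.Prime)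
  have h5 : 5 ≤ p := by
    by_contra h
    have : p = 4 := by omega
    subst this
    norm_num at hp'
  haveI := hprim
  obtain ⟨hsimple, one, θ, Y, S⟩ := exists_blk h5 hcard hprim hnot2 P hN
  obtain ⟨a₀⟩ : Nonempty α := (Nat.card_pos_iff.1 (by omega)).1
  have hp5 := eq_five S (stabilizer G a₀) (by rw [index_stabilizer_of_transitive, hcard])
  refine ⟨hp5, ?_⟩
  subst hp5
  haveI := hsimple
  refine Cfsg.Agent.S0494.result ?_
  rw [S.main.1]

end Cfsg.Agent.S4707
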