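import Cfsg.Statements.S4709
import Cfsg.Agent.Lib.Blocks.ExceptionalSetup
-- import your own Cfsg.Agent.* helpers here

set_option autoImplicit false
open Cfsg

namespace Cfsg.Agent.S4709

/-- Let p be a prime, M a maximal ideal of the algebraic integers containing p, and G a finite group with a nontrivial abelian Sylow p-subgroup P; put N = N_G(P), C = C_G(P). Suppose N/C is cyclic of order m with 1 < m < #P − 1 (C has index m in N and N is generated by C and one element), and C_G(y) ∩ N = C for every non-identity y ∈ P. Put r = (#P − 1)/m. Then there is s ≤ m such that the principal p-block is the disjoint union of a set X of s characters containing the principal character and a set Y of r characters, with integers a_χ ≠ 0 (χ ∈ X), d and a sign δ = ±1, such that: every χ ∈ X takes the value a_χ at every element whose p-part is a non-identity element of P; there is a map ζ from the non-principal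 linear characters ψ of P onto Y, constant on N-conjugacy classes, with ζ_ψ(z) = d + δ·Σ ψ'(y) for every z whose p-part y is a non-identity element of P, the sum running over the N-conjugates ψ' of ψ; (d − δ)^2 + (r − 1) d^2 + Σ_{χ ∈ X} a_χ^2 = m + 1; all members of Y agree on p-regular elements; and (r d − δ) η(g) + Σ_{χ ∈ X} a_χ χ(g) = 0 for every η ∈ Y and every p-regular g. -/
theorem result {G : Type*} [Group G] [Finite G] (p : ℕ) [Fact p.Prime] (M : Ideal Cfsg.AlgInt) (hM : Cfsg.IsPModular p M) (P : Sylow p G) (hab : IsMulCommutative P) (hP1 : Nat.card P ≠ 1) (m : ℕ) (hm1 : 1 < m) (hm2 : m + 1 < Nat.card P) (hCN : (Subgroup.centralizer ((P : Subgroup G) : Set G)).relIndex (Subgroup.normalizer ((P : Subgroup G) : Set G)) = m) (hcyc : ∃ g : G, g ∈ Subgroup.normalizer ((P : Subgroup G) : Set G) ∧ Subgroup.centralizer ((P : Subgroup G) : Set G) ⊔ Subgroup.zpowers g = Subgroup.normalizer ((P : Subgroup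 G) : Set G)) (hfrob : ∀ y : G, y ∈ (P : Subgroup G) → y ≠ 1 → Subgroup.centralizer ({y} : Set G) ⊓ Subgroup.normalizer ((P : Subgroup G) : Set G) = Subgroup.centralizer ((P : Subgroup G) : Set G)) : ∃ (s : ℕ) (X Y : Set (Cfsg.IrrCharacter G)), s ≤ m ∧ Cfsg.principalBlock M G = X ∪ Y ∧ Disjoint X Y ∧ Nat.card X = s ∧ Nat.card Y = (Nat.card P - 1) / m ∧ (∃ χ₁ ∈ X, (χ₁ : G → ℂ) = fun _ => 1) ∧ ∃ (a : Cfsg.IrrCharacter G → ℤ) (d δ : ℤ) (ζ : (↥(P : Subgroup G) →* ℂˣ) → Cfsg.IrrCharacter G), (δ = 1 ∨ δ = -1) ∧ (∀ χ ∈ X, a χ ≠ 0 ∧ ∀ z y : G, Cfsg.IsPPart p z y → y ∈ (P : Subgroup G) → y ≠ 1 → (χ : G → ℂ) z = (a χ : ℂ)) ∧ (∀ ψ : ↥(P : Subgroup G) →* ℂˣ, ψ ≠ 1 → ζ ψ ∈ Y) ∧ (∀ η ∈ Y, ∃ ψ : ↥(P : Subgroup G) →* ℂˣ, ψ ≠ 1 ∧ ζ ψ = η) ∧ (∀ ψ ψ' : ↥(P : Subgroup G) →* ℂˣ, ψ ≠ 1 → (∃ n : G, n ∈ Subgroup.normalizer ((P : Subgroup G) : Set G) ∧ ∀ w w' : ↥(P : Subgroup G), (w' : G) = n * w * n⁻¹ → ψ' w' = ψ w) → ζ ψ'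 = ζ ψ) ∧ (∀ ψ : ↥(P : Subgroup G) →* ℂˣ, ψ ≠ 1 → ∀ (z : G) (y : ↥(P : Subgroup G)), Cfsg.IsPPart p z (y : G) → (y : G) ≠ 1 → (ζ ψ : G → ℂ) z = (d : ℂ) + (δ : ℂ) * ∑ᶠ ψ' ∈ {ψ' : ↥(P : Subgroup G) →* ℂˣ | ∃ n : G, n ∈ Subgroup.normalizer ((P : Subgroup G) : Set G) ∧ ∀ w w' : ↥(P : Subgroup G), (w' : G) = n * w * n⁻¹ → ψ' w' = ψ w}, ((ψ' y : ℂˣ) : ℂ)) ∧ ((d - δ) ^ 2 + ((Nat.card P - 1) / m - 1 : ℤ) * d ^ 2 + ∑ᶠ χ ∈ X, a χ ^ 2 = (m : ℤ) + 1) ∧ (∀ η ∈ Y, ∀ η' ∈ Y, ∀ g : G, ¬ p ∣ orderOf g → (η : G → ℂ) g = (η' : G → ℂ) g) ∧ (∀ η ∈ Y, ∀ g : G, ¬ p ∣ orderOf g → ((((Nat.card P - 1) / m : ℕ) : ℂ) * d - δ) * (η : G → ℂ) g + ∑ᶠ χ ∈ X, (a χ : ℂ) * (χ : G → ℂ) g = 0) := by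
  classical
  haveI := Cfsg.Agent.Blocks.IsPModular.isPrime hM
  haveI : Fintype G := Fintype.ofFinite G
  haveI : Fintype (P : Subgroup G) := Fintype.ofFinite _
  have h := ExPrincipal.data_of_hyp hab hm1 hm2 hCN hfrob
  haveI := h.finite_dual
  haveI : Fintype (ExPrincipal.Dual (P : Subgroup G)) := Fintype.ofFinite _
  obtain ⟨F⟩ := ExPrincipal.exists_family h hM
  have hcard := F.card_Y h
  refine ⟨F.X.card, ↑F.X, ↑F.Y, F.card_X_le h, F.principalBlock_eq, F.disjoint,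
    by rw [Nat.card_coe_set_eq, Set.ncard_coe_finset], hcard, ⟨_, F.principal_mem_X, rfl⟩,
    F.a, F.d, F.δ, fun ψ => F.η (ExPrincipal.orb P ψ), F.sign,
    fun χ hχ => ⟨(F.val_other χ hχ).1, fun z y hz hy hy1 => F.value_other h hM hχ hz hy hy1⟩,
    fun ψ hψ => Finset.mem_image_of_mem _ (ExPrincipal.orb_mem_orbits P hψ),
    fun η hη => F.exists_preimage hη, ?_, ?_, ?_, ?_, ?_⟩
  · intro ψ ψ' _ hr
    show F.η _ = F.η _
    rw [ExPrincipal.orb_eq_of_rel hr]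
  · intro ψ hψ z y hz hy1
    rw [ExPrincipal.finsum_orbit]
    exact F.value_exc h hM hψ hz hy1
  · rw [finsum_mem_coe_finset, ← F.norm]
    have h1 := h.card_orbits_mul
    have h2 : 1 ≤ Nat.card P := Nat.card_pos
    have e : (((ExPrincipal.orbits P).card : ℕ) : ℤ) = ((Nat.card P : ℤ) - 1) / (m : ℤ) := by
      rw [show ((Nat.card P : ℤ) - 1) = (((Nat.card P - 1 : ℕ)) : ℤ) by omega,
        show Nat.card P - 1 = (ExPrincipal.orbits P).card * m from h1.symm, Nat.cast_mul,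
        Int.mul_ediv_cancel _ (by omega)]
    rw [e]
    rfl
  · intro η hη η' hη' g hg
    obtain ⟨i, hi, rfl⟩ := Finset.mem_image.1 hη
    obtain ⟨j, hj, rfl⟩ := Finset.mem_image.1 hη'
    exact F.regular_eq i hi j hj g hg
  · intro η hη g hg
    obtain ⟨i, hi, rfl⟩ := Finset.mem_image.1 hη
    have e : (ExPrincipal.orbits P).card = (Nat.card P - 1) / m := by
      rw [← hcard, Nat.card_coe_set_eq, Set.ncard_coe_finset, ExPrincipal.Family.Y,
        Finset.card_image_of_injOn F.inj]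
    rw [finsum_mem_coe_finset, ← e]
    exact F.regular_sum i hi g hg

end Cfsg.Agent.S4709
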