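import Cfsg.Statements.S4714
import Cfsg.Agent.Lib.Blocks.ProductBlock

set_option autoImplicit false
open Cfsg

namespace Cfsg.Agent.S4714

open Cfsg.Agent.Char Cfsg.Agent.Blocks in
theorem mul_formula {G : Type*} [Group G] [Fintype G] {p : ℕ} (hp : p.Prime) (D : Subgroup G)
    [D.Normal] (hD : IsPGroup p D) (hG : D ⊔ Subgroup.centralizer (D : Set G) = ⊤)
    (φ : Cfsg.IrrCharacter G) (ξ : Cfsg.IrrCharacter D)
    (hξ : ∀ x : D, (φ : G → ℂ) x * (ξ : D → ℂ) 1 = (φ : G → ℂ) 1 * (ξ : D → ℂ) x)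
    (y : D) (x : G) (hx : ¬ p ∣ orderOf x) :
    (φ : G → ℂ) ((y : G) * x) * (ξ : D → ℂ) 1 = (ξ : D → ℂ) y * (φ : G → ℂ) x := by
  haveI := Fact.mk hp
  haveI hCn : (Subgroup.centralizer (D : Set G)).Normal := inferInstance
  have hdec : ∀ g : G, ∃ a ∈ D, ∃ c ∈ Subgroup.centralizer (D : Set G), g = a * c := fun g => by
    obtain ⟨a, ha, c, hc, e⟩ := Subgroup.mem_sup_of_normal_right.1 (hG ▸ Subgroup.mem_top g :
      g ∈ D ⊔ Subgroup.centralizer (D : Set G))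
    exact ⟨a, ha, c, hc, e.symm⟩
  have hfix : ∀ g : G, ¬ p ∣ orderOf g → g ∈ Subgroup.centralizer (D : Set G) := by
    intro g hg
    obtain ⟨a, ha, c, hc, rfl⟩ := hdec g
    obtain ⟨i, hi⟩ := hD ⟨a, ha⟩
    have hi' : a ^ p ^ i = 1 := congrArg Subtype.val hi
    have hq : ((a * c : G) : G ⧸ Subgroup.centralizer (D : Set G)) = (a : G ⧸ _) := by
      rw [QuotientGroup.mk_mul, (QuotientGroup.eq_one_iff c).2 hc, mul_one]
    have h1 : orderOf ((a * c : G) : G ⧸ Subgroup.centralizer (D : Set G)) ∣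
        Nat.gcd (p ^ i) (orderOf (a * c)) := Nat.dvd_gcd
      (orderOf_dvd_of_pow_eq_one (by rw [hq, ← QuotientGroup.mk_pow, hi']; rfl))
      (orderOf_map_dvd (QuotientGroup.mk' _) _)
    rwa [Nat.Coprime.pow_left i (hp.coprime_iff_not_dvd.2 hg), Nat.dvd_one, orderOf_eq_one_iff,
      QuotientGroup.eq_one_iff] at h1
  have h := irr_mul_of_const φ (y : G) x fun x' u' hx' hu' => by
    obtain ⟨c, rfl⟩ := isConj_iff.1 hx'
    obtain ⟨d, rfl⟩ := isConj_iff.1 hu'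
    obtain ⟨a, ha, c₁, hc₁, rfl⟩ := hdec c
    obtain ⟨a₂, ha₂, d₁, hd₁, rfl⟩ := hdec d
    have hX : a * c₁ * (y : G) * (a * c₁)⁻¹ = a * (y : G) * a⁻¹ := by
      rw [mul_assoc a c₁, ← Subgroup.mem_centralizer_iff.1 hc₁ y y.2]; group
    have hd : d₁ * x * d₁⁻¹ ∈ Subgroup.centralizer (D : Set G) := hCn.conj_mem x (hfix x hx) d₁
    have hU : a₂ * d₁ * x * (a₂ * d₁)⁻¹ = d₁ * x * d₁⁻¹ := by
      rw [show a₂ * d₁ * x * (a₂ * d₁)⁻¹ = a₂ * (d₁ * x * d₁⁻¹) * a₂⁻¹ by group,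
        Subgroup.mem_centralizer_iff.1 hd a₂ ha₂, mul_inv_cancel_right]
    have h2 : a * (y : G) * a⁻¹ * (d₁ * x * d₁⁻¹) = (a * d₁) * ((y : G) * x) * (a * d₁)⁻¹ := by
      rw [show a * (y : G) * a⁻¹ * (d₁ * x * d₁⁻¹) = a * (y : G) * (a⁻¹ * (d₁ * x * d₁⁻¹)) by group,
        Subgroup.mem_centralizer_iff.1 hd a⁻¹ (D.inv_mem ha)]
      calc a * (y : G) * (d₁ * x * d₁⁻¹ * a⁻¹) = a * ((y : G) * d₁) * x * d₁⁻¹ * a⁻¹ := by group
        _ = a * (d₁ * (y : G)) * x * d₁⁻¹ * a⁻¹ := by rw [Subgroup.mem_centralizer_iff.1 hd₁ y y.2]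
        _ = _ := by group
    rw [hX, hU, h2, irr_conj_invariant]
  apply mul_left_cancel₀ (irr_one_ne_zero φ)
  linear_combination -(ξ : D → ℂ) 1 * h + (φ : G → ℂ) x * hξ y

/-- Let p be a prime, M a maximal ideal of the algebraic integers containing p, D a p-subgroup of the finite group G with G = D·C_G(D), and B a p-block with defect group D. Let χ be a member of B having D in its kernel (there is exactly one, the canonical character of B). Then the irreducible characters in B are exactly the functions θ on G for which there is an irreducible character ζ of D such that θ(yx) = ζ(y)χ(x) whenever y ∈ D, x has order prime to p and x commutes with y, and θ(z) = 0 whenever the p-part of z does not lie in D. -/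
theorem result {G : Type*} [Group G] [Finite G] (p : ℕ) [Fact p.Prime] (M : Ideal Cfsg.AlgInt) (hM : Cfsg.IsPModular p M) (D : Subgroup G) (hD : IsPGroup p D) (hG : D ⊔ Subgroup.centralizer (D : Set G) = ⊤) (B : Set (Cfsg.IrrCharacter G)) (hB : Cfsg.IsPBlock M B) (hBD : Cfsg.IsDefectGroup p M B D) (χ : Cfsg.IrrCharacter G) (hχ : χ ∈ B) (hχD : ∀ y ∈ D, (χ : G → ℂ) y = (χ : G → ℂ) 1) : (∀ θ : Cfsg.IrrCharacter G, θ ∈ B ↔ ∃ ζ : Cfsg.IrrCharacter D, (∀ (y : D) (x : G), ¬ p ∣ orderOf x → Commute (y : G) x → (θ : G → ℂ) ((y : G) * x) = (ζ : D → ℂ) y * (χ : G → ℂ) x) ∧ (∀ z : G, (∀ y : G, Cfsg.IsPPart p z y → y ∉ D) → (θ : G → ℂ) z = 0)) ∧ ∀ ζ : Cfsg.IrrCharacter D, ∃ θ ∈ B, (∀ (y : D) (x : G), ¬ p ∣ orderOf x → Commute (y : G) x → (θ : G → ℂ) ((y : G) * x) = (ζ : D → ℂ) y * (χ : G → ℂ) x) ∧ (∀ z : G, (∀ y : G, Cfsg.IsPPart p z y → y ∉ D) → (θ : G → ℂ) z = 0) := by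
  classical
  haveI : Fintype G := Fintype.ofFinite G
  haveI : Fintype D := Fintype.ofFinite D
  haveI := hM.2.1.isPrime
  haveI : D.Normal := Subgroup.normalizer_eq_top_iff.mp <| top_le_iff.mp <|
    hG ▸ sup_le Subgroup.le_normalizer (fun c hc => Subgroup.mem_normalizer_iff.mpr fun a => by
      constructor
      · intro ha
        rw [← Subgroup.mem_centralizer_iff.mp hc a ha, mul_inv_cancel_right]
        exact ha
      · intro ha
        have h1 := Subgroup.mem_centralizer_iff.mp hc _ ha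
        rw [inv_mul_cancel_right] at h1
        exact mul_left_cancel h1 ▸ ha)
  obtain ⟨θ₀, hθ₀, -, huniq, ξ, hξ, hreg, hbij⟩ := Cfsg.Agent.Blocks.product_block hM hD hG hB hBD
  obtain rfl : χ = θ₀ := huniq χ hχ hχD
  have hallD : ∀ E : Subgroup G, Cfsg.IsDefectGroup p M B E → E = D := fun E hE =>
    (Subgroup.eq_of_le_of_card_ge (Cfsg.Agent.Blocks.le_defectGroup_of_normal hM hB hE D hD)
      (by rw [Cfsg.Agent.Blocks.card_defectGroup hM hB hE,
        Cfsg.Agent.Blocks.card_defectGroup hM hB hBD])).symm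
  have hform : ∀ φ ∈ B, (∀ (y : D) (x : G), ¬ p ∣ orderOf x → Commute (y : G) x →
      (φ : G → ℂ) ((y : G) * x) = (ξ φ : D → ℂ) y * (χ : G → ℂ) x) ∧
      (∀ z : G, (∀ y : G, Cfsg.IsPPart p z y → y ∉ D) → (φ : G → ℂ) z = 0) := by
    intro φ hφ
    refine ⟨fun y x hx _ => ?_, fun z hz => ?_⟩
    · have h := mul_formula hM.1 D hD hG φ (ξ φ) (hξ φ hφ) y x hx
      rw [hreg φ hφ x hx] at h
      exact mul_right_cancel₀ (Cfsg.Agent.Blocks.irr_one_ne_zero (ξ φ)) (h.trans (by ring))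
    · obtain ⟨a, ha⟩ := Cfsg.Agent.Blocks.exists_isPPart (p := p) hM.1 z
      exact Cfsg.Agent.Blocks.irr_eq_zero_of_notMem_defect hM hB hφ ha
        fun E hE => hallD E hE ▸ hz a ha
  refine ⟨fun θ => ⟨fun hθ => ⟨ξ θ, hform θ hθ⟩, ?_⟩, fun ζ => ?_⟩
  · rintro ⟨ζ, h1, h2⟩
    obtain ⟨φ, hφ, rfl⟩ := hbij.surjOn (Set.mem_univ ζ)
    have heq : θ = φ := by
      refine Subtype.ext (funext fun z => ?_)
      by_cases hz : ∀ y : G, Cfsg.IsPPart p z y → y ∉ D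
      · rw [h2 z hz, (hform φ hφ).2 z hz]
      · push Not at hz
        obtain ⟨y, ⟨x, rfl, hc, -, hx⟩, hy⟩ := hz
        exact (h1 ⟨y, hy⟩ x hx hc).trans ((hform φ hφ).1 ⟨y, hy⟩ x hx hc).symm
    exact heq ▸ hφ
  · obtain ⟨φ, hφ, rfl⟩ := hbij.surjOn (Set.mem_univ ζ)
    exact ⟨φ, hφ, hform φ hφ⟩

end Cfsg.Agent.S4714
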