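import Cfsg.Statements.S4718
import Cfsg.Agent.Lib.BrauerPairs.Landau
import Cfsg.Agent.Lib.Blocks.HeightsApp
import Cfsg.Agent.Lib.Char.Complete

set_option autoImplicit false
universe u
open Cfsg

namespace Cfsg.Agent.S4718

open Cfsg Cfsg.Agent.BrauerPairs Cfsg.Agent.Blocks

/-- Let p be a prime and a a natural number. There is a bound N such that every finite group whose Sylow p-subgroups have order p^a and whose only p-block (relative to a maximal ideal of the algebraic integers containing p) is the principal block has order at most N. -/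
theorem result (p : ℕ) [Fact p.Prime] (a : ℕ) : ∃ N : ℕ, ∀ (G : Type u) [Group G] [Finite G] (M : Ideal Cfsg.AlgInt), Cfsg.IsPModular p M → (Nat.card G).factorization p = a → (∀ B : Set (Cfsg.IrrCharacter G), Cfsg.IsPBlock M B → B = Cfsg.principalBlock M G) → Nat.card G ≤ N := by
  obtain ⟨N, hN⟩ := exists_landau_bound.{u} (p ^ (2 * a) / 4 + 1)
  refine ⟨N, fun G _ _ M hM ha hB => ?_⟩
  haveI := IsPModular.isPrime hM
  haveI : Fintype G := Fintype.ofFinite G
  refine hN G ?_
  rw [← Cfsg.Agent.Char.card_irrCharacter]
  have h1 := card_block_le hM (isPBlock_principalBlock M G)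
  have h2 : p ^ (2 * blockDefect p (principalBlock M G)) ≤ p ^ (2 * a) :=
    Nat.pow_le_pow_right hM.1.pos (Nat.mul_le_mul le_rfl ((blockDefect_le _).trans ha.le))
  have h3 : Nat.card (IrrCharacter G) ≤ Nat.card (principalBlock M G) := by
    refine le_of_eq (Nat.card_congr (Equiv.subtypeUnivEquiv fun χ => ?_).symm)
    rw [← hB _ (isPBlock_blockOf χ)]
    exact self_mem_blockOf χ
  omega

end Cfsg.Agent.S4718
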