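import Cfsg.Statements.S4719
import Cfsg.Agent.Lib.BrauerPairs.DeficiencyBound

set_option autoImplicit false
universe u
open Cfsg

namespace Cfsg.Agent.S4719

open Cfsg Cfsg.Agent.BrauerPairs

/-- For every natural number a there is a bound N with the following property. Let G be a finite group with Sylow 2-subgroups of order 2^a and r ≥ 0 such that G has no non-principal 2-block (relative to a maximal ideal of the algebraic integers containing 2) of defect ≥ r, and suppose a Sylow 2-subgroup of G contains an elementary abelian subgroup of order 2^(r+1). Then the order of G is at most N. -/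
theorem result (a : ℕ) : ∃ N : ℕ, ∀ (G : Type u) [Group G] [Finite G] (M : Ideal Cfsg.AlgInt) (r : ℕ) (P : Sylow 2 G), Cfsg.IsPModular 2 M → Nat.card P = 2 ^ a → (∀ B : Set (Cfsg.IrrCharacter G), Cfsg.IsPBlock M B → B ≠ Cfsg.principalBlock M G → Cfsg.blockDefect 2 B < r) → (∃ E : Subgroup G, E ≤ (P : Subgroup G) ∧ IsMulCommutative E ∧ (∀ x ∈ E, x * x = 1) ∧ Nat.card E = 2 ^ (r + 1)) → Nat.card G ≤ N := by
  obtain ⟨N, hN⟩ := exists_elementary_centralizer_bound.{u} a a
  refine ⟨N, fun G _ _ M r P hM hP hB hE => ?_⟩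
  obtain ⟨E, hEP, hEc, hE2, hEcard⟩ := hE
  haveI : Fact (Nat.Prime 2) := ⟨Nat.prime_two⟩
  have ha : (Nat.card G).factorization 2 = a := by
    have h := P.card_eq_multiplicity
    rw [hP] at h
    exact (Nat.pow_right_injective le_rfl h).symm
  have hr : r + 1 ≤ a := by
    have h := Subgroup.card_dvd_of_le hEP
    rw [hEcard, hP] at h
    exact (Nat.pow_dvd_pow_iff_le_right one_lt_two).1 h
  have hc : ∀ x ∈ E, ∀ y ∈ E, x * y = y * x := fun x hx y hy =>
    congrArg Subtype.val (hEc.is_comm.comm (⟨x, hx⟩ : E) ⟨y, hy⟩)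
  refine le_trans (le_of_eq ?_) (hN G M r hM ha.le hB E hc hE2 hEcard ⊥ bot_le ?_)
  · rw [Subgroup.coe_bot, Subgroup.centralizer_eq_top_iff_subset.2 ?_, Subgroup.card_top]
    simp
  · rw [Subgroup.card_bot, mul_one]
    exact Nat.pow_le_pow_right two_pos (by omega)

end Cfsg.Agent.S4719
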