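import Cfsg.Statements.S4721
import Cfsg.Agent.Lib.Blocks.ExceptionalInvolution
-- import your own Cfsg.Agent.* helpers here

set_option autoImplicit false
open Cfsg

namespace Cfsg.Agent.S4721

/-- Let p be a prime, M a maximal ideal of the algebraic integers containing p, and G a finite group with a nontrivial abelian Sylow p-subgroup P, N = N_G(P), C = C_G(P), such that N/C is cyclic of order 3, #P > 4, and C_G(y) ∩ N = C for every non-identity y ∈ P. Then the principal p-block is the disjoint union of a set X of exactly 3 characters containing the principal character and a set Y of (#P − 1)/3 characters, with signs a_χ = ±1 (χ ∈ X, a = 1 at the principal character) and δ = ±1 such that every χ ∈ X takes the value a_χ at every element whose p-part is a non-identity element of P, and there is a map ζ from the non-principal linear characters of P onto Y, constant on N-conjugacy classes, with ζ_ψ(z) = δ·Σ ψ'(y) over the N-orbit of ψ,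 for z with p-part y ≠ 1 in P. If moreover G has an involution lying in no proper normal subgroup of G, then exactly two of the three numbers −δ and a_χ (χ ∈ X non-principal) equal −1, and the product of the degrees of the two non-principal members of X and of any member of Y is a perfect square. -/
theorem result {G : Type*} [Group G] [Finite G] (p : ℕ) [Fact p.Prime] (M : Ideal Cfsg.AlgInt) (hM : Cfsg.IsPModular p M) (P : Sylow p G) (hab : IsMulCommutative P) (hP1 : Nat.card P ≠ 1) (hCN : (Subgroup.centralizer ((P : Subgroup G) : Set G)).relIndex (Subgroup.normalizer ((P : Subgroup G) : Set G)) = 3) (hcyc : ∃ g : G, g ∈ Subgroup.normalizer ((P : Subgroup G) : Set G) ∧ Subgroup.centralizer ((P : Subgroup G) : Set G) ⊔ Subgroup.zpowers g = Subgroup.normalizer ((P : Subgroup G) : Set G)) (hm2 : 3 + 1 < Nat.card P) (hfrob : ∀ y : G, y ∈ (P : Subgroup G) → y ≠ 1 → Subgroup.centralizer ({y} : Set G) ⊓ Subgroup.normalizer ((P : Subgroup G)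 : Set G) = Subgroup.centralizer ((P : Subgroup G) : Set G)) : ∃ (X Y : Set (Cfsg.IrrCharacter G)), Cfsg.principalBlock M G = X ∪ Y ∧ Disjoint X Y ∧ Nat.card X = 3 ∧ Nat.card Y = (Nat.card P - 1) / 3 ∧ (∃ χ₁ ∈ X, (χ₁ : G → ℂ) = fun _ => 1) ∧ ∃ (a : Cfsg.IrrCharacter G → ℤ) (δ : ℤ) (ζ : (↥(P : Subgroup G) →* ℂˣ) → Cfsg.IrrCharacter G), (δ = 1 ∨ δ = -1) ∧ (∀ χ ∈ X, (a χ = 1 ∨ a χ = -1) ∧ ∀ z y : G, Cfsg.IsPPart p z y → y ∈ (P : Subgroup G) → y ≠ 1 → (χ : G → ℂ) z = (a χ : ℂ)) ∧ (∀ ψ : ↥(P : Subgroup G) →* ℂˣ, ψ ≠ 1 → ζ ψ ∈ Y) ∧ (∀ η ∈ Y, ∃ ψ : ↥(P : Subgroup G) →* ℂˣ, ψ ≠ 1 ∧ ζ ψ = η) ∧ (∀ ψ ψ' : ↥(P : Subgroup G) →* ℂˣ, ψ ≠ 1 → (∃ n : G, n ∈ Subgroup.normalizer ((P : Subgroup G) : Set G) ∧ ∀ w w' : ↥(P : Subgroup G), (w' : G) = n * w * n⁻¹ → ψ' w' = ψ w) → ζ ψ' = ζ ψ) ∧ (∀ ψ : ↥(P : Subgroup G) →* ℂˣ, ψ ≠ 1 → ∀ (z : G) (y : ↥(P : Subgroup G)), Cfsg.IsPPart p z (y : G) → (y : G) ≠ 1 → (ζ ψ : G → ℂ) z = (δ : ℂ) * ∑ᶠ ψ' ∈ {ψ' : ↥(P : Subgroup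 G) →* ℂˣ | ∃ n : G, n ∈ Subgroup.normalizer ((P : Subgroup G) : Set G) ∧ ∀ w w' : ↥(P : Subgroup G), (w' : G) = n * w * n⁻¹ → ψ' w' = ψ w}, ((ψ' y : ℂˣ) : ℂ)) ∧ ((∃ t : G, orderOf t = 2 ∧ ∀ K : Subgroup G, K.Normal → t ∈ K → K = ⊤) → Nat.card {χ : Cfsg.IrrCharacter G // χ ∈ X ∧ (χ : G → ℂ) ≠ (fun _ => 1) ∧ a χ = -1} + (if δ = 1 then 1 else 0) = 2 ∧ ∀ η ∈ Y, IsSquare (Cfsg.charDegree (η : G → ℂ) * ∏ᶠ χ ∈ {χ : Cfsg.IrrCharacter G | χ ∈ X ∧ (χ : G → ℂ) ≠ fun _ => 1}, Cfsg.charDegree (χ : G → ℂ))) := by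
  classical
  haveI := Cfsg.Agent.Blocks.IsPModular.isPrime hM
  haveI : Fintype G := Fintype.ofFinite G
  haveI : Fintype (P : Subgroup G) := Fintype.ofFinite _
  have h := ExPrincipal.data_of_hyp hab (by norm_num) hm2 hCN hfrob
  haveI := h.finite_dual
  haveI : Fintype (ExPrincipal.Dual (P : Subgroup G)) := Fintype.ofFinite _
  obtain ⟨F, hF⟩ := ExPrincipal.exists_family_zero h hM
  refine ⟨↑F.X, ↑F.Y, F.principalBlock_eq, F.disjoint,
    by rw [Nat.card_coe_set_eq, Set.ncard_coe_finset, ExPrincipal.card_X h hF], F.card_Y h,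
    ⟨_, F.principal_mem_X, rfl⟩, F.a, F.δ, fun ψ => F.η (ExPrincipal.orb P ψ), F.sign,
    fun χ hχ => ⟨ExPrincipal.sign_other h hF hχ, fun z y hz hy hy1 => F.value_other h hM hχ hz hy hy1⟩,
    fun ψ hψ => Finset.mem_image_of_mem _ (ExPrincipal.orb_mem_orbits P hψ),
    fun η hη => F.exists_preimage hη, ?_, ?_, ?_⟩
  · intro ψ ψ' _ hr
    show F.η _ = F.η _
    rw [ExPrincipal.orb_eq_of_rel hr]
  · intro ψ hψ z y hz hy1
    rw [ExPrincipal.finsum_orbit]
    have e := F.value_exc h hM hψ hz hy1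
    rw [hF, Int.cast_zero, zero_add] at e
    exact e
  · rintro ⟨t, ht, hgen⟩
    have hp : p ≠ 2 := fun e => ExPrincipal.two_case h hF hM e ht hgen
    obtain ⟨χ₂, χ₃, h23, h2, h3, hX⟩ := ExPrincipal.X_eq h hF
    have hX' : χ₂ ∈ F.X ∧ χ₃ ∈ F.X := by rw [hX]; simp
    have hset : {χ : Cfsg.IrrCharacter G | χ ∈ (↑F.X : Set (Cfsg.IrrCharacter G)) ∧
        (χ : G → ℂ) ≠ fun _ => 1} = ↑({χ₂, χ₃} : Finset (Cfsg.IrrCharacter G)) := by
      ext χ
      simp only [Set.mem_setOf_eq, Finset.mem_coe, hX, Finset.mem_insert, Finset.mem_singleton]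
      constructor
      · rintro ⟨rfl | h', hne⟩
        · exact absurd rfl hne
        · exact h'
      · intro h'
        refine ⟨Or.inr h', fun e => ?_⟩
        have e' : χ = Cfsg.Agent.Char.principal G := Subtype.ext e
        rcases h' with rfl | rfl
        · exact h2 e'
        · exact h3 e'
    have main : ∀ i ∈ ExPrincipal.orbits P, F.a χ₂ + F.a χ₃ + -F.δ = -1 ∧
        IsSquare (Cfsg.charDegree (χ₂ : G → ℂ) * Cfsg.charDegree (χ₃ : G → ℂ) *
          Cfsg.charDegree (F.η i : G → ℂ)) :=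
      fun i hi => ExPrincipal.odd_case h hF hM hp ht hgen h23 h2 h3 hX hi
    refine ⟨?_, fun η hη => ?_⟩
    · obtain ⟨i, hi⟩ := Finset.card_pos.1
        (lt_of_lt_of_le two_pos h.two_le_card_orbits : 0 < (ExPrincipal.orbits P).card)
      have hsum := (main i hi).1
      have hcard : Nat.card {χ : Cfsg.IrrCharacter G // χ ∈ (↑F.X : Set (Cfsg.IrrCharacter G)) ∧
          (χ : G → ℂ) ≠ (fun _ => 1) ∧ F.a χ = -1} =
          (({χ₂, χ₃} : Finset (Cfsg.IrrCharacter G)).filter fun χ => F.a χ = -1).card := by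
        rw [← Set.ncard_coe_finset, ← Nat.card_coe_set_eq]
        refine Nat.card_congr (Equiv.subtypeEquivRight fun χ => ?_)
        have e := Set.ext_iff.1 hset χ
        simp only [Set.mem_setOf_eq] at e
        simp only [Finset.coe_filter, Set.mem_setOf_eq]
        rw [← and_assoc, e]
        rfl
      rw [hcard, Finset.filter_insert, Finset.filter_singleton]
      rcases ExPrincipal.sign_other h hF hX'.1 with e2 | e2 <;>
        rcases ExPrincipal.sign_other h hF hX'.2 with e3 | e3 <;>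
        rcases F.sign with e4 | e4 <;> rw [e2, e3, e4] at hsum <;>
        first | omega | simp [e2, e3, e4, h23]
    · obtain ⟨i, hi, rfl⟩ := Finset.mem_image.1 hη
      rw [hset, finprod_mem_coe_finset, Finset.prod_pair h23, mul_comm]
      exact (main i hi).2

end Cfsg.Agent.S4721
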