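import Cfsg.Statements.S4722
import Cfsg.Agent.Lib.BrauerPairs.SuzukiOrth
import Cfsg.Agent.Lib.Blocks.KernelBlock

set_option autoImplicit false
open Cfsg

namespace Cfsg.Agent.S4722

open Cfsg Cfsg.Agent.BrauerPairs Cfsg.Agent.Blocks Cfsg.Agent.Char

/-- Let M be a maximal ideal of the algebraic integers containing 2, P a 2-subgroup of the finite group G, U a subset of P, and t an involution of G such that no element of U is inverted by any conjugate of t. Let θ be a generalized character of P vanishing outside U, and for χ in the principal 2-block B₀ put a_χ = #P⁻¹ Σ_{y ∈ P} χ(y) θ(y⁻¹). Then Σ_{χ ∈ B₀} a_χ χ(t)^2/χ(1) = 0, Σ_{χ ∈ B₀} a_χ χ(1) = 0 and Σ_{χ ∈ B₀} a_χ χ(t) = 0. If moreover #P⁻¹ Σ_{y ∈ P} θ(y) ≠ 0, then either at least two of the a_χ have positive real part and at least two have negative real part, or G has a proper normal subgroup containing O_2'(G) and t. -/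
theorem result {G : Type*} [Group G] [Finite G] (M : Ideal Cfsg.AlgInt) (hM : Cfsg.IsPModular 2 M) (P : Subgroup G) (hP : IsPGroup 2 P) (U : Set G) (hUP : U ⊆ (P : Set G)) (t : G) (ht : orderOf t = 2) (hinv : ∀ u ∈ U, ∀ g : G, (g * t * g⁻¹) * u * (g * t * g⁻¹)⁻¹ ≠ u⁻¹) (θ : ↥P → ℂ) (hθ : Cfsg.IsGeneralizedCharacter ↥P θ) (hθU : ∀ y : ↥P, (y : G) ∉ U → θ y = 0) : (∑ᶠ χ ∈ Cfsg.principalBlock M G, ((Nat.card ↥P : ℂ)⁻¹ * ∑ᶠ y : ↥P, (χ : G → ℂ) (y : G) * θ y⁻¹) * (χ : G → ℂ) t ^ 2 / (χ : G → ℂ) 1 = 0) ∧ (∑ᶠ χ ∈ Cfsg.principalBlock M G, ((Nat.card ↥P : ℂ)⁻¹ * ∑ᶠ y : ↥P, (χ : G → ℂ) (y : G) * θ y⁻¹) * (χ : G → ℂ) 1 = 0) ∧ (∑ᶠ χ ∈ Cfsg.principalBlock M G, ((Nat.card ↥P : ℂ)⁻¹ * ∑ᶠ y : ↥P, (χ : G → ℂ) (y : G) * θ y⁻¹) * (χ : G → ℂ) t = 0) ∧ ((Nat.card ↥P : ℂ)⁻¹ * ∑ᶠ y : ↥P, θ y ≠ 0 → (2 ≤ Nat.card {χ : Cfsg.IrrCharacter G // χ ∈ Cfsg.principalBlock M G ∧ 0 < (((Nat.card ↥P : ℂ)⁻¹ * ∑ᶠ y : ↥P, (χ : G → ℂ) (y :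 G) * θ y⁻¹)).re} ∧ 2 ≤ Nat.card {χ : Cfsg.IrrCharacter G // χ ∈ Cfsg.principalBlock M G ∧ (((Nat.card ↥P : ℂ)⁻¹ * ∑ᶠ y : ↥P, (χ : G → ℂ) (y : G) * θ y⁻¹)).re < 0}) ∨ ∃ K : Subgroup G, K.Normal ∧ K ≠ ⊤ ∧ Cfsg.pPrimeCore 2 G ≤ K ∧ t ∈ K) := by
  classical
  haveI := IsPModular.isPrime hM
  haveI : Fintype G := Fintype.ofFinite G
  haveI : Fintype P := Fintype.ofFinite P
  haveI : Fact (Nat.Prime 2) := ⟨Nat.prime_two⟩
  have hB := isPBlock_principalBlock M G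
  set B := principalBlock M G with hBdef
  have htt : t * t = 1 := by rw [← sq, ← ht, pow_orderOf_eq_one]
  have hti : t⁻¹ = t := inv_eq_of_mul_eq_one_right htt
  have hθinv : ∀ y : P, θ y⁻¹ = (starRingEnd ℂ) (θ y) := by
    obtain ⟨α, β, hα, hβ, rfl⟩ := hθ
    exact fun y => by
      rw [Pi.sub_apply, Pi.sub_apply, map_sub, IsCharacter.inv hα, IsCharacter.inv hβ]
  let a : IrrCharacter G → ℂ := fun χ => (Nat.card P : ℂ)⁻¹ * ∑ y : P, (χ : G → ℂ) (y : G) * θ y⁻¹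
  have hgood : ∀ y : P, θ y⁻¹ ≠ 0 →
      (∃ k, orderOf (y : G) = 2 ^ k) ∧ (y : G) ≠ 1 ∧
      (∀ g : G, (g * t * g⁻¹) * (y : G) * (g * t * g⁻¹)⁻¹ ≠ (y : G)⁻¹) := by
    intro y hy
    have hu : (y : G)⁻¹ ∈ U := by
      by_contra h
      exact hy (hθU y⁻¹ (by simpa using h))
    obtain ⟨k, hk⟩ := IsPGroup.iff_orderOf.1 hP y
    refine ⟨⟨k, by rw [Subgroup.orderOf_coe, hk]⟩, fun h1 => hinv _ hu 1 (by simp [h1, hti, htt]),
      fun g hg => hinv _ hu g ?_⟩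
    conv_rhs => rw [← hg]
    group
  have hlin : ∀ F : IrrCharacter G → ℂ,
      (∀ y : G, (∃ k, orderOf y = 2 ^ k) → y ≠ 1 →
        (∀ g : G, (g * t * g⁻¹) * y * (g * t * g⁻¹)⁻¹ ≠ y⁻¹) →
        ∑ χ ∈ Finset.univ.filter (· ∈ B), F χ * (χ : G → ℂ) y = 0) →
      ∑ χ ∈ Finset.univ.filter (· ∈ B), a χ * F χ = 0 := by
    intro F hF
    simp only [a, Finset.mul_sum, Finset.sum_mul]
    rw [Finset.sum_comm]
    refine Finset.sum_eq_zero fun y _ => ?_
    by_cases hy : θ y⁻¹ = 0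
    · simp [hy]
    · obtain ⟨h1, h2, h3⟩ := hgood y hy
      rw [Finset.sum_congr rfl fun χ _ => show _ = ((Nat.card P : ℂ)⁻¹ * θ y⁻¹) *
        (F χ * (χ : G → ℂ) (y : G)) by ring, ← Finset.mul_sum, hF _ h1 h2 h3, mul_zero]
  have s1 : ∑ χ ∈ Finset.univ.filter (· ∈ B),
      a χ * ((χ : G → ℂ) t ^ 2 / (χ : G → ℂ) 1) = 0 :=
    hlin _ fun y hy _ hyi => blockPart_sq_section htt hM hy hyi hB
  have hpair : ∀ v : G, IsPPart 2 v v → ∀ y : G, (∃ k, orderOf y = 2 ^ k) → ¬ IsConj y v →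
      ∑ χ ∈ Finset.univ.filter (· ∈ B), (starRingEnd ℂ) ((χ : G → ℂ) v) * (χ : G → ℂ) y = 0 :=
    fun v hv y hy hc => by
      have h := blockPair_eq_zero_of_pPart hM hB (isPPart_self Nat.prime_two hy) hv hc
      unfold blockPair at h
      rw [← h]
      exact Finset.sum_congr (by congr) fun χ _ => mul_comm _ _
  have s2 : ∑ χ ∈ Finset.univ.filter (· ∈ B), a χ * (χ : G → ℂ) 1 = 0 :=
    hlin _ fun y hy hy1 _ => by
      simpa [conj_irr_one] using hpair 1 (isPPart_self Nat.prime_two ⟨0, by simp⟩) y hy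
        (fun h => hy1 (isConj_one_left.1 h))
  have hct : ∀ χ : IrrCharacter G, (starRingEnd ℂ) ((χ : G → ℂ) t) = (χ : G → ℂ) t := fun χ => by
    rw [← irr_inv, hti]
  have s3 : ∑ χ ∈ Finset.univ.filter (· ∈ B), a χ * (χ : G → ℂ) t = 0 :=
    hlin _ fun y hy _ hyi => by
      have h := hpair t (isPPart_self Nat.prime_two ⟨1, by simpa using ht⟩) y hy fun hc => by
        obtain ⟨c, hc⟩ := isConj_iff.1 hc
        refine hyi c⁻¹ ?_
        rw [inv_inv, show c⁻¹ * t * c = y by rw [← hc]; group, mul_inv_cancel_right]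
        exact (inv_eq_of_mul_eq_one_right (by
          rw [show y = c⁻¹ * t * c by rw [← hc]; group,
            show c⁻¹ * t * c * (c⁻¹ * t * c) = c⁻¹ * (t * t) * c by group, htt, mul_one,
            inv_mul_cancel])).symm
      simpa [hct] using h
  have conv : ∀ F : IrrCharacter G → ℂ, ∑ᶠ χ ∈ B, F χ = ∑ χ ∈ Finset.univ.filter (· ∈ B), F χ :=
    fun F => by
      rw [finsum_mem_eq_finite_toFinset_sum _ (Set.toFinite B)]
      exact Finset.sum_congr (by ext; simp) fun _ _ => rfl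
  simp only [conv]
  simp only [finsum_eq_sum_of_fintype]
  refine ⟨?_, s2, s3, fun hne => ?_⟩
  · rw [← s1]
    exact Finset.sum_congr rfl fun χ _ => by ring
  have hint : ∀ χ : IrrCharacter G, ∃ n : ℤ, a χ = n := fun χ => by
    obtain ⟨n, hn⟩ := IsGeneralizedCharacter.exists_classInner_int
      (IsGeneralizedCharacter.of_isCharacter (IsCharacter.restrict (irr_isCharacter χ) P)) hθ
    refine ⟨n, hn ▸ ?_⟩
    unfold classInner
    simp only [a, hθinv]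
  choose n hn using hint
  have hreal : ∀ χ : IrrCharacter G, (χ : G → ℂ) t = (((χ : G → ℂ) t).re : ℂ) := fun χ =>
    (Complex.conj_eq_iff_re.1 (hct χ)).symm
  have hdeg : ∀ χ : IrrCharacter G, (χ : G → ℂ) 1 = ((charDegree (χ : G → ℂ) : ℝ) : ℂ) := fun χ => by
    rw [irr_one_eq_charDegree]; simp
  set A : IrrCharacter G → ℝ := fun χ => (n χ : ℝ)
  set d : IrrCharacter G → ℝ := fun χ => (charDegree (χ : G → ℂ) : ℝ)
  set e : IrrCharacter G → ℝ := fun χ => ((χ : G → ℂ) t).re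
  have hd : ∀ χ ∈ Finset.univ.filter (· ∈ B), 0 < d χ := fun χ _ =>
    Nat.cast_pos.2 (charDegree_pos χ)
  have haA : ∀ χ, a χ = (A χ : ℂ) := fun χ => by rw [hn]; simp [A]
  have r1 : ∑ χ ∈ Finset.univ.filter (· ∈ B), A χ * e χ ^ 2 / d χ = 0 := by
    apply Complex.ofReal_injective
    rw [Complex.ofReal_sum, Complex.ofReal_zero, ← s1]
    refine Finset.sum_congr rfl fun χ _ => ?_
    push_cast
    rw [← haA, ← hreal, ← hdeg]
    ring
  have r2 : ∑ χ ∈ Finset.univ.filter (· ∈ B), A χ * d χ = 0 := by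
    apply Complex.ofReal_injective
    rw [Complex.ofReal_sum, Complex.ofReal_zero, ← s2]
    exact Finset.sum_congr rfl fun χ _ => by push_cast; rw [← haA, ← hdeg]
  have r3 : ∑ χ ∈ Finset.univ.filter (· ∈ B), A χ * e χ = 0 := by
    apply Complex.ofReal_injective
    rw [Complex.ofReal_sum, Complex.ofReal_zero, ← s3]
    exact Finset.sum_congr rfl fun χ _ => by push_cast; rw [← haA, ← hreal]
  set χ₀ := principal G with hχ₀
  have h0mem : χ₀ ∈ Finset.univ.filter (· ∈ B) :=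
    Finset.mem_filter.2 ⟨Finset.mem_univ _, principal_mem_principalBlock⟩
  have ha0 : A χ₀ ≠ 0 := by
    intro h
    refine hne ?_
    have h2 : a χ₀ = 0 := by rw [haA, h, Complex.ofReal_zero]
    rw [← h2]
    simp only [a, hχ₀, Char.principal, one_mul]
    congr 1
    exact Fintype.sum_equiv (Equiv.inv P) _ _ fun y => by simp
  have he0 : e χ₀ = d χ₀ := by
    simp [e, d, hχ₀, Char.principal, charDegree]
  by_cases hfew : 2 ≤ ((Finset.univ.filter (· ∈ B)).filter fun χ => 0 < A χ).card ∧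
      2 ≤ ((Finset.univ.filter (· ∈ B)).filter fun χ => 0 < (-A) χ).card
  · refine Or.inl ⟨hfew.1.trans (le_of_eq ?_), hfew.2.trans (le_of_eq ?_)⟩
    · rw [Nat.card_eq_fintype_card, Fintype.card_subtype, Finset.filter_filter]
      congr 1
      ext χ
      simp only [Finset.mem_filter, Finset.mem_univ, true_and]
      rw [show ((Nat.card P : ℂ)⁻¹ * ∑ y : P, (χ : G → ℂ) (y : G) * θ y⁻¹) = _ from haA χ,
        Complex.ofReal_re]
    · rw [Nat.card_eq_fintype_card, Fintype.card_subtype, Finset.filter_filter]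
      congr 1
      ext χ
      simp only [Finset.mem_filter, Finset.mem_univ, true_and, Pi.neg_apply, neg_pos]
      rw [show ((Nat.card P : ℂ)⁻¹ * ∑ y : P, (χ : G → ℂ) (y : G) * θ y⁻¹) = _ from haA χ,
        Complex.ofReal_re]
  right
  have heq : ∀ χ ∈ Finset.univ.filter (· ∈ B), A χ ≠ 0 → e χ = d χ := by
    rcases not_and_or.1 hfew with h | h
    · exact eq_of_three_sums _ A d e hd r1 r2 r3 h0mem ha0 he0 (by omega)
    · intro χ hχ hA
      refine eq_of_three_sums _ (-A) d e hd ?_ ?_ ?_ h0mem (by simpa using ha0) he0 (by omega)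
        χ hχ (by simpa using hA)
      · simp [neg_mul, neg_div, r1]
      · simp [neg_mul, r2]
      · simp [neg_mul, r3]
  obtain ⟨ψ, hψ, hψne, hψA⟩ : ∃ ψ ∈ Finset.univ.filter (· ∈ B), ψ ≠ χ₀ ∧ A ψ ≠ 0 := by
    by_contra hno
    push Not at hno
    rw [Finset.sum_eq_single χ₀ (fun χ hχ hne => by rw [hno χ hχ hne, zero_mul])
      (fun h => absurd h0mem h)] at r2
    exact ha0 ((mul_eq_zero.1 r2).resolve_right (hd _ h0mem).ne')
  obtain ⟨K, hKn, hK, hKmul⟩ := IsCharacter.exists_kernel (irr_isCharacter ψ)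
  refine ⟨K, hKn, fun htop => hψne ?_, sSup_le ?_, (hK t).2 ?_⟩
  · have hconst : ∀ g, (ψ : G → ℂ) g = (ψ : G → ℂ) 1 := fun g => (hK g).1 (htop ▸ Subgroup.mem_top g)
    by_contra hne'
    have h0 := classInner_irr_of_ne ψ.2 χ₀.2 fun h => hne' (Subtype.ext h)
    unfold classInner at h0
    simp only [hconst, hχ₀, Char.principal, map_one, mul_one, Finset.sum_const, Finset.card_univ,
      nsmul_eq_mul] at h0
    rw [← Nat.card_eq_fintype_card, inv_mul_cancel_left₀ (Nat.cast_ne_zero.2 Nat.card_pos.ne')] at h0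
    exact irr_one_ne_zero ψ h0
  · intro N hN
    obtain ⟨hNn, hNc⟩ := hN
    haveI := hNn
    intro x hx
    refine (hK x).2 ?_
    exact trivialOn_of_sameBlock hM N
      ((Nat.prime_two.coprime_iff_not_dvd).1 (Nat.coprime_comm.1 hNc))
      (χ := χ₀) (ψ := ψ) (Finset.mem_filter.1 hψ).2 (fun _ _ => rfl) x hx
  · rw [hreal, hdeg]
    exact congrArg _ (heq ψ hψ hψA)

end Cfsg.Agent.S4722
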