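import Cfsg.Statements.S4729
import Cfsg.Agent.Lib.Blocks.RegularSum
import Cfsg.Agent.Lib.Char.ExtensionChar

set_option autoImplicit false
open Cfsg

namespace Cfsg.Agent.S4729

open Cfsg.Agent.Char in
/-- Eigenvalues with the determinant. -/
theorem eigen_det {G : Type*} [Group G] [Finite G] {V : Type} [AddCommGroup V] [Module ℂ V]
    [FiniteDimensional ℂ V] (ρ : Representation ℂ G V) (g : G) :
    ∃ L : Multiset ℂ, Multiset.card L = Module.finrank ℂ V ∧ (∀ z ∈ L, z ^ orderOf g = 1) ∧
      (∀ k : ℕ, ρ.character (g ^ k) = (L.map (fun z => z ^ k)).sum) ∧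
      LinearMap.det (ρ g) = L.prod := by
  let H := Subgroup.zpowers g
  let gH : H := ⟨g, Subgroup.mem_zpowers g⟩
  let σ : Representation ℂ H V := ρ.comp H.subtype
  have key := rep_induction (G := H) (P := fun U _ _ _ τ =>
    ∃ L : Multiset ℂ, Multiset.card L = Module.finrank ℂ U ∧ (∀ z ∈ L, z ^ orderOf g = 1) ∧
      (∀ k : ℕ, τ.character (gH ^ k) = (L.map (fun z => z ^ k)).sum) ∧
      LinearMap.det (τ gH) = L.prod) ?_ ?_ ?_ V σ
  · obtain ⟨L, h1, h2, h3, h4⟩ := key
    exact ⟨L, h1, h2, fun k => by simpa [Representation.character, σ, gH] using h3 k, h4⟩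
  · intro U _ _ _ _ τ
    refine ⟨0, by simp [Module.finrank_zero_of_subsingleton], by simp, fun k => ?_, ?_⟩
    · simp [Representation.character, Subsingleton.elim (τ (gH ^ k)) 0]
    · rw [Subsingleton.elim (τ gH) LinearMap.id, LinearMap.det_id, Multiset.prod_zero]
  · intro U _ _ _ τ _
    have h1 : Module.finrank ℂ U = 1 :=
      Representation.IsIrreducible.finrank_eq_one_of_isMulCommutative τ
    obtain ⟨c, hc⟩ := schur_scalar τ (τ gH) (fun x u => by
      rw [← Module.End.mul_apply, ← map_mul, ← Module.End.mul_apply, ← map_mul]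
      congr 2
      exact Subtype.ext (Subgroup.mem_zpowers_iff.mp x.2 |>.elim fun k hk => by
        show g * (x : G) = x * g
        rw [← hk]; exact ((Commute.refl g).zpow_right k).eq))
    have hord : orderOf gH = orderOf g := by rw [← Subgroup.orderOf_coe gH]
    have hcpow : ∀ k : ℕ, τ (gH ^ k) = (c ^ k) • LinearMap.id := by
      intro k
      rw [map_pow, hc, smul_pow]
      simp [← Module.End.one_eq_id]
    refine ⟨{c}, by simp [h1], ?_, fun k => ?_, ?_⟩
    · intro z hz
      rw [Multiset.mem_singleton] at hz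
      subst hz
      have h' := hcpow (orderOf gH)
      rw [pow_orderOf_eq_one, map_one, hord] at h'
      have h'' := congrArg (LinearMap.trace ℂ U) h'
      simpa [h1, LinearMap.trace_id, Module.End.one_eq_id] using h''.symm
    · simp [Representation.character, hcpow k, h1, LinearMap.trace_id]
    · rw [hc, LinearMap.det_smul, LinearMap.det_id, h1, Multiset.prod_singleton]; simp
  · intro U _ _ _ τ a b hab ⟨L, hM1, hM2, hM3, hM4⟩ ⟨N, hN1, hN2, hN3, hN4⟩
    refine ⟨L + N, ?_, ?_, fun k => ?_, ?_⟩
    · rw [Multiset.card_add, hM1, hN1,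
        Submodule.finrank_add_eq_of_isCompl (isCompl_toSubmodule hab)]
    · intro z hz
      rcases Multiset.mem_add.mp hz with h | h
      exacts [hM2 z h, hN2 z h]
    · rw [character_split hab, Pi.add_apply, hM3, hN3, Multiset.map_add, Multiset.sum_add]
    · rw [Cfsg.Agent.CharExtend.det_eq_of_equiv (prodEquiv hab) gH, Multiset.prod_add, ← hM4, ← hN4]
      exact LinearMap.det_prodMap _ _

/-- Let p be a prime, M a maximal ideal of the algebraic integers containing p, G a finite perfect group and P a Sylow p-subgroup. If the principal p-block of G contains a faithful irreducible character of degree less than 2p, then the centralizer of P is a p-group. -/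
theorem result {G : Type*} [Group G] [Finite G] (p : ℕ) [Fact p.Prime] (M : Ideal Cfsg.AlgInt) (hM : Cfsg.IsPModular p M) (hperf : commutator G = ⊤) (P : Sylow p G) (χ : Cfsg.IrrCharacter G) (hχ : χ ∈ Cfsg.principalBlock M G) (hfaith : ∀ g : G, (χ : G → ℂ) g = (χ : G → ℂ) 1 → g = 1) (hdeg : Cfsg.charDegree (χ : G → ℂ) < 2 * p) : IsPGroup p ↥(Subgroup.centralizer ((P : Subgroup G) : Set G)) := by
  classical
  haveI : Fintype G := Fintype.ofFinite G
  haveI := hM.2.1.isPrime
  intro x
  by_contra hx
  have hord : ∀ k : ℕ, orderOf x ≠ p ^ k := fun k hk => hx ⟨k, hk ▸ pow_orderOf_eq_one x⟩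
  obtain ⟨q, hq, hqd, hqp⟩ : ∃ q, q.Prime ∧ q ∣ orderOf x ∧ q ≠ p := by
    by_contra hno
    push Not at hno
    exact hord _ (Nat.eq_prime_pow_of_unique_prime_dvd (orderOf_pos x).ne'
      fun {d} hd hdd => hno d hd hdd)
  set y : G := ((x ^ (orderOf x / q) : ↥(Subgroup.centralizer ((P : Subgroup G) : Set G))) : G)
    with hy
  have hyC : y ∈ Subgroup.centralizer ((P : Subgroup G) : Set G) := Subtype.prop _
  have hyord : orderOf y = q := by
    rw [hy, Subgroup.orderOf_coe, orderOf_pow' _ (by
      have := Nat.le_of_dvd (orderOf_pos x) hqd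
      exact (Nat.div_pos this hq.pos).ne'),
      Nat.gcd_eq_right (Nat.div_dvd_of_dvd hqd), Nat.div_div_self hqd (orderOf_pos x).ne']
  obtain ⟨χ', hirr⟩ := χ
  obtain ⟨n, ρ, hρ, rfl⟩ := hirr
  obtain ⟨L, hL1, hL2, hL3, hL4⟩ := eigen_det ρ y
  simp only [Module.finrank_fintype_fun_eq_card, Fintype.card_fin] at hL1
  have hd1 : ρ.character 1 = (n : ℂ) := by simp [Representation.char_one]
  have hdeg' : n < 2 * p := by simpa [Cfsg.charDegree, hd1] using hdeg
  have hn0 : (n : ℂ) ≠ 0 := by
    rw [← hd1]; exact Cfsg.Agent.Char.IsIrrCharacter.one_ne_zero ⟨n, ρ, hρ, rfl⟩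
  -- congruences
  have hcong : ∀ k : ℕ, Cfsg.MemLocalIdeal M (ρ.character (y ^ k) - (n : ℂ)) := by
    intro k
    have h := (Cfsg.Agent.Blocks.mem_principalBlock_iff (M := M)).mp hχ (y ^ k)
    set i := (Subgroup.centralizer ({y ^ k} : Set G)).index with hi
    have hpi : ¬ p ∣ i := fun hd => by
      have hle : (P : Subgroup G) ≤ Subgroup.centralizer ({y ^ k} : Set G) := fun z hz =>
        Subgroup.mem_centralizer_singleton_iff.mpr
          (Commute.pow_right (Subgroup.mem_centralizer_iff.mp hyC z hz) k)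
      exact P.not_dvd_index (hd.trans (Subgroup.index_dvd_of_le hle))
    have h1 := Cfsg.Agent.Blocks.MemLocalIdeal.mul_left
      (Cfsg.Agent.Blocks.mem_locRing.1 ((Cfsg.Agent.Blocks.locRing M).mul_mem
        (Cfsg.Agent.Blocks.mem_locRing.2 (Cfsg.Agent.Blocks.inv_natCast_memLocalRing hM hpi))
        (natCast_mem (Cfsg.Agent.Blocks.locRing M) n))) h
    have hi0 : (i : ℂ) ≠ 0 := Nat.cast_ne_zero.mpr fun h0 => hpi (h0 ▸ dvd_zero p)
    have e : ρ.character (y ^ k) - (n : ℂ) =
        -((i : ℂ)⁻¹ * (n : ℂ) * ((i : ℂ) - Cfsg.centralChar ρ.character (y ^ k))) := by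
      simp only [Cfsg.centralChar, hd1, ← hi]
      field_simp
      ring
    rw [e]
    exact Cfsg.Agent.Blocks.MemLocalIdeal.neg h1
  -- multiplicities
  have hcount : ∀ z ∈ L, z ≠ 1 → p ∣ L.count z := by
    intro z hz hz1
    have hzq : z ^ q = 1 := hyord ▸ hL2 z hz
    have hz0 : z ≠ 0 := fun h0 => by rw [h0, zero_pow hq.ne_zero] at hzq; exact zero_ne_one hzq
    have hmem : Cfsg.MemLocalIdeal M
        (∑ k ∈ Finset.range q, z⁻¹ ^ k * (ρ.character (y ^ k) - (n : ℂ))) :=
      Cfsg.Agent.Blocks.memLocalIdeal_sum _ _ fun k _ => Cfsg.Agent.Blocks.MemLocalIdeal.mul_left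
        (Cfsg.Agent.Blocks.mem_locRing_of_isIntegral
          (IsIntegral.of_pow hq.pos (by
            rw [← pow_mul, mul_comm, pow_mul, inv_pow, hzq, inv_one, one_pow]
            exact isIntegral_one))) (hcong k)
    have hgeom : ∀ w : ℂ, w ^ q = 1 → ∑ k ∈ Finset.range q, w ^ k = if w = 1 then (q : ℂ) else 0 := by
      intro w hw
      split_ifs with h1
      · simp [h1]
      · rw [geom_sum_eq h1, hw, sub_self, zero_div]
    have hsum : ∑ k ∈ Finset.range q, z⁻¹ ^ k * (ρ.character (y ^ k) - (n : ℂ)) =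
        ((q * L.count z : ℕ) : ℂ) := by
      have e1 : ∑ k ∈ Finset.range q, z⁻¹ ^ k * (n : ℂ) = 0 := by
        rw [← Finset.sum_mul, hgeom _ (by rw [inv_pow, hzq, inv_one]),
          if_neg (by simpa using hz1), zero_mul]
      simp only [mul_sub, Finset.sum_sub_distrib, e1, sub_zero, hL3]
      have e2 : ∀ L' : Multiset ℂ, (∀ w ∈ L', w ^ q = 1) →
          ∑ k ∈ Finset.range q, z⁻¹ ^ k * (L'.map (fun w => w ^ k)).sum =
            ((q * L'.count z : ℕ) : ℂ) := by
        intro L' hL'
        induction L' using Multiset.induction_on with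
        | empty => simp
        | cons w L' ih =>
          simp only [Multiset.map_cons, Multiset.sum_cons, mul_add, Finset.sum_add_distrib,
            ih fun v hv => hL' v (Multiset.mem_cons_of_mem hv), ← mul_pow]
          rw [hgeom _ (by rw [mul_pow, inv_pow, hzq, hL' w (Multiset.mem_cons_self _ _), inv_one,
            one_mul]), Multiset.count_cons]
          by_cases hw : z = w
          · subst hw
            rw [if_pos (inv_mul_cancel₀ hz0), if_pos rfl]
            push_cast; ring
          · rw [if_neg (fun e => hw ((inv_mul_eq_one₀ hz0).mp e)), if_neg hw]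
            simp
      exact e2 L fun w hw => hyord ▸ hL2 w hw
    rw [hsum, Cfsg.Agent.Blocks.natCast_memLocalIdeal_iff hM] at hmem
    exact ((Nat.Prime.dvd_mul hM.1).mp hmem).resolve_left fun h =>
      hqp ((Nat.prime_dvd_prime_iff_eq hM.1 hq).mp h).symm
  -- some eigenvalue is nontrivial
  obtain ⟨z, hz, hz1⟩ : ∃ z ∈ L, z ≠ 1 := by
    by_contra hno
    push Not at hno
    have h1 : ρ.character y = ρ.character 1 := by
      have := hL3 1
      rw [pow_one] at this
      rw [this, hd1, ← hL1, Multiset.eq_replicate_card.mpr hno]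
      simp
    have h2 := hfaith y h1
    rw [h2, orderOf_one] at hyord
    exact hq.ne_one hyord.symm
  have hzp : p ≤ L.count z := Nat.le_of_dvd (Multiset.count_pos.mpr hz) (hcount z hz hz1)
  have honly : ∀ w ∈ L, w ≠ 1 → w = z := by
    intro w hw hw1
    by_contra hne
    have h1 : p ≤ L.count w := Nat.le_of_dvd (Multiset.count_pos.mpr hw) (hcount w hw hw1)
    have h2 : L.count z + L.count w ≤ L.card := by
      rw [← Multiset.toFinset_sum_count_eq]
      rw [← Finset.sum_pair (Ne.symm hne) (f := fun a => L.count a)]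
      exact Finset.sum_le_sum_of_subset (by
        intro a ha
        simp only [Finset.mem_insert, Finset.mem_singleton] at ha
        rcases ha with rfl | rfl <;> simpa)
    omega
  have hczp : L.count z = p := by
    obtain ⟨c, hc⟩ := hcount z hz hz1
    have h2 : L.count z ≤ L.card := Multiset.count_le_card z L
    have : c = 1 := by
      rcases c with _ | _ | c
      · have := Multiset.count_pos.mpr hz; omega
      · rfl
      · exfalso
        have h3 : p * 2 ≤ p * (c + 1 + 1) := Nat.mul_le_mul_left p (by omega)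
        omega
    rw [hc, this, mul_one]
  have hprod : L.prod = z ^ p := by
    rw [← Multiset.filter_add_not (fun w => w = z) L, Multiset.prod_add, Multiset.filter_eq',
      Multiset.prod_replicate, hczp, Multiset.prod_eq_one (s := L.filter fun w => ¬ w = z), mul_one]
    intro w hw
    rw [Multiset.mem_filter] at hw
    exact by_contra fun h => hw.2 (honly w hw.1 h)
  have hdet : LinearMap.det (ρ y) = 1 := by
    have h1 : y ∈ (Cfsg.Agent.CharExtend.detHom ρ).ker :=
      Abelianization.commutator_subset_ker (Cfsg.Agent.CharExtend.detHom ρ)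
        (by rw [hperf]; exact Subgroup.mem_top y)
    rw [MonoidHom.mem_ker] at h1
    rw [← Cfsg.Agent.CharExtend.detHom_apply, h1, Units.val_one]
  rw [hL4, hprod] at hdet
  have hzq : z ^ q = 1 := hyord ▸ hL2 z hz
  refine hz1 (orderOf_eq_one_iff.mp (Nat.eq_one_of_dvd_coprimes
    ((Nat.coprime_primes hM.1 hq).mpr (Ne.symm hqp)) (orderOf_dvd_of_pow_eq_one hdet)
    (orderOf_dvd_of_pow_eq_one hzq)))

end Cfsg.Agent.S4729
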