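import Cfsg.Statements.S4736
import Cfsg.Agent.Lib.Char.ItoPSolvable
import Cfsg.Agent.Lib.Blocks.FongSolvable

set_option autoImplicit false
set_option linter.style.haveILetI false
open Cfsg

namespace Cfsg.Agent.S4736

open Cfsg.Agent.Char Cfsg.Agent.Blocks

/-- Let p be a prime, M a maximal ideal of the algebraic integers containing p, and G a finite p-solvable group with Sylow p-subgroup P. Then P is abelian if and only if every irreducible character in the principal p-block of G has height zero. -/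
theorem result {G : Type*} [Group G] [Finite G] (p : ℕ) [Fact p.Prime] (M : Ideal Cfsg.AlgInt) (hM : Cfsg.IsPModular p M) (hsolv : Cfsg.IsPSolvable p G) (P : Sylow p G) : IsMulCommutative P ↔ ∀ χ ∈ Cfsg.principalBlock M G, Cfsg.blockHeight p (Cfsg.principalBlock M G) (χ : G → ℂ) = 0 := by
  classical
  haveI : Fintype G := Fintype.ofFinite G
  haveI : M.IsPrime := hM.2.1.isPrime
  have hp : p.Prime := Fact.out
  obtain ⟨N, hNdef⟩ : ∃ N, N = Cfsg.pPrimeCore p G := ⟨_, rfl⟩
  haveI : N.Normal := hNdef ▸ Cfsg.Agent.FittingCores.pPrimeCore_normal p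
  haveI : Fintype N := Fintype.ofFinite N
  have hNp : ¬ p ∣ Nat.card N := hNdef ▸ (hp.coprime_iff_not_dvd).1
    (Cfsg.Agent.FittingCores.pPrimeCore_coprime p).symm
  obtain ⟨B, hB, hmem, -, -⟩ := fong_solvable hM hsolv N hNdef hNp (principal N)
    (fun g => Subtype.ext rfl)
  have h11 : Cfsg.classInner (fun n : N => ((principal G : Cfsg.IrrCharacter G) : G → ℂ) n)
      ((principal N : Cfsg.IrrCharacter N) : N → ℂ) ≠ 0 :=
    ne_of_eq_of_ne (classInner_self_irr isIrrCharacter_one) one_ne_zero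
  have hBeq : B = Cfsg.principalBlock M G :=
    isPBlock_eq_of_mem hB (isPBlock_principalBlock M G) ((hmem _).2 h11) principal_mem_principalBlock
  subst hBeq
  have htriv : ∀ χ : Cfsg.IrrCharacter G, χ ∈ Cfsg.principalBlock M G ↔
      ∀ n ∈ N, (χ : G → ℂ) n = (χ : G → ℂ) 1 := by
    intro χ
    rw [hmem]
    constructor
    · intro h
      have hc := clifford N χ.2 (principal N).2 h
      have hconst : ∀ n : N, (χ : G → ℂ) n = (χ : G → ℂ) (1 : N) := by
        have horb : ∀ φ ∈ conjOrbit N ((principal N : Cfsg.IrrCharacter N) : N → ℂ), ∀ n, φ n = 1 := by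
          intro φ hφ n
          obtain ⟨g, rfl⟩ := (mem_conjOrbit N).1 hφ
          rfl
        intro n
        have e1 := congrFun hc n
        have e2 := congrFun hc 1
        simp only [Pi.smul_apply, Finset.sum_apply] at e1 e2
        rw [e1, e2, Finset.sum_congr rfl fun φ hφ => horb φ hφ n,
          Finset.sum_congr rfl fun φ hφ => horb φ hφ 1]
      intro n hn
      simpa using hconst ⟨n, hn⟩
    · intro h
      have e : (fun n : N => (χ : G → ℂ) n) = (χ : G → ℂ) 1 • fun _ : N => (1 : ℂ) :=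
        funext fun n => by simp [h n n.2]
      rw [e]
      show Cfsg.classInner _ (fun _ : N => (1 : ℂ)) ≠ 0
      rw [classInner_smul_left, classInner_self_irr isIrrCharacter_one, mul_one]
      exact IsIrrCharacter.one_ne_zero χ.2
  have hinf : sInf ((fun ψ : Cfsg.IrrCharacter G => (Cfsg.charDegree (ψ : G → ℂ)).factorization p) ''
      Cfsg.principalBlock M G) = 0 :=
    Nat.sInf_eq_zero.2 (Or.inl ⟨principal G, principal_mem_principalBlock, by
      show (Cfsg.charDegree (fun _ : G => (1 : ℂ))).factorization p = 0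
      rw [Cfsg.Agent.CharX.charDegree_one]; simp⟩)
  have hh : ∀ χ : Cfsg.IrrCharacter G, Cfsg.blockHeight p (Cfsg.principalBlock M G) (χ : G → ℂ) = 0 ↔
      ¬ p ∣ Cfsg.charDegree (χ : G → ℂ) := by
    intro χ
    rw [Cfsg.blockHeight, hinf, Nat.sub_zero, Nat.factorization_eq_zero_iff]
    simp [hp, (Cfsg.Agent.CharX.irr_deg_pos χ).ne']
  -- the quotient
  let Pq : Sylow p (G ⧸ N) := P.mapSurjective (QuotientGroup.mk'_surjective N)
  have hsolvq : Cfsg.IsPSolvable p (G ⧸ N) := Cfsg.Agent.PSolvable.quotient N hsolv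
  have hall : (∀ χ ∈ Cfsg.principalBlock M G,
      Cfsg.blockHeight p (Cfsg.principalBlock M G) (χ : G → ℂ) = 0) ↔
      ∀ φ : Cfsg.IrrCharacter (G ⧸ N), ¬ p ∣ Cfsg.charDegree (φ : G ⧸ N → ℂ) := by
    constructor
    · intro h φ
      exact (hh _).1 (h (Cfsg.Agent.CharX.infl N φ) ((htriv _).2 (Cfsg.Agent.CharX.infl_trivialOn N φ)))
    · intro h χ hχ
      obtain ⟨φ, hφ⟩ := (Cfsg.Agent.CharX.quotEquiv N).surjective ⟨χ, (htriv χ).1 hχ⟩
      have hφ' : Cfsg.Agent.CharX.infl N φ = χ := congrArg Subtype.val hφ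
      exact (hh χ).2 (hφ' ▸ h φ)
  have hinj : ∀ a b : (P : Subgroup G), ((a : G) : G ⧸ N) = ((b : G) : G ⧸ N) → a = b := by
    intro a b h
    rw [QuotientGroup.eq] at h
    obtain ⟨i, hi⟩ := P.isPGroup' (a⁻¹ * b)
    have hone : (a : G)⁻¹ * b = 1 := Cfsg.Agent.CharExtend.eq_one_of_pow_coprime
      (by simpa using congrArg Subtype.val hi)
      (congrArg Subtype.val (pow_card_eq_one' (x := (⟨_, h⟩ : N))))
      (((hp.coprime_iff_not_dvd).2 hNp).pow_left i)
    exact Subtype.ext (inv_mul_eq_one.1 hone)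
  have hcomm : IsMulCommutative P ↔ IsMulCommutative Pq := by
    constructor
    · intro h
      refine ⟨⟨?_⟩⟩
      rintro ⟨_, a, ha, rfl⟩ ⟨_, b, hb, rfl⟩
      refine Subtype.ext ?_
      show QuotientGroup.mk' N a * QuotientGroup.mk' N b = QuotientGroup.mk' N b * QuotientGroup.mk' N a
      rw [← map_mul, ← map_mul, show a * b = b * a from
        congrArg Subtype.val (h.is_comm.comm (⟨a, ha⟩ : (P : Subgroup G)) ⟨b, hb⟩)]
    · intro h
      refine ⟨⟨fun a b => hinj _ _ ?_⟩⟩
      exact congrArg Subtype.val (h.is_comm.comm (⟨_, ⟨a, a.2, rfl⟩⟩ : (Pq : Subgroup (G ⧸ N)))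
        ⟨_, ⟨b, b.2, rfl⟩⟩)
  rw [hall, hcomm]
  constructor
  · intro hc φ h
    haveI : Fintype (G ⧸ N) := Fintype.ofFinite _
    have hle : (Pq : Subgroup (G ⧸ N)) ≤ Cfsg.pCore p (G ⧸ N) := fun x hx => by
      refine Cfsg.Agent.PSolvable.centralizer_pCore_le hsolvq
        (Cfsg.Agent.FittingCores.pPrimeCore_quotient_eq_bot p N hNdef) ?_
      rw [Subgroup.mem_centralizer_iff]
      intro z hz
      exact congrArg Subtype.val (hc.is_comm.comm
        (⟨z, Cfsg.Agent.PBasic.pCore_le_sylow Pq hz⟩ : (Pq : Subgroup (G ⧸ N))) ⟨x, hx⟩)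
    have heq : (Pq : Subgroup (G ⧸ N)) = Cfsg.pCore p (G ⧸ N) :=
      le_antisymm hle (Cfsg.Agent.PBasic.pCore_le_sylow Pq)
    haveI : (Pq : Subgroup (G ⧸ N)).Normal := heq ▸ Cfsg.pCore_normal p _
    exact Pq.not_dvd_index (h.trans (Cfsg.Agent.Char.Ito.degree_dvd_index _ hc φ))
  · intro h
    exact (Cfsg.Agent.Char.Ito.converse _ (G ⧸ N) p rfl hsolvq h Pq).2

end Cfsg.Agent.S4736
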