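import Cfsg.Statements.S4740
import Cfsg.Agent.Lib.BrauerPairs.ClassCount

set_option autoImplicit false
open Cfsg

namespace Cfsg.Agent.S4740

/-- Let p be an odd prime, G a finite group of even order, x an involution of G and P a subgroup of G of order p ^ c such that no conjugate of x inverts a non-identity element of P. If p ^ a is the p-part of the order of C_G(x), then some irreducible character of G has degree divisible by p ^ (c - a). -/
theorem result {G : Type*} [Group G] [Finite G] (p : ℕ) [Fact p.Prime] (hp2 : p ≠ 2) (hG : Even (Nat.card G)) (x : G) (hx : orderOf x = 2) (P : Subgroup G) (c : ℕ) (hP : Nat.card ↥P = p ^ c) (hinv : ∀ g : G, IsConj x g → ∀ z ∈ P, z ≠ 1 → g * z * g⁻¹ ≠ z⁻¹) (a : ℕ) (ha : (Nat.card ↥(Subgroup.centralizer ({x} : Set G))).factorization p = a) : ∃ χ : Cfsg.IrrCharacter G, p ^ (c - a) ∣ Cfsg.charDegree (χ : G → ℂ) := by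
  haveI := Fintype.ofFinite G
  subst ha
  refine Cfsg.Agent.BrauerPairs.exists_irr_pow_dvd (Fact.out : p.Prime) x P c hP ?_
  intro g h hg hh hmem
  by_contra hne
  have inv : ∀ w : G, IsConj x w → w⁻¹ = w := fun w hw => by
    obtain ⟨d, rfl⟩ := isConj_iff.1 hw
    have hx2 : x * x = 1 := by rw [← pow_two, ← hx, pow_orderOf_eq_one]
    rw [mul_inv_rev, mul_inv_rev, inv_inv, inv_eq_of_mul_eq_one_right hx2, mul_assoc]
  refine hinv g hg _ hmem hne ?_
  rw [mul_inv_rev, inv_inv, inv h hh, inv g hg]
  calc g * (g * h) * g = (g * g) * (h * g) := by group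
    _ = h * g := by rw [show g * g = 1 by nth_rw 1 [← inv g hg]; exact inv_mul_cancel g, one_mul]

end Cfsg.Agent.S4740
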