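import Cfsg.Statements.S4743
import Cfsg.Agent.S4742
import Cfsg.Agent.Lib.Char.ItoPSolvable
import Cfsg.Agent.Lib.Char.Fixed
import Cfsg.Agent.Lib.Solvable.Fitting
import Cfsg.Agent.Lib.PLocal.PSolvable

set_option autoImplicit false
set_option linter.style.haveILetI false
open Cfsg

namespace Cfsg.Agent.S4743

open Cfsg.Agent.Char

universe u
variable {G : Type u} [Group G] [Finite G]

theorem semiregular_defect_zero (r s : ℕ) [hr : Fact r.Prime] [hs : Fact s.Prime] (hrs : r ≠ s)
    (P : Subgroup G) [P.Normal] (hP : IsPGroup r P) (hne : P ≠ ⊥)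
    (hfree : ∀ y : G, orderOf y = s → ∀ x ∈ P, y * x = x * y → x = 1) :
    ∃ χ : Cfsg.IrrCharacter G,
      (Cfsg.charDegree (χ : G → ℂ)).factorization s = (Nat.card G).factorization s := by
  classical
  haveI : Fintype G := Fintype.ofFinite G
  haveI : Fintype P := Fintype.ofFinite P
  -- a nontrivial character of `P`
  obtain ⟨θ, hθ⟩ : ∃ θ : Cfsg.IrrCharacter P, θ ≠ principal P := by
    by_contra hall
    push Not at hall
    have h := sum_sq_degree (G := P)
    rw [Fintype.sum_eq_single (principal P) (fun t ht => absurd (hall t) ht)] at h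
    change (1 : ℂ) ^ 2 = _ at h
    rw [one_pow] at h
    exact hne (Subgroup.card_eq_one.1 (Nat.cast_eq_one.1 h.symm))
  let T : Subgroup G := inertia P (θ : P → ℂ)
  haveI : Fintype T := Fintype.ofFinite T
  have hT : ¬ s ∣ Nat.card T := by
    intro hdvd
    obtain ⟨y, hy⟩ := exists_prime_orderOf_dvd_card' s hdvd
    have hy' : orderOf (y : G) = s := by rw [Subgroup.orderOf_coe]; exact hy
    have hfix := card_fixed_irr (fun k : P => conjHom P (y : G) k)
      (fun a b hab => (conjHom P (y : G)).map_isConj hab)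
      (fun χ hχ => isIrrCharacter_conjChar P hχ _)
    have h2 : 2 ≤ Nat.card {χ : Cfsg.IrrCharacter P //
        (fun k => (χ : P → ℂ) (conjHom P (y : G) k)) = (χ : P → ℂ)} := by
      haveI : Nontrivial {χ : Cfsg.IrrCharacter P //
          (fun k => (χ : P → ℂ) (conjHom P (y : G) k)) = (χ : P → ℂ)} :=
        ⟨⟨θ, y.2⟩, ⟨principal P, rfl⟩, fun e => hθ (congrArg Subtype.val e)⟩
      exact Finite.one_lt_card
    rw [hfix] at h2
    haveI : Nontrivial {C : ConjClasses P //
        ∀ g, ConjClasses.mk g = C → IsConj (conjHom P (y : G) g) g} :=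
      (Finite.one_lt_card_iff_nontrivial).1 h2
    obtain ⟨⟨C, hC⟩, hC1⟩ := exists_ne (⟨ConjClasses.mk 1, fun g hg => by
      obtain rfl := isConj_one_right.1 (IsConj.symm (ConjClasses.mk_eq_mk_iff_isConj.1 hg))
      rw [map_one]⟩ : {C : ConjClasses P //
        ∀ g, ConjClasses.mk g = C → IsConj (conjHom P (y : G) g) g})
    obtain ⟨c, rfl⟩ := ConjClasses.mk_surjective C
    obtain ⟨a, ha⟩ := isConj_iff.1 (IsConj.symm (hC c rfl))
    have hcop : Nat.Coprime (orderOf (y : G)) (Nat.card P) := by
      obtain ⟨k, hk⟩ := hP.exists_card_eq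
      rw [hy', hk]
      exact ((Nat.coprime_primes hs.out hr.out).2 (Ne.symm hrs)).pow_right _
    obtain ⟨k, hk, hkc⟩ := exists_fixed_of_class P (x := (y : G))
      (by rw [Subgroup.normalizer_eq_top]; exact Subgroup.mem_top _) hcop c.2 a.2
      (congrArg Subtype.val ha)
    have h1 := hfree (y : G) hy' _ (mul_mem (mul_mem hk c.2) (inv_mem hk)) hkc
    refine hC1 (Subtype.ext ?_)
    show ConjClasses.mk c = ConjClasses.mk 1
    have hc1 : c = 1 := Subtype.ext (conj_eq_one_iff.1 h1)
    rw [hc1]
  obtain ⟨χ, hχ⟩ := Ito.exists_above P θ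
  obtain ⟨ψ, hψ, hind, -⟩ := clifford_correspondence_surjective P θ.2 rfl
    (le_inertia P (IsCharacter.isClassFunction (IsIrrCharacter.isCharacter θ.2))) χ.2 hχ
  obtain ⟨d, hd⟩ := IsCharacter.exists_degree (IsIrrCharacter.isCharacter hψ)
  have hχd : Cfsg.charDegree (χ : G → ℂ) = T.index * d := by
    rw [← Nat.cast_inj (R := ℂ), ← Cfsg.Agent.CharX.irr_deg, ← hind, indFun_one_apply, hd,
      Nat.cast_mul]
  refine ⟨χ, le_antisymm ((Nat.factorization_le_iff_dvd (Cfsg.Agent.CharX.irr_deg_pos χ).ne'
    Nat.card_pos.ne').2 (Cfsg.Agent.CharX.irr_deg_dvd_card χ) s) ?_⟩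
  have hd0 : d ≠ 0 := fun h => (Cfsg.Agent.CharX.irr_deg_pos χ).ne' (by rw [hχd, h, mul_zero])
  rw [hχd, Nat.factorization_mul Subgroup.index_ne_zero_of_finite hd0, ← T.card_mul_index,
    Nat.factorization_mul Nat.card_pos.ne' Subgroup.index_ne_zero_of_finite, Finsupp.add_apply,
    Finsupp.add_apply, Nat.factorization_eq_zero_of_not_dvd hT, zero_add]
  exact Nat.le_add_right _ _

theorem of_pSolvable (r s : ℕ) [hr : Fact r.Prime] [hs : Fact s.Prime] (hrs : r ≠ s)
    (hrG : r ∣ Nat.card G) (hsG : s ∣ Nat.card G)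
    (hC : ∀ g : G, g ≠ 1 → (∃ k : ℕ, orderOf g = r ^ k) →
      ¬ s ∣ Nat.card ↥(Subgroup.centralizer ({g} : Set G)))
    (hsolv : Cfsg.IsPSolvable r G) :
    (∃ χ : Cfsg.IrrCharacter G,
      (Cfsg.charDegree (χ : G → ℂ)).factorization r = (Nat.card G).factorization r) ∨
    (∃ χ : Cfsg.IrrCharacter G,
      (Cfsg.charDegree (χ : G → ℂ)).factorization s = (Nat.card G).factorization s) := by
  classical
  let K := Cfsg.pPrimeCore r G
  haveI hKn : K.Normal := Cfsg.Agent.FittingCores.pPrimeCore_normal r
  have hKr : (Nat.card K).Coprime r := Cfsg.Agent.FittingCores.pPrimeCore_coprime r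
  by_cases hsK : s ∣ Nat.card K
  · left
    rcases Cfsg.Agent.S4742.result r s hrs hrG hsG hC with h | h
    · exact h
    · exfalso
      obtain ⟨z, hz⟩ := exists_prime_orderOf_dvd_card' s hsK
      obtain ⟨g, h', hg, hh, hne, k, hk⟩ := h (z : G)
        (fun e => by
          rw [← Subgroup.orderOf_coe, e, orderOf_one] at hz
          exact hs.out.ne_one hz.symm)
        ⟨1, by rw [Subgroup.orderOf_coe, hz, pow_one]⟩
      have hmem : ∀ a : G, IsConj (z : G) a → a ∈ K := fun a ha => by
        obtain ⟨c, rfl⟩ := isConj_iff.1 ha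
        exact hKn.conj_mem _ z.2 c
      have h1 := Subgroup.orderOf_dvd_natCard K (mul_mem (hmem g hg) (inv_mem (hmem h' hh)))
      rw [hk] at h1
      rcases k with _ | k
      · exact hne (orderOf_eq_one_iff.1 (by simpa using hk))
      · exact (hr.out.coprime_iff_not_dvd.1 hKr.symm) ((dvd_pow_self r k.succ_ne_zero).trans h1)
  · right
    let q := QuotientGroup.mk' K
    have hcore : Cfsg.pPrimeCore r (G ⧸ K) = ⊥ :=
      Cfsg.Agent.FittingCores.pPrimeCore_quotient_eq_bot r K rfl
    have hrQ : r ∣ Nat.card (G ⧸ K) := by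
      rw [← K.card_mul_index, Subgroup.index_eq_card] at hrG
      exact (hr.out.dvd_mul.1 hrG).resolve_left (hr.out.coprime_iff_not_dvd.1 hKr.symm)
    haveI : Nontrivial (G ⧸ K) := Finite.one_lt_card_iff_nontrivial.1
      (lt_of_lt_of_le hr.out.one_lt (Nat.le_of_dvd Nat.card_pos hrQ))
    have hne := (Cfsg.Agent.PSolvable.exists_core_ne_bot
      (Cfsg.Agent.PSolvable.quotient K hsolv)).resolve_right (fun h => h hcore)
    haveI := Cfsg.Agent.FittingCores.pCore_normal (G := G ⧸ K) r
    obtain ⟨χ, hχ⟩ := semiregular_defect_zero r s hrs (Cfsg.pCore r (G ⧸ K))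
      (Cfsg.Agent.FittingCores.pCore_isPGroup r) hne (by
        intro y hy x hx hyx
        by_contra hx1
        -- lift to an element of order `s` normalising a preimage
        obtain ⟨g, rfl⟩ := QuotientGroup.mk'_surjective K y
        obtain ⟨x, rfl⟩ := QuotientGroup.mk'_surjective K x
        let X : Subgroup G := (Subgroup.zpowers (q x)).comap q
        obtain ⟨i, hi⟩ := (Cfsg.Agent.FittingCores.pCore_isPGroup r) ⟨q x, hx⟩
        obtain ⟨i', -, hi'⟩ := (Nat.dvd_prime_pow hr.out).1
          (orderOf_dvd_of_pow_eq_one (congrArg Subtype.val hi : (q x) ^ r ^ i = 1))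
        have hXcard : Nat.card X = Nat.card K * r ^ i' := by
          have h1 := Subgroup.relIndex_ker q (K := X)
          rw [QuotientGroup.ker_mk',
            Subgroup.map_comap_eq_self_of_surjective (QuotientGroup.mk'_surjective K),
            Nat.card_zpowers, hi'] at h1
          have hle : K ≤ X := fun a ha => by
            show (a : G ⧸ K) ∈ Subgroup.zpowers (q x)
            rw [(QuotientGroup.eq_one_iff a).2 ha]
            exact one_mem _
          rw [← h1, Subgroup.relIndex, ← (K.subgroupOf X).card_mul_index,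
            Nat.card_congr (Subgroup.subgroupOfEquivOfLe hle).toEquiv]
        have hsX : ¬ s ∣ Nat.card X := by
          rw [hXcard]
          exact fun h => (hs.out.dvd_mul.1 h).elim hsK fun h2 =>
            hrs ((Nat.prime_dvd_prime_iff_eq hs.out hr.out).1 (hs.out.dvd_of_dvd_pow h2)).symm
        -- an `s`-element acting as `g`
        set e := ((orderOf g).factorization s)
        have hsplit : orderOf g = s ^ e * (orderOf g / s ^ e) :=
          (Nat.mul_div_cancel' (Nat.ordProj_dvd _ _)).symm
        have hcop : Nat.Coprime (s ^ e) (orderOf g / s ^ e) :=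
          (Nat.coprime_ordCompl hs.out (orderOf_pos g).ne').pow_left _
        set z := g ^ hallExp hcop
        have hzs : z ^ s ^ e = 1 := hallExp_pow_pow hcop (by rw [← hsplit]; exact pow_orderOf_eq_one g)
        have hqz : q z = q g := by
          have h1 : s ∣ orderOf g := hy ▸ orderOf_map_dvd q g
          have he : e ≠ 0 := (hs.out.factorization_pos_of_dvd (orderOf_pos g).ne' h1).ne'
          rw [map_pow]
          refine pow_hallExp_of_dvd hcop (orderOf_dvd_iff_pow_eq_one.1 ?_)
          rw [hy]
          exact dvd_pow_self s he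
        have hzX : ∀ a ∈ X, z * a * z⁻¹ ∈ X := by
          intro a ha
          show q (z * a * z⁻¹) ∈ Subgroup.zpowers (q x)
          obtain ⟨j, hj⟩ := Subgroup.mem_zpowers_iff.1 (show q a ∈ Subgroup.zpowers (q x) from ha)
          rw [map_mul, map_mul, map_inv, hqz, ← hj, (Commute.zpow_right hyx j).eq,
            mul_inv_cancel_right]
          exact Subgroup.zpow_mem _ (Subgroup.mem_zpowers _) _
        have hzn : z ∈ Subgroup.normalizer (X : Set G) := by
          rw [Subgroup.mem_normalizer_iff]
          intro a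
          refine ⟨hzX a, fun ha => ?_⟩
          have : ∀ n : ℕ, ∀ b ∈ X, z ^ n * b * (z ^ n)⁻¹ ∈ X := by
            intro n
            induction n with
            | zero => intro b hb; simpa using hb
            | succ n ih =>
              intro b hb
              rw [pow_succ', show z * z ^ n * b * (z * z ^ n)⁻¹ = z * (z ^ n * b * (z ^ n)⁻¹) * z⁻¹ by group]
              exact hzX _ (ih b hb)
          have h1 := this (orderOf z - 1) _ ha
          have e1 : z ^ (orderOf z - 1) * z = 1 := by
            rw [← pow_succ, Nat.sub_add_cancel (orderOf_pos z), pow_orderOf_eq_one]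
          rwa [show z ^ (orderOf z - 1) * (z * a * z⁻¹) * (z ^ (orderOf z - 1))⁻¹ =
            (z ^ (orderOf z - 1) * z) * a * (z ^ (orderOf z - 1) * z)⁻¹ by group, e1, one_mul,
            inv_one, mul_one] at h1
        let Z := Subgroup.zpowers (⟨z, hzn⟩ : Subgroup.normalizer (X : Set G))
        have hZ : IsPGroup s Z := by
          rw [IsPGroup]
          rintro ⟨w, hw⟩
          refine ⟨e, Subtype.ext ?_⟩
          obtain ⟨j, rfl⟩ := Subgroup.mem_zpowers_iff.1 hw
          show ((⟨z, hzn⟩ : Subgroup.normalizer (X : Set G)) ^ j) ^ s ^ e = 1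
          rw [← zpow_natCast, zpow_comm, zpow_natCast,
            show (⟨z, hzn⟩ : Subgroup.normalizer (X : Set G)) ^ s ^ e = 1 from Subtype.ext hzs, one_zpow]
        let φ : Z →* MulAut X := (Subgroup.normalizerMonoidHom X).comp Z.subtype
        letI : MulDistribMulAction Z X := MulDistribMulAction.compHom X φ
        have hsyl : ¬ s ∣ Nat.card (Sylow r X) := fun h => hsX
          ((h.trans (Classical.arbitrary (Sylow r X)).card_dvd_index).trans
            (Subgroup.index_dvd_card _))
        obtain ⟨S, hS⟩ := hZ.nonempty_fixed_point_of_prime_not_dvd_card (Sylow r X) hsyl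
        have hSinj : ∀ a b : X, a ∈ (S : Subgroup X) → b ∈ (S : Subgroup X) →
            q (a : G) = q (b : G) → a = b := by
          intro a b ha hb hab
          have hmem : ((a⁻¹ * b : X) : G) ∈ K := QuotientGroup.eq.1 hab
          obtain ⟨n, hn⟩ := S.isPGroup'.exists_card_eq
          have h1 : orderOf ((a⁻¹ * b : X) : G) ∣ r ^ n := by
            rw [Subgroup.orderOf_coe, ← hn]
            exact Subgroup.orderOf_dvd_natCard _ (mul_mem (inv_mem ha) hb)
          have h2 := Nat.dvd_gcd (Subgroup.orderOf_dvd_natCard K hmem) h1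
          rw [(hKr.pow_right n).gcd_eq_one, Nat.dvd_one, orderOf_eq_one_iff] at h2
          exact inv_mul_eq_one.1 (Subtype.ext h2)
        -- `S` maps onto the cyclic image
        have hSx : ∃ a : X, a ∈ (S : Subgroup X) ∧ q (a : G) = q x := by
          let f : X →* G ⧸ K := q.comp X.subtype
          have hcard : Nat.card ((S : Subgroup X).map f) = r ^ i' := by
            rw [show Nat.card ((S : Subgroup X).map f) = Nat.card (S : Subgroup X) from
              Nat.card_image_of_injOn (f := f) (s := ((S : Subgroup X) : Set X))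
                fun a ha b hb hab => hSinj a b ha hb hab,
              S.card_eq_multiplicity, hXcard, Nat.factorization_mul Nat.card_pos.ne'
              (pow_ne_zero _ hr.out.ne_zero), Finsupp.add_apply,
              Nat.factorization_eq_zero_of_not_dvd (hr.out.coprime_iff_not_dvd.1 hKr.symm),
              zero_add, hr.out.factorization_pow, Finsupp.single_eq_same]
          have hle : (S : Subgroup X).map f ≤ Subgroup.zpowers (q x) := by
            rintro _ ⟨a, -, rfl⟩
            exact a.2
          have := Subgroup.eq_of_le_of_card_ge hle (by rw [hcard, Nat.card_zpowers, hi'])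
          obtain ⟨a, ha, hae⟩ : q x ∈ (S : Subgroup X).map f := this ▸ Subgroup.mem_zpowers _
          exact ⟨a, ha, hae⟩
        obtain ⟨a, haS, haq⟩ := hSx
        let zZ : Z := ⟨⟨z, hzn⟩, Subgroup.mem_zpowers _⟩
        have hmemS : zZ • a ∈ (S : Subgroup X) := by
          have h1 := hS zZ
          rw [← h1]
          exact Subgroup.smul_mem_pointwise_smul a zZ (S : Subgroup X) haS
        have hfix : zZ • a = a := hSinj _ _ hmemS haS (by
          show q (z * (a : G) * z⁻¹) = q (a : G)
          rw [map_mul, map_mul, map_inv, hqz, haq, hyx, mul_inv_cancel_right])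
        have hcomm : z * (a : G) = (a : G) * z :=
          mul_inv_eq_iff_eq_mul.1 (congrArg Subtype.val hfix : z * (a : G) * z⁻¹ = a)
        obtain ⟨n, hn⟩ := S.isPGroup'.exists_card_eq
        obtain ⟨n', -, hn'⟩ := (Nat.dvd_prime_pow hr.out).1
          (hn ▸ Subgroup.orderOf_dvd_natCard _ haS : orderOf a ∣ r ^ n)
        refine hC (a : G) (fun h => hx1 (by rw [← haq, h, map_one]))
          ⟨n', by rw [Subgroup.orderOf_coe, hn']⟩ ?_
        have hzc : z ∈ Subgroup.centralizer ({(a : G)} : Set G) :=
          Subgroup.mem_centralizer_singleton_iff.2 hcomm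
        refine Dvd.dvd.trans ?_ (Subgroup.orderOf_dvd_natCard _ hzc)
        rw [← hy, ← hqz]
        exact orderOf_map_dvd q z)
    let χ' : Cfsg.IrrCharacter G :=
      ⟨_, IsIrrCharacter.comp χ.2 q (QuotientGroup.mk'_surjective K)⟩
    refine ⟨χ', ?_⟩
    have e : Cfsg.charDegree (χ' : G → ℂ) = Cfsg.charDegree (χ : G ⧸ K → ℂ) := by
      unfold Cfsg.charDegree
      show ⌊((χ : G ⧸ K → ℂ) (q 1)).re⌋₊ = _
      rw [map_one]
    rw [e, hχ, ← K.card_mul_index, Subgroup.index_eq_card,
      Nat.factorization_mul Nat.card_pos.ne' Nat.card_pos.ne', Finsupp.add_apply,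
      Nat.factorization_eq_zero_of_not_dvd hsK, zero_add]

/-- Let p ≠ q be primes dividing the order of the finite group G, suppose the centralizer of every non-identity p-element has order prime to q, and suppose G is p-solvable or q-solvable. Then G has an irreducible character of p-defect zero or an irreducible character of q-defect zero. -/
theorem result {G : Type*} [Group G] [Finite G] (p q : ℕ) [Fact p.Prime] [Fact q.Prime] (hppq : p ≠ q) (hpG : p ∣ Nat.card G) (hqG : q ∣ Nat.card G) (hC : ∀ g : G, g ≠ 1 → (∃ k : ℕ, orderOf g = p ^ k) → ¬ q ∣ Nat.card ↥(Subgroup.centralizer ({g} : Set G))) (hsolv : Cfsg.IsPSolvable p G ∨ Cfsg.IsPSolvable q G) : (∃ χ : Cfsg.IrrCharacter G, (Cfsg.charDegree (χ : G → ℂ)).factorization p = (Nat.card G).factorization p) ∨ (∃ χ : Cfsg.IrrCharacter G, (Cfsg.charDegree (χ : G → ℂ)).factorization q = (Nat.card G).factorization q) := by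
  have hC' : ∀ g : G, g ≠ 1 → (∃ k : ℕ, orderOf g = q ^ k) →
      ¬ p ∣ Nat.card ↥(Subgroup.centralizer ({g} : Set G)) := by
    rintro g hg ⟨k, hk⟩ hdvd
    obtain ⟨x, hx⟩ := exists_prime_orderOf_dvd_card' p hdvd
    have hx' : orderOf (x : G) = p := by rw [Subgroup.orderOf_coe]; exact hx
    have hgx : g ∈ Subgroup.centralizer ({(x : G)} : Set G) :=
      Subgroup.mem_centralizer_singleton_iff.2 (Subgroup.mem_centralizer_singleton_iff.1 x.2).symm
    rcases k with _ | k
    · exact hg (orderOf_eq_one_iff.1 (by simpa using hk))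
    refine hC (x : G) (fun h => by rw [h, orderOf_one] at hx'; exact (Fact.out : p.Prime).ne_one hx'.symm)
      ⟨1, by rw [hx', pow_one]⟩ ((dvd_pow_self q k.succ_ne_zero).trans ?_)
    rw [← hk]
    exact Subgroup.orderOf_dvd_natCard _ hgx
  rcases hsolv with h | h
  · exact of_pSolvable p q hppq hpG hqG hC h
  · exact (of_pSolvable q p hppq.symm hqG hpG hC' h).symm

end Cfsg.Agent.S4743
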