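import Cfsg.Statements.S4745
import Cfsg.Agent.Lib.OddCenPrimeDeg.Geometry
import Cfsg.Agent.S4738
import Cfsg.Agent.Lib.Char.Clifford
import Cfsg.Agent.Lib.Blocks.SmallDegrees

set_option autoImplicit false
open Cfsg

namespace Cfsg.Agent.S4745

open Cfsg.Agent.Blocks Cfsg.Agent.Char Cfsg.Agent.BrauerPairs

/-- A normal Sylow `p`-subgroup inverted by every involution gives a character of full `2`-part. -/
theorem exists_two_defect_zero {G : Type*} [Group G] [Fintype G] {p : ℕ} [hp' : Fact p.Prime]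
    (hp2 : p ≠ 2) (h2p : ∀ g : G, orderOf g ≠ 2 * p) (P : Subgroup G) [hPn : P.Normal]
    (hP : IsPGroup p P) (hne : P ≠ ⊥) (hcomm : ∀ a ∈ P, ∀ b ∈ P, a * b = b * a) :
    ∃ χ : Cfsg.IrrCharacter G,
      (Cfsg.charDegree (χ : G → ℂ)).factorization 2 = (Nat.card G).factorization 2 := by
  classical
  letI : CommGroup P :=
    { (inferInstance : Group P) with mul_comm := fun a b => Subtype.ext (hcomm a a.2 b b.2) }
  obtain ⟨y, hy, hy1⟩ := (Subgroup.ne_bot_iff_exists_ne_one.1 hne |> fun ⟨a, ha⟩ =>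
    (⟨a, trivial, ha⟩ : ∃ a : P, True ∧ a ≠ 1))
  haveI : Finite P := inferInstance
  obtain ⟨l, hl⟩ := CommGroup.exists_apply_ne_one_of_hasEnoughRootsOfUnity P ℂ hy1
  set θ : P → ℂ := fun a => (l a : ℂ) with hθd
  have hθ : Cfsg.IsIrrCharacter P θ := isIrrCharacter_linear l
  haveI : Fintype P := Fintype.ofFinite P
  obtain ⟨χ, hχ⟩ := Cfsg.Agent.SmallDegrees.exists_over_any P ⟨θ, hθ⟩
  set T := inertia P θ with hT
  haveI : Fintype T := Fintype.ofFinite T
  obtain ⟨ψ, hψ, hind, -⟩ := clifford_correspondence_surjective P hθ hT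
    (le_inertia P (IsCharacter.isClassFunction (IsIrrCharacter.isCharacter hθ))) χ.2 hχ
  have hdvd : T.index ∣ Cfsg.charDegree (χ : G → ℂ) := by
    refine ⟨Cfsg.charDegree ψ, ?_⟩
    have h1 := congrFun hind 1
    rw [indFun_one_apply, irr_one_eq_charDegree χ,
      show ψ 1 = (Cfsg.charDegree ψ : ℂ) from irr_one_eq_charDegree ⟨ψ, hψ⟩] at h1
    exact_mod_cast h1.symm
  have hTodd : ¬ 2 ∣ Nat.card T := by
    haveI : Fact (Nat.Prime 2) := ⟨Nat.prime_two⟩
    intro hd
    obtain ⟨t, ht⟩ := exists_prime_orderOf_dvd_card' 2 hd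
    have hto : orderOf (t : G) = 2 := by rw [Subgroup.orderOf_coe, ht]
    have hinv := (inverts_of_mem_normalizer hp2 h2p hto hP
      (by rw [Subgroup.normalizer_eq_top]; trivial)).1 y y.2
    have h1 : l ⟨(t : G) * y * (t : G)⁻¹, hPn.conj_mem _ y.2 _⟩ = l y :=
      Units.ext ((mem_inertia_iff P).1 t.2 y)
    have h2 : (⟨(t : G) * y * (t : G)⁻¹, hPn.conj_mem _ y.2 _⟩ : P) = y⁻¹ := Subtype.ext hinv
    rw [h2, map_inv] at h1
    have h3 : l y ^ 2 = 1 := by rw [sq]; nth_rw 1 [← h1]; exact inv_mul_cancel _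
    obtain ⟨k, hk⟩ := IsPGroup.iff_orderOf.1 hP y
    have h4 : l y ^ p ^ k = 1 := by rw [← map_pow, ← hk, pow_orderOf_eq_one, map_one]
    refine hl ?_
    have h5 := (pow_gcd_eq_one (a := l y) (m := 2) (n := p ^ k)).2 ⟨h3, h4⟩
    rwa [((Nat.coprime_primes Nat.prime_two hp'.out).2 hp2.symm).pow_right k |>.gcd_eq_one,
      pow_one] at h5
  refine ⟨χ, le_antisymm ((Nat.factorization_le_iff_dvd (charDegree_pos χ).ne'
    Nat.card_pos.ne').2 (charDegree_dvd_card χ) 2) ?_⟩
  have h6 : (Nat.card G).factorization 2 = T.index.factorization 2 := by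
    rw [← T.card_mul_index, Nat.factorization_mul Nat.card_pos.ne'
      Subgroup.index_ne_zero_of_finite, Finsupp.add_apply,
      Nat.factorization_eq_zero_of_not_dvd hTodd, zero_add]
  rw [h6]
  exact (Nat.factorization_le_iff_dvd Subgroup.index_ne_zero_of_finite (charDegree_pos χ).ne').2
    hdvd 2

/-- Let p be an odd prime and G a finite group of even order divisible by p in which the centralizer of every non-identity p-element has odd order, and suppose G acts faithfully and transitively on a set with p ^ r elements, r ≥ 1. Then either G has an irreducible character of p-defect zero, or G is p-solvable and has an irreducible character of 2-defect zero. -/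
theorem result {G Ω : Type*} [Group G] [Finite G] [MulAction G Ω] [FaithfulSMul G Ω] [Fintype Ω] (htr : MulAction.IsPretransitive G Ω) (p : ℕ) [Fact p.Prime] (hp2 : p ≠ 2) (hpG : p ∣ Nat.card G) (h2G : 2 ∣ Nat.card G) (hC : ∀ g : G, g ≠ 1 → (∃ k : ℕ, orderOf g = p ^ k) → Odd (Nat.card ↥(Subgroup.centralizer ({g} : Set G)))) (r : ℕ) (hr : 1 ≤ r) (hΩ : Fintype.card Ω = p ^ r) : (∃ χ : Cfsg.IrrCharacter G, (Cfsg.charDegree (χ : G → ℂ)).factorization p = (Nat.card G).factorization p) ∨ (Cfsg.IsPSolvable p G ∧ ∃ χ : Cfsg.IrrCharacter G, (Cfsg.charDegree (χ : G → ℂ)).factorization 2 = (Nat.card G).factorization 2) := by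
  classical
  haveI := Fintype.ofFinite G
  by_cases hno : ∃ χ : Cfsg.IrrCharacter G,
      (Cfsg.charDegree (χ : G → ℂ)).factorization p = (Nat.card G).factorization p
  · exact Or.inl hno
  right
  haveI hp : Fact p.Prime := inferInstance
  have h2p : ∀ g : G, orderOf g ≠ 2 * p := by
    intro g hg
    have hp0 := hp.out.pos
    have h1 : orderOf (g ^ 2) = p := by
      rw [orderOf_pow' g two_ne_zero, hg, Nat.gcd_mul_right_left, Nat.mul_div_cancel_left _ two_pos]
    have h2 : orderOf (g ^ p) = 2 := by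
      rw [orderOf_pow' g hp0.ne', hg, Nat.gcd_mul_left_left, Nat.mul_div_cancel _ hp0]
    refine Nat.not_even_iff_odd.2 (hC (g ^ 2) (fun e => ?_) ⟨1, by rw [h1, pow_one]⟩) ?_
    · rw [e, orderOf_one] at h1
      exact hp.out.one_lt.ne h1
    · rw [even_iff_two_dvd]
      have h3 : g ^ p ∈ Subgroup.centralizer ({g ^ 2} : Set G) :=
        Subgroup.mem_centralizer_singleton_iff.2 (Commute.pow_pow (Commute.refl g) p 2)
      exact dvd_trans (dvd_of_eq h2.symm) (Subgroup.orderOf_dvd_natCard _ h3)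
  obtain ⟨hcom, hconj⟩ := (Cfsg.Agent.S4738.result p hp2 (even_iff_two_dvd.2 h2G) h2p).resolve_left hno
  push Not at hno
  have hyp : Cfsg.Agent.OddCenPrimeDeg.Hyp G Ω p :=
    { odd := hp2
      trans := htr
      deg := ⟨r, hr, by rw [Nat.card_eq_fintype_card, hΩ]⟩
      h2p := h2p
      comm := fun P a ha b hb => congrArg Subtype.val ((hcom P).is_comm.comm ⟨a, ha⟩ ⟨b, hb⟩)
      conj := hconj
      norm := fun s hs => by
        obtain ⟨y, hy1, ⟨k, hk⟩, hinv⟩ := exists_inverted hp2 h2p hno hs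
        refine exists_sylow_normalized hp2 h2p hs (A₀ := Subgroup.zpowers y)
          (IsPGroup.of_card (n := k) (by rw [Nat.card_zpowers, hk])) ?_
          (Subgroup.zpowers_ne_bot.2 hy1)
        have h1 : ∀ a ∈ Subgroup.zpowers y, s * a * s⁻¹ ∈ Subgroup.zpowers y := fun a ha => by
          obtain ⟨i, rfl⟩ := Subgroup.mem_zpowers_iff.1 ha
          rw [← conj_zpow, hinv]
          exact zpow_mem (inv_mem (Subgroup.mem_zpowers y)) i
        refine Subgroup.mem_normalizer_iff.2 fun a => ⟨h1 a, fun ha => ?_⟩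
        have h2 := h1 _ ha
        have hss : s * s = 1 := by rw [← sq, ← hs, pow_orderOf_eq_one]
        rwa [inv_eq_of_mul_eq_one_right hss, show s * (s * a * s) * s = (s * s) * a * (s * s) by
          group, hss, one_mul, mul_one] at h2 }
  haveI : Fact (Nat.Prime 2) := ⟨Nat.prime_two⟩
  obtain ⟨u, hu⟩ := exists_prime_orderOf_dvd_card' (G := G) 2 h2G
  obtain ⟨P⟩ : Nonempty (Sylow p G) := inferInstance
  haveI hn : (P : Subgroup G).Normal := hyp.sylow_normal hno hu P
  refine ⟨⟨2, ![⊥, (P : Subgroup G), ⊤], rfl, rfl, ?_, ?_, ?_⟩,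
    exists_two_defect_zero hp2 h2p _ P.isPGroup' (P.ne_bot_of_dvd_card hpG) (hyp.comm P)⟩
  · exact Fin.monotone_iff_le_succ.2 fun i => by fin_cases i <;> simp
  · intro i
    fin_cases i
    · exact Subgroup.normal_bot
    · exact hn
    · exact Subgroup.normal_top
  · intro i
    fin_cases i
    · refine Or.inl ⟨(Nat.card G).factorization p, ?_⟩
      show (⊥ : Subgroup G).relIndex (P : Subgroup G) = _
      rw [Subgroup.relIndex_bot_left, P.card_eq_multiplicity]
    · refine Or.inr ?_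
      simp only [Fin.isValue]
      show ((P : Subgroup G).relIndex ⊤).Coprime p
      rw [Subgroup.relIndex_top_right]
      exact (hp.out.coprime_iff_not_dvd.2 P.not_dvd_index).symm

end Cfsg.Agent.S4745
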