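import Cfsg.Statements.S4746
import Cfsg.Agent.S4742
import Cfsg.Agent.Lib.Char.Complete
import Cfsg.Agent.Lib.Char.Integral
import Cfsg.Agent.Lib.Char.Degree

set_option autoImplicit false
open Cfsg

namespace Cfsg.Agent.S4746

open Cfsg.Agent.Char Cfsg.Agent.CharX in
/-- A real element with centralizer of odd order forces a character of even degree. -/
theorem exists_even_deg {G : Type*} [Group G] [Finite G] {y : G} (hy : y ≠ 1) (hreal : IsConj y y⁻¹)
    (hodd : Odd (Nat.card (Subgroup.centralizer ({y} : Set G)))) :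
    ∃ χ : Cfsg.IrrCharacter G, Even (Cfsg.charDegree (χ : G → ℂ)) := by
  classical
  haveI : Fintype G := Fintype.ofFinite G
  by_contra hcon
  push Not at hcon
  have hchar : ∀ χ : Cfsg.IrrCharacter G, Cfsg.IsCharacter G (χ : G → ℂ) := fun χ =>
    IsIrrCharacter.isCharacter χ.2
  have hre : ∀ χ : Cfsg.IrrCharacter G, (starRingEnd ℂ) ((χ : G → ℂ) y) = (χ : G → ℂ) y := fun χ => by
    obtain ⟨c, hc⟩ := isConj_iff.1 hreal
    rw [← IsCharacter.inv (hchar χ) y, ← hc]
    exact IsCharacter.isClassFunction (hchar χ) y c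
  have h2 : ∑ χ : Cfsg.IrrCharacter G, (χ : G → ℂ) y ^ 2 =
      (Nat.card (Subgroup.centralizer ({y} : Set G)) : ℂ) := by
    rw [← column_orth_of_isConj (IsConj.refl y)]
    exact Finset.sum_congr rfl fun χ _ => by rw [hre χ, pow_two]
  have h1 : ∑ χ : Cfsg.IrrCharacter G, (Cfsg.charDegree (χ : G → ℂ) : ℂ) * (χ : G → ℂ) y = 0 := by
    rw [← column_orth_of_not_isConj (g := y) (h := (1 : G))
      (fun h => hy (isConj_one_left.1 h))]
    exact Finset.sum_congr rfl fun χ _ => by rw [irr_deg χ, map_natCast, mul_comm]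
  have hsum : ∀ s : Finset (Cfsg.IrrCharacter G), ∃ u w : ℂ, IsIntegral ℤ u ∧ IsIntegral ℤ w ∧
      (∑ χ ∈ s, (χ : G → ℂ) y) = (∑ χ ∈ s, (Cfsg.charDegree (χ : G → ℂ) : ℂ) * (χ : G → ℂ) y) + 2 * u ∧
      (∑ χ ∈ s, (χ : G → ℂ) y) ^ 2 = (∑ χ ∈ s, (χ : G → ℂ) y ^ 2) + 2 * w := by
    intro s
    induction s using Finset.induction with
    | empty => exact ⟨0, 0, isIntegral_zero, isIntegral_zero, by simp, by simp⟩
    | insert χ s hχ ih =>
      obtain ⟨u, w, hu, hw, e1, e2⟩ := ih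
      obtain ⟨k, hk⟩ := Nat.not_even_iff_odd.1 (hcon χ)
      have hint := IsCharacter.isIntegral (hchar χ) y
      have hs : IsIntegral ℤ (∑ ψ ∈ s, (ψ : G → ℂ) y) :=
        IsIntegral.sum _ fun ψ _ => IsCharacter.isIntegral (hchar ψ) y
      refine ⟨u - (k : ℂ) * (χ : G → ℂ) y, w + (χ : G → ℂ) y * ∑ ψ ∈ s, (ψ : G → ℂ) y,
        hu.sub ((map_natCast (algebraMap ℤ ℂ) k ▸ isIntegral_algebraMap).mul hint), hw.add (hint.mul hs), ?_, ?_⟩
      · rw [Finset.sum_insert hχ, Finset.sum_insert hχ, e1, hk]; push_cast; ring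
      · rw [Finset.sum_insert hχ, Finset.sum_insert hχ, add_sq, e2]; ring
  obtain ⟨u, w, hu, hw, e1, e2⟩ := hsum Finset.univ
  rw [h1, zero_add] at e1
  rw [h2, e1] at e2
  have hdiv : IsIntegral ℤ (((Nat.card (Subgroup.centralizer ({y} : Set G)) : ℕ) : ℂ) / (2 : ℕ)) := by
    have e3 : ((Nat.card (Subgroup.centralizer ({y} : Set G)) : ℕ) : ℂ) / (2 : ℕ) = u * u + u * u - w := by
      push_cast; linear_combination -(1 / 2 : ℂ) * e2
    rw [e3]
    exact ((hu.mul hu).add (hu.mul hu)).sub hw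
  obtain ⟨k, hk⟩ := hodd
  have := dvd_of_isIntegral_div two_ne_zero hdiv
  omega

/-- Let p be an odd prime and G a finite group of even order divisible by p in which the centralizer of every non-identity p-element has odd order. Then G has an irreducible character of p-defect zero or an irreducible character of even degree. -/
theorem result {G : Type*} [Group G] [Finite G] (p : ℕ) [Fact p.Prime] (hp2 : p ≠ 2) (hpG : p ∣ Nat.card G) (h2G : 2 ∣ Nat.card G) (hC : ∀ g : G, g ≠ 1 → (∃ k : ℕ, orderOf g = p ^ k) → Odd (Nat.card ↥(Subgroup.centralizer ({g} : Set G)))) : (∃ χ : Cfsg.IrrCharacter G, (Cfsg.charDegree (χ : G → ℂ)).factorization p = (Nat.card G).factorization p) ∨ ∃ χ : Cfsg.IrrCharacter G, Even (Cfsg.charDegree (χ : G → ℂ)) := by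
  haveI : Fact (Nat.Prime 2) := ⟨Nat.prime_two⟩
  rcases Cfsg.Agent.S4742.result (G := G) p 2 hp2 hpG h2G
    (fun g hg hk h2 => (Nat.not_even_iff_odd.2 (hC g hg hk)) (even_iff_two_dvd.2 h2)) with h | h
  · exact Or.inl h
  right
  obtain ⟨z, hz⟩ := exists_prime_orderOf_dvd_card' (G := G) 2 h2G
  have hz1 : z ≠ 1 := fun e => by rw [e, orderOf_one] at hz; omega
  obtain ⟨g, k, hg, hk, hne, hord⟩ := h z hz1 ⟨1, by rw [hz, pow_one]⟩
  have hinv : ∀ x : G, IsConj z x → x⁻¹ = x := fun x hx => by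
    obtain ⟨c, rfl⟩ := isConj_iff.1 hx
    have : z⁻¹ = z := inv_eq_of_mul_eq_one_right (by rw [← pow_two, ← hz]; exact pow_orderOf_eq_one z)
    rw [show (c * z * c⁻¹)⁻¹ = c * z⁻¹ * c⁻¹ by group, this]
  refine exists_even_deg hne (isConj_iff.2 ⟨g, ?_⟩) (hC _ hne hord)
  calc g * (g * k⁻¹) * g⁻¹ = g * g * (k⁻¹ * g⁻¹) := by group
    _ = 1 * (k * g⁻¹) := by
      rw [hinv k hk, show g * g = 1 by nth_rw 1 [← hinv g hg]; exact inv_mul_cancel g]
    _ = (g * k⁻¹)⁻¹ := by group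

end Cfsg.Agent.S4746
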