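import Cfsg.Statements.S4751
import Cfsg.Agent.Lib.Char.RootUnityPSingularMain

set_option autoImplicit false
open Cfsg

namespace Cfsg.Agent.S4751

/-- Let χ be a faithful, non-linear irreducible character of the finite group G (χ g = χ 1 only for g = 1, χ 1 ≠ 1) whose value at every element of order divisible by p is a root of unity, and suppose P = O_p(G) ≠ 1. Then either P is an elementary abelian Sylow p-subgroup of G, C_G(P) is the internal direct product of P and Z(G), G acts transitively by conjugation on the non-principal linear characters of P, and χ 1 = |P| − 1; or p = 2 and G is the internal direct product of a subgroup isomorphic to the symmetric group S₄ and the centre Z(G), which has odd order. -/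
theorem result {G : Type*} [Group G] [Finite G] (p : ℕ) [Fact p.Prime] (χ : Cfsg.IrrCharacter G) (hfaith : ∀ g : G, (χ : G → ℂ) g = (χ : G → ℂ) 1 → g = 1) (hnl : (χ : G → ℂ) 1 ≠ 1) (hroot : ∀ g : G, p ∣ orderOf g → ∃ n : ℕ, 0 < n ∧ ((χ : G → ℂ) g) ^ n = 1) (hP : Cfsg.pCore p G ≠ ⊥) : ((Nat.card ↥(Cfsg.pCore p G)).factorization p = (Nat.card G).factorization p ∧ Cfsg.IsElementaryAbelian p (Cfsg.pCore p G) ∧ Subgroup.centralizer ((Cfsg.pCore p G : Subgroup G) : Set G) = Cfsg.pCore p G ⊔ Subgroup.center G ∧ Cfsg.pCore p G ⊓ Subgroup.center G = ⊥ ∧ (∀ lam mu : ↥(Cfsg.pCore p G) → ℂ, Cfsg.IsCharacter ↥(Cfsg.pCore p G) lam → lam 1 = 1 → lam ≠ (fun _ => (1 : ℂ)) → Cfsg.IsCharacter ↥(Cfsg.pCore p G) mu → mu 1 = 1 → mu ≠ (fun _ => (1 : ℂ)) → ∃ g : G, ∀ (x : G) (hx : x ∈ Cfsg.pCore p G) (hgx : g * x * g⁻¹ ∈ Cfsg.pCore p G), mu ⟨x, hx⟩ = lam ⟨g * x * g⁻¹, hgx⟩) ∧ (χ : G → ℂ) 1 = (Nat.card ↥(Cfsg.pCore p G) : ℂ) - 1) ∨ (p = 2 ∧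 Odd (Nat.card ↥(Subgroup.center G)) ∧ ∃ H : Subgroup G, Nonempty (↥H ≃* Equiv.Perm (Fin 4)) ∧ H ⊓ Subgroup.center G = ⊥ ∧ H ⊔ Subgroup.center G = ⊤) := by
  haveI : Fintype G := Fintype.ofFinite G
  haveI : Fintype (Cfsg.pCore p G) := Fintype.ofFinite _
  have h : Cfsg.Agent.RootUnity.Hyp p (χ : G → ℂ) (Cfsg.pCore p G) :=
    { irr := χ.2
      faith := hfaith
      nl := hnl
      normal := Cfsg.Agent.FiniteGroup.pCore_normal p
      pgroup := Cfsg.Agent.FiniteGroup.pCore_isPGroup p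
      nt := hP
      unit := fun g hg => by
        obtain ⟨n, hn, hz⟩ := hroot g hg
        rw [Complex.mul_conj', Cfsg.Agent.Char.norm_eq_one_of_pow hn.ne' hz]
        simp }
  obtain ⟨hcomm, hd, -, htr⟩ := h.restrict
  by_cases hfull : (Nat.card ↥(Cfsg.pCore p G)).factorization p = (Nat.card G).factorization p
  · refine Or.inl ⟨hfull, ⟨⟨⟨hcomm⟩⟩, h.exponent⟩, h.centralizer_eq, h.center_inf, ?_, ?_⟩
    · intro lam mu hl hl1 hlne hm hm1 hmne
      obtain ⟨f, rfl⟩ := Cfsg.Agent.Char.exists_hom_of_degree_one hl hl1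
      obtain ⟨k, rfl⟩ := Cfsg.Agent.Char.exists_hom_of_degree_one hm hm1
      obtain ⟨g, hg⟩ := htr ⟨_, Cfsg.Agent.Char.isIrrCharacter_linear f⟩
        ⟨_, Cfsg.Agent.Char.isIrrCharacter_linear k⟩ hlne hmne
      exact ⟨g, fun x hx hgx => hg ⟨x, hx⟩ hgx⟩
    · rw [hd, Nat.cast_sub Nat.card_pos, Nat.cast_one]
  · exact Or.inr (Cfsg.Agent.RootUnity.exceptional h hfull)

end Cfsg.Agent.S4751
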