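import Cfsg.Statements.S4755
import Cfsg.Agent.Lib.BrauerPairs.ClassProduct

set_option autoImplicit false
open Cfsg

namespace Cfsg.Agent.S4755

/-- Let x, y be non-identity elements of the finite group G such that χ(x' y') = χ(x') χ(y') for all conjugates x' of x, y' of y and every irreducible character χ. Then the conjugacy class of x y is the set of all products of a conjugate of x with a conjugate of y; every irreducible character of degree greater than 1 vanishes at x y; and the conjugacy class of x y is the coset of the commutator subgroup containing x y. -/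
theorem result {G : Type*} [Group G] [Finite G] (x y : G) (hx : x ≠ 1) (hy : y ≠ 1) (h : ∀ (a b : G) (χ : Cfsg.IrrCharacter G), (χ : G → ℂ) (a * x * a⁻¹ * (b * y * b⁻¹)) = (χ : G → ℂ) (a * x * a⁻¹) * (χ : G → ℂ) (b * y * b⁻¹)) : (∀ z : G, IsConj (x * y) z ↔ ∃ a b : G, z = a * x * a⁻¹ * (b * y * b⁻¹)) ∧ (∀ χ : Cfsg.IrrCharacter G, (χ : G → ℂ) 1 ≠ 1 → (χ : G → ℂ) (x * y) = 0) ∧ (∀ z : G, IsConj (x * y) z ↔ (x * y)⁻¹ * z ∈ commutator G) := by
  haveI := Fintype.ofFinite G
  have hcl : ∀ a b : G, IsConj (x * y) (a * x * a⁻¹ * (b * y * b⁻¹)) := fun a b => by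
    rw [Cfsg.Agent.Char.isConj_iff_forall_irr]
    intro χ
    rw [h a b χ, Cfsg.Agent.BrauerPairs.irr_conj_value, Cfsg.Agent.BrauerPairs.irr_conj_value]
    have := h 1 1 χ
    simpa using this
  have hv : ∀ χ : IrrCharacter G, (χ : G → ℂ) 1 ≠ 1 → (χ : G → ℂ) (x * y) = 0 := fun χ hχ => by
    have h1 := Cfsg.Agent.BrauerPairs.irr_mul_of_product_class x y hcl χ
    have h2 := h 1 1 χ
    simp only [one_mul, inv_one, mul_one] at h2
    rw [← h2] at h1
    by_contra hne
    exact hχ (mul_right_cancel₀ hne (h1.trans (one_mul _).symm))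
  exact ⟨(Cfsg.Agent.BrauerPairs.product_class_iff x y).2 hcl, hv, fun z =>
    ⟨Cfsg.Agent.BrauerPairs.inv_mul_mem_commutator_of_isConj,
      fun hz => Cfsg.Agent.BrauerPairs.isConj_of_inv_mul_mem hz hv⟩⟩

end Cfsg.Agent.S4755
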