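import Cfsg.Statements.S4756
import Cfsg.Agent.Lib.Char.MulOnCoprime

set_option autoImplicit false
open Cfsg

namespace Cfsg.Agent.S4756

/-- For a finite group G the following are equivalent. (1) χ(x y) = χ(x) χ(y) for every irreducible character χ and all non-identity elements x, y of prime power orders for two different primes. (2) G is a p-group for some prime p, or G is abelian, or for some prime p: G = A P with P a normal Sylow p-subgroup and A a nontrivial cyclic subgroup of order prime to p such that, with C = C_P(A) and D = [A, P], one has P = C D, C abelian, D normal in G, C ∩ D = 1, and A acts fixed-point-freely on D (no non-identity element of A centralizes a non-identity element of D). -/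
theorem result {G : Type*} [Group G] [Finite G] : (∀ (x y : G) (χ : Cfsg.IrrCharacter G), x ≠ 1 → y ≠ 1 → (∃ p q a b : ℕ, p.Prime ∧ q.Prime ∧ p ≠ q ∧ orderOf x = p ^ a ∧ orderOf y = q ^ b) → (χ : G → ℂ) (x * y) = (χ : G → ℂ) x * (χ : G → ℂ) y) ↔ ((∃ p : ℕ, p.Prime ∧ IsPGroup p G) ∨ IsMulCommutative G ∨ ∃ (p : ℕ) (_ : Fact p.Prime) (P : Sylow p G) (A : Subgroup G), (P : Subgroup G).Normal ∧ IsCyclic ↥A ∧ A ≠ ⊥ ∧ (Nat.card ↥A).Coprime p ∧ A ⊔ (P : Subgroup G) = ⊤ ∧ IsMulCommutative ↥((P : Subgroup G) ⊓ Subgroup.centralizer (A : Set G)) ∧ (⁅A, (P : Subgroup G)⁆).Normal ∧ ((P : Subgroup G) ⊓ Subgroup.centralizer (A : Set G)) ⊔ ⁅A, (P : Subgroup G)⁆ = (P : Subgroup G) ∧ ((P : Subgroup G) ⊓ Subgroup.centralizer (A : Set G)) ⊓ ⁅A, (P : Subgroup G)⁆ = ⊥ ∧ ∀ a ∈ A, a ≠ 1 → ∀ d ∈ ⁅A, (P : Subgroup G)⁆, a * d = d * a → d = 1) := by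
  constructor
  · intro h
    by_cases hnp : ∃ p : ℕ, p.Prime ∧ IsPGroup p G
    · exact Or.inl hnp
    by_cases hna : IsMulCommutative G
    · exact Or.inr (Or.inl hna)
    obtain ⟨p, hp, P, A, hPn, hA, hA1, hs⟩ := Cfsg.Agent.Char.MulCop.struct_of_mult h hna hnp
    exact Or.inr (Or.inr ⟨p, hp, P, A, hPn, hA, hA1, hs⟩)
  · rintro (⟨p, hp, hG⟩ | hab | ⟨p, hp, P, A, hPn, hA, -, hs⟩)
    · rintro x y χ hx hy ⟨r, s, a, b, hr, hsp, hrs, hxo, hyo⟩
      haveI := Fact.mk hp
      have key : ∀ (z : G) (t c : ℕ), t.Prime → z ≠ 1 → orderOf z = t ^ c → t = p := by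
        intro z t c ht hz hzo
        obtain ⟨k, hk⟩ := IsPGroup.iff_orderOf.mp hG z
        rw [hzo] at hk
        have hc : c ≠ 0 := fun h => hz (orderOf_eq_one_iff.1 (by rw [hzo, h, pow_zero]))
        exact (Nat.prime_dvd_prime_iff_eq ht hp).1 (ht.dvd_of_dvd_pow (hk ▸ dvd_pow_self t hc))
      exact absurd ((key x r a hr hx hxo).trans (key y s b hsp hy hyo).symm) hrs
    · intro x y χ _ _ _
      have h1 : (χ : G → ℂ) 1 = 1 := by
        classical
        haveI : Fintype G := Fintype.ofFinite G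
        by_contra hne
        haveI := hab
        have hc : commutator G = ⊥ := by
          rw [commutator_def, eq_bot_iff, Subgroup.commutator_le]
          intro a _ b _
          exact Subgroup.mem_bot.2 (commutatorElement_eq_one_iff_mul_comm.2 (hab.is_comm.comm a b))
        have h0 := Cfsg.Agent.Char.MulCop.vanish_of_card_le (g := (1 : G))
          (by rw [hc, Subgroup.index_bot]; exact Subgroup.card_le_card_group _) χ hne
        exact Cfsg.Agent.Char.IsIrrCharacter.one_ne_zero χ.2 h0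
      obtain ⟨f, hf⟩ := Cfsg.Agent.Char.exists_hom_of_degree_one
        (Cfsg.Agent.Char.IsIrrCharacter.isCharacter χ.2) h1
      simp [hf, map_mul]
    · haveI := hPn
      haveI : IsMulCommutative A := inferInstance
      exact Cfsg.Agent.Char.MulCop.of_struct (Fact.out : p.Prime) (P : Subgroup G) A P.isPGroup' inferInstance hs

end Cfsg.Agent.S4756
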