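import Cfsg.Statements.S4757
import Cfsg.Agent.Lib.Char.Complete
import Cfsg.Agent.Lib.Char.Degree
import Cfsg.Agent.Lib.Solvable.Fitting
import Mathlib.GroupTheory.Transfer

set_option autoImplicit false
set_option linter.style.haveILetI false
open Cfsg

namespace Cfsg.Agent.S4757

open Cfsg.Agent.Char
open scoped commutatorElement

universe u

theorem main {G : Type u} [Group G] [Fintype G] (u : G) (hu : u ≠ 1) (c : ℂ)
    (hyp : ∀ χ : Cfsg.IrrCharacter G, (χ : G → ℂ) ≠ (fun _ => (1 : ℂ)) →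
      ((χ : G → ℂ) 1 - (χ : G → ℂ) u = c ∨ (χ : G → ℂ) u = 0)) :
    (commutator G ≠ ⊤ → c = 2) ∧ (c = 2 → commutator G ≠ ⊤ ∧ orderOf u = 2 ∧
      Subgroup.zpowers u ⊔ Cfsg.oddCore G = ⊤ ∧
      Subgroup.centralizer ({u} : Set G) = Subgroup.zpowers u) := by
  classical
  let p0 := principal G
  have horth : ∑ χ : Cfsg.IrrCharacter G,
      (χ : G → ℂ) u * (Cfsg.charDegree (χ : G → ℂ) : ℂ) = 0 := by
    refine Eq.trans (Finset.sum_congr rfl fun χ _ => ?_)
      (column_orth_of_not_isConj (g := u) (h := 1) fun h => hu (isConj_one_left.1 h))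
    rw [Cfsg.Agent.CharX.irr_deg, Complex.conj_natCast]
  rw [← Finset.add_sum_erase _ _ (Finset.mem_univ p0)] at horth
  have hp0 : (p0 : G → ℂ) u * (Cfsg.charDegree (p0 : G → ℂ) : ℂ) = 1 := by
    rw [show (p0 : G → ℂ) = fun _ => (1 : ℂ) from rfl, Cfsg.Agent.CharX.charDegree_one]
    simp
  rw [hp0] at horth
  have hne : ∀ χ ∈ Finset.univ.erase p0, (χ : G → ℂ) ≠ (fun _ => (1 : ℂ)) := fun χ hχ e =>
    Finset.ne_of_mem_erase hχ (Subtype.ext e)
  -- the weight of a vanishing or constant-defect constituent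
  have hc0 : c ≠ 0 := by
    intro hc
    have h : ∀ χ ∈ Finset.univ.erase p0, (χ : G → ℂ) u * (Cfsg.charDegree (χ : G → ℂ) : ℂ) =
        ((if (χ : G → ℂ) u = 0 then 0 else Cfsg.charDegree (χ : G → ℂ) ^ 2 : ℕ) : ℂ) := by
      intro χ hχ
      split_ifs with h0
      · simp [h0]
      · have h1 := (hyp χ (hne χ hχ)).resolve_right h0
        rw [hc, sub_eq_zero, Cfsg.Agent.CharX.irr_deg] at h1
        rw [← h1]; push_cast; ring
    rw [Finset.sum_congr rfl h, ← Nat.cast_sum, ← Nat.cast_one, ← Nat.cast_add,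
      Nat.cast_eq_zero] at horth
    omega
  have hlin : ∀ f : G →* ℂˣ, f ≠ 1 → (1 : ℂ) - (f u : ℂ) = c := by
    intro f hf
    rcases hyp ⟨_, isIrrCharacter_linear f⟩ (fun e => hf (MonoidHom.ext fun g =>
      Units.ext (congrFun e g))) with h | h
    · simpa using h
    · exact absurd h (f u).ne_zero
  constructor
  · intro hnp
    obtain ⟨g, hg⟩ : ∃ g, g ∉ commutator G := by
      by_contra h
      push Not at h
      exact hnp (eq_top_iff.2 fun g _ => h g)
    haveI : Finite (Abelianization G) := Quotient.finite _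
    obtain ⟨f0, hf0⟩ := CommGroup.exists_apply_ne_one_of_hasEnoughRootsOfUnity (Abelianization G) ℂ
      (a := Abelianization.of g) (fun h => hg (by rw [← Abelianization.ker_of]; exact h))
    let f := f0.comp Abelianization.of
    have hf : f ≠ 1 := fun h => hf0 (DFunLike.congr_fun h g)
    have h1 := hlin f hf
    by_cases h2 : f * f = 1
    · have hv : (f u : ℂ) * (f u : ℂ) = 1 := congrArg Units.val (DFunLike.congr_fun h2 u)
      rcases mul_self_eq_one_iff.1 hv with h | h
      · exact absurd (by rw [h, sub_self] at h1; exact h1.symm) hc0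
      · rw [← h1, h]; norm_num
    · have h3 := hlin _ h2
      rw [← h1] at h3
      have h4 : (f u : ℂ) * (f u : ℂ) = (f u : ℂ) := by
        rw [MonoidHom.mul_apply, Units.val_mul] at h3
        linear_combination -h3
      have h5 : (f u : ℂ) = 1 := mul_eq_left₀ (f u).ne_zero |>.1 h4
      exact absurd (by rw [h5, sub_self] at h1; exact h1.symm) hc0
  intro hc
  subst hc
  have hterm : ∀ χ ∈ Finset.univ.erase p0, 2 ≤ Cfsg.charDegree (χ : G → ℂ) →
      (χ : G → ℂ) u * (Cfsg.charDegree (χ : G → ℂ) : ℂ) = ((if (χ : G → ℂ) u = 0 then 0 else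
        Cfsg.charDegree (χ : G → ℂ) * (Cfsg.charDegree (χ : G → ℂ) - 2) : ℕ) : ℂ) := by
    intro χ hχ hd
    split_ifs with h0
    · simp [h0]
    · have h1 := (hyp χ (hne χ hχ)).resolve_right h0
      rw [Cfsg.Agent.CharX.irr_deg] at h1
      rw [Nat.cast_mul, Nat.cast_sub hd]
      push_cast
      linear_combination -(Cfsg.charDegree (χ : G → ℂ) : ℂ) * h1
  obtain ⟨lam, hlam, hlam1⟩ : ∃ lam ∈ Finset.univ.erase p0,
      Cfsg.charDegree ((lam : Cfsg.IrrCharacter G) : G → ℂ) = 1 := by
    by_contra h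
    push Not at h
    rw [Finset.sum_congr rfl (fun χ hχ => hterm χ hχ (by
      have := Cfsg.Agent.CharX.irr_deg_pos χ
      have := h χ hχ
      omega)), ← Nat.cast_sum, ← Nat.cast_one, ← Nat.cast_add, Nat.cast_eq_zero] at horth
    omega
  obtain ⟨f, hf⟩ := exists_hom_of_degree_one (IsIrrCharacter.isCharacter lam.2)
    (by rw [Cfsg.Agent.CharX.irr_deg, hlam1, Nat.cast_one])
  have hfne : f ≠ 1 := fun e => hne lam hlam (by rw [hf, e]; rfl)
  have hfu : (f u : ℂ) = -1 := by linear_combination -hlin f hfne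
  have hnp : commutator G ≠ ⊤ := by
    intro h
    have : f u = 1 := Abelianization.commutator_subset_ker f (h ▸ Subgroup.mem_top u)
    rw [this, Units.val_one] at hfu
    norm_num at hfu
  have hother : ∀ χ ∈ (Finset.univ.erase p0).erase lam, 2 ≤ Cfsg.charDegree (χ : G → ℂ) := by
    intro χ hχ
    by_contra hd
    have hd1 : Cfsg.charDegree (χ : G → ℂ) = 1 := by
      have := Cfsg.Agent.CharX.irr_deg_pos χ
      omega
    obtain ⟨g, hg⟩ := exists_hom_of_degree_one (IsIrrCharacter.isCharacter χ.2)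
      (by rw [Cfsg.Agent.CharX.irr_deg, hd1, Nat.cast_one])
    have hgne : g ≠ 1 := fun e => hne χ (Finset.mem_of_mem_erase hχ) (by rw [hg, e]; rfl)
    have hgu : (g u : ℂ) = -1 := by linear_combination -hlin g hgne
    by_cases hprod : f * g = 1
    · by_cases hff : f * f = 1
      · refine Finset.ne_of_mem_erase hχ (Subtype.ext ?_)
        rw [hg, hf, mul_left_cancel (hprod.trans hff.symm)]
      · have := hlin _ hff
        rw [MonoidHom.mul_apply, Units.val_mul, hfu] at this
        norm_num at this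
    · have := hlin _ hprod
      rw [MonoidHom.mul_apply, Units.val_mul, hfu, hgu] at this
      norm_num at this
  rw [← Finset.add_sum_erase _ _ hlam, hlam1, hf, show (fun g => (f g : ℂ)) u = -1 from hfu,
    Finset.sum_congr rfl (fun χ hχ => hterm χ (Finset.mem_of_mem_erase hχ) (hother χ hχ)),
    ← Nat.cast_sum] at horth
  have hzero : ∀ χ ∈ (Finset.univ.erase p0).erase lam, (χ : G → ℂ) u = 0 := by
    intro χ hχ
    by_contra h0
    have h := horth
    rw [Nat.cast_one, mul_one, ← add_assoc, add_neg_cancel, zero_add, Nat.cast_eq_zero,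
      Finset.sum_eq_zero_iff] at h
    have h1 := h χ hχ
    rw [if_neg h0, mul_eq_zero] at h1
    have h2 : Cfsg.charDegree (χ : G → ℂ) = 2 := by
      have := hother χ hχ
      omega
    have h3 := (hyp χ (hne χ (Finset.mem_of_mem_erase hχ))).resolve_right h0
    rw [Cfsg.Agent.CharX.irr_deg, h2] at h3
    apply h0
    push_cast at h3
    linear_combination -h3
  -- the centraliser
  have hC2 : Nat.card (Subgroup.centralizer ({u} : Set G)) = 2 := by
    have h := column_orth_of_isConj (IsConj.refl u)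
    rw [← Finset.add_sum_erase _ _ (Finset.mem_univ p0), ← Finset.add_sum_erase _ _ hlam,
      Finset.sum_eq_zero (fun χ hχ => by rw [hzero χ hχ, zero_mul]),
      show (p0 : G → ℂ) u = 1 from rfl, hf, show (fun g => (f g : ℂ)) u = -1 from hfu] at h
    simp only [map_one, map_neg, mul_one, add_zero, neg_mul_neg] at h
    rw [one_add_one_eq_two] at h
    exact_mod_cast h.symm
  have huC : u ∈ Subgroup.centralizer ({u} : Set G) := Subgroup.mem_centralizer_singleton_iff.2 rfl
  have hord : orderOf u = 2 := by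
    rcases (Nat.dvd_prime Nat.prime_two).1 (hC2 ▸ Subgroup.orderOf_dvd_natCard _ huC) with h | h
    · exact absurd (orderOf_eq_one_iff.1 h) hu
    · exact h
  have hCz : Subgroup.centralizer ({u} : Set G) = Subgroup.zpowers u :=
    (Subgroup.eq_of_le_of_card_ge (Subgroup.zpowers_le.2 huC)
      (by rw [hC2, Nat.card_zpowers, hord])).symm
  refine ⟨hnp, hord, ?_, hCz⟩
  -- a normal complement
  haveI : Fact (Nat.Prime 2) := ⟨Nat.prime_two⟩
  have hzp : IsPGroup 2 (Subgroup.zpowers u) :=
    IsPGroup.of_card (n := 1) (by rw [Nat.card_zpowers, hord, pow_one])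
  obtain ⟨S, hS⟩ := hzp.exists_le_sylow
  have hSu : (S : Subgroup G) = Subgroup.zpowers u := by
    refine le_antisymm ?_ hS
    haveI : Nontrivial (S : Subgroup G) :=
      ⟨⟨⟨u, hS (Subgroup.mem_zpowers u)⟩, 1, fun h => hu (congrArg Subtype.val h)⟩⟩
    haveI : Nontrivial (Subgroup.center (S : Subgroup G)) := S.isPGroup'.center_nontrivial
    obtain ⟨z, hz⟩ := exists_ne (1 : Subgroup.center (S : Subgroup G))
    have hzu : ((z : (S : Subgroup G)) : G) ∈ Subgroup.zpowers u := by
      rw [← hCz, Subgroup.mem_centralizer_singleton_iff]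
      exact (congrArg Subtype.val
        (Subgroup.mem_center_iff.1 z.2 ⟨u, hS (Subgroup.mem_zpowers u)⟩)).symm
    have hzu' : ((z : (S : Subgroup G)) : G) = u := by
      obtain ⟨k, hk⟩ := Subgroup.mem_zpowers_iff.1 hzu
      rcases Int.even_or_odd k with ⟨j, hj⟩ | ⟨j, hj⟩
      · refine absurd (Subtype.ext (Subtype.ext (hk.symm.trans ?_))) hz
        rw [hj, ← two_mul, zpow_mul, zpow_ofNat, show u ^ 2 = 1 from hord ▸ pow_orderOf_eq_one u,
          one_zpow]
        rfl
      · rw [← hk, hj, zpow_add, zpow_mul, zpow_ofNat,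
          show u ^ 2 = 1 from hord ▸ pow_orderOf_eq_one u, one_zpow, one_mul, zpow_one]
    intro a ha
    rw [← hCz, Subgroup.mem_centralizer_singleton_iff, ← hzu']
    exact congrArg Subtype.val (Subgroup.mem_center_iff.1 z.2 ⟨a, ha⟩)
  have hN : Subgroup.normalizer ((S : Subgroup G) : Set G) ≤
      Subgroup.centralizer ((S : Subgroup G) : Set G) := by
    rw [hSu]
    intro n hn
    have h1 : n * u * n⁻¹ ∈ Subgroup.zpowers u :=
      (Subgroup.mem_normalizer_iff.1 hn u).1 (Subgroup.mem_zpowers u)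
    have h2 : n * u * n⁻¹ = u := by
      obtain ⟨k, hk⟩ := Subgroup.mem_zpowers_iff.1 h1
      rcases Int.even_or_odd k with ⟨j, hj⟩ | ⟨j, hj⟩
      · exfalso
        rw [hj, ← two_mul, zpow_mul, zpow_ofNat, show u ^ 2 = 1 from hord ▸ pow_orderOf_eq_one u,
          one_zpow] at hk
        exact hu (conj_eq_one_iff.1 hk.symm)
      · rw [← hk, hj, zpow_add, zpow_mul, zpow_ofNat,
          show u ^ 2 = 1 from hord ▸ pow_orderOf_eq_one u, one_zpow, one_mul, zpow_one]
    rw [Subgroup.mem_centralizer_iff]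
    intro b hb
    obtain ⟨k, rfl⟩ := Subgroup.mem_zpowers_iff.1 hb
    exact ((show Commute u n from (mul_inv_eq_iff_eq_mul.1 h2).symm).zpow_left k).eq
  haveI : IsCyclic (S : Subgroup G) := by rw [hSu]; exact Subgroup.isCyclic_zpowers u
  have hcomp := MonoidHom.ker_transferSylow_isComplement' S hN
  have hodd : (Nat.card (MonoidHom.transferSylow S hN).ker).Coprime 2 :=
    (Nat.prime_two.coprime_iff_not_dvd.2 (MonoidHom.not_dvd_card_ker_transferSylow S hN)).symm
  have hle : (MonoidHom.transferSylow S hN).ker ≤ Cfsg.oddCore G :=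
    Cfsg.Agent.FittingCores.le_pPrimeCore (MonoidHom.normal_ker _) hodd
  rw [eq_top_iff, ← hcomp.sup_eq_top]
  exact sup_le (hle.trans le_sup_right) (hSu.le.trans le_sup_left)

/-- Let u ≠ 1 be an element of the finite group G and c a complex number such that every non-principal irreducible character χ satisfies χ(1) − χ(u) = c or χ(u) = 0. Then the following are equivalent: (a) u has order 2, G is generated by u together with O(G), the largest normal subgroup of G of odd order, and the centralizer of u is {1, u}; (b) G is not perfect; (c) c = 2. -/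
theorem result {G : Type*} [Group G] [Finite G] (u : G) (hu : u ≠ 1) (c : ℂ) (hyp : ∀ χ : Cfsg.IrrCharacter G, (χ : G → ℂ) ≠ (fun _ => (1 : ℂ)) → ((χ : G → ℂ) 1 - (χ : G → ℂ) u = c ∨ (χ : G → ℂ) u = 0)) : ((orderOf u = 2 ∧ Subgroup.zpowers u ⊔ Cfsg.oddCore G = ⊤ ∧ Subgroup.centralizer ({u} : Set G) = Subgroup.zpowers u) ↔ commutator G ≠ ⊤) ∧ (commutator G ≠ ⊤ ↔ c = 2) := by
  haveI : Fintype G := Fintype.ofFinite G
  obtain ⟨h1, h2⟩ := main u hu c hyp
  refine ⟨⟨?_, fun h => (h2 (h1 h)).2⟩, ⟨h1, fun h => (h2 h).1⟩⟩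
  rintro ⟨hord, htop, -⟩ hperf
  haveI : Fact (Nat.Prime 2) := ⟨Nat.prime_two⟩
  haveI := Cfsg.Agent.FittingCores.pPrimeCore_normal (G := G) 2
  have hle : commutator G ≤ Cfsg.oddCore G := by
    rw [commutator_def, Subgroup.commutator_le]
    intro a _ b _
    rw [← QuotientGroup.eq_one_iff]
    have key : ∀ g : G, (g : G ⧸ Cfsg.pPrimeCore 2 G) ∈
        Subgroup.zpowers (u : G ⧸ Cfsg.pPrimeCore 2 G) := by
      intro g
      have hg := Subgroup.mem_map_of_mem (QuotientGroup.mk' (Cfsg.pPrimeCore 2 G))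
        (htop.symm ▸ Subgroup.mem_top g : g ∈ Subgroup.zpowers u ⊔ Cfsg.oddCore G)
      rw [Subgroup.map_sup, QuotientGroup.map_mk'_self, sup_bot_eq, MonoidHom.map_zpowers] at hg
      exact hg
    obtain ⟨i, hi⟩ := Subgroup.mem_zpowers_iff.1 (key a)
    obtain ⟨j, hj⟩ := Subgroup.mem_zpowers_iff.1 (key b)
    show QuotientGroup.mk' (Cfsg.pPrimeCore 2 G) ⁅a, b⁆ = 1
    rw [map_commutatorElement, QuotientGroup.mk'_apply, QuotientGroup.mk'_apply, ← hi, ← hj]
    exact commutatorElement_eq_one_iff_mul_comm.2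
      (((Commute.refl _).zpow_left i).zpow_right j).eq
  rw [hperf, top_le_iff] at hle
  have h := Cfsg.Agent.FittingCores.pPrimeCore_coprime (G := G) 2
  rw [show Cfsg.pPrimeCore 2 G = ⊤ from hle, Subgroup.card_top] at h
  exact Nat.prime_two.coprime_iff_not_dvd.1 h.symm (hord ▸ orderOf_dvd_natCard u)

end Cfsg.Agent.S4757
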