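import Cfsg.Statements.S4759
import Cfsg.Agent.Lib.Char.DadeTwo.Main
import Cfsg.Agent.Lib.Char.ExtensionChar
import Cfsg.Agent.Lib.Char.Extraspecial
import Cfsg.Agent.Lib.Extraspecial.NonSplit

set_option autoImplicit false
open Cfsg
open scoped commutatorElement

namespace Cfsg.Agent.S4759

/-- Let G be a finite group that is the semidirect product of a normal extraspecial 2-subgroup E and a complement H acting faithfully on E (no non-identity element of H centralizes E), and suppose H has a normal subgroup K of odd order with [E, K] = E. Then every faithful irreducible character θ of E (there is exactly one) extends to G: some irreducible character of G restricts to θ on E. -/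
theorem result {G : Type*} [Group G] [Finite G] (E H : Subgroup G) [E.Normal] (hE : Cfsg.IsExtraspecial 2 ↥E) (hEH : E ⊓ H = ⊥) (hEHtop : E ⊔ H = ⊤) (hfaith : ∀ h ∈ H, (∀ e ∈ E, h * e = e * h) → h = 1) (K : Subgroup G) (hKH : K ≤ H) (hKn : ∀ h ∈ H, ∀ k ∈ K, h * k * h⁻¹ ∈ K) (hKodd : Odd (Nat.card ↥K)) (hEK : ⁅E, K⁆ = E) (θ : Cfsg.IrrCharacter ↥E) (hθ : ∀ e : ↥E, (θ : ↥E → ℂ) e = (θ : ↥E → ℂ) 1 → e = 1) : ∃ χ : Cfsg.IrrCharacter G, ∀ e : ↥E, (χ : G → ℂ) e = (θ : ↥E → ℂ) e := by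
  classical
  haveI : Fintype ↥E := Fintype.ofFinite _
  haveI : Fact (Nat.Prime 2) := ⟨Nat.prime_two⟩
  obtain ⟨z, hset, hzc⟩ := Cfsg.Agent.XNonSplit.exists_setup hE
  have hctr : ∀ w ∈ Subgroup.center ↥E, w = 1 ∨ w = z := by
    intro w hw
    by_contra hcon
    push Not at hcon
    have h3 : ({1, z, w} : Finset ↥E).card = 3 := by
      rw [Finset.card_insert_of_notMem (by simp [hset.one_ne.symm, hcon.1.symm]), Finset.card_pair hcon.2.symm]
    have hsub : ({1, z, w} : Finset ↥E) ⊆ Finset.univ.filter fun x => x ∈ Subgroup.center ↥E := by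
      intro x hx
      simp only [Finset.mem_insert, Finset.mem_singleton] at hx
      refine Finset.mem_filter.mpr ⟨Finset.mem_univ _, ?_⟩
      rcases hx with rfl | rfl | rfl
      exacts [Subgroup.one_mem _, hzc, hw]
    have hle := Finset.card_le_card hsub
    rw [h3, ← Fintype.card_subtype, ← Nat.card_eq_fintype_card] at hle
    have := hE.2
    omega
  have hg : DadeTwo.Good z :=
    ⟨hset.one_ne, hset.sq, fun x => hset.central x, hset.comm, hset.square,
      fun x hx => hctr x (Subgroup.mem_center_iff.mpr fun y => (hx y).eq.symm)⟩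
  -- the values of θ
  have hθc := Cfsg.Agent.Char.IsIrrCharacter.isCharacter θ.2
  obtain ⟨d, hd0, hd⟩ := Cfsg.Agent.Char.IsIrrCharacter.exists_degree θ.2
  have hscal : ∀ w ∈ Subgroup.center ↥E, w ≠ 1 → ∃ c : ℂ, c ≠ 1 ∧ ∀ g, (θ : ↥E → ℂ) (w * g) = c * (θ : ↥E → ℂ) g := by
    intro w hw hw1
    obtain ⟨c, -, hcg, -⟩ := Cfsg.Agent.Char.IsIrrCharacter.exists_central_scalar θ.2 hw
    refine ⟨c, fun h => hw1 (hθ w ?_), hcg⟩
    have := hcg 1
    rwa [mul_one, h, one_mul] at this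
  have hvan : ∀ x, ¬ DadeTwo.InZ z x → (θ : ↥E → ℂ) x = 0 := fun x hx =>
    Cfsg.Agent.Char.XS.vanish_off_center hE (Cfsg.Agent.Char.IsCharacter.isClassFunction hθc) hscal
      fun h => hx (hctr x h)
  have hθz : (θ : ↥E → ℂ) z = -(d : ℂ) := by
    obtain ⟨c, hc1, hcg⟩ := hscal z hzc hset.one_ne
    have h1 := hcg 1
    rw [mul_one, hd] at h1
    have h2 := hcg z
    rw [hset.sq, hd, h1] at h2
    have hd' : (d : ℂ) ≠ 0 := Nat.cast_ne_zero.mpr (by omega)
    have hc : (c - 1) * (c + 1) = 0 := by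
      apply mul_right_cancel₀ hd'
      linear_combination -h2
    rcases mul_eq_zero.mp hc with h | h
    · exact absurd (sub_eq_zero.mp h) hc1
    · rw [h1, eq_neg_of_add_eq_zero_left h, neg_one_mul]
  have hdsq : 2 * d ^ 2 = Nat.card ↥E := by
    have h := Cfsg.Agent.Char.XS.norm_of_vanish hE d
      (fun x hx => hvan x fun h => hx (by
        rcases h with rfl | rfl
        exacts [Subgroup.one_mem _, hzc]))
      (fun w hw => by
        rcases hctr w hw with rfl | rfl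
        · rw [hd, Complex.norm_natCast]
        · rw [hθz, norm_neg, Complex.norm_natCast])
    rw [Cfsg.Agent.Char.classInner_self_irr θ.2, eq_comm, inv_mul_eq_iff_eq_mul₀
      (Nat.cast_ne_zero.mpr Nat.card_pos.ne'), mul_one] at h
    exact_mod_cast h
  let ρ : G →* MulAut ↥E := MulAut.conjNormal
  have hρ : ∀ (g : G) (x : ↥E), ((ρ g x : ↥E) : G) = g * x * g⁻¹ := fun g x =>
    MulAut.conjNormal_apply g x
  have hinv : ∀ (g : G) (n : ↥E), (θ : ↥E → ℂ) (ρ g n) = (θ : ↥E → ℂ) n := by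
    intro g n
    by_cases hn : DadeTwo.InZ z n
    · rcases hn with rfl | rfl
      · rw [map_one]
      · rw [DadeTwo.aut_z hg]
    · rw [hvan n hn, hvan]
      intro h
      exact hn (by simpa using h.map hg (ρ g)⁻¹)
  have hinv' : ∀ (g : G) (n : ↥E), (θ : ↥E → ℂ) ⟨g * n * g⁻¹, Subgroup.Normal.conj_mem ‹E.Normal› (n : G) n.2 g⟩ =
      (θ : ↥E → ℂ) n := fun g n => by
    rw [← hinv g n]
    exact congrArg _ (Subtype.ext (hρ g n).symm)
  obtain ⟨d', σ, hσ, hσc, -, hi⟩ := Cfsg.Agent.CharExtend.exists_setup θ.2 hinv'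
  -- a Sylow 2-subgroup of the complement
  obtain ⟨S₀⟩ : Nonempty (Sylow 2 ↥H) := inferInstance
  set S : Subgroup G := (S₀ : Subgroup ↥H).map H.subtype with hSdef
  have hSH : S ≤ H := Subgroup.map_subtype_le _
  have hS2 : IsPGroup 2 ↥S := S₀.2.map _
  have hES : E ⊓ S = ⊥ := eq_bot_iff.mpr (hEH ▸ inf_le_inf_left E hSH)
  -- the fixed idempotent
  have hKodd : Odd (Nat.card ↥(K.map ρ)) := hKodd.of_dvd_nat (Subgroup.card_map_dvd ..)
  have hnorm : ∀ s ∈ S.map ρ, ∀ k ∈ K.map ρ, s * k * s⁻¹ ∈ K.map ρ := by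
    rintro _ ⟨s, hs, rfl⟩ _ ⟨k, hk, rfl⟩
    exact ⟨_, hKn s (hSH hs) k hk, by rw [map_mul, map_mul, map_inv]⟩
  have hfpf : DadeTwo.Fpf z (K.map ρ) := by
    intro x hx
    refine DadeTwo.inZ_of_bc hg fun w => DadeTwo.bc_eq_zero_iff.mpr ?_
    have hgen : ⁅E, K⁆ ≤ (Subgroup.centralizer ({x} : Set ↥E)).map E.subtype := by
      refine Subgroup.commutator_le.mpr fun y hy k hk => ?_
      set y' : ↥E := ⟨y, hy⟩
      refine ⟨y' * ρ k y'⁻¹, Subgroup.mem_centralizer_singleton_iff.mpr ?_, ?_⟩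
      · have hbc : DadeTwo.bc x (ρ k y'⁻¹) = DadeTwo.bc x y' := by
          rw [DadeTwo.bc_comm x (ρ k y'⁻¹), DadeTwo.bc_equiv_left, DadeTwo.bc_comm]
          have hq : DadeTwo.q hg ((ρ k)⁻¹ x) = DadeTwo.q hg x := by
            rw [DadeTwo.q_eq_iff hg]
            rcases hx _ ⟨k⁻¹, K.inv_mem hk, map_inv ρ k⟩ with h | h
            · exact ⟨0, by rw [DadeTwo.zz_zero, mul_one]; exact h⟩
            · exact ⟨1, by rw [DadeTwo.zz_one]; exact h⟩
          rw [← DadeTwo.B_q hg, hq, DadeTwo.q_inv, DadeTwo.B_q]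
        refine (DadeTwo.bc_eq_zero_iff (x := x) (y := y' * ρ k y'⁻¹)).mp ?_ |>.eq.symm
        rw [DadeTwo.bc_mul_right hg, hbc, DadeTwo.add_self_zero]
      · rw [Subgroup.coe_subtype, Subgroup.coe_mul, hρ, InvMemClass.coe_inv]
        show y * (k * y⁻¹ * k⁻¹) = ⁅y, k⁆
        rw [commutatorElement_def]
        group
    rw [hEK] at hgen
    obtain ⟨w', hw', hww⟩ := hgen w.2
    rw [← Subtype.ext (hww : (w' : G) = w)]
    exact (Subgroup.mem_centralizer_singleton_iff.mp hw').symm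
  obtain ⟨p, hp, hpfix⟩ := DadeTwo.exists_fixed ↥E hg (K.map ρ) (S.map ρ) hKodd (hS2.map ρ) hnorm hfpf
  -- the extension to `E S`
  set P : Subgroup G := E ⊔ S
  have hdec : ∀ g : P, ∃ e : ↥E, ∃ s : S, (g : G) = e * s := by
    intro g
    obtain ⟨a, ha, b, hb, hab⟩ := Subgroup.mem_sup_of_normal_left.mp g.2
    exact ⟨⟨a, ha⟩, ⟨b, hb⟩, hab.symm⟩
  choose ce cs hces using hdec
  have huniq : ∀ (e e' : ↥E) (s s' : S), (e : G) * s = e' * s' → e = e' ∧ s = s' := by
    intro e e' s s' h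
    have h1 : (e' : G)⁻¹ * e = (s' : G) * (s : G)⁻¹ := by
      rw [eq_mul_inv_iff_mul_eq, mul_assoc, h, inv_mul_cancel_left]
    have h2 : (e' : G)⁻¹ * e ∈ E ⊓ S :=
      ⟨E.mul_mem (E.inv_mem e'.2) e.2, h1 ▸ S.mul_mem s'.2 (S.inv_mem s.2)⟩
    rw [hES, Subgroup.mem_bot] at h2
    refine ⟨Subtype.ext (inv_mul_eq_one.mp h2).symm, Subtype.ext ?_⟩
    rw [h2] at h1
    exact (mul_inv_eq_one.mp h1.symm).symm
  let F : ↥E → S → Module.End ℂ (MonoidAlgebra ℂ ↥E) := fun e s =>
    LinearMap.mulLeft ℂ (MonoidAlgebra.of ℂ ↥E e) ∘ₗ (DadeTwo.alg (ρ (s : G))).toLinearMap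
  have hFF : ∀ e e' s s', F e s * F e' s' = F (e * ρ (s : G) e') (s * s') := by
    intro e e' s s'
    refine LinearMap.ext fun y => ?_
    simp only [F, Module.End.mul_apply, LinearMap.comp_apply, LinearMap.mulLeft_apply,
      AlgEquiv.toLinearMap_apply, map_mul, DadeTwo.alg_of, Subgroup.coe_mul, DadeTwo.alg_mul, mul_assoc]
  let Ψ : P →* Module.End ℂ (MonoidAlgebra ℂ ↥E) :=
    { toFun := fun g => F (ce g) (cs g)
      map_one' := by
        obtain ⟨he, hs⟩ := huniq (ce 1) 1 (cs 1) 1 (by rw [← hces]; simp)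
        show F (ce 1) (cs 1) = 1
        rw [he, hs]
        refine LinearMap.ext fun y => ?_
        simp [F, DadeTwo.alg_one, ← MonoidAlgebra.one_def]
      map_mul' := fun a b => by
        have h : (a : G) * b = ((ce a * ρ (cs a : G) (ce b) : ↥E) : G) * ((cs a * cs b : S) : G) := by
          rw [Subgroup.coe_mul, Subgroup.coe_mul, hρ, hces a, hces b]
          group
        obtain ⟨he, hs⟩ := huniq (ce (a * b)) _ (cs (a * b)) _ ((hces (a * b)).symm.trans h)
        show F (ce (a * b)) (cs (a * b)) = F (ce a) (cs a) * F (ce b) (cs b)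
        rw [hFF, he, hs] }
  set W := LinearMap.range (LinearMap.mulRight ℂ p)
  have hWinv : ∀ g : P, ∀ y ∈ W, Ψ g y ∈ W := by
    rintro g _ ⟨y, rfl⟩
    refine ⟨Ψ g y, ?_⟩
    show (MonoidAlgebra.of ℂ ↥E (ce g) * DadeTwo.alg (ρ (cs g : G)) y) * p =
      MonoidAlgebra.of ℂ ↥E (ce g) * DadeTwo.alg (ρ (cs g : G)) (y * p)
    rw [map_mul, hpfix _ ⟨_, (cs g).2, rfl⟩, mul_assoc]
  let τ₀ : Representation ℂ P W :=
    { toFun := fun g => (Ψ g).restrict (hWinv g)
      map_one' := LinearMap.ext fun y => Subtype.ext (by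
        show Ψ 1 (y : MonoidAlgebra ℂ ↥E) = y
        rw [map_one]; rfl)
      map_mul' := fun a b => LinearMap.ext fun y => Subtype.ext (by
        show Ψ (a * b) (y : MonoidAlgebra ℂ ↥E) = Ψ a (Ψ b y)
        rw [map_mul]; rfl) }
  haveI : Module.Finite ℂ (MonoidAlgebra ℂ ↥E) := Module.Finite.of_basis (MonoidAlgebra.basis ↥E ℂ)
  have hcard := hp.card_coeff hg
  obtain ⟨D, -, hD⟩ := DadeTwo.coeff_one_eq hp.ne hp.idem
  have hDd : D = d := by
    have h : (2 * D ^ 2 : ℂ) = (Fintype.card ↥E : ℂ) := by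
      rw [← hD]; linear_combination (Fintype.card ↥E : ℂ) * hcard
    have h' : 2 * D ^ 2 = Nat.card ↥E := by rw [Nat.card_eq_fintype_card]; exact_mod_cast h
    exact Nat.pow_left_injective two_ne_zero (Nat.eq_of_mul_eq_mul_left two_pos (h'.trans hdsq.symm))
  have hEP : E ≤ P := le_sup_left
  have hτchar : ∀ n : ↥E, τ₀.character ⟨n, hEP n.2⟩ = (θ : ↥E → ℂ) n := by
    intro n
    set g : P := ⟨n, hEP n.2⟩
    obtain ⟨he, hs⟩ := huniq (ce g) n (cs g) 1 (by rw [← hces]; simp [g])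
    have hΨ : Ψ g = LinearMap.mulLeft ℂ (MonoidAlgebra.of ℂ ↥E n) := by
      show F (ce g) (cs g) = _
      rw [he, hs]
      refine LinearMap.ext fun y => ?_
      simp [F, DadeTwo.alg_one]
    set T := LinearMap.mulLeft ℂ (MonoidAlgebra.of ℂ ↥E n) ∘ₗ LinearMap.mulRight ℂ p
    have hmem : ∀ y, T y ∈ W := fun y => ⟨MonoidAlgebra.of ℂ ↥E n * y, by simp [T, mul_assoc]⟩
    have hres : τ₀ g = T.restrict (fun y _ => hmem y) := by
      refine LinearMap.ext fun ⟨w, hw⟩ => Subtype.ext ?_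
      obtain ⟨v, rfl⟩ := hw
      show Ψ g (v * p) = MonoidAlgebra.of ℂ ↥E n * ((v * p) * p)
      rw [hΨ, mul_assoc v, hp.idem]
      rfl
    rw [Representation.character, hres, LinearMap.trace_restrict_eq_of_forall_mem W T hmem,
      DadeTwo.trace_mulRight]
    have hsum := congrArg (fun c : MonoidAlgebra ℂ ↥E => c.coeff n⁻¹) (DadeTwo.conjSum hg hp.neg)
    simp only [MonoidAlgebra.coeff_sum, Finsupp.finsetSum_apply, MonoidAlgebra.coeff_smul_apply,
      smul_eq_mul, MonoidAlgebra.coeff_sub, Finsupp.sub_apply] at hsum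
    have hterm : ∀ x : ↥E, (MonoidAlgebra.of ℂ ↥E n * MonoidAlgebra.of ℂ ↥E x * p).coeff x =
        (MonoidAlgebra.of ℂ ↥E x * p * MonoidAlgebra.of ℂ ↥E x⁻¹).coeff n⁻¹ := fun x => by
      simp [MonoidAlgebra.of_apply, mul_assoc]
    rw [Finset.sum_congr rfl fun x _ => hterm x, hsum, hD, hDd]
    simp only [MonoidAlgebra.of_apply, MonoidAlgebra.one_def, MonoidAlgebra.coeff_single,
      Finsupp.single_apply]
    by_cases h1 : n = 1
    · subst h1
      simp [hset.one_ne, hd]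
    by_cases h2 : n = z
    · rw [h2]
      have hzi : z⁻¹ = z := inv_eq_of_mul_eq_one_right hset.sq
      simp [hzi, hset.one_ne, hset.one_ne.symm, hθz]
    · rw [hvan n (by rintro (h | h) <;> contradiction)]
      have e1 : ¬ (1 : ↥E) = n⁻¹ := fun h => h1 (inv_eq_one.mp h.symm)
      have e2 : ¬ z = n⁻¹ := fun h => h2 (by rw [← inv_inv n, ← h, inv_eq_of_mul_eq_one_right hset.sq])
      simp [e1, e2]
  obtain ⟨τ, hτ, -⟩ : ∃ τ : Representation ℂ P (Fin d' → ℂ), (∀ n : ↥E, τ ⟨n, hEP n.2⟩ = σ n) ∧ True := by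
    obtain ⟨e⟩ := Cfsg.Agent.Char.nonempty_equiv_of_char_eq
      (τ₀.comp (Subgroup.inclusion hEP) : Representation ℂ ↥E W) σ (funext fun n => by
        rw [hσc]; exact hτchar n)
    refine ⟨Cfsg.Agent.Char.transport τ₀ e.toLinearEquiv, fun n => LinearMap.ext fun x => ?_, trivial⟩
    rw [Cfsg.Agent.Char.transport_apply]
    refine (e.toIntertwiningMap.isIntertwining _ σ n (e.toLinearEquiv.symm x)).trans ?_
    exact congrArg (σ n) (e.toLinearEquiv.apply_symm_apply x)
  have hm2 := Cfsg.Agent.CharExtend.index_mem_powSet σ hi P hEP τ hτ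
  -- exponents prime to every prime
  have h1 : (1 : ℤ) ∈ Cfsg.Agent.CharExtend.powSet σ := by
    refine Cfsg.Agent.CharExtend.one_mem_of_forall_prime _ fun q hq => ?_
    by_cases hq2 : q = 2
    · subst hq2
      refine ⟨_, hm2, fun h => ?_⟩
      have h' : 2 ∣ P.index := Int.natCast_dvd_natCast.mp h
      have hGH : Nat.card G = Nat.card ↥E * Nat.card ↥H :=
        (Subgroup.isComplement'_of_disjoint_and_mul_eq_univ (disjoint_iff.mpr hEH)
          (by rw [← Subgroup.normal_mul, hEHtop, Subgroup.coe_top])).card_mul.symm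
      have hPc : Nat.card ↥P = Nat.card ↥E * Nat.card ↥S := by
        rw [← Nat.card_prod]
        refine (Nat.card_eq_of_bijective (fun x : ↥E × S => (⟨x.1 * x.2,
          Subgroup.mul_mem_sup x.1.2 x.2.2⟩ : P)) ⟨?_, ?_⟩).symm
        · intro a b hab
          obtain ⟨e1, e2⟩ := huniq _ _ _ _ (congrArg Subtype.val hab)
          exact Prod.ext e1 e2
        · exact fun g => ⟨(ce g, cs g), Subtype.ext (hces g).symm⟩
      have hSc : Nat.card ↥S = Nat.card ↥(S₀ : Subgroup ↥H) :=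
        Subgroup.card_map_of_injective H.subtype_injective
      have hmul := P.card_mul_index
      rw [hPc, hSc, hGH, mul_assoc] at hmul
      have hidx : P.index = (S₀ : Subgroup ↥H).index := by
        have := Nat.eq_of_mul_eq_mul_left Nat.card_pos hmul
        rw [← (S₀ : Subgroup ↥H).card_mul_index] at this
        exact Nat.eq_of_mul_eq_mul_left Nat.card_pos this
      exact S₀.not_dvd_index (hidx ▸ h')
    · let D : Cfsg.Agent.CharExtend.interGroup σ →* ℂˣ :=
        (Units.map (LinearMap.det : Module.End ℂ (Fin d' → ℂ) →* ℂ)).comp (Cfsg.Agent.CharExtend.op σ)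
      refine ⟨(d' * Nat.card ↥E : ℕ), ⟨D ^ Nat.card ↥E, fun z => ?_, fun n => ?_⟩, fun h => ?_⟩
      · apply Units.ext
        simp [D, Cfsg.Agent.CharExtend.scalarUnit_val, LinearMap.det_smul]
        rw [← pow_mul, ← Nat.cast_mul, zpow_natCast]
      · show (D (Cfsg.Agent.CharExtend.emb σ n)) ^ Nat.card ↥E = 1
        rw [← map_pow, ← map_pow, pow_card_eq_one', map_one, map_one]
      · have hdd : d' = d := by
          have h := congrFun hσc 1
          rw [Representation.char_one, Module.finrank_fin_fun, hd] at h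
          exact_mod_cast h
        rw [hdd, ← hdsq] at h
        have h3 : q ∣ d * (2 * d ^ 2) := Int.natCast_dvd_natCast.mp h
        obtain ⟨k, hk⟩ : ∃ k, Nat.card ↥E = 2 ^ k := (IsPGroup.iff_card.mp hE.1.1)
        have h4 : q ∣ (2 * d ^ 2) * (2 * d ^ 2) := h3.trans ⟨2 * d, by ring⟩
        rw [hdsq, hk, ← pow_add] at h4
        exact hq2 ((Nat.prime_dvd_prime_iff_eq hq Nat.prime_two).mp (hq.dvd_of_dvd_pow h4))
  obtain ⟨η, hη⟩ := Cfsg.Agent.CharExtend.exists_extension_of_one_mem σ hi h1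
  obtain ⟨hirr, hres⟩ := Cfsg.Agent.CharExtend.exists_char_of_rep hη
  exact ⟨⟨η.character, hirr⟩, fun e => (hres e).trans (congrFun hσc e)⟩


end Cfsg.Agent.S4759
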