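import Cfsg.Statements.S4762
import Cfsg.Agent.Lib.Char.Extraspecial
import Cfsg.Agent.Lib.Char.Degree
import Cfsg.Agent.Lib.LocalEven.Frattini
import Cfsg.Agent.Lib.Solvable.NilpotentFrattini
import Cfsg.Agent.Lib.Solvable.Structure

set_option autoImplicit false
set_option linter.style.haveILetI false
open Cfsg

namespace Cfsg.Agent.S4762

open Cfsg.Agent.Char
open scoped ComplexConjugate commutatorElement

universe u

variable {G : Type u} [Group G] [Finite G]

theorem isIrr_linear_mul {χ : G → ℂ} (h : Cfsg.IsIrrCharacter G χ) (f : G →* ℂˣ) :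
    Cfsg.IsIrrCharacter G (fun g => (f g : ℂ) * χ g) := by
  haveI : Fintype G := Fintype.ofFinite G
  refine IsCharacter.isIrr_of_norm_one (IsCharacter.mul
    (IsIrrCharacter.isCharacter (isIrrCharacter_linear f)) (IsIrrCharacter.isCharacter h)) ?_
  have h1 := classInner_self_irr h
  refine Eq.trans ?_ h1
  simp only [Cfsg.classInner]
  congr 1
  refine Finset.sum_congr rfl fun g _ => ?_
  rw [map_mul, mul_mul_mul_comm, Complex.mul_conj' (f g : ℂ), norm_eq_one_of_pow
    (m := Nat.card G) Nat.card_pos.ne' (by rw [← Units.val_pow_eq_pow_val, ← map_pow, pow_card_eq_one',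
      map_one, Units.val_one])]
  norm_num

theorem degree_eq {d : ℕ} {χ : Cfsg.IrrCharacter G} (h : (χ : G → ℂ) 1 = d) :
    Cfsg.charDegree (χ : G → ℂ) = d := by
  rw [← Nat.cast_inj (R := ℂ), ← Cfsg.Agent.CharX.irr_deg, h]

theorem card_of_extraspecial (h : Cfsg.IsExtraspecial 2 G) :
    Nat.card {χ : Cfsg.IrrCharacter G // 2 ∣ Cfsg.charDegree (χ : G → ℂ)} = 1 := by
  classical
  haveI : Fintype G := Fintype.ofFinite G
  obtain ⟨n, hn1, hn⟩ := Cfsg.Agent.FGBasics.XS.exists_card_eq h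
  have hcard : Nat.card G = 2 ^ (2 * n + 1) := by rw [hn, add_comm]
  have hdeg : ∀ χ : Cfsg.IrrCharacter G, Cfsg.charDegree (χ : G → ℂ) = 1 ∨
      Cfsg.charDegree (χ : G → ℂ) = 2 ^ n := fun χ => by
    rcases XS.degree_cases h hcard χ.2 with e | e
    · exact Or.inl (degree_eq (by simpa using e))
    · exact Or.inr (degree_eq (by simpa using e))
  have hidx : (commutator G).index = 2 ^ (2 * n) := by
    have := (commutator G).card_mul_index
    rw [h.1.2.2, h.2, hcard, pow_succ'] at this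
    rw [h.1.2.2]
    exact Nat.eq_of_mul_eq_mul_left two_pos this
  have hlin : (Finset.univ.filter fun χ : Cfsg.IrrCharacter G =>
      ¬ 2 ∣ Cfsg.charDegree (χ : G → ℂ)).card = 2 ^ (2 * n) := by
    rw [← hidx, ← card_linear, ← Fintype.card_subtype, ← Nat.card_eq_fintype_card]
    refine Nat.card_congr (Equiv.subtypeEquivRight fun χ => ?_)
    rw [Cfsg.Agent.CharX.irr_deg, ← Nat.cast_one, Nat.cast_inj]
    rcases hdeg χ with e | e
    · rw [e]; simp
    · rw [e]
      exact iff_of_false (fun h' => h' (dvd_pow_self 2 (by omega)))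
        (Nat.one_lt_two_pow (by omega)).ne'
  have hs := Cfsg.Agent.CharX.sum_deg_sq (G := G)
  rw [← Finset.sum_filter_add_sum_filter_not Finset.univ
    (fun χ : Cfsg.IrrCharacter G => 2 ∣ Cfsg.charDegree (χ : G → ℂ))] at hs
  have e1 : ∀ χ ∈ Finset.univ.filter
      (fun χ : Cfsg.IrrCharacter G => 2 ∣ Cfsg.charDegree (χ : G → ℂ)),
      Cfsg.charDegree (χ : G → ℂ) ^ 2 = 2 ^ (2 * n) := fun χ hχ => by
    rcases hdeg χ with e | e
    · exact absurd (e ▸ (Finset.mem_filter.1 hχ).2) (by norm_num)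
    · rw [e, ← pow_mul, mul_comm]
  have e2 : ∀ χ ∈ Finset.univ.filter
      (fun χ : Cfsg.IrrCharacter G => ¬ 2 ∣ Cfsg.charDegree (χ : G → ℂ)),
      Cfsg.charDegree (χ : G → ℂ) ^ 2 = 1 := fun χ hχ => by
    rcases hdeg χ with e | e
    · rw [e, one_pow]
    · exact absurd (e ▸ dvd_pow_self 2 (by omega)) (Finset.mem_filter.1 hχ).2
  rw [Finset.sum_congr rfl e1, Finset.sum_congr rfl e2, Finset.sum_const, Finset.sum_const,
    hlin, hcard, smul_eq_mul, smul_eq_mul, mul_one, pow_succ, mul_two, add_left_inj] at hs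
  rw [Nat.card_eq_fintype_card, Fintype.card_subtype]
  exact (Nat.mul_eq_right (pow_ne_zero _ two_ne_zero)).1 hs

theorem extraspecial_of_card {a : ℕ} (ha : Nat.card G = 2 ^ a)
    (h : Nat.card {χ : Cfsg.IrrCharacter G // 2 ∣ Cfsg.charDegree (χ : G → ℂ)} = 1) :
    Cfsg.IsExtraspecial 2 G := by
  classical
  haveI : Fintype G := Fintype.ofFinite G
  haveI := Fact.mk Nat.prime_two
  have hpg : IsPGroup 2 G := IsPGroup.of_card ha
  haveI : Group.IsNilpotent G := hpg.isNilpotent
  obtain ⟨hsub, ⟨⟨χ, hχ⟩⟩⟩ := Nat.card_eq_one_iff_unique.1 h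
  obtain ⟨k, hk, hd⟩ := (Nat.dvd_prime_pow Nat.prime_two).1 (ha ▸ Cfsg.Agent.CharX.irr_deg_dvd_card χ)
  have hk0 : k ≠ 0 := fun e => by rw [hd, e, pow_zero] at hχ; norm_num at hχ
  have hone : ∀ ψ : Cfsg.IrrCharacter G, ψ ≠ χ → Cfsg.charDegree (ψ : G → ℂ) = 1 := by
    intro ψ hψ
    obtain ⟨j, -, hj⟩ := (Nat.dvd_prime_pow Nat.prime_two).1 (ha ▸ Cfsg.Agent.CharX.irr_deg_dvd_card ψ)
    rcases j with - | j
    · simpa using hj
    · exact absurd (congrArg Subtype.val (Subsingleton.elim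
        (⟨ψ, by rw [hj]; exact dvd_pow_self 2 (by omega)⟩ :
          {χ : Cfsg.IrrCharacter G // 2 ∣ Cfsg.charDegree (χ : G → ℂ)}) ⟨χ, hχ⟩)) hψ
  have hne : Cfsg.charDegree (χ : G → ℂ) ≠ 1 := by
    rw [hd]; exact (Nat.one_lt_two_pow hk0).ne'
  have hlin : (Finset.univ.erase χ).card = (commutator G).index := by
    rw [← card_linear, Nat.card_eq_fintype_card, Fintype.card_subtype]
    congr 1
    ext ψ
    simp only [Finset.mem_erase, Finset.mem_univ, and_true, Finset.mem_filter, true_and,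
      Cfsg.Agent.CharX.irr_deg, ← Nat.cast_one (R := ℂ), Nat.cast_inj]
    exact ⟨hone ψ, fun e e' => hne (e' ▸ e)⟩
  have hs := Cfsg.Agent.CharX.sum_deg_sq (G := G)
  rw [← Finset.add_sum_erase _ _ (Finset.mem_univ χ), Finset.sum_congr rfl (g := fun _ => 1)
    (fun ψ hψ => by rw [hone ψ (Finset.ne_of_mem_erase hψ), one_pow]), Finset.sum_const, smul_eq_mul,
    mul_one, hlin, ← (commutator G).card_mul_index] at hs
  obtain ⟨c, -, hc⟩ := (Nat.dvd_prime_pow Nat.prime_two).1
    (ha ▸ (commutator G).card_subgroup_dvd_card)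
  obtain ⟨m, -, hm⟩ := (Nat.dvd_prime_pow Nat.prime_two).1
    (ha ▸ Subgroup.index_dvd_card (commutator G))
  rw [hd, hc, hm, ← pow_mul, ← pow_add] at hs
  -- the derived subgroup has order two
  have hc1 : c = 1 := by
    by_contra hne1
    rcases Nat.eq_zero_or_pos c with rfl | hcpos
    · have : 0 < 2 ^ (k * 2) := pow_pos two_pos _
      rw [zero_add] at hs; omega
    · have h1 : 2 ^ (k * 2) = 2 ^ m * (2 ^ c - 1) := by
        rw [Nat.mul_sub, mul_one, ← pow_add]; rw [add_comm c m] at hs; exact Nat.eq_sub_of_add_eq hs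
      have h2 : 2 ^ c - 1 ∣ 2 ^ (k * 2) := h1 ▸ dvd_mul_left _ _
      obtain ⟨i, -, hi⟩ := (Nat.dvd_prime_pow Nat.prime_two).1 h2
      have h3 : 4 ≤ 2 ^ c := by
        calc 4 = 2 ^ 2 := rfl
          _ ≤ 2 ^ c := Nat.pow_le_pow_right two_pos (by omega)
      have h4 : 2 ∣ 2 ^ c := dvd_pow_self 2 (by omega)
      rcases i with - | i
      · rw [pow_zero] at hi; omega
      · have : 2 ∣ 2 ^ (i + 1) := dvd_pow_self 2 (by omega)
        omega
  subst hc1
  have hmk : 2 ^ (k * 2) = 2 ^ m := by rw [pow_add, pow_one] at hs; omega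
  have hG : Nat.card G = 2 * (2 ^ k) ^ 2 := by
    rw [← (commutator G).card_mul_index, hc, hm, pow_one, ← hmk, pow_mul]
  -- it is central
  have hcz : commutator G ≤ Subgroup.center G := fun z hz => Subgroup.mem_center_iff.2 fun g => by
    have hg : g * z * g⁻¹ ∈ commutator G := (inferInstance : (commutator G).Normal).conj_mem z hz g
    rw [pow_one] at hc
    obtain ⟨a₀, b₀, hab, huniv⟩ := Nat.card_eq_two_iff.1 hc
    have hmem : ∀ u : commutator G, u = a₀ ∨ u = b₀ := fun u => by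
      have := huniv.symm ▸ Set.mem_univ u
      simpa using this
    by_cases hz1 : z = 1
    · rw [hz1, mul_one, one_mul]
    · have key : (⟨g * z * g⁻¹, hg⟩ : commutator G) = ⟨z, hz⟩ := by
        have h1 : (⟨g * z * g⁻¹, hg⟩ : commutator G) ≠ 1 := fun e => hz1
          (conj_eq_one_iff.1 (congrArg Subtype.val e))
        have h2 : (⟨z, hz⟩ : commutator G) ≠ 1 := fun e => hz1 (congrArg Subtype.val e)
        rcases hmem ⟨g * z * g⁻¹, hg⟩ with e | e <;> rcases hmem ⟨z, hz⟩ with e' | e' <;>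
          rcases hmem 1 with e'' | e'' <;> simp_all
      exact mul_inv_eq_iff_eq_mul.1 (congrArg Subtype.val key)
  -- the centre has order two
  have hz2 : Nat.card (Subgroup.center G) ≤ 2 := by
    have h1 := classInner_self_irr χ.2
    rw [Cfsg.classInner, inv_mul_eq_one₀ (Nat.cast_ne_zero.2 Nat.card_pos.ne'), eq_comm] at h1
    simp only [Complex.mul_conj, ← Complex.ofReal_sum] at h1
    have h1' : ∑ g : G, Complex.normSq ((χ : G → ℂ) g) = (Nat.card G : ℝ) := by exact_mod_cast h1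
    have h2 : ∑ g ∈ Finset.univ.filter (· ∈ Subgroup.center G), Complex.normSq ((χ : G → ℂ) g) =
        (Nat.card (Subgroup.center G) : ℝ) * ((2 : ℝ) ^ k) ^ 2 := by
      rw [Finset.sum_congr rfl (g := fun _ => ((2 : ℝ) ^ k) ^ 2) (fun g hg => ?_), Finset.sum_const,
        nsmul_eq_mul, ← Fintype.card_subtype, ← Nat.card_eq_fintype_card]
      obtain ⟨e, hen, heg, -⟩ :=
        IsIrrCharacter.exists_central_scalar χ.2 (Finset.mem_filter.1 hg).2
      rw [← mul_one g, heg, Complex.normSq_eq_norm_sq, norm_mul, hen, one_mul,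
        Cfsg.Agent.CharX.irr_deg, hd, Complex.norm_natCast]
      push_cast; rfl
    have h3 : (Nat.card (Subgroup.center G) : ℝ) * ((2 : ℝ) ^ k) ^ 2 ≤ 2 * ((2 : ℝ) ^ k) ^ 2 := by
      rw [← h2]
      refine le_trans (Finset.sum_le_univ_sum_of_nonneg fun g => Complex.normSq_nonneg _) ?_
      rw [h1', hG]; push_cast; rfl
    exact_mod_cast le_of_mul_le_mul_right h3 (by positivity)
  have hZ : commutator G = Subgroup.center G :=
    Subgroup.eq_of_le_of_card_ge hcz (by rw [hc, pow_one]; exact hz2)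
  refine ⟨⟨hpg, le_antisymm (Cfsg.Agent.LEFrattini.frattini_le (p := 2) (fun x y => ?_) fun x => ?_)
    (hZ ▸ Cfsg.Agent.SolvStruct.commutator_le_frattini G), hZ⟩, by rw [← hZ, hc, pow_one]⟩
  · exact hcz (Subgroup.commutator_mem_commutator (Subgroup.mem_top x) (Subgroup.mem_top y))
  · rw [Subgroup.mem_center_iff]
    intro y
    have hmem : y * x * y⁻¹ * x⁻¹ ∈ commutator G :=
      Subgroup.commutator_mem_commutator (Subgroup.mem_top y) (Subgroup.mem_top x)
    have hsq : (y * x * y⁻¹ * x⁻¹) ^ 2 = 1 := by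
      have := pow_card_eq_one' (x := (⟨_, hmem⟩ : commutator G))
      rw [hc, pow_one] at this
      exact congrArg Subtype.val this
    obtain ⟨e, he⟩ : ∃ e, e = y * x * y⁻¹ * x⁻¹ := ⟨_, rfl⟩
    rw [← he] at hsq hmem
    have hex : Commute e x := ((Subgroup.mem_center_iff.1 (hcz hmem)) x).symm
    have e1 : y * x ^ 2 * y⁻¹ = x ^ 2 := by
      rw [← conj_pow, show y * x * y⁻¹ = e * x by rw [he]; group, hex.mul_pow, hsq, one_mul]
    rw [mul_inv_eq_iff_eq_mul] at e1
    exact e1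

theorem forward (n : ℕ) : ∀ (H : Type u) [Group H] [Finite H] [Group.IsNilpotent H],
    Nat.card H = n → ∀ p : ℕ, p.Prime →
    Nat.card {χ : Cfsg.IrrCharacter H // p ∣ Cfsg.charDegree (χ : H → ℂ)} = 1 →
    p = 2 ∧ Cfsg.IsExtraspecial 2 H := by
  induction n using Nat.strong_induction_on with
  | _ n ih => ?_
  intro H _ _ _ hn p hp h
  classical
  haveI : Fintype H := Fintype.ofFinite H
  haveI := Fact.mk hp
  obtain ⟨hsub, ⟨⟨χ, hχ⟩⟩⟩ := Nat.card_eq_one_iff_unique.1 h
  have huniq : ∀ ψ : Cfsg.IrrCharacter H, p ∣ Cfsg.charDegree (ψ : H → ℂ) → ψ = χ := fun ψ hψ =>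
    congrArg Subtype.val (Subsingleton.elim
      (⟨ψ, hψ⟩ : {χ : Cfsg.IrrCharacter H // p ∣ Cfsg.charDegree (χ : H → ℂ)}) ⟨χ, hχ⟩)
  by_cases hz : ∃ z ∈ Subgroup.center H, (orderOf z).Prime ∧ orderOf z ≠ 2
  · exfalso
    obtain ⟨z, hzc, hq, hq2⟩ := hz
    obtain ⟨c, -, hcg, hciff⟩ := IsIrrCharacter.exists_central_scalar χ.2 hzc
    -- `z` acts trivially
    have hz1 : (χ : H → ℂ) z = (χ : H → ℂ) 1 := by
      refine hciff.1 ?_
      have hconj := huniq ⟨_, IsIrrCharacter.conj χ.2⟩ (by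
        rw [degree_eq (d := Cfsg.charDegree (χ : H → ℂ))]
        · exact hχ
        · show conj ((χ : H → ℂ) 1) = _
          rw [Cfsg.Agent.CharX.irr_deg χ, map_natCast])
      have hval : ∀ g, conj ((χ : H → ℂ) g) = (χ : H → ℂ) g := fun g =>
        congrFun (congrArg Subtype.val hconj) g
      have h1 := IsIrrCharacter.one_ne_zero χ.2
      have hcr : conj c = c := by
        have := hval (z * 1)
        rw [hcg, map_mul, hval] at this
        exact mul_right_cancel₀ h1 this
      have hpow : ∀ j : ℕ, (χ : H → ℂ) (z ^ j) = c ^ j * (χ : H → ℂ) 1 := fun j => by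
        induction j with
        | zero => simp
        | succ j ihj => rw [pow_succ', hcg, ihj, pow_succ', mul_assoc]
      have hcq : c ^ orderOf z = 1 := mul_right_cancel₀ h1 (by
        rw [← hpow, pow_orderOf_eq_one, one_mul])
      obtain ⟨r, rfl⟩ := Complex.conj_eq_iff_real.1 hcr
      have hodd : Odd (orderOf z) := hq.odd_of_ne_two hq2
      have hr : r ^ orderOf z = 1 := by exact_mod_cast hcq
      replace hr : r = 1 := by
        rcases (pow_eq_one_iff_of_ne_zero hq.ne_zero).1 hr with e | ⟨-, he⟩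
        · exact e
        · exact absurd he (Nat.not_even_iff_odd.2 hodd)
      rw [hr, Complex.ofReal_one]
    let N := Subgroup.zpowers z
    haveI hNn : N.Normal := ⟨fun a ha g => by
      obtain ⟨j, rfl⟩ := Subgroup.mem_zpowers_iff.1 ha
      rw [Subgroup.mem_center_iff.1 ((Subgroup.center H).zpow_mem hzc j) g, mul_inv_cancel_right]
      exact ha⟩
    have hχN : ∀ x ∈ N, (χ : H → ℂ) x = (χ : H → ℂ) 1 := by
      obtain ⟨K, -, hK, -, -⟩ := Cfsg.Agent.CharX.exists_ker χ
      exact fun x hx => (hK x).1 (Subgroup.zpowers_le.2 ((hK z).2 hz1) hx)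
    have hlt : Nat.card (H ⧸ N) < n := by
      have e := N.card_mul_index
      rw [Subgroup.index, Nat.card_zpowers, hn] at e
      have := hq.two_le
      have : 0 < Nat.card (H ⧸ N) := Nat.card_pos
      nlinarith
    have hq1 : Nat.card {φ : Cfsg.IrrCharacter (H ⧸ N) // p ∣ Cfsg.charDegree (φ : H ⧸ N → ℂ)} = 1 := by
      obtain ⟨φ, hφ⟩ := (Cfsg.Agent.CharX.quotEquiv N).surjective ⟨χ, hχN⟩
      have hφ' : Cfsg.Agent.CharX.infl N φ = χ := congrArg Subtype.val hφ
      refine Nat.card_eq_one_iff_exists.2 ⟨⟨φ, by rw [← hφ'] at hχ; exact hχ⟩, fun ψ => Subtype.ext ?_⟩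
      refine (Cfsg.Agent.CharX.quotEquiv N).injective (Subtype.ext ?_)
      show Cfsg.Agent.CharX.infl N ψ.1 = Cfsg.Agent.CharX.infl N φ
      rw [hφ']
      exact huniq _ ψ.2
    obtain ⟨rfl, hE⟩ := ih _ hlt (H ⧸ N) rfl p hp hq1
    obtain ⟨a, ha⟩ := hE.1.1.exists_card_eq
    obtain ⟨P⟩ : Nonempty (Sylow 2 H) := inferInstance
    haveI : (P : Subgroup H).Normal :=
      (Group.isNilpotent_of_finite_tfae.out 0 3 rfl rfl).1 inferInstance 2 inferInstance P
    have hH : Nat.card H = orderOf z * 2 ^ a := by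
      rw [← N.card_mul_index, Subgroup.index, ha, Nat.card_zpowers]
    have hPc : Nat.card (P : Subgroup H) = 2 ^ a := by
      rw [P.card_eq_multiplicity, hH, Nat.factorization_mul hq.ne_zero (pow_ne_zero _ two_ne_zero),
        Finsupp.add_apply, Nat.prime_two.factorization_pow, Finsupp.single_eq_same,
        Nat.factorization_eq_zero_of_not_dvd fun h2 =>
          hq2 ((Nat.prime_dvd_prime_iff_eq Nat.prime_two hq).1 h2).symm, zero_add]
    have hcyc : IsCyclic (H ⧸ (P : Subgroup H)) := by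
      haveI := Fact.mk hq
      refine isCyclic_of_prime_card (p := orderOf z) ?_
      have e := (P : Subgroup H).card_mul_index
      rw [hPc, hH, mul_comm (orderOf z)] at e
      exact Nat.eq_of_mul_eq_mul_left (pow_pos two_pos a) e
    have hzP : z ∉ (P : Subgroup H) := fun hzP => by
      have h2 := Subgroup.orderOf_dvd_natCard (P : Subgroup H) hzP
      rw [hPc] at h2
      exact hq2 ((Nat.prime_dvd_prime_iff_eq hq Nat.prime_two).1 (hq.dvd_of_dvd_pow h2))
    letI : CommGroup (H ⧸ (P : Subgroup H)) := IsCyclic.commGroup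
    obtain ⟨f, hf⟩ := CommGroup.exists_apply_ne_one_of_hasEnoughRootsOfUnity
      (H ⧸ (P : Subgroup H)) ℂ (a := (z : H ⧸ (P : Subgroup H)))
      (fun e => hzP ((QuotientGroup.eq_one_iff z).1 e))
    have he := huniq ⟨_, isIrr_linear_mul χ.2 (f.comp (QuotientGroup.mk' _))⟩ (by
      simpa [Cfsg.charDegree] using hχ)
    have he' := congrFun (congrArg Subtype.val he) z
    refine hf (Units.ext ?_)
    simp only [MonoidHom.coe_comp, QuotientGroup.coe_mk', Function.comp_apply, hz1] at he'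
    exact (mul_eq_right₀ (IsIrrCharacter.one_ne_zero χ.2)).1 he'
  · -- a `2`-group
    push Not at hz
    have h2g : ∀ q : ℕ, q.Prime → q ∣ Nat.card H → q = 2 := by
      intro q hq hqd
      haveI := Fact.mk hq
      obtain ⟨Q⟩ : Nonempty (Sylow q H) := inferInstance
      haveI : (Q : Subgroup H).Normal :=
        (Group.isNilpotent_of_finite_tfae.out 0 3 rfl rfl).1 inferInstance q inferInstance Q
      obtain ⟨⟨x, hx⟩, hx1⟩ := Subgroup.ne_bot_iff_exists_ne_one.1
        (Cfsg.Agent.SolvStruct.inf_center_ne_bot (N := (Q : Subgroup H)) (Q.ne_bot_of_dvd_card hqd))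
      obtain ⟨hxQ, hxc⟩ := Subgroup.mem_inf.1 hx
      obtain ⟨j, hj⟩ := IsPGroup.iff_orderOf.1 Q.isPGroup' ⟨x, hxQ⟩
      rw [← Subgroup.orderOf_coe] at hj
      change orderOf x = q ^ j at hj
      rcases j with - | j
      · exact absurd (Subtype.ext (orderOf_eq_one_iff.1 hj)) hx1
      · have ho : orderOf (x ^ q ^ j) = q := by
          rw [orderOf_pow_of_dvd (pow_ne_zero _ hq.ne_zero) (hj ▸ pow_dvd_pow q (by omega)), hj,
            pow_succ, Nat.mul_div_cancel_left _ (pow_pos hq.pos _)]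
        by_contra hq2
        exact hq2 (ho ▸ hz _ ((Subgroup.center H).pow_mem hxc _) (by rwa [ho]))
    obtain ⟨a, ha⟩ : ∃ a, Nat.card H = 2 ^ a :=
      ⟨_, Nat.eq_prime_pow_of_unique_prime_dvd Nat.card_pos.ne' fun hd hd' => h2g _ hd hd'⟩
    have hp2 : p = 2 := h2g p hp (hχ.trans (Cfsg.Agent.CharX.irr_deg_dvd_card χ))
    subst hp2
    exact ⟨rfl, extraspecial_of_card ha h⟩

/-- Let p be a prime and G a finite nilpotent group. Then G has exactly one irreducible complex character of degree divisible by p if and only if p = 2 and G is an extraspecial 2-group. -/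
theorem result {G : Type*} [Group G] [Finite G] [Group.IsNilpotent G] (p : ℕ) [Fact p.Prime] : Nat.card {χ : Cfsg.IrrCharacter G // p ∣ Cfsg.charDegree (χ : G → ℂ)} = 1 ↔ (p = 2 ∧ Cfsg.IsExtraspecial 2 G) := by
  exact ⟨fun h => forward _ G rfl p Fact.out h,
    fun ⟨hp, hE⟩ => by subst hp; exact card_of_extraspecial hE⟩

end Cfsg.Agent.S4762
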