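import Cfsg.Statements.S4763
import Cfsg.Agent.Lib.Char.CoprimeCount
import Cfsg.Agent.Lib.Char.CoprimeDegree
import Cfsg.Agent.Lib.Char.ItoPSolvable
import Cfsg.Agent.Lib.Char.Gallagher
import Cfsg.Agent.Lib.Char.Fixed
import Cfsg.Agent.Lib.Char.Orbit

set_option autoImplicit false
set_option linter.style.haveILetI false
open Cfsg

namespace Cfsg.Agent.S4763

open Cfsg.Agent.Char Cfsg.Agent.GlaubermanMod Cfsg.Agent.CoprimeCount

universe u
variable {G : Type u} [Group G] [Finite G] {p : ℕ} [hp : Fact p.Prime]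

theorem card_sylow_eq (N : Subgroup G) (hN : (Nat.card N).Coprime p) {k : ℕ}
    (hk : N.index = p ^ k) : (Nat.card G).factorization p = k := by
  rw [← N.card_mul_index, hk, Nat.factorization_mul Nat.card_pos.ne' (pow_ne_zero _ hp.out.ne_zero),
    Finsupp.add_apply, Nat.factorization_eq_zero_of_not_dvd (hp.out.coprime_iff_not_dvd.1 hN.symm),
    zero_add, hp.out.factorization_pow, Finsupp.single_eq_same]

theorem split (N : Subgroup G) [N.Normal] (hN : (Nat.card N).Coprime p) {k : ℕ}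
    (hk : N.index = p ^ k) (P : Sylow p G) :
    N.IsComplement' (P : Subgroup G) := by
  refine Subgroup.isComplement'_of_coprime ?_ ?_
  · rw [P.card_eq_multiplicity, card_sylow_eq N hN hk, ← hk, N.card_mul_index]
  · obtain ⟨j, hj⟩ := P.isPGroup'.exists_card_eq
    rw [hj]; exact hN.pow_right _

/-- An element of `N` with class fixed by `P` is centralised by a conjugate of `P`. -/
theorem meets (N : Subgroup G) [N.Normal] (hN : (Nat.card N).Coprime p) {k : ℕ}
    (hk : N.index = p ^ k) (P : Sylow p G) {g x : G} (hg : g ∈ N) (hx : x ∈ (P : Subgroup G))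
    (hxg : x * g = g * x)
    (hfix : ∀ y ∈ (P : Subgroup G), ∃ a ∈ N, y * g * y⁻¹ = a * g * a⁻¹) :
    ∃ m ∈ N, m * x = x * m ∧ ∀ y ∈ (P : Subgroup G), y * (m⁻¹ * g * m) = m⁻¹ * g * m * y := by
  classical
  have hc := split N hN hk P
  let L := Subgroup.centralizer ({g} : Set G)
  have hsurj : Function.Surjective ((QuotientGroup.mk' N).comp L.subtype) := by
    intro v
    obtain ⟨h, rfl⟩ := QuotientGroup.mk'_surjective N v
    obtain ⟨⟨n, y⟩, hny⟩ := hc.2 h
    obtain ⟨a, ha, hya⟩ := hfix (y : G) y.2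
    have hL : a⁻¹ * (y : G) ∈ L := by
      rw [Subgroup.mem_centralizer_singleton_iff]
      calc a⁻¹ * (y : G) * g = a⁻¹ * ((y : G) * g * (y : G)⁻¹) * y := by group
        _ = a⁻¹ * (a * g * a⁻¹) * y := by rw [hya]
        _ = g * (a⁻¹ * (y : G)) := by group
    refine ⟨⟨_, hL⟩, ?_⟩
    show ((a⁻¹ * (y : G) : G) : G ⧸ N) = (h : G ⧸ N)
    have hn1 : ((n : G) : G ⧸ N) = 1 := (QuotientGroup.eq_one_iff _).2 n.2
    have ha1 : ((a : G) : G ⧸ N) = 1 := (QuotientGroup.eq_one_iff _).2 ha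
    rw [← show (n : G) * (y : G) = h from hny, QuotientGroup.mk_mul, QuotientGroup.mk_mul,
      QuotientGroup.mk_inv, hn1, ha1, inv_one]
  have hdvd : p ^ k ∣ Nat.card L := by
    rw [← hk, Subgroup.index_eq_card]
    exact Subgroup.card_dvd_of_surjective _ hsurj
  let xL : L := ⟨x, Subgroup.mem_centralizer_singleton_iff.2 hxg⟩
  have hxp : IsPGroup p (Subgroup.zpowers xL) := by
    obtain ⟨j, hj⟩ := P.isPGroup'.exists_card_eq
    obtain ⟨i, -, hi⟩ := (Nat.dvd_prime_pow hp.out).1
      (hj ▸ Subgroup.orderOf_dvd_natCard _ hx : orderOf x ∣ p ^ j)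
    exact IsPGroup.of_card (n := i) (by rw [Nat.card_zpowers, ← hi, ← Subgroup.orderOf_coe])
  obtain ⟨S, hS⟩ := hxp.exists_le_sylow
  have hcard : Nat.card ((S : Subgroup L).map L.subtype) = p ^ (Nat.card G).factorization p := by
    rw [Subgroup.card_map_of_injective L.subtype_injective, S.card_eq_multiplicity]
    refine congrArg _ (le_antisymm ?_ ?_)
    · exact (Nat.factorization_le_iff_dvd Nat.card_pos.ne' Nat.card_pos.ne').2
        (Subgroup.card_subgroup_dvd_card L) p
    · rw [card_sylow_eq N hN hk]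
      exact (hp.out.pow_dvd_iff_le_factorization Nat.card_pos.ne').1 hdvd
  obtain ⟨h, hh⟩ := MulAction.exists_smul_eq G P (Sylow.ofCard _ hcard)
  obtain ⟨⟨n, y⟩, hny⟩ := hc.2 h
  have hh' : ∀ z ∈ (P : Subgroup G), (n : G) * z * (n : G)⁻¹ ∈ (S : Subgroup L).map L.subtype := by
    intro z hz
    have h1 : h * ((y : G)⁻¹ * z * y) * h⁻¹ ∈
        ((h • P : Sylow p G) : Subgroup G) := by
      rw [Sylow.coe_subgroup_smul]
      exact ⟨_, mul_mem (mul_mem (inv_mem y.2) hz) y.2, rfl⟩
    rw [hh, ← show (n : G) * (y : G) = h from hny,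
      show (n : G) * (y : G) * ((y : G)⁻¹ * z * y) * ((n : G) * (y : G))⁻¹ =
        (n : G) * z * (n : G)⁻¹ by group] at h1
    exact h1
  refine ⟨n, n.2, ?_, fun z hz => ?_⟩
  · obtain ⟨z, hz, hzx⟩ : ∃ z ∈ (P : Subgroup G), x = (n : G) * z * (n : G)⁻¹ := by
      have h1 : x ∈ ((h • P : Sylow p G) : Subgroup G) := by
        rw [hh]
        exact ⟨xL, hS (Subgroup.mem_zpowers _), rfl⟩
      rw [Sylow.coe_subgroup_smul] at h1
      obtain ⟨w, hw, hwe⟩ := h1
      refine ⟨(y : G) * w * (y : G)⁻¹, mul_mem (mul_mem y.2 hw) (inv_mem y.2), ?_⟩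
      rw [← hwe]
      show h * w * h⁻¹ = _
      rw [← show (n : G) * (y : G) = h from hny]
      group
    have hzN : z⁻¹ * x ∈ N := by
      rw [hzx, show z⁻¹ * ((n : G) * z * (n : G)⁻¹) = (z⁻¹ * (n : G) * z) * (n : G)⁻¹ by group]
      exact mul_mem (by simpa using (inferInstance : N.Normal).conj_mem _ n.2 z⁻¹) (inv_mem n.2)
    have h2 : z⁻¹ * x = 1 :=
      Subgroup.disjoint_def.1 hc.disjoint hzN (mul_mem (inv_mem hz) hx)
    rw [inv_mul_eq_one] at h2
    subst h2
    exact (mul_inv_eq_iff_eq_mul.1 hzx.symm)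
  · obtain ⟨w, -, hwe⟩ := hh' z hz
    have h3 : (n : G) * z * (n : G)⁻¹ * g = g * ((n : G) * z * (n : G)⁻¹) := by
      rw [← hwe]; exact Subgroup.mem_centralizer_singleton_iff.1 w.2
    calc z * ((n : G)⁻¹ * g * n) = (n : G)⁻¹ * ((n : G) * z * (n : G)⁻¹ * g) * n := by group
      _ = (n : G)⁻¹ * (g * ((n : G) * z * (n : G)⁻¹)) * n := by rw [h3]
      _ = _ := by group

theorem card_carrier_eq [Fintype G] (g : G) :
    Nat.card (ConjClasses.mk g).carrier = (Subgroup.centralizer ({g} : Set G)).index := by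
  classical
  rw [← card_classFinset g, ← Nat.card_eq_finsetCard]
  refine Nat.card_congr (Equiv.subtypeEquivRight fun k => ?_)
  rw [ConjClasses.mem_carrier_iff_mk_eq, ConjClasses.mk_eq_mk_iff_isConj, classFinset,
    Finset.mem_filter]
  exact ⟨fun h => ⟨Finset.mem_univ _, h.symm⟩, fun h => h.2.symm⟩

theorem main [Fintype G] (N : Subgroup G) [hNn : N.Normal] [Fintype N] {k : ℕ}
    (hnil : ¬ Group.IsNilpotent G) (hN : (Nat.card N).Coprime p) (hk : N.index = p ^ k)
    (hone : Nat.card {χ : Cfsg.IrrCharacter G // p ∣ Cfsg.charDegree (χ : G → ℂ)} = 1) :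
    Nat.card {C : ConjClasses G // p ∣ Nat.card C.carrier} = 1 := by
  classical
  obtain ⟨hsub, hne⟩ := Nat.card_eq_one_iff_unique.1 hone
  have huniq : ∀ a b : Cfsg.IrrCharacter G, p ∣ Cfsg.charDegree (a : G → ℂ) →
      p ∣ Cfsg.charDegree (b : G → ℂ) → a = b := fun a b ha hb =>
    congrArg Subtype.val (@Subsingleton.elim _ hsub ⟨a, ha⟩ ⟨b, hb⟩)
  obtain ⟨⟨χ0, hχ0⟩⟩ := hne
  have hpN : ¬ p ∣ Nat.card N := hp.out.coprime_iff_not_dvd.1 hN.symm
  have hcopN : (Nat.card N).Coprime N.index := hk ▸ hN.pow_right _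
  have hNne : N ≠ ⊥ := by
    intro h
    refine hnil (IsPGroup.isNilpotent (p := p) (IsPGroup.of_card (n := k) ?_))
    rw [← N.card_mul_index, hk, h, Subgroup.card_bot, one_mul]
  have hθdeg : ∀ θ : Cfsg.IrrCharacter N, ¬ p ∣ Cfsg.charDegree (θ : N → ℂ) := fun θ h =>
    hpN (h.trans (Cfsg.Agent.CharX.irr_deg_dvd_card θ))
  -- characters over a non-invariant character are singular
  have hover : ∀ (θ : Cfsg.IrrCharacter N) (χ : Cfsg.IrrCharacter G),
      inertia N (θ : N → ℂ) ≠ ⊤ →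
      Cfsg.classInner (fun n : N => (χ : G → ℂ) n) (θ : N → ℂ) ≠ 0 →
      p ∣ Cfsg.charDegree (χ : G → ℂ) := by
    intro θ χ hT hχ
    have hle := le_inertia N (IsCharacter.isClassFunction (IsIrrCharacter.isCharacter θ.2))
    obtain ⟨ψ, hψ, hind, -⟩ := clifford_correspondence_surjective N θ.2 rfl hle χ.2 hχ
    obtain ⟨d, hd⟩ := IsCharacter.exists_degree (IsIrrCharacter.isCharacter hψ)
    have hχd : Cfsg.charDegree (χ : G → ℂ) = (inertia N (θ : N → ℂ)).index * d := by
      rw [← Nat.cast_inj (R := ℂ), ← Cfsg.Agent.CharX.irr_deg, ← hind, indFun_one_apply, hd,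
        Nat.cast_mul]
    obtain ⟨i, -, hi⟩ := (Nat.dvd_prime_pow hp.out).1 (hk ▸ Subgroup.index_dvd_of_le hle)
    rw [hχd, hi]
    rcases i with _ | i
    · exact absurd (Subgroup.index_eq_one.1 (by rw [hi, pow_zero])) hT
    · exact dvd_mul_of_dvd_left (dvd_pow_self p i.succ_ne_zero) _
  -- the quotient is abelian
  have hab : ∀ a b : G, a * b * a⁻¹ * b⁻¹ ∈ N := by
    haveI : Fintype (G ⧸ N) := Fintype.ofFinite _
    have hlin : ∀ χ : Cfsg.IrrCharacter (G ⧸ N), (χ : G ⧸ N → ℂ) 1 = 1 := by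
      intro χ
      by_contra h1
      have hd : p ∣ Cfsg.charDegree (χ : G ⧸ N → ℂ) := by
        have h2 := Cfsg.Agent.CharX.irr_deg_dvd_card χ
        rw [← Subgroup.index_eq_card, hk] at h2
        obtain ⟨i, -, hi⟩ := (Nat.dvd_prime_pow hp.out).1 h2
        rcases i with _ | i
        · exact absurd (by rw [Cfsg.Agent.CharX.irr_deg, hi, pow_zero, Nat.cast_one]) h1
        · rw [hi]; exact dvd_pow_self p i.succ_ne_zero
      let β : Cfsg.IrrCharacter G :=
        ⟨_, IsIrrCharacter.comp χ.2 (QuotientGroup.mk' N) (QuotientGroup.mk'_surjective N)⟩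
      have hβN : ∀ n : N, (β : G → ℂ) n = (β : G → ℂ) 1 := fun n => by
        show (χ : G ⧸ N → ℂ) ((n : G) : G ⧸ N) = (χ : G ⧸ N → ℂ) ((1 : G) : G ⧸ N)
        rw [(QuotientGroup.eq_one_iff _).2 n.2, QuotientGroup.mk_one]
      have hβd : p ∣ Cfsg.charDegree (β : G → ℂ) := by
        refine (?_ : Cfsg.charDegree (β : G → ℂ) = Cfsg.charDegree (χ : G ⧸ N → ℂ)) ▸ hd
        unfold Cfsg.charDegree
        show ⌊((χ : G ⧸ N → ℂ) (QuotientGroup.mk' N 1)).re⌋₊ = _
        rw [map_one]
      -- a nontrivial character of `N`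
      obtain ⟨θ, hθ⟩ : ∃ θ : Cfsg.IrrCharacter N, θ ≠ principal N := by
        by_contra hall
        push Not at hall
        have h := sum_sq_degree (G := N)
        rw [Fintype.sum_eq_single (principal N) (fun t ht => absurd (hall t) ht)] at h
        change (1 : ℂ) ^ 2 = _ at h
        rw [one_pow] at h
        exact hNne (Subgroup.card_eq_one.1 (Nat.cast_eq_one.1 h.symm))
      have hres : ∀ (f : G → ℂ) (c : ℂ), (∀ n : N, f n = c) →
          Cfsg.classInner (fun n : N => f n) (θ : N → ℂ) = 0 := fun f c hf => by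
        rw [show (fun n : N => f n) = c • fun _ : N => (1 : ℂ) from funext fun n => by simp [hf],
          classInner_smul_left, classInner_irr_of_ne isIrrCharacter_one θ.2
            (fun e => hθ (Subtype.ext e.symm)), mul_zero]
      obtain ⟨χ1, hχ1⟩ := Ito.exists_above N θ
      have hT : inertia N (θ : N → ℂ) = ⊤ := by
        by_contra hT
        exact hχ1 (hres _ _ ((huniq χ1 β (hover θ χ1 hT hχ1) hβd).symm ▸ hβN))
      obtain ⟨ε, hε, hεres⟩ := CoprimeDegree.exists_extension_coprime N hcopN θ.2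
        (fun g => (mem_inertia N).1 (hT ▸ Subgroup.mem_top g))
      have hres' : (fun n : N => ε n) = (θ : N → ℂ) := funext hεres
      have hprod := (gallagher_one N (IsIrrCharacter.isCharacter hε) (hres'.symm ▸ θ.2)).1 β hβN
      have hpd : p ∣ Cfsg.charDegree ((⟨_, hprod⟩ : Cfsg.IrrCharacter G) : G → ℂ) := by
        refine (?_ : Cfsg.charDegree ((β : G → ℂ) * ε) =
          Cfsg.charDegree (β : G → ℂ) * Cfsg.charDegree (θ : N → ℂ)) ▸ dvd_mul_of_dvd_left hβd _
        rw [← Nat.cast_inj (R := ℂ),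
          ← Cfsg.Agent.CharX.irr_deg (⟨_, hprod⟩ : Cfsg.IrrCharacter G), Nat.cast_mul,
          ← Cfsg.Agent.CharX.irr_deg, ← Cfsg.Agent.CharX.irr_deg, ← hεres 1]
        rfl
      have h3 := congrArg (fun f : Cfsg.IrrCharacter G =>
        Cfsg.classInner (fun n : N => (f : G → ℂ) n) (θ : N → ℂ)) (huniq _ β hpd hβd)
      rw [hres _ _ hβN] at h3
      have e : (fun n : N => ((β : G → ℂ) * ε) n) = (β : G → ℂ) 1 • (θ : N → ℂ) :=
        funext fun n => by simp [hβN n, hεres n]
      simp only [e, classInner_smul_left, classInner_self_irr θ.2, mul_one] at h3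
      exact IsIrrCharacter.one_ne_zero β.2 h3
    intro a b
    haveI := Ito.comm_of_all_linear hlin
    rw [← QuotientGroup.eq_one_iff]
    simp only [QuotientGroup.mk_mul, QuotientGroup.mk_inv]
    rw [(IsMulCommutative.is_comm (M := G ⧸ N)).comm (a : G ⧸ N) b]
    group
  -- non-invariant characters have inertia group `N`
  have hTN : ∀ θ : Cfsg.IrrCharacter N, inertia N (θ : N → ℂ) ≠ ⊤ →
      inertia N (θ : N → ℂ) = N := by
    intro θ hT
    let T := inertia N (θ : N → ℂ)
    haveI : Fintype T := Fintype.ofFinite T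
    have hle : N ≤ T :=
      le_inertia N (IsCharacter.isClassFunction (IsIrrCharacter.isCharacter θ.2))
    let N' : Subgroup T := N.subgroupOf T
    let eN : N' ≃* N := Subgroup.subgroupOfEquivOfLe hle
    obtain ⟨ε, hε, hεres⟩ := CoprimeDegree.exists_extension_coprime N'
      (by
        rw [Nat.card_congr eN.toEquiv]
        exact hcopN.coprime_dvd_right (Subgroup.relIndex_dvd_index_of_le hle))
      (θ := fun x => (θ : N → ℂ) (eN x))
      (IsIrrCharacter.comp θ.2 eN.toMonoidHom eN.surjective)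
      (fun g => funext fun n => (congrArg (θ : N → ℂ) (Subtype.ext rfl)).trans
        (congrFun ((mem_inertia N).1 g.2) (eN n)))
    have hres : (fun h : N => ε ⟨(h : G), hle h.2⟩) = (θ : N → ℂ) := funext fun h =>
      (hεres ⟨⟨(h : G), hle h.2⟩, h.2⟩).trans (congrArg (θ : N → ℂ) (Subtype.ext rfl))
    have hne1 : Cfsg.classInner (fun h : N => ε ⟨(h : G), hle h.2⟩) (θ : N → ℂ) ≠ 0 := by
      rw [hres, classInner_self_irr θ.2]; exact one_ne_zero
    obtain ⟨hirr, hmult⟩ := clifford_correspondence N θ.2 rfl hle hε hne1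
    have hm1 : Cfsg.classInner (fun h : N => Cfsg.indFun T ε h) (θ : N → ℂ) = 1 := by
      rw [hmult, hres, classInner_self_irr θ.2]
    let χ1 : Cfsg.IrrCharacter G := ⟨_, hirr⟩
    have hall : ∀ χ : Cfsg.IrrCharacter G,
        Cfsg.classInner (fun n : N => (χ : G → ℂ) n) (θ : N → ℂ) ≠ 0 → χ = χ1 := fun χ hχ =>
      huniq χ χ1 (hover θ χ hT hχ) (hover θ χ1 hT (by
        show Cfsg.classInner (fun h : N => Cfsg.indFun T ε h) (θ : N → ℂ) ≠ 0
        rw [hm1]; exact one_ne_zero))
    have hind := isCharacter_indFun N (IsIrrCharacter.isCharacter θ.2)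
    have hcoef : ∀ χ : Cfsg.IrrCharacter G, Cfsg.classInner (Cfsg.indFun N (θ : N → ℂ)) χ =
        Cfsg.classInner (fun n : N => (χ : G → ℂ) n) (θ : N → ℂ) := fun χ => by
      rw [classInner_indFun_left N _ (IsCharacter.isClassFunction (IsIrrCharacter.isCharacter χ.2)),
        classInner_comm_of_isCharacter (IsIrrCharacter.isCharacter θ.2)
          (IsCharacter.restrict (IsIrrCharacter.isCharacter χ.2) N)]
    have heq : Cfsg.indFun N (θ : N → ℂ) = (χ1 : G → ℂ) := by
      refine (IsCharacter.eq_sum hind).trans ?_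
      rw [Fintype.sum_eq_single χ1 fun χ hχ => by
        rw [hcoef, show Cfsg.classInner (fun n : N => (χ : G → ℂ) n) (θ : N → ℂ) = 0 from
          not_not.1 fun h => hχ (hall χ h), zero_smul]]
      rw [hcoef, show Cfsg.classInner (fun n : N => (χ1 : G → ℂ) n) (θ : N → ℂ) = 1 from hm1,
        one_smul]
    have hnorm := classInner_indFun_normal N θ.2 θ.2
    rw [heq, classInner_self_irr χ1.2] at hnorm
    have hcardT : Nat.card T = Nat.card N := by
      have h1 : (Nat.card {g : G // conjChar N g (θ : N → ℂ) = θ} : ℂ) = (Nat.card T : ℂ) := rfl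
      rw [h1, eq_comm, inv_mul_eq_one₀ (Nat.cast_ne_zero.2 Nat.card_pos.ne'), Nat.cast_inj] at hnorm
      exact hnorm.symm
    exact (Subgroup.eq_of_le_of_card_ge hle hcardT.le).symm
  -- there is a non-invariant character and all of them are conjugate
  obtain ⟨θ0, hθ0⟩ : ∃ θ : Cfsg.IrrCharacter N, inertia N (θ : N → ℂ) ≠ ⊤ := by
    by_contra hall
    push Not at hall
    obtain ⟨θ, hθ⟩ := exists_restrict_constituent χ0.2 N
    have hinv : ∀ g, conjChar N g (θ : N → ℂ) = θ := fun g =>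
      (mem_inertia N).1 (hall θ ▸ Subgroup.mem_top g)
    obtain ⟨ε, hε, hεres⟩ := CoprimeDegree.exists_extension_coprime N hcopN θ.2 hinv
    have hres' : (fun n : N => ε n) = (θ : N → ℂ) := funext hεres
    obtain ⟨β, hβN, hβ⟩ := (gallagher_one N (IsIrrCharacter.isCharacter hε)
      (hres'.symm ▸ θ.2)).2.2 χ0 χ0.2 (by rw [hres']; exact hθ)
    have hβ1 := degree_one_of_commutators β.2 fun a b => hβN ⟨_, hab a b⟩
    refine hθdeg θ ((?_ : Cfsg.charDegree (χ0 : G → ℂ) = Cfsg.charDegree (θ : N → ℂ)) ▸ hχ0)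
    unfold Cfsg.charDegree
    rw [← hβ, Pi.mul_apply, hβ1, one_mul, ← hεres 1]
    rfl
  have hnoninv : Nat.card {θ : Cfsg.IrrCharacter N // inertia N (θ : N → ℂ) ≠ ⊤} = p ^ k := by
    rw [← hk, show N.index = (inertia N (θ0 : N → ℂ)).index from
      (congrArg Subgroup.index (hTN θ0 hθ0)).symm, ← card_conjOrbit, ← Nat.card_eq_finsetCard]
    refine Nat.card_congr (Equiv.ofBijective (fun t => ⟨((t : Cfsg.IrrCharacter N) : N → ℂ), ?_⟩)
      ⟨fun a b h => Subtype.ext (Subtype.ext (Subtype.ext_iff.1 h :)), ?_⟩)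
    · obtain ⟨χa, hχa⟩ := Ito.exists_above N t.1
      obtain ⟨χb, hχb⟩ := Ito.exists_above N θ0
      have e := huniq χa χb (hover _ _ t.2 hχa) (hover _ _ hθ0 hχb)
      subst e
      exact restrict_constituent_conj N χa.2 θ0.2 t.1.2 hχb hχa
    · rintro ⟨φ, hφ⟩
      obtain ⟨g, rfl⟩ := (mem_conjOrbit N).1 hφ
      refine ⟨⟨⟨_, isIrrCharacter_conjChar N θ0.2 g⟩, fun h => hθ0 ?_⟩, rfl⟩
      refine eq_top_iff.2 fun a _ => (mem_inertia N).2 ?_
      have h' : conjChar N (g⁻¹ * a * g) (conjChar N g (θ0 : N → ℂ)) = conjChar N g (θ0 : N → ℂ) :=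
        (mem_inertia N).1 (h ▸ Subgroup.mem_top _)
      rw [← conjChar_mul, show g * (g⁻¹ * a * g) = a * g by group] at h'
      have h4 := congrArg (conjChar N g⁻¹) h'
      rw [← conjChar_mul, ← conjChar_mul, mul_inv_cancel_right, mul_inv_cancel, conjChar_one] at h4
      exact h4
  -- fixed classes
  obtain ⟨P⟩ : Nonempty (Sylow p G) := inferInstance
  have hc := split N hN hk P
  let Pg : Subgroup G := (P : Subgroup G)
  let φ : ∀ R : Subgroup G, R →* MulAut N := fun R => (MulAut.conjNormal (H := N)).comp R.subtype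
  have hcount : ∀ R : Subgroup G, R ≤ Pg → R ≠ ⊥ →
      Nat.card {c : ConjClasses N // IsFixedClass (φ R) c} + p ^ k = Nat.card (ConjClasses N) := by
    intro R hR hR1
    have hRp : IsPGroup p R := P.isPGroup'.to_le hR
    haveI : Group.IsNilpotent R := hRp.isNilpotent
    have hcop : (Nat.card N).Coprime (Nat.card R) := by
      obtain ⟨i, hi⟩ := hRp.exists_card_eq
      rw [hi]; exact hN.pow_right _
    rw [← card_inv_irr _ N R (φ R) rfl inferInstance hcop, ← hnoninv, ← card_irrCharacter (G := N)]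
    have e : ∀ t : Cfsg.IrrCharacter N, IsInv (φ R) (t : N → ℂ) ↔
        ¬ inertia N (t : N → ℂ) ≠ ⊤ := by
      intro t
      rw [not_not]
      constructor
      · intro h
        by_contra hT
        obtain ⟨⟨r, hr⟩, hr1⟩ := Subgroup.ne_bot_iff_exists_ne_one.1 hR1
        refine hr1 (Subtype.ext (Subgroup.disjoint_def.1 hc.disjoint ?_ (hR hr)))
        rw [← hTN t hT]
        exact (mem_inertia N).2 (funext fun n => h ⟨r, hr⟩ n)
      · intro h u n
        exact congrFun ((mem_inertia N).1 (h ▸ Subgroup.mem_top (u : G))) n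
    rw [Nat.card_congr (Equiv.subtypeEquivRight e), ← Nat.card_sum]
    exact Nat.card_congr ((Equiv.sumComm _ _).trans (Equiv.sumCompl _))
  have hfixed : ∀ (n : N) (x : G), x ∈ Pg → x ≠ 1 →
      IsConj (MulAut.conjNormal x n) n → ∀ y ∈ Pg, IsConj (MulAut.conjNormal y n) n := by
    intro n x hx hx1 hfx
    have hle : Subgroup.zpowers x ≤ Pg := Subgroup.zpowers_le.2 hx
    have hPne : Pg ≠ ⊥ := fun h => hx1 (Subgroup.mem_bot.1 (h ▸ hx))
    have h1 := hcount _ hle (Subgroup.zpowers_ne_bot.2 hx1)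
    have h2 := hcount Pg le_rfl hPne
    have hsub : {c : ConjClasses N | IsFixedClass (φ Pg) c} ⊆
        {c : ConjClasses N | IsFixedClass (φ (Subgroup.zpowers x)) c} :=
      fun c hc' u h hh => hc' ⟨(u : G), hle u.2⟩ h hh
    have heq := Set.eq_of_subset_of_ncard_le hsub (by
      show Nat.card {c : ConjClasses N // IsFixedClass (φ (Subgroup.zpowers x)) c} ≤
        Nat.card {c : ConjClasses N // IsFixedClass (φ Pg) c}
      omega) (Set.toFinite _)
    have hmem : ConjClasses.mk n ∈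
        {c : ConjClasses N | IsFixedClass (φ (Subgroup.zpowers x)) c} := by
      refine (isFixedClass_mk _ n).2 fun u => ?_
      obtain ⟨j, hj⟩ := Submonoid.mem_powers_iff _ _ |>.1
        ((isOfFinOrder_of_finite x).mem_powers_iff_mem_zpowers.2 u.2)
      show IsConj (MulAut.conjNormal (u : G) n) n
      rw [← hj]
      clear hj
      induction j with
      | zero => rw [pow_zero, map_one]; rfl
      | succ j ih =>
        rw [pow_succ, map_mul, MulAut.mul_apply]
        exact ((MulAut.conjNormal (x ^ j) : N ≃* N).toMonoidHom.map_isConj hfx).trans ih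
    rw [← heq] at hmem
    exact fun y hy => (isFixedClass_mk _ n).1 hmem ⟨y, hy⟩
  have hmeet : ∀ (n : N) (x : G), x ∈ Pg → x * n = n * x →
      (∀ y ∈ Pg, IsConj (MulAut.conjNormal y n) n) →
      ∃ m ∈ N, m * x = x * m ∧ ∀ y ∈ Pg, y * (m⁻¹ * n * m) = m⁻¹ * n * m * y := by
    intro n x hx hxn hf
    refine meets N hN hk P n.2 hx hxn fun y hy => ?_
    obtain ⟨a, ha⟩ := isConj_iff.1 (hf y hy).symm
    refine ⟨a, a.2, ?_⟩
    have := congrArg Subtype.val ha
    simpa [MulAut.conjNormal_apply] using this.symm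
  -- centralisers of non-trivial elements of `P` in `N` centralise `P`
  have hCD : ∀ x ∈ Pg, x ≠ 1 → ∀ c ∈ N, x * c = c * x → ∀ y ∈ Pg, y * c = c * y := by
    intro x hx hx1 c hc1 hc2
    let C : Subgroup G := N ⊓ Subgroup.centralizer ({x} : Set G)
    let D : Subgroup C := (Subgroup.centralizer (Pg : Set G)).subgroupOf C
    have htop : D = ⊤ := by
      refine Ito.eq_top_of_meets D fun v => ?_
      have hv : x * (v : G) = (v : G) * x :=
        (Subgroup.mem_centralizer_singleton_iff.1 v.2.2).symm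
      have hfx : IsConj (MulAut.conjNormal x (⟨v, v.2.1⟩ : N)) ⟨v, v.2.1⟩ := by
        rw [show MulAut.conjNormal x (⟨v, v.2.1⟩ : N) = ⟨v, v.2.1⟩ from Subtype.ext (by
          show x * (v : G) * x⁻¹ = v
          rw [hv, mul_inv_cancel_right])]
      obtain ⟨m, hm, hmx, hmy⟩ := hmeet ⟨v, v.2.1⟩ x hx hv (hfixed _ x hx hx1 hfx)
      refine ⟨⟨m⁻¹, (inv_mem hm : m⁻¹ ∈ N), Subgroup.mem_centralizer_singleton_iff.2 ?_⟩, ?_⟩
      · calc m⁻¹ * x = m⁻¹ * (x * m) * m⁻¹ := by group
          _ = m⁻¹ * (m * x) * m⁻¹ := by rw [hmx]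
          _ = x * m⁻¹ := by group
      · show m⁻¹ * (v : G) * m⁻¹⁻¹ ∈ Subgroup.centralizer (Pg : Set G)
        rw [inv_inv, Subgroup.mem_centralizer_iff]
        exact hmy
    intro y hy
    have : (⟨c, hc1, Subgroup.mem_centralizer_singleton_iff.2 hc2.symm⟩ : C) ∈ D :=
      htop ▸ Subgroup.mem_top _
    exact Subgroup.mem_centralizer_iff.1 this y hy
  -- singular classes
  have hPab : ∀ a ∈ Pg, ∀ b ∈ Pg, a * b = b * a := by
    intro a ha b hb
    have h1 := Subgroup.disjoint_def.1 hc.disjoint (hab a b)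
      (mul_mem (mul_mem (mul_mem ha hb) (inv_mem ha)) (inv_mem hb))
    rw [mul_inv_eq_one, mul_inv_eq_iff_eq_mul] at h1
    exact h1
  have hnd : ∀ g : G, (∀ y ∈ Pg, y * g = g * y) → ¬ p ∣ Nat.card (ConjClasses.mk g).carrier := by
    intro g hg hdvd
    rw [card_carrier_eq g] at hdvd
    exact P.not_dvd_index (hdvd.trans (Subgroup.index_dvd_of_le fun y hy =>
      Subgroup.mem_centralizer_singleton_iff.2 (hg y hy)))
  have hkpos : 1 ≤ k := by
    rcases Nat.eq_zero_or_pos k with rfl | h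
    · have : N = ⊤ := Subgroup.index_eq_one.1 (by rw [hk, pow_zero])
      refine absurd (eq_top_iff.2 fun a _ => ?_) hθ0
      exact le_inertia N (IsCharacter.isClassFunction (IsIrrCharacter.isCharacter θ0.2))
        (this ▸ Subgroup.mem_top a)
    · exact h
  have hPne : Pg ≠ ⊥ := by
    intro h
    have h1 := P.card_eq_multiplicity
    rw [show (P : Subgroup G) = ⊥ from h, Subgroup.card_bot, card_sylow_eq N hN hk] at h1
    exact hp.out.not_dvd_one (h1 ▸ dvd_pow_self p (by omega))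
  have hsing : ∀ g : G, p ∣ Nat.card (ConjClasses.mk g).carrier →
      ∃ n : N, (n : G) = g ∧ ¬ IsFixedClass (φ Pg) (ConjClasses.mk n) := by
    intro g hg
    obtain ⟨⟨n, x⟩, hnx⟩ := hc.2 g
    by_cases hx1 : (x : G) = 1
    · refine ⟨n, by rw [← hnx]; show (n : G) = n * x; rw [hx1, mul_one], fun hf => ?_⟩
      obtain ⟨m, hm, -, hmy⟩ := hmeet n 1 (one_mem _) (by simp)
        (fun y hy => (isFixedClass_mk _ n).1 hf ⟨y, hy⟩)
      refine hnd _ hmy ?_
      rw [show ConjClasses.mk (m⁻¹ * (n : G) * m) = ConjClasses.mk g from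
        ConjClasses.mk_eq_mk_iff_isConj.2 (isConj_iff.2 ⟨m, by
          rw [← hnx]; show _ = (n : G) * x; rw [hx1]; group⟩)]
      exact hg
    · exfalso
      obtain ⟨i, hi⟩ := P.isPGroup' x
      obtain ⟨z, -, c, hcN, hcx, hzc⟩ := exists_coprime_conj N (g := (x : G))
        (by rw [Subgroup.normalizer_eq_top]; exact Subgroup.mem_top _)
        ((hN.symm.pow_left i).coprime_dvd_left
          (orderOf_dvd_of_pow_eq_one (congrArg Subtype.val hi : (x : G) ^ p ^ i = 1))) n.2
      refine hnd (c * x) (fun y hy => ?_) ?_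
      · rw [← mul_assoc, hCD _ x.2 hx1 c hcN hcx.symm y hy, mul_assoc, hPab y hy _ x.2, mul_assoc]
      · rw [show ConjClasses.mk (c * (x : G)) = ConjClasses.mk g from
          (ConjClasses.mk_eq_mk_iff_isConj.2 (isConj_iff.2 ⟨z, by rw [← hnx]; exact hzc⟩)).symm]
        exact hg
  have hnfcard : Nat.card {c : ConjClasses N // ¬ IsFixedClass (φ Pg) c} = p ^ k := by
    have h := hcount Pg le_rfl hPne
    have h2 : Nat.card {c : ConjClasses N // IsFixedClass (φ Pg) c} +
        Nat.card {c : ConjClasses N // ¬ IsFixedClass (φ Pg) c} = Nat.card (ConjClasses N) := by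
      rw [← Nat.card_sum]
      exact Nat.card_congr (Equiv.sumCompl _)
    omega
  rw [Nat.card_eq_one_iff_unique]
  refine ⟨⟨fun a b => Subtype.ext ?_⟩, ?_⟩
  · obtain ⟨a, ha⟩ := a
    obtain ⟨b, hb⟩ := b
    obtain ⟨ga, rfl⟩ := ConjClasses.mk_surjective a
    obtain ⟨gb, rfl⟩ := ConjClasses.mk_surjective b
    obtain ⟨na, rfl, hna⟩ := hsing ga ha
    obtain ⟨nb, rfl, hnb⟩ := hsing gb hb
    let f : Pg → {c : ConjClasses N // ¬ IsFixedClass (φ Pg) c} := fun y =>
      ⟨ConjClasses.mk (MulAut.conjNormal (y : G) na), fun h => hna ((isFixedClass_mk _ _).2 fun u => by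
        have h1 := (isFixedClass_mk _ _).1 h u
        have h2 := (MulAut.conjNormal ((y : G)⁻¹) : N ≃* N).toMonoidHom.map_isConj h1
        have e1 : MulAut.conjNormal ((y : G)⁻¹) (MulAut.conjNormal (u : G)
            (MulAut.conjNormal (y : G) na)) = MulAut.conjNormal (u : G) na := by
          rw [← MulAut.mul_apply, ← map_mul, ← MulAut.mul_apply, ← map_mul, mul_assoc,
            hPab _ u.2 _ y.2, inv_mul_cancel_left]
        have e2 : MulAut.conjNormal ((y : G)⁻¹) (MulAut.conjNormal (y : G) na) = na := by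
          rw [← MulAut.mul_apply, ← map_mul, inv_mul_cancel, map_one]; rfl
        change IsConj (MulAut.conjNormal ((y : G)⁻¹) (MulAut.conjNormal (u : G)
          (MulAut.conjNormal (y : G) na)))
          (MulAut.conjNormal ((y : G)⁻¹) (MulAut.conjNormal (y : G) na)) at h2
        rw [e1, e2] at h2
        exact h2)⟩
    have hinj : Function.Injective f := by
      intro y y' h
      by_contra hne
      have hconj := ConjClasses.mk_eq_mk_iff_isConj.1 (congrArg Subtype.val h)
      refine hna ((isFixedClass_mk _ _).2 fun u => hfixed na ((y'⁻¹ * y : Pg) : G) (y'⁻¹ * y).2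
        (fun e => hne (inv_mul_eq_one.1 (Subtype.ext e)).symm) ?_ u u.2)
      have h2 := (MulAut.conjNormal ((y' : G)⁻¹) : N ≃* N).toMonoidHom.map_isConj hconj
      have e1 : MulAut.conjNormal ((y' : G)⁻¹) (MulAut.conjNormal (y : G) na) =
          MulAut.conjNormal (((y'⁻¹ * y : Pg)) : G) na := by
        rw [← MulAut.mul_apply, ← map_mul]; rfl
      have e2 : MulAut.conjNormal ((y' : G)⁻¹) (MulAut.conjNormal (y' : G) na) = na := by
        rw [← MulAut.mul_apply, ← map_mul, inv_mul_cancel, map_one]; rfl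
      change IsConj (MulAut.conjNormal ((y' : G)⁻¹) (MulAut.conjNormal (y : G) na))
        (MulAut.conjNormal ((y' : G)⁻¹) (MulAut.conjNormal (y' : G) na)) at h2
      rw [e1, e2] at h2
      exact h2
    have hbij : Function.Bijective f := by
      refine hinj.bijective_of_nat_card_le ?_
      rw [hnfcard, ← card_sylow_eq N hN hk, ← P.card_eq_multiplicity]
    obtain ⟨y, hy⟩ := hbij.2 ⟨ConjClasses.mk nb, hnb⟩
    have h1 := ConjClasses.mk_eq_mk_iff_isConj.1 (congrArg Subtype.val hy)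
    have h2 : IsConj ((MulAut.conjNormal (y : G) na : N) : G) (nb : G) := N.subtype.map_isConj h1
    rw [MulAut.conjNormal_apply] at h2
    exact ConjClasses.mk_eq_mk_iff_isConj.2 ((isConj_iff.2 ⟨(y : G), rfl⟩).trans h2)
  · obtain ⟨⟨c, hcnf⟩⟩ : Nonempty {c : ConjClasses N // ¬ IsFixedClass (φ Pg) c} :=
      (Nat.card_pos_iff.1 (by rw [hnfcard]; exact pow_pos hp.out.pos _)).1
    obtain ⟨n, rfl⟩ := ConjClasses.mk_surjective c
    refine ⟨⟨ConjClasses.mk (n : G), ?_⟩⟩
    by_contra hnd'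
    rw [card_carrier_eq] at hnd'
    obtain ⟨S⟩ : Nonempty (Sylow p (Subgroup.centralizer ({(n : G)} : Set G))) := inferInstance
    have hcard : Nat.card ((S : Subgroup (Subgroup.centralizer ({(n : G)} : Set G))).map
        (Subgroup.centralizer ({(n : G)} : Set G)).subtype) = p ^ (Nat.card G).factorization p := by
      rw [Subgroup.card_map_of_injective (Subgroup.subtype_injective _), S.card_eq_multiplicity,
        ← (Subgroup.centralizer ({(n : G)} : Set G)).card_mul_index,
        Nat.factorization_mul Nat.card_pos.ne' Subgroup.index_ne_zero_of_finite, Finsupp.add_apply,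
        Nat.factorization_eq_zero_of_not_dvd hnd', add_zero]
    obtain ⟨h, hh⟩ := MulAction.exists_smul_eq G P (Sylow.ofCard _ hcard)
    obtain ⟨⟨m, z⟩, hmz⟩ := hc.2 h
    refine hcnf ((isFixedClass_mk _ n).2 fun y => ?_)
    have h1 : h * ((z : G)⁻¹ * y * z) * h⁻¹ ∈ ((h • P : Sylow p G) : Subgroup G) := by
      rw [Sylow.coe_subgroup_smul]
      exact ⟨_, mul_mem (mul_mem (inv_mem z.2) y.2) z.2, rfl⟩
    rw [hh, ← show (m : G) * (z : G) = h from hmz,
      show (m : G) * (z : G) * ((z : G)⁻¹ * y * z) * ((m : G) * (z : G))⁻¹ =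
        (m : G) * y * (m : G)⁻¹ by group] at h1
    obtain ⟨w, -, hw⟩ := h1
    have h3 : (m : G) * (y : G) * (m : G)⁻¹ * n = n * ((m : G) * (y : G) * (m : G)⁻¹) := by
      rw [← hw]; exact Subgroup.mem_centralizer_singleton_iff.1 w.2
    refine isConj_iff.2 ⟨⟨(m : G) * ((y : G) * (m : G)⁻¹ * (y : G)⁻¹),
      mul_mem m.2 (hNn.conj_mem _ (inv_mem m.2) y)⟩, Subtype.ext ?_⟩
    show (m : G) * ((y : G) * (m : G)⁻¹ * (y : G)⁻¹) * (MulAut.conjNormal (y : G) n : G) *
      ((m : G) * ((y : G) * (m : G)⁻¹ * (y : G)⁻¹))⁻¹ = n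
    rw [MulAut.conjNormal_apply]
    calc _ = (m : G) * y * (m : G)⁻¹ * n * ((m : G) * y * (m : G)⁻¹)⁻¹ := by group
      _ = _ := by rw [h3, mul_inv_cancel_right]

/-- Let p be a prime and G a finite group that is not nilpotent and has a normal p-complement (a normal subgroup of order prime to p and index a power of p). If G has exactly one irreducible complex character of degree divisible by p, then G has exactly one conjugacy class whose size is divisible by p. -/
theorem result {G : Type*} [Group G] [Finite G] (p : ℕ) [Fact p.Prime] (hnil : ¬ Group.IsNilpotent G) (N : Subgroup G) [N.Normal] (hN : (Nat.card N).Coprime p) (hidx : ∃ k : ℕ, N.index = p ^ k) (hone : Nat.card {χ : Cfsg.IrrCharacter G // p ∣ Cfsg.charDegree (χ : G → ℂ)} = 1) : Nat.card {C : ConjClasses G // p ∣ Nat.card C.carrier} = 1 := by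
  haveI : Fintype G := Fintype.ofFinite G
  haveI : Fintype N := Fintype.ofFinite N
  obtain ⟨k, hk⟩ := hidx
  exact main N hnil hN hk hone

end Cfsg.Agent.S4763
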