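import Cfsg.Statements.S4765
import Cfsg.Agent.Lib.Classical.SL2TableValues
import Cfsg.Agent.Lib.Char.Degree

set_option autoImplicit false
set_option linter.style.haveILetI false
open Cfsg

namespace Cfsg.Agent.S4765

open Cfsg.Agent.Char Cfsg.Agent.CharTools Cfsg.Agent.SL2Principal Cfsg.Agent.SL2Tori
  Cfsg.Agent.SL2Cuspidal Cfsg.Agent.SL2Table Cfsg.Agent.SL2TableValues

/-- Let F be a finite field of characteristic p with at least 4 elements. Then PSL(2,F) has exactly one irreducible complex character of degree divisible by p, and its degree is the order of F. -/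
theorem result (p : ℕ) [Fact p.Prime] (F : Type*) [Field F] [Fintype F] [CharP F p] (hF : 4 ≤ Fintype.card F) : Nat.card {χ : Cfsg.IrrCharacter (Matrix.ProjectiveSpecialLinearGroup (Fin 2) F) // p ∣ Cfsg.charDegree (χ : Matrix.ProjectiveSpecialLinearGroup (Fin 2) F → ℂ)} = 1 ∧ ∀ χ : Cfsg.IrrCharacter (Matrix.ProjectiveSpecialLinearGroup (Fin 2) F), p ∣ Cfsg.charDegree (χ : Matrix.ProjectiveSpecialLinearGroup (Fin 2) F → ℂ) → Cfsg.charDegree (χ : Matrix.ProjectiveSpecialLinearGroup (Fin 2) F → ℂ) = Fintype.card F := by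
  classical
  have hp : p.Prime := Fact.out
  obtain ⟨n, -, hn⟩ := FiniteField.card F p
  have hpq : p ∣ Fintype.card F := hn ▸ dvd_pow_self p n.pos.ne'
  obtain ⟨g₀, hg₀⟩ := exists_noEigen (F := F)
  let Z := Subgroup.center (Matrix.SpecialLinearGroup (Fin 2) F)
  let π := QuotientGroup.mk' Z
  have key : ∀ χ : Cfsg.IrrCharacter (Matrix.ProjectiveSpecialLinearGroup (Fin 2) F),
      p ∣ Cfsg.charDegree (χ : Matrix.ProjectiveSpecialLinearGroup (Fin 2) F → ℂ) →
      Cfsg.charDegree (χ : Matrix.ProjectiveSpecialLinearGroup (Fin 2) F → ℂ) = Fintype.card F ∧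
      (fun g => (χ : Matrix.ProjectiveSpecialLinearGroup (Fin 2) F → ℂ) (π g)) = St := by
    intro χ hd
    have hirr : Cfsg.IsIrrCharacter (Matrix.SpecialLinearGroup (Fin 2) F)
        (fun g => (χ : Matrix.ProjectiveSpecialLinearGroup (Fin 2) F → ℂ) (π g)) :=
      IsIrrCharacter.comp χ.2 π (QuotientGroup.mk'_surjective Z)
    have hval : ∀ m : ℕ, (χ : Matrix.ProjectiveSpecialLinearGroup (Fin 2) F → ℂ) (π 1) = (m : ℂ) →
        Cfsg.charDegree (χ : Matrix.ProjectiveSpecialLinearGroup (Fin 2) F → ℂ) = m := by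
      intro m hm
      rw [map_one, Cfsg.Agent.CharX.irr_deg] at hm
      exact_mod_cast hm
    have hone : Cfsg.charDegree (χ : Matrix.ProjectiveSpecialLinearGroup (Fin 2) F → ℂ) ≠ 1 :=
      fun h => hp.not_dvd_one (h ▸ hd)
    have hadd : ¬ p ∣ Fintype.card F + 1 := fun h =>
      hp.not_dvd_one ((Nat.dvd_add_right hpq).1 h)
    have hsub : ¬ p ∣ Fintype.card F - 1 := fun h =>
      hp.not_dvd_one (by
        have := Nat.dvd_sub hpq h
        rwa [show Fintype.card F - (Fintype.card F - 1) = 1 by omega] at this)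
    rcases Nat.even_or_odd (Fintype.card F) with h2 | hodd
    · rcases cases_even hg₀ h2 hirr with ⟨hdd, -⟩ | ⟨hdd, e⟩ | ⟨hdd, -⟩ | ⟨hdd, -⟩
      · exact absurd (hval 1 hdd) hone
      · exact ⟨hval _ hdd, e⟩
      · exact absurd (hval _ hdd ▸ hd) hadd
      · exact absurd (hval _ hdd ▸ hd) hsub
    · obtain ⟨ν, -, hcls⟩ := exists_classes hodd
      obtain ⟨d⟩ := exists_oddData hodd hg₀ hcls
      have ha : (Fintype.card F + 1) / 2 ∣ Fintype.card F + 1 :=
        Nat.div_dvd_of_dvd (even_iff_two_dvd.1 (hodd.add_one))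
      have hb : (Fintype.card F - 1) / 2 ∣ Fintype.card F - 1 :=
        Nat.div_dvd_of_dvd (even_iff_two_dvd.1 (Nat.Odd.sub_odd hodd odd_one))
      rcases cases_odd d hg₀ hirr with
        ⟨hdd, -⟩ | ⟨hdd, e⟩ | ⟨hdd, -⟩ | ⟨hdd, -⟩ | ⟨hdd, -⟩ | ⟨hdd, -⟩
      · exact absurd (hval 1 hdd) hone
      · exact ⟨hval _ hdd, e⟩
      · exact absurd (hval _ hdd ▸ hd) hadd
      · exact absurd (hval _ hdd ▸ hd) hsub
      · exact absurd ((hval _ hdd ▸ hd).trans ha) hadd
      · exact absurd ((hval _ hdd ▸ hd).trans hb) hsub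
  refine ⟨?_, fun χ hχ => (key χ hχ).1⟩
  -- the Steinberg character lives on the quotient
  have hSt : ∀ z ∈ Z, (St (F := F)) z = (St (F := F)) 1 := by
    intro z hz
    obtain ⟨a, ha, rfl⟩ := exists_sm_scalar (isScalar_of_mem_center hz)
    rw [St_one]
    simp only [St, Pi.sub_apply, R_scalar (1 : MulChar F ℂ) ha,
      MulChar.one_apply_coe]
    ring
  obtain ⟨χ', -, hval', hirr'⟩ := IsCharacter.deflate (IsIrrCharacter.isCharacter St_irr) Z hSt
  let χ0 : Cfsg.IrrCharacter (Matrix.ProjectiveSpecialLinearGroup (Fin 2) F) := ⟨χ', hirr' St_irr⟩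
  have h0 : Cfsg.charDegree (χ0 : Matrix.ProjectiveSpecialLinearGroup (Fin 2) F → ℂ) =
      Fintype.card F := by
    rw [← Nat.cast_inj (R := ℂ), ← Cfsg.Agent.CharX.irr_deg, ← St_one (F := F), ← hval' 1]
    rfl
  rw [Nat.card_eq_one_iff_unique]
  refine ⟨⟨fun a b => Subtype.ext (Subtype.ext (funext fun x => ?_))⟩, ⟨⟨χ0, by rw [h0]; exact hpq⟩⟩⟩
  obtain ⟨g, rfl⟩ := QuotientGroup.mk'_surjective Z x
  exact (congrFun (key a.1 a.2).2 g).trans (congrFun (key b.1 b.2).2 g).symm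

end Cfsg.Agent.S4765
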