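import Cfsg.Statements.S4768
import Cfsg.Agent.Lib.Char.ItoPSolvable
import Cfsg.Agent.Lib.Char.Gallagher
import Cfsg.Agent.Lib.Char.ExtensionChar
import Cfsg.Agent.Lib.Solvable.Fitting

set_option autoImplicit false
set_option linter.style.haveILetI false
open Cfsg

namespace Cfsg.Agent.S4768

open Cfsg.Agent.Char

universe u

theorem quotient_abelian {G : Type u} [Group G] [Finite G] {p : ℕ} [hp : Fact p.Prime]
    (hG : Cfsg.IsPSolvable p G) (N : Subgroup G) [N.Normal] (hN : IsMulCommutative N)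
    (hNp : IsPGroup p N) (hne : N ≠ ⊥)
    (hdeg : ∀ χ : Cfsg.IrrCharacter G, p ∣ Cfsg.charDegree (χ : G → ℂ) →
      ∀ x ∈ N, (χ : G → ℂ) x = (χ : G → ℂ) 1) (P : Sylow p G) :
    ∀ a ∈ (P : Subgroup G), ∀ b ∈ (P : Subgroup G), a * b * a⁻¹ * b⁻¹ ∈ N := by
  classical
  haveI : Fintype G := Fintype.ofFinite G
  haveI : Fintype N := Fintype.ofFinite N
  letI : CommGroup N := { (inferInstance : Group N) with mul_comm := hN.is_comm.comm }
  obtain ⟨⟨z, hz⟩, hz1⟩ := Subgroup.ne_bot_iff_exists_ne_one.1 hne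
  obtain ⟨f, hf⟩ := CommGroup.exists_apply_ne_one_of_hasEnoughRootsOfUnity N ℂ hz1
  let θ : N → ℂ := fun x => (f x : ℂ)
  have hθ : Cfsg.IsIrrCharacter N θ := isIrrCharacter_linear f
  let T : Subgroup G := inertia N θ
  haveI : Fintype T := Fintype.ofFinite T
  have hNT : N ≤ T := le_inertia N (IsCharacter.isClassFunction (IsIrrCharacter.isCharacter hθ))
  -- characters over `θ` have degree prime to `p`
  have hover : ∀ χ : Cfsg.IrrCharacter G,
      Cfsg.classInner (fun x : N => (χ : G → ℂ) x) θ ≠ 0 →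
      ¬ p ∣ Cfsg.charDegree (χ : G → ℂ) := by
    intro χ hχ hd
    refine hχ ?_
    have e : (fun x : N => (χ : G → ℂ) x) = (χ : G → ℂ) 1 • fun _ : N => (1 : ℂ) :=
      funext fun x => by simp [hdeg χ hd x x.2]
    have hne1 : (fun _ : N => (1 : ℂ)) ≠ θ := fun e =>
      hf (Units.ext (congrFun e ⟨z, hz⟩).symm)
    rw [e, classInner_smul_left, classInner_irr_of_ne isIrrCharacter_one hθ hne1, mul_zero]
  obtain ⟨χ, hχ⟩ := Ito.exists_above N ⟨θ, hθ⟩
  obtain ⟨ψ, hψ, hind, hmult⟩ := clifford_correspondence_surjective N hθ rfl hNT χ.2 hχ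
  obtain ⟨d, hd⟩ := IsCharacter.exists_degree (IsIrrCharacter.isCharacter hψ)
  have hχd : Cfsg.charDegree (χ : G → ℂ) = T.index * d := by
    rw [← Nat.cast_inj (R := ℂ), ← Cfsg.Agent.CharX.irr_deg, ← hind, indFun_one_apply, hd,
      Nat.cast_mul]
  have hTp : ¬ p ∣ T.index := fun h => hover χ hχ (hχd ▸ dvd_mul_of_dvd_left h d)
  have hdp : ¬ p ∣ d := fun h => hover χ hχ (hχd ▸ dvd_mul_of_dvd_right h _)
  -- the situation in `T`
  let N' : Subgroup T := N.subgroupOf T
  haveI : Fintype N' := Fintype.ofFinite N'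
  let eN : N' ≃* N := Subgroup.subgroupOfEquivOfLe hNT
  let f' : N' →* ℂˣ := f.comp eN.toMonoidHom
  let θ' : N' → ℂ := fun x => (f' x : ℂ)
  have hθ' : Cfsg.IsIrrCharacter N' θ' := isIrrCharacter_linear f'
  have hinv : ∀ (t : T) (x : N'), f' (conjHom N' t x) = f' x := fun t x =>
    Units.ext ((mem_inertia_iff N).1 t.2 (eN x))
  have hinner : ∀ φ : T → ℂ, Cfsg.classInner (fun x : N' => φ x) θ' =
      Cfsg.classInner (fun x : N => φ ⟨(x : G), hNT x.2⟩) θ := fun φ => by
    unfold Cfsg.classInner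
    rw [Nat.card_congr eN.toEquiv]
    congr 1
    exact Fintype.sum_equiv eN.toEquiv _ _ fun x => rfl
  have hψθ : Cfsg.classInner (fun x : N' => ψ x) θ' ≠ 0 := by rw [hinner, hmult]; exact hχ
  have hψres : (fun x : N' => ψ x) = Cfsg.classInner (fun x : N' => ψ x) θ' • θ' := by
    have h1 := clifford N' hψ hθ' hψθ
    have h2 : conjOrbit N' θ' = {θ'} := by
      refine Finset.eq_singleton_iff_unique_mem.2 ⟨(mem_conjOrbit N').2 ⟨1, (conjChar_one N' θ').symm⟩, ?_⟩
      intro φ hφ
      obtain ⟨t, rfl⟩ := (mem_conjOrbit N').1 hφ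
      exact funext fun x => congrArg Units.val (hinv t x)
    rw [h2, Finset.sum_singleton] at h1
    exact h1
  have hext : ∃ χ₀ : T → ℂ, Cfsg.IsIrrCharacter T χ₀ ∧ ∀ x : N', χ₀ x = θ' x := by
    refine Cfsg.Agent.CharExtend.exists_extension_sylow hθ'
      (fun t x => congrArg Units.val (hinv t x)) fun q hq => ?_
    haveI := Fact.mk hq
    obtain ⟨Q⟩ : Nonempty (Sylow q T) := inferInstance
    refine ⟨(Q : Subgroup T) ⊔ N', le_sup_right, ?_⟩
    have hcopQ : Nat.Coprime ((Q : Subgroup T) ⊔ N').index q := by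
      refine ((hq.coprime_iff_not_dvd).2 fun h => ?_).symm
      exact Q.not_dvd_index (h.trans (Subgroup.index_dvd_of_le le_sup_left))
    by_cases hqp : q = p
    · subst hqp
      have hN'p : IsPGroup q N' := hNp.of_equiv eN.symm
      have hle : N' ≤ (Q : Subgroup T) :=
        (Cfsg.Agent.PBasic.le_pCore inferInstance hN'p).trans (Cfsg.Agent.PBasic.pCore_le_sylow Q)
      have hQeq : (Q : Subgroup T) ⊔ N' = (Q : Subgroup T) := sup_eq_left.2 hle
      let R : Subgroup T := (Q : Subgroup T) ⊔ N'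
      haveI : Fintype R := Fintype.ofFinite R
      have hRp : IsPGroup q R := by
        show IsPGroup q ((Q : Subgroup T) ⊔ N' : Subgroup T)
        rw [hQeq]; exact Q.isPGroup'
      have hψR := IsCharacter.restrict (IsIrrCharacter.isCharacter hψ) R
      choose a ha using fun l : Cfsg.IrrCharacter R =>
        IsCharacter.exists_classInner_nat hψR (IsIrrCharacter.isCharacter l.2)
      obtain ⟨l, hl1, hla⟩ : ∃ l : Cfsg.IrrCharacter R,
          Cfsg.charDegree (l : R → ℂ) = 1 ∧ a l ≠ 0 := by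
        by_contra hnone
        push Not at hnone
        refine hdp ?_
        have h1 := congrFun (IsCharacter.eq_sum hψR) 1
        simp only [Finset.sum_apply, Pi.smul_apply, smul_eq_mul, ha,
          Cfsg.Agent.CharX.irr_deg, OneMemClass.coe_one, hd, ← Nat.cast_mul, ← Nat.cast_sum,
          Nat.cast_inj] at h1
        rw [h1]
        refine Finset.dvd_sum fun l _ => ?_
        obtain ⟨k, hk⟩ := IsPGroup.iff_card.1 hRp
        obtain ⟨j, -, hj⟩ :=
          (Nat.dvd_prime_pow hq).1 (hk ▸ Cfsg.Agent.CharX.irr_deg_dvd_card l)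
        rcases j with - | j
        · rw [hnone l (by rw [hj, pow_zero]), zero_mul]; exact dvd_zero _
        · exact Dvd.dvd.mul_left (hj ▸ dvd_pow_self q (Nat.succ_ne_zero j)) _
      refine ⟨(l : R → ℂ), hcopQ, IsIrrCharacter.isCharacter l.2, fun x => ?_⟩
      obtain ⟨g, hg⟩ := exists_hom_of_degree_one (IsIrrCharacter.isCharacter l.2)
        (by rw [Cfsg.Agent.CharX.irr_deg, hl1, Nat.cast_one])
      let μ : N' →* ℂˣ := g.comp (Subgroup.inclusion (le_sup_right : N' ≤ R))
      have hμ : (fun y : N' => (μ y : ℂ)) = θ' := by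
        by_contra hμne
        have h0 : Cfsg.classInner (fun y : N' => ψ y) (fun y => (μ y : ℂ)) = 0 := by
          rw [hψres, classInner_smul_left,
            classInner_irr_of_ne hθ' (isIrrCharacter_linear μ) (Ne.symm hμne), mul_zero]
        choose b hb using fun m : Cfsg.IrrCharacter R => IsCharacter.exists_classInner_nat
          (IsCharacter.comp (IsIrrCharacter.isCharacter m.2)
            (Subgroup.inclusion (le_sup_right : N' ≤ R)))
          (IsIrrCharacter.isCharacter (isIrrCharacter_linear μ))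
        have e : (fun y : N' => ψ y) = ∑ m : Cfsg.IrrCharacter R, (a m : ℂ) •
            fun y : N' => (m : R → ℂ) (Subgroup.inclusion (le_sup_right : N' ≤ R) y) := by
          funext y
          have := congrFun (IsCharacter.eq_sum hψR) (Subgroup.inclusion le_sup_right y)
          simp only [Finset.sum_apply, Pi.smul_apply, ha] at this ⊢
          exact this
        rw [e, classInner_sum_left] at h0
        simp only [classInner_smul_left, hb, ← Nat.cast_mul, ← Nat.cast_sum, Nat.cast_eq_zero] at h0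
        refine mul_ne_zero hla ?_ (Finset.sum_eq_zero_iff.1 h0 l (Finset.mem_univ _))
        intro hb0
        have := hb l
        rw [hb0, Nat.cast_zero, show (fun y : N' => (l : R → ℂ)
          (Subgroup.inclusion (le_sup_right : N' ≤ R) y)) = fun y => (μ y : ℂ) from
            funext fun y => congrFun hg _] at this
        exact one_ne_zero ((classInner_self_irr (isIrrCharacter_linear μ)).symm.trans this)
      rw [← congrFun hμ x]
      exact congrFun hg _
    · let R : Subgroup T := (Q : Subgroup T) ⊔ N'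
      haveI : Fintype R := Fintype.ofFinite R
      let N'' : Subgroup R := N'.subgroupOf R
      let e'' : N'' ≃* N' := Subgroup.subgroupOfEquivOfLe le_sup_right
      have hidx : ∃ j, N''.index = q ^ j := by
        obtain ⟨i, hi⟩ := IsPGroup.iff_card.1 Q.isPGroup'
        obtain ⟨j, -, hj⟩ := (Nat.dvd_prime_pow hq).1 (show N'.relIndex R ∣ q ^ i by
          rw [Subgroup.relIndex_sup_right (Q : Subgroup T) N', ← hi]
          exact Subgroup.relIndex_dvd_card _ _)
        exact ⟨j, hj⟩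
      obtain ⟨j, hj⟩ := hidx
      have hord : Nat.Coprime N''.index (orderOf (f'.comp e''.toMonoidHom)) := by
        obtain ⟨i, hi⟩ := IsPGroup.iff_card.1 hNp
        rw [hj]
        refine Nat.Coprime.coprime_dvd_right (k := q ^ j) ?_
          (((Nat.coprime_primes hq hp.out).2 hqp).pow j i)
        refine orderOf_dvd_of_pow_eq_one (MonoidHom.ext fun x => ?_)
        rw [MonoidHom.pow_apply, ← map_pow, MonoidHom.one_apply, ← hi,
          ← Nat.card_congr (e''.trans eN).toEquiv, pow_card_eq_one', map_one]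
      obtain ⟨μ, hμ, -⟩ := Cfsg.Agent.CharExtend.exists_linear_extension (N := N'')
        (f'.comp e''.toMonoidHom) (fun t x => hinv (t : T) (e'' x)) hord
      refine ⟨fun r => (μ r : ℂ), hcopQ, IsIrrCharacter.isCharacter (isIrrCharacter_linear μ),
        fun x => ?_⟩
      exact congrArg Units.val ((hμ (e''.symm x)).trans (congrArg f' (e''.apply_symm_apply x)))
  obtain ⟨χ₀, hχ₀, hχ₀r⟩ := hext
  obtain ⟨g1, -, -⟩ := gallagher_one N' (χ := χ₀) (IsIrrCharacter.isCharacter hχ₀)
    (by rw [show (fun x : N' => χ₀ x) = θ' from funext hχ₀r]; exact hθ')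
  -- every character of the quotient has degree prime to `p`
  have hall : ∀ β : Cfsg.IrrCharacter (T ⧸ N'), ¬ p ∣ Cfsg.charDegree (β : T ⧸ N' → ℂ) := by
    intro β hβ
    have hirr := g1 (Cfsg.Agent.CharX.infl N' β) fun x => Cfsg.Agent.CharX.infl_trivialOn N' β x x.2
    obtain ⟨φ, hφdef⟩ : ∃ φ, φ = (Cfsg.Agent.CharX.infl N' β : T → ℂ) * χ₀ := ⟨_, rfl⟩
    rw [← hφdef] at hirr
    have hφres : Cfsg.classInner (fun x : N' => φ x) θ' ≠ 0 := by
      rw [show (fun x : N' => φ x) = (Cfsg.Agent.CharX.infl N' β : T → ℂ) 1 • θ' from funext fun x => by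
        rw [hφdef, Pi.mul_apply, hχ₀r, Cfsg.Agent.CharX.infl_trivialOn N' β x x.2]; rfl,
        classInner_smul_left, classInner_self_irr hθ', mul_one]
      exact IsIrrCharacter.one_ne_zero (Cfsg.Agent.CharX.infl N' β).2
    rw [hinner] at hφres
    obtain ⟨hΦ, hΦm⟩ := clifford_correspondence N hθ rfl hNT hirr hφres
    refine hover ⟨_, hΦ⟩ (ne_of_eq_of_ne hΦm hφres) ?_
    have h1 : φ 1 = (Cfsg.charDegree (β : T ⧸ N' → ℂ) : ℂ) := by
      have h2 := hχ₀r 1
      rw [show θ' 1 = 1 by simp [θ'], OneMemClass.coe_one] at h2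
      rw [hφdef, Pi.mul_apply, h2, mul_one, Cfsg.Agent.CharX.infl_apply, QuotientGroup.mk_one,
        Cfsg.Agent.CharX.irr_deg]
    have h3 : Cfsg.charDegree (Cfsg.indFun T φ) = T.index * Cfsg.charDegree (β : T ⧸ N' → ℂ) := by
      rw [← Nat.cast_inj (R := ℂ), ← Cfsg.Agent.CharX.irr_deg ⟨_, hΦ⟩]
      show Cfsg.indFun T φ 1 = _
      rw [indFun_one_apply, h1, Nat.cast_mul]
    exact h3 ▸ dvd_mul_of_dvd_right hβ _
  -- a Sylow subgroup of `T`
  obtain ⟨S⟩ : Nonempty (Sylow p T) := inferInstance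
  have hSab := (Ito.converse _ (T ⧸ N') p rfl
    (Cfsg.Agent.PSolvable.quotient N' (Cfsg.Agent.PSolvable.subgroup T hG)) hall
    (S.mapSurjective (QuotientGroup.mk'_surjective N'))).2
  have hScomm : ∀ a b : T, a ∈ (S : Subgroup T) → b ∈ (S : Subgroup T) →
      (a : G) * b * (a : G)⁻¹ * (b : G)⁻¹ ∈ N := by
    intro a b ha hb
    have h1 := congrArg Subtype.val (hSab.is_comm.comm
      (⟨_, ⟨a, ha, rfl⟩⟩ : (S.mapSurjective (QuotientGroup.mk'_surjective N') : Subgroup (T ⧸ N')))
      ⟨_, ⟨b, hb, rfl⟩⟩)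
    change (a : T ⧸ N') * (b : T ⧸ N') = (b : T ⧸ N') * (a : T ⧸ N') at h1
    have h2 : ((a * b * a⁻¹ * b⁻¹ : T) : T ⧸ N') = 1 := by
      simp only [QuotientGroup.mk_mul, QuotientGroup.mk_inv]
      rw [h1]; group
    have h4 := (QuotientGroup.eq_one_iff (N := N') (a * b * a⁻¹ * b⁻¹)).1 h2
    simpa [N', Subgroup.mem_subgroupOf] using h4
  have hScard : Nat.card ((S : Subgroup T).map T.subtype) = p ^ (Nat.card G).factorization p := by
    rw [Subgroup.card_map_of_injective T.subtype_injective, S.card_eq_multiplicity,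
      ← T.card_mul_index, Nat.factorization_mul Nat.card_pos.ne' Subgroup.index_ne_zero_of_finite,
      Finsupp.add_apply, Nat.factorization_eq_zero_of_not_dvd hTp, add_zero]
  obtain ⟨g, hg⟩ := MulAction.exists_smul_eq G (Sylow.ofCard _ hScard) P
  intro a ha b hb
  rw [← hg] at ha hb
  obtain ⟨a', ha', rfl⟩ := Subgroup.mem_map.1 ha
  obtain ⟨b', hb', rfl⟩ := Subgroup.mem_map.1 hb
  obtain ⟨a'', ha'', rfl⟩ := Subgroup.mem_map.1 ha'
  obtain ⟨b'', hb'', rfl⟩ := Subgroup.mem_map.1 hb'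
  show g * (a'' : G) * g⁻¹ * (g * (b'' : G) * g⁻¹) * (g * (a'' : G) * g⁻¹)⁻¹ *
    (g * (b'' : G) * g⁻¹)⁻¹ ∈ N
  have h3 := (inferInstance : N.Normal).conj_mem _ (hScomm a'' b'' ha'' hb'') g
  convert h3 using 1
  group

theorem derived_succ_eq_bot {P : Type u} [Group P] (K : Subgroup P) (hK : IsMulCommutative K)
    (j : ℕ) (h : derivedSeries P j ≤ K) : derivedSeries P (j + 1) = ⊥ := by
  rw [derivedSeries_succ, Subgroup.commutator_eq_bot_iff_le_centralizer]
  intro x hx
  rw [Subgroup.mem_centralizer_iff]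
  exact fun y hy => congrArg Subtype.val (hK.is_comm.comm (⟨y, h hy⟩ : K) ⟨x, h hx⟩)

theorem main (n : ℕ) : ∀ (G : Type u) [Group G] [Finite G] (p : ℕ) [Fact p.Prime],
    Nat.card G = n → Cfsg.IsPSolvable p G → ∀ P : Sylow p G,
    derivedSeries ↥(P : Subgroup G)
      (Nat.card {χ : Cfsg.IrrCharacter G // p ∣ Cfsg.charDegree (χ : G → ℂ)} + 1) = ⊥ := by
  induction n using Nat.strong_induction_on with
  | _ n ih => ?_
  intro G _ _ p _ hn hG P
  classical
  have hp : p.Prime := Fact.out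
  haveI : Fintype G := Fintype.ofFinite G
  obtain ⟨k, hk⟩ : ∃ k, k = Nat.card {χ : Cfsg.IrrCharacter G // p ∣ Cfsg.charDegree (χ : G → ℂ)} :=
    ⟨_, rfl⟩
  rw [← hk]
  rcases Nat.eq_zero_or_pos k with hk0 | hk0
  · subst hk0
    have hall : ∀ χ : Cfsg.IrrCharacter G, ¬ p ∣ Cfsg.charDegree (χ : G → ℂ) := fun χ h => by
      have : 0 < Nat.card {χ : Cfsg.IrrCharacter G // p ∣ Cfsg.charDegree (χ : G → ℂ)} :=
        Nat.card_pos_iff.2 ⟨⟨⟨χ, h⟩⟩, inferInstance⟩
      omega
    have hab := (Ito.converse _ G p rfl hG hall P).2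
    refine derived_succ_eq_bot ⊤ ⟨⟨fun a b => Subtype.ext (hab.is_comm.comm a.1 b.1)⟩⟩ 0 le_top
  haveI : Nontrivial G := by
    by_contra hsub
    rw [not_nontrivial_iff_subsingleton] at hsub
    obtain ⟨⟨χ, hχ⟩⟩ := (Nat.card_pos_iff.1 (hk ▸ hk0)).1
    have := Cfsg.Agent.CharX.irr_deg_dvd_card χ
    rw [Nat.card_unique, Nat.dvd_one] at this
    rw [this] at hχ
    exact hp.ne_one (Nat.dvd_one.1 hχ)
  have key : ∀ (N : Subgroup G) [N.Normal], N ≠ ⊥ →
      ∃ k' ≤ k, (k' = k → ∀ χ : Cfsg.IrrCharacter G, p ∣ Cfsg.charDegree (χ : G → ℂ) →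
          ∀ x ∈ N, (χ : G → ℂ) x = (χ : G → ℂ) 1) ∧
        derivedSeries ↥(P : Subgroup G) (k' + 1) ≤
          ((QuotientGroup.mk' N).comp (P : Subgroup G).subtype).ker := by
    intro N _ hN
    let F : {φ : Cfsg.IrrCharacter (G ⧸ N) // p ∣ Cfsg.charDegree (φ : G ⧸ N → ℂ)} →
        {χ : Cfsg.IrrCharacter G // p ∣ Cfsg.charDegree (χ : G → ℂ)} := fun φ =>
      ⟨Cfsg.Agent.CharX.infl N φ.1, φ.2⟩
    have hF : Function.Injective F := fun a b h => by
      have h' : Cfsg.Agent.CharX.infl N a.1 = Cfsg.Agent.CharX.infl N b.1 := congrArg Subtype.val h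
      exact Subtype.ext ((Cfsg.Agent.CharX.quotEquiv N).injective (Subtype.ext h'))
    refine ⟨_, hk ▸ Nat.card_le_card_of_injective F hF, fun e χ hχ => ?_, ?_⟩
    · obtain ⟨φ, hφ⟩ := ((Nat.bijective_iff_injective_and_card F).2 ⟨hF, e.trans hk⟩).2 ⟨χ, hχ⟩
      have h' : Cfsg.Agent.CharX.infl N φ.1 = χ := congrArg Subtype.val hφ
      rw [← h']
      exact Cfsg.Agent.CharX.infl_trivialOn N φ.1
    · have hlt : Nat.card (G ⧸ N) < n := by
        rw [← hn, N.card_eq_card_quotient_mul_card_subgroup]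
        exact lt_mul_of_one_lt_right Nat.card_pos (Subgroup.one_lt_card_iff_ne_bot _ |>.2 hN)
      have hIH := ih _ hlt (G ⧸ N) p rfl (Cfsg.Agent.PSolvable.quotient N hG)
        (P.mapSurjective (QuotientGroup.mk'_surjective N))
      let g : ↥(P : Subgroup G) →* ↥(P.mapSurjective (QuotientGroup.mk'_surjective N) : Subgroup (G ⧸ N)) :=
        (QuotientGroup.mk' N).subgroupMap (P : Subgroup G)
      have h1 := map_derivedSeries_le_derivedSeries g
        (Nat.card {φ : Cfsg.IrrCharacter (G ⧸ N) // p ∣ Cfsg.charDegree (φ : G ⧸ N → ℂ)} + 1)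
      rw [hIH, le_bot_iff, Subgroup.map_eq_bot_iff] at h1
      exact h1.trans fun x hx => congrArg Subtype.val hx
  rcases Cfsg.Agent.PSolvable.exists_core_ne_bot hG with hO | hO
  · obtain ⟨N, hNdef⟩ : ∃ N : Subgroup G,
        N = (Subgroup.center (Cfsg.pCore p G)).map (Cfsg.pCore p G).subtype := ⟨_, rfl⟩
    haveI hNn : N.Normal := hNdef ▸
      Cfsg.Agent.FittingCores.normal_map_of_characteristic (Cfsg.pCore_normal p G) inferInstance
    have hOp : IsPGroup p (Cfsg.pCore p G) := Cfsg.Agent.FittingCores.pCore_isPGroup p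
    have hN : N ≠ ⊥ := by
      rw [hNdef, Ne, Subgroup.map_eq_bot_iff_of_injective _ (Cfsg.pCore p G).subtype_injective]
      haveI : Nontrivial (Cfsg.pCore p G) := (Subgroup.nontrivial_iff_ne_bot _).2 hO
      haveI := hOp.center_nontrivial
      exact (Subgroup.nontrivial_iff_ne_bot _).1 inferInstance
    have hNc : IsMulCommutative N := by
      refine ⟨⟨?_⟩⟩
      rintro ⟨a, ha⟩ ⟨b, hb⟩
      rw [hNdef] at ha hb
      obtain ⟨a', ha', rfl⟩ := ha
      obtain ⟨b', hb', rfl⟩ := hb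
      exact Subtype.ext (congrArg (fun u : Cfsg.pCore p G => (u : G))
        (Subgroup.mem_center_iff.1 hb' a'))
    have hNp : IsPGroup p N := hOp.to_le (hNdef ▸ Subgroup.map_subtype_le _)
    obtain ⟨k', hk', heq, hker⟩ := key N hN
    let K : Subgroup ↥(P : Subgroup G) := ((QuotientGroup.mk' N).comp (P : Subgroup G).subtype).ker
    have hKc : IsMulCommutative K := ⟨⟨fun a b => Subtype.ext (Subtype.ext
      (congrArg (fun u : N => (u : G)) (hNc.is_comm.comm ⟨_, (QuotientGroup.eq_one_iff _).1 a.2⟩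
        ⟨_, (QuotientGroup.eq_one_iff _).1 b.2⟩)))⟩⟩
    rcases hk'.lt_or_eq with hlt | he
    · exact le_bot_iff.1 (derived_succ_eq_bot K hKc (k' + 1) hker ▸
        derivedSeries_antitone _ (by omega))
    · have hab := quotient_abelian hG N hNc hNp hN (heq he) P
      have h1 : derivedSeries ↥(P : Subgroup G) 1 ≤ K := by
        rw [derivedSeries_one, commutator_def, Subgroup.commutator_le]
        intro a _ b _
        exact (QuotientGroup.eq_one_iff _).2 (hab a a.2 b b.2)
      exact le_bot_iff.1 (derived_succ_eq_bot K hKc 1 h1 ▸ derivedSeries_antitone _ (by omega))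
  · haveI : (Cfsg.pPrimeCore p G).Normal := Cfsg.Agent.FittingCores.pPrimeCore_normal p
    obtain ⟨k', hk', -, hker⟩ := key (Cfsg.pPrimeCore p G) hO
    refine le_bot_iff.1 (le_trans (derivedSeries_antitone _ (by omega)) (hker.trans fun x hx => ?_))
    have hx' : (x : G) ∈ Cfsg.pPrimeCore p G := (QuotientGroup.eq_one_iff _).1 hx
    obtain ⟨i, hi⟩ := P.isPGroup' x
    have hcop : Nat.Coprime (p ^ i) (Nat.card (Cfsg.pPrimeCore p G)) :=
      ((Cfsg.Agent.FittingCores.pPrimeCore_coprime p).symm).pow_left i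
    exact Subgroup.mem_bot.2 (Subtype.ext (Cfsg.Agent.CharExtend.eq_one_of_pow_coprime
      (by simpa using congrArg Subtype.val hi)
      (congrArg Subtype.val (pow_card_eq_one' (x := (⟨_, hx'⟩ : Cfsg.pPrimeCore p G)))) hcop))

/-- Let p be a prime, G a finite p-solvable group and P a Sylow p-subgroup of G. If n is the number of irreducible complex characters of G whose degree is divisible by p, then the (n+1)-st term of the derived series of P is trivial. (The p-solvable case has a direct inductive proof.) -/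
theorem result {G : Type*} [Group G] [Finite G] (p : ℕ) [Fact p.Prime] (hG : Cfsg.IsPSolvable p G) (P : Sylow p G) : derivedSeries ↥(P : Subgroup G) (Nat.card {χ : Cfsg.IrrCharacter G // p ∣ Cfsg.charDegree (χ : G → ℂ)} + 1) = ⊥ := by
  exact main _ G p rfl hG P

end Cfsg.Agent.S4768
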