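import Cfsg.Statements.S4774
import Cfsg.Agent.Lib.Classical.SL2TableValues
import Cfsg.Agent.Lib.Char.Degree
import Cfsg.Prelude.Def_DegreeGraph

set_option autoImplicit false
set_option linter.style.haveILetI false
open Cfsg

namespace Cfsg.Agent.S4774

open Cfsg.Agent.Char Cfsg.Agent.CharTools Cfsg.Agent.SL2Principal Cfsg.Agent.SL2Tori
  Cfsg.Agent.SL2Cuspidal Cfsg.Agent.SL2Table Cfsg.Agent.SL2TableValues

/-- A square of a character whose own square is not trivial, when the order exceeds four. -/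
theorem exists_good {H : Type*} [Group H] [Finite H] [IsCyclic H] (h : 4 < Nat.card H) :
    ∃ f : H →* ℂˣ, (∀ z : H, z * z = 1 → f z * f z = 1) ∧ ∃ g, f g ^ 4 ≠ 1 := by
  obtain ⟨g, hg⟩ := IsCyclic.exists_generator (α := H)
  have hg4 : g ^ 4 ≠ 1 := by
    intro h4
    have h1 := Nat.le_of_dvd (by norm_num) (orderOf_dvd_of_pow_eq_one h4)
    rw [orderOf_eq_card_of_forall_mem_zpowers hg] at h1
    omega
  obtain ⟨f, hf⟩ := exists_hom_ne hg4
  refine ⟨f, fun z hz => by rw [← map_mul, hz, map_one], g, ?_⟩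
  rwa [← map_pow]

section table

variable {F : Type*} [Field F] [Fintype F]

theorem exists_q_add (hodd : Odd (Fintype.card F)) (h5 : 5 < Fintype.card F) :
    ∃ χ : Matrix.SpecialLinearGroup (Fin 2) F → ℂ,
      Cfsg.IsIrrCharacter (Matrix.SpecialLinearGroup (Fin 2) F) χ ∧
      χ 1 = ((Fintype.card F + 1 : ℕ) : ℂ) ∧
      ∀ z ∈ Subgroup.center (Matrix.SpecialLinearGroup (Fin 2) F), χ z = χ 1 := by
  classical
  obtain ⟨f, hf, g, hg⟩ := exists_good (H := Fˣ) (by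
    rw [Nat.card_units, Nat.card_eq_fintype_card]; omega)
  let α : MulChar F ℂ := MulChar.ofUnitHom (f ^ 2)
  have hα : α ^ 2 ≠ 1 := by
    intro h
    apply hg
    have h1 := congrArg (fun β : MulChar F ℂ => β (g : F)) h
    simp only [α, MulChar.pow_apply_coe, MulChar.ofUnitHom_coe, MulChar.one_apply_coe] at h1
    refine Units.ext ?_
    rw [show f g ^ 4 = ((f ^ 2) g) ^ 2 by rw [MonoidHom.pow_apply, ← pow_mul],
      Units.val_pow_eq_pow_val, h1, Units.val_one]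
  refine ⟨R α, (R_irr_iff α).2 hα, by rw [R_one]; push_cast; rfl, fun z hz => ?_⟩
  obtain ⟨a, ha, rfl⟩ := exists_sm_scalar (isScalar_of_mem_center hz)
  rw [R_scalar α ha, R_one]
  simp only [α, MulChar.ofUnitHom_coe, MonoidHom.pow_apply, pow_two, MonoidHom.mul_apply]
  rw [hf a (by rw [← inv_eq_iff_mul_eq_one]; exact ha), Units.val_one, mul_one]

theorem exists_q_sub (h5 : 5 < Fintype.card F) :
    ∃ χ : Matrix.SpecialLinearGroup (Fin 2) F → ℂ,
      Cfsg.IsIrrCharacter (Matrix.SpecialLinearGroup (Fin 2) F) χ ∧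
      χ 1 = ((Fintype.card F - 1 : ℕ) : ℂ) ∧
      ∀ z ∈ Subgroup.center (Matrix.SpecialLinearGroup (Fin 2) F), χ z = χ 1 := by
  classical
  obtain ⟨g₀, hg₀⟩ := exists_noEigen (F := F)
  haveI := isCyclic' hg₀
  obtain ⟨f, hf, g, hg⟩ := exists_good (H := torus g₀) (by
    rw [card_torus hg₀, Nat.card_eq_fintype_card]; omega)
  have hθ : (f ^ 2) ^ 2 ≠ 1 := by
    intro h
    apply hg
    have h1 := DFunLike.congr_fun h g
    rwa [MonoidHom.pow_apply, MonoidHom.pow_apply, ← pow_mul, MonoidHom.one_apply] at h1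
  refine ⟨cusp (f ^ 2), cusp_irr hg₀ hθ, by rw [cusp_one hg₀, deg_sub], fun z hz => ?_⟩
  obtain ⟨a, ha, rfl⟩ := exists_sm_scalar (isScalar_of_mem_center hz)
  rw [cusp_scalar hg₀ (f ^ 2) ha, cusp_one hg₀, MonoidHom.pow_apply, pow_two,
    hf _ (Subtype.ext (by
      show sm a 0 * sm a 0 = 1
      rw [sm_mul, (inv_eq_iff_mul_eq_one.1 ha : a * a = 1)]
      simp [sm_one])), Units.val_one, mul_one]

theorem St_central [DecidableEq F] : ∀ z ∈ Subgroup.center (Matrix.SpecialLinearGroup (Fin 2) F),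
    (St (F := F)) z = (St (F := F)) 1 := by
  intro z hz
  obtain ⟨a, ha, rfl⟩ := exists_sm_scalar (isScalar_of_mem_center hz)
  rw [St_one]
  simp only [St, Pi.sub_apply, R_scalar (1 : MulChar F ℂ) ha, MulChar.one_apply_coe]
  ring

theorem sl_degrees (hodd : Odd (Fintype.card F)) {χ : Matrix.SpecialLinearGroup (Fin 2) F → ℂ}
    (hχ : Cfsg.IsIrrCharacter (Matrix.SpecialLinearGroup (Fin 2) F) χ) :
    ∃ d : ℕ, χ 1 = (d : ℂ) ∧
      (d ∣ Fintype.card F ∨ d ∣ Fintype.card F + 1 ∨ d ∣ Fintype.card F - 1) := by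
  classical
  obtain ⟨g₀, hg₀⟩ := exists_noEigen (F := F)
  obtain ⟨ν, -, hcls⟩ := exists_classes hodd
  obtain ⟨d⟩ := exists_oddData hodd hg₀ hcls
  rcases cases_odd d hg₀ hχ with
    ⟨h, -⟩ | ⟨h, -⟩ | ⟨h, -⟩ | ⟨h, -⟩ | ⟨h, -⟩ | ⟨h, -⟩
  · exact ⟨_, h, Or.inl (one_dvd _)⟩
  · exact ⟨_, h, Or.inl dvd_rfl⟩
  · exact ⟨_, h, Or.inr (Or.inl dvd_rfl)⟩
  · exact ⟨_, h, Or.inr (Or.inr dvd_rfl)⟩
  · exact ⟨_, h, Or.inr (Or.inl (Nat.div_dvd_of_dvd (even_iff_two_dvd.1 hodd.add_one)))⟩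
  · exact ⟨_, h, Or.inr (Or.inr (Nat.div_dvd_of_dvd
      (even_iff_two_dvd.1 (Nat.Odd.sub_odd hodd odd_one))))⟩

end table

/-- Let F be a finite field of odd characteristic t with q > 5 elements and let S be isomorphic to PSL(2,F) or to SL(2,F). Then the vertices of the character degree graph of S are the primes dividing q(q²−1); the prime t is adjacent to no vertex; two distinct primes dividing q² − 1 are adjacent exactly when one of them is 2, or both divide q + 1, or both divide q − 1. -/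
theorem result (F : Type*) [Field F] [Fintype F] (t : ℕ) [Fact t.Prime] [CharP F t] (ht : t ≠ 2) (q : ℕ) (hq : Fintype.card F = q) (h5 : 5 < q) {S : Type*} [Group S] [Finite S] (hS : Nonempty (S ≃* Matrix.ProjectiveSpecialLinearGroup (Fin 2) F) ∨ Nonempty (S ≃* Matrix.SpecialLinearGroup (Fin 2) F)) : Cfsg.degreePrimes S = {r : ℕ | r.Prime ∧ r ∣ q * (q ^ 2 - 1)} ∧ ∀ r s : ℕ, (Cfsg.degreeGraph S).Adj r s ↔ (r ≠ s ∧ r.Prime ∧ s.Prime ∧ r ∣ q ^ 2 - 1 ∧ s ∣ q ^ 2 - 1 ∧ (r = 2 ∨ s = 2 ∨ (r ∣ q + 1 ∧ s ∣ q + 1) ∨ (r ∣ q - 1 ∧ s ∣ q - 1))) := by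
  classical
  subst hq
  obtain ⟨n, -, hn⟩ := FiniteField.card F t
  have hodd : Odd (Fintype.card F) := by
    rw [hn]; exact ((Fact.out : t.Prime).odd_of_ne_two ht).pow
  have hdeg : ∀ {H : Type _} [Group H] [Finite H] (χ : Cfsg.IrrCharacter H) (m : ℕ),
      (χ : H → ℂ) 1 = (m : ℂ) → Cfsg.charDegree (χ : H → ℂ) = m := fun χ m h => by
    rw [Cfsg.Agent.CharX.irr_deg] at h
    exact_mod_cast h
  -- the degrees of `S`
  obtain ⟨hsome, hall⟩ : (∀ m : ℕ, (m = Fintype.card F ∨ m = Fintype.card F + 1 ∨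
        m = Fintype.card F - 1) → m ∈ Cfsg.charDegrees S) ∧
      ∀ d ∈ Cfsg.charDegrees S,
        d ∣ Fintype.card F ∨ d ∣ Fintype.card F + 1 ∨ d ∣ Fintype.card F - 1 := by
    have hbuild : ∀ (π : Matrix.SpecialLinearGroup (Fin 2) F →* S), Function.Surjective π →
        (∀ χ : Matrix.SpecialLinearGroup (Fin 2) F → ℂ,
          Cfsg.IsIrrCharacter (Matrix.SpecialLinearGroup (Fin 2) F) χ →
          (∀ z ∈ Subgroup.center (Matrix.SpecialLinearGroup (Fin 2) F), χ z = χ 1) →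
          ∃ ψ : Cfsg.IrrCharacter S, (ψ : S → ℂ) 1 = χ 1) →
        (∀ m : ℕ, (m = Fintype.card F ∨ m = Fintype.card F + 1 ∨
          m = Fintype.card F - 1) → m ∈ Cfsg.charDegrees S) ∧
        ∀ d ∈ Cfsg.charDegrees S,
          d ∣ Fintype.card F ∨ d ∣ Fintype.card F + 1 ∨ d ∣ Fintype.card F - 1 := by
      intro π hπ hdown
      constructor
      · intro m hm
        have : ∃ χ : Matrix.SpecialLinearGroup (Fin 2) F → ℂ,
            Cfsg.IsIrrCharacter (Matrix.SpecialLinearGroup (Fin 2) F) χ ∧ χ 1 = (m : ℂ) ∧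
            ∀ z ∈ Subgroup.center (Matrix.SpecialLinearGroup (Fin 2) F), χ z = χ 1 := by
          rcases hm with rfl | rfl | rfl
          · exact ⟨_, SL2Principal.St_irr, St_one, St_central⟩
          · exact exists_q_add hodd h5
          · exact exists_q_sub h5
        obtain ⟨χ, hχ, h1, hz⟩ := this
        obtain ⟨ψ, hψ⟩ := hdown χ hχ hz
        exact ⟨ψ, hdeg ψ m (hψ.trans h1)⟩
      · rintro d ⟨ψ, rfl⟩
        obtain ⟨d, hd, h⟩ := sl_degrees hodd (IsIrrCharacter.comp ψ.2 π hπ)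
        rw [map_one] at hd
        rwa [hdeg ψ d hd]
    rcases hS with ⟨⟨e⟩⟩ | ⟨⟨e⟩⟩
    · refine hbuild (e.symm.toMonoidHom.comp
        (QuotientGroup.mk' (Subgroup.center (Matrix.SpecialLinearGroup (Fin 2) F))))
        (e.symm.surjective.comp (QuotientGroup.mk'_surjective _)) fun χ hχ hz => ?_
      obtain ⟨χ', -, hval, hirr⟩ := IsCharacter.deflate (IsIrrCharacter.isCharacter hχ) _ hz
      refine ⟨⟨_, IsIrrCharacter.comp (hirr hχ) e.toMonoidHom e.surjective⟩, ?_⟩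
      show χ' (e 1) = χ 1
      rw [map_one]
      exact hval 1
    · refine hbuild e.symm.toMonoidHom e.symm.surjective fun χ hχ _ => ?_
      exact ⟨⟨_, IsIrrCharacter.comp hχ e.toMonoidHom e.surjective⟩, by
        show χ (e 1) = χ 1
        rw [map_one]⟩
  have hq2 : Fintype.card F ^ 2 - 1 = (Fintype.card F + 1) * (Fintype.card F - 1) := by
    simpa using Nat.sq_sub_sq (Fintype.card F) 1
  have h2a : 2 ∣ Fintype.card F + 1 := even_iff_two_dvd.1 hodd.add_one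
  have h2b : 2 ∣ Fintype.card F - 1 := even_iff_two_dvd.1 (Nat.Odd.sub_odd hodd odd_one)
  constructor
  · ext r
    constructor
    · rintro ⟨hr, d, hd, hrd⟩
      refine ⟨hr, ?_⟩
      rw [hq2]
      rcases hall d hd with h | h | h
      · exact dvd_mul_of_dvd_left (hrd.trans h) _
      · exact dvd_mul_of_dvd_right (dvd_mul_of_dvd_left (hrd.trans h) _) _
      · exact dvd_mul_of_dvd_right (dvd_mul_of_dvd_right (hrd.trans h) _) _
    · rintro ⟨hr, h⟩
      refine ⟨hr, ?_⟩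
      rw [hq2] at h
      rcases hr.dvd_mul.1 h with h | h
      · exact ⟨_, hsome _ (Or.inl rfl), h⟩
      · rcases hr.dvd_mul.1 h with h | h
        · exact ⟨_, hsome _ (Or.inr (Or.inl rfl)), h⟩
        · exact ⟨_, hsome _ (Or.inr (Or.inr rfl)), h⟩
  · intro r s
    constructor
    · rintro ⟨hne, hr, hs, d, hd, hrs⟩
      have hrd : r ∣ d := (dvd_mul_right r s).trans hrs
      have hsd : s ∣ d := (dvd_mul_left s r).trans hrs
      rcases hall d hd with h | h | h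
      · exfalso
        rw [hn] at h
        have h1 := (Nat.prime_dvd_prime_iff_eq hr Fact.out).1 (hr.dvd_of_dvd_pow (hrd.trans h))
        have h2 := (Nat.prime_dvd_prime_iff_eq hs Fact.out).1 (hs.dvd_of_dvd_pow (hsd.trans h))
        exact hne (h1.trans h2.symm)
      · refine ⟨hne, hr, hs, ?_, ?_, Or.inr (Or.inr (Or.inl ⟨hrd.trans h, hsd.trans h⟩))⟩ <;> rw [hq2]
        · exact dvd_mul_of_dvd_left (hrd.trans h) _
        · exact dvd_mul_of_dvd_left (hsd.trans h) _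
      · refine ⟨hne, hr, hs, ?_, ?_, Or.inr (Or.inr (Or.inr ⟨hrd.trans h, hsd.trans h⟩))⟩ <;> rw [hq2]
        · exact dvd_mul_of_dvd_right (hrd.trans h) _
        · exact dvd_mul_of_dvd_right (hsd.trans h) _
    · rintro ⟨hne, hr, hs, hr1, hs1, hcase⟩
      refine ⟨hne, hr, hs, ?_⟩
      have hmul : ∀ {m : ℕ}, r ∣ m → s ∣ m → r * s ∣ m := fun {m} a b =>
        Nat.Coprime.mul_dvd_of_dvd_of_dvd ((Nat.coprime_primes hr hs).2 hne) a b
      rw [hq2] at hr1 hs1
      rcases hcase with rfl | rfl | ⟨a, b⟩ | ⟨a, b⟩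
      · rcases hs.dvd_mul.1 hs1 with h | h
        · exact ⟨_, hsome _ (Or.inr (Or.inl rfl)), hmul h2a h⟩
        · exact ⟨_, hsome _ (Or.inr (Or.inr rfl)), hmul h2b h⟩
      · rcases hr.dvd_mul.1 hr1 with h | h
        · exact ⟨_, hsome _ (Or.inr (Or.inl rfl)), hmul h h2a⟩
        · exact ⟨_, hsome _ (Or.inr (Or.inr rfl)), hmul h h2b⟩
      · exact ⟨_, hsome _ (Or.inr (Or.inl rfl)), hmul a b⟩
      · exact ⟨_, hsome _ (Or.inr (Or.inr rfl)), hmul a b⟩

end Cfsg.Agent.S4774
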