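import Cfsg.Statements.S4775
import Cfsg.Agent.Lib.SzChar.Main
import Cfsg.Agent.Lib.Suzuki.Minor

set_option autoImplicit false
open Cfsg

namespace Cfsg.Agent.S4775

theorem charDegrees_equiv {G H : Type*} [Group G] [Finite G] [Group H] [Finite H] (e : G ≃* H) :
    Cfsg.charDegrees G = Cfsg.charDegrees H := by
  ext d
  constructor
  · rintro ⟨χ, rfl⟩
    refine ⟨⟨fun g => (χ : G → ℂ) (e.symm g),
      Cfsg.Agent.Char.IsIrrCharacter.comp χ.2 e.symm.toMonoidHom e.symm.surjective⟩,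
      Nat.cast_injective (R := ℂ) ?_⟩
    rw [← Cfsg.Agent.CharX.irr_deg χ, ← Cfsg.Agent.CharX.irr_deg]
    simp
  · rintro ⟨χ, rfl⟩
    refine ⟨⟨fun g => (χ : H → ℂ) (e g),
      Cfsg.Agent.Char.IsIrrCharacter.comp χ.2 e.toMonoidHom e.surjective⟩,
      Nat.cast_injective (R := ℂ) ?_⟩
    rw [← Cfsg.Agent.CharX.irr_deg χ, ← Cfsg.Agent.CharX.irr_deg]
    simp

/-- Let F be a finite field with q = 2^(2m+1) ≥ 8 elements and let S be isomorphic to the Suzuki group over F. Then the vertices of the character degree graph of S are 2 and the primes dividing (q − 1)(q² + 1); the primes dividing (q − 1)(q² + 1) are pairwise adjacent, and 2 is adjacent exactly to the primes dividing q − 1. -/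
theorem result (F : Type*) [Field F] [Fintype F] (m : ℕ) (hm : 1 ≤ m) (q : ℕ) (hq : Fintype.card F = q) (hqm : q = 2 ^ (2 * m + 1)) {S : Type*} [Group S] [Finite S] (hS : Nonempty (S ≃* ↥(Cfsg.Lie.Sz F (2 ^ (m + 1))))) : Cfsg.degreePrimes S = {r : ℕ | r.Prime ∧ (r = 2 ∨ r ∣ (q - 1) * (q ^ 2 + 1))} ∧ ∀ r s : ℕ, (Cfsg.degreeGraph S).Adj r s ↔ (r ≠ s ∧ r.Prime ∧ s.Prime ∧ ((r ∣ (q - 1) * (q ^ 2 + 1) ∧ s ∣ (q - 1) * (q ^ 2 + 1)) ∨ (r = 2 ∧ s ∣ q - 1) ∨ (s = 2 ∧ r ∣ q - 1))) := by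
  have h : Cfsg.Agent.Suzuki.SzField F m := ⟨hm, hq.trans hqm⟩
  obtain ⟨e⟩ := hS
  haveI : Fintype (Cfsg.Sz F m) := Fintype.ofFinite _
  have hcd : Cfsg.charDegrees S = Cfsg.charDegrees (Cfsg.Sz F m) :=
    charDegrees_equiv (e.trans (Cfsg.Agent.Suzuki.minorEquiv h).symm)
  obtain ⟨hall, hex⟩ := Cfsg.Agent.SzChar.degrees h
  set A := q + 2 ^ (m + 1) + 1 with hA
  set B := q - 2 ^ (m + 1) + 1 with hB
  have hAB : A * B = q ^ 2 + 1 := by
    have hle : 2 ^ (m + 1) ≤ q := hqm ▸ Nat.pow_le_pow_right (by norm_num) (by omega)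
    have hr : (2 ^ (m + 1)) ^ 2 = 2 * q := by rw [hqm, ← pow_mul, ← pow_succ']; congr 1; ring
    rw [hA, hB]
    zify [hle] at hr ⊢
    linear_combination -hr
  rw [← hqm] at hall hex
  have hmem : ∀ d ∈ Cfsg.charDegrees S, d = 1 ∨ d = q ^ 2 ∨ d = q ^ 2 + 1 ∨ d = (q - 1) * B ∨
      d = (q - 1) * A ∨ d = (q - 1) * 2 ^ m := by
    rw [hcd]
    rintro d ⟨χ, rfl⟩
    exact hall χ
  have hreal : ∀ d, d = q ^ 2 ∨ d = q ^ 2 + 1 ∨ d = (q - 1) * B ∨ d = (q - 1) * A ∨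
      d = (q - 1) * 2 ^ m → d ∈ Cfsg.charDegrees S := fun d hd => hcd ▸ hex d hd
  have h2m : 2 ∣ 2 ^ m := dvd_pow_self 2 (by omega)
  have h2q : 2 ∣ q := hqm ▸ dvd_pow_self 2 (by omega)
  have hdiv : ∀ r : ℕ, r.Prime → ∀ d ∈ Cfsg.charDegrees S, r ∣ d →
      r = 2 ∨ r ∣ (q - 1) * (q ^ 2 + 1) := by
    intro r hr d hd hrd
    rcases hmem d hd with rfl | rfl | rfl | rfl | rfl | rfl
    · exact absurd hrd hr.not_dvd_one
    · rw [hqm, ← pow_mul] at hrd
      exact Or.inl ((Nat.prime_dvd_prime_iff_eq hr Nat.prime_two).mp (hr.dvd_of_dvd_pow hrd))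
    · exact Or.inr (hrd.trans (dvd_mul_left _ _))
    · exact Or.inr (hrd.trans (mul_dvd_mul_left _ (hAB ▸ dvd_mul_left _ _)))
    · exact Or.inr (hrd.trans (mul_dvd_mul_left _ (hAB ▸ dvd_mul_right _ _)))
    · rcases hr.dvd_mul.mp hrd with h' | h'
      · exact Or.inr (h'.trans (dvd_mul_right _ _))
      · exact Or.inl ((Nat.prime_dvd_prime_iff_eq hr Nat.prime_two).mp (hr.dvd_of_dvd_pow h'))
  have hq1 : ¬ 2 ∣ q - 1 := by
    have : 0 < q := by rw [hqm]; positivity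
    omega
  have hq2 : ¬ 2 ∣ q ^ 2 + 1 := fun h' =>
    absurd ((Nat.dvd_add_right (dvd_pow h2q two_ne_zero)).mp h') (by norm_num)
  have odd_tor : ¬ 2 ∣ (q - 1) * B := fun h' =>
    (Nat.prime_two.dvd_mul.mp h').elim hq1 fun h'' => hq2 (h''.trans (hAB ▸ dvd_mul_left _ _))
  have odd_tor' : ¬ 2 ∣ (q - 1) * A := fun h' =>
    (Nat.prime_two.dvd_mul.mp h').elim hq1 fun h'' => hq2 (h''.trans (hAB ▸ dvd_mul_right _ _))
  constructor
  · ext r
    simp only [Cfsg.degreePrimes, Set.mem_setOf_eq]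
    constructor
    · rintro ⟨hr, d, hd, hrd⟩
      exact ⟨hr, hdiv r hr d hd hrd⟩
    · rintro ⟨hr, rfl | hrd⟩
      · exact ⟨hr, _, hreal _ (Or.inl rfl), dvd_pow h2q two_ne_zero⟩
      · rcases hr.dvd_mul.mp hrd with h' | h'
        · exact ⟨hr, _, hreal _ (Or.inr (Or.inr (Or.inr (Or.inr rfl)))), h'.trans (dvd_mul_right _ _)⟩
        · exact ⟨hr, _, hreal _ (Or.inr (Or.inl rfl)), h'⟩
  · intro r s
    constructor
    · rintro ⟨hne, hr, hs, d, hd, hrs⟩
      refine ⟨hne, hr, hs, ?_⟩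
      have hrd : r ∣ d := (dvd_mul_right r s).trans hrs
      have hsd : s ∣ d := (dvd_mul_left s r).trans hrs
      rcases hdiv r hr d hd hrd with h2 | h2 <;> rcases hdiv s hs d hd hsd with h3 | h3
      · exact absurd (h2.trans h3.symm) hne
      · subst h2
        refine Or.inr (Or.inl ⟨rfl, ?_⟩)
        rcases hmem d hd with rfl | rfl | rfl | rfl | rfl | rfl
        · exact absurd hsd hs.not_dvd_one
        · exact absurd ((Nat.prime_dvd_prime_iff_eq hs Nat.prime_two).mp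
            (hs.dvd_of_dvd_pow (hqm ▸ hs.dvd_of_dvd_pow hsd))).symm hne
        · exact absurd ((Nat.dvd_add_right (dvd_pow h2q two_ne_zero)).mp hrd) (by norm_num)
        · exact (odd_tor hrd).elim
        · exact (odd_tor' hrd).elim
        · rcases hs.dvd_mul.mp hsd with h' | h'
          · exact h'
          · exact absurd ((Nat.prime_dvd_prime_iff_eq hs Nat.prime_two).mp (hs.dvd_of_dvd_pow h')).symm hne
      · subst h3
        refine Or.inr (Or.inr ⟨rfl, ?_⟩)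
        rcases hmem d hd with rfl | rfl | rfl | rfl | rfl | rfl
        · exact absurd hrd hr.not_dvd_one
        · exact absurd ((Nat.prime_dvd_prime_iff_eq hr Nat.prime_two).mp
            (hr.dvd_of_dvd_pow (hqm ▸ hr.dvd_of_dvd_pow hrd))) hne
        · exact absurd ((Nat.dvd_add_right (dvd_pow h2q two_ne_zero)).mp hsd) (by norm_num)
        · exact (odd_tor hsd).elim
        · exact (odd_tor' hsd).elim
        · rcases hr.dvd_mul.mp hrd with h' | h'
          · exact h'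
          · exact absurd ((Nat.prime_dvd_prime_iff_eq hr Nat.prime_two).mp (hr.dvd_of_dvd_pow h')) hne
      · exact Or.inl ⟨h2, h3⟩
    · rintro ⟨hne, hr, hs, hcase⟩
      refine ⟨hne, hr, hs, ?_⟩
      have hcop : Nat.Coprime r s := (Nat.coprime_primes hr hs).mpr hne
      have hmix : ∀ a b : ℕ, b.Prime → a ∣ q - 1 → b ∣ q ^ 2 + 1 → ∃ d ∈ Cfsg.charDegrees S, a * b ∣ d := by
        intro a b hb ha hb'
        rw [← hAB] at hb'
        rcases hb.dvd_mul.mp hb' with h' | h'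
        · exact ⟨_, hreal _ (Or.inr (Or.inr (Or.inr (Or.inl rfl)))), mul_dvd_mul ha h'⟩
        · exact ⟨_, hreal _ (Or.inr (Or.inr (Or.inl rfl))), mul_dvd_mul ha h'⟩
      rcases hcase with ⟨h2, h3⟩ | ⟨rfl, h3⟩ | ⟨rfl, h2⟩
      · rcases hr.dvd_mul.mp h2 with h2 | h2 <;> rcases hs.dvd_mul.mp h3 with h3 | h3
        · exact ⟨_, hreal _ (Or.inr (Or.inr (Or.inr (Or.inr rfl)))),
            (hcop.mul_dvd_of_dvd_of_dvd h2 h3).trans (dvd_mul_right _ _)⟩
        · exact hmix r s hs h2 h3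
        · rw [mul_comm]; exact hmix s r hr h3 h2
        · exact ⟨_, hreal _ (Or.inr (Or.inl rfl)), hcop.mul_dvd_of_dvd_of_dvd h2 h3⟩
      · exact ⟨_, hreal _ (Or.inr (Or.inr (Or.inr (Or.inr rfl)))), by rw [mul_comm]; exact mul_dvd_mul h3 h2m⟩
      · exact ⟨_, hreal _ (Or.inr (Or.inr (Or.inr (Or.inr rfl)))), mul_dvd_mul h2 h2m⟩

end Cfsg.Agent.S4775
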