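import Cfsg.Statements.S4784
import Cfsg.Agent.Lib.Char.OddIndexReal
import Cfsg.Agent.Lib.Char.Orbit
import Cfsg.Agent.Lib.Char.Degree
-- import your own Cfsg.Agent.* helpers here

set_option autoImplicit false
open Cfsg

open Cfsg.Agent Cfsg.Agent.Char Cfsg.Agent.CharX
open scoped ComplexConjugate

namespace Cfsg.Agent.S4784

/-- Let H be a subgroup of the finite group G and consider the permutation character of G on the cosets of H (the function induced from the principal character of H). Then exactly one irreducible constituent of it is real-valued with Frobenius–Schur indicator +1 (namely the principal character) if and only if the normal core of H has odd index in G. -/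
theorem result {G : Type*} [Group G] [Fintype G] (H : Subgroup G) : Nat.card {χ : Cfsg.IrrCharacter G // Cfsg.classInner (Cfsg.indFun H (fun _ : H => (1 : ℂ))) (χ : G → ℂ) ≠ 0 ∧ (∀ g : G, (starRingEnd ℂ) ((χ : G → ℂ) g) = (χ : G → ℂ) g) ∧ (Nat.card G : ℂ)⁻¹ * ∑ g : G, (χ : G → ℂ) (g * g) = 1} = 1 ↔ Odd H.normalCore.index := by
  classical
  haveI := Fintype.ofFinite H
  set K := H.normalCore with hKdef
  have hπ : Cfsg.IsClassFunction G (Cfsg.indFun H (fun _ : H => (1 : ℂ))) :=
    isClassFunction_indFun H _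
  have hπc : ∀ χ : Cfsg.IrrCharacter G, Cfsg.classInner (Cfsg.indFun H (fun _ : H => (1 : ℂ))) (χ : G → ℂ) =
      Cfsg.classInner (fun _ : H => (1 : ℂ)) (fun h : H => (χ : G → ℂ) h) := fun χ =>
    classInner_indFun_left H _ (IsCharacter.isClassFunction (IsIrrCharacter.isCharacter χ.2))
  have hcount : ∑ χ : Cfsg.IrrCharacter G, OddIndexReal.nu (χ : G → ℂ) *
      Cfsg.classInner (Cfsg.indFun H (fun _ : H => (1 : ℂ))) (χ : G → ℂ) =
        (Nat.card H : ℂ)⁻¹ * (Nat.card {g : G // g * g ∈ H} : ℂ) := by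
    rw [Finset.sum_congr rfl fun (χ : Cfsg.IrrCharacter G) _ => congrArg (OddIndexReal.nu (χ : G → ℂ) * ·) (hπc χ)]
    simp only [Cfsg.classInner, one_mul, Finset.mul_sum]
    rw [Finset.sum_comm]
    have hr : ∀ h : H, (∑ χ : Cfsg.IrrCharacter G, OddIndexReal.nu (χ : G → ℂ) *
        ((Nat.card H : ℂ)⁻¹ * conj ((χ : G → ℂ) h))) =
          (Nat.card H : ℂ)⁻¹ * (Nat.card {s : G // s * s = (h : G)} : ℂ) := fun h => by
      rw [← OddIndexReal.sum_nu_mul, Finset.mul_sum]
      exact Finset.sum_congr rfl fun χ _ => by ring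
    rw [Finset.sum_congr rfl fun h _ => hr h, ← Finset.mul_sum, ← Nat.cast_sum, ← Nat.card_sigma]
    congr 2
    exact Nat.card_congr
      { toFun := fun s => ⟨s.2.1, s.2.2.symm ▸ s.1.2⟩
        invFun := fun g => ⟨⟨g.1 * g.1, g.2⟩, ⟨g.1, rfl⟩⟩
        left_inv := fun s => by
          obtain ⟨⟨h, hh⟩, s, hs⟩ := s
          simp only at hs
          subst hs
          rfl
        right_inv := fun g => rfl }
  have hP1 : Cfsg.classInner (Cfsg.indFun H (fun _ : H => (1 : ℂ))) (principal G : G → ℂ) = 1 := by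
    rw [hπc]
    simp [principal, Cfsg.classInner, Nat.card_eq_fintype_card]
  have hnu1 : OddIndexReal.nu (principal G : G → ℂ) = 1 := by
    simp [OddIndexReal.nu, principal, Nat.card_eq_fintype_card]
  have hPmem : Cfsg.classInner (Cfsg.indFun H (fun _ : H => (1 : ℂ))) (principal G : G → ℂ) ≠ 0 ∧
      (∀ g : G, (starRingEnd ℂ) ((principal G : G → ℂ) g) = (principal G : G → ℂ) g) ∧
      (Nat.card G : ℂ)⁻¹ * ∑ g : G, (principal G : G → ℂ) (g * g) = 1 :=
    ⟨by rw [hP1]; exact one_ne_zero, fun g => by simp [principal], hnu1⟩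
  constructor
  · intro h1
    by_contra hev
    rw [Nat.not_odd_iff_even, K.index_eq_card, even_iff_two_dvd] at hev
    obtain ⟨t, ht⟩ := exists_prime_orderOf_dvd_card' (G := G ⧸ K) 2 hev
    obtain ⟨g, rfl⟩ := QuotientGroup.mk_surjective t
    have hgK : g ∉ K := fun h => by
      rw [(QuotientGroup.eq_one_iff g).2 h, orderOf_one] at ht
      norm_num at ht
    have hsq : g * g ∈ K := by
      rw [← QuotientGroup.eq_one_iff, QuotientGroup.mk_mul, ← sq, ← ht, pow_orderOf_eq_one]
    obtain ⟨x, hx⟩ : ∃ x : G, x * g * x⁻¹ ∉ H := by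
      by_contra hno
      push Not at hno
      exact hgK hno
    have hlt : Nat.card H < Nat.card {g : G // g * g ∈ H} := by
      rw [Nat.card_eq_fintype_card, Nat.card_eq_fintype_card]
      refine Fintype.card_lt_of_injective_of_notMem
        (fun h : H => (⟨h, H.mul_mem h.2 h.2⟩ : {g : G // g * g ∈ H}))
        (fun a b hab => Subtype.ext (congrArg (fun t : {g : G // g * g ∈ H} => (t : G)) hab))
        (b := ⟨x * g * x⁻¹, ?_⟩) ?_
      · have := H.normalCore_le ((Subgroup.normalCore_normal H).conj_mem _ hsq x)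
        convert this using 1; group
      · rintro ⟨h, hh⟩
        have e : (h : G) = x * g * x⁻¹ := congrArg Subtype.val hh
        exact hx (e ▸ h.2)
    have hall : ∀ χ : Cfsg.IrrCharacter G, χ ≠ principal G →
        ∃ z : ℕ, OddIndexReal.nu (χ : G → ℂ) *
          Cfsg.classInner (Cfsg.indFun H (fun _ : H => (1 : ℂ))) (χ : G → ℂ) = -(z : ℂ) := by
      intro χ hne
      obtain ⟨m, hm⟩ := IsCharacter.exists_classInner_nat
        (isCharacter_indFun H isCharacter_one) (IsIrrCharacter.isCharacter χ.2)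
      rw [hm]
      rcases OddIndexReal.nu_cases χ with ⟨-, h0⟩ | ⟨hr, h0 | h0⟩
      · exact ⟨0, by rw [h0]; simp⟩
      · refine ⟨0, ?_⟩
        have : m = 0 := by
          by_contra hm0
          haveI := (Nat.card_eq_one_iff_unique.1 h1).1
          refine hne (congrArg Subtype.val (Subsingleton.elim
            (⟨χ, ?_, fun g => Complex.conj_eq_iff_im.2 (hr g), h0⟩ :
              {χ : Cfsg.IrrCharacter G // Cfsg.classInner (Cfsg.indFun H (fun _ : H => (1 : ℂ))) (χ : G → ℂ) ≠ 0 ∧
                (∀ g : G, (starRingEnd ℂ) ((χ : G → ℂ) g) = (χ : G → ℂ) g) ∧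
                (Nat.card G : ℂ)⁻¹ * ∑ g : G, (χ : G → ℂ) (g * g) = 1}) ⟨principal G, hPmem⟩))
          rw [hm]; exact Nat.cast_ne_zero.2 hm0
        rw [this]; simp
      · exact ⟨m, by rw [h0]; ring⟩
    choose z hz using hall
    rw [← Finset.add_sum_erase _ _ (Finset.mem_univ (principal G)), hnu1, hP1,
      ← Finset.sum_attach, Finset.sum_congr rfl (fun χ _ => hz χ.1 (Finset.mem_erase.1 χ.2).1),
      Finset.sum_neg_distrib, ← Nat.cast_sum,
      eq_inv_mul_iff_mul_eq₀ (Nat.cast_ne_zero.2 Nat.card_pos.ne')] at hcount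
    have h2 : Nat.card {g : G // g * g ∈ H} +
        Nat.card H * (∑ χ ∈ (Finset.univ.erase (principal G)).attach, z χ.1 (Finset.mem_erase.1 χ.2).1) =
          Nat.card H := by
      apply Nat.cast_injective (R := ℂ)
      push_cast
      rw [Nat.cast_sum] at hcount
      linear_combination -hcount
    omega
  · intro hodd
    rw [Nat.card_eq_one_iff_unique]
    refine ⟨⟨?_⟩, ⟨⟨principal G, hPmem⟩⟩⟩
    suffices key : ∀ χ : Cfsg.IrrCharacter G,
        Cfsg.classInner (Cfsg.indFun H (fun _ : H => (1 : ℂ))) (χ : G → ℂ) ≠ 0 →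
        (∀ g : G, (starRingEnd ℂ) ((χ : G → ℂ) g) = (χ : G → ℂ) g) → χ = principal G from
      fun a b => Subtype.ext ((key _ a.2.1 a.2.2.1).trans (key _ b.2.1 b.2.2.1).symm)
    intro χ hχ hreal
    haveI := Fintype.ofFinite (G ⧸ K)
    haveI := Fintype.ofFinite K
    -- `χ` is trivial on the core
    have htriv : ∀ k ∈ K, (χ : G → ℂ) k = (χ : G → ℂ) 1 := by
      by_contra hno
      push Not at hno
      refine hχ ?_
      have hz : ∑ h : H, (χ : G → ℂ) h = 0 := by
        have h1 : ∀ k : K, ∑ h : H, (χ : G → ℂ) ((h : G) * k) = ∑ h : H, (χ : G → ℂ) h := fun k =>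
          Fintype.sum_equiv (Equiv.mulRight (⟨k, H.normalCore_le k.2⟩ : H)) _ _ fun h => rfl
        have h2 : ∑ k : K, ∑ h : H, (χ : G → ℂ) ((h : G) * k) = 0 := by
          rw [Finset.sum_comm]
          exact Finset.sum_eq_zero fun h _ => sum_coset_eq_zero χ.2 K hno h
        rw [Finset.sum_congr rfl fun k _ => h1 k, Finset.sum_const, nsmul_eq_mul, mul_eq_zero,
          Nat.cast_eq_zero] at h2
        exact h2.resolve_left (Finset.card_ne_zero.2 ⟨1, Finset.mem_univ _⟩)
      rw [hπc, Cfsg.classInner]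
      simp only [one_mul, ← map_sum, hz, map_zero, mul_zero]
    obtain ⟨β, hβ⟩ : ∃ β : Cfsg.IrrCharacter (G ⧸ K), infl K β = χ :=
      ⟨(quotEquiv K).symm ⟨χ, htriv⟩,
        congrArg Subtype.val ((quotEquiv K).apply_symm_apply ⟨χ, htriv⟩)⟩
    have h := Char.eq_one_of_real (G := G ⧸ K) (by rwa [← K.index_eq_card]) β.2 (fun t => by
      obtain ⟨g, rfl⟩ := QuotientGroup.mk_surjective t
      have := hreal g
      rw [← hβ] at this
      exact this)
    refine Subtype.ext (funext fun g => ?_)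
    rw [← hβ]
    exact congrFun h g

end Cfsg.Agent.S4784
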