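import Cfsg.Statements.S4796
import Cfsg.Agent.Lib.Char.PrimeCodegree
-- import your own Cfsg.Agent.* helpers here

set_option autoImplicit false
open Cfsg

open Cfsg.Agent Cfsg.Agent.Char Cfsg.Agent.CharX
open scoped ComplexConjugate

namespace Cfsg.Agent.S4796

/-- Let G be a finite group with a faithful irreducible complex character χ whose codegree #G / χ(1) is a prime p (for a faithful character the kernel is trivial, so the codegree is #G / χ(1)). Then either G is cyclic of order p, or G is a Frobenius group whose Frobenius kernel has order p: some proper non-trivial subgroup H satisfies H ∩ gHg⁻¹ = 1 for every element g outside H, and the set of elements lying in no conjugate of H, together with the identity, has exactly p elements. -/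
theorem result {G : Type*} [Group G] [Finite G] (χ : Cfsg.IrrCharacter G) (hfaith : ∀ g : G, (χ : G → ℂ) g = (χ : G → ℂ) 1 → g = 1) (p : ℕ) (hp : p.Prime) (hcod : Nat.card G = p * Cfsg.charDegree (χ : G → ℂ)) : (IsCyclic G ∧ Nat.card G = p) ∨ ∃ H : Subgroup G, Cfsg.IsFrobeniusComplement H ∧ Nat.card ↥(Cfsg.frobeniusKernel H) = p := by
  haveI := Fact.mk hp
  obtain ⟨P, hn, hc, hC, hcop⟩ := PrimeCodegree.structure_exists χ hfaith p hp hcod
  by_cases h1 : Cfsg.charDegree (χ : G → ℂ) = 1
  · rw [h1, mul_one] at hcod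
    exact Or.inl ⟨isCyclic_of_prime_card hcod, hcod⟩
  refine Or.inr ?_
  obtain ⟨H, hH⟩ := Subgroup.exists_right_complement'_of_coprime hcop
  have hHc : Nat.card H = Cfsg.charDegree (χ : G → ℂ) := by
    have h := hH.card_mul
    rw [hc, hcod] at h
    exact Nat.eq_of_mul_eq_mul_left hp.pos h
  have hH1 : H ≠ ⊥ := fun h => h1 (by rw [← hHc, h, Subgroup.card_bot])
  have hP1 : P ≠ ⊥ := fun h => hp.ne_one (by rw [← hc, h, Subgroup.card_bot])
  obtain ⟨hfr, hker⟩ := PrimeCodegree.isFrobeniusComplement_of_regular hH hH1 hP1 (by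
    intro h hh n hn hcomm
    by_contra hne
    push Not at hne
    refine hne.1 ?_
    have hgen : Subgroup.zpowers n = P := by
      refine Subgroup.eq_of_le_of_card_ge ((Subgroup.zpowers_le).2 hn) ?_
      rw [hc, Nat.card_zpowers]
      have hd : orderOf n ∣ p := hc ▸ Subgroup.orderOf_dvd_natCard _ hn
      rcases (Nat.dvd_prime hp).1 hd with e | e
      · exact absurd (orderOf_eq_one_iff.1 e) hne.2
      · exact e.ge
    have hmem : h ∈ P := hC (Subgroup.mem_centralizer_iff.2 fun x hx => by
      rw [← hgen] at hx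
      obtain ⟨i, rfl⟩ := hx
      exact ((Commute.symm (show Commute h n from hcomm)).zpow_left i).eq)
    exact Subgroup.mem_bot.1 (hH.disjoint.eq_bot ▸ (⟨hmem, hh⟩ : h ∈ P ⊓ H)))
  refine ⟨H, hfr, ?_⟩
  rw [hker, ← hc]
  rfl

end Cfsg.Agent.S4796
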