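import Cfsg.Statements.S4797
import Cfsg.Agent.Lib.Char.PrimeCodegree
-- import your own Cfsg.Agent.* helpers here

set_option autoImplicit false
open Cfsg

open Cfsg.Agent Cfsg.Agent.Char Cfsg.Agent.CharX
open scoped ComplexConjugate

namespace Cfsg.Agent.S4797

/-- The codegree of an irreducible complex character χ of a finite group G is [G : ker χ] / χ(1), where ker χ is the set of elements at which χ takes the value χ(1). A non-trivial finite group is perfect if and only if no irreducible complex character of it has prime codegree. -/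
theorem result {G : Type*} [Group G] [Finite G] [Nontrivial G] : commutator G = ⊤ ↔ ∀ χ : Cfsg.IrrCharacter G, ¬ ((Nat.card G / (Nat.card {g : G // (χ : G → ℂ) g = (χ : G → ℂ) 1} * Cfsg.charDegree (χ : G → ℂ)))).Prime := by
  classical
  constructor
  · intro hperf χ hpr
    obtain ⟨K, hK, hmem, hcard, hdvd⟩ := exists_ker χ
    rw [codeg_eq χ K hmem] at hpr
    haveI := hK
    haveI := Fintype.ofFinite G
    obtain ⟨χ', -, he, hirr⟩ := IsCharacter.deflate (IsIrrCharacter.isCharacter χ.2) K
      (fun x hx => (hmem x).1 hx)
    let ψ : Cfsg.IrrCharacter (G ⧸ K) := ⟨χ', hirr χ.2⟩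
    have hdeg : Cfsg.charDegree (ψ : G ⧸ K → ℂ) = Cfsg.charDegree (χ : G → ℂ) := by
      refine Nat.cast_injective (R := ℂ) ?_
      rw [← irr_deg, ← irr_deg, ← QuotientGroup.mk_one]
      exact he 1
    refine PrimeCodegree.commutator_ne_top ψ (fun q hq => ?_) _ hpr ?_ ?_
    · obtain ⟨g, rfl⟩ := QuotientGroup.mk_surjective q
      refine (QuotientGroup.eq_one_iff g).2 ((hmem g).2 ?_)
      have h1 : χ' (g : G ⧸ K) = χ' ((1 : G) : G ⧸ K) := by rw [QuotientGroup.mk_one]; exact hq
      rwa [he g, he 1] at h1
    · rw [hdeg, Nat.div_mul_cancel hdvd, K.index_eq_card]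
    · rw [commutator_def, ← Subgroup.map_top_of_surjective (QuotientGroup.mk' K)
        (QuotientGroup.mk'_surjective K), ← Subgroup.map_commutator, ← commutator_def, hperf]
  · intro h
    by_contra hne
    haveI : Finite (Abelianization G) := inferInstanceAs (Finite (G ⧸ commutator G))
    have hA : 1 < Nat.card (Abelianization G) := by
      show 1 < (commutator G).index
      have h0 : (commutator G).index ≠ 0 := Subgroup.index_ne_zero_of_finite
      have h1 : (commutator G).index ≠ 1 := fun e => hne (Subgroup.index_eq_one.1 e)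
      omega
    set p := (Nat.card (Abelianization G)).minFac
    have hp : p.Prime := Nat.minFac_prime hA.ne'
    haveI := Fact.mk hp
    haveI : NeZero (Monoid.exponent (Abelianization G) : ℂ) :=
      ⟨Nat.cast_ne_zero.mpr Monoid.exponent_ne_zero_of_finite⟩
    have hcardD : Nat.card (Abelianization G →* ℂˣ) = Nat.card (Abelianization G) :=
      CommGroup.card_monoidHom_of_hasEnoughRootsOfUnity _ _
    haveI : Finite (Abelianization G →* ℂˣ) := Nat.finite_of_card_ne_zero (by omega)
    obtain ⟨f, hf⟩ := exists_prime_orderOf_dvd_card' (G := Abelianization G →* ℂˣ) p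
      (hcardD.symm ▸ Nat.minFac_dvd _)
    let lam : G →* ℂˣ := f.comp Abelianization.of
    let χ : Cfsg.IrrCharacter G := ⟨fun g => (lam g : ℂ), isIrrCharacter_linear lam⟩
    have hd : Cfsg.charDegree (χ : G → ℂ) = 1 := by
      refine Nat.cast_injective (R := ℂ) ?_
      rw [← irr_deg, Nat.cast_one]
      show (lam 1 : ℂ) = 1
      rw [map_one, Units.val_one]
    refine h χ ?_
    rw [codeg_eq χ lam.ker (fun g => ?_), hd, Nat.div_one, Subgroup.index_ker]
    · have hrange : lam.range = f.range := by
        rw [MonoidHom.range_eq_map, MonoidHom.range_eq_map, ← Subgroup.map_map]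
        congr 1
        exact Subgroup.map_top_of_surjective _ (QuotientGroup.mk'_surjective _)
      rw [hrange]
      have hpow : ∀ x : f.range, x ^ p = 1 := by
        rintro ⟨_, a, rfl⟩
        refine Subtype.ext ?_
        show f a ^ p = 1
        rw [← MonoidHom.pow_apply, ← hf, pow_orderOf_eq_one, MonoidHom.one_apply]
      obtain ⟨z, hz⟩ : ∃ z : ℂ, IsPrimitiveRoot z p :=
        ⟨_, Complex.isPrimitiveRoot_exp p hp.ne_zero⟩
      haveI : NeZero p := ⟨hp.ne_zero⟩
      let e : f.range → rootsOfUnity p ℂ := fun x => ⟨x.1, by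
        rw [mem_rootsOfUnity]; exact congrArg Subtype.val (hpow x)⟩
      have hinj : Function.Injective e := fun a b hab =>
        Subtype.ext (congrArg (fun t : rootsOfUnity p ℂ => (t : ℂˣ)) hab)
      haveI : Finite f.range := Finite.of_injective e hinj
      have hle : Nat.card f.range ≤ p := by
        refine (Nat.card_le_card_of_injective e hinj).trans ?_
        exact card_rootsOfUnity ℂ p
      obtain ⟨k, hk⟩ := IsPGroup.iff_card.1 (show IsPGroup p f.range from
        fun x => ⟨1, by rw [pow_one]; exact hpow x⟩)
      rcases k with _ | k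
      · exfalso
        rw [pow_zero, Subgroup.card_eq_one, MonoidHom.range_eq_bot_iff] at hk
        rw [hk, orderOf_one] at hf
        exact hp.ne_one hf.symm
      · rw [hk]
        rw [hk, pow_succ] at hle
        have : p ^ k ≤ 1 := Nat.le_of_mul_le_mul_right (hle.trans (one_mul p).ge) hp.pos
        have h1 : p ^ k = 1 := le_antisymm this (Nat.one_le_pow _ _ hp.pos)
        rw [pow_succ, h1, one_mul]
        exact hp
    · show g ∈ lam.ker ↔ (lam g : ℂ) = (lam 1 : ℂ)
      rw [MonoidHom.mem_ker, map_one, Units.val_one, Units.val_eq_one]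

end Cfsg.Agent.S4797
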