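import Cfsg.Statements.S4798
import Cfsg.Agent.Lib.Char.Degree
import Cfsg.Agent.Lib.Char.Induction
open Cfsg.Agent.Char Cfsg.Agent.CharX

set_option autoImplicit false
open Cfsg

namespace Cfsg.Agent.S4798

universe u

theorem key {G : Type u} [Group G] [Fintype G] (χ : Cfsg.IrrCharacter G) (H : Subgroup G)
    [Fintype H] (ψ : Cfsg.IrrCharacter H)
    (h : Cfsg.classInner (fun x : H => (χ : G → ℂ) x) (ψ : H → ℂ) ≠ 0) :
    Cfsg.charDegree (χ : G → ℂ) ≤ H.index * Cfsg.charDegree (ψ : H → ℂ) ∧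
      (Cfsg.charDegree (χ : G → ℂ) = H.index * Cfsg.charDegree (ψ : H → ℂ) →
        (χ : G → ℂ) = Cfsg.indFun H (ψ : H → ℂ)) := by
  classical
  have hχ := IsIrrCharacter.isCharacter χ.2
  have hψ := IsIrrCharacter.isCharacter ψ.2
  obtain ⟨m, hm⟩ := IsCharacter.exists_decomp (isCharacter_indFun H hψ)
  have hmχ : 1 ≤ m χ := by
    rw [Nat.one_le_iff_ne_zero]
    intro h0
    apply h
    rw [classInner_comm_of_isCharacter (IsCharacter.restrict hχ H) hψ,
      ← classInner_indFun_left H _ (IsCharacter.isClassFunction hχ), hm, classInner_combination, h0,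
      Nat.cast_zero]
  have h1 : H.index * Cfsg.charDegree (ψ : H → ℂ) =
      ∑ φ : Cfsg.IrrCharacter G, m φ * Cfsg.charDegree (φ : G → ℂ) := by
    have := congrFun hm 1
    rw [indFun_one_apply, irr_deg, Finset.sum_apply] at this
    apply Nat.cast_injective (R := ℂ)
    rw [Nat.cast_mul, this, Nat.cast_sum]
    exact Finset.sum_congr rfl fun φ _ => by rw [Pi.smul_apply, smul_eq_mul, irr_deg, Nat.cast_mul]
  have hsum := Finset.add_sum_erase Finset.univ (fun φ : Cfsg.IrrCharacter G =>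
    m φ * Cfsg.charDegree (φ : G → ℂ)) (Finset.mem_univ χ)
  have h2 : Cfsg.charDegree (χ : G → ℂ) ≤ m χ * Cfsg.charDegree (χ : G → ℂ) :=
    Nat.le_mul_of_pos_left _ hmχ
  refine ⟨by rw [h1]; omega, fun he => ?_⟩
  have hz : ∀ φ, φ ≠ χ → m φ = 0 := by
    intro φ hφ
    have hle := Finset.single_le_sum (f := fun φ : Cfsg.IrrCharacter G =>
      m φ * Cfsg.charDegree (φ : G → ℂ)) (fun _ _ => Nat.zero_le _)
      (Finset.mem_erase.2 ⟨hφ, Finset.mem_univ φ⟩)
    exact (Nat.mul_eq_zero.1 (by omega : m φ * Cfsg.charDegree (φ : G → ℂ) = 0)).resolve_right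
      (irr_deg_pos φ).ne'
  have hone : m χ = 1 := by
    have hle : m χ * Cfsg.charDegree (χ : G → ℂ) ≤ 1 * Cfsg.charDegree (χ : G → ℂ) := by omega
    exact le_antisymm (Nat.le_of_mul_le_mul_right hle (irr_deg_pos χ)) hmχ
  rw [hm, Finset.sum_eq_single χ (fun φ _ hφ => by rw [hz φ hφ, Nat.cast_zero, zero_smul])
    (fun hn => absurd (Finset.mem_univ χ) hn), hone, Nat.cast_one, one_smul]

/-- Let p be a prime and χ a faithful irreducible complex character of the finite group G (χ(g) = χ(1) only for g = 1), so that its codegree is #G / χ(1). Then #G / χ(1) is a power of p if and only if χ is induced from a character of a Sylow p-subgroup of G. -/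
theorem result {G : Type*} [Group G] [Fintype G] (p : ℕ) [Fact p.Prime] (χ : Cfsg.IrrCharacter G) (hfaith : ∀ g : G, (χ : G → ℂ) g = (χ : G → ℂ) 1 → g = 1) : (∃ k : ℕ, Nat.card G = p ^ k * Cfsg.charDegree (χ : G → ℂ)) ↔ ∃ (P : Sylow p G) (θ : ↥(P : Subgroup G) → ℂ), Cfsg.IsCharacter ↥(P : Subgroup G) θ ∧ (χ : G → ℂ) = Cfsg.indFun (P : Subgroup G) θ := by
  classical
  have hp : p.Prime := Fact.out
  constructor
  · rintro ⟨k, hk⟩
    let P : Sylow p G := default
    haveI := Fintype.ofFinite (P : Subgroup G)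
    set n := (Nat.card G).factorization p with hn
    have hi : (P : Subgroup G).index * p ^ n = Nat.card G := by
      rw [← P.card_eq_multiplicity, Subgroup.index_mul_card]
    have hpi : ¬ p ∣ (P : Subgroup G).index := Sylow.not_dvd_index P
    have hkn : k ≤ n := (hp.pow_dvd_iff_le_factorization Nat.card_pos.ne').1 ⟨_, hk⟩
    have hd : Cfsg.charDegree (χ : G → ℂ) = (P : Subgroup G).index * p ^ (n - k) := by
      refine Nat.eq_of_mul_eq_mul_left (pow_pos hp.pos k) ?_
      rw [← hk, mul_left_comm, ← pow_add, Nat.add_sub_cancel' hkn, hi]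
    have hres := IsCharacter.restrict (IsIrrCharacter.isCharacter χ.2) (P : Subgroup G)
    obtain ⟨m, hm⟩ := IsCharacter.exists_decomp hres
    have hsum : Cfsg.charDegree (χ : G → ℂ) =
        ∑ ψ : Cfsg.IrrCharacter (P : Subgroup G), m ψ * Cfsg.charDegree (ψ : ↥(P : Subgroup G) → ℂ) := by
      have h1 := congrFun hm 1
      rw [Finset.sum_apply] at h1
      apply Nat.cast_injective (R := ℂ)
      rw [Nat.cast_sum, ← irr_deg]
      refine (show (χ : G → ℂ) 1 = _ from h1).trans ?_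
      exact Finset.sum_congr rfl fun ψ _ => by rw [Pi.smul_apply, smul_eq_mul, irr_deg, Nat.cast_mul]
    have hkey : ∀ ψ, m ψ ≠ 0 → Cfsg.charDegree (χ : G → ℂ) ≤
        (P : Subgroup G).index * Cfsg.charDegree (ψ : ↥(P : Subgroup G) → ℂ) ∧
        (Cfsg.charDegree (χ : G → ℂ) =
            (P : Subgroup G).index * Cfsg.charDegree (ψ : ↥(P : Subgroup G) → ℂ) →
          (χ : G → ℂ) = Cfsg.indFun (P : Subgroup G) (ψ : ↥(P : Subgroup G) → ℂ)) := fun ψ hψ =>
      key χ _ ψ (by rw [hm, classInner_combination]; exact Nat.cast_ne_zero.2 hψ)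
    by_contra hno
    have hdvd : p ^ (n - k + 1) ∣ Cfsg.charDegree (χ : G → ℂ) := by
      rw [hsum]
      refine Finset.dvd_sum fun ψ _ => ?_
      by_cases h0 : m ψ = 0
      · rw [h0, zero_mul]; exact dvd_zero _
      refine Dvd.dvd.mul_left ?_ _
      obtain ⟨j, -, hj⟩ := (Nat.dvd_prime_pow hp).1 (P.card_eq_multiplicity ▸ irr_deg_dvd_card ψ)
      obtain ⟨hle, heq⟩ := hkey ψ h0
      rw [hd, hj] at hle heq
      have hjle : n - k ≤ j := (Nat.pow_le_pow_iff_right hp.one_lt).1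
        (Nat.le_of_mul_le_mul_left hle (Nat.pos_of_ne_zero Subgroup.index_ne_zero_of_finite))
      rw [hj]
      refine pow_dvd_pow p (lt_of_le_of_ne hjle fun e => hno ?_)
      exact ⟨P, _, IsIrrCharacter.isCharacter ψ.2, heq (by rw [e])⟩
    rw [hd, pow_succ, mul_comm (P : Subgroup G).index, Nat.mul_dvd_mul_iff_left (pow_pos hp.pos _)]
      at hdvd
    exact hpi hdvd
  · rintro ⟨P, θ, hθ, he⟩
    haveI := Fintype.ofFinite (P : Subgroup G)
    obtain ⟨m, hm⟩ := IsCharacter.exists_decomp hθ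
    have h1 : (Cfsg.charDegree (χ : G → ℂ) : ℂ) = ((P : Subgroup G).index : ℂ) * θ 1 := by
      rw [← irr_deg, he, indFun_one_apply]
    obtain ⟨ψ, hψ0, hψ⟩ : ∃ ψ, m ψ ≠ 0 ∧
        Cfsg.classInner (fun x : (P : Subgroup G) => (χ : G → ℂ) x) (ψ : ↥(P : Subgroup G) → ℂ) ≠ 0 := by
      by_contra hno
      push Not at hno
      apply one_ne_zero (α := ℂ)
      have hres := IsCharacter.restrict (IsIrrCharacter.isCharacter χ.2) (P : Subgroup G)
      calc (1 : ℂ) = Cfsg.classInner (Cfsg.indFun (P : Subgroup G) θ) (χ : G → ℂ) := by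
            rw [← he, classInner_self_irr χ.2]
        _ = Cfsg.classInner θ (fun x : (P : Subgroup G) => (χ : G → ℂ) x) :=
            classInner_indFun_left _ _ (IsCharacter.isClassFunction (IsIrrCharacter.isCharacter χ.2))
        _ = 0 := by
          rw [hm, classInner_sum_left]
          refine Finset.sum_eq_zero fun ψ _ => ?_
          rw [classInner_smul_left]
          by_cases h0 : m ψ = 0
          · rw [h0, Nat.cast_zero, zero_mul]
          · rw [classInner_comm_of_isCharacter (IsIrrCharacter.isCharacter ψ.2) hres, hno ψ h0, mul_zero]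
    obtain ⟨hle, -⟩ := key χ _ ψ hψ
    have hθ1 : θ 1 = ((∑ φ, m φ * Cfsg.charDegree (φ : ↥(P : Subgroup G) → ℂ) : ℕ) : ℂ) := by
      rw [hm, Finset.sum_apply, Nat.cast_sum]
      exact Finset.sum_congr rfl fun φ _ => by rw [Pi.smul_apply, smul_eq_mul, irr_deg, Nat.cast_mul]
    rw [hθ1, ← Nat.cast_mul, Nat.cast_inj] at h1
    have hge : Cfsg.charDegree (ψ : ↥(P : Subgroup G) → ℂ) ≤
        ∑ φ, m φ * Cfsg.charDegree (φ : ↥(P : Subgroup G) → ℂ) :=
      (Nat.le_mul_of_pos_left _ (Nat.pos_of_ne_zero hψ0)).trans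
        (Finset.single_le_sum (f := fun φ => m φ * Cfsg.charDegree (φ : ↥(P : Subgroup G) → ℂ))
          (fun _ _ => Nat.zero_le _) (Finset.mem_univ ψ))
    have heq : Cfsg.charDegree (χ : G → ℂ) =
        (P : Subgroup G).index * Cfsg.charDegree (ψ : ↥(P : Subgroup G) → ℂ) :=
      le_antisymm hle (h1 ▸ Nat.mul_le_mul_left _ hge)
    obtain ⟨c, hc⟩ := irr_deg_dvd_card ψ
    obtain ⟨k, -, hk⟩ := (Nat.dvd_prime_pow hp).1
      (P.card_eq_multiplicity ▸ (Dvd.intro_left _ hc.symm : c ∣ Nat.card (P : Subgroup G)))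
    refine ⟨k, ?_⟩
    rw [heq, ← hk, ← (P : Subgroup G).index_mul_card, hc]
    ring

end Cfsg.Agent.S4798
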