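import Cfsg.Statements.S4801
import Cfsg.Agent.Lib.Char.Degree

set_option autoImplicit false
open Cfsg
open Cfsg.Agent.Char Cfsg.Agent.CharX
open scoped ComplexConjugate

namespace Cfsg.Agent.S4801

/-- The codegree of an irreducible complex character χ of a finite group G is [G : ker χ] / χ(1), where ker χ is the set of elements at which χ takes the value χ(1). Let S be a finite simple group and G a finite group such that every codegree of an irreducible character of S is a codegree of an irreducible character of G. Then the order of S divides the order of G. -/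
theorem result {S : Type*} [Group S] [Finite S] (hS : IsSimpleGroup S) {G : Type*} [Group G] [Finite G] (hsub : ∀ χ : Cfsg.IrrCharacter S, ∃ ψ : Cfsg.IrrCharacter G, (Nat.card S / (Nat.card {g : S // (χ : S → ℂ) g = (χ : S → ℂ) 1} * Cfsg.charDegree (χ : S → ℂ))) = (Nat.card G / (Nat.card {g : G // (ψ : G → ℂ) g = (ψ : G → ℂ) 1} * Cfsg.charDegree (ψ : G → ℂ)))) : Nat.card S ∣ Nat.card G := by
  classical
  haveI := hS
  haveI := Fintype.ofFinite (Cfsg.IrrCharacter S)
  rw [Nat.dvd_iff_prime_pow_dvd_dvd]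
  intro p k hp hpk
  rcases Nat.eq_zero_or_pos k with rfl | hk
  · simp
  have hp1 : p ∣ Nat.card S := (dvd_pow_self p hk.ne').trans hpk
  obtain ⟨χ, hχ1, hχp⟩ : ∃ χ : Cfsg.IrrCharacter S, (χ : S → ℂ) ≠ (fun _ => 1) ∧
      ¬ p ∣ Cfsg.charDegree (χ : S → ℂ) := by
    by_contra hc
    push_neg at hc
    have hsum := sum_deg_sq (G := S)
    rw [← Finset.add_sum_erase _ _ (Finset.mem_univ (principal S))] at hsum
    have hrest : p ∣ ∑ χ ∈ Finset.univ.erase (principal S), Cfsg.charDegree (χ : S → ℂ) ^ 2 :=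
      Finset.dvd_sum fun χ hχ => by
        refine (hc χ fun e => (Finset.mem_erase.1 hχ).1 (Subtype.ext e)).trans (dvd_pow_self _ two_ne_zero)
    rw [show Cfsg.charDegree (principal S : S → ℂ) = 1 from charDegree_one] at hsum
    have : p ∣ 1 ^ 2 := (Nat.dvd_add_left hrest).1 (hsum ▸ hp1)
    exact hp.not_dvd_one (by simpa using this)
  obtain ⟨K, hK, hmem, -, hdvd⟩ := exists_ker χ
  have hKbot : K = ⊥ := (hK.eq_bot_or_eq_top).resolve_right fun h => hχ1 <| by
    have hirr := IsIrrCharacter.isCharacter χ.2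
    obtain ⟨f, hf⟩ : ∃ c : ℂ, ∀ x, (χ : S → ℂ) x = c := ⟨(χ : S → ℂ) 1, fun x => (hmem x).1 (h ▸ Subgroup.mem_top x)⟩
    haveI := Fintype.ofFinite S
    by_contra hne
    have h0 := classInner_irr_of_ne χ.2 isIrrCharacter_one hne
    simp only [Cfsg.classInner, map_one, mul_one, hf, Finset.sum_const, Finset.card_univ,
      nsmul_eq_mul, ← Nat.card_eq_fintype_card,
      inv_mul_cancel_left₀ (Nat.cast_ne_zero.2 (Nat.card_pos (α := S)).ne' : (Nat.card S : ℂ) ≠ 0)] at h0
    exact IsIrrCharacter.one_ne_zero χ.2 ((hf 1).trans h0)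
  subst hKbot
  rw [Subgroup.index_bot] at hdvd
  obtain ⟨q, hq⟩ := hdvd
  have hq' : p ^ k ∣ q :=
    ((hp.coprime_iff_not_dvd.2 hχp).pow_left k).dvd_of_dvd_mul_left (hq ▸ hpk)
  obtain ⟨ψ, hψ⟩ := hsub χ
  obtain ⟨L, -, hLmem, -, hLd⟩ := exists_ker ψ
  rw [codeg_eq χ ⊥ hmem, Subgroup.index_bot, codeg_eq ψ L hLmem, hq,
    Nat.mul_div_cancel_left _ (irr_deg_pos χ)] at hψ
  exact (hq'.trans (hψ ▸ Nat.div_dvd_of_dvd hLd)).trans L.index_dvd_card

end Cfsg.Agent.S4801
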