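import Cfsg.Statements.S4802
import Cfsg.Agent.Lib.Char.Degree
import Mathlib.Tactic.Group

set_option autoImplicit false
open Cfsg
open Cfsg.Agent.Char Cfsg.Agent.CharX
open scoped ComplexConjugate

namespace Cfsg.Agent.S4802

/-- Let N < M be normal subgroups of the finite group G and g ∈ M ∖ N. Then the conjugacy class of g is exactly M ∖ N if and only if every irreducible complex character of G whose kernel contains N takes the same value at all elements of M ∖ N, and every irreducible complex character of G whose kernel does not contain N vanishes at g. -/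
theorem result {G : Type*} [Group G] [Finite G] (N M : Subgroup G) [N.Normal] [M.Normal] (hNM : N < M) (g : G) (hgM : g ∈ M) (hgN : g ∉ N) : {h : G | IsConj g h} = (M : Set G) \ (N : Set G) ↔ ((∀ χ : Cfsg.IrrCharacter G, (∀ x ∈ N, (χ : G → ℂ) x = (χ : G → ℂ) 1) → ∀ x ∈ M, x ∉ N → ∀ y ∈ M, y ∉ N → (χ : G → ℂ) x = (χ : G → ℂ) y) ∧ (∀ χ : Cfsg.IrrCharacter G, (∃ x ∈ N, (χ : G → ℂ) x ≠ (χ : G → ℂ) 1) → (χ : G → ℂ) g = 0)) := by
  classical
  haveI := Fintype.ofFinite G
  have hcls : ∀ χ : Cfsg.IrrCharacter G, ∀ a b, IsConj a b → (χ : G → ℂ) a = (χ : G → ℂ) b := fun χ a b h =>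
    isClassFunction_iff.mp (IsCharacter.isClassFunction (IsIrrCharacter.isCharacter χ.2)) a b h
  constructor
  · intro h
    have hall : ∀ x ∈ M, x ∉ N → IsConj g x := fun x hx hxN =>
      (Set.ext_iff.1 h x).2 ⟨hx, hxN⟩
    refine ⟨fun χ _ x hx hxN y hy hyN => hcls χ x y ((hall x hx hxN).symm.trans (hall y hy hyN)), fun χ hχ => ?_⟩
    haveI := Fintype.ofFinite N
    have hsum := sum_coset_eq_zero χ.2 N hχ g
    rw [Finset.sum_congr rfl (fun (n : N) _ => (hcls χ g (g * (n : G)) (hall _ (M.mul_mem hgM (hNM.le n.2))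
      (fun hm => hgN (by simpa using N.mul_mem hm (N.inv_mem n.2))))).symm),
      Finset.sum_const, Finset.card_univ, nsmul_eq_mul, mul_eq_zero] at hsum
    exact hsum.resolve_left (Nat.cast_ne_zero.2 Fintype.card_ne_zero)
  · rintro ⟨hcon, hvan⟩
    ext x
    simp only [Set.mem_setOf_eq, Set.mem_sdiff, SetLike.mem_coe]
    constructor
    · intro hx
      obtain ⟨c, rfl⟩ := isConj_iff.1 hx
      exact ⟨Subgroup.Normal.conj_mem inferInstance g hgM c, fun hm => hgN (by
        simpa [mul_assoc] using Subgroup.Normal.conj_mem inferInstance _ hm c⁻¹)⟩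
    · rintro ⟨hxM, hxN⟩
      by_contra hno
      have h0 := column_orth_of_not_isConj hno
      rw [← Finset.sum_filter_add_sum_filter_not Finset.univ
        (fun χ : Cfsg.IrrCharacter G => ∀ y ∈ N, (χ : G → ℂ) y = (χ : G → ℂ) 1)] at h0
      rw [Finset.sum_eq_zero (s := Finset.filter (fun χ : Cfsg.IrrCharacter G => ¬ _) _) (fun χ hχ => by
        have := (Finset.mem_filter.1 hχ).2
        push_neg at this
        rw [hvan χ this, zero_mul]), add_zero,
        Finset.sum_congr rfl (fun χ hχ => by
          rw [← hcon χ (Finset.mem_filter.1 hχ).2 g hgM hgN x hxM hxN, Complex.mul_conj])] at h0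
      rw [← Complex.ofReal_sum, Complex.ofReal_eq_zero,
        Finset.sum_eq_zero_iff_of_nonneg (fun χ _ => Complex.normSq_nonneg _)] at h0
      have := h0 (principal G) (Finset.mem_filter.2 ⟨Finset.mem_univ _, fun _ _ => rfl⟩)
      simp [principal] at this

end Cfsg.Agent.S4802
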