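import Cfsg.Statements.S4807
import Cfsg.Agent.Lib.RelMcKay.Main

set_option autoImplicit false
open Cfsg

namespace Cfsg.Agent.S4807

/-- Let p be a prime and G a finite p-solvable group, L a normal subgroup of G, S a Sylow p-subgroup of G and P the subgroup generated by L and S (so P/L is a Sylow p-subgroup of G/L), and let ν be an irreducible complex character of L that is invariant under conjugation by every element of P. Let N be the normalizer of P in G (it contains L). Then the number of irreducible characters of G of degree prime to p lying over ν (restriction to L not orthogonal to ν) equals the number of irreducible characters of N of degree prime to p lying over ν. -/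
theorem result {G : Type*} [Group G] [Finite G] (p : ℕ) [Fact p.Prime] (hG : Cfsg.IsPSolvable p G) (L : Subgroup G) [L.Normal] (S : Sylow p G) (P : Subgroup G) (hP : P = L ⊔ (S : Subgroup G)) (hLN : L ≤ (Subgroup.normalizer ((P : Subgroup G) : Set G))) (ν : Cfsg.IrrCharacter ↥L) (hν : ∀ x ∈ P, Cfsg.IsConjCharOf L x (ν : ↥L → ℂ) (ν : ↥L → ℂ)) : Nat.card {χ : Cfsg.IrrCharacter G // ¬ p ∣ Cfsg.charDegree (χ : G → ℂ) ∧ (∑ᶠ l : ↥L, (χ : G → ℂ) (l : G) * (starRingEnd ℂ) ((ν : ↥L → ℂ) l)) ≠ 0} = Nat.card {ψ : Cfsg.IrrCharacter ↥(Subgroup.normalizer ((P : Subgroup G) : Set G)) // ¬ p ∣ Cfsg.charDegree (ψ : ↥(Subgroup.normalizer ((P : Subgroup G) : Set G)) → ℂ) ∧ (∑ᶠ l : ↥L, (ψ : ↥(Subgroup.normalizer ((P : Subgroup G) : Set G)) → ℂ) (Subgroup.inclusion hLN l) * (starRingEnd ℂ) ((ν : ↥L → ℂ) l)) ≠ 0} := by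
  haveI := Fintype.ofFinite L
  open Cfsg.Agent.RelMcKay in
  have hmain := holds (p := p) (L.relIndex ⊤) G ⊤ L (S : Subgroup G) le_top
    (Subgroup.normalizer_eq_top_iff.2 ‹L.Normal›).ge
    ((Cfsg.Agent.PSolvable.congr Subgroup.topEquiv).2 hG) le_top S.isPGroup'
    (by rw [Subgroup.relIndex_top_right]; exact S.not_dvd_index) rfl ν
    (fun s hs => hν s (hP ▸ Subgroup.mem_sup_right hs))
  subst hP
  open Cfsg.Agent.RelMcKay in
  refine Eq.trans (Eq.trans ?_ hmain) ?_
  · refine Eq.trans ?_ (cnt_congr (p := p) (Subgroup.topEquiv (G := G)).symm (MulEquiv.refl L)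
      (ι := L.subtype) (fun l => rfl) (fun l => rfl))
    exact Nat.card_congr (Equiv.subtypeEquivRight fun χ => and_congr Iff.rfl
      (lies_iff_finsum (ι := L.subtype) (χ := (χ : G → ℂ)) (ν := (ν : L → ℂ))).symm)
  · refine Eq.trans (cnt_congr (p := p) (MulEquiv.subgroupCongr (top_inf_eq _)) (MulEquiv.refl L)
      (ι' := Subgroup.inclusion hLN) (fun l => rfl) (fun l => rfl)) ?_
    exact Nat.card_congr (Equiv.subtypeEquivRight fun χ => and_congr Iff.rfl lies_iff_finsum)

end Cfsg.Agent.S4807
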