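import Cfsg.Statements.S4808
import Cfsg.Agent.Lib.Char.Degree

set_option autoImplicit false
open Cfsg
open Cfsg.Agent.Char Cfsg.Agent.CharX
open scoped ComplexConjugate

namespace Cfsg.Agent.S4808

universe u

open scoped Classical in
theorem key (p : ℕ) (hp : p.Prime) : ∀ (n : ℕ) (G : Type u) [Group G] [Finite G], Nat.card G ≤ n →
    p ∣ Nat.card G → ∃ χ : Cfsg.IrrCharacter G,
      p ∣ (Nat.card G / (Nat.card {g : G // (χ : G → ℂ) g = (χ : G → ℂ) 1} * Cfsg.charDegree (χ : G → ℂ))) := by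
  intro n
  induction n with
  | zero => intro G _ _ h; exact absurd h (by have := Nat.card_pos (α := G); omega)
  | succ n ih =>
    intro G _ _ hn hpG
    haveI : Nontrivial G := Finite.one_lt_card_iff_nontrivial.1
      (lt_of_lt_of_le hp.one_lt (Nat.le_of_dvd Nat.card_pos hpG))
    by_cases hex : ∃ N : Subgroup G, N.Normal ∧ N ≠ ⊥ ∧ p ∣ N.index
    · obtain ⟨N, hN, hN0, hpN⟩ := hex
      haveI := hN
      have hlt : Nat.card (G ⧸ N) ≤ n := by
        have h1 := N.index_mul_card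
        have h2 : 1 < Nat.card N := (Subgroup.one_lt_card_iff_ne_bot N).2 hN0
        have h3 : 0 < N.index := Nat.pos_of_ne_zero N.index_ne_zero_of_finite
        show N.index ≤ n
        nlinarith
      obtain ⟨χ', hχ'⟩ := ih (G ⧸ N) hlt hpN
      refine ⟨infl N χ', ?_⟩
      obtain ⟨K', hK', hmem', -, -⟩ := exists_ker χ'
      rw [codeg_eq χ' K' hmem'] at hχ'
      have hmem : ∀ g, g ∈ K'.comap (QuotientGroup.mk' N) ↔ (infl N χ' : G → ℂ) g = (infl N χ' : G → ℂ) 1 :=
        fun g => by rw [Subgroup.mem_comap, hmem']; rfl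
      rw [codeg_eq (infl N χ') _ hmem, Subgroup.index_comap_of_surjective _ (QuotientGroup.mk'_surjective N),
        show Cfsg.charDegree (infl N χ' : G → ℂ) = Cfsg.charDegree (χ' : G ⧸ N → ℂ) from rfl]
      exact hχ'
    push_neg at hex
    -- a minimal normal subgroup
    have hne : ∃ m, ∃ N : Subgroup G, N.Normal ∧ N ≠ ⊥ ∧ Nat.card N = m :=
      ⟨_, ⊤, inferInstance, top_ne_bot, rfl⟩
    obtain ⟨N, hN, hN0, hNm⟩ := Nat.find_spec hne
    haveI := hN
    have hmin : ∀ M : Subgroup G, M.Normal → M ≤ N → M ≠ ⊥ → M = N := fun M hM hle hM0 =>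
      Subgroup.eq_of_le_of_card_ge hle (hNm ▸ Nat.find_le ⟨M, hM, hM0, rfl⟩)
    obtain ⟨a, m, hm, hGm⟩ := Nat.exists_eq_pow_mul_and_not_dvd (Nat.card_pos (α := G)).ne' p hp.ne_one
    have ha : 0 < a := Nat.pos_of_ne_zero fun h => hm (by
      rw [h, pow_zero, one_mul] at hGm; exact hGm ▸ hpG)
    obtain ⟨χ, hχN, hχp⟩ : ∃ χ : Cfsg.IrrCharacter G,
        (¬ ∀ x ∈ N, (χ : G → ℂ) x = (χ : G → ℂ) 1) ∧ ¬ p ^ a ∣ Cfsg.charDegree (χ : G → ℂ) := by
      by_contra hc
      push_neg at hc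
      have hsum := sum_deg_sq (G := G)
      rw [← Finset.sum_filter_add_sum_filter_not Finset.univ
        (fun χ : Cfsg.IrrCharacter G => ∀ x ∈ N, (χ : G → ℂ) x = (χ : G → ℂ) 1),
        sum_trivialOn N (fun f => Cfsg.charDegree f ^ 2)] at hsum
      have h1 : ∑ χ' : Cfsg.IrrCharacter (G ⧸ N), Cfsg.charDegree (infl N χ' : G → ℂ) ^ 2 = N.index :=
        sum_deg_sq (G := G ⧸ N)
      rw [h1] at hsum
      refine hex N hN hN0 ((Nat.dvd_add_left (Finset.dvd_sum fun χ hχ => ?_)).1 (hsum ▸ hpG))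
      obtain ⟨x, hx, hx'⟩ : ∃ x ∈ N, (χ : G → ℂ) x ≠ (χ : G → ℂ) 1 := by
        have := (Finset.mem_filter.1 hχ).2
        push_neg at this; exact this
      exact ((dvd_pow_self p ha.ne').trans (hc χ ⟨x, hx, hx'⟩)).trans (dvd_pow_self _ two_ne_zero)
    refine ⟨χ, ?_⟩
    obtain ⟨K, hK, hmem, -, hd⟩ := exists_ker χ
    rw [codeg_eq χ K hmem]
    have hKN : K ⊓ N = ⊥ := by
      by_contra h
      haveI := hK
      have := hmin (K ⊓ N) inferInstance inf_le_right h
      exact hχN fun x hx => (hmem x).1 ((this.symm ▸ hx : x ∈ K ⊓ N)).1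
    have hKp : ¬ p ∣ Nat.card K := by
      have hinj : Function.Injective ((QuotientGroup.mk' N).comp K.subtype) := by
        rw [injective_iff_map_eq_one]
        intro x hx
        have : (x : G) ∈ K ⊓ N := ⟨x.2, (QuotientGroup.eq_one_iff _).1 hx⟩
        rw [hKN, Subgroup.mem_bot] at this
        exact Subtype.ext this
      have hdvd : Nat.card K ∣ N.index := Subgroup.card_dvd_of_injective _ hinj
      exact fun h => hex N hN hN0 (h.trans hdvd)
    by_contra hnot
    obtain ⟨q, hq⟩ := hd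
    rw [hq, Nat.mul_div_cancel_left _ (irr_deg_pos χ)] at hnot
    have hpa : p ^ a ∣ Cfsg.charDegree (χ : G → ℂ) * q * Nat.card K :=
      ⟨m, by rw [← hq, K.index_mul_card, hGm]⟩
    exact hχp (((hp.coprime_iff_not_dvd.2 hnot).pow_left a).dvd_of_dvd_mul_right
      (((hp.coprime_iff_not_dvd.2 hKp).pow_left a).dvd_of_dvd_mul_right hpa))

/-- The codegree of an irreducible complex character χ of a finite group G is [G : ker χ] / χ(1), where ker χ is the set of elements at which χ takes the value χ(1). A prime divides the order of G if and only if it divides the codegree of some irreducible complex character of G. -/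
theorem result {G : Type*} [Group G] [Finite G] (p : ℕ) (hp : p.Prime) : p ∣ Nat.card G ↔ ∃ χ : Cfsg.IrrCharacter G, p ∣ (Nat.card G / (Nat.card {g : G // (χ : G → ℂ) g = (χ : G → ℂ) 1} * Cfsg.charDegree (χ : G → ℂ))) := by
  constructor
  swap
  · rintro ⟨χ, hχ⟩
    obtain ⟨K, -, hmem, -, hd⟩ := exists_ker χ
    rw [codeg_eq χ K hmem] at hχ
    exact (hχ.trans (Nat.div_dvd_of_dvd hd)).trans K.index_dvd_card
  revert G
  intro G _ _
  exact key p hp (Nat.card G) G le_rfl

end Cfsg.Agent.S4808
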