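import Cfsg.Statements.S4813
import Cfsg.Agent.Lib.Blocks.PrimeDegreesThree

set_option autoImplicit false
open Cfsg

namespace Cfsg.Agent.S4813

/-- If every irreducible complex character of the finite group G of degree greater than one has prime degree, then G has at most three distinct irreducible character degrees. -/
theorem result {G : Type*} [Group G] [Finite G] (hprime : ∀ d ∈ Cfsg.charDegrees G, d = 1 ∨ d.Prime) : Nat.card ↥(Cfsg.charDegrees G) ≤ 3 := by
  haveI : Fintype G := Fintype.ofFinite G
  obtain ⟨a, b, hab⟩ := Cfsg.Agent.PrimeThree.exists_three (G := G) fun χ => hprime _ ⟨χ, rfl⟩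
  rw [Nat.card_coe_set_eq]
  refine le_trans (Set.ncard_le_ncard (t := ({1, a, b} : Set ℕ)) ?_ (Set.toFinite _)) ?_
  · rintro d ⟨χ, rfl⟩
    exact hab χ
  · exact (Set.ncard_insert_le _ _).trans (Nat.succ_le_succ ((Set.ncard_insert_le _ _).trans
      (Nat.succ_le_succ (Set.ncard_singleton _).le)))

end Cfsg.Agent.S4813
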