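import Cfsg.Statements.S4814
import Cfsg.Agent.Lib.Char.Convolution

set_option autoImplicit false
open Cfsg
open Cfsg.Agent.Char Cfsg.Agent.CharX
open scoped ComplexConjugate

namespace Cfsg.Agent.S4814

/-- Let G be a finite group such that the sum, over the irreducible complex characters χ of G, of 1/χ(1)² is less than 2. Then every element of G is a product of two commutators. -/
theorem result {G : Type*} [Group G] [Finite G]
    (h : ∑ᶠ χ : Cfsg.IrrCharacter G, 1 / ‖(χ : G → ℂ) 1‖ ^ 2 < (2 : ℝ)) (g : G) :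
    ∃ a b c d : G, (a * b * a⁻¹ * b⁻¹) * (c * d * c⁻¹ * d⁻¹) = g := by
  classical
  haveI := Fintype.ofFinite G
  rw [finsum_eq_sum_of_fintype] at h
  have hdeg : ∀ χ : Cfsg.IrrCharacter G, ‖(χ : G → ℂ) 1‖ = (Cfsg.charDegree (χ : G → ℂ) : ℝ) := fun χ => by
    rw [irr_deg, Complex.norm_natCast]
  -- the group is perfect
  have hperf : (commutator G).index = 1 := by
    rw [← card_linear, Nat.card_eq_fintype_card]
    by_contra hne
    have h1 : 1 ≤ Fintype.card {χ : Cfsg.IrrCharacter G // (χ : G → ℂ) 1 = 1} :=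
      Fintype.card_pos_iff.2 ⟨⟨principal G, rfl⟩⟩
    have h2 : (2 : ℝ) ≤ (Fintype.card {χ : Cfsg.IrrCharacter G // (χ : G → ℂ) 1 = 1} : ℝ) := by
      exact_mod_cast (show 2 ≤ Fintype.card {χ : Cfsg.IrrCharacter G // (χ : G → ℂ) 1 = 1} by omega)
    have h3 : ∑ χ ∈ Finset.univ.filter (fun χ : Cfsg.IrrCharacter G => (χ : G → ℂ) 1 = 1),
        1 / ‖(χ : G → ℂ) 1‖ ^ 2 ≤ ∑ χ : Cfsg.IrrCharacter G, 1 / ‖(χ : G → ℂ) 1‖ ^ 2 :=
      Finset.sum_le_sum_of_subset_of_nonneg (Finset.filter_subset _ _) fun χ _ _ => by positivity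
    rw [Finset.sum_congr rfl (fun χ hχ => by rw [(Finset.mem_filter.1 hχ).2, norm_one, one_pow, div_one]),
      Finset.sum_const, nsmul_eq_mul, mul_one, ← Fintype.card_subtype] at h3
    linarith
  let cN : G → ℂ := fun z => (Nat.card {xy : G × G // xy.1 * xy.2 * xy.1⁻¹ * xy.2⁻¹ = z} : ℂ)
  by_contra hno
  push_neg at hno
  have hzero : ∑ z : G, cN z * cN (z⁻¹ * g) = 0 := by
    refine Finset.sum_eq_zero fun z _ => ?_
    by_contra hne
    obtain ⟨h1, h2⟩ := mul_ne_zero_iff.1 hne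
    simp only [cN, ne_eq, Nat.cast_eq_zero] at h1 h2
    obtain ⟨⟨⟨a, b⟩, hab⟩⟩ := (Nat.card_ne_zero.1 h1).1
    obtain ⟨⟨⟨c, d⟩, hcd⟩⟩ := (Nat.card_ne_zero.1 h2).1
    exact hno a b c d (by rw [hab, hcd, mul_inv_cancel_left])
  simp only [cN, card_commutator_eq] at hzero
  have hval : ∑ χ : Cfsg.IrrCharacter G, (χ : G → ℂ) g / (χ : G → ℂ) 1 ^ 3 = 0 := by
    have hG : (Nat.card G : ℂ) ≠ 0 := Nat.cast_ne_zero.2 Nat.card_pos.ne'
    refine (mul_eq_zero.1 (?_ : (Nat.card G : ℂ) ^ 3 * _ = 0)).resolve_left (pow_ne_zero 3 hG)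
    rw [← hzero, Finset.mul_sum]
    simp_rw [Finset.mul_sum, Finset.sum_mul]
    conv_rhs => rw [Finset.sum_comm]
    refine Finset.sum_congr rfl fun χ _ => ?_
    conv_rhs => rw [Finset.sum_comm]
    rw [Finset.sum_eq_single χ]
    · have := convolution χ χ g
      rw [if_pos rfl] at this
      have hd := IsIrrCharacter.one_ne_zero χ.2
      calc (Nat.card G : ℂ) ^ 3 * ((χ : G → ℂ) g / (χ : G → ℂ) 1 ^ 3)
          = (Nat.card G : ℂ) ^ 2 / (χ : G → ℂ) 1 ^ 2 * ∑ z : G, (χ : G → ℂ) z * (χ : G → ℂ) (z⁻¹ * g) := by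
            rw [this]; field_simp
        _ = _ := by
            rw [Finset.mul_sum]; refine Finset.sum_congr rfl fun z _ => ?_; ring
    · intro ψ _ hne
      have := convolution ψ χ g
      rw [if_neg hne] at this
      calc _ = (Nat.card G : ℂ) ^ 2 / ((ψ : G → ℂ) 1 * (χ : G → ℂ) 1) *
            ∑ z : G, (ψ : G → ℂ) z * (χ : G → ℂ) (z⁻¹ * g) := by
            rw [Finset.mul_sum]; refine Finset.sum_congr rfl fun z _ => ?_; ring
        _ = 0 := by rw [this, mul_zero]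
    · intro hne; exact absurd (Finset.mem_univ χ) hne
  rw [← Finset.add_sum_erase _ _ (Finset.mem_univ (principal G))] at hval h
  simp only [principal, one_pow, norm_one, div_one] at hval h
  have hb : ‖∑ χ ∈ Finset.univ.erase (principal G), (χ : G → ℂ) g / (χ : G → ℂ) 1 ^ 3‖ ≤
      ∑ χ ∈ Finset.univ.erase (principal G), 1 / ‖(χ : G → ℂ) 1‖ ^ 2 := by
    refine (norm_sum_le _ _).trans (Finset.sum_le_sum fun χ _ => ?_)
    obtain ⟨n, ρ, -, hρ⟩ := χ.2
    have hle := norm_char_le ρ g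
    have hn : ‖(χ : G → ℂ) 1‖ = (n : ℝ) := by
      rw [← hρ, Representation.char_one, Complex.norm_natCast, Module.finrank_fin_fun]
    rw [hρ, Module.finrank_fin_fun] at hle
    have hpos : (0 : ℝ) < n := hn ▸ norm_pos_iff.2 (IsIrrCharacter.one_ne_zero χ.2)
    rw [norm_div, norm_pow, hn, div_le_div_iff₀ (by positivity) (by positivity)]
    nlinarith
  simp only [principal] at hb
  rw [add_eq_zero_iff_neg_eq] at hval
  rw [← hval, norm_neg, norm_one] at hb
  linarith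

end Cfsg.Agent.S4814
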