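import Cfsg.Statements.S4825
import Cfsg.Agent.Lib.Blocks.Congruence
import Cfsg.Agent.Lib.Char.Clifford
-- import your own Cfsg.Agent.* helpers here

set_option autoImplicit false
open Cfsg

open Cfsg.Agent.Char Cfsg.Agent.CharX Cfsg.Agent.Blocks
open scoped ComplexConjugate

namespace Cfsg.Agent.S4825

/-- Let p be a prime, G a finite group with Sylow p-subgroup P, M a maximal ideal of the algebraic integers containing p, and B a p-block of G with defect group P. Let N be a normal subgroup of G not containing P and θ an irreducible character of N. Then the number of irreducible characters in B of degree prime to p lying over θ (having θ as a constituent on restriction to N) is either 0 or at least 2, and when p ≤ 3 it is divisible by p. -/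
theorem result {G : Type*} [Group G] [Fintype G] (p : ℕ) [Fact p.Prime] (P : Sylow p G) (M : Ideal Cfsg.AlgInt) (hM : Cfsg.IsPModular p M) (B : Set (Cfsg.IrrCharacter G)) (hB : Cfsg.IsPBlock M B) (hBP : Cfsg.IsDefectGroup p M B P) (N : Subgroup G) [N.Normal] [Fintype N] (hPN : ¬ (P : Subgroup G) ≤ N) (θ : Cfsg.IrrCharacter N) :
    (Nat.card {χ : Cfsg.IrrCharacter G // χ ∈ B ∧ ¬ p ∣ Cfsg.charDegree (χ : G → ℂ) ∧ Cfsg.classInner (fun n : N => (χ : G → ℂ) n) (θ : N → ℂ) ≠ 0} = 0 ∨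
      2 ≤ Nat.card {χ : Cfsg.IrrCharacter G // χ ∈ B ∧ ¬ p ∣ Cfsg.charDegree (χ : G → ℂ) ∧ Cfsg.classInner (fun n : N => (χ : G → ℂ) n) (θ : N → ℂ) ≠ 0}) ∧
    (p ≤ 3 → p ∣ Nat.card {χ : Cfsg.IrrCharacter G // χ ∈ B ∧ ¬ p ∣ Cfsg.charDegree (χ : G → ℂ) ∧ Cfsg.classInner (fun n : N => (χ : G → ℂ) n) (θ : N → ℂ) ≠ 0}) := by
  classical
  haveI := IsPModular.isPrime hM
  have hp : p.Prime := Fact.out
  obtain ⟨x, hxP, hxN⟩ := SetLike.not_le_iff_exists.1 hPN
  obtain ⟨k, hk⟩ := IsPGroup.iff_orderOf.1 P.isPGroup' ⟨x, hxP⟩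
  rw [← Subgroup.orderOf_coe] at hk
  choose m hm using fun χ : Cfsg.IrrCharacter G => IsCharacter.exists_classInner_nat
    (IsCharacter.restrict (irr_isCharacter χ) N) (IsIrrCharacter.isCharacter θ.2)
  have hdvd := dvd_sum_over hM hB N θ.2 m hm (x := x) ⟨k, hk⟩ hxN
  rw [Nat.card_eq_fintype_card, Fintype.card_subtype]
  set S := Finset.univ.filter fun χ : Cfsg.IrrCharacter G => χ ∈ B ∧
    ¬ p ∣ Cfsg.charDegree (χ : G → ℂ) ∧
    Cfsg.classInner (fun n : N => (χ : G → ℂ) n) (θ : N → ℂ) ≠ 0 with hSdef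
  set c := (inertia N (θ : N → ℂ)).index * Cfsg.charDegree (θ : N → ℂ) with hc
  have hdeg : ∀ χ ∈ S, Cfsg.charDegree (χ : G → ℂ) = m χ * c := by
    intro χ hχ
    have h := clifford_degree N χ.2 θ.2 (Finset.mem_filter.1 hχ).2.2.2
    rw [irr_deg χ, irr_deg θ, hm] at h
    rw [hc, ← mul_assoc]
    exact_mod_cast h
  have hnd : ∀ χ ∈ S, ¬ p ∣ m χ ∧ ¬ p ∣ c := by
    intro χ hχ
    have h := (Finset.mem_filter.1 hχ).2.2.1
    rw [hdeg χ hχ] at h
    exact ⟨fun e => h (e.mul_right _), fun e => h (e.mul_left _)⟩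
  have hSd : p ∣ ∑ χ ∈ S, m χ * (m χ * c) := by
    rw [← Finset.sum_filter_add_sum_filter_not _ (fun χ : Cfsg.IrrCharacter G => χ ∈ S)] at hdvd
    rw [Nat.dvd_add_left (Finset.dvd_sum fun χ hχ => ?_)] at hdvd
    · have hf : (Finset.univ.filter (· ∈ B)).filter (· ∈ S) = S := by
        ext χ
        simp only [hSdef, Finset.mem_filter, Finset.mem_univ, true_and]
        exact ⟨fun h => h.2, fun h => ⟨h.1, h⟩⟩
      rw [hf, Finset.sum_congr rfl fun χ hχ => by rw [hdeg χ hχ]] at hdvd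
      exact hdvd
    · rw [Finset.mem_filter, Finset.mem_filter] at hχ
      obtain ⟨⟨-, hχB⟩, hχS⟩ := hχ
      by_cases h0 : m χ = 0
      · simp [h0]
      refine Dvd.dvd.mul_left (not_not.1 fun hd => hχS (Finset.mem_filter.2
        ⟨Finset.mem_univ _, hχB, hd, ?_⟩)) _
      rw [hm]; exact_mod_cast h0
  refine ⟨?_, fun hp3 => ?_⟩
  · by_contra hh
    push Not at hh
    obtain ⟨χ, hχ⟩ := Finset.card_eq_one.1 (show S.card = 1 by omega)
    rw [hχ, Finset.sum_singleton] at hSd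
    have h := hnd χ (hχ ▸ Finset.mem_singleton_self χ)
    rcases hp.dvd_mul.1 hSd with e | e
    · exact h.1 e
    · rcases hp.dvd_mul.1 e with e | e
      · exact h.1 e
      · exact h.2 e
  · rcases S.eq_empty_or_nonempty with he | ⟨χ₀, hχ₀⟩
    · simp [he]
    have hsq : ∀ χ ∈ S, m χ * (m χ * c) ≡ c [MOD p] := by
      intro χ hχ
      have h := (hnd χ hχ).1
      rw [← mul_assoc]
      conv_rhs => rw [← one_mul c]
      refine Nat.ModEq.mul_right _ ?_
      have h2 := hp.two_le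
      rw [Nat.ModEq, Nat.mul_mod]
      rw [Nat.dvd_iff_mod_eq_zero] at h
      have h3 := Nat.mod_lt (m χ) hp.pos
      interval_cases p <;> interval_cases (m χ % _) <;> simp_all
    have hsum : ∑ χ ∈ S, m χ * (m χ * c) ≡ S.card * c [MOD p] := by
      rw [← smul_eq_mul, ← Finset.sum_const]
      exact Nat.ModEq.sum hsq
    have := Nat.modEq_zero_iff_dvd.1 (hsum.symm.trans (Nat.modEq_zero_iff_dvd.2 hSd))
    exact (hp.dvd_mul.1 this).resolve_right (hnd χ₀ hχ₀).2

end Cfsg.Agent.S4825
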