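import Cfsg.Statements.S4837
import Cfsg.Agent.Lib.Char.TwoClasses
import Mathlib.Tactic.Ring

set_option autoImplicit false
open Cfsg
open Cfsg.Agent.Char Cfsg.Agent.CharX
open scoped ComplexConjugate

namespace Cfsg.Agent.S4837

/-- Let G be a finite group of order greater than 2 with an irreducible character χ nonzero on exactly two conjugacy classes, and let N be the set of elements where χ is nonzero, given as a nontrivial normal p-subgroup of G for the prime p. Then for every nonidentity x in N the centralizer C_G(x) is a Sylow p-subgroup of G, and for every irreducible character λ ≠ 1 of N the stabilizer of λ in G (its inertia group) is a Sylow p-subgroup of G. -/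
theorem result {G : Type*} [Group G] [Finite G] (hG : 2 < Nat.card G) (χ : Cfsg.IrrCharacter G) (hχ : Nat.card {C : ConjClasses G // ∃ g ∈ C.carrier, (χ : G → ℂ) g ≠ 0} = 2) (p : ℕ) [Fact p.Prime] (N : Subgroup G) [N.Normal] (hN : ∀ g : G, g ∈ N ↔ (χ : G → ℂ) g ≠ 0) (hNp : IsPGroup p N) (hN1 : N ≠ ⊥) :
    (∀ x ∈ N, x ≠ 1 → ∃ P : Sylow p G, Subgroup.centralizer ({x} : Set G) = P) ∧
      (∀ μ : Cfsg.IrrCharacter N, (μ : N → ℂ) ≠ (fun _ => (1 : ℂ)) → ∃ P : Sylow p G, ∀ g : G, g ∈ (P : Subgroup G) ↔ ∀ n n' : N, (n' : G) = g * n * g⁻¹ → (μ : N → ℂ) n' = (μ : N → ℂ) n) := by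
  classical
  haveI := Fintype.ofFinite G
  obtain ⟨N', -, -, hsupp', htrans, htriv, hfaith, hrel⟩ := TwoClasses.structure_exists hG χ hχ
  obtain rfl : N' = N := SetLike.ext fun g => (hsupp' g).trans (hN g).symm
  obtain ⟨m, a, hma, hGcard, hdeg⟩ := TwoClasses.numerology χ N' hN1 hN hrel p hNp
  obtain ⟨b, hb⟩ := (IsPGroup.iff_card).1 hNp
  have hq2 : 1 < Nat.card N' := (Subgroup.one_lt_card_iff_ne_bot N').2 hN1
  have hb0 : 0 < b := Nat.pos_of_ne_zero fun h => by rw [hb, h, pow_zero] at hq2; exact lt_irrefl _ hq2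
  have hq1 : ¬ p ∣ Nat.card N' - 1 := fun h => by
    have h' : p ∣ Nat.card N' := hb ▸ dvd_pow_self p hb0.ne'
    have := Nat.dvd_sub h' h
    rw [show Nat.card N' - (Nat.card N' - 1) = 1 by omega] at this
    exact (Fact.out : p.Prime).not_dvd_one this
  have hm0 : m ≠ 0 := hma ▸ pow_ne_zero a (Fact.out : p.Prime).ne_zero
  have hP : ∀ H : Subgroup G, Nat.card H = Nat.card N' * m ^ 2 → ∃ P : Sylow p G, (P : Subgroup G) = H := by
    intro H hH
    refine ⟨Sylow.ofCard H ?_, rfl⟩
    have hpr : p.Prime := Fact.out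
    rw [hH, hGcard, Nat.factorization_mul (mul_ne_zero (by omega) (by omega)) (pow_ne_zero 2 hm0),
      Nat.factorization_mul (by omega) (by omega), hma, hb, ← pow_mul, hpr.factorization_pow,
      hpr.factorization_pow, ← pow_add]
    congr 1
    rw [Finsupp.add_apply, Finsupp.add_apply, Nat.factorization_eq_zero_of_not_dvd (hb ▸ hq1),
      Finsupp.single_eq_same, Finsupp.single_eq_same]
    simp
  have hcent : ∀ x ∈ N', x ≠ 1 → Nat.card (Subgroup.centralizer ({x} : Set G)) = Nat.card N' * m ^ 2 := by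
    intro x hx hx1
    have h := (Subgroup.centralizer ({x} : Set G)).index_mul_card
    rw [TwoClasses.card_centralizer_mem N' x hx hx1 htrans, hGcard] at h
    refine Nat.eq_of_mul_eq_mul_left (by omega : 0 < Nat.card N' - 1) (h.trans ?_)
    ring
  refine ⟨fun x hx hx1 => ?_, fun μ hμ => ?_⟩
  · obtain ⟨P, hP'⟩ := hP _ (hcent x hx hx1)
    exact ⟨P, hP'.symm⟩
  have hmin : ∀ K : Subgroup G, K.Normal → K ≠ ⊥ → N' ≤ K := fun K hK hK0 => by
    haveI := hK; exact TwoClasses.le_of_normal χ N' htriv hfaith K hK0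
  obtain ⟨r, -, hEl⟩ := TwoClasses.exists_prime N' hN1 htrans hmin
  haveI := hEl.1
  haveI := Fintype.ofFinite N'
  have hμ1 : (μ : N' → ℂ) 1 = 1 := by
    obtain ⟨n, ρ, hρ, hρμ⟩ := μ.2
    haveI := hρ
    rw [← hρμ, Representation.char_one, Representation.IsIrreducible.finrank_eq_one_of_isMulCommutative ρ,
      Nat.cast_one]
  let μg : G → N' → ℂ := fun g n => (μ : N' → ℂ) (MulAut.conjNormal g n)
  have hμg : ∀ g, Cfsg.IsIrrCharacter N' (μg g) := fun g =>
    IsIrrCharacter.comp μ.2 (MulAut.conjNormal g : N' ≃* N').toMonoidHom (MulAut.conjNormal g).surjective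
  let S : Subgroup G :=
    { carrier := {g | μg g = (μ : N' → ℂ)}
      one_mem' := by
        funext n; simp [μg]
      mul_mem' := fun {g h} hg hh => by
        funext n
        have h1 := congrFun hg (MulAut.conjNormal h n)
        have h2 := congrFun hh n
        simp only [μg] at h1 h2 ⊢
        rw [map_mul, MulAut.mul_apply, h1, h2]
      inv_mem' := fun {g} hg => by
        funext n
        have h1 := congrFun hg (MulAut.conjNormal g⁻¹ n)
        simp only [μg] at h1 ⊢
        rw [← MulAut.mul_apply, ← map_mul, mul_inv_cancel, map_one] at h1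
        exact h1.symm }
  have hmemS : ∀ g, g ∈ S ↔ ∀ n n' : N', (n' : G) = g * n * g⁻¹ → (μ : N' → ℂ) n' = (μ : N' → ℂ) n := fun g => by
    constructor
    · intro h n n' he
      rw [show n' = MulAut.conjNormal g n from Subtype.ext (by rw [MulAut.conjNormal_apply, he])]
      exact congrFun h n
    · intro h
      funext n
      exact h n _ (by rw [MulAut.conjNormal_apply])
  let F : N' → ℂ := fun n => ∑ g : G, μg g n
  obtain ⟨⟨c, hc⟩, hc1⟩ := N'.ne_bot_iff_exists_ne_one.1 hN1
  have hFc : ∀ n : N', n ≠ 1 → F n = F ⟨c, hc⟩ := by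
    intro n hn
    obtain ⟨h, hh⟩ := isConj_iff.1 (htrans c hc n n.2 (fun e => hc1 (Subtype.ext e)) (fun e => hn (Subtype.ext e)))
    have hn' : n = MulAut.conjNormal h (⟨c, hc⟩ : N') := Subtype.ext (by rw [MulAut.conjNormal_apply]; exact hh.symm)
    rw [hn']
    refine Fintype.sum_equiv (Equiv.mulRight h) _ _ fun g => ?_
    simp only [μg, Equiv.coe_mulRight, map_mul, MulAut.mul_apply]
  have hFsum : ∑ n : N', F n = 0 := by
    simp only [F]
    rw [Finset.sum_comm]
    refine Finset.sum_eq_zero fun g _ => ?_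
    have hne : μg g ≠ fun _ => 1 := fun h => hμ (funext fun n => by
      have := congrFun h ((MulAut.conjNormal g).symm n)
      simpa [μg] using this)
    have := classInner_irr_of_ne (hμg g) isIrrCharacter_one hne
    simpa [Cfsg.classInner] using this
  have hF1 : F 1 = Nat.card G := by
    simp [F, μg, hμ1, Nat.card_eq_fintype_card]
  rw [← Finset.add_sum_erase _ _ (Finset.mem_univ (1 : N')),
    Finset.sum_congr rfl (fun n hn => hFc n (Finset.mem_erase.1 hn).1), Finset.sum_const, hF1,
    Finset.card_erase_of_mem (Finset.mem_univ _), Finset.card_univ, ← Nat.card_eq_fintype_card,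
    nsmul_eq_mul] at hFsum
  have hμsum : ∑ n : N', conj ((μ : N' → ℂ) n) = 0 := by
    have := classInner_irr_of_ne isIrrCharacter_one μ.2 (fun h => hμ h.symm)
    simpa [Cfsg.classInner] using this
  have hS : (Nat.card S : ℂ) * Nat.card N' = Nat.card G - F ⟨c, hc⟩ := by
    have h1 : ∀ g : G, Cfsg.classInner (μg g) (μ : N' → ℂ) = if g ∈ S then 1 else 0 := fun g => by
      rw [classInner_irr (hμg g) μ.2]; exact if_congr Iff.rfl rfl rfl
    have h2 : (Nat.card S : ℂ) = ∑ g : G, Cfsg.classInner (μg g) (μ : N' → ℂ) := by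
      simp only [h1]
      rw [Finset.sum_boole, Nat.card_eq_fintype_card, ← Fintype.card_subtype]
    have h3 : ∑ n : N', F n * conj ((μ : N' → ℂ) n) = (Nat.card S : ℂ) * Nat.card N' := by
      rw [h2, Finset.sum_mul]
      simp only [F, Finset.sum_mul]
      rw [Finset.sum_comm]
      refine Finset.sum_congr rfl fun g _ => ?_
      simp only [Cfsg.classInner]
      rw [mul_comm, ← mul_assoc, mul_inv_cancel₀ (Nat.cast_ne_zero.2 Nat.card_pos.ne'), one_mul]
    rw [← h3, ← Finset.add_sum_erase _ _ (Finset.mem_univ (1 : N')), hF1, hμ1, map_one,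
      Finset.sum_congr rfl (fun (n : N') hn => by rw [hFc n (Finset.mem_erase.1 hn).1]),
      ← Finset.mul_sum]
    rw [← Finset.add_sum_erase _ _ (Finset.mem_univ (1 : N')), hμ1, map_one] at hμsum
    linear_combination F ⟨c, hc⟩ * hμsum
  obtain ⟨P, hP'⟩ := hP S (by
    have hq1c : ((Nat.card N' - 1 : ℕ) : ℂ) = (Nat.card N' : ℂ) - 1 := by
      rw [Nat.cast_sub hq2.le, Nat.cast_one]
    have hG' : (Nat.card G : ℂ) = (Nat.card N' : ℂ) * ((Nat.card N' : ℂ) - 1) * (m : ℂ) ^ 2 := by
      rw [hGcard]; push_cast [hq1c]; ring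
    rw [hq1c] at hFsum
    have hne : (Nat.card N' : ℂ) * ((Nat.card N' : ℂ) - 1) ≠ 0 :=
      mul_ne_zero (Nat.cast_ne_zero.2 (by omega)) (by rw [← hq1c, Nat.cast_ne_zero]; omega)
    apply Nat.cast_injective (R := ℂ)
    push_cast
    refine mul_left_cancel₀ hne ?_
    linear_combination ((Nat.card N' : ℂ) - 1) * hS - hFsum + (Nat.card N' : ℂ) * hG')
  exact ⟨P, fun g => by rw [hP', hmemS]⟩

end Cfsg.Agent.S4837
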