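import Cfsg.Statements.S4838
import Cfsg.Agent.Lib.Char.TwoClasses
import Mathlib.GroupTheory.Nilpotent
import Mathlib.Tactic.Ring

set_option autoImplicit false
open Cfsg
open Cfsg.Agent.Char Cfsg.Agent.CharX
open scoped ComplexConjugate

namespace Cfsg.Agent.S4838

/-- Let G be a finite group of order greater than 2 with an irreducible character χ nonzero on exactly two conjugacy classes, N the normal p-subgroup of elements where χ is nonzero, and P a Sylow p-subgroup of G. Then (a) for every x outside N the centralizer of x in G has the same order as the centralizer of xN in G/N; (b) the centre of P lies in N, and equals N exactly when P is normal in G; (c) N, viewed inside P, is a term of the upper central series of P. -/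
theorem result {G : Type*} [Group G] [Finite G] (hG : 2 < Nat.card G) (χ : Cfsg.IrrCharacter G) (hχ : Nat.card {C : ConjClasses G // ∃ g ∈ C.carrier, (χ : G → ℂ) g ≠ 0} = 2) (p : ℕ) [Fact p.Prime] (N : Subgroup G) [N.Normal] (hN : ∀ g : G, g ∈ N ↔ (χ : G → ℂ) g ≠ 0) (hNp : IsPGroup p N) (hN1 : N ≠ ⊥) (P : Sylow p G) :
    (∀ x : G, x ∉ N → Nat.card (Subgroup.centralizer ({x} : Set G)) = Nat.card (Subgroup.centralizer ({(x : G ⧸ N)} : Set (G ⧸ N)))) ∧
      ((Subgroup.center ↥(P : Subgroup G)).map (P : Subgroup G).subtype ≤ N ∧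
        ((Subgroup.center ↥(P : Subgroup G)).map (P : Subgroup G).subtype = N ↔ (P : Subgroup G).Normal)) ∧
      (∃ i : ℕ, Subgroup.upperCentralSeries ↥(P : Subgroup G) i = N.subgroupOf (P : Subgroup G)) := by
  classical
  haveI := Fintype.ofFinite G
  obtain ⟨N', -, -, hsupp', htrans, htriv, hfaith, hrel⟩ := TwoClasses.structure_exists hG χ hχ
  obtain rfl : N' = N := SetLike.ext fun g => (hsupp' g).trans (hN g).symm
  obtain ⟨m, a, hma, hGcard, hdeg⟩ := TwoClasses.numerology χ N' hN1 hN hrel p hNp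
  obtain ⟨b, hb⟩ := (IsPGroup.iff_card).1 hNp
  have hq2 : 1 < Nat.card N' := (Subgroup.one_lt_card_iff_ne_bot N').2 hN1
  have hb0 : 0 < b := Nat.pos_of_ne_zero fun h => by rw [hb, h, pow_zero] at hq2; exact lt_irrefl _ hq2
  have hq1 : ¬ p ∣ Nat.card N' - 1 := fun h => by
    have h' : p ∣ Nat.card N' := hb ▸ dvd_pow_self p hb0.ne'
    have := Nat.dvd_sub h' h
    rw [show Nat.card N' - (Nat.card N' - 1) = 1 by omega] at this
    exact (Fact.out : p.Prime).not_dvd_one this
  have hm0 : m ≠ 0 := hma ▸ pow_ne_zero a (Fact.out : p.Prime).ne_zero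
  have hP : ∀ H : Subgroup G, Nat.card H = Nat.card N' * m ^ 2 → ∃ P : Sylow p G, (P : Subgroup G) = H := by
    intro H hH
    refine ⟨Sylow.ofCard H ?_, rfl⟩
    have hpr : p.Prime := Fact.out
    rw [hH, hGcard, Nat.factorization_mul (mul_ne_zero (by omega) (by omega)) (pow_ne_zero 2 hm0),
      Nat.factorization_mul (by omega) (by omega), hma, hb, ← pow_mul, hpr.factorization_pow,
      hpr.factorization_pow, ← pow_add]
    congr 1
    rw [Finsupp.add_apply, Finsupp.add_apply, Nat.factorization_eq_zero_of_not_dvd (hb ▸ hq1),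
      Finsupp.single_eq_same, Finsupp.single_eq_same]
    simp
  have hcent : ∀ x ∈ N', x ≠ 1 → Nat.card (Subgroup.centralizer ({x} : Set G)) = Nat.card N' * m ^ 2 := by
    intro x hx hx1
    have h := (Subgroup.centralizer ({x} : Set G)).index_mul_card
    rw [TwoClasses.card_centralizer_mem N' x hx hx1 htrans, hGcard] at h
    refine Nat.eq_of_mul_eq_mul_left (by omega : 0 < Nat.card N' - 1) (h.trans ?_)
    ring
  have hcc : ∀ x : G, x ∉ N' → Nat.card (Subgroup.centralizer ({x} : Set G)) =
      Nat.card (Subgroup.centralizer ({(x : G ⧸ N')} : Set (G ⧸ N'))) := fun x hx =>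
    TwoClasses.card_centralizer χ N' hN1 htriv hfaith x (by_contra fun h => hx ((hN x).2 h))
  have hNP : N' ≤ (P : Subgroup G) := hNp.le_sylow_of_normal P
  obtain ⟨e, he⟩ := (IsPGroup.iff_card).1 P.isPGroup'
  -- inside `P`, centralisers of elements outside `N` are small
  have hsmall : ∀ z : (P : Subgroup G), (z : G) ∉ N' →
      Nat.card (Subgroup.centralizer ({z} : Set (P : Subgroup G))) * Nat.card N' ≤ Nat.card (P : Subgroup G) := by
    intro z hz
    let f : Subgroup.centralizer ({z} : Set (P : Subgroup G)) →* Subgroup.centralizer ({(z : G)} : Set G) :=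
      ((P : Subgroup G).subtype.comp (Subgroup.centralizer ({z} : Set (P : Subgroup G))).subtype).codRestrict _
        (fun u => Subgroup.mem_centralizer_singleton_iff.2
          (congrArg Subtype.val (Subgroup.mem_centralizer_singleton_iff.1 u.2)))
    have hf : Function.Injective f := fun a b h =>
      Subtype.ext (Subtype.ext (congrArg (fun t : Subgroup.centralizer ({(z : G)} : Set G) => (t : G)) h))
    have h1 := Subgroup.card_dvd_of_injective f hf
    rw [hcc _ hz] at h1
    have h2 : Nat.card (Subgroup.centralizer ({z} : Set (P : Subgroup G))) ∣ N'.index :=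
      h1.trans (Subgroup.card_subgroup_dvd_card _)
    obtain ⟨i, hi, hCi⟩ := (Nat.dvd_prime_pow (Fact.out : p.Prime)).1
      (he ▸ Subgroup.card_subgroup_dvd_card (Subgroup.centralizer ({z} : Set (P : Subgroup G))))
    have h3 : Nat.card (Subgroup.centralizer ({z} : Set (P : Subgroup G))) * Nat.card N' ∣ Nat.card G :=
      N'.index_mul_card ▸ Nat.mul_dvd_mul_right h2 _
    rw [hCi, hb, ← pow_add] at h3 ⊢
    have h4 := ((Fact.out : p.Prime).pow_dvd_iff_le_factorization Nat.card_pos.ne').1 h3
    rw [P.card_eq_multiplicity]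
    exact Nat.pow_le_pow_right (Fact.out : p.Prime).one_lt.le h4
  have hcN : (Subgroup.center (P : Subgroup G)).map (P : Subgroup G).subtype ≤ N' := by
    rintro _ ⟨z, hz, rfl⟩
    by_contra hzN
    have h := hsmall z hzN
    rw [show Subgroup.centralizer ({z} : Set (P : Subgroup G)) = ⊤ from eq_top_iff.2 fun u _ =>
      Subgroup.mem_centralizer_singleton_iff.2 (Subgroup.mem_center_iff.1 hz u), Subgroup.card_top] at h
    exact absurd h (not_le.2 (lt_mul_of_one_lt_right Nat.card_pos hq2))
  refine ⟨hcc, ⟨hcN, ?_, ?_⟩, ?_⟩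
  · intro h
    obtain ⟨⟨c, hc⟩, hc1⟩ := N'.ne_bot_iff_exists_ne_one.1 hN1
    have hPC : ∀ x ∈ N', x ≠ 1 → (P : Subgroup G) = Subgroup.centralizer ({x} : Set G) := by
      intro x hx hx1
      have hle : (P : Subgroup G) ≤ Subgroup.centralizer ({x} : Set G) := by
        intro u hu
        obtain ⟨z, hz, rfl⟩ : x ∈ (Subgroup.center (P : Subgroup G)).map (P : Subgroup G).subtype := h.symm ▸ hx
        exact Subgroup.mem_centralizer_singleton_iff.2
          (congrArg Subtype.val (Subgroup.mem_center_iff.1 hz ⟨u, hu⟩))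
      obtain ⟨Q, hQ⟩ := hP _ (hcent x hx hx1)
      rw [← hQ] at hle ⊢
      exact le_antisymm hle (P.is_maximal' Q.isPGroup' hle).le
    refine ⟨fun u hu g => ?_⟩
    have hx : g⁻¹ * c * g ∈ N' := Subgroup.Normal.conj_mem' inferInstance c hc g
    have hx1 : g⁻¹ * c * g ≠ 1 := fun e => hc1 (Subtype.ext (by
      calc c = g * (g⁻¹ * c * g) * g⁻¹ := by group
        _ = (1 : G) := by rw [e]; group))
    rw [hPC _ hx hx1, Subgroup.mem_centralizer_singleton_iff] at hu
    rw [hPC c hc (fun e => hc1 (Subtype.ext e)), Subgroup.mem_centralizer_singleton_iff]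
    calc g * u * g⁻¹ * c = g * (u * (g⁻¹ * c * g)) * g⁻¹ := by group
      _ = g * (g⁻¹ * c * g * u) * g⁻¹ := by rw [hu]
      _ = c * (g * u * g⁻¹) := by group
  · intro hnorm
    refine le_antisymm hcN ?_
    haveI := hnorm
    haveI : Nontrivial (P : Subgroup G) := (Subgroup.nontrivial_iff_ne_bot _).2 fun h => hN1 (le_bot_iff.1 (h ▸ hNP))
    refine TwoClasses.le_of_normal χ N' htriv hfaith _ ?_
    intro h
    haveI := P.isPGroup'.center_nontrivial
    obtain ⟨z, hz⟩ := exists_ne (1 : Subgroup.center (P : Subgroup G))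
    have : ((z : (P : Subgroup G)) : G) ∈ (Subgroup.center (P : Subgroup G)).map (P : Subgroup G).subtype :=
      ⟨z, z.2, rfl⟩
    rw [h, Subgroup.mem_bot] at this
    exact hz (Subtype.ext (Subtype.ext this))
  · -- the upper central series reaches `N` exactly
    haveI : Group.IsNilpotent (P : Subgroup G) := P.isPGroup'.isNilpotent
    by_cases htop : N'.subgroupOf (P : Subgroup G) = ⊤
    · obtain ⟨n, hn⟩ := Group.IsNilpotent.nilpotent (G := (P : Subgroup G))
      exact ⟨n, hn.trans htop.symm⟩
    have hex : ∃ i, ¬ Subgroup.upperCentralSeries (P : Subgroup G) i ≤ N'.subgroupOf (P : Subgroup G) := by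
      obtain ⟨n, hn⟩ := Group.IsNilpotent.nilpotent (G := (P : Subgroup G))
      exact ⟨n, fun h => htop (top_le_iff.1 (hn ▸ h))⟩
    obtain ⟨j, hj, hjle⟩ : ∃ j, (¬ Subgroup.upperCentralSeries (P : Subgroup G) (j + 1) ≤ N'.subgroupOf (P : Subgroup G)) ∧
        Subgroup.upperCentralSeries (P : Subgroup G) j ≤ N'.subgroupOf (P : Subgroup G) := by
      rcases hi : Nat.find hex with _ | j
      · have := Nat.find_spec hex
        rw [hi, Subgroup.upperCentralSeries_zero] at this
        exact absurd bot_le this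
      · exact ⟨j, hi ▸ Nat.find_spec hex, by_contra fun h => Nat.find_min hex (hi ▸ Nat.lt_succ_self j) h⟩
    refine ⟨j, Subgroup.eq_of_le_of_card_ge hjle ?_⟩
    obtain ⟨z, hz, hzN⟩ := SetLike.not_le_iff_exists.1 hj
    rw [Nat.card_congr (Subgroup.subgroupOfEquivOfLe hNP).toEquiv]
    have h := hsmall z (fun h => hzN (Subgroup.mem_subgroupOf.2 h))
    rw [Subgroup.mem_upperCentralSeries_succ_iff] at hz
    -- the class of `z` injects into the subgroup
    have hle : (Subgroup.centralizer ({z} : Set (P : Subgroup G))).index ≤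
        Nat.card (Subgroup.upperCentralSeries (P : Subgroup G) j) := by
      refine Nat.card_le_card_of_injective (Quotient.lift (fun u : (P : Subgroup G) =>
        (⟨z * u * z⁻¹ * u⁻¹, hz u⟩ : Subgroup.upperCentralSeries (P : Subgroup G) j)) ?_) ?_
      · intro u v huv
        have h' := QuotientGroup.leftRel_apply.1 huv
        rw [Subgroup.mem_centralizer_singleton_iff] at h'
        refine Subtype.ext ?_
        show z * u * z⁻¹ * u⁻¹ = z * v * z⁻¹ * v⁻¹
        have hw : (u⁻¹ * v) * z⁻¹ * (u⁻¹ * v)⁻¹ = z⁻¹ := by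
          rw [(Commute.inv_right (h' : Commute (u⁻¹ * v) z)).eq, mul_inv_cancel_right]
        calc z * u * z⁻¹ * u⁻¹ = z * u * ((u⁻¹ * v) * z⁻¹ * (u⁻¹ * v)⁻¹) * u⁻¹ := by rw [hw]
          _ = z * v * z⁻¹ * v⁻¹ := by group
      · intro a b
        refine Quotient.inductionOn₂ a b fun u v h => Quotient.sound (QuotientGroup.leftRel_apply.2 ?_)
        rw [Subgroup.mem_centralizer_singleton_iff]
        have h' : z * u * z⁻¹ * u⁻¹ = z * v * z⁻¹ * v⁻¹ := congrArg Subtype.val h
        have h'' : u * z⁻¹ * u⁻¹ = v * z⁻¹ * v⁻¹ := by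
          simpa [mul_assoc] using h'
        calc u⁻¹ * v * z = u⁻¹ * (v * z⁻¹ * v⁻¹)⁻¹ * v := by group
          _ = u⁻¹ * (u * z⁻¹ * u⁻¹)⁻¹ * v := by rw [h'']
          _ = z * (u⁻¹ * v) := by group
    by_contra hlt
    push_neg at hlt
    have h1 := (Subgroup.centralizer ({z} : Set (P : Subgroup G))).index_mul_card
    have h2 : 0 < Nat.card (Subgroup.centralizer ({z} : Set (P : Subgroup G))) := Nat.card_pos
    nlinarith

end Cfsg.Agent.S4838
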