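import Cfsg.Statements.S4839
import Cfsg.Agent.Lib.Char.TwoClassesCore
import Cfsg.Agent.Lib.Char.FrobeniusKernel
import Mathlib.GroupTheory.SchurZassenhaus
-- import your own Cfsg.Agent.* helpers here

set_option autoImplicit false
open Cfsg

open Cfsg.Agent Cfsg.Agent.Char Cfsg.Agent.CharX
open scoped ComplexConjugate

namespace Cfsg.Agent.S4839

/-- Let G be a finite group of order greater than 2 with an irreducible character χ nonzero on exactly two conjugacy classes, and let N be the normal p-subgroup of elements where χ is nonzero. Then N is the whole p-core O_p(G) if and only if G is a doubly transitive Frobenius group with kernel N: G has a Frobenius complement H whose Frobenius kernel is N and whose order is one less than that of N. -/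
theorem result {G : Type*} [Group G] [Finite G] (hG : 2 < Nat.card G) (χ : Cfsg.IrrCharacter G) (hχ : Nat.card {C : ConjClasses G // ∃ g ∈ C.carrier, (χ : G → ℂ) g ≠ 0} = 2) (p : ℕ) [Fact p.Prime] (N : Subgroup G) [N.Normal] (hN : ∀ g : G, g ∈ N ↔ (χ : G → ℂ) g ≠ 0) (hNp : IsPGroup p N) (hN1 : N ≠ ⊥) :
    N = Cfsg.pCore p G ↔ ∃ H : Subgroup G, Cfsg.IsFrobeniusComplement H ∧ Cfsg.frobeniusKernel H = (N : Set G) ∧ Nat.card H + 1 = Nat.card N := by
  classical
  haveI := Fintype.ofFinite G
  obtain ⟨N', -, -, hsupp', htrans, htriv, hfaith, hrel⟩ := TwoClasses.structure_exists hG χ hχ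
  obtain rfl : N' = N := SetLike.ext fun g => (hsupp' g).trans (hN g).symm
  obtain ⟨m, a, hma, hGcard, hdeg⟩ := TwoClasses.numerology χ N' hN1 hN hrel p hNp
  obtain ⟨b, hb⟩ := (IsPGroup.iff_card).1 hNp
  have hq2 : 1 < Nat.card N' := (Subgroup.one_lt_card_iff_ne_bot N').2 hN1
  obtain ⟨c, hc, hc1⟩ : ∃ c ∈ N', c ≠ 1 := by
    obtain ⟨⟨c, hc⟩, h⟩ := N'.ne_bot_iff_exists_ne_one.1 hN1
    exact ⟨c, hc, fun e => h (Subtype.ext e)⟩
  have hpc : ∀ K : Subgroup G, K.Normal → IsPGroup p K → K ≤ pCore p G := fun K hK hKp =>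
    le_sSup ⟨hK, hKp⟩
  constructor
  · intro hcore
    obtain ⟨r, hr, hel⟩ := TwoClasses.exists_prime N' hN1 htrans fun K hK hK0 => by
      haveI := hK; exact TwoClasses.le_of_normal χ N' htriv hfaith K hK0
    have hrp : r = p := by
      have h1 : orderOf c ∣ r := orderOf_dvd_of_pow_eq_one (hel.2 c hc)
      obtain ⟨k, hk⟩ := hNp ⟨c, hc⟩
      have h2 : orderOf c ∣ p ^ k := orderOf_dvd_of_pow_eq_one (congrArg Subtype.val hk)
      have h3 : orderOf c = r := ((Nat.dvd_prime hr).1 h1).resolve_left (by rwa [orderOf_eq_one_iff])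
      exact (Nat.prime_dvd_prime_iff_eq hr (Fact.out : p.Prime)).1 (hr.dvd_of_dvd_pow (h3 ▸ h2))
    subst hrp
    have hm := TwoClasses.m_eq_one χ N' hN1 hN hrel htrans r hel
      (fun K hK hKp => hcore ▸ hpc K hK hKp) hGcard hdeg hma
    rw [hm, one_pow, mul_one] at hGcard
    have hidx : N'.index = Nat.card N' - 1 := by
      have h := N'.card_mul_index
      rw [hGcard] at h
      exact Nat.eq_of_mul_eq_mul_left Nat.card_pos h
    have hcop : Nat.Coprime (Nat.card N') N'.index := by
      rw [hidx, Nat.coprime_self_sub_right (by omega)]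
      exact Nat.coprime_one_right _
    obtain ⟨H, hH⟩ := Subgroup.exists_right_complement'_of_coprime hcop
    have hHc : Nat.card H = Nat.card N' - 1 := by rw [← hH.symm.index_eq_card, hidx]
    have hcent : ∀ x ∈ N', x ≠ 1 → Subgroup.centralizer ({x} : Set G) = N' := fun x hx hx1 => by
      refine (Subgroup.eq_of_le_of_card_ge (fun y hy => Subgroup.mem_centralizer_singleton_iff.2 ?_) ?_).symm
      · haveI := hel.1
        exact congrArg Subtype.val (mul_comm' (⟨y, hy⟩ : N') ⟨x, hx⟩)
      · have h := (Subgroup.centralizer ({x} : Set G)).index_mul_card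
        rw [TwoClasses.card_centralizer_mem N' x hx hx1 htrans, hGcard,
          mul_comm (Nat.card N')] at h
        exact (Nat.eq_of_mul_eq_mul_left (by omega) h).le
    have hdisj : ∀ y, y ∈ N' → y ∈ H → y = 1 := fun y h1 h2 =>
      Subgroup.mem_bot.1 (hH.disjoint.eq_bot ▸ (⟨h1, h2⟩ : y ∈ N' ⊓ H))
    have hfr : IsFrobeniusComplement H := by
      refine ⟨fun h => ?_, fun h => ?_, fun g hg => ?_⟩
      · rw [h, Subgroup.card_bot] at hHc
        rw [← hHc, mul_one] at hGcard
        omega
      · exact hc1 (hdisj c hc (h ▸ Subgroup.mem_top c))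
      · rw [eq_bot_iff]
        rintro y ⟨hyH, hyg⟩
        rw [Subgroup.mem_bot]
        obtain ⟨⟨⟨n, hn⟩, ⟨h, hh⟩⟩, rfl : n * h = g, -⟩ := hH.existsUnique g
        have hn1 : n ≠ 1 := fun e => hg (by rw [e, one_mul]; exact hh)
        obtain ⟨h', hh', rfl⟩ : ∃ h' ∈ H, n * h' * n⁻¹ = y := by
          obtain ⟨w, hw, hwy⟩ := (Subgroup.mem_smul_pointwise_iff_exists _ _ _).1 hyg
          refine ⟨h * w * h⁻¹, H.mul_mem (H.mul_mem hh hw) (H.inv_mem hh), ?_⟩
          rw [← hwy, MulAut.smul_def, MulAut.conj_apply]; group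
        have h0 : h'⁻¹ * (n * h' * n⁻¹) = 1 := hdisj _
          (by
            have := N'.mul_mem (Subgroup.Normal.conj_mem' inferInstance n hn h') (N'.inv_mem hn)
            convert this using 1; group)
          (H.mul_mem (H.inv_mem hh') hyH)
        have hmem : h' ∈ Subgroup.centralizer ({n} : Set G) := by
          refine Subgroup.mem_centralizer_singleton_iff.2 ?_
          have h1 : n * h' * n⁻¹ = h' := by
            rw [inv_mul_eq_one] at h0; exact h0.symm
          calc h' * n = n * h' * n⁻¹ * n := by rw [h1]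
            _ = n * h' := by group
        rw [hcent n hn hn1] at hmem
        rw [hdisj h' hmem hh']; group
    refine ⟨H, hfr, ?_, by omega⟩
    obtain ⟨K, hK, -, hKH⟩ := frobeniusKernel_isSubgroup hfr
    have hle : N' ≤ K := fun x hx => by
      have : x ∈ (K : Set G) := by
        rw [hK]
        by_cases hx1 : x = 1
        · exact Or.inl hx1
        · refine Or.inr fun g hg => hx1 ?_
          obtain ⟨w, hw, hwx⟩ := (Subgroup.mem_smul_pointwise_iff_exists _ _ _).1 hg
          rw [MulAut.smul_def, MulAut.conj_apply] at hwx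
          have hw' : w ∈ N' := by
            have := Subgroup.Normal.conj_mem' (inferInstance : N'.Normal) x hx g
            rw [← hwx] at this
            convert this using 1; group
          rw [← hwx, hdisj w hw' hw]; group
      exact this
    rw [← hK, Subgroup.eq_of_le_of_card_ge hle (le_of_eq ?_)]
    have h1 := hKH.card_mul
    rw [hHc, hGcard] at h1
    exact Nat.eq_of_mul_eq_mul_right (by omega) h1
  · rintro ⟨H, hfr, hker, hcard⟩
    refine le_antisymm (hpc N' inferInstance hNp) ?_
    obtain ⟨K, hK, -, hKH⟩ := frobeniusKernel_isSubgroup hfr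
    obtain rfl : K = N' := SetLike.coe_injective (hK.trans hker)
    have h1 := hKH.card_mul
    rw [show Nat.card H = Nat.card K - 1 by omega, hGcard] at h1
    have hm : m ^ 2 = 1 := by
      refine (Nat.eq_of_mul_eq_mul_left (Nat.mul_pos Nat.card_pos (by omega : 0 < Nat.card K - 1))
        ((mul_one _).trans h1)).symm
    let S : Sylow p G := default
    have hS : K = (S : Subgroup G) := by
      refine Subgroup.eq_of_le_of_card_ge (hNp.le_sylow_of_normal S) ?_
      obtain ⟨e, he⟩ := (IsPGroup.iff_card).1 S.isPGroup'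
      have hd : Nat.card (S : Subgroup G) ∣ Nat.card K * (Nat.card K - 1) := by
        have := Subgroup.card_subgroup_dvd_card (S : Subgroup G)
        rwa [hGcard, hm, mul_one] at this
      have hcop : Nat.Coprime (Nat.card (S : Subgroup G)) (Nat.card K - 1) := by
        rw [he]
        refine Nat.Coprime.pow_left _ ((Nat.Prime.coprime_iff_not_dvd (Fact.out : p.Prime)).2 fun h => ?_)
        rcases Nat.eq_zero_or_pos b with hb0 | hb0
        · rw [hb, hb0, pow_zero] at hq2; exact lt_irrefl _ hq2
        · have := Nat.dvd_sub (hb ▸ dvd_pow_self p hb0.ne' : p ∣ Nat.card K) h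
          rw [show Nat.card K - (Nat.card K - 1) = 1 by omega] at this
          exact (Fact.out : p.Prime).not_dvd_one this
      exact Nat.le_of_dvd Nat.card_pos (hcop.dvd_of_dvd_mul_right hd)
    rw [hS]
    refine sSup_le fun L hL => ?_
    haveI := hL.1
    exact hL.2.le_sylow_of_normal S

end Cfsg.Agent.S4839
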