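import Cfsg.Statements.S4840
import Cfsg.Agent.Lib.Char.TwoClassesCore
import Cfsg.Agent.Lib.Char.TransPStab
import Cfsg.Agent.Lib.Transfer.Basic
import Cfsg.Agent.Lib.Solvable.Structure
open Cfsg.Agent.Char Cfsg.Agent.CharX

set_option autoImplicit false
open Cfsg

namespace Cfsg.Agent.S4840

/-- Let G be a finite solvable group of order greater than 2 with an irreducible character nonzero on exactly two conjugacy classes. Then there is exactly one prime p with O_p(G) ≠ 1, and the quotient G/O_p(G) has a normal p-complement and commutative Sylow p-subgroups. -/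
theorem result {G : Type*} [Group G] [Finite G] [hs : Group.IsSolvable G] (hG : 2 < Nat.card G) (χ : Cfsg.IrrCharacter G) (hχ : Nat.card {C : ConjClasses G // ∃ g ∈ C.carrier, (χ : G → ℂ) g ≠ 0} = 2) :
    ∃ p : ℕ, p.Prime ∧ (∀ q : ℕ, q.Prime → (Cfsg.pCore q G ≠ ⊥ ↔ q = p)) ∧
      Cfsg.HasNormalPComplement p (G ⧸ Cfsg.pCore p G) ∧ ∀ Q : Sylow p (G ⧸ Cfsg.pCore p G), IsMulCommutative (Q : Subgroup (G ⧸ Cfsg.pCore p G)) := by
  classical
  obtain ⟨N, hNn, hN, hsupp, htrans, htriv, hfaith, hrel⟩ := TwoClasses.structure_exists hG χ hχ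
  haveI := hNn
  have hmin : ∀ K : Subgroup G, K.Normal → K ≠ ⊥ → N ≤ K := fun K hK hK1 => by
    haveI := hK
    exact TwoClasses.le_of_normal χ N htriv hfaith K hK1
  obtain ⟨p, hp, hel⟩ := TwoClasses.exists_prime N hN htrans hmin
  haveI := Fact.mk hp
  haveI := hel.1
  have hNp : IsPGroup p N := fun x => ⟨1, Subtype.ext (by simpa using hel.2 x x.2)⟩
  obtain ⟨m, a, hma, hcard, -⟩ := TwoClasses.numerology χ N hN hsupp hrel p hNp
  obtain ⟨b, hb⟩ := IsPGroup.iff_card.1 hNp
  have hq : 1 < Nat.card N := (Subgroup.one_lt_card_iff_ne_bot N).2 hN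
  set O := Cfsg.pCore p G with hOdef
  haveI hOn : O.Normal := Subgroup.sSup_normal _ fun K hK => hK.1
  have hOp : IsPGroup p O := PBasic.pCore_isPGroup p G
  have hNO : N ≤ O := le_sSup ⟨hNn, hNp⟩
  have hCp : ∀ x ∈ N, x ≠ 1 → IsPGroup p (Subgroup.centralizer ({x} : Set G)) := by
    intro x hx hx1
    refine IsPGroup.of_card (n := b + a * 2) ?_
    have h := (Subgroup.centralizer ({x} : Set G)).index_mul_card
    rw [TwoClasses.card_centralizer_mem N x hx hx1 htrans, hcard, hma, ← pow_mul,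
      mul_comm (Nat.card N), mul_assoc] at h
    rw [Nat.eq_of_mul_eq_mul_left (by omega) h, hb, pow_add]
  haveI : Group.IsNilpotent O := hOp.isNilpotent
  -- `O` is the kernel of the action on `N`
  have hOc : ∀ g ∈ O, ∀ x ∈ N, g * x = x * g := by
    have hne : N.subgroupOf O ⊓ Subgroup.center O ≠ ⊥ := SolvStruct.inf_center_ne_bot fun h => hN (by
      rwa [Subgroup.subgroupOf_eq_bot, disjoint_iff, inf_eq_left.2 hNO] at h)
    set K := (Subgroup.center O).map O.subtype with hK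
    haveI : K.Normal := ConjAct.normal_of_characteristic_of_normal
    have hKne : K ≠ ⊥ := fun h => hne (by
      rw [hK, Subgroup.map_eq_bot_iff_of_injective _ O.subtype_injective] at h
      rw [h, inf_bot_eq])
    intro g hg x hx
    obtain ⟨z, hz, hzx⟩ := hmin K inferInstance hKne hx
    rw [← hzx]
    exact congrArg Subtype.val (Subgroup.mem_center_iff.1 hz ⟨g, hg⟩)
  let ψ : G →* MulAut N := MulAut.conjNormal
  have hψ : ∀ (g : G) (x : N), ψ g x = x ↔ g * (x : G) = x * g := fun g x => by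
    rw [Subtype.ext_iff, MulAut.conjNormal_apply, mul_inv_eq_iff_eq_mul]
  have hker : ψ.ker = O := by
    refine le_antisymm ?_ fun g hg => MulEquiv.ext fun x => (hψ g x).2 (hOc g hg x x.2)
    obtain ⟨⟨c, hc⟩, hc1⟩ := N.ne_bot_iff_exists_ne_one.1 hN
    refine le_sSup ⟨inferInstance, (hCp c hc fun h => hc1 (Subtype.ext h)).to_le fun g hg => ?_⟩
    exact Subgroup.mem_centralizer_singleton_iff.2
      ((hψ g ⟨c, hc⟩).1 (DFunLike.congr_fun (MonoidHom.mem_ker.1 hg) _))
  let φ : G ⧸ O →* MulAut N := QuotientGroup.lift O ψ hker.ge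
  letI : CommGroup N := { (inferInstance : Group N) with mul_comm := mul_comm' }
  refine ⟨p, hp, fun q hq' => ⟨fun hO => ?_, fun h => h ▸ fun hb' => hN (le_bot_iff.1 (hb' ▸ hNO))⟩, ?_⟩
  · haveI := Fact.mk hq'
    haveI : (Cfsg.pCore q G).Normal := Subgroup.sSup_normal _ fun K hK => hK.1
    by_contra hne
    obtain ⟨⟨c, hc⟩, hc1⟩ := N.ne_bot_iff_exists_ne_one.1 hN
    obtain ⟨k, hk⟩ := IsPGroup.iff_orderOf.1 (PBasic.pCore_isPGroup q G) ⟨c, hmin _ inferInstance hO hc⟩
    obtain ⟨l, hl⟩ := IsPGroup.iff_orderOf.1 hNp ⟨c, hc⟩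
    rw [Subgroup.orderOf_mk] at hk hl
    rcases Nat.eq_zero_or_pos k with h0 | h0
    · rw [h0, pow_zero, orderOf_eq_one_iff] at hk
      exact hc1 (Subtype.ext hk)
    · exact hne ((Nat.prime_dvd_prime_iff_eq hq' hp).1
        (hq'.dvd_of_dvd_pow ((dvd_pow_self q h0.ne').trans (dvd_of_eq (hk.symm.trans hl)))))
  · refine TransPStab.main p φ (fun v => Subtype.ext (by simpa using hel.2 v v.2))
      ((Subgroup.nontrivial_iff_ne_bot N).2 hN) ?_ (PBasic.pCore_quotient_pCore p G) ?_ ?_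
    · rw [injective_iff_map_eq_one]
      intro x hx
      obtain ⟨g, rfl⟩ := QuotientGroup.mk_surjective x
      exact (QuotientGroup.eq_one_iff g).2 (hker.le (MonoidHom.mem_ker.2 hx))
    · intro v w hv hw
      obtain ⟨g, hg⟩ := isConj_iff.1 (htrans v v.2 w w.2 (fun h => hv (Subtype.ext h))
        fun h => hw (Subtype.ext h))
      exact ⟨g, Subtype.ext hg⟩
    · intro v hv h hh
      obtain ⟨g, rfl⟩ := QuotientGroup.mk_surjective h
      obtain ⟨k, hk⟩ := hCp v v.2 (fun h => hv (Subtype.ext h))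
        ⟨g, Subgroup.mem_centralizer_singleton_iff.2 ((hψ g v).1 hh)⟩
      refine ⟨k, ?_⟩
      rw [← QuotientGroup.mk_pow, show g ^ p ^ k = 1 from congrArg Subtype.val hk]
      rfl

end Cfsg.Agent.S4840
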