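import Cfsg.Statements.S4843
import Cfsg.Agent.Lib.Char.Galois
import Cfsg.Agent.Lib.Char.DegreeCenter
import Cfsg.Agent.Lib.Components.Fitting
import Mathlib.GroupTheory.Nilpotent
import Mathlib.LinearAlgebra.Trace
import Mathlib.Data.ZMod.Units
-- import your own Cfsg.Agent.* helpers here

set_option autoImplicit false
open Cfsg

open Cfsg.Agent Cfsg.Agent.Char TensorProduct
open scoped ComplexConjugate

namespace Cfsg.Agent.S4843

/-- Let G be a finite group with a faithful irreducible character χ (taking the value χ(1) only at the identity) and let k be prime to the order of G, so that g ↦ χ(g^k) is a Galois conjugate of χ. If the pointwise product g ↦ χ(g)·χ(g^k) is again an irreducible character, then the Fitting subgroup of G equals its centre. -/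
theorem result {G : Type*} [Group G] [Finite G] (χ : Cfsg.IrrCharacter G) (hfaith : ∀ g : G, (χ : G → ℂ) g = (χ : G → ℂ) 1 → g = 1) (k : ℕ) (hk : Nat.Coprime k (Nat.card G)) (hirr : Cfsg.IsIrrCharacter G (fun g => (χ : G → ℂ) g * (χ : G → ℂ) (g ^ k))) : Cfsg.fittingSubgroup G = Subgroup.center G := by
  classical
  haveI := Fintype.ofFinite G
  obtain ⟨d, ρ, hρi, hρχ⟩ := id χ.2
  haveI := hρi
  have hψc : Cfsg.IsCharacter G fun g => (χ : G → ℂ) (g ^ k) :=
    IsIrrCharacter.isCharacter (CharGalois.IsIrrCharacter.powMap χ.2 hk)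
  obtain ⟨e, τ, hτψ⟩ := hψc
  let RR : Representation ℂ G ((Fin d → ℂ) ⊗[ℂ] (Fin e → ℂ)) := ρ.tprod τ
  haveI hRR : RR.IsIrreducible := by
    obtain ⟨m, ξ, hξi, hξc⟩ := hirr
    haveI := hξi
    obtain ⟨eq⟩ := nonempty_equiv_of_char_eq ξ RR (by
      rw [hξc, Representation.char_tensor, hρχ, hτψ]
      rfl)
    exact isIrreducible_of_equiv eq
  have hd : (χ : G → ℂ) 1 = d := by rw [← hρχ, Representation.char_one, Module.finrank_fin_fun]
  have hcd : (d : ℂ) ≠ 0 := by rw [← hd]; exact IsIrrCharacter.one_ne_zero χ.2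
  obtain ⟨j, hj⟩ : ∃ j : ℕ, ∀ x : G, (x ^ j) ^ k = x := by
    refine ⟨((ZMod.unitOfCoprime k hk)⁻¹ : (ZMod (Nat.card G))ˣ).val.val, fun x => ?_⟩
    haveI : NeZero (Nat.card G) := ⟨Nat.card_pos.ne'⟩
    rw [← pow_mul]
    conv_rhs => rw [← pow_one x]
    refine pow_eq_pow_iff_modEq.2 (Nat.ModEq.of_dvd (orderOf_dvd_natCard x) ?_)
    rw [← ZMod.natCast_eq_natCast_iff, Nat.cast_mul, ZMod.natCast_zmod_val, Nat.cast_one,
      ← ZMod.coe_unitOfCoprime k hk, ← Units.val_mul, inv_mul_cancel, Units.val_one]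
  have hτj : ∀ x : G, τ.character (x ^ j) = (χ : G → ℂ) x := fun x => by
    rw [hτψ]
    show (χ : G → ℂ) ((x ^ j) ^ k) = _
    rw [hj]
  have hconj : ∀ x : G, (χ : G → ℂ) x⁻¹ = conj ((χ : G → ℂ) x) :=
    IsCharacter.inv (IsIrrCharacter.isCharacter χ.2)
  let P : G → G → Module.End ℂ ((Fin d → ℂ) ⊗[ℂ] (Fin e → ℂ)) :=
    fun x y => TensorProduct.map (ρ x) (τ y)
  have hPmul : ∀ x y x' y', P x y * P x' y' = P (x * x') (y * y') := fun x y x' y' => by
    simp only [P, map_mul]
    exact (TensorProduct.map_comp _ _ _ _).symm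
  have hPtr : ∀ x y, LinearMap.trace ℂ _ (P x y) = (χ : G → ℂ) x * τ.character y := fun x y => by
    show LinearMap.trace ℂ _ (TensorProduct.map (ρ x) (τ y)) = _
    rw [LinearMap.trace_tensorProduct', ← hρχ]
    rfl
  have hfaith' : ∀ b : G, ‖(χ : G → ℂ) b‖ = d → b ∈ Subgroup.center G := by
    intro b hb
    rw [← hρχ] at hb
    obtain ⟨ω, hω⟩ := (norm_char_eq_iff ρ b).1 (by rw [hb, Module.finrank_fin_fun])
    refine Subgroup.mem_center_iff.2 fun g => ?_
    have e : ρ (g * b) = ρ (b * g) := by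
      rw [map_mul, map_mul, hω, smul_mul_assoc, mul_smul_comm]
      rfl
    have h1 : (χ : G → ℂ) ((b * g)⁻¹ * (g * b)) = (χ : G → ℂ) 1 := by
      rw [← hρχ]
      show LinearMap.trace ℂ _ (ρ ((b * g)⁻¹ * (g * b))) = LinearMap.trace ℂ _ (ρ 1)
      rw [map_mul, e, ← map_mul, inv_mul_cancel]
    exact (inv_mul_eq_one.1 (hfaith _ h1)).symm
  let T : Subgroup G → Module.End ℂ ((Fin d → ℂ) ⊗[ℂ] (Fin e → ℂ)) :=
    fun A => ∑ a : A, P (a : G) ((a : G)⁻¹ ^ j)
  -- the operator of a normal subgroup is a nonzero scalar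
  have hT : ∀ A : Subgroup G, A.Normal → ∃ c : ℂ, c ≠ 0 ∧ T A = c • 1 := by
    intro A hA
    obtain ⟨c, hc⟩ := schur_scalar RR (T A) fun g x => by
      have : T A * P g g = P g g * T A := by
        simp only [T, Finset.sum_mul, Finset.mul_sum, hPmul]
        let σ : A ≃ A :=
          { toFun := fun a => ⟨g * a * g⁻¹, hA.conj_mem _ a.2 g⟩
            invFun := fun a => ⟨g⁻¹ * a * g, by simpa using hA.conj_mem _ a.2 g⁻¹⟩
            left_inv := fun a => Subtype.ext (by simp [mul_assoc])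
            right_inv := fun a => Subtype.ext (by simp [mul_assoc]) }
        rw [← Equiv.sum_comp σ]
        refine Finset.sum_congr rfl fun a _ => ?_
        show P (g * a * g⁻¹ * g) ((g * (a : G) * g⁻¹)⁻¹ ^ j * g) = P (g * a) (g * (a : G)⁻¹ ^ j)
        rw [inv_mul_cancel_right, show (g * (a : G) * g⁻¹)⁻¹ = g * (a : G)⁻¹ * g⁻¹ by group,
          conj_pow, inv_mul_cancel_right]
      exact LinearMap.congr_fun this x
    refine ⟨c, fun h0 => ?_, hc⟩
    have h1 : LinearMap.trace ℂ _ (T A) = 0 := by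
      rw [hc, h0, zero_smul, map_zero]
    simp only [T, map_sum, hPtr, hτj, hconj, Complex.mul_conj'] at h1
    rw [Finset.sum_congr rfl fun (a : A) _ => (Complex.ofReal_pow ‖(χ : G → ℂ) a‖ 2).symm,
      ← Complex.ofReal_sum, Complex.ofReal_eq_zero,
      Finset.sum_eq_zero_iff_of_nonneg fun a _ => sq_nonneg _] at h1
    have := h1 1 (Finset.mem_univ _)
    simp [hd, hcd] at this
    exact hcd (by exact_mod_cast this)
  -- abelian normal subgroups are central
  have hab : ∀ A : Subgroup G, A.Normal → (∀ a ∈ A, ∀ b ∈ A, a * b = b * a) →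
      A ≤ Subgroup.center G := by
    intro A hA hcomm b hb
    obtain ⟨c, hc0, hc⟩ := hT A hA
    have hfix : T A * P b (b⁻¹ ^ j) = T A := by
      simp only [T, Finset.sum_mul, hPmul]
      conv_rhs => rw [← Equiv.sum_comp (Equiv.mulRight (⟨b, hb⟩ : A))]
      refine Finset.sum_congr rfl fun a _ => ?_
      show P ((a : G) * b) _ = P ((a : G) * b) (((a : G) * b)⁻¹ ^ j)
      have hcab : Commute (a : G)⁻¹ b⁻¹ := (show Commute (a : G) b from hcomm a a.2 b hb).inv_inv
      rw [mul_inv_rev, hcab.symm.eq, hcab.mul_pow]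
    rw [hc, smul_mul_assoc, one_mul] at hfix
    have h1 := congrArg (LinearMap.trace ℂ _) (smul_right_injective _ hc0 hfix :)
    rw [hPtr, hτj, hconj, Complex.mul_conj', LinearMap.trace_one, Module.finrank_tensorProduct,
      Module.finrank_fin_fun, Module.finrank_fin_fun] at h1
    have hde : e = d := by
      have h2 := congrFun hτψ 1
      rw [Representation.char_one, Module.finrank_fin_fun, one_pow, hd] at h2
      exact_mod_cast h2
    rw [hde] at h1
    refine hfaith' b ((sq_eq_sq₀ (norm_nonneg _) (Nat.cast_nonneg d)).1 ?_)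
    have h3 : ((‖(χ : G → ℂ) b‖ ^ 2 : ℝ) : ℂ) = (((d : ℝ) ^ 2 : ℝ) : ℂ) := by
      push_cast
      rw [h1]
      push_cast
      ring
    exact_mod_cast h3
  -- the Fitting subgroup
  obtain ⟨hFn, hFnil⟩ : (Cfsg.fittingSubgroup G).Normal ∧ Group.IsNilpotent ↥(Cfsg.fittingSubgroup G) :=
    ⟨Components.fittingSubgroup_normal, Components.fittingSubgroup_nilpotent⟩
  set F := Cfsg.fittingSubgroup G
  set Z := Subgroup.center G
  refine le_antisymm ?_ ?_
  swap
  · haveI : IsMulCommutative Z := ⟨⟨fun a b => Subtype.ext (Subgroup.mem_center_iff.1 b.2 a)⟩⟩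
    letI : CommGroup Z :=
      { (inferInstance : Group Z) with mul_comm := fun a b => Subtype.ext (Subgroup.mem_center_iff.1 b.2 a) }
    exact Components.le_fittingSubgroup inferInstance CommGroup.isNilpotent
  by_contra hle
  let f : F →* G ⧸ Z := (QuotientGroup.mk' Z).comp F.subtype
  haveI : Nontrivial f.range := (Subgroup.nontrivial_iff_ne_bot _).2 fun h => hle fun x hx =>
    (QuotientGroup.eq_one_iff x).1 (Subgroup.mem_bot.1 (h ▸ ⟨⟨x, hx⟩, rfl⟩))
  haveI : Group.IsNilpotent f.range :=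
    Group.nilpotent_of_surjective f.rangeRestrict f.rangeRestrict_surjective
  obtain ⟨q, hq, hq1⟩ := (Subgroup.bot_or_exists_ne_one (Subgroup.center f.range)).resolve_left
    (Group.IsNilpotent.center_ne_bot _)
  obtain ⟨a₀, ha₀⟩ := q.2
  let A : Subgroup G :=
    F ⊓ (Subgroup.centralizer (f.range : Set (G ⧸ Z))).comap (QuotientGroup.mk' Z)
  have hRn : f.range.Normal := by
    rw [show f.range = F.map (QuotientGroup.mk' Z) by rw [MonoidHom.range_comp, Subgroup.range_subtype]]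
    exact hFn.map _ (QuotientGroup.mk'_surjective Z)
  haveI := hRn
  haveI hAn : A.Normal := by
    haveI := hFn
    infer_instance
  have hA0 : (a₀ : G) ∈ A := by
    refine ⟨a₀.2, fun r hr => ?_⟩
    have := congrArg Subtype.val (Subgroup.mem_center_iff.1 hq ⟨r, hr⟩)
    simp only [Subgroup.coe_mul] at this
    show r * f a₀ = f a₀ * r
    rw [ha₀]
    exact this
  have hA0Z : (a₀ : G) ∉ Z := fun h => hq1 (Subtype.ext (by
    rw [← ha₀]
    exact (QuotientGroup.eq_one_iff (a₀ : G)).2 h))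
  have hcomm : ∀ a ∈ A, ∀ x ∈ F, x * a * x⁻¹ * a⁻¹ ∈ Z := by
    intro a ha x hx
    have h1 := ha.2 (f ⟨x, hx⟩) ⟨_, rfl⟩
    rw [← QuotientGroup.eq_one_iff]
    show QuotientGroup.mk' Z (x * a * x⁻¹ * a⁻¹) = 1
    rw [map_mul, map_mul, map_mul, map_inv, map_inv]
    rw [show QuotientGroup.mk' Z x * QuotientGroup.mk' Z a = QuotientGroup.mk' Z a * QuotientGroup.mk' Z x
      from h1]
    group
  have hZA : ∀ a ∈ A, (∀ b ∈ A, a * b = b * a) → a ∈ Z := by
    intro a ha hc
    haveI : (A ⊓ Subgroup.centralizer (A : Set G)).Normal := inferInstance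
    exact hab (A ⊓ Subgroup.centralizer (A : Set G)) inferInstance
      (fun x hx y hy => (hx.2 y hy.1).symm) ⟨ha, fun b hb => (hc b hb).symm⟩
  have hvan : ∀ a ∈ A, a ∉ Z → (χ : G → ℂ) a = 0 := by
    intro a ha haZ
    obtain ⟨b, hb, hne⟩ : ∃ b ∈ A, a * b ≠ b * a := by
      by_contra hall
      push Not at hall
      exact haZ (hZA a ha hall)
    have hz := hcomm a ha b hb.1
    obtain ⟨c, -, hc, hc1⟩ := IsIrrCharacter.exists_central_scalar χ.2 hz
    have h1 := IsCharacter.isClassFunction (IsIrrCharacter.isCharacter χ.2) a b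
    rw [show b * a * b⁻¹ = b * a * b⁻¹ * a⁻¹ * a by rw [inv_mul_cancel_right], hc] at h1
    by_contra h0
    have := hfaith _ (hc1.1 ((mul_eq_right₀ h0).1 h1))
    exact hne ((mul_inv_eq_iff_eq_mul.1 (mul_inv_eq_one.1 this)).symm)
  obtain ⟨c, hc0, hc⟩ := hT A hAn
  set b : G := (a₀ : G) with hb
  have h1 := congrArg (fun S => LinearMap.trace ℂ _ (S * P b⁻¹ (b ^ j))) hc
  simp only [smul_mul_assoc, one_mul, map_smul, hPtr, hτj, smul_eq_mul] at h1
  rw [hvan b hA0 hA0Z, mul_zero, mul_zero] at h1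
  simp only [T, Finset.sum_mul, hPmul, map_sum, hPtr] at h1
  have hterm : ∀ a : A, (χ : G → ℂ) ((a : G) * b⁻¹) * τ.character ((a : G)⁻¹ ^ j * b ^ j) =
      if (a : G) * b⁻¹ ∈ Z then ((d : ℂ) ^ 2) else 0 := by
    intro a
    split_ifs with hz
    · have hz' := Subgroup.mem_center_iff.1 hz
      have hab' : Commute (a : G)⁻¹ b := by
        have h2 : Commute ((a : G) * b⁻¹) b := (hz' b).symm
        have h3 : (a : G) = (a : G) * b⁻¹ * b := by rw [inv_mul_cancel_right]
        rw [h3]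
        exact (h2.mul_left (Commute.refl b)).inv_left
      rw [← hab'.mul_pow, hτj]
      have h4 : (a : G)⁻¹ * b = ((a : G) * b⁻¹)⁻¹ := by
        rw [mul_inv_rev, inv_inv, hab'.eq]
      obtain ⟨w, hw, hwm, -⟩ := IsIrrCharacter.exists_central_scalar χ.2 hz
      have h5 := hwm 1
      rw [mul_one] at h5
      rw [h4, hconj, h5, hd, map_mul, map_natCast, mul_mul_mul_comm, Complex.mul_conj', hw]
      simp [pow_two]
    · rw [hvan _ (A.mul_mem a.2 (A.inv_mem hA0)) hz, zero_mul]
  rw [Finset.sum_congr rfl fun a _ => hterm a, ← Finset.sum_filter, Finset.sum_const,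
    nsmul_eq_mul, mul_eq_zero, Nat.cast_eq_zero, Finset.card_eq_zero, pow_eq_zero_iff two_ne_zero]
    at h1
  rcases h1 with h1 | h1
  · exact Finset.eq_empty_iff_forall_notMem.1 h1 ⟨b, hA0⟩
      (Finset.mem_filter.2 ⟨Finset.mem_univ _, by rw [mul_inv_cancel]; exact one_mem _⟩)
  · exact hcd h1

end Cfsg.Agent.S4843
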