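import Cfsg.Statements.S4845
import Cfsg.Agent.Lib.Char.GaloisPGroup

set_option autoImplicit false
open Cfsg

namespace Cfsg.Agent.S4845

open Cfsg.Agent.GalPG Cfsg.Agent.Char Cfsg.Agent.CharX

/-- Let p be a prime and P a finite non-commutative p-group. Then every two irreducible characters of P of the same degree greater than 1 are Galois conjugate (one is obtained from the other by composing with g ↦ g^k for some k prime to the order of P) if and only if the centre of P is cyclic and the derived subgroup of P has order p. -/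
theorem result {P : Type*} [Group P] [Finite P] (p : ℕ) [Fact p.Prime] (hP : IsPGroup p P) (hna : ¬ IsMulCommutative P) :
    (∀ χ ψ : Cfsg.IrrCharacter P, Cfsg.charDegree (χ : P → ℂ) ≠ 1 → Cfsg.charDegree (χ : P → ℂ) = Cfsg.charDegree (ψ : P → ℂ) → ∃ k : ℕ, Nat.Coprime k (Nat.card P) ∧ ∀ g : P, (ψ : P → ℂ) g = (χ : P → ℂ) (g ^ k)) ↔
      (IsCyclic (Subgroup.center P) ∧ Nat.card (commutator P) = p) := by
  classical
  refine ⟨fun hgal => cyclic_center_and_card_commutator (Nat.card P) P rfl hP ?_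
    (commutator_ne_bot hna), fun ⟨hcyc, hD⟩ χ ψ hχ hdeg => ?_⟩
  · intro χ ψ hχ hdeg g hg
    obtain ⟨k, hk, hψ⟩ := hgal χ ψ hχ hdeg
    obtain ⟨K, hK, hmem, -⟩ := exists_ker χ
    rw [hψ g, hψ 1, one_pow]
    exact (hmem _).mp (pow_mem ((hmem g).mpr hg) k)
  have hψ' : Cfsg.charDegree (ψ : P → ℂ) ≠ 1 := hdeg ▸ hχ
  haveI := hcyc
  obtain ⟨⟨z, hz⟩, hgen⟩ := IsCyclic.exists_generator (α := Subgroup.center P)
  obtain ⟨c, -, hc, -⟩ := IsIrrCharacter.exists_central_scalar χ.2 hz
  obtain ⟨e, -, he, -⟩ := IsIrrCharacter.exists_central_scalar ψ.2 hz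
  have key : ∀ (φ : Cfsg.IrrCharacter P) (a : ℂ), (∀ g, (φ : P → ℂ) (z * g) = a * (φ : P → ℂ) g) →
      Cfsg.charDegree (φ : P → ℂ) ≠ 1 →
      (∀ i : ℕ, (φ : P → ℂ) (z ^ i) = a ^ i * (φ : P → ℂ) 1) ∧
        IsPrimitiveRoot a (orderOf z) := by
    intro φ a ha hφ
    have hpow : ∀ i : ℕ, (φ : P → ℂ) (z ^ i) = a ^ i * (φ : P → ℂ) 1 := by
      intro i
      induction i with
      | zero => simp
      | succ i ih => rw [pow_succ', ha, ih, pow_succ']; ring
    refine ⟨hpow, ?_, fun i hi => orderOf_dvd_of_pow_eq_one ?_⟩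
    · have := hpow (orderOf z)
      rw [pow_orderOf_eq_one] at this
      exact mul_right_cancel₀ (IsIrrCharacter.one_ne_zero φ.2) (this.symm.trans (one_mul _).symm)
    · exact faithful hP hD hcyc hφ (by rw [hpow i, hi, one_mul])
  obtain ⟨hcpow, hcprim⟩ := key χ c hc hχ
  obtain ⟨hepow, heprim⟩ := key ψ e he hψ'
  haveI : NeZero (orderOf z) := ⟨(orderOf_pos z).ne'⟩
  obtain ⟨k, -, hk⟩ := hcprim.eq_pow_of_pow_eq_one heprim.pow_eq_one
  have hkn : k.Coprime (orderOf z) := by
    rw [← hk] at heprim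
    exact (hcprim.pow_iff_coprime (orderOf_pos z) k).1 heprim
  have hkp : k.Coprime (Nat.card P) := by
    obtain ⟨m, hm⟩ := IsPGroup.iff_card.mp hP
    obtain ⟨s, hs⟩ := IsPGroup.iff_orderOf.mp hP z
    have hs0 : s ≠ 0 := by
      rintro rfl
      rw [pow_zero, orderOf_eq_one_iff] at hs
      subst hs
      haveI := hP.isNilpotent
      refine SolvStruct.inf_center_ne_bot (commutator_ne_bot hna) (eq_bot_iff.mpr fun y hy => ?_)
      obtain ⟨i, hi⟩ := hgen ⟨y, hy.2⟩
      have := congrArg Subtype.val hi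
      simpa using this.symm
    rw [hs, Nat.coprime_pow_right_iff (Nat.pos_of_ne_zero hs0)] at hkn
    rw [hm]
    exact hkn.pow_right m
  refine ⟨k, hkp, fun g => ?_⟩
  by_cases hg : g ∈ Subgroup.center P
  · obtain ⟨i, hi⟩ := mem_powers_iff_mem_zpowers.mpr (hgen ⟨g, hg⟩)
    have hgi : z ^ i = g := congrArg Subtype.val hi
    subst hgi
    rw [← pow_mul, hcpow, hepow, ← hk, ← pow_mul, mul_comm k i, irr_deg, irr_deg, hdeg]
  · have hgk : g ^ k ∉ Subgroup.center P := fun hm => hg (by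
      have hinj : (powCoprime hkp.symm) g = g ^ k := rfl
      obtain ⟨m, hm'⟩ := exists_pow_eq_self_of_coprime (x := g) (n := k)
        (hkp.coprime_dvd_right (orderOf_dvd_natCard g))
      exact hm' ▸ pow_mem hm m)
    rw [vanish_off_center hP hD hψ' hg, vanish_off_center hP hD hχ hgk]

end Cfsg.Agent.S4845
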