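import Cfsg.Statements.S4850
import Cfsg.Agent.Lib.OneOrder.Main
import Mathlib.GroupTheory.IsSubnormal
-- import your own Cfsg.Agent.* helpers here

set_option autoImplicit false
open Cfsg

namespace Cfsg.Agent.S4850

theorem isSubnormal_of_nilpotent {F : Type*} [Group F] [Finite F] [Group.IsNilpotent F] :
    ∀ n : ℕ, ∀ H : Subgroup F, H.index ≤ n → H.IsSubnormal := by
  intro n
  induction n with
  | zero =>
    intro H hH
    exact absurd hH (Nat.not_le.2 (Nat.pos_of_ne_zero Subgroup.index_ne_zero_of_finite))
  | succ n ih =>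
    intro H hH
    by_cases htop : H = ⊤
    · rw [htop]; exact Subgroup.IsSubnormal.top
    have hlt : H < Subgroup.normalizer (H : Set F) :=
      Group.normalizerCondition_of_isNilpotent H (lt_top_iff_ne_top.2 htop)
    refine Subgroup.IsSubnormal.step H (Subgroup.normalizer (H : Set F)) hlt.le (ih _ ?_)
      (Subgroup.normal_subgroupOf_of_le_normalizer le_rfl)
    have := Subgroup.index_strictAnti hlt
    omega

/-- Let p be a prime and G a finite solvable group whose vanishing elements (elements at which some irreducible character is zero) of order divisible by p all have the same order, with at least one such element. Let P be a Sylow p-subgroup of G. Then the derived subgroup of P is subnormal in G and the image of P in G/O_p(G) is cyclic. -/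
theorem result {G : Type*} [Group G] [Finite G] [hs : Group.IsSolvable G] (p : ℕ) [Fact p.Prime] (b : ℕ) (hvo : {n : ℕ | p ∣ n ∧ ∃ (g : G) (χ : Cfsg.IrrCharacter G), orderOf g = n ∧ (χ : G → ℂ) g = 0} = {b}) (P : Sylow p G) :
    ((commutator ↥(P : Subgroup G)).map (P : Subgroup G).subtype).IsSubnormal ∧ IsCyclic ↥((P : Subgroup G).map (QuotientGroup.mk' (Cfsg.pCore p G))) := by
  classical
  have hsame : ∀ x y : G, OneOrder.Van x → OneOrder.Van y → p ∣ orderOf x → p ∣ orderOf y →
      orderOf x = orderOf y := by
    intro x y hx hy hpx hpy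
    obtain ⟨χ, hχ⟩ := hx
    obtain ⟨ψ, hψ⟩ := hy
    exact ((Set.ext_iff.1 hvo _).1 ⟨hpx, x, χ, rfl, hχ⟩).trans
      ((Set.ext_iff.1 hvo _).1 ⟨hpy, y, ψ, rfl, hψ⟩).symm
  set O := Cfsg.pCore p G with hO
  set f := QuotientGroup.mk' O with hf
  have hle := OneOrder.card_map_le hsame (P : Subgroup G) P.2
  have hcyc : IsCyclic ↥((P : Subgroup G).map f) := by
    obtain ⟨k, hk⟩ := IsPGroup.iff_card.1 (P.2.map f)
    rcases k with _ | k
    · haveI : Subsingleton ↥((P : Subgroup G).map f) :=
        (Nat.card_eq_one_iff_unique.1 (hk.trans (pow_zero p))).1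
      exact isCyclic_of_subsingleton
    · have hk0 : k = 0 := by
        by_contra h
        have hlt : p < p ^ (k + 1) := by
          conv_lhs => rw [← pow_one p]
          exact Nat.pow_lt_pow_right (Fact.out : p.Prime).one_lt (by omega)
        exact absurd (hk ▸ hle) (Nat.not_le.2 hlt)
      subst hk0
      exact isCyclic_of_prime_card (p := p) (hk.trans (pow_one p))
  refine ⟨?_, hcyc⟩
  have hsub : (commutator ↥(P : Subgroup G)).map (P : Subgroup G).subtype ≤ O := by
    rw [← QuotientGroup.ker_mk' O, ← hf, Subgroup.map_subtype_commutator, ← Subgroup.map_eq_bot_iff,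
      Subgroup.map_commutator]
    haveI := hcyc
    rw [Subgroup.commutator_eq_bot_iff_le_centralizer]
    letI := IsCyclic.commGroup (α := ↥((P : Subgroup G).map f))
    intro a ha b hb
    exact congrArg Subtype.val (mul_comm (⟨b, hb⟩ : ↥((P : Subgroup G).map f)) ⟨a, ha⟩)
  haveI : Group.IsNilpotent ↥O := (PBasic.pCore_isPGroup p G).isNilpotent
  have h1 := isSubnormal_of_nilpotent _ (((commutator ↥(P : Subgroup G)).map
    (P : Subgroup G).subtype).subgroupOf O) le_rfl
  exact Subgroup.IsSubnormal.trans hsub h1 (Cfsg.pCore_normal p G).isSubnormal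

end Cfsg.Agent.S4850
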