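import Cfsg.Statements.S4859
import Cfsg.Agent.Lib.Char.OddIndexReal
-- import your own Cfsg.Agent.* helpers here

set_option autoImplicit false
open Cfsg

open Cfsg.Agent.Char
open scoped ComplexConjugate

namespace Cfsg.Agent.S4859

/-- Let p be an odd prime, G a finite group and x an element of G whose order is a power of p (possibly 1) and whose centralizer has even order. Let y be a 2-element of the centralizer of x whose order is largest among the 2-elements of that centralizer. Then x * y is not a square in G, and some non-principal real-valued irreducible character of G does not vanish at x * y. -/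
theorem result {G : Type*} [Group G] [Finite G] (p : ℕ) [Fact p.Prime] (hp : p ≠ 2) (x : G) (hx : ∃ k : ℕ, orderOf x = p ^ k) (heven : Even (Nat.card (Subgroup.centralizer ({x} : Set G)))) (y : G) (hy : y ∈ Subgroup.centralizer ({x} : Set G)) (hy2 : ∃ k : ℕ, orderOf y = 2 ^ k) (hmax : ∀ z ∈ Subgroup.centralizer ({x} : Set G), (∃ k : ℕ, orderOf z = 2 ^ k) → orderOf z ≤ orderOf y) : (¬ ∃ u : G, u * u = x * y) ∧ ∃ χ : Cfsg.IrrCharacter G, ¬ ((χ : G → ℂ) = fun _ => (1 : ℂ)) ∧ (∀ g : G, ((χ : G → ℂ) g).im = 0) ∧ (χ : G → ℂ) (x * y) ≠ 0 := by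
  classical
  haveI := Fintype.ofFinite G
  obtain ⟨a, ha⟩ := hx
  obtain ⟨b, hb⟩ := hy2
  have hp' : p.Prime := Fact.out
  have hxy : Commute x y := (Subgroup.mem_centralizer_singleton_iff.1 hy).symm
  have hb0 : b ≠ 0 := by
    intro h0
    haveI : Fact (Nat.Prime 2) := ⟨Nat.prime_two⟩
    obtain ⟨z, hz⟩ := exists_prime_orderOf_dvd_card'
      (G := Subgroup.centralizer ({x} : Set G)) 2 (even_iff_two_dvd.1 heven)
    have h := hmax z z.2 ⟨1, by rw [Subgroup.orderOf_coe, hz, pow_one]⟩
    rw [Subgroup.orderOf_coe, hz, hb, h0, pow_zero] at h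
    omega
  have hcop : (2 ^ b).Coprime (p ^ a) :=
    ((Nat.coprime_primes Nat.prime_two hp').2 (Ne.symm hp)).pow b a
  have hsq : ¬ ∃ u : G, u * u = x * y := by
    rintro ⟨u, hu⟩
    have hux : Commute u x := by
      obtain ⟨j, hj⟩ := exists_pow_eq_self_of_coprime (x := x) (n := 2 ^ b) (ha ▸ hcop)
      have e : (x * y) ^ 2 ^ b = x ^ 2 ^ b := by
        rw [hxy.mul_pow, ← hb, pow_orderOf_eq_one, mul_one]
      rw [← hj, ← e, ← hu]
      exact (((Commute.refl u).mul_right (Commute.refl u)).pow_right _).pow_right _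
    set v := u ^ p ^ a with hv
    have hv2 : v * v = y ^ p ^ a := by
      rw [hv, ← (Commute.refl u).mul_pow, hu, hxy.mul_pow, ← ha, pow_orderOf_eq_one, one_mul]
    have hvC : v ∈ Subgroup.centralizer ({x} : Set G) :=
      Subgroup.mem_centralizer_singleton_iff.2 (hux.pow_left _).eq
    have hoy : orderOf (y ^ p ^ a) = 2 ^ b := by
      rw [(hb ▸ hcop : (orderOf y).Coprime (p ^ a)).orderOf_pow, hb]
    obtain ⟨c, rfl⟩ : ∃ c, b = c + 1 := ⟨b - 1, by omega⟩
    have hov : orderOf v = 2 ^ (c + 1 + 1) := by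
      haveI : Fact (Nat.Prime 2) := ⟨Nat.prime_two⟩
      refine orderOf_eq_prime_pow ?_ ?_
      · intro h
        rw [pow_succ' 2 c, pow_mul, pow_two, hv2] at h
        have h1 := orderOf_dvd_of_pow_eq_one h
        rw [hoy] at h1
        exact absurd ((Nat.pow_dvd_pow_iff_le_right (by norm_num)).1 h1) (by omega)
      · rw [pow_succ' 2 (c + 1), pow_mul, pow_two, hv2, ← hoy, pow_orderOf_eq_one]
    have h := hmax v hvC ⟨_, hov⟩
    rw [hov, hb] at h
    exact absurd ((Nat.pow_le_pow_iff_right (by norm_num)).1 h) (by omega)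
  refine ⟨hsq, ?_⟩
  have h0 := OddIndexReal.sum_nu_mul (x * y)
  haveI : IsEmpty {s : G // s * s = x * y} := ⟨fun s => hsq ⟨s.1, s.2⟩⟩
  rw [Nat.card_of_isEmpty, Nat.cast_zero] at h0
  by_contra hcon
  push Not at hcon
  rw [Finset.sum_eq_single (⟨fun _ => 1, isIrrCharacter_one⟩ : Cfsg.IrrCharacter G)] at h0
  · simp [OddIndexReal.nu, Nat.card_eq_fintype_card] at h0
  · intro χ _ hne
    rcases OddIndexReal.nu_cases χ with ⟨-, h⟩ | ⟨hr, -⟩
    · rw [h, zero_mul]
    · rw [hcon χ (fun h => hne (Subtype.ext h)) hr, map_zero, mul_zero]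
  · simp

end Cfsg.Agent.S4859
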