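import Cfsg.Statements.S4862
import Cfsg.Agent.Lib.Char.RealOver
import Cfsg.Agent.Lib.FiniteGroup.FrattiniAut
-- import your own Cfsg.Agent.* helpers here

set_option autoImplicit false
open Cfsg

open Cfsg.Agent.Char Cfsg.Agent.CharX
open scoped ComplexConjugate

namespace Cfsg.Agent.S4862

/-- Let p be an odd prime and G a finite group such that the subgroup generated by the p-elements of G is solvable and every real-valued irreducible complex character of G has degree prime to p. Let K be the subgroup generated by the 2-elements of G and P a Sylow p-subgroup of G. Then every normal subgroup M of G contained in K and in the derived subgroup of P is centralized by K. -/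
theorem result {G : Type*} [Group G] [Finite G] (p : ℕ) [Fact p.Prime] (hp : p ≠ 2) (hsolv : Group.IsSolvable ↥(Subgroup.closure {g : G | ∃ k : ℕ, orderOf g = p ^ k})) (hreal : ∀ χ : Cfsg.IrrCharacter G, (∀ g : G, ((χ : G → ℂ) g).im = 0) → ¬ p ∣ Cfsg.charDegree (χ : G → ℂ)) (P : Sylow p G) (M : Subgroup G) (hM : M.Normal) (hMK : M ≤ (Subgroup.closure {g : G | ∃ k : ℕ, orderOf g = 2 ^ k})) (hMP : M ≤ ⁅(P : Subgroup G), (P : Subgroup G)⁆) : (Subgroup.closure {g : G | ∃ k : ℕ, orderOf g = 2 ^ k}) ≤ Subgroup.centralizer (M : Set G) := by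
  classical
  haveI := Fintype.ofFinite G
  haveI := hM
  haveI := Fintype.ofFinite M
  have hp' : p.Prime := Fact.out
  haveI : Fintype ↥(P : Subgroup G) := Fintype.ofFinite _
  have hMleP : M ≤ (P : Subgroup G) := hMP.trans (Subgroup.commutator_le_self _)
  have hMp : IsPGroup p M := P.isPGroup'.to_le hMleP
  haveI := hMp.isNilpotent
  obtain ⟨n, hn⟩ := IsPGroup.iff_card.1 hMp
  have hodd : Odd (Nat.card M) := hn ▸ (hp'.odd_of_ne_two hp).pow
  obtain ⟨r, hr⟩ : ∃ r, (frattini M).index = p ^ r := by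
    obtain ⟨r, -, hr⟩ := (Nat.dvd_prime_pow hp').1 (hn ▸ (frattini M).index_dvd_card)
    exact ⟨r, hr⟩
  rw [Subgroup.closure_le]
  rintro t ⟨k, hk⟩
  rw [SetLike.mem_coe, Subgroup.mem_centralizer_iff]
  by_contra hno
  by_cases hall : ∀ μ : M →* ℂˣ, μ.comp (conjHom M t) = μ
  · -- `t` acts trivially on the Frattini quotient, so trivially
    apply hno
    set a : MulAut M := MulAut.conjNormal t with ha
    haveI : IsMulCommutative (M ⧸ frattini M) :=
      Subgroup.Normal.quotient_commutative_iff_commutator_le.2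
        (SolvStruct.commutator_le_frattini M)
    have h1 : ∀ x : M, a x * x⁻¹ ∈ frattini M := by
      intro x
      rw [← QuotientGroup.eq_one_iff]
      by_contra h
      obtain ⟨f, hf⟩ := CyclicTI.exists_hom_ne_one h
      apply hf
      have h2 := DFunLike.congr_fun (hall (f.comp (QuotientGroup.mk' (frattini M)))) x
      rw [MonoidHom.comp_apply, show conjHom M t x = a x from Subtype.ext rfl] at h2
      rw [QuotientGroup.mk_mul, QuotientGroup.mk_inv, map_mul, map_inv, mul_inv_eq_one]
      exact h2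
    have hA : ∀ b ∈ Subgroup.zpowers a, ∀ x : M, b x * x⁻¹ ∈ frattini M := by
      intro b hb
      obtain ⟨i, rfl⟩ := (isOfFinOrder_of_finite a).mem_powers_iff_mem_zpowers.2 hb
      show ∀ x : M, (a ^ i) x * x⁻¹ ∈ frattini M
      clear hb
      induction i with
      | zero => intro x; simp
      | succ i ih =>
        intro x
        have h2 := mul_mem (ih (a x)) (h1 x)
        simp only [mul_assoc, inv_mul_cancel_left] at h2
        rw [pow_succ, MulAut.mul_apply]
        exact h2
    have h3 : orderOf a ∣ p ^ (r * (n - r)) := by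
      rw [← Nat.card_zpowers]
      exact FrattiniAut.card_dvd_of_trivial hn hr _ hA
    have h4 : orderOf a ∣ 2 ^ k := by
      apply orderOf_dvd_of_pow_eq_one
      rw [ha, ← map_pow, ← hk, pow_orderOf_eq_one, map_one]
    have hcop : (p ^ (r * (n - r))).Coprime (2 ^ k) :=
      Nat.Coprime.pow _ _ ((Nat.coprime_primes hp' Nat.prime_two).2 hp)
    have h5 : a = 1 := orderOf_eq_one_iff.1
      (Nat.eq_one_of_dvd_coprimes hcop h3 h4)
    intro m hm
    have h6 := congrArg Subtype.val (DFunLike.congr_fun h5 (⟨m, hm⟩ : M))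
    rw [ha, MulAut.conjNormal_apply, MulAut.one_apply] at h6
    exact (mul_inv_eq_iff_eq_mul.1 h6).symm
  push Not at hall
  obtain ⟨s, l, hl1, hl⟩ := RealPPrime.exists_inverted M k t (hk ▸ pow_orderOf_eq_one t) hall
  obtain ⟨χ, hχr, hover⟩ := RealOver.exists_real_over M l hodd s hl
  have hdeg := hreal χ hχr
  -- a linear constituent on `P`
  have hχP := IsCharacter.restrict (IsIrrCharacter.isCharacter χ.2) (P : Subgroup G)
  obtain ⟨a, ha⟩ := IsCharacter.exists_decomp hχP
  obtain ⟨ξ, hξa, hξd⟩ : ∃ ξ, a ξ ≠ 0 ∧ ¬ p ∣ Cfsg.charDegree (ξ : ↥(P : Subgroup G) → ℂ) := by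
    by_contra hcon
    push Not at hcon
    apply hdeg
    have h1 := congrFun ha 1
    simp only [Finset.sum_apply, Pi.smul_apply, smul_eq_mul, irr_deg, OneMemClass.coe_one] at h1
    rw [show Cfsg.charDegree (χ : G → ℂ) = ∑ ξ, a ξ * Cfsg.charDegree (ξ : ↥(P : Subgroup G) → ℂ)
      from by exact_mod_cast h1]
    refine Finset.dvd_sum fun ξ _ => ?_
    by_cases h0 : a ξ = 0
    · simp [h0]
    · exact dvd_mul_of_dvd_right (hcon ξ h0) _
  have hξ1 : (ξ : ↥(P : Subgroup G) → ℂ) 1 = 1 := by
    obtain ⟨m, hm⟩ := IsPGroup.iff_card.1 P.isPGroup'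
    obtain ⟨i, -, hi⟩ := (Nat.dvd_prime_pow hp').1 (hm ▸ irr_deg_dvd_card ξ)
    rcases i with - | i
    · rw [irr_deg, hi, pow_zero, Nat.cast_one]
    · exact absurd (hi ▸ dvd_pow_self p (Nat.succ_ne_zero i)) hξd
  obtain ⟨f, hf⟩ := exists_hom_of_degree_one (IsIrrCharacter.isCharacter ξ.2) hξ1
  have hfM : ∀ m : M, f ⟨m, hMleP m.2⟩ = 1 := by
    intro m
    have h1 : (m : G) ∈ (commutator ↥(P : Subgroup G)).map (P : Subgroup G).subtype := by
      rw [Subgroup.map_subtype_commutator]
      exact hMP m.2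
    obtain ⟨x, hx, hxm⟩ := h1
    rw [show (⟨(m : G), hMleP m.2⟩ : ↥(P : Subgroup G)) = x from Subtype.ext hxm.symm]
    exact MonoidHom.mem_ker.1 (Abelianization.commutator_subset_ker f hx)
  -- the trivial character is a constituent on `M`
  have hone : Cfsg.classInner (fun m : M => (χ : G → ℂ) m) (fun _ => (1 : ℂ)) ≠ 0 := by
    choose c hc using fun ζ : Cfsg.IrrCharacter ↥(P : Subgroup G) =>
      IsCharacter.exists_classInner_nat
        (IsCharacter.comp (IsIrrCharacter.isCharacter ζ.2) (Subgroup.inclusion hMleP))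
        (isCharacter_one (G := M))
    have hdec : (fun m : M => (χ : G → ℂ) m) = ∑ ζ : Cfsg.IrrCharacter ↥(P : Subgroup G),
        (a ζ : ℂ) • fun m : M => (ζ : ↥(P : Subgroup G) → ℂ) (Subgroup.inclusion hMleP m) := by
      funext m
      have := congrFun ha (Subgroup.inclusion hMleP m)
      simp only [Finset.sum_apply, Pi.smul_apply] at this ⊢
      exact this
    have hcξ : (c ξ : ℂ) = 1 := by
      rw [← hc, show (fun m : M => (ξ : ↥(P : Subgroup G) → ℂ) (Subgroup.inclusion hMleP m)) =
        fun _ => (1 : ℂ) from funext fun m => by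
          rw [hf]
          show ((f ⟨m, hMleP m.2⟩ : ℂˣ) : ℂ) = 1
          rw [hfM, Units.val_one]]
      exact classInner_self_irr isIrrCharacter_one
    rw [hdec, classInner_sum_left, Finset.sum_congr rfl fun ζ _ => show
      Cfsg.classInner ((a ζ : ℂ) • fun m : M => (ζ : ↥(P : Subgroup G) → ℂ)
        (Subgroup.inclusion hMleP m)) (fun _ => (1 : ℂ)) = ((a ζ * c ζ : ℕ) : ℂ) by
        rw [classInner_smul_left, hc, Nat.cast_mul], ← Nat.cast_sum, Nat.cast_ne_zero]
    intro h
    rcases Nat.mul_eq_zero.1 (Finset.sum_eq_zero_iff.1 h ξ (Finset.mem_univ ξ)) with e | e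
    · exact hξa e
    · rw [e, Nat.cast_zero] at hcξ
      exact zero_ne_one hcξ
  obtain ⟨g, hg⟩ := (mem_conjOrbit M).1
    (restrict_constituent_conj M χ.2 (isIrrCharacter_linear l) isIrrCharacter_one hover hone)
  refine hl1 (MonoidHom.ext fun m => Units.ext ?_)
  obtain ⟨m', rfl⟩ := conjHom_surjective M g m
  exact (congrFun hg m').symm

end Cfsg.Agent.S4862
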