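import Cfsg.Statements.S4864
import Cfsg.Agent.Lib.Char.RealClassFix
-- import your own Cfsg.Agent.* helpers here

set_option autoImplicit false
open Cfsg

open Cfsg.Agent.CharX
open scoped ComplexConjugate

namespace Cfsg.Agent.S4864

/-- Let p be a prime and G a finite group such that the subgroup generated by the p-elements of G is solvable and every real-valued irreducible complex character of G has degree prime to p. Then the normalizer of a Sylow p-subgroup of G contains an element of every real conjugacy class of G: every element conjugate to its inverse is conjugate to an element of that normalizer. -/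
theorem result {G : Type*} [Group G] [Finite G] (p : ℕ) [Fact p.Prime] (hsolv : Group.IsSolvable ↥(Subgroup.closure {g : G | ∃ k : ℕ, orderOf g = p ^ k})) (hreal : ∀ χ : Cfsg.IrrCharacter G, (∀ g : G, ((χ : G → ℂ) g).im = 0) → ¬ p ∣ Cfsg.charDegree (χ : G → ℂ)) (P : Sylow p G) (x : G) (hx : IsConj x x⁻¹) : ∃ y ∈ Subgroup.normalizer ((P : Subgroup G) : Set G), IsConj x y := by
  haveI : Fact (Nat.Prime 2) := ⟨Nat.prime_two⟩
  haveI := Fintype.ofFinite G
  have hKn : (RealPPrime.genBy 2 G).Normal := RealPPrime.genBy_normal 2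
  haveI := hKn
  set K := RealPPrime.genBy 2 G with hK
  let S : Sylow p ↥K := default
  have hQn : ((S : Subgroup ↥K).map K.subtype).Normal :=
    RealPPrime.normal_sylow p hsolv hreal K hKn le_rfl ⟨0, by rw [Subgroup.relIndex_self, pow_zero]⟩ S
  set Q := (S : Subgroup ↥K).map K.subtype with hQ
  haveI : Q.Normal := hQn
  have hQp : IsPGroup p Q := S.isPGroup'.map K.subtype
  have hQP : Q ≤ (P : Subgroup G) := hQp.le_sylow_of_normal P
  by_cases hp2 : p = 2
  · subst hp2
    have hSn : (S : Subgroup ↥K).Normal :=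
      RealPPrime.normal_sylow' 2 hsolv hreal _ hKn le_rfl ⟨0, by rw [Subgroup.relIndex_self, pow_zero]⟩ S
    haveI := hSn
    have hKQ : K ≤ Q := by
      rw [hK, Subgroup.closure_le]
      rintro t ⟨j, hj⟩
      have htK : t ∈ K := Subgroup.subset_closure ⟨j, hj⟩
      have hz : IsPGroup 2 (Subgroup.zpowers (⟨t, htK⟩ : K)) := by
        refine IsPGroup.of_card (n := j) ?_
        rw [Nat.card_zpowers, Subgroup.orderOf_mk, hj]
      obtain ⟨T, hT⟩ := hz.exists_le_sylow
      haveI := Sylow.unique_of_normal S hSn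
      rw [Subsingleton.elim T S] at hT
      exact ⟨⟨t, htK⟩, hT (Subgroup.mem_zpowers _), rfl⟩
    have hPK : (P : Subgroup G) = K := le_antisymm
      (fun a ha => RealPPrime.mem_genBy P.isPGroup' ha) (hKQ.trans hQP)
    refine ⟨x, ?_, IsConj.refl x⟩
    rw [hPK, Subgroup.normalizer_eq_top]
    exact Subgroup.mem_top x
  set π := QuotientGroup.mk' Q with hπ
  have hsurj : Function.Surjective π := QuotientGroup.mk'_surjective Q
  haveI : (K.map π).Normal := hKn.map π hsurj
  haveI := Fintype.ofFinite (G ⧸ Q)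
  haveI := Fintype.ofFinite ↥(K.map π)
  have hpK : ¬ p ∣ Nat.card ↥(K.map π) := by
    have hcard : (π.subgroupMap K).ker.index = Nat.card ↥(K.map π) := by
      rw [Subgroup.index_ker, MonoidHom.range_eq_top.2 (π.subgroupMap_surjective K),
        Subgroup.card_top]
    rw [← hcard]
    have : (π.subgroupMap K).ker = (S : Subgroup ↥K) := by
      ext a
      rw [MonoidHom.mem_ker, Subtype.ext_iff]
      show π (a : G) = 1 ↔ _
      rw [hπ, QuotientGroup.mk'_apply, QuotientGroup.eq_one_iff, hQ,
        show (a : G) = K.subtype a from rfl, Subgroup.mem_map_iff_mem K.subtype_injective]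
    rw [this]
    exact S.not_dvd_index
  have hoddK : Odd K.index := by
    let T : Sylow 2 G := default
    have hT : (T : Subgroup G) ≤ K := fun a ha => RealPPrime.mem_genBy T.isPGroup' ha
    rw [← Nat.not_even_iff_odd, even_iff_two_dvd]
    exact fun h => T.not_dvd_index (h.trans (Subgroup.index_dvd_of_le hT))
  have hodd : Odd (K.map π).index := hoddK.of_dvd_nat (K.index_map_dvd hsurj)
  have hreal' : ∀ χ : Cfsg.IrrCharacter (G ⧸ Q), (∀ g, ((χ : G ⧸ Q → ℂ) g).im = 0) →
      ¬ p ∣ Cfsg.charDegree (χ : G ⧸ Q → ℂ) :=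
    fun χ hχ => hreal (infl Q χ) fun g => hχ (g : G ⧸ Q)
  have hx' : IsConj (π x) (π x)⁻¹ := by rw [← map_inv]; exact MonoidHom.map_isConj π hx
  obtain ⟨z, hz, hzc⟩ := RealClassFix.exists_centralized (K.map π) hp2 hpK hodd hreal'
    (P.mapSurjective hsurj) hx'
  obtain ⟨w', hw'⟩ := isConj_iff.1 hz
  obtain ⟨w, rfl⟩ := hsurj w'
  refine ⟨w * x * w⁻¹, ?_, isConj_iff.2 ⟨w, rfl⟩⟩
  have hy : ∀ b : G, Commute (π b) z → ∀ a ∈ (P : Subgroup G), π b * π a = π a * π b →
      b * a * b⁻¹ ∈ (P : Subgroup G) := by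
    intro b _ a ha hc
    have h1 : b * a * b⁻¹ * a⁻¹ ∈ Q := by
      rw [← QuotientGroup.eq_one_iff]
      show π (b * a * b⁻¹ * a⁻¹) = 1
      rw [map_mul, map_mul, map_mul, hc, map_inv, map_inv, mul_inv_cancel_right, mul_inv_cancel]
    have := mul_mem (hQP h1) ha
    rwa [inv_mul_cancel_right] at this
  have hzy : π (w * x * w⁻¹) = z := by rw [map_mul, map_mul, map_inv, hw']
  have hcom : ∀ a ∈ (P : Subgroup G), π a * z = z * π a := fun a ha =>
    hzc (π a) ⟨a, ha, rfl⟩
  rw [Subgroup.mem_normalizer_iff]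
  intro a
  constructor
  · intro ha
    exact hy _ (by rw [hzy]) a ha (by rw [hzy, hcom a ha])
  · intro ha
    set y := w * x * w⁻¹
    have := hy y⁻¹ (by rw [map_inv, hzy]; exact (Commute.refl z).inv_left) _ ha (by
      rw [map_inv, hzy]
      exact ((show Commute (π (y * a * y⁻¹)) z from hcom _ ha).symm.inv_left).eq)
    simpa [mul_assoc] using this

end Cfsg.Agent.S4864
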