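import Cfsg.Statements.S4914
import Cfsg.Agent.Lib.Char.RelGlaubermanMain
-- import your own Cfsg.Agent.* helpers here

set_option autoImplicit false
open Cfsg

open Cfsg.Agent Cfsg.Agent.Char Cfsg.Agent.CharX
open scoped ComplexConjugate

namespace Cfsg.Agent.S4914

/-- Let P and K be subgroups of a finite group G with P a p-group normalizing K, and suppose K has a normal Sylow p-subgroup Q. Let C be the subgroup of those k ∈ K whose commutator with every element of P lies in Q (so that C/Q is the fixed-point subgroup of P on K/Q). Then there is a bijection f from the P-invariant irreducible complex characters of K onto the P-invariant irreducible complex characters of C such that, for every P-invariant irreducible character χ of K, the multiplicity of f(χ) in the restriction of χ to C is a natural number congruent to 1 or to −1 modulo p, every other P-invariant irreducible character of C occurs in that restriction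 with multiplicity divisible by p, and the degrees of χ and f(χ) are congruent modulo p up to sign. -/
theorem result {G : Type*} [Group G] [Finite G] (p : ℕ) [Fact p.Prime] (P K Q C : Subgroup G) (hP : IsPGroup p ↥P) (hPK : P ≤ Subgroup.normalizer (K : Set G)) (hQK : Q ≤ K) (hQn : ∀ k ∈ K, ∀ q ∈ Q, k * q * k⁻¹ ∈ Q) (hQp : ∃ a : ℕ, Nat.card ↥Q = p ^ a) (hQsyl : ¬ p ∣ Q.relIndex K) (hCK : C ≤ K) (hC : ∀ k : G, k ∈ C ↔ (k ∈ K ∧ ∀ x ∈ P, x * k * x⁻¹ * k⁻¹ ∈ Q)) : ∃ f : {χ : Cfsg.IrrCharacter ↥K // (∀ x ∈ P, ∀ k k' : ↥K, (k' : G) = x * (k : G) * x⁻¹ → (χ : ↥K → ℂ) k' = (χ : ↥K → ℂ) k)} → {ξ : Cfsg.IrrCharacter ↥C // (∀ x ∈ P, ∀ k k' : ↥C, (k' : G) = x * (k : G) * x⁻¹ → (ξ : ↥C → ℂ) k' = (ξ : ↥C → ℂ) k)}, Function.Bijective f ∧ ∀ χ, (∀ ξ : {ξ : Cfsg.IrrCharacter ↥C // (∀ x ∈ P, ∀ k k' : ↥C, (k' : G) = x * (k : G) * x⁻¹ → (ξ : ↥C → ℂ) k' = (ξ : ↥C → ℂ) k)}, ∃ m : ℕ, (Nat.card ↥C : ℂ)⁻¹ * ∑ᶠ c : ↥C, (χ.1 : ↥K → ℂ) (Subgroup.inclusion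 hCK c) * (starRingEnd ℂ) ((ξ.1 : ↥C → ℂ) c) = (m : ℂ) ∧ (ξ = f χ → ((m : ZMod p) = 1 ∨ (m : ZMod p) = -1)) ∧ (ξ ≠ f χ → p ∣ m)) ∧ ((Cfsg.charDegree ((f χ).1 : ↥C → ℂ) : ZMod p) = (Cfsg.charDegree (χ.1 : ↥K → ℂ) : ZMod p) ∨ (Cfsg.charDegree ((f χ).1 : ↥C → ℂ) : ZMod p) = -(Cfsg.charDegree (χ.1 : ↥K → ℂ) : ZMod p)) := by
  classical
  haveI := Fintype.ofFinite K
  haveI hQn' : (Q.subgroupOf K).Normal := ⟨fun q hq k =>
    Subgroup.mem_subgroupOf.2 (hQn k k.2 q (Subgroup.mem_subgroupOf.1 hq))⟩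
  let φ : P →* MulAut K := K.normalizerMonoidHom.comp (Subgroup.inclusion hPK)
  have hφ : ∀ (u : P) (k : K), ((φ u k : K) : G) = (u : G) * k * (u : G)⁻¹ := fun u k => rfl
  have hidx : ¬ p ∣ (Q.subgroupOf K).index := hQsyl
  have hQp' : ∃ a : ℕ, Nat.card (Q.subgroupOf K) = p ^ a :=
    hQp.imp fun a ha => by rw [Nat.card_congr (Subgroup.subgroupOfEquivOfLe hQK).toEquiv, ha]
  have hQinv : ∀ u, ∀ q ∈ Q.subgroupOf K, φ u q ∈ Q.subgroupOf K := by
    intro u q hq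
    obtain ⟨a, ha⟩ := hQp'
    have h1 : q ^ p ^ a = 1 := by
      rw [← ha]
      exact congrArg Subtype.val (pow_card_eq_one' (x := (⟨q, hq⟩ : Q.subgroupOf K)))
    rw [← QuotientGroup.eq_one_iff]
    refine CharExtend.eq_one_of_pow_coprime (a := p ^ a) (b := (Q.subgroupOf K).index) ?_ ?_
      (((Fact.out : p.Prime).coprime_iff_not_dvd.2 hidx).pow_left a)
    · rw [← QuotientGroup.mk_pow, ← map_pow, h1, map_one, QuotientGroup.mk_one]
    · exact pow_card_eq_one'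
  set C' := RelGlauberman.relFixed φ (Q.subgroupOf K) hQinv with hC'def
  haveI := Fintype.ofFinite C'
  haveI := Fintype.ofFinite C
  have hmemC : ∀ k : K, k ∈ C' ↔ (k : G) ∈ C := fun k => by
    rw [hC, hC'def, RelGlauberman.mem_relFixed]
    exact ⟨fun h => ⟨k.2, fun x hx => h ⟨x, hx⟩⟩, fun h u => h.2 u u.2⟩
  let e : C ≃* C' :=
    { toFun := fun c => ⟨Subgroup.inclusion hCK c, (hmemC _).2 c.2⟩
      invFun := fun c => ⟨((c : K) : G), (hmemC _).1 c.2⟩
      left_inv := fun c => rfl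
      right_inv := fun c => rfl
      map_mul' := fun a b => rfl }
  have hinvK : ∀ f : K → ℂ, GlaubermanMod.IsInv φ f ↔
      ∀ x ∈ P, ∀ k k' : K, (k' : G) = x * (k : G) * x⁻¹ → f k' = f k := by
    intro f
    refine ⟨fun h x hx k k' hk => ?_, fun h u k => h u u.2 k _ (hφ u k)⟩
    rw [show k' = φ ⟨x, hx⟩ k from Subtype.ext (hk.trans (hφ ⟨x, hx⟩ k).symm)]
    exact h _ _
  have hinvC : ∀ f : C' → ℂ, GlaubermanMod.IsInv (RelGlauberman.actC hQinv) f ↔
      ∀ x ∈ P, ∀ k k' : C, (k' : G) = x * (k : G) * x⁻¹ → f (e k') = f (e k) := by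
    intro f
    refine ⟨fun h x hx k k' hk => ?_, fun h u c => ?_⟩
    · rw [show e k' = RelGlauberman.actC hQinv ⟨x, hx⟩ (e k) from
        Subtype.ext (Subtype.ext (hk.trans (hφ ⟨x, hx⟩ (Subgroup.inclusion hCK k)).symm))]
      exact h _ _
    · exact h u u.2 (e.symm c) (e.symm (RelGlauberman.actC hQinv u c)) (hφ u _)
  obtain ⟨h1, h2, h3⟩ := RelGlauberman.correspondence hQinv hidx hQp' hP
  have hinner : ∀ (χ : Cfsg.IrrCharacter K) (ξ : C' → ℂ),
      (Nat.card C : ℂ)⁻¹ * ∑ᶠ c : C, (χ : K → ℂ) (Subgroup.inclusion hCK c) * conj (ξ (e c)) =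
        Cfsg.classInner (fun c : C' => (χ : K → ℂ) c) ξ := by
    intro χ ξ
    rw [finsum_eq_sum_of_fintype,
      ← RelGlauberman.classInner_comp_surj e.toMonoidHom e.surjective (fun c : C' => (χ : K → ℂ) c) ξ]
    rfl
  choose F hF1 hF2 hF3 using h1
  let toC' : Cfsg.IrrCharacter C → Cfsg.IrrCharacter C' := fun ξ =>
    ⟨fun c => (ξ : C → ℂ) (e.symm c), IsIrrCharacter.comp ξ.2 e.symm.toMonoidHom e.symm.surjective⟩
  let ofC' : Cfsg.IrrCharacter C' → Cfsg.IrrCharacter C := fun ξ =>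
    ⟨fun c => (ξ : C' → ℂ) (e c), IsIrrCharacter.comp ξ.2 e.toMonoidHom e.surjective⟩
  have htoof : ∀ ξ, toC' (ofC' ξ) = ξ := fun ξ => Subtype.ext (funext fun c =>
    congrArg (ξ : C' → ℂ) (e.apply_symm_apply c))
  have hofto : ∀ ξ, ofC' (toC' ξ) = ξ := fun ξ => Subtype.ext (funext fun c =>
    congrArg (ξ : C → ℂ) (e.symm_apply_apply c))
  have htoinv : ∀ ξ : Cfsg.IrrCharacter C, (∀ x ∈ P, ∀ k k' : C, (k' : G) = x * (k : G) * x⁻¹ →
      (ξ : C → ℂ) k' = (ξ : C → ℂ) k) →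
      GlaubermanMod.IsInv (RelGlauberman.actC hQinv) (toC' ξ : C' → ℂ) := by
    intro ξ hξ
    rw [hinvC]
    intro x hx k k' hk
    show (ξ : C → ℂ) (e.symm (e k')) = (ξ : C → ℂ) (e.symm (e k))
    rw [e.symm_apply_apply, e.symm_apply_apply]
    exact hξ x hx k k' hk
  refine ⟨fun χ => ⟨ofC' (F χ.1 ((hinvK _).2 χ.2)), (hinvC _).1 (hF1 _ _)⟩, ⟨?_, ?_⟩, ?_⟩
  · intro χ χ' h
    have h' : F χ.1 ((hinvK _).2 χ.2) = F χ'.1 ((hinvK _).2 χ'.2) := by
      rw [← htoof (F χ.1 _), ← htoof (F χ'.1 _)]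
      exact congrArg toC' (congrArg Subtype.val h)
    obtain ⟨m, hm, hm1⟩ := hF2 χ.1 ((hinvK _).2 χ.2)
    obtain ⟨m', hm', hm1'⟩ := hF2 χ'.1 ((hinvK _).2 χ'.2)
    rw [← h'] at hm'
    have hnd : ∀ n : ℕ, (n : ZMod p) = 1 ∨ (n : ZMod p) = -1 → ¬ p ∣ n := fun n hn hd => by
      rw [← ZMod.natCast_eq_zero_iff] at hd
      rcases hn with hn | hn <;> simp [hd] at hn
    exact Subtype.ext (h3 _ _ _ ((hinvK _).2 χ.2) ((hinvK _).2 χ'.2) (hF1 _ _)
      ⟨m, hm, hnd m hm1⟩ ⟨m', hm', hnd m' hm1'⟩)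
  · rintro ⟨ξ, hξ⟩
    obtain ⟨χ, hχ, m, hm, hmd⟩ := h2 (toC' ξ) (htoinv ξ hξ)
    refine ⟨⟨χ, (hinvK _).1 hχ⟩, Subtype.ext ?_⟩
    show ofC' (F χ _) = ξ
    by_contra hne
    obtain ⟨m', hm', hmd'⟩ := hF3 χ ((hinvK _).2 ((hinvK _).1 hχ)) (toC' ξ) (htoinv ξ hξ)
      (fun h => hne (by rw [← h, hofto]))
    rw [hm, Nat.cast_inj] at hm'
    exact hmd (hm' ▸ hmd')
  · intro χ
    set hχ := (hinvK (χ.1 : K → ℂ)).2 χ.2
    refine ⟨fun ξ => ?_, ?_⟩
    · obtain ⟨m, hm⟩ := IsCharacter.exists_classInner_nat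
        (IsCharacter.restrict (IsIrrCharacter.isCharacter χ.1.2) C')
        (IsIrrCharacter.isCharacter (toC' ξ.1).2)
      refine ⟨m, ?_, fun h => ?_, fun h => ?_⟩
      · rw [← hm, ← hinner χ.1 (toC' ξ.1 : C' → ℂ)]
        congr 1
      · obtain ⟨m', hm', hm1⟩ := hF2 χ.1 hχ
        have : toC' ξ.1 = F χ.1 hχ := by
          rw [show ξ.1 = ofC' (F χ.1 hχ) from congrArg Subtype.val h, htoof]
        rw [this, hm', Nat.cast_inj] at hm
        exact hm ▸ hm1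
      · obtain ⟨m', hm', hmd⟩ := hF3 χ.1 hχ (toC' ξ.1) (htoinv _ ξ.2) (fun e' => h (Subtype.ext (by
          show ξ.1 = ofC' (F χ.1 hχ)
          rw [← e', hofto])))
        rw [hm', Nat.cast_inj] at hm
        exact hm ▸ hmd
    · have hdeg : Cfsg.charDegree ((ofC' (F χ.1 hχ)) : C → ℂ) =
          Cfsg.charDegree ((F χ.1 hχ) : C' → ℂ) := by
        simp [Cfsg.charDegree, ofC']
      show (Cfsg.charDegree ((ofC' (F χ.1 hχ)) : C → ℂ) : ZMod p) = _ ∨
        (Cfsg.charDegree ((ofC' (F χ.1 hχ)) : C → ℂ) : ZMod p) = -_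
      rw [hdeg]
      have hres := IsCharacter.restrict (IsIrrCharacter.isCharacter χ.1.2) C'
      choose n hn using fun ξ : Cfsg.IrrCharacter C' =>
        IsCharacter.exists_classInner_nat hres (IsIrrCharacter.isCharacter ξ.2)
      have hsum : (Cfsg.charDegree (χ.1 : K → ℂ) : ℂ) =
          ((∑ ξ : Cfsg.IrrCharacter C', n ξ * Cfsg.charDegree (ξ : C' → ℂ) : ℕ) : ℂ) := by
        have h := congrFun (IsCharacter.eq_sum hres) 1
        simp only [Finset.sum_apply, Pi.smul_apply, smul_eq_mul, OneMemClass.coe_one, hn] at h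
        rw [← irr_deg χ.1, h]
        push_cast
        exact Finset.sum_congr rfl fun ξ _ => by rw [irr_deg ξ]
      rw [Nat.cast_injective hsum, Nat.cast_sum]
      letI : MulAction P (Cfsg.IrrCharacter C') :=
        GlaubermanMod.irrAction (RelGlauberman.actC hQinv)
      have hfi : ∀ ξ : Cfsg.IrrCharacter C', ξ ∈ MulAction.fixedPoints P (Cfsg.IrrCharacter C') →
          GlaubermanMod.IsInv (RelGlauberman.actC hQinv) (ξ : C' → ℂ) := by
        intro ξ h u y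
        have h1 := congrFun (congrArg Subtype.val (h u⁻¹)) y
        have h2 : (ξ : C' → ℂ) (RelGlauberman.actC hQinv u⁻¹⁻¹ y) = (ξ : C' → ℂ) y := h1
        rwa [inv_inv] at h2
      have hif : ∀ ξ : Cfsg.IrrCharacter C', GlaubermanMod.IsInv (RelGlauberman.actC hQinv) (ξ : C' → ℂ) →
          ξ ∈ MulAction.fixedPoints P (Cfsg.IrrCharacter C') :=
        fun ξ h u => Subtype.ext (funext fun y => h u⁻¹ y)
      rw [Blocks.sum_eq_sum_fixed hP
        (fun ξ : Cfsg.IrrCharacter C' => ((n ξ * Cfsg.charDegree (ξ : C' → ℂ) : ℕ) : ZMod p))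
        (fun u ξ => by
          have hd : Cfsg.charDegree ((u • ξ : Cfsg.IrrCharacter C') : C' → ℂ) =
              Cfsg.charDegree (ξ : C' → ℂ) := by
            show Cfsg.charDegree (fun y => (ξ : C' → ℂ) (RelGlauberman.actC hQinv u⁻¹ y)) = _
            simp [Cfsg.charDegree]
          have hm : n (u • ξ) = n ξ := by
            apply Nat.cast_injective (R := ℂ)
            rw [← hn, ← hn, ← RelGlauberman.classInner_comp_surj
              (RelGlauberman.actC hQinv u⁻¹).toMonoidHom (RelGlauberman.actC hQinv u⁻¹).surjective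
              (fun c : C' => (χ.1 : K → ℂ) c) (ξ : C' → ℂ)]
            congr 1
            exact funext fun c => (hχ u⁻¹ (c : K)).symm
          rw [hd, hm]),
        Finset.sum_eq_single (F χ.1 hχ)]
      · obtain ⟨m, hm, hm1⟩ := hF2 χ.1 hχ
        rw [hn, Nat.cast_inj] at hm
        rw [hm, Nat.cast_mul]
        rcases hm1 with h | h <;> rw [h]
        · exact Or.inl (one_mul _).symm
        · exact Or.inr (by rw [neg_one_mul, neg_neg])
      · intro ξ hξ hne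
        obtain ⟨m, hm, hmd⟩ := hF3 χ.1 hχ ξ (hfi ξ (Finset.mem_filter.1 hξ).2) hne
        rw [hn, Nat.cast_inj] at hm
        rw [hm, Nat.cast_mul, (ZMod.natCast_eq_zero_iff m p).2 hmd, zero_mul]
      · intro h
        exact absurd (Finset.mem_filter.2 ⟨Finset.mem_univ _, hif _ (hF1 χ.1 hχ)⟩) h

end Cfsg.Agent.S4914
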