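import Cfsg.Statements.S4865
import Cfsg.Agent.S4914
import Cfsg.Agent.Lib.Char.RealOrbit
import Cfsg.Agent.Lib.Char.RealPPrime
open Cfsg.Agent Cfsg.Agent.Char Cfsg.Agent.CharX Cfsg.Agent.Blocks Cfsg.Agent.RealChar
open scoped ComplexConjugate
-- import your own Cfsg.Agent.* helpers here

set_option autoImplicit false
open Cfsg

namespace Cfsg.Agent.S4865

universe u

section Core

variable {G : Type u} [Group G] [Fintype G] (K : Subgroup G) [K.Normal] [Fintype K]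
variable {p : ℕ} [hp : Fact p.Prime] (P : Sylow p G)
variable (N : Subgroup G) [Fintype N] [Fintype (K.subgroupOf N)]

/-- The inclusion of `K ∩ N` in `K`. -/
def iota : K.subgroupOf N →* K where
  toFun c := ⟨((c : N) : G), c.2⟩
  map_one' := rfl
  map_mul' _ _ := rfl

/-- The multiplicity of `ξ` in `θ`. -/
noncomputable def mult (θ : IrrCharacter K) (ξ : IrrCharacter (K.subgroupOf N)) : ℂ :=
  classInner (fun c => (θ : K → ℂ) (iota K N c)) (ξ : K.subgroupOf N → ℂ)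

theorem mult_cjIrr (n : N) (θ : IrrCharacter K) (ξ : IrrCharacter (K.subgroupOf N)) :
    mult K N (cjIrr K (n : G) θ) (cjIrr (K.subgroupOf N) n ξ) = mult K N θ ξ :=
  classInner_conjChar (K.subgroupOf N) (fun c => (θ : K → ℂ) (iota K N c)) _ n

theorem mult_bar (θ : IrrCharacter K) (ξ : IrrCharacter (K.subgroupOf N)) :
    mult K N (bar θ) (bar ξ) = conj (mult K N θ ξ) := by
  simp only [mult, classInner, bar, map_mul, map_inv₀, map_natCast, map_sum, Complex.conj_conj]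

/-- Fixed by the Sylow subgroup, on `K`. -/
def InvK (θ : IrrCharacter K) : Prop := ∀ x ∈ (P : Subgroup G), cjIrr K x θ = θ

/-- Fixed by the Sylow subgroup, on `K ∩ N`. -/
def InvC (ξ : IrrCharacter (K.subgroupOf N)) : Prop :=
  ∀ x : N, (x : G) ∈ (P : Subgroup G) → cjIrr (K.subgroupOf N) x ξ = ξ

variable {N} (hN : N = Subgroup.normalizer ((P : Subgroup G) : Set G))
include hN

theorem normalizer_conj (n : N) {x : G} (hx : x ∈ (P : Subgroup G)) :
    (n : G) * x * (n : G)⁻¹ ∈ (P : Subgroup G) :=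
  ((Subgroup.mem_normalizer_iff.1 ((le_of_eq hN) n.2)) x).1 hx

theorem invK_cjIrr (n : N) {θ : IrrCharacter K} (h : InvK K P θ) :
    InvK K P (cjIrr K (n : G) θ) := by
  intro x hx
  rw [← cjIrr_mul, show (n : G) * x = (n : G) * x * (n : G)⁻¹ * n by group, cjIrr_mul,
    h _ (normalizer_conj P hN n hx)]

theorem invC_cjIrr (n : N) {ξ : IrrCharacter (K.subgroupOf N)} (h : InvC K P N ξ) :
    InvC K P N (cjIrr (K.subgroupOf N) n ξ) := by
  intro x hx
  rw [← cjIrr_mul, show n * x = n * x * n⁻¹ * n by group, cjIrr_mul,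
    h _ (normalizer_conj P hN n hx)]

/-- The bijection from a correspondence on `K`. -/
theorem main (hodd : Odd K.index)
    (hreal : ∀ χ : IrrCharacter G, (∀ g : G, ((χ : G → ℂ) g).im = 0) →
      ¬ p ∣ charDegree (χ : G → ℂ))
    (G0 : {θ : IrrCharacter K // InvK K P θ} → {ξ : IrrCharacter (K.subgroupOf N) // InvC K P N ξ})
    (hbij : Function.Bijective G0)
    (hmult : ∀ θ ξ, ∃ m : ℕ, mult K N θ.1 (ξ : {ξ // InvC K P N ξ}).1 = m ∧ (¬ p ∣ m ↔ ξ = G0 θ))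
    (hdeg : ∀ θ, (charDegree ((G0 θ).1 : K.subgroupOf N → ℂ) : ZMod p) =
        (charDegree (θ.1 : K → ℂ) : ZMod p) ∨
      (charDegree ((G0 θ).1 : K.subgroupOf N → ℂ) : ZMod p) =
        -(charDegree (θ.1 : K → ℂ) : ZMod p)) :
    ∃ f : {χ : IrrCharacter G // ∀ g : G, ((χ : G → ℂ) g).im = 0} →
      {η : IrrCharacter N // (∀ n, ((η : N → ℂ) n).im = 0) ∧ ¬ p ∣ charDegree (η : N → ℂ)},
      Function.Bijective f ∧ ∀ χ,
        ((charDegree ((f χ).1 : N → ℂ) : ZMod p) = (charDegree (χ.1 : G → ℂ) : ZMod p) ∨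
          (charDegree ((f χ).1 : N → ℂ) : ZMod p) = -(charDegree (χ.1 : G → ℂ) : ZMod p)) := by
  classical
  have hoddN : Odd (K.subgroupOf N).index :=
    hodd.of_dvd_nat (Subgroup.relIndex_dvd_index_of_normal K N)
  -- uniqueness of the correspondent
  have huniq : ∀ θ ξ (m : ℕ), mult K N θ.1 (ξ : {ξ // InvC K P N ξ}).1 = m → ¬ p ∣ m →
      ξ = G0 θ := by
    intro θ ξ m hm hpm
    obtain ⟨m', hm', hiff⟩ := hmult θ ξ
    have : m = m' := Nat.cast_injective (hm.symm.trans hm')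
    exact hiff.1 (this ▸ hpm)
  have hg : ∀ θ, ∃ m : ℕ, mult K N θ.1 (G0 θ).1 = m ∧ ¬ p ∣ m := fun θ => by
    obtain ⟨m, hm, hiff⟩ := hmult θ (G0 θ)
    exact ⟨m, hm, hiff.2 rfl⟩
  -- equivariance and reality
  have hequiv : ∀ (n : N) θ, (G0 ⟨_, invK_cjIrr K P hN n θ.2⟩).1 = cjIrr (K.subgroupOf N) n (G0 θ).1 := by
    intro n θ
    obtain ⟨m, hm, hpm⟩ := hg θ
    exact congrArg Subtype.val (huniq ⟨_, invK_cjIrr K P hN n θ.2⟩
      ⟨_, invC_cjIrr K P hN n (G0 θ).2⟩ m ((mult_cjIrr K N n θ.1 _).trans hm) hpm).symm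
  have hbarK : ∀ {θ : IrrCharacter K}, InvK K P θ → InvK K P (bar θ) := fun h x hx =>
    Subtype.ext (funext fun k => congrArg conj (congrFun (congrArg Subtype.val (h x hx)) k))
  have hbarC : ∀ {ξ : IrrCharacter (K.subgroupOf N)}, InvC K P N ξ → InvC K P N (bar ξ) := fun h x hx =>
    Subtype.ext (funext fun k => congrArg conj (congrFun (congrArg Subtype.val (h x hx)) k))
  have hbar : ∀ θ, G0 ⟨_, hbarK θ.2⟩ = ⟨_, hbarC (G0 θ).2⟩ := by
    intro θ
    obtain ⟨m, hm, hpm⟩ := hg θ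
    exact (huniq ⟨_, hbarK θ.2⟩ ⟨_, hbarC (G0 θ).2⟩ m
      (by rw [mult_bar, hm, map_natCast]) hpm).symm
  have hfix : ∀ {H : Type u} [Group H] [Fintype H] (a : IrrCharacter H),
      (∀ x, ((a : H → ℂ) x).im = 0) ↔ bar a = a := fun a =>
    ⟨fun h => Subtype.ext (funext fun x => Complex.conj_eq_iff_im.2 (h x)),
      fun h x => Complex.conj_eq_iff_im.1 (congrFun (congrArg Subtype.val h) x)⟩
  have hreal0 : ∀ θ, (∀ k, (((G0 θ).1 : (K.subgroupOf N) → ℂ) k).im = 0) ↔ ∀ k, ((θ.1 : K → ℂ) k).im = 0 := by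
    intro θ
    rw [hfix, hfix]
    constructor
    · intro h
      exact congrArg Subtype.val (hbij.1 ((hbar θ).trans (Subtype.ext h)) :
        (⟨_, hbarK θ.2⟩ : {θ // InvK K P θ}) = θ)
    · intro h
      exact (congrArg Subtype.val (hbar θ)).symm.trans
        (congrArg (fun t => (G0 t).1) (Subtype.ext h : (⟨_, hbarK θ.2⟩ : {θ // InvK K P θ}) = θ))
  -- the inertia groups
  have hinert : ∀ θ, inertia (K.subgroupOf N) ((G0 θ).1 : (K.subgroupOf N) → ℂ) = (inertia K (θ.1 : K → ℂ)).subgroupOf N := by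
    intro θ
    ext n
    rw [RealOrbit.mem_inertia_cjIrr, Subgroup.mem_subgroupOf, RealOrbit.mem_inertia_cjIrr,
      ← hequiv n θ]
    exact ⟨fun h => congrArg Subtype.val (hbij.1 (Subtype.ext h) :
        (⟨_, invK_cjIrr K P hN n θ.2⟩ : {θ // InvK K P θ}) = θ),
      fun h => congrArg (fun t => (G0 t).1)
        (Subtype.ext h : (⟨_, invK_cjIrr K P hN n θ.2⟩ : {θ // InvK K P θ}) = θ)⟩
  -- degrees
  have hdegs : ∀ θ (χ : IrrCharacter G) (η : IrrCharacter N), (∀ g, ((χ : G → ℂ) g).im = 0) →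
      (∀ n, ((η : N → ℂ) n).im = 0) → (∀ k, ((θ.1 : K → ℂ) k).im = 0) →
      classInner (fun k : K => (χ : G → ℂ) k) (θ.1 : K → ℂ) ≠ 0 →
      classInner (fun c : (K.subgroupOf N) => (η : N → ℂ) c) ((G0 θ).1 : (K.subgroupOf N) → ℂ) ≠ 0 →
      ((charDegree (η : N → ℂ) : ZMod p) = (charDegree (χ : G → ℂ) : ZMod p) ∨
        (charDegree (η : N → ℂ) : ZMod p) = -(charDegree (χ : G → ℂ) : ZMod p)) := by
    intro θ χ η hχ hη hθ h1 h2
    rw [RealOrbit.degree_eq K hodd χ hχ θ.1 hθ h1,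
      RealOrbit.degree_eq (K.subgroupOf N) hoddN η hη (G0 θ).1 ((hreal0 θ).2 hθ) h2, hinert θ,
      Nat.cast_mul, Nat.cast_mul]
    have hPI : (P : Subgroup G) ≤ inertia K (θ.1 : K → ℂ) := fun x hx =>
      (RealOrbit.mem_inertia_cjIrr K).2 (θ.2 x hx)
    have hidx : (((inertia K (θ.1 : K → ℂ)).subgroupOf N).index : ZMod p) =
        ((inertia K (θ.1 : K → ℂ)).index : ZMod p) := by
      have h := RealOrbit.index_modEq P hPI
      rw [← hN] at h
      exact ((ZMod.natCast_eq_natCast_iff _ _ _).2 h).symm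
    rcases hdeg θ with h | h
    · exact Or.inl (by rw [hidx, h])
    · exact Or.inr (by rw [hidx, h, mul_neg])
  -- choice of a fixed constituent
  have hsel : ∀ χ : {χ : IrrCharacter G // ∀ g : G, ((χ : G → ℂ) g).im = 0},
      ∃ θ : {θ : IrrCharacter K // InvK K P θ}, (∀ k, ((θ.1 : K → ℂ) k).im = 0) ∧
        classInner (fun k : K => (χ.1 : G → ℂ) k) (θ.1 : K → ℂ) ≠ 0 := by
    rintro ⟨χ, hχ⟩
    obtain ⟨θ, hθ, h⟩ := OddIndexReal.exists_real_constituent K hodd χ hχ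
    have hd := hreal χ hχ
    rw [RealOrbit.degree_eq K hodd χ hχ θ hθ h] at hd
    obtain ⟨g, hg⟩ := RealOrbit.exists_conj_inv K P θ fun e => hd (e.mul_right _)
    exact ⟨⟨cjIrr K g θ, hg⟩, fun k => hθ _, RealOrbit.over_cjIrr K χ θ g h⟩
  choose sel hsel1 hsel2 using hsel
  choose η hη1 hη2 using fun χ =>
    OddIndexReal.exists_real_over (K.subgroupOf N) hoddN (G0 (sel χ)).1 ((hreal0 (sel χ)).2 (hsel1 χ))
  have hηdeg := fun χ : {χ : IrrCharacter G // ∀ g : G, ((χ : G → ℂ) g).im = 0} =>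
    hdegs (sel χ) χ.1 (η χ) χ.2 (hη1 χ) (hsel1 χ) (hsel2 χ) (hη2 χ)
  have hηp : ∀ χ, ¬ p ∣ charDegree (η χ : N → ℂ) := by
    intro χ hd
    rw [← CharP.cast_eq_zero_iff (ZMod p) p] at hd
    refine hreal χ.1 χ.2 ((CharP.cast_eq_zero_iff (ZMod p) p _).1 ?_)
    rcases hηdeg χ with h | h
    · rw [← h, hd]
    · rw [← neg_eq_zero, ← h, hd]
  refine ⟨fun χ => ⟨η χ, hη1 χ, hηp χ⟩, ⟨?_, ?_⟩, hηdeg⟩
  · intro a b hab
    have hab' : η a = η b := congrArg Subtype.val hab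
    have h2b : classInner (fun c : (K.subgroupOf N) => (η a : N → ℂ) c) ((G0 (sel b)).1 : (K.subgroupOf N) → ℂ) ≠ 0 := by
      rw [hab']; exact hη2 b
    obtain ⟨n, hn⟩ := (mem_conjOrbit (K.subgroupOf N)).1
      (restrict_constituent_conj (K.subgroupOf N) (η a).2 (G0 (sel a)).1.2 (G0 (sel b)).1.2 (hη2 a) h2b)
    have e1 : sel b = ⟨_, invK_cjIrr K P hN n (sel a).2⟩ := hbij.1 (Subtype.ext (by
      rw [hequiv n (sel a)]; exact Subtype.ext hn))
    refine Subtype.ext (OddIndexReal.real_over_unique K hodd (sel b).1 (hsel1 b) a.1 b.1 a.2 b.2 ?_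
      (hsel2 b))
    rw [e1]
    exact RealOrbit.over_cjIrr K a.1 (sel a).1 n (hsel2 a)
  · rintro ⟨τ, hτ, hτp⟩
    obtain ⟨ξ₀, hξ₀, h0⟩ := OddIndexReal.exists_real_constituent (K.subgroupOf N) hoddN τ hτ
    have hP' : (P : Subgroup G) ≤ N := hN ▸ Subgroup.le_normalizer
    have hinvξ : InvC K P N ξ₀ := by
      have hd := hτp
      rw [RealOrbit.degree_eq (K.subgroupOf N) hoddN τ hτ ξ₀ hξ₀ h0] at hd
      obtain ⟨g, hg⟩ := RealOrbit.exists_conj_inv (K.subgroupOf N) (P.subtype hP') ξ₀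
        fun e => hd (e.mul_right _)
      have hg' : InvC K P N (cjIrr (K.subgroupOf N) g ξ₀) := fun x hx => hg x hx
      have h2 := invC_cjIrr K P hN g⁻¹ hg'
      rwa [← cjIrr_mul, mul_inv_cancel, cjIrr_one] at h2
    obtain ⟨θ, hθ⟩ := hbij.2 ⟨ξ₀, hinvξ⟩
    have hθξ : (G0 θ).1 = ξ₀ := congrArg Subtype.val hθ
    have hθr : ∀ k, ((θ.1 : K → ℂ) k).im = 0 := (hreal0 θ).1 (by rw [hθξ]; exact hξ₀)
    obtain ⟨χ, hχ, hχθ⟩ := OddIndexReal.exists_real_over K hodd θ.1 hθr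
    refine ⟨⟨χ, hχ⟩, Subtype.ext ?_⟩
    obtain ⟨g, hg⟩ := (mem_conjOrbit K).1
      (restrict_constituent_conj K χ.2 θ.1.2 (sel ⟨χ, hχ⟩).1.2 hχθ (hsel2 ⟨χ, hχ⟩))
    have hg' : (sel ⟨χ, hχ⟩).1 = cjIrr K g θ.1 := Subtype.ext hg
    obtain ⟨n, hn, hnθ⟩ := RealOrbit.exists_normalizer_conj K P θ.1 g θ.2
      (fun x hx => by rw [← hg']; exact (sel ⟨χ, hχ⟩).2 x hx)
    have e1 : sel ⟨χ, hχ⟩ = ⟨_, invK_cjIrr K P hN ⟨n, hN ▸ hn⟩ θ.2⟩ :=
      Subtype.ext (hg'.trans hnθ.symm)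
    refine OddIndexReal.real_over_unique (K.subgroupOf N) hoddN _ ((hreal0 _).2 (hsel1 ⟨χ, hχ⟩)) _ τ
      (hη1 ⟨χ, hχ⟩) hτ (hη2 ⟨χ, hχ⟩) ?_
    rw [e1, hequiv, hθξ]
    exact RealOrbit.over_cjIrr (K.subgroupOf N) τ ξ₀ _ h0

end Core

/-- Let p be a prime and G a finite group such that the subgroup generated by the p-elements of G is solvable and every real-valued irreducible complex character of G has degree prime to p. Let N be the normalizer of a Sylow p-subgroup of G. Then there is a bijection from the real-valued irreducible characters of G onto the real-valued irreducible characters of N of degree prime to p under which corresponding degrees are congruent modulo p up to sign. -/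
theorem result {G : Type*} [Group G] [Finite G] (p : ℕ) [Fact p.Prime] (hsolv : Group.IsSolvable ↥(Subgroup.closure {g : G | ∃ k : ℕ, orderOf g = p ^ k})) (hreal : ∀ χ : Cfsg.IrrCharacter G, (∀ g : G, ((χ : G → ℂ) g).im = 0) → ¬ p ∣ Cfsg.charDegree (χ : G → ℂ)) (P : Sylow p G) : ∃ f : {χ : Cfsg.IrrCharacter G // ∀ g : G, ((χ : G → ℂ) g).im = 0} → {ξ : Cfsg.IrrCharacter ↥(Subgroup.normalizer ((P : Subgroup G) : Set G)) // (∀ n, ((ξ : ↥(Subgroup.normalizer ((P : Subgroup G) : Set G)) → ℂ) n).im = 0) ∧ ¬ p ∣ Cfsg.charDegree (ξ : ↥(Subgroup.normalizer ((P : Subgroup G) : Set G)) → ℂ)}, Function.Bijective f ∧ ∀ χ, ((Cfsg.charDegree ((f χ).1 : ↥(Subgroup.normalizer ((P : Subgroup G) : Set G)) → ℂ) : ZMod p) = (Cfsg.charDegree (χ.1 : G → ℂ) : ZMod p) ∨ (Cfsg.charDegree ((f χ).1 : ↥(Subgroup.normalizer ((P : Subgroup G) : Set G)) → ℂ) : ZMod p) = -(Cfsg.charDegree (χ.1 : G → ℂ) : ZMod p)) := by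
  classical
  haveI : Fact (Nat.Prime 2) := ⟨Nat.prime_two⟩
  haveI := Fintype.ofFinite G
  have hp' : p.Prime := Fact.out
  haveI hKn : (RealPPrime.genBy 2 G).Normal := RealPPrime.genBy_normal 2
  set K := RealPPrime.genBy 2 G with hK
  let S : Sylow p ↥K := default
  have hQn : ((S : Subgroup ↥K).map K.subtype).Normal :=
    RealPPrime.normal_sylow p hsolv hreal K hKn le_rfl ⟨0, by rw [Subgroup.relIndex_self, pow_zero]⟩ S
  set Q := (S : Subgroup ↥K).map K.subtype with hQ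
  haveI : Q.Normal := hQn
  have hQp : IsPGroup p Q := S.isPGroup'.map K.subtype
  have hQP : Q ≤ (P : Subgroup G) := hQp.le_sylow_of_normal P
  set N := Subgroup.normalizer ((P : Subgroup G) : Set G) with hN
  haveI := Fintype.ofFinite N
  by_cases hp2 : p = 2
  · subst hp2
    haveI hSn : (S : Subgroup ↥K).Normal :=
      RealPPrime.normal_sylow' 2 hsolv hreal _ hKn le_rfl ⟨0, by rw [Subgroup.relIndex_self, pow_zero]⟩ S
    have hKQ : K ≤ Q := by
      rw [hK, Subgroup.closure_le]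
      rintro t ⟨j, hj⟩
      have htK : t ∈ K := Subgroup.subset_closure ⟨j, hj⟩
      have hz : IsPGroup 2 (Subgroup.zpowers (⟨t, htK⟩ : K)) := by
        refine IsPGroup.of_card (n := j) ?_
        rw [Nat.card_zpowers, Subgroup.orderOf_mk, hj]
      obtain ⟨T, hT⟩ := hz.exists_le_sylow
      haveI := Sylow.unique_of_normal S hSn
      rw [Subsingleton.elim T S] at hT
      exact ⟨⟨t, htK⟩, hT (Subgroup.mem_zpowers _), rfl⟩
    have hPK : (P : Subgroup G) = K := le_antisymm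
      (fun a ha => RealPPrime.mem_genBy P.isPGroup' ha) (hKQ.trans hQP)
    have htop : ∀ g : G, g ∈ N := fun g => by
      rw [hN, hPK, Subgroup.normalizer_eq_top]; exact Subgroup.mem_top g
    let e : G →* N := (MonoidHom.id G).codRestrict N htop
    have hd : ∀ χ : Cfsg.IrrCharacter G, Cfsg.charDegree (fun n : N => (χ : G → ℂ) n) =
        Cfsg.charDegree (χ : G → ℂ) := fun χ => rfl
    refine ⟨fun χ => ⟨⟨fun n => (χ.1 : G → ℂ) n,
      IsIrrCharacter.comp χ.1.2 N.subtype fun g => ⟨⟨g, htop g⟩, rfl⟩⟩, fun n => χ.2 n,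
      hd χ.1 ▸ hreal χ.1 χ.2⟩, ⟨fun a b hab => ?_, fun ξ => ?_⟩, fun χ => Or.inl ?_⟩
    · refine Subtype.ext (Subtype.ext (funext fun g => ?_))
      exact congrFun (congrArg (fun t => (t.1.1 : N → ℂ)) hab) ⟨g, htop g⟩
    · exact ⟨⟨⟨fun g => (ξ.1 : N → ℂ) (e g), IsIrrCharacter.comp ξ.1.2 e fun n => ⟨n, rfl⟩⟩,
        fun g => ξ.2.1 _⟩, Subtype.ext (Subtype.ext rfl)⟩
    · exact congrArg _ (hd χ.1)
  haveI := Fintype.ofFinite K
  haveI := Fintype.ofFinite (K.subgroupOf N)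
  have hodd : Odd K.index := by
    let T : Sylow 2 G := default
    have hT : (T : Subgroup G) ≤ K := fun a ha => RealPPrime.mem_genBy T.isPGroup' ha
    rw [← Nat.not_even_iff_odd, even_iff_two_dvd]
    exact fun h => T.not_dvd_index (h.trans (Subgroup.index_dvd_of_le hT))
  have hQK : Q ≤ K := Subgroup.map_subtype_le _
  have hPQ : ∀ x ∈ (P : Subgroup G), x ∈ K → x ∈ Q := by
    intro x hx hxK
    have hle : (S : Subgroup ↥K) ≤ (P : Subgroup G).subgroupOf K :=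
      fun a ha => hQP ⟨a, ha, rfl⟩
    exact ⟨⟨x, hxK⟩, S.is_maximal' (P.isPGroup'.comap_subtype (K := K)) hle ▸
      (show (⟨x, hxK⟩ : K) ∈ (P : Subgroup G).subgroupOf K from hx), rfl⟩
  set C := K ⊓ N with hC
  have hCiff : ∀ k : G, k ∈ C ↔ (k ∈ K ∧ ∀ x ∈ (P : Subgroup G), x * k * x⁻¹ * k⁻¹ ∈ Q) := by
    intro k
    refine ⟨fun hk => ⟨hk.1, fun x hx => hPQ _ ?_ ?_⟩, fun hk => ⟨hk.1, ?_⟩⟩
    · rw [show x * k * x⁻¹ * k⁻¹ = x * (k * x⁻¹ * k⁻¹) by group]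
      exact mul_mem hx ((Subgroup.mem_normalizer_iff.1 hk.2 _).1 (inv_mem hx))
    · exact mul_mem (hKn.conj_mem _ hk.1 x) (inv_mem hk.1)
    · have hfwd : ∀ y ∈ (P : Subgroup G), k * y * k⁻¹ ∈ (P : Subgroup G) := by
        intro y hy
        rw [show k * y * k⁻¹ = y * (y⁻¹ * k * y⁻¹⁻¹ * k⁻¹) by group]
        exact mul_mem hy (hQP (hk.2 _ (inv_mem hy)))
      refine Subgroup.mem_normalizer_iff_map_conj_eq.2 (Subgroup.eq_of_le_of_card_ge ?_ ?_)
      · rintro _ ⟨y, hy, rfl⟩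
        exact hfwd y hy
      · rw [Subgroup.card_map_of_injective (MulAut.conj k).injective]
  obtain ⟨f, hf, hfp⟩ := Cfsg.Agent.S4914.result p (P : Subgroup G) K Q C P.isPGroup'
    (by rw [Subgroup.normalizer_eq_top]; exact le_top) hQK
    (fun k _ q hq => hQn.conj_mem q hq k) (IsPGroup.iff_card.1 hQp)
    (by
      rw [hQ, Subgroup.relIndex, Subgroup.subgroupOf,
        Subgroup.comap_map_eq_self_of_injective K.subtype_injective]
      exact S.not_dvd_index) inf_le_left hCiff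
  haveI := Fintype.ofFinite C
  let e : K.subgroupOf N ≃* C :=
    { toFun := fun c => ⟨((c : N) : G), ⟨c.2, (c : N).2⟩⟩
      invFun := fun c => ⟨⟨c, c.2.2⟩, c.2.1⟩
      left_inv := fun c => rfl
      right_inv := fun c => rfl
      map_mul' := fun a b => rfl }
  let T : Cfsg.IrrCharacter C → Cfsg.IrrCharacter (K.subgroupOf N) := fun ξ =>
    ⟨fun c => (ξ : C → ℂ) (e c), IsIrrCharacter.comp ξ.2 e.toMonoidHom e.surjective⟩
  let Ti : Cfsg.IrrCharacter (K.subgroupOf N) → Cfsg.IrrCharacter C := fun ξ =>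
    ⟨fun c => (ξ : K.subgroupOf N → ℂ) (e.symm c),
      IsIrrCharacter.comp ξ.2 e.symm.toMonoidHom e.symm.surjective⟩
  have hTi : ∀ ξ, T (Ti ξ) = ξ := fun ξ => Subtype.ext (funext fun c =>
    congrArg (ξ : K.subgroupOf N → ℂ) (e.symm_apply_apply c))
  have hiT : ∀ ξ, Ti (T ξ) = ξ := fun ξ => Subtype.ext (funext fun c =>
    congrArg (ξ : C → ℂ) (e.apply_symm_apply c))
  have hPN : (P : Subgroup G) ≤ N := Subgroup.le_normalizer
  have hIK : ∀ θ : Cfsg.IrrCharacter K, InvK K P θ ↔ ∀ x ∈ (P : Subgroup G), ∀ k k' : K,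
      (k' : G) = x * (k : G) * x⁻¹ → (θ : K → ℂ) k' = (θ : K → ℂ) k := by
    intro θ
    refine ⟨fun h x hx k k' hk => ?_, fun h x hx => Subtype.ext (funext fun k => h x hx k _ rfl)⟩
    conv_rhs => rw [← h x hx]
    exact congrArg (θ : K → ℂ) (Subtype.ext hk)
  have hIC : ∀ ξ : Cfsg.IrrCharacter C, InvC K P N (T ξ) ↔ ∀ x ∈ (P : Subgroup G), ∀ k k' : C,
      (k' : G) = x * (k : G) * x⁻¹ → (ξ : C → ℂ) k' = (ξ : C → ℂ) k := by
    intro ξ
    refine ⟨fun h x hx k k' hk => ?_, fun h x hx => Subtype.ext (funext fun c =>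
      h (x : G) hx (e c) _ rfl)⟩
    have h1 := congrFun (congrArg Subtype.val (h ⟨x, hPN hx⟩ hx)) (e.symm k)
    refine Eq.trans ?_ (h1.trans (congrArg (ξ : C → ℂ) (e.apply_symm_apply k)))
    exact congrArg (ξ : C → ℂ) (Subtype.ext hk)
  let G0 : {θ : Cfsg.IrrCharacter K // InvK K P θ} →
      {ξ : Cfsg.IrrCharacter (K.subgroupOf N) // InvC K P N ξ} := fun θ =>
    ⟨T (f ⟨θ.1, (hIK θ.1).1 θ.2⟩).1, (hIC _).2 (f ⟨θ.1, (hIK θ.1).1 θ.2⟩).2⟩
  refine main K P (N := N) rfl hodd hreal G0 ⟨fun a b hab => ?_, fun ξ => ?_⟩ (fun θ ξ => ?_)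
    fun θ => ?_
  · have h1 := congrArg (fun t => Ti t.1) hab
    simp only [G0, hiT] at h1
    exact Subtype.ext (congrArg Subtype.val (hf.1 (Subtype.ext h1)) :)
  · obtain ⟨χ, hχ⟩ := hf.2 ⟨Ti ξ.1, (hIC _).1 (by rw [hTi]; exact ξ.2)⟩
    refine ⟨⟨χ.1, (hIK χ.1).2 χ.2⟩, Subtype.ext ?_⟩
    show T (f χ).1 = ξ.1
    rw [hχ, hTi]
  · obtain ⟨m, hm, h1, h2⟩ := (hfp ⟨θ.1, (hIK θ.1).1 θ.2⟩).1
      ⟨Ti ξ.1, (hIC _).1 (by rw [hTi]; exact ξ.2)⟩
    refine ⟨m, ?_, fun hpm => ?_, fun he => ?_⟩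
    · rw [finsum_eq_sum_of_fintype] at hm
      refine Eq.trans ?_ hm
      show classInner _ _ = classInner _ _
      rw [← RelGlauberman.classInner_comp_surj e.symm.toMonoidHom e.symm.surjective]
      rfl
    · refine Subtype.ext ?_
      have h3 := congrArg (fun t => T t.1) (not_imp_comm.1 h2 hpm)
      simp only [hTi] at h3
      exact h3
    · have h3 : (⟨Ti ξ.1, (hIC _).1 (by rw [hTi]; exact ξ.2)⟩ :
          {ξ : Cfsg.IrrCharacter C // ∀ x ∈ (P : Subgroup G), ∀ k k' : C,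
            (k' : G) = x * (k : G) * x⁻¹ → (ξ : C → ℂ) k' = (ξ : C → ℂ) k}) =
          f ⟨θ.1, (hIK θ.1).1 θ.2⟩ := Subtype.ext (by rw [he]; exact hiT _)
      intro hpm
      rw [← CharP.cast_eq_zero_iff (ZMod p) p] at hpm
      rcases h1 h3 with h | h
      · exact one_ne_zero (h.symm.trans hpm)
      · exact one_ne_zero (neg_eq_zero.1 (h.symm.trans hpm))
  · have h := (hfp ⟨θ.1, (hIK θ.1).1 θ.2⟩).2
    have hd : Cfsg.charDegree ((G0 θ).1 : K.subgroupOf N → ℂ) =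
        Cfsg.charDegree ((f ⟨θ.1, (hIK θ.1).1 θ.2⟩).1 : C → ℂ) := by
      unfold Cfsg.charDegree
      show ⌊(((f ⟨θ.1, (hIK θ.1).1 θ.2⟩).1 : C → ℂ) (e 1)).re⌋₊ = _
      rw [map_one]
    rwa [hd]

end Cfsg.Agent.S4865
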