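import Cfsg.Statements.S4866
import Cfsg.Agent.Lib.Char.OddIndexReal
-- import your own Cfsg.Agent.* helpers here

set_option autoImplicit false
open Cfsg

open Cfsg.Agent Cfsg.Agent.Char
open scoped ComplexConjugate

namespace Cfsg.Agent.S4866

/-- Let K be a normal subgroup of odd index in the finite group G. Then G has as many orbits on the real-valued irreducible complex characters of K (acting by conjugation) as it has orbits on the conjugacy classes of K that are real in K; equivalently, the number of G-orbits of real-valued irreducible characters of K equals the number of G-conjugacy classes of elements of K that are conjugate in K to their inverses. -/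
theorem result {G : Type*} [Group G] [Finite G] (K : Subgroup G) [K.Normal] (hodd : Odd K.index) : Nat.card (Quot (fun θ η : {θ : Cfsg.IrrCharacter ↥K // (∀ k : ↥K, ((θ : ↥K → ℂ) k).im = 0)} => ∃ g : G, ∀ k k' : ↥K, (k' : G) = g * (k : G) * g⁻¹ → (η.1 : ↥K → ℂ) k' = (θ.1 : ↥K → ℂ) k)) = Nat.card (Quot (fun x y : {x : ↥K // IsConj x x⁻¹} => ∃ g : G, (y.1 : G) = g * x.1 * g⁻¹)) := by
  classical
  haveI := Fintype.ofFinite G
  haveI := Fintype.ofFinite K
  let R := {θ : Cfsg.IrrCharacter K // ∀ k : K, ((θ : K → ℂ) k).im = 0}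
  have h1 : Nat.card (Quot (fun θ η : R => ∃ g : G, ∀ k k' : K, (k' : G) = g * (k : G) * g⁻¹ →
      (η.1 : K → ℂ) k' = (θ.1 : K → ℂ) k)) = Nat.card (MulAction.orbitRel.Quotient G R) := by
    refine Nat.card_congr (Quot.congrRight fun θ η => ?_)
    constructor
    · rintro ⟨g, hg⟩
      refine ⟨g⁻¹, Subtype.ext (Subtype.ext (funext fun k => ?_))⟩
      refine (congrArg (η.1 : K → ℂ) (Subtype.ext ?_)).trans (hg k (MulAut.conjNormal g k) ?_)
      · simp [Char.conjHom]
      · simp
    · rintro ⟨g, hg⟩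
      refine ⟨g⁻¹, fun k k' hk => ?_⟩
      rw [← hg]
      refine congrArg (η.1 : K → ℂ) (Subtype.ext ?_)
      rw [hk]
  refine h1.trans ((OddIndexReal.card_orbits_eq K hodd).trans ?_)
  have hcl : ∀ x : {x : K // IsConj x x⁻¹}, ∀ k, ConjClasses.mk k = ConjClasses.mk x.1 →
      IsConj k k⁻¹ := by
    intro x k hk
    have hk' := ConjClasses.mk_eq_mk_iff_isConj.1 hk
    obtain ⟨w, hw⟩ := isConj_iff.1 hk'
    refine hk'.trans (x.2.trans (show IsConj (x.1)⁻¹ k⁻¹ from isConj_iff.2 ⟨w⁻¹, ?_⟩))
    rw [← hw]; group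
  symm
  refine Nat.card_congr (Equiv.ofBijective (Quot.lift (fun x : {x : K // IsConj x x⁻¹} =>
    (Quotient.mk (MulAction.orbitRel G (OddIndexReal.RealCls K))
      ⟨ConjClasses.mk x.1, hcl x⟩)) ?_) ⟨?_, ?_⟩)
  · rintro x y ⟨g, hg⟩
    refine (Quotient.sound (s := MulAction.orbitRel G (OddIndexReal.RealCls K)) ?_).symm
    refine ⟨g, Subtype.ext ?_⟩
    refine congrArg ConjClasses.mk (Subtype.ext ?_)
    simpa using hg.symm
  · intro a b hab
    induction a using Quot.inductionOn with
    | _ x =>
    induction b using Quot.inductionOn with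
    | _ y =>
      obtain ⟨g, hg⟩ := Quotient.exact hab
      have h : ConjClasses.mk (MulAut.conjNormal g y.1 : K) = ConjClasses.mk x.1 :=
        congrArg Subtype.val hg
      obtain ⟨w, hw⟩ := isConj_iff.1 (ConjClasses.mk_eq_mk_iff_isConj.1 h)
      refine (Quot.sound ⟨(w : G) * g, ?_⟩).symm
      rw [← congrArg Subtype.val hw]
      simp [mul_assoc]
  · intro o
    induction o using Quotient.inductionOn with
    | _ c =>
      obtain ⟨a, ha⟩ := ConjClasses.mk_surjective c.1
      exact ⟨Quot.mk _ ⟨a, c.2 a ha⟩, congrArg (Quotient.mk _) (Subtype.ext ha)⟩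

end Cfsg.Agent.S4866
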