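import Cfsg.Statements.S4870
import Cfsg.Agent.Lib.Char.LinearTwist
import Cfsg.Agent.Lib.Char.OddIndexReal
-- import your own Cfsg.Agent.* helpers here

set_option autoImplicit false
open Cfsg

open Cfsg.Agent Cfsg.Agent.Char Cfsg.Agent.CharX
open scoped ComplexConjugate

namespace Cfsg.Agent.S4870

/-- Let G be a finite group with a non-abelian minimal normal subgroup N, and let φ be an irreducible complex character of N with stabilizer I in G (the elements g with φ(g n g⁻¹) = φ(n) for all n ∈ N) such that φ extends to an irreducible character of I. Put d = φ(1)·[G : I]. Then the number of linear characters of G is at most [G : I] times the number of irreducible characters of G of degree d. -/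
theorem result {G : Type*} [Group G] [Finite G] (N : Subgroup G) (hN : N.Normal) (hN1 : N ≠ ⊥) (hmin : ∀ M : Subgroup G, M.Normal → M ≤ N → M = ⊥ ∨ M = N) (hna : ¬ IsMulCommutative ↥N) (φ : Cfsg.IrrCharacter ↥N) (I : Subgroup G) (hI : ∀ g : G, g ∈ I ↔ ∀ n n' : ↥N, (n' : G) = g * (n : G) * g⁻¹ → (φ : ↥N → ℂ) n' = (φ : ↥N → ℂ) n) (hNI : N ≤ I) (hext : ∃ ψ : Cfsg.IrrCharacter ↥I, ∀ n : ↥N, (ψ : ↥I → ℂ) (Subgroup.inclusion hNI n) = (φ : ↥N → ℂ) n) : Nat.card {χ : Cfsg.IrrCharacter G // Cfsg.charDegree (χ : G → ℂ) = 1} ≤ I.index * Nat.card {χ : Cfsg.IrrCharacter G // Cfsg.charDegree (χ : G → ℂ) = Cfsg.charDegree (φ : ↥N → ℂ) * I.index} := by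
  classical
  haveI := Fintype.ofFinite G
  haveI := Fintype.ofFinite N
  haveI := Fintype.ofFinite I
  haveI := hN
  obtain ⟨ψ, hψ⟩ := hext
  have hI' : I = inertia N (φ : N → ℂ) := by
    ext g
    rw [hI, mem_inertia_iff]
    refine ⟨fun h n => h n _ rfl, fun h n n' e => ?_⟩
    rw [show n' = ⟨g * n * g⁻¹, hN.conj_mem n n.2 g⟩ from Subtype.ext e]
    exact h n
  have hd : ∀ χ : Cfsg.IrrCharacter G,
      Cfsg.charDegree (χ : G → ℂ) = Cfsg.charDegree (φ : N → ℂ) * I.index ↔
        (χ : G → ℂ) 1 = (φ : N → ℂ) 1 * (I.index : ℂ) := fun χ => by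
    rw [irr_deg, irr_deg, ← Nat.cast_mul, Nat.cast_inj]
  have h1 : ∀ χ : Cfsg.IrrCharacter G, Cfsg.charDegree (χ : G → ℂ) = 1 ↔ (χ : G → ℂ) 1 = 1 := fun χ => by
    rw [irr_deg, Nat.cast_eq_one]
  have h := LinearTwist.card_linear_le (I := I) (LinearTwist.linear_trivial hmin hna) φ.2 hI' hNI ψ.2
    (fun n => hψ n) (fun _ => True) (fun _ _ _ _ _ => trivial)
  simp only [and_true] at h
  simp only [hd, h1]
  exact h

end Cfsg.Agent.S4870
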