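import Cfsg.Statements.S4872
import Cfsg.Agent.Lib.Char.OddFixed
import Cfsg.Agent.Lib.Char.Clifford
import Cfsg.Agent.Lib.Char.Multiplicity
import Cfsg.Agent.Lib.Char.GlaubermanMod
import Cfsg.Agent.Lib.Char.Degree
import Cfsg.Agent.Lib.Blocks.Degree
open Cfsg.Agent.Char Cfsg.Agent.CharX

set_option autoImplicit false
open Cfsg

namespace Cfsg.Agent.S4872

open scoped ComplexConjugate

universe u

/-- A character of full `p`-part vanishes on non-trivial `p`-elements. -/
theorem vanish {G : Type u} [Group G] [Fintype G] {p : ℕ} [Fact p.Prime] (χ : Cfsg.IrrCharacter G)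
    (h : (Cfsg.charDegree (χ : G → ℂ)).factorization p = (Nat.card G).factorization p) {x : G}
    (hx1 : x ≠ 1) (hx : ∃ i : ℕ, orderOf x = p ^ i) : (χ : G → ℂ) x = 0 := by
  classical
  obtain ⟨M, hM⟩ := GlaubermanMod.exists_isPModular p
  haveI := hM.2.1.isPrime
  have hs := Blocks.blockOf_eq_singleton hM χ h
  have hB : Cfsg.IsPBlock M ({χ} : Set (Cfsg.IrrCharacter G)) := hs ▸ Blocks.isPBlock_blockOf χ
  have hz := Blocks.blockPair_eq_zero_of_pPart hM hB
    ((Blocks.isPPart_one_iff hM.1).2 (by simpa using hM.1.ne_one) : Cfsg.IsPPart p (1 : G) 1)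
    (h := x) (y := x) ⟨1, mul_one _, Commute.one_right _, hx, by simpa using hM.1.ne_one⟩
    fun hc => hx1 (isConj_one_right.1 hc)
  rw [Blocks.blockPair_eq_finsum, finsum_mem_singleton] at hz
  exact (map_eq_zero (starRingEnd ℂ)).1 ((mul_eq_zero.1 hz).resolve_left
    (IsIrrCharacter.one_ne_zero χ.2))

/-- Let N be a normal subgroup of the finite group G with G/N a 2-group, and let φ be an irreducible complex character of N of 2-defect zero (the 2-part of #N divides φ(1)) whose complex conjugate is G-conjugate to φ. Then some irreducible character of G with Frobenius–Schur indicator +1 contains φ with multiplicity exactly one on restriction to N. -/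
theorem result {G : Type*} [Group G] [Finite G] (N : Subgroup G) [N.Normal] (h2 : IsPGroup 2 (G ⧸ N)) (φ : Cfsg.IrrCharacter ↥N) (hdef : 2 ^ (Nat.card ↥N).factorization 2 ∣ Cfsg.charDegree (φ : ↥N → ℂ)) (hconj : ∃ g : G, ∀ n n' : ↥N, (n' : G) = g * (n : G) * g⁻¹ → (φ : ↥N → ℂ) n' = (starRingEnd ℂ) ((φ : ↥N → ℂ) n)) : ∃ χ : Cfsg.IrrCharacter G, (Nat.card G : ℂ)⁻¹ * ∑ᶠ g : G, (χ : G → ℂ) (g * g) = 1 ∧ (Nat.card ↥N : ℂ)⁻¹ * ∑ᶠ n : ↥N, (χ : G → ℂ) n * (starRingEnd ℂ) ((φ : ↥N → ℂ) n) = 1 := by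
  classical
  haveI := Fintype.ofFinite G
  haveI := Fintype.ofFinite N
  obtain ⟨g, hg⟩ := hconj
  obtain ⟨P⟩ : Nonempty (Sylow 2 G) := inferInstance
  haveI := Fintype.ofFinite (P : Subgroup G)
  set a := (Nat.card N).factorization 2 with ha
  obtain ⟨k, hk⟩ := IsPGroup.iff_card.1 h2
  have hfac : (Cfsg.charDegree (φ : N → ℂ)).factorization 2 = a :=
    le_antisymm ((Nat.factorization_le_iff_dvd (irr_deg_pos φ).ne' Nat.card_pos.ne').2
        (irr_deg_dvd_card φ) 2)
      ((Nat.prime_two.pow_dvd_iff_le_factorization (irr_deg_pos φ).ne').1 hdef)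
  obtain ⟨d, hd⟩ := hdef
  have hdo : Odd d := by
    rw [Nat.odd_iff]
    by_contra h
    have h' : 2 ^ (a + 1) ∣ Cfsg.charDegree (φ : N → ℂ) := by
      rw [hd, pow_succ]; exact mul_dvd_mul_left _ (Nat.dvd_of_mod_eq_zero (by omega))
    have := (Nat.prime_two.pow_dvd_iff_le_factorization (irr_deg_pos φ).ne').1 h'
    omega
  have hcard : Nat.card G = 2 ^ k * Nat.card N := by
    rw [← hk, ← Subgroup.card_eq_card_quotient_mul_card_subgroup]
  have hPc : Nat.card (P : Subgroup G) = 2 ^ (k + a) := by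
    rw [P.card_eq_multiplicity, hcard, Nat.factorization_mul (pow_ne_zero _ two_ne_zero) Nat.card_pos.ne',
      Finsupp.add_apply, Nat.prime_two.factorization_pow, Finsupp.single_eq_same]
  -- the two multiplicities
  have he : ∀ χ : Cfsg.IrrCharacter G, ∃ e : ℕ,
      Cfsg.classInner (fun n : N => (χ : G → ℂ) n) (φ : N → ℂ) = e := fun χ =>
    IsCharacter.exists_classInner_nat (IsCharacter.restrict (IsIrrCharacter.isCharacter χ.2) N)
      (IsIrrCharacter.isCharacter φ.2)
  choose e he using he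
  have hm : ∀ χ : Cfsg.IrrCharacter G, ∃ m : ℕ,
      Cfsg.classInner (fun x : (P : Subgroup G) => (χ : G → ℂ) x) (fun _ => 1) = m := fun χ =>
    IsCharacter.exists_classInner_nat (IsCharacter.restrict (IsIrrCharacter.isCharacter χ.2) _)
      isCharacter_one
  choose m hm using hm
  set ψ := Cfsg.indFun (P : Subgroup G) (fun _ => (1 : ℂ)) with hψ
  have hψc : Cfsg.IsCharacter G ψ := isCharacter_indFun _ isCharacter_one
  have hψm : ∀ χ : Cfsg.IrrCharacter G, Cfsg.classInner ψ (χ : G → ℂ) = m χ := fun χ => by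
    rw [hψ, classInner_indFun_left _ _ (IsCharacter.isClassFunction (IsIrrCharacter.isCharacter χ.2)),
      classInner_comm_of_isCharacter isCharacter_one
        (IsCharacter.restrict (IsIrrCharacter.isCharacter χ.2) _), hm]
  -- the total is odd
  have htot : ∑ χ : Cfsg.IrrCharacter G, m χ * e χ = d := by
    apply Nat.cast_injective (R := ℂ)
    have h1 : Cfsg.classInner (fun n : N => ψ n) (φ : N → ℂ) =
        ∑ χ : Cfsg.IrrCharacter G, (m χ : ℂ) * (e χ : ℂ) := by
      have hdec : (fun n : N => ψ n) = ∑ χ : Cfsg.IrrCharacter G, (m χ : ℂ) • fun n : N => (χ : G → ℂ) n := by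
        funext n
        conv_lhs => rw [IsCharacter.eq_sum hψc]
        simp only [Finset.sum_apply, Pi.smul_apply, hψm]
      rw [hdec, classInner_sum_left]
      exact Finset.sum_congr rfl fun χ _ => by rw [classInner_smul_left, he]
    rw [Nat.cast_sum]
    simp only [Nat.cast_mul]
    rw [← h1, Cfsg.classInner]
    have hval : ∀ n : N, ψ n * conj ((φ : N → ℂ) n) =
        if n = 1 then ((P : Subgroup G).index : ℂ) * (Cfsg.charDegree (φ : N → ℂ) : ℂ) else 0 := by
      intro n
      split_ifs with hn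
      · subst hn
        rw [Subgroup.coe_one, hψ, indFun_one_apply, mul_one, irr_deg, map_natCast]
      · by_cases hex : ∃ x : G, x⁻¹ * (n : G) * x ∈ (P : Subgroup G)
        · obtain ⟨x, hx⟩ := hex
          obtain ⟨i, hi⟩ := IsPGroup.iff_orderOf.1 P.isPGroup' ⟨_, hx⟩
          rw [Subgroup.orderOf_mk] at hi
          rw [show x⁻¹ * (n : G) * x = MulAut.conj x⁻¹ (n : G) by simp, MulEquiv.orderOf_eq,
            Subgroup.orderOf_coe] at hi
          rw [vanish φ hfac hn ⟨i, hi⟩, map_zero, mul_zero]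
        · push Not at hex
          rw [hψ, indFun_eq_zero_of_forall _ _ hex, zero_mul]
    rw [Finset.sum_congr rfl fun n _ => hval n, Finset.sum_ite_eq', if_pos (Finset.mem_univ _)]
    have hi : ((P : Subgroup G).index : ℂ) * (2 ^ (k + a) : ℕ) = (2 ^ k : ℕ) * (Nat.card N : ℕ) := by
      rw [← hPc, ← Nat.cast_mul, ← Nat.cast_mul, Subgroup.index_mul_card, hcard]
    rw [hd]
    push_cast at hi ⊢
    rw [pow_add] at hi
    have hN0 : (Nat.card N : ℂ) ≠ 0 := Nat.cast_ne_zero.2 Nat.card_pos.ne'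
    field_simp
    have h20 : (2 : ℂ) ^ k ≠ 0 := pow_ne_zero _ two_ne_zero
    apply mul_left_cancel₀ h20
    linear_combination (d : ℂ) * hi
  -- complex conjugation preserves both multiplicities
  let bar : Cfsg.IrrCharacter G → Cfsg.IrrCharacter G := fun χ =>
    ⟨fun x => conj ((χ : G → ℂ) x), IsIrrCharacter.conj χ.2⟩
  have hbar2 : ∀ χ, bar (bar χ) = χ := fun χ => Subtype.ext (funext fun x => Complex.conj_conj _)
  have hmb : ∀ χ, m (bar χ) = m χ := fun χ => by
    have h := congrArg conj (hm χ)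
    simp only [Cfsg.classInner, map_mul, map_inv₀, map_natCast, map_sum, map_one, mul_one] at h
    apply Nat.cast_injective (R := ℂ)
    rw [← hm (bar χ), ← h, Cfsg.classInner]
    simp [bar]
  have heb : ∀ χ, e (bar χ) = e χ := fun χ => by
    apply Nat.cast_injective (R := ℂ)
    have h := congrArg conj (he χ)
    rw [map_natCast] at h
    rw [← he (bar χ), ← h, Cfsg.classInner, Cfsg.classInner, map_mul, map_inv₀, map_natCast, map_sum]
    congr 1
    refine (Fintype.sum_equiv (MulAut.conjNormal g).toEquiv _ _ fun n => ?_).symm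
    show conj ((χ : G → ℂ) n * conj ((φ : N → ℂ) n)) =
      conj ((χ : G → ℂ) (MulAut.conjNormal g n : N)) * conj ((φ : N → ℂ) (MulAut.conjNormal g n))
    rw [hg n (MulAut.conjNormal g n) (MulAut.conjNormal_apply g n), MulAut.conjNormal_apply,
      IsCharacter.isClassFunction (IsIrrCharacter.isCharacter χ.2) (n : G) g, map_mul]
  obtain ⟨χ, hχr, hχodd⟩ : ∃ χ, bar χ = χ ∧ Odd (m χ * e χ) := by
    by_contra hno
    push Not at hno
    have h0 : ∑ χ : Cfsg.IrrCharacter G, ((m χ * e χ : ℕ) : ZMod 2) = 0 := by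
      refine Finset.sum_involution (fun χ _ => bar χ) (fun χ _ => ?_) (fun χ _ hne heq => hne ?_)
        (fun χ _ => Finset.mem_univ _) (fun χ _ => hbar2 χ)
      · rw [hmb, heb, ← Nat.cast_add, ZMod.natCast_eq_zero_iff]
        omega
      · rw [ZMod.natCast_eq_zero_iff]
        exact (Nat.not_odd_iff_even.1 (hno χ heq)).two_dvd
    rw [← Nat.cast_sum, htot, ZMod.natCast_eq_zero_iff] at h0
    exact Nat.not_even_iff_odd.2 hdo (even_iff_two_dvd.2 h0)
  obtain ⟨hmo, heo⟩ := Nat.odd_mul.1 hχodd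
  have hne : Cfsg.classInner (fun n : N => (χ : G → ℂ) n) (φ : N → ℂ) ≠ 0 := by
    rw [he]; exact Nat.cast_ne_zero.2 heo.pos.ne'
  have he1 : e χ = 1 := by
    obtain ⟨r, hr, hrd⟩ := exists_ratio_dvd_index N χ.2 φ.2 hne
    have hc := clifford_degree N χ.2 φ.2 hne
    rw [he, hr] at hc
    have hre : r = e χ * (inertia N (φ : N → ℂ)).index := by
      exact_mod_cast mul_right_cancel₀ (IsIrrCharacter.one_ne_zero φ.2) hc
    have hdvd : e χ ∣ 2 ^ k := by
      refine dvd_trans (Dvd.intro _ hre.symm) (hrd.trans ?_)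
      rw [Subgroup.index_eq_card, hk]
    obtain ⟨i, -, hi⟩ := (Nat.dvd_prime_pow Nat.prime_two).1 hdvd
    rcases i with _ | i
    · rw [hi, pow_zero]
    · exact absurd (hi ▸ heo) (Nat.not_odd_iff_even.2 ((Nat.even_pow' i.succ_ne_zero).2 even_two))
  refine ⟨χ, ?_, ?_⟩
  · obtain ⟨n, ρ, hρ, hρχ⟩ := χ.2
    haveI := hρ
    have hχρ := hρχ.symm
    have hm' := hm χ
    simp only [hχρ] at hm'
    have := indicator_one_of_odd_fixed ρ (fun s => by
      have := congrFun (congrArg Subtype.val hχr) s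
      simp only [bar, hχρ] at this
      exact this) (P : Subgroup G) hm' hmo
    rw [finsum_eq_sum_of_fintype, hχρ]
    exact this
  · rw [finsum_eq_sum_of_fintype]
    have := he χ
    rw [he1, Nat.cast_one] at this
    exact this

end Cfsg.Agent.S4872
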