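import Cfsg.Statements.S4871
import Cfsg.Agent.S4872
import Cfsg.Agent.Lib.Char.Orbit
open Cfsg.Agent.Char Cfsg.Agent.CharX

set_option autoImplicit false
open Cfsg

namespace Cfsg.Agent.S4871

open scoped ComplexConjugate

universe u

/-- An indicator-one character of degree one has trivial square. -/
theorem linear_sq {G : Type u} [Group G] [Fintype G] (ε : Cfsg.IrrCharacter G)
    (h1 : Cfsg.charDegree (ε : G → ℂ) = 1)
    (hν : (Nat.card G : ℂ)⁻¹ * ∑ g : G, (ε : G → ℂ) (g * g) = 1) :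
    ∃ f : G →* ℂˣ, (ε : G → ℂ) = (fun g => (f g : ℂ)) ∧ ∀ g, f g * f g = 1 := by
  classical
  obtain ⟨f, hf⟩ := exists_hom_of_degree_one (IsIrrCharacter.isCharacter ε.2)
    (by rw [irr_deg, h1, Nat.cast_one])
  refine ⟨f, hf, fun g => ?_⟩
  have hε2 : Cfsg.IsCharacter G ((ε : G → ℂ) * (ε : G → ℂ)) :=
    IsCharacter.mul (IsIrrCharacter.isCharacter ε.2) (IsIrrCharacter.isCharacter ε.2)
  have hn : ∀ g, (f g : ℂ) * conj (f g : ℂ) = 1 := by
    intro g
    have h : ‖(f g : ℂ)‖ = 1 := by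
      have hp : (f g : ℂ) ^ orderOf g = 1 := by
        rw [← Units.val_pow_eq_pow_val, ← map_pow, pow_orderOf_eq_one, map_one, Units.val_one]
      exact Complex.norm_eq_one_of_pow_eq_one hp (orderOf_pos g).ne'
    rw [Complex.mul_conj, Complex.normSq_eq_norm_sq, h]; simp
  have hirr : Cfsg.IsIrrCharacter G ((ε : G → ℂ) * (ε : G → ℂ)) := by
    refine IsCharacter.isIrr_of_norm_one hε2 ?_
    simp only [Cfsg.classInner, hf, Pi.mul_apply, map_mul]
    rw [Finset.sum_congr rfl fun g _ => show (f g : ℂ) * f g * (conj (f g : ℂ) * conj (f g : ℂ)) = 1 by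
      rw [mul_mul_mul_comm, hn, one_mul], Finset.sum_const, nsmul_one, Finset.card_univ,
      ← Nat.card_eq_fintype_card, inv_mul_cancel₀ (Nat.cast_ne_zero.2 Nat.card_pos.ne')]
  by_contra hne
  have hz := classInner_irr_of_ne hirr (principal G).2 fun h => hne (Units.ext (by
    have := congrFun h g
    rw [hf] at this
    simpa [principal] using this))
  rw [Cfsg.classInner] at hz
  apply one_ne_zero (α := ℂ)
  rw [← hν, ← hz]
  refine congrArg _ (Finset.sum_congr rfl fun x _ => ?_)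
  simp [hf, principal]

/-- Let G be a finite group that is the semidirect product of a normal elementary abelian subgroup N of odd order by a non-trivial 2-subgroup P, with N the unique minimal normal subgroup of G. Consider the strongly real irreducible complex characters of G (Frobenius–Schur indicator +1) whose degree is 1 or even. Then their average degree is at least 4/3: four times their number is at most three times the sum of their degrees. -/
theorem result {G : Type*} [Group G] [Finite G] (N P : Subgroup G) (hN : N.Normal) (q : ℕ) [Fact q.Prime] (hq : q ≠ 2) (hNel : Cfsg.IsElementaryAbelian q N) (hP : IsPGroup 2 ↥P) (hP1 : P ≠ ⊥) (hdisj : N ⊓ P = ⊥) (hprod : N ⊔ P = ⊤) (hmin : N ≠ ⊥ ∧ ∀ M : Subgroup G, M.Normal → M ≠ ⊥ → N ≤ M) : 4 * Nat.card {χ : Cfsg.IrrCharacter G // (Cfsg.charDegree (χ : G → ℂ) = 1 ∨ 2 ∣ Cfsg.charDegree (χ : G → ℂ)) ∧ (Nat.card G : ℂ)⁻¹ * ∑ᶠ g : G, (χ : G → ℂ) (g * g) = 1} ≤ 3 * (∑ᶠ χ : {χ : Cfsg.IrrCharacter G // (Cfsg.charDegree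 (χ : G → ℂ) = 1 ∨ 2 ∣ Cfsg.charDegree (χ : G → ℂ)) ∧ (Nat.card G : ℂ)⁻¹ * ∑ᶠ g : G, (χ : G → ℂ) (g * g) = 1}, Cfsg.charDegree (χ.1 : G → ℂ)) := by
  classical
  haveI := Fintype.ofFinite G
  haveI := Fintype.ofFinite N
  haveI := hN
  haveI := hNel.1
  set X := {χ : Cfsg.IrrCharacter G // (Cfsg.charDegree (χ : G → ℂ) = 1 ∨
    2 ∣ Cfsg.charDegree (χ : G → ℂ)) ∧ (Nat.card G : ℂ)⁻¹ * ∑ᶠ g : G, (χ : G → ℂ) (g * g) = 1}
  rw [finsum_eq_sum_of_fintype, Nat.card_eq_fintype_card, Finset.mul_sum]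
  -- the subgroup `N` has odd order and `G / N` is a `2`-group
  have hNq : IsPGroup q N := fun x => ⟨1, Subtype.ext (by simpa using hNel.2 x x.2)⟩
  have hNodd : ∀ n ∈ N, ∀ i : ℕ, n ^ 2 ^ i = 1 → n = 1 := by
    intro n hn i hi
    obtain ⟨j, hj⟩ := hNq ⟨n, hn⟩
    have hj' : n ^ q ^ j = 1 := congrArg Subtype.val hj
    have hcop : Nat.Coprime (2 ^ i) (q ^ j) :=
      ((Nat.coprime_primes Nat.prime_two Fact.out).2 hq.symm).pow i j
    have h3 := Nat.dvd_gcd (orderOf_dvd_of_pow_eq_one hi) (orderOf_dvd_of_pow_eq_one hj')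
    rwa [hcop.gcd_eq_one, Nat.dvd_one, orderOf_eq_one_iff] at h3
  have hmem : ∀ g : G, ∃ n ∈ N, ∃ x ∈ P, n * x = g := fun g => by
    have hg : g ∈ N ⊔ P := hprod ▸ Subgroup.mem_top g
    rw [← SetLike.mem_coe, Subgroup.normal_mul N P] at hg
    obtain ⟨n, hn, x, hx, h⟩ := hg
    exact ⟨n, hn, x, hx, h⟩
  have h2 : IsPGroup 2 (G ⧸ N) := by
    refine IsPGroup.of_surjective hP ((QuotientGroup.mk' N).comp P.subtype) fun y => ?_
    obtain ⟨g, rfl⟩ := QuotientGroup.mk_surjective y
    obtain ⟨n, hn, x, hx, rfl⟩ := hmem g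
    refine ⟨⟨x, hx⟩, ?_⟩
    show (x : G ⧸ N) = ((n * x : G) : G ⧸ N)
    rw [QuotientGroup.mk_mul, (QuotientGroup.eq_one_iff n).2 hn, one_mul]
  have hNN : ∀ a ∈ N, ∀ b ∈ N, a * b = b * a := fun a ha b hb =>
    congrArg Subtype.val (mul_comm' (⟨a, ha⟩ : N) ⟨b, hb⟩)
  -- a central involution of `P` inverts `N`
  obtain ⟨z, hzP, hz1, hzc⟩ : ∃ z ∈ P, z ≠ 1 ∧ ∀ x ∈ P, x * z = z * x := by
    haveI : Nontrivial P := (Subgroup.nontrivial_iff_ne_bot P).2 hP1
    haveI := hP.center_nontrivial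
    obtain ⟨z, hz⟩ := exists_ne (1 : Subgroup.center P)
    obtain ⟨i, hi⟩ := hP.to_subgroup (Subgroup.center P) z
    refine ⟨_, (z : P).2, fun h => hz (Subtype.ext (Subtype.ext h)), fun x hx => ?_⟩
    exact congrArg Subtype.val (Subgroup.mem_center_iff.1 z.2 ⟨x, hx⟩)
  obtain ⟨t, htP, ht1, htt, htc⟩ : ∃ t ∈ P, t ≠ 1 ∧ t * t = 1 ∧ ∀ x ∈ P, x * t = t * x := by
    obtain ⟨i, hi⟩ := hP ⟨z, hzP⟩
    have hi' : z ^ 2 ^ i = 1 := congrArg Subtype.val hi
    obtain ⟨j, -, hj⟩ := (Nat.dvd_prime_pow Nat.prime_two).1 (orderOf_dvd_of_pow_eq_one hi')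
    rcases j with _ | j
    · rw [pow_zero, orderOf_eq_one_iff] at hj
      exact absurd hj hz1
    · refine ⟨z ^ 2 ^ j, pow_mem hzP _, fun h => ?_, ?_, fun x hx =>
        ((show Commute x z from hzc x hx).pow_right _)⟩
      · have := Nat.le_of_dvd (pow_pos two_pos _) (orderOf_dvd_of_pow_eq_one h)
        rw [hj, pow_succ] at this
        have := Nat.two_pow_pos j
        omega
      · rw [← pow_add, ← two_mul, ← pow_succ', ← hj, pow_orderOf_eq_one]
  have hinv : ∀ n ∈ N, t * n * t⁻¹ = n⁻¹ := by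
    set C : Subgroup G := N ⊓ Subgroup.centralizer ({t} : Set G) with hC
    have hCn : C.Normal := ⟨fun c hc g => by
      obtain ⟨n, hn, x, hx, rfl⟩ := hmem g
      have hcx : x * c * x⁻¹ ∈ C := by
        refine ⟨hN.conj_mem c hc.1 x, Subgroup.mem_centralizer_singleton_iff.2 ?_⟩
        have h1 := Subgroup.mem_centralizer_singleton_iff.1 hc.2
        have h2 : x⁻¹ * t = t * x⁻¹ := htc x⁻¹ (inv_mem hx)
        rw [mul_assoc (x * c), h2, ← mul_assoc, mul_assoc x c t, h1, ← mul_assoc, htc x hx]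
        group
      rw [show n * x * c * (n * x)⁻¹ = n * (x * c * x⁻¹) * n⁻¹ by group, hNN n hn _ hcx.1,
        mul_inv_cancel_right]
      exact hcx⟩
    have hCbot : C = ⊥ := by
      by_contra hne
      have hNC := hmin.2 C hCn hne
      set K : Subgroup G := P ⊓ Subgroup.centralizer (N : Set G) with hK
      have hKn : K.Normal := ⟨fun c hc g => by
        obtain ⟨n, hn, x, hx, rfl⟩ := hmem g
        have hcx : x * c * x⁻¹ ∈ K := by
          refine ⟨P.mul_mem (P.mul_mem hx hc.1) (P.inv_mem hx), Subgroup.mem_centralizer_iff.2 fun m hm => ?_⟩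
          have := Subgroup.mem_centralizer_iff.1 hc.2 _ (hN.conj_mem' m hm x)
          calc m * (x * c * x⁻¹) = x * ((x⁻¹ * m * x) * c) * x⁻¹ := by group
            _ = x * c * x⁻¹ * m := by rw [this]; group
        rw [show n * x * c * (n * x)⁻¹ = n * (x * c * x⁻¹) * n⁻¹ by group,
          Subgroup.mem_centralizer_iff.1 hcx.2 n hn, mul_inv_cancel_right]
        exact hcx⟩
      have hKbot : K = ⊥ := by
        by_contra hKne
        refine hmin.1 (le_bot_iff.1 (le_trans (le_inf le_rfl ((hmin.2 K hKn hKne).trans inf_le_left))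
          hdisj.le))
      have : t ∈ K := ⟨htP, Subgroup.mem_centralizer_iff.2 fun m hm =>
        Subgroup.mem_centralizer_singleton_iff.1 (hNC hm).2⟩
      rw [hKbot, Subgroup.mem_bot] at this
      exact ht1 this
    intro n hn
    have hm : n * (t * n * t⁻¹) ∈ C := by
      refine ⟨mul_mem hn (hN.conj_mem n hn t), Subgroup.mem_centralizer_singleton_iff.2 ?_⟩
      have hti : t⁻¹ = t := inv_eq_of_mul_eq_one_right htt
      have hcomm := hNN n hn _ (hN.conj_mem n hn t)
      rw [hti] at hcomm ⊢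
      calc n * (t * n * t) * t = n * t * n := by simp only [mul_assoc, htt, mul_one]
        _ = t * (t * n * t * n) := by simp only [← mul_assoc, htt, one_mul]
        _ = t * (n * (t * n * t)) := by rw [← hcomm]
    rw [hCbot, Subgroup.mem_bot] at hm
    exact eq_inv_of_mul_eq_one_right hm
  -- a nontrivial character of `N`
  obtain ⟨n₀, hn₀⟩ := N.ne_bot_iff_exists_ne_one.1 hmin.1
  obtain ⟨φ, hφ⟩ : ∃ φ : Cfsg.IrrCharacter N, (φ : N → ℂ) n₀ ≠ (φ : N → ℂ) 1 := by
    by_contra hno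
    push Not at hno
    exact hn₀ (isConj_one_left.1 ((isConj_iff_forall_irr n₀ 1).2 hno))
  have hNcard : (Nat.card N).factorization 2 = 0 := by
    refine Nat.factorization_eq_zero_of_not_dvd fun h => ?_
    obtain ⟨x, hx⟩ := exists_prime_orderOf_dvd_card' 2 h
    have : (x : G) = 1 := hNodd x x.2 1 (by
      have := pow_orderOf_eq_one x
      rw [hx] at this
      simpa using congrArg Subtype.val this)
    rw [show x = 1 from Subtype.ext this, orderOf_one] at hx
    omega
  have hφd : Cfsg.charDegree (φ : N → ℂ) = 1 := by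
    have := degree_one_of_comm (fun a b : N => mul_comm' a b) φ.2
    rw [irr_deg] at this
    exact_mod_cast this
  have hφinv : ∀ n : N, (φ : N → ℂ) n⁻¹ = conj ((φ : N → ℂ) n) := fun n => Blocks.irr_inv φ n
  obtain ⟨χ, hχν, hχe⟩ := S4872.result N h2 φ (by rw [hNcard, pow_zero]; exact one_dvd _)
    ⟨t, fun n n' h => by
      rw [← hφinv]
      exact congrArg _ (Subtype.ext (h.trans (hinv n n.2)))⟩
  rw [finsum_eq_sum_of_fintype] at hχν hχe
  have hχφ : Cfsg.classInner (fun n : N => (χ : G → ℂ) n) (φ : N → ℂ) = 1 := hχe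
  have hne : Cfsg.classInner (fun n : N => (χ : G → ℂ) n) (φ : N → ℂ) ≠ 0 := by
    rw [hχφ]; exact one_ne_zero
  -- its degree
  set d := Cfsg.charDegree (χ : G → ℂ) with hd
  have hdorb : (d : ℂ) = (inertia N (φ : N → ℂ)).index := by
    rw [hd, ← irr_deg, clifford_degree N χ.2 φ.2 hne, hχφ, irr_deg, hφd, one_mul, Nat.cast_one, mul_one]
  have hdidx : d = (inertia N (φ : N → ℂ)).index := by exact_mod_cast hdorb
  have hd2 : 2 ∣ d := by
    obtain ⟨k, hk⟩ := IsPGroup.iff_card.1 h2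
    have hNT : N ≤ inertia N (φ : N → ℂ) :=
      le_inertia N (IsCharacter.isClassFunction (IsIrrCharacter.isCharacter φ.2))
    obtain ⟨i, -, hi⟩ := (Nat.dvd_prime_pow Nat.prime_two).1
      (hk ▸ N.index_eq_card ▸ Subgroup.index_dvd_of_le hNT)
    rw [hdidx, hi]
    refine dvd_pow_self 2 fun h0 => ?_
    rw [h0, pow_zero, Subgroup.index_eq_one] at hi
    have ht : t ∈ inertia N (φ : N → ℂ) := hi ▸ Subgroup.mem_top t
    rw [mem_inertia] at ht
    apply hφ
    obtain ⟨f, hf⟩ := exists_hom_of_degree_one (IsIrrCharacter.isCharacter φ.2)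
      (by rw [irr_deg, hφd, Nat.cast_one])
    have h1 : (φ : N → ℂ) ⟨t * (n₀ : G) * t⁻¹, hN.conj_mem _ n₀.2 t⟩ = (φ : N → ℂ) n₀ := by
      have := congrFun ht n₀
      simpa [conjChar] using this
    rw [show (⟨t * (n₀ : G) * t⁻¹, hN.conj_mem _ n₀.2 t⟩ : N) = n₀⁻¹ from
      Subtype.ext (hinv n₀ n₀.2), hf] at h1
    simp only [map_inv] at h1
    have h2' : f n₀ ^ 2 = 1 := by
      rw [sq, ← inv_eq_iff_mul_eq_one]
      exact Units.ext h1
    have h3 : f n₀ = 1 := by
      obtain ⟨j, hj⟩ := hNq n₀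
      have hj' : f n₀ ^ q ^ j = 1 := by rw [← map_pow, hj, map_one]
      have hcop : Nat.Coprime 2 (q ^ j) :=
        Nat.Coprime.pow_right j ((Nat.coprime_primes Nat.prime_two Fact.out).2 hq.symm)
      have h4 := Nat.dvd_gcd (orderOf_dvd_of_pow_eq_one h2') (orderOf_dvd_of_pow_eq_one hj')
      rwa [hcop.gcd_eq_one, Nat.dvd_one, orderOf_eq_one_iff] at h4
    rw [hf]
    simp [h3]
  -- linear members
  set R := Finset.univ.filter fun x : X => Cfsg.charDegree (x.1 : G → ℂ) = 1 with hR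
  have hRf : ∀ x ∈ R, ∃ f : G →* ℂˣ, (x.1 : G → ℂ) = (fun g => (f g : ℂ)) ∧ (∀ g, f g * f g = 1) ∧
      ∀ n ∈ N, f n = 1 := by
    intro x hx
    have hν := x.2.2
    rw [finsum_eq_sum_of_fintype] at hν
    obtain ⟨f, hf, hsq⟩ := linear_sq x.1 (Finset.mem_filter.1 hx).2 hν
    refine ⟨f, hf, hsq, fun n hn => ?_⟩
    obtain ⟨j, hj⟩ := hNq ⟨n, hn⟩
    have hj' : f n ^ q ^ j = 1 := by
      rw [← map_pow, show n ^ q ^ j = 1 from congrArg Subtype.val hj, map_one]
    have hcop : Nat.Coprime 2 (q ^ j) :=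
      Nat.Coprime.pow_right j ((Nat.coprime_primes Nat.prime_two Fact.out).2 hq.symm)
    have h4 := Nat.dvd_gcd (orderOf_dvd_of_pow_eq_one ((sq _).trans (hsq n)))
      (orderOf_dvd_of_pow_eq_one hj')
    rwa [hcop.gcd_eq_one, Nat.dvd_one, orderOf_eq_one_iff] at h4
  choose f hf hfsq hfN using hRf
  have hpm : ∀ x hx g, conj (f x hx g : ℂ) = (f x hx g : ℂ) := by
    intro x hx g
    have h : (f x hx g : ℂ) * f x hx g = 1 := by
      rw [← Units.val_mul, hfsq x hx g, Units.val_one]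
    rcases mul_self_eq_one_iff.1 h with e | e <;> rw [e] <;> simp
  -- the twists of `χ`
  have htw : ∀ x, ∀ hx : x ∈ R, ∃ y : X, (y.1 : G → ℂ) = (χ : G → ℂ) * (x.1 : G → ℂ) := by
    intro x hx
    have hirr : Cfsg.IsIrrCharacter G ((χ : G → ℂ) * (x.1 : G → ℂ)) := by
      refine IsCharacter.isIrr_of_norm_one (IsCharacter.mul (IsIrrCharacter.isCharacter χ.2)
        (IsIrrCharacter.isCharacter x.1.2)) ?_
      refine Eq.trans ?_ (classInner_self_irr χ.2)
      simp only [Cfsg.classInner]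
      refine congrArg _ (Finset.sum_congr rfl fun g _ => ?_)
      rw [Pi.mul_apply, hf x hx, map_mul, hpm]
      rw [mul_mul_mul_comm, ← Units.val_mul, hfsq x hx g, Units.val_one, mul_one]
    refine ⟨⟨⟨_, hirr⟩, Or.inr ?_, ?_⟩, rfl⟩
    · have : Cfsg.charDegree ((χ : G → ℂ) * (x.1 : G → ℂ)) = d := by
        have h1 := irr_deg (⟨_, hirr⟩ : Cfsg.IrrCharacter G)
        simp only [Pi.mul_apply, irr_deg, (Finset.mem_filter.1 hx).2, Nat.cast_one, mul_one] at h1
        exact_mod_cast h1.symm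
      exact this ▸ hd2
    · rw [finsum_eq_sum_of_fintype]
      refine Eq.trans ?_ hχν
      refine congrArg _ (Finset.sum_congr rfl fun g _ => ?_)
      simp only [Pi.mul_apply, hf x hx, map_mul, hfsq x hx g, Units.val_one, mul_one]
  choose tw htw using htw
  set I := R.attach.image fun x => tw x.1 x.2 with hI
  have hdpos : 0 < d := irr_deg_pos χ
  have hfib : ∀ y ∈ I, (R.attach.filter fun x => tw x.1 x.2 = y).card ≤ d := by
    intro y hy
    obtain ⟨x₀, -, rfl⟩ := Finset.mem_image.1 hy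
    set S := R.attach.filter fun x => tw x.1 x.2 = tw x₀.1 x₀.2 with hS
    -- each member gives a distinct linear constituent of `χ χ̄`
    set α : G → ℂ := (χ : G → ℂ) * fun g => conj ((χ : G → ℂ) g) with hα
    have hαc : Cfsg.IsCharacter G α := IsCharacter.mul (IsIrrCharacter.isCharacter χ.2)
      (IsCharacter.conj (IsIrrCharacter.isCharacter χ.2))
    obtain ⟨m, hm⟩ := IsCharacter.exists_decomp hαc
    have hprod' : ∀ x : {x // x ∈ R}, Cfsg.IsIrrCharacter G ((x.1.1 : G → ℂ) * (x₀.1.1 : G → ℂ)) := by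
      intro x
      refine IsCharacter.isIrr_of_norm_one (IsCharacter.mul (IsIrrCharacter.isCharacter x.1.1.2)
        (IsIrrCharacter.isCharacter x₀.1.1.2)) ?_
      simp only [Cfsg.classInner, Pi.mul_apply, hf _ x.2, hf _ x₀.2, map_mul, hpm]
      rw [Finset.sum_congr rfl fun g _ => show (f _ x.2 g : ℂ) * f _ x₀.2 g *
        ((f _ x.2 g : ℂ) * f _ x₀.2 g) = 1 by
          rw [mul_mul_mul_comm, ← Units.val_mul, ← Units.val_mul, hfsq, hfsq, Units.val_one, mul_one],
        Finset.sum_const, nsmul_one, Finset.card_univ, ← Nat.card_eq_fintype_card,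
        inv_mul_cancel₀ (Nat.cast_ne_zero.2 Nat.card_pos.ne')]
    let g₁ : {x // x ∈ R} → Cfsg.IrrCharacter G := fun x => ⟨_, hprod' x⟩
    have hg₁inj : Function.Injective g₁ := by
      intro x y hxy
      refine Subtype.ext (Subtype.ext (Subtype.ext (funext fun g => ?_)))
      have := congrFun (congrArg Subtype.val hxy) g
      simp only [g₁, Pi.mul_apply, hf _ x.2, hf _ y.2, hf _ x₀.2] at this ⊢
      exact mul_right_cancel₀ (Units.ne_zero _) this
    have hm1 : ∀ x ∈ S, 1 ≤ m (g₁ x) ∧ ∀ n : N, (g₁ x : G → ℂ) n = 1 := by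
      intro x hx
      refine ⟨?_, fun n => ?_⟩
      · rw [Nat.one_le_iff_ne_zero]
        intro h0
        have hx' := (htw _ x.2).symm.trans ((congrArg (fun y : X => (y.1 : G → ℂ))
          (Finset.mem_filter.1 hx).2).trans (htw _ x₀.2))
        have h1 : Cfsg.classInner α (g₁ x : G → ℂ) = 1 := by
          rw [← classInner_self_irr χ.2]
          simp only [Cfsg.classInner]
          refine congrArg _ (Finset.sum_congr rfl fun g _ => ?_)
          have hxg := congrFun hx' g
          simp only [Pi.mul_apply, hf _ x.2, hf _ x₀.2] at hxg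
          simp only [α, g₁, Pi.mul_apply, hf _ x.2, hf _ x₀.2, map_mul, hpm]
          have h2 : (f _ x₀.2 g : ℂ) * f _ x₀.2 g = 1 := by
            rw [← Units.val_mul, hfsq, Units.val_one]
          linear_combination (conj ((χ : G → ℂ) g) * (f _ x₀.2 g : ℂ)) * hxg +
            (χ : G → ℂ) g * conj ((χ : G → ℂ) g) * h2
        rw [hm, classInner_combination, h0, Nat.cast_zero] at h1
        exact zero_ne_one h1
      · simp only [g₁, Pi.mul_apply, hf _ x.2, hf _ x₀.2, hfN _ _ _ n.2, Units.val_one, mul_one]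
    -- compare with the restriction to `N`
    have hres : ∀ ψ : Cfsg.IrrCharacter G, ∃ k : ℕ,
        Cfsg.classInner (fun n : N => (ψ : G → ℂ) n) (fun _ => 1) = k := fun ψ =>
      IsCharacter.exists_classInner_nat (IsCharacter.restrict (IsIrrCharacter.isCharacter ψ.2) N)
        isCharacter_one
    choose k hk using hres
    have hkg : ∀ x ∈ S, k (g₁ x) = 1 := fun x hx => by
      apply Nat.cast_injective (R := ℂ)
      rw [← hk, Nat.cast_one]
      simp [Cfsg.classInner, (hm1 x hx).2]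
    have htotal : ((∑ ψ : Cfsg.IrrCharacter G, m ψ * k ψ : ℕ) : ℂ) = d := by
      have h1 : Cfsg.classInner (fun n : N => α n) (fun _ => 1) =
          Cfsg.classInner (fun n : N => (χ : G → ℂ) n) (fun n : N => (χ : G → ℂ) n) := by
        simp [Cfsg.classInner, α]
      have h2 : Cfsg.classInner (fun n : N => α n) (fun _ => 1) =
          ((∑ ψ : Cfsg.IrrCharacter G, m ψ * k ψ : ℕ) : ℂ) := by
        have hdec : (fun n : N => α n) = ∑ ψ : Cfsg.IrrCharacter G, (m ψ : ℂ) • fun n : N => (ψ : G → ℂ) n := by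
          funext n
          conv_lhs => rw [hm]
          simp only [Finset.sum_apply, Pi.smul_apply]
        rw [hdec, classInner_sum_left, Nat.cast_sum]
        exact Finset.sum_congr rfl fun ψ _ => by rw [classInner_smul_left, hk, Nat.cast_mul]
      rw [← h2, h1]
      have hcl := clifford N χ.2 φ.2 hne
      rw [hχφ, one_smul] at hcl
      conv_lhs => arg 1; rw [hcl]
      rw [classInner_sum_left, Finset.sum_congr rfl fun ψ hψ => show Cfsg.classInner ψ
          (fun n : N => (χ : G → ℂ) n) = 1 from ?_, Finset.sum_const, nsmul_one, card_conjOrbit,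
        ← hdorb]
      obtain ⟨g, rfl⟩ := (mem_conjOrbit N).1 hψ
      rw [classInner_comm_of_isCharacter (IsIrrCharacter.isCharacter (isIrrCharacter_conjChar N φ.2 g))
        (IsCharacter.restrict (IsIrrCharacter.isCharacter χ.2) N), classInner_restrict_conjChar N
        (IsCharacter.isClassFunction (IsIrrCharacter.isCharacter χ.2)), hχφ]
    rw [Nat.cast_inj] at htotal
    calc S.card = (S.image g₁).card := (Finset.card_image_of_injective _ hg₁inj).symm
      _ ≤ ∑ ψ ∈ S.image g₁, m ψ * k ψ := by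
          rw [Finset.card_eq_sum_ones]
          refine Finset.sum_le_sum fun ψ hψ => ?_
          obtain ⟨x, hx, rfl⟩ := Finset.mem_image.1 hψ
          rw [hkg x hx, mul_one]
          exact (hm1 x hx).1
      _ ≤ ∑ ψ, m ψ * k ψ := Finset.sum_le_univ_sum_of_nonneg fun _ => Nat.zero_le _
      _ = d := htotal
  have hRcard : R.card ≤ d * I.card := by
    rw [← Finset.card_attach]
    exact Finset.card_le_mul_card_image _ d hfib
  have hIdeg : ∀ y ∈ I, Cfsg.charDegree (y.1 : G → ℂ) = d := by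
    intro y hy
    obtain ⟨x, -, rfl⟩ := Finset.mem_image.1 hy
    have h1 := irr_deg (tw x.1 x.2).1
    rw [htw, Pi.mul_apply, irr_deg, irr_deg, (Finset.mem_filter.1 x.2).2, Nat.cast_one, mul_one] at h1
    rw [hd, htw]
    exact_mod_cast h1.symm
  -- the count
  set O := Finset.univ.filter fun x : X => ¬ Cfsg.charDegree (x.1 : G → ℂ) = 1 with hO
  have hIO : I ⊆ O := fun y hy => Finset.mem_filter.2 ⟨Finset.mem_univ _, by
    rw [hIdeg y hy]; intro h; rw [h] at hd2; omega⟩
  have h1 : d * I.card ≤ ∑ y ∈ O, Cfsg.charDegree (y.1 : G → ℂ) := by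
    calc d * I.card = ∑ y ∈ I, Cfsg.charDegree (y.1 : G → ℂ) := by
          rw [Finset.sum_congr rfl hIdeg, Finset.sum_const, smul_eq_mul, mul_comm]
      _ ≤ _ := Finset.sum_le_sum_of_subset hIO
  have h3 : ∀ y ∈ O, 4 + Cfsg.charDegree (y.1 : G → ℂ) ≤ 3 * Cfsg.charDegree (y.1 : G → ℂ) := by
    intro y hy
    have h := (y.2.1).resolve_left (Finset.mem_filter.1 hy).2
    have := Nat.le_of_dvd (irr_deg_pos y.1) h
    omega
  have h4 := Finset.sum_le_sum h3
  rw [Finset.sum_add_distrib, Finset.sum_const, smul_eq_mul, ← Finset.mul_sum] at h4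
  have hcard : Fintype.card X = R.card + O.card := by
    rw [hR, hO, Finset.card_filter_add_card_filter_not, Finset.card_univ]
  have hsplit : ∑ x : X, 3 * Cfsg.charDegree (x.1 : G → ℂ) =
      3 * R.card + 3 * ∑ y ∈ O, Cfsg.charDegree (y.1 : G → ℂ) := by
    rw [← Finset.sum_filter_add_sum_filter_not Finset.univ
      (fun x : X => Cfsg.charDegree (x.1 : G → ℂ) = 1), ← hR, ← hO, Finset.mul_sum,
      Finset.sum_congr rfl fun x hx => show 3 * Cfsg.charDegree (x.1 : G → ℂ) = 3 by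
        rw [(Finset.mem_filter.1 hx).2], Finset.sum_const, smul_eq_mul]
    omega
  have hgoal : 4 * Fintype.card X ≤ ∑ x : X, 3 * Cfsg.charDegree (x.1 : G → ℂ) := by omega
  convert hgoal

end Cfsg.Agent.S4871
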