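import Cfsg.Statements.S4873
import Cfsg.Agent.Lib.Char.OddIndexReal
-- import your own Cfsg.Agent.* helpers here

set_option autoImplicit false
open Cfsg

open Cfsg.Agent Cfsg.Agent.Char
open scoped ComplexConjugate

namespace Cfsg.Agent.S4873

/-- Let N be a normal subgroup of odd index in the finite group G. Then every irreducible complex character of N with Frobenius–Schur indicator +1 lies under exactly one irreducible character of G with Frobenius–Schur indicator +1. -/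
theorem result {G : Type*} [Group G] [Finite G] (N : Subgroup G) [N.Normal] (hodd : Odd N.index) (φ : Cfsg.IrrCharacter ↥N) (hφ : (Nat.card ↥N : ℂ)⁻¹ * ∑ᶠ g : ↥N, (φ : ↥N → ℂ) (g * g) = 1) : ∃! χ : Cfsg.IrrCharacter G, (Nat.card G : ℂ)⁻¹ * ∑ᶠ g : G, (χ : G → ℂ) (g * g) = 1 ∧ (∑ᶠ n : ↥N, (χ : G → ℂ) n * (starRingEnd ℂ) ((φ : ↥N → ℂ) n)) ≠ 0 := by
  classical
  haveI := Fintype.ofFinite G
  haveI := Fintype.ofFinite N
  simp only [finsum_eq_sum_of_fintype] at hφ ⊢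
  have hreal : ∀ χ : Cfsg.IrrCharacter G, (Nat.card G : ℂ)⁻¹ * ∑ g : G, (χ : G → ℂ) (g * g) = 1 →
      ∀ g, ((χ : G → ℂ) g).im = 0 := fun χ h => by
    rcases OddIndexReal.nu_cases χ with ⟨-, h0⟩ | ⟨h1, -⟩
    · exact absurd (h.symm.trans h0) one_ne_zero
    · exact h1
  have hφr : ∀ k, ((φ : N → ℂ) k).im = 0 := by
    rcases OddIndexReal.nu_cases φ with ⟨-, h0⟩ | ⟨h1, -⟩
    · exact absurd (hφ.symm.trans h0) one_ne_zero
    · exact h1
  have hmul : ∀ χ : Cfsg.IrrCharacter G, ∑ n : N, (χ : G → ℂ) n * conj ((φ : N → ℂ) n) ≠ 0 →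
      Cfsg.classInner (fun n : N => (χ : G → ℂ) n) (φ : N → ℂ) ≠ 0 := fun χ h =>
    mul_ne_zero (inv_ne_zero (Nat.cast_ne_zero.2 Nat.card_pos.ne')) h
  have hex : ∃ χ : Cfsg.IrrCharacter G, (Nat.card G : ℂ)⁻¹ * ∑ g : G, (χ : G → ℂ) (g * g) = 1 ∧
      ∑ n : N, (χ : G → ℂ) n * conj ((φ : N → ℂ) n) ≠ 0 := by
    by_contra hno
    push Not at hno
    have h := OddIndexReal.nu_sum_constituent N hodd φ
    rw [show OddIndexReal.nu (φ : N → ℂ) = 1 from hφ] at h
    have hc : ∀ χ : Cfsg.IrrCharacter G, ∃ m : ℕ,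
        Cfsg.classInner (fun k : N => (χ : G → ℂ) k) (φ : N → ℂ) = (m : ℂ) := fun χ =>
      IsCharacter.exists_classInner_nat (IsCharacter.restrict (IsIrrCharacter.isCharacter χ.2) N)
        (IsIrrCharacter.isCharacter φ.2)
    choose m hm using hc
    have h' : ∀ χ : Cfsg.IrrCharacter G, ∃ z : ℕ, OddIndexReal.nu (χ : G → ℂ) *
        conj (Cfsg.classInner (fun k : N => (χ : G → ℂ) k) (φ : N → ℂ)) = -(z : ℂ) := by
      intro χ
      rw [hm, map_natCast]
      rcases OddIndexReal.nu_cases χ with ⟨-, h0⟩ | ⟨-, h0 | h0⟩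
      · exact ⟨0, by rw [h0]; simp⟩
      · refine ⟨0, ?_⟩
        have := hm χ
        rw [Cfsg.classInner, hno χ h0, mul_zero] at this
        rw [← this]; simp
      · exact ⟨m χ, by rw [h0]; ring⟩
    choose z hz using h'
    rw [Finset.sum_congr rfl fun χ _ => hz χ, Finset.sum_neg_distrib, ← Nat.cast_sum] at h
    have h2 : ((∑ χ : Cfsg.IrrCharacter G, z χ) + 1 : ℕ) = ((0 : ℕ) : ℂ) := by
      push_cast
      rw [Nat.cast_sum] at h
      linear_combination -h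
    exact absurd (Nat.cast_injective (R := ℂ) h2) (Nat.succ_ne_zero _)
  obtain ⟨χ, h1, h2⟩ := hex
  refine ⟨χ, ⟨h1, h2⟩, fun ψ hψ => ?_⟩
  exact OddIndexReal.real_over_unique N hodd φ hφr ψ χ (hreal ψ hψ.1) (hreal χ h1)
    (hmul ψ hψ.2) (hmul χ h2)

end Cfsg.Agent.S4873
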