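import Cfsg.Statements.S4885
import Cfsg.Agent.Lib.Blocks.KernelBlock
import Cfsg.Agent.Lib.Blocks.Constrained
import Cfsg.Agent.Lib.BrauerPairs.PrincipalNormSum
import Cfsg.Agent.Lib.PLocal.PSolvable
import Cfsg.Agent.Lib.Transfer.Tate
import Cfsg.Agent.Lib.Char.CyclicTI.Basic
import Cfsg.Agent.Lib.Char.Induction
import Cfsg.Agent.Lib.Solvable.NilpotentFrattini
-- import your own Cfsg.Agent.* helpers here

set_option autoImplicit false
open Cfsg

open Cfsg.Agent.Blocks Cfsg.Agent.Char Cfsg.Agent.CharX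

namespace Cfsg.Agent.S4885

universe u

variable {G : Type u} [Group G] [Finite G] {p q : ℕ} [hp : Fact p.Prime] [hq : Fact q.Prime]

/-- Without `p'`-core, `O_p` is not inside the Frattini subgroup of a Sylow `p`-subgroup. -/
theorem not_pCore_le_frattini [Nontrivial G] (h : Cfsg.IsPSolvable p G)
    (hO : Cfsg.pPrimeCore p G = ⊥) (P : Sylow p G) :
    ¬ Cfsg.pCore p G ≤ (frattini (P : Subgroup G)).map (P : Subgroup G).subtype := by
  intro hle
  set R := Cfsg.pCore p G with hR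
  haveI := PBasic.pCore_isPGroup p G
  by_cases hn : Nontrivial (G ⧸ R)
  · haveI := hn
    rcases PSolvable.exists_core_ne_bot (PSolvable.quotient R h) with hc | hc
    · exact hc (PBasic.pCore_quotient_pCore p G)
    set π := QuotientGroup.mk' R with hπ
    set W := (Cfsg.pPrimeCore p (G ⧸ R)).comap π with hW
    haveI : W.Normal := Subgroup.Normal.comap inferInstance π
    have hWP : W ⊓ (P : Subgroup G) ≤ R := by
      intro x hx
      obtain ⟨hxW, hxP⟩ := Subgroup.mem_inf.1 hx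
      have h1 : π x ∈ Cfsg.pPrimeCore p (G ⧸ R) ⊓ (P : Subgroup G).map π :=
        Subgroup.mem_inf.2 ⟨hxW, ⟨x, hxP, rfl⟩⟩
      rw [PBasic.inf_eq_bot_of_coprime (PBasic.pPrimeCore_coprime p _) (P.isPGroup'.map π),
        Subgroup.mem_bot, hπ, QuotientGroup.mk'_apply, QuotientGroup.eq_one_iff] at h1
      exact h1
    obtain ⟨S0, N, hN, hcompl⟩ := Tate.hasNormalPComplement_of_inf_le P W (hWP.trans hle)
    haveI := hN
    have hcop : (Nat.card N).Coprime p := by
      rw [Nat.coprime_comm, hp.out.coprime_iff_not_dvd]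
      rw [← hcompl.index_eq_card]
      exact S0.not_dvd_index
    have hN1 : N = ⊥ := by
      have h1 := (Subgroup.map_mono (f := W.subtype) (PBasic.le_pPrimeCore hN hcop)).trans
        (PBasic.map_pPrimeCore_le_of_normal W)
      rw [hO, le_bot_iff, Subgroup.map_eq_bot_iff_of_injective _ W.subtype_injective] at h1
      exact h1
    have hWp : IsPGroup p W := by
      have h1 := hcompl.sup_eq_top
      rw [hN1, bot_sup_eq] at h1
      intro x
      obtain ⟨k, hk⟩ := S0.isPGroup' ⟨x, h1 ▸ Subgroup.mem_top x⟩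
      exact ⟨k, congrArg Subtype.val hk⟩
    apply hc
    have h1 : W ≤ R := PBasic.le_pCore inferInstance hWp
    rw [eq_bot_iff, ← Subgroup.comap_le_comap_of_surjective (QuotientGroup.mk'_surjective R),
      MonoidHom.comap_bot, QuotientGroup.ker_mk']
    exact h1
  · rw [not_nontrivial_iff_subsingleton] at hn
    have hR1 : R = ⊤ := Subgroup.eq_top_iff' _ |>.2 fun x =>
      (QuotientGroup.eq_one_iff x).1 (Subsingleton.elim _ _)
    have hP1 : (P : Subgroup G) = ⊤ := top_le_iff.1 (hR1 ▸ PBasic.pCore_le_sylow P)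
    have h1 : frattini (P : Subgroup G) = ⊤ := by
      rw [eq_top_iff]
      intro x _
      obtain ⟨y, hy, e⟩ := hle (hR1 ▸ Subgroup.mem_top (x : G))
      exact (Subtype.ext e : y = x) ▸ hy
    have h2 : (⊥ : Subgroup (P : Subgroup G)) = ⊤ := frattini_nongenerating (by rw [bot_sup_eq, h1])
    obtain ⟨a, ha⟩ := exists_ne (1 : G)
    have h3 : (⟨a, hP1 ▸ Subgroup.mem_top a⟩ : (P : Subgroup G)) ∈ (⊥ : Subgroup (P : Subgroup G)) :=
      h2 ▸ Subgroup.mem_top _
    exact ha (congrArg Subtype.val (Subgroup.mem_bot.1 h3))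

/-- The group-theoretical core of the proof. -/
theorem core (hpq : p ≠ q) (hps : Cfsg.IsPSolvable p G) (hdvd : p ∣ Nat.card G)
    (K : Subgroup G) [K.Normal] (hT : Cfsg.pPrimeCore p G ≤ K) (hT' : Cfsg.pPrimeCore q G ≤ K)
    (hKP : ∀ P : Sylow p G, K ⊓ (P : Subgroup G) ≤
      (frattini (P : Subgroup G)).map (P : Subgroup G).subtype)
    (hKQ : ∀ Q : Sylow q G, K ⊓ (Q : Subgroup G) ≤
      (frattini (Q : Subgroup G)).map (Q : Subgroup G).subtype) : False := by
  classical
  set T := Cfsg.pPrimeCore p G with hTdef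
  set T' := Cfsg.pPrimeCore q G with hT'def
  set X := T ⊓ T' with hX
  obtain ⟨Q0⟩ : Nonempty (Sylow q G) := inferInstance
  obtain ⟨S0, N, hN, hcompl⟩ := Tate.hasNormalPComplement_of_inf_le Q0 T
    ((inf_le_inf_right _ hT).trans (hKQ Q0))
  haveI := hN
  have hNX : N.map T.subtype ≤ X := by
    refine le_inf (Subgroup.map_subtype_le N) ?_
    have hcop : (Nat.card N).Coprime q := by
      rw [Nat.coprime_comm, hq.out.coprime_iff_not_dvd]
      rw [← hcompl.index_eq_card]
      exact S0.not_dvd_index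
    exact (Subgroup.map_mono (f := T.subtype) (PBasic.le_pPrimeCore hN hcop)).trans
      (PBasic.map_pPrimeCore_le_of_normal T)
  obtain ⟨Q, hQ⟩ := (S0.isPGroup'.map T.subtype).exists_le_sylow
  have hdecT : ∀ t ∈ T, ∃ x ∈ X, ∃ s ∈ (Q : Subgroup G), s ∈ T ∧ t = x * s := by
    intro t ht
    obtain ⟨a, ha⟩ := (hcompl.existsUnique ⟨t, ht⟩).exists
    exact ⟨_, hNX ⟨_, a.1.2, rfl⟩, _, hQ ⟨_, a.2.2, rfl⟩, (a.2 : T).2, congrArg Subtype.val ha.symm⟩
  set π := QuotientGroup.mk' T with hπ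
  have hsurj : Function.Surjective π := QuotientGroup.mk'_surjective T
  set R0 := (Cfsg.pCore p (G ⧸ T)).comap π with hR0
  haveI : R0.Normal := Subgroup.Normal.comap inferInstance π
  obtain ⟨P0⟩ : Nonempty (Sylow p R0) := inferInstance
  set P0' := (P0 : Subgroup R0).map R0.subtype with hP0'
  have hP0p : IsPGroup p P0' := P0.isPGroup'.map R0.subtype
  have hmap : P0'.map π = Cfsg.pCore p (G ⧸ T) := by
    have h1 : R0.map π = Cfsg.pCore p (G ⧸ T) := Subgroup.map_comap_eq_self_of_surjective hsurj _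
    let P1 : Sylow p ↥(R0.map π) := P0.mapSurjective (π.subgroupMap_surjective R0)
    have h2 : IsPGroup p ↥(R0.map π) := h1 ▸ PBasic.pCore_isPGroup p _
    have h3 : (P1 : Subgroup ↥(R0.map π)) = ⊤ :=
      (P1.is_maximal' (h2.to_subgroup ⊤) le_top).symm
    rw [← h1, ← Subgroup.range_subtype (R0.map π), MonoidHom.range_eq_map, ← h3,
      Sylow.coe_mapSurjective]
    simp only [hP0', Subgroup.map_map]
    rfl
  have hR0le : R0 ≤ T ⊔ P0' := by
    rw [hR0, ← hmap, Subgroup.comap_map_eq, hπ, QuotientGroup.ker_mk', sup_comm]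
  set N0 := Subgroup.normalizer (P0' : Set G) with hN0
  have hdecG : ∀ g : G, ∃ t ∈ T, ∃ n ∈ N0, g = t * n := by
    intro g
    have h1 : T ⊔ N0 = ⊤ := by
      have h := Sylow.normalizer_sup_eq_top P0
      rw [← hP0', ← hN0] at h
      rw [eq_top_iff, ← h]
      exact sup_le le_sup_right (hR0le.trans (sup_le le_sup_left
        (Subgroup.le_normalizer.trans le_sup_right)))
    have hg : g ∈ T ⊔ N0 := h1 ▸ Subgroup.mem_top g
    rw [← SetLike.mem_coe, Subgroup.normal_mul] at hg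
    obtain ⟨t, ht, n, hn, e⟩ := hg
    exact ⟨t, ht, n, hn, e.symm⟩
  set H := X ⊔ N0 with hH
  have hQH : (Q : Subgroup G) ≤ H := by
    have h1 : H.subgroupOf (Q : Subgroup G) ⊔ frattini (Q : Subgroup G) = ⊤ := by
      rw [eq_top_iff]
      intro g _
      obtain ⟨t, ht, n, hn, e⟩ := hdecG (g : G)
      obtain ⟨x, hx, s, hs, hsT, rfl⟩ := hdecT t ht
      obtain ⟨s', hs', e'⟩ := hKQ Q (Subgroup.mem_inf.2 ⟨hT hsT, hs⟩)
      have h2 : (⟨s, hs⟩ : (Q : Subgroup G))⁻¹ * g ∈ H.subgroupOf (Q : Subgroup G) := by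
        rw [Subgroup.mem_subgroupOf]
        show s⁻¹ * (g : G) ∈ H
        rw [e, show s⁻¹ * (x * s * n) = s⁻¹ * x * s * n by group]
        refine mul_mem (Subgroup.mem_sup_left ?_) (Subgroup.mem_sup_right hn)
        simpa using (inferInstance : X.Normal).conj_mem x hx s⁻¹
      obtain rfl : s' = (⟨s, hs⟩ : (Q : Subgroup G)) := Subtype.ext e'
      have h3 := mul_mem (Subgroup.mem_sup_right (S := H.subgroupOf (Q : Subgroup G)) hs')
        (Subgroup.mem_sup_left h2)
      rwa [mul_inv_cancel_left] at h3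
    have h2 := frattini_nongenerating h1
    exact Subgroup.subgroupOf_eq_top.1 h2
  have hHtop : X ⊔ N0 = ⊤ := by
    rw [eq_top_iff]
    intro g _
    obtain ⟨t, ht, n, hn, rfl⟩ := hdecG g
    obtain ⟨x, hx, s, hs, -, rfl⟩ := hdecT t ht
    exact mul_mem (mul_mem (Subgroup.mem_sup_left hx) (hQH hs)) (Subgroup.mem_sup_right hn)
  set Y := X ⊔ P0' with hY
  haveI hYn : Y.Normal := by
    rw [← Subgroup.normalizer_eq_top_iff, eq_top_iff, ← hHtop]
    refine sup_le (le_sup_left.trans Subgroup.le_normalizer) fun n hn => ?_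
    rw [Subgroup.mem_normalizer_iff]
    have hmapY : ∀ m ∈ N0, ∀ y ∈ Y, m * y * m⁻¹ ∈ Y := by
      intro m hm y hy
      have h1 : Y.map (MulAut.conj m).toMonoidHom ≤ Y := by
        rw [hY, Subgroup.map_sup]
        refine sup_le (le_trans ?_ le_sup_left) (le_trans ?_ le_sup_right)
        · rintro _ ⟨x, hx, rfl⟩; exact (inferInstance : X.Normal).conj_mem x hx m
        · rintro _ ⟨x, hx, rfl⟩; exact (Subgroup.mem_normalizer_iff.1 hm x).1 hx
      exact h1 ⟨y, hy, rfl⟩
    refine fun y => ⟨hmapY n hn y, fun hy => ?_⟩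
    have := hmapY n⁻¹ (inv_mem hn) _ hy
    simpa [mul_assoc] using this
  have hYq : (Nat.card Y).Coprime q := by
    rw [← PBasic.card_mul_relIndex (show X ≤ Y from le_sup_left), hY, Subgroup.relIndex_sup_left]
    obtain ⟨k, hk⟩ := IsPGroup.iff_card.1 hP0p
    refine Nat.Coprime.mul_left ((PBasic.pPrimeCore_coprime q G).coprime_dvd_left
      (Subgroup.card_dvd_of_le inf_le_right)) ?_
    exact Nat.Coprime.coprime_dvd_left ((Subgroup.relIndex_dvd_card X P0').trans (dvd_of_eq hk))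
      (((Nat.coprime_primes hp.out hq.out).2 hpq).pow_left k)
  have hP0K : P0' ≤ K := (le_sup_right.trans (PBasic.le_pPrimeCore hYn hYq)).trans hT'
  obtain ⟨P, hP⟩ := hP0p.exists_le_sylow
  haveI : Nontrivial (G ⧸ T) := by
    rw [← not_subsingleton_iff_nontrivial]
    intro hs
    have h1 : T = ⊤ := Subgroup.eq_top_iff' _ |>.2 fun x =>
      (QuotientGroup.eq_one_iff x).1 (Subsingleton.elim _ _)
    have h2 := PBasic.pPrimeCore_coprime p G
    rw [← hTdef, h1, Subgroup.card_top] at h2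
    exact hp.out.coprime_iff_not_dvd.1 h2.symm hdvd
  refine not_pCore_le_frattini (PSolvable.quotient T hps)
    (PBasic.pPrimeCore_quotient_pPrimeCore p G) (P.mapSurjective hsurj) ?_
  rw [← hmap]
  rintro _ ⟨a, ha, rfl⟩
  obtain ⟨a', ha', rfl⟩ := hKP P (Subgroup.mem_inf.2 ⟨hP0K ha, hP ha⟩)
  exact ⟨π.subgroupMap (P : Subgroup G) a',
    frattini_le_comap_frattini_of_surjective (π.subgroupMap_surjective (P : Subgroup G)) ha', rfl⟩

omit [Finite G] in
/-- A normal subgroup inside the kernels of the `r'`-degree characters of the principal block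
meets a Sylow `r`-subgroup inside its Frattini subgroup. -/
theorem meets_frattini [Fintype G] {r : ℕ} [hr : Fact r.Prime] (hrs : Cfsg.IsPSolvable r G)
    (M : Ideal Cfsg.AlgInt) (hM : Cfsg.IsPModular r M) (K : Subgroup G)
    (hK : ∀ χ : Cfsg.IrrCharacter G, χ ∈ Cfsg.principalBlock M G →
      ¬ r ∣ Cfsg.charDegree (χ : G → ℂ) → ∀ x ∈ K, (χ : G → ℂ) x = (χ : G → ℂ) 1)
    (P : Sylow r G) :
    K ⊓ (P : Subgroup G) ≤ (frattini (P : Subgroup G)).map (P : Subgroup G).subtype := by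
  classical
  haveI := hM.2.1.isPrime
  intro x hx
  obtain ⟨hxK, hxP⟩ := Subgroup.mem_inf.1 hx
  refine ⟨⟨x, hxP⟩, ?_, rfl⟩
  haveI := P.isPGroup'.isNilpotent
  apply SolvStruct.commutator_le_frattini ↥(P : Subgroup G)
  rw [← QuotientGroup.eq_one_iff]
  by_contra hne
  haveI : IsMulCommutative (↥(P : Subgroup G) ⧸ commutator ↥(P : Subgroup G)) :=
    Subgroup.Normal.quotient_commutative_iff_commutator_le.2 le_rfl
  obtain ⟨f, hf⟩ := CyclicTI.exists_hom_ne_one hne
  set T := Cfsg.pPrimeCore r G with hT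
  set π := QuotientGroup.mk' T with hπ
  have hsurj : Function.Surjective π := QuotientGroup.mk'_surjective T
  haveI : Fintype (G ⧸ T) := Fintype.ofFinite _
  set PQ := (P : Subgroup G).map π with hPQ
  haveI : Fintype PQ := Fintype.ofFinite _
  have hinj : Function.Injective (π.subgroupMap (P : Subgroup G)) := by
    rw [injective_iff_map_eq_one]
    intro a ha
    have h1 : (a : G) ∈ T ⊓ (P : Subgroup G) := Subgroup.mem_inf.2
      ⟨(QuotientGroup.eq_one_iff (a : G)).1 (congrArg Subtype.val ha), a.2⟩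
    rw [PBasic.inf_eq_bot_of_coprime (PBasic.pPrimeCore_coprime r G) P.isPGroup',
      Subgroup.mem_bot] at h1
    exact Subtype.ext h1
  let e := MulEquiv.ofBijective _ ⟨hinj, π.subgroupMap_surjective (P : Subgroup G)⟩
  let fb : PQ →* ℂˣ := (f.comp (QuotientGroup.mk' _)).comp e.symm.toMonoidHom
  have hind := isCharacter_indFun PQ (IsIrrCharacter.isCharacter (isIrrCharacter_linear fb))
  obtain ⟨m, hm⟩ := IsCharacter.exists_decomp hind
  have hidx : ¬ r ∣ PQ.index := fun h => P.not_dvd_index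
    (h.trans ((P : Subgroup G).index_map_dvd hsurj))
  obtain ⟨ψ, hψm, hψd⟩ : ∃ ψ, m ψ ≠ 0 ∧ ¬ r ∣ Cfsg.charDegree (ψ : G ⧸ T → ℂ) := by
    by_contra hcon
    push Not at hcon
    apply hidx
    have h1 := congrFun hm 1
    rw [indFun_one_apply] at h1
    simp only [map_one, Units.val_one, mul_one, Finset.sum_apply, Pi.smul_apply, smul_eq_mul,
      irr_deg] at h1
    rw [show PQ.index = ∑ ψ, m ψ * Cfsg.charDegree (ψ : G ⧸ T → ℂ) by exact_mod_cast h1]
    refine Finset.dvd_sum fun ψ _ => ?_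
    by_cases h0 : m ψ = 0
    · simp [h0]
    · exact dvd_mul_of_dvd_right (hcon ψ h0) _
  -- `ψ` lies in the principal block
  have hblock : infl T ψ ∈ Cfsg.principalBlock M G := by
    refine BrauerPairs.sameBlock_inflate T (principal (G ⧸ T)) ψ ?_
    exact sameBlock_of_centralizer_le hM (Cfsg.pCore r (G ⧸ T)) (PBasic.pCore_isPGroup r _)
      (PSolvable.centralizer_pCore_le (PSolvable.quotient T hrs)
        (PBasic.pPrimeCore_quotient_pPrimeCore r G)) _ _
  have hval : (ψ : G ⧸ T → ℂ) (π x) = (ψ : G ⧸ T → ℂ) 1 :=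
    hK (infl T ψ) hblock hψd x hxK
  obtain ⟨Z, -, hZ, hZmul⟩ := IsCharacter.exists_kernel (IsIrrCharacter.isCharacter ψ.2)
  set z : PQ := e ⟨x, hxP⟩ with hz
  have hzmul : ∀ a : PQ, (ψ : G ⧸ T → ℂ) ((z * a : PQ) : G ⧸ T) = (ψ : G ⧸ T → ℂ) (a : G ⧸ T) :=
    fun a => hZmul _ ((hZ _).2 hval) _
  have hc : Cfsg.classInner (fun a : PQ => (fb a : ℂ)) (fun a : PQ => (ψ : G ⧸ T → ℂ) a) = 0 := by
    have h1 : Cfsg.classInner (fun a : PQ => (fb a : ℂ)) (fun a : PQ => (ψ : G ⧸ T → ℂ) a) =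
        (fb z : ℂ) * Cfsg.classInner (fun a : PQ => (fb a : ℂ))
          (fun a : PQ => (ψ : G ⧸ T → ℂ) a) := by
      simp only [Cfsg.classInner, Finset.mul_sum]
      refine Eq.symm (Fintype.sum_equiv (Equiv.mulLeft z) _ _ fun a => ?_)
      simp only [Equiv.coe_mulLeft, hzmul, map_mul, Units.val_mul]
      ring
    have hfz : fb z = f (QuotientGroup.mk (⟨x, hxP⟩ : (P : Subgroup G))) := by
      show f (QuotientGroup.mk' _ (e.symm (e ⟨x, hxP⟩))) = _
      rw [e.symm_apply_apply]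
      rfl
    by_contra h0
    exact hf (Units.ext (hfz ▸ mul_right_cancel₀ h0 (by rw [Units.val_one, one_mul]; exact h1.symm)))
  rw [← classInner_indFun_left PQ _ (IsCharacter.isClassFunction (IsIrrCharacter.isCharacter ψ.2)),
    hm, classInner_combination, Nat.cast_eq_zero] at hc
  exact hψm hc

/-- Let p and q be primes dividing the order of the finite group G, and suppose G is p-solvable and q-solvable. Fix maximal ideals of the algebraic integers containing p and q, defining the principal p-block and the principal q-block. If the irreducible characters of degree prime to p in the principal p-block are exactly the irreducible characters of degree prime to q in the principal q-block, then p = q. -/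
theorem result {G : Type*} [Group G] [Finite G] (p q : ℕ) [Fact p.Prime] [Fact q.Prime] (hp : p ∣ Nat.card G) (hq : q ∣ Nat.card G) (hps : Cfsg.IsPSolvable p G) (hqs : Cfsg.IsPSolvable q G) (Mp Mq : Ideal Cfsg.AlgInt) (hMp : Cfsg.IsPModular p Mp) (hMq : Cfsg.IsPModular q Mq) (h : ∀ χ : Cfsg.IrrCharacter G, (χ ∈ Cfsg.principalBlock Mp G ∧ ¬ p ∣ Cfsg.charDegree (χ : G → ℂ)) ↔ (χ ∈ Cfsg.principalBlock Mq G ∧ ¬ q ∣ Cfsg.charDegree (χ : G → ℂ))) : p = q := by
  classical
  haveI := Fintype.ofFinite G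
  by_contra hpq
  haveI := hMp.2.1.isPrime
  haveI := hMq.2.1.isPrime
  choose ker hkern hker _ _ using fun χ : Cfsg.IrrCharacter G => exists_ker χ
  let S := {χ : Cfsg.IrrCharacter G //
    χ ∈ Cfsg.principalBlock Mp G ∧ ¬ p ∣ Cfsg.charDegree (χ : G → ℂ)}
  set K : Subgroup G := ⨅ χ : S, ker χ.1 with hK
  haveI : K.Normal := Subgroup.normal_iInf_normal fun χ => hkern _
  have hcore : ∀ (r : ℕ) [Fact r.Prime] (M : Ideal Cfsg.AlgInt), Cfsg.IsPModular r M →
      (∀ χ : S, χ.1 ∈ Cfsg.principalBlock M G) → Cfsg.pPrimeCore r G ≤ K := by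
    intro r _ M hM hmem
    haveI := hM.2.1.isPrime
    intro x hx
    refine Subgroup.mem_iInf.2 fun χ => (hker _ x).2 ?_
    exact trivialOn_of_sameBlock hM (Cfsg.pPrimeCore r G)
      ((Fact.out : r.Prime).coprime_iff_not_dvd.1 (PBasic.pPrimeCore_coprime r G).symm)
      (χ := principal G) (ψ := χ.1) (hmem χ) (fun _ _ => rfl) x hx
  refine core (p := p) (q := q) hpq hps hp K (hcore p Mp hMp fun χ => χ.2.1)
    (hcore q Mq hMq fun χ => ((h χ.1).1 χ.2).1) (fun P => ?_) (fun Q => ?_)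
  · exact meets_frattini hps Mp hMp K
      (fun χ h1 h2 x hx => (hker _ x).1 (Subgroup.mem_iInf.1 hx ⟨χ, h1, h2⟩)) P
  · exact meets_frattini hqs Mq hMq K
      (fun χ h1 h2 x hx => (hker _ x).1 (Subgroup.mem_iInf.1 hx ⟨χ, (h χ).2 ⟨h1, h2⟩⟩)) Q

end Cfsg.Agent.S4885
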