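import Cfsg.Statements.S4886
import Cfsg.Agent.Lib.Char.NavarroWolfPQ
import Cfsg.Agent.Lib.Blocks.KernelBlock
import Cfsg.Agent.Lib.Blocks.Constrained
import Cfsg.Agent.Lib.BrauerPairs.PrincipalNormSum
-- import your own Cfsg.Agent.* helpers here

set_option autoImplicit false
open Cfsg
open Cfsg.Agent.Blocks Cfsg.Agent.Char Cfsg.Agent.CharX

namespace Cfsg.Agent.S4886

universe u

variable {G : Type u} [Group G] [Finite G] {p q : ℕ} [hp : Fact p.Prime] [hq : Fact q.Prime]

/-- One direction: `q` is absent above the `p'`-core. -/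
theorem sylow_le_core (hpq : p ≠ q) (hps : Cfsg.IsPSolvable p G) (hqs : Cfsg.IsPSolvable q G)
    (M : Ideal Cfsg.AlgInt) (hM : Cfsg.IsPModular p M)
    (h : ∀ χ : Cfsg.IrrCharacter G, χ ∈ Cfsg.principalBlock M G →
      ¬ p ∣ Cfsg.charDegree (χ : G → ℂ) → ¬ q ∣ Cfsg.charDegree (χ : G → ℂ))
    (Q : Sylow q G) : (Q : Subgroup G) ≤ Cfsg.pPrimeCore p G := by
  classical
  haveI := hM.2.1.isPrime
  haveI := Fintype.ofFinite G
  set T := Cfsg.pPrimeCore p G with hT
  haveI : Fintype (G ⧸ T) := Fintype.ofFinite _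
  have hyp : NavarroWolfPQ.DegHyp p q (G ⧸ T) := by
    intro ψ hψ
    have hblock : infl T ψ ∈ Cfsg.principalBlock M G := by
      refine BrauerPairs.sameBlock_inflate T (principal (G ⧸ T)) ψ ?_
      exact sameBlock_of_centralizer_le hM (Cfsg.pCore p (G ⧸ T)) (PBasic.pCore_isPGroup p _)
        (PSolvable.centralizer_pCore_le (PSolvable.quotient T hps)
          (PBasic.pPrimeCore_quotient_pPrimeCore p G)) _ _
    have he : Cfsg.charDegree (infl T ψ : G → ℂ) = Cfsg.charDegree (ψ : G ⧸ T → ℂ) := by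
      apply Nat.cast_injective (R := ℂ)
      rw [← irr_deg (infl T ψ), ← irr_deg ψ, infl_apply]
      rfl
    rw [← he] at hψ ⊢
    exact h _ hblock hψ
  have hq' := NavarroWolfPQ.exists_minimal_step _ (G ⧸ T) rfl hpq (PSolvable.quotient T hps)
    (PSolvable.quotient T hqs) (PBasic.pPrimeCore_quotient_pPrimeCore p G) hyp
  intro x hx
  have hcop : (orderOf (x : G ⧸ T)).Coprime (Nat.card (G ⧸ T)) := by
    obtain ⟨k, hk⟩ := Q.isPGroup' ⟨x, hx⟩
    have h1 : (x : G ⧸ T) ^ q ^ k = 1 := by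
      rw [← QuotientGroup.mk_pow, show x ^ q ^ k = 1 from congrArg Subtype.val hk,
        QuotientGroup.mk_one]
    exact Nat.Coprime.coprime_dvd_left (orderOf_dvd_of_pow_eq_one h1)
      (((Nat.Prime.coprime_iff_not_dvd hq.out).2 hq').pow_left k)
  exact (QuotientGroup.eq_one_iff x).1
    (orderOf_eq_one_iff.1 (Nat.eq_one_of_dvd_coprimes hcop dvd_rfl (orderOf_dvd_natCard _)))

/-- The easy direction. -/
theorem not_dvd_of_commute (hpq : p ≠ q) (hps : Cfsg.IsPSolvable p G) (M : Ideal Cfsg.AlgInt)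
    (hM : Cfsg.IsPModular p M) (P : Sylow p G) (Q : Sylow q G)
    (hc : ∀ x ∈ (P : Subgroup G), ∀ y ∈ (Q : Subgroup G), x * y = y * x)
    (χ : Cfsg.IrrCharacter G) (hχ : χ ∈ Cfsg.principalBlock M G) :
    ¬ q ∣ Cfsg.charDegree (χ : G → ℂ) := by
  classical
  haveI := hM.2.1.isPrime
  haveI := Fintype.ofFinite G
  set T := Cfsg.pPrimeCore p G with hT
  set π := QuotientGroup.mk' T with hπ
  have hsurj : Function.Surjective π := QuotientGroup.mk'_surjective T
  have hQT : (Q : Subgroup G) ≤ T := by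
    intro y hy
    have h1 : π y ∈ Subgroup.centralizer (Cfsg.pCore p (G ⧸ T) : Set (G ⧸ T)) := by
      rw [Subgroup.mem_centralizer_iff]
      intro z hz
      have hz' := PBasic.pCore_le_sylow (P.mapSurjective hsurj) hz
      rw [Sylow.coe_mapSurjective] at hz'
      obtain ⟨x, hx, rfl⟩ := hz'
      rw [← map_mul, ← map_mul, hc x hx y hy]
    have h2 := PSolvable.centralizer_pCore_le (PSolvable.quotient T hps)
      (PBasic.pPrimeCore_quotient_pPrimeCore p G) h1
    obtain ⟨a, ha⟩ := PBasic.pCore_isPGroup p (G ⧸ T) ⟨π y, h2⟩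
    obtain ⟨b, hb⟩ := Q.isPGroup' ⟨y, hy⟩
    have h3 : orderOf (π y) ∣ p ^ a := orderOf_dvd_of_pow_eq_one (congrArg Subtype.val ha)
    have h4 : orderOf (π y) ∣ q ^ b := orderOf_dvd_of_pow_eq_one (by
      rw [← map_pow, show y ^ q ^ b = 1 from congrArg Subtype.val hb, map_one])
    exact (QuotientGroup.eq_one_iff y).1 (orderOf_eq_one_iff.1 (Nat.eq_one_of_dvd_coprimes
      (((Nat.coprime_primes hp.out hq.out).2 hpq).pow a b) h3 h4))
  obtain ⟨K, hKn, hK, -, hdvd⟩ := exists_ker χ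
  have hTK : T ≤ K := fun x hx => (hK x).2 (trivialOn_of_sameBlock hM T
    (hp.out.coprime_iff_not_dvd.1 (PBasic.pPrimeCore_coprime p G).symm)
    (χ := principal G) (ψ := χ) hχ (fun _ _ => rfl) x hx)
  exact fun h => Q.not_dvd_index
    (h.trans (hdvd.trans (Subgroup.index_dvd_of_le (hQT.trans hTK))))

/-- Let p ≠ q be primes and G a finite group that is p-solvable and q-solvable. Fix maximal ideals of the algebraic integers containing p and q, defining the principal p-block and the principal q-block. Then every irreducible character of degree prime to p in the principal p-block has degree prime to q and every irreducible character of degree prime to q in the principal q-block has degree prime to p, if and only if some Sylow p-subgroup of G commutes elementwise with some Sylow q-subgroup. -/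
theorem result {G : Type*} [Group G] [Finite G] (p q : ℕ) [Fact p.Prime] [Fact q.Prime] (hpq : p ≠ q) (Mp Mq : Ideal Cfsg.AlgInt) (hMp : Cfsg.IsPModular p Mp) (hMq : Cfsg.IsPModular q Mq) (hps : Cfsg.IsPSolvable p G) (hqs : Cfsg.IsPSolvable q G) : ((∀ χ : Cfsg.IrrCharacter G, χ ∈ Cfsg.principalBlock Mp G → ¬ p ∣ Cfsg.charDegree (χ : G → ℂ) → ¬ q ∣ Cfsg.charDegree (χ : G → ℂ)) ∧ (∀ χ : Cfsg.IrrCharacter G, χ ∈ Cfsg.principalBlock Mq G → ¬ q ∣ Cfsg.charDegree (χ : G → ℂ) → ¬ p ∣ Cfsg.charDegree (χ : G → ℂ))) ↔ ∃ (P : Sylow p G) (Q : Sylow q G), ∀ x ∈ (P : Subgroup G), ∀ y ∈ (Q : Subgroup G), x * y = y * x := by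
  classical
  constructor
  · rintro ⟨h1, h2⟩
    obtain ⟨Q⟩ : Nonempty (Sylow q G) := inferInstance
    set T := Cfsg.pPrimeCore p G with hT
    have hQT : (Q : Subgroup G) ≤ T := sylow_le_core hpq hps hqs Mp hMp h1 Q
    let Q1 : Sylow q T := Q.subtype hQT
    have hQ1 : (Q1 : Subgroup T).map T.subtype = (Q : Subgroup G) := by
      rw [Sylow.coe_subtype, Subgroup.map_subgroupOf_eq_of_le hQT]
    have htop := Sylow.normalizer_sup_eq_top Q1
    rw [hQ1] at htop
    set N := Subgroup.normalizer ((Q : Subgroup G) : Set G) with hN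
    have hNidx : ¬ p ∣ N.index := by
      have h3 := PBasic.relIndex_eq_relIndex_sup N T
      rw [sup_comm, htop, Subgroup.relIndex_top_right] at h3
      intro hd
      exact (Fact.out : p.Prime).coprime_iff_not_dvd.1 (PBasic.pPrimeCore_coprime p G).symm
        (hd.trans (h3 ▸ N.relIndex_dvd_card T))
    obtain ⟨P0⟩ : Nonempty (Sylow p N) := inferInstance
    have hidx : ¬ p ∣ ((P0 : Subgroup N).map N.subtype).index := by
      rw [Subgroup.index_map_subtype]
      exact fun hd => ((Fact.out : p.Prime).dvd_mul.1 hd).elim P0.not_dvd_index hNidx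
    let P : Sylow p G := (P0.isPGroup'.map N.subtype).toSylow hidx
    refine ⟨P, Q, fun x hx y hy => ?_⟩
    have hxN : x ∈ N := Subgroup.map_subtype_le _ hx
    have hxL : x ∈ Cfsg.pPrimeCore q G := sylow_le_core hpq.symm hqs hps Mq hMq h2 P hx
    have hmem : x * y * x⁻¹ * y⁻¹ ∈ Cfsg.pPrimeCore q G ⊓ (Q : Subgroup G) := by
      refine Subgroup.mem_inf.2 ⟨?_, mul_mem ((Subgroup.mem_normalizer_iff.1 hxN y).1 hy) (inv_mem hy)⟩
      rw [show x * y * x⁻¹ * y⁻¹ = x * (y * x⁻¹ * y⁻¹) by group]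
      exact mul_mem hxL ((inferInstance : (Cfsg.pPrimeCore q G).Normal).conj_mem _ (inv_mem hxL) y)
    rw [PBasic.inf_eq_bot_of_coprime (PBasic.pPrimeCore_coprime q G) Q.isPGroup',
      Subgroup.mem_bot] at hmem
    exact mul_inv_eq_iff_eq_mul.1 (mul_inv_eq_one.1 hmem)
  · rintro ⟨P, Q, hc⟩
    exact ⟨fun χ hχ _ => not_dvd_of_commute hpq hps Mp hMp P Q hc χ hχ,
      fun χ hχ _ => not_dvd_of_commute hpq.symm hqs Mq hMq Q P
        (fun x hx y hy => (hc y hy x hx).symm) χ hχ⟩

end Cfsg.Agent.S4886
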