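import Cfsg.Statements.S4888
import Cfsg.Agent.Lib.Blocks.RegularSum
import Cfsg.Agent.Lib.Char.ExtensionChar
import Cfsg.Agent.Lib.Char.Conjugate
-- import your own Cfsg.Agent.* helpers here

set_option autoImplicit false
open Cfsg

open Cfsg.Agent.Char Cfsg.Agent.CharX Cfsg.Agent.Blocks
open scoped ComplexConjugate

namespace Cfsg.Agent.S4888

/-- Let G be a finite group, p a prime and M a maximal ideal of the algebraic integers containing p. Then all height-zero irreducible characters of the principal p-block of G (equivalently, all its characters of degree prime to p) have the same degree if and only if G has a normal p-complement. -/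
theorem result {G : Type*} [Group G] [Finite G] (p : ℕ) [Fact p.Prime] (M : Ideal Cfsg.AlgInt) (hM : Cfsg.IsPModular p M) : (∃ d : ℕ, ∀ χ : Cfsg.IrrCharacter G, χ ∈ (Cfsg.principalBlock M G) → Cfsg.blockHeight p (Cfsg.principalBlock M G) (χ : G → ℂ) = 0 → Cfsg.charDegree (χ : G → ℂ) = d) ↔ Cfsg.HasNormalPComplement p G := by
  classical
  haveI := Fintype.ofFinite G
  haveI := IsPModular.isPrime hM
  have hp : p.Prime := Fact.out
  have hdeg1 : Cfsg.charDegree ((principal G : Cfsg.IrrCharacter G) : G → ℂ) = 1 := by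
    simp [principal, Cfsg.charDegree]
  have hht : ∀ χ : Cfsg.IrrCharacter G,
      Cfsg.blockHeight p (Cfsg.principalBlock M G) (χ : G → ℂ) = 0 ↔
        ¬ p ∣ Cfsg.charDegree (χ : G → ℂ) := by
    intro χ
    have h0 : sInf ((fun ψ : Cfsg.IrrCharacter G => (Cfsg.charDegree (ψ : G → ℂ)).factorization p) ''
        Cfsg.principalBlock M G) = 0 :=
      Nat.sInf_eq_zero.2 (Or.inl ⟨principal G, principal_mem_principalBlock,
        by simp [hdeg1]⟩)
    rw [Cfsg.blockHeight, h0, Nat.sub_zero, Nat.factorization_eq_zero_iff]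
    have := (irr_deg_pos χ).ne'
    tauto
  constructor
  · rintro ⟨d, hd⟩
    have hd1 : d = 1 := by
      rw [← hd _ principal_mem_principalBlock ((hht _).2 (by rw [hdeg1]; exact hp.not_dvd_one)), hdeg1]
    have hlin : ∀ χ : Cfsg.IrrCharacter G, χ ∈ Cfsg.principalBlock M G →
        ¬ p ∣ Cfsg.charDegree (χ : G → ℂ) → Cfsg.charDegree (χ : G → ℂ) = 1 :=
      fun χ h1 h2 => (hd χ h1 ((hht χ).2 h2)).trans hd1
    -- a minimal normal subgroup of `p`-power index
    have hex : ∃ m : ℕ, ∃ K : Subgroup G, K.Normal ∧ (∃ e, K.index = p ^ e) ∧ Nat.card K = m :=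
      ⟨_, ⊤, inferInstance, ⟨0, by simp⟩, rfl⟩
    obtain ⟨K, hKn, ⟨e, he⟩, hKm⟩ := Nat.find_spec hex
    haveI := hKn
    by_cases hpK : p ∣ Nat.card K
    swap
    · obtain ⟨P⟩ : Nonempty (Sylow p G) := inferInstance
      have hcardP : Nat.card (P : Subgroup G) = p ^ e := by
        rw [P.card_eq_multiplicity, ← K.index_mul_card,
          Nat.factorization_mul Subgroup.index_ne_zero_of_finite Nat.card_pos.ne', Finsupp.add_apply,
          he, hp.factorization_pow, Finsupp.single_eq_same,
          Nat.factorization_eq_zero_of_not_dvd hpK, add_zero]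
      refine ⟨P, K, hKn, Subgroup.isComplement'_of_coprime ?_ ?_⟩
      · rw [hcardP, ← he]; exact K.card_mul_index
      · rw [hcardP]; exact ((hp.coprime_iff_not_dvd.2 hpK).symm).pow_right e
    exfalso
    haveI := Fintype.ofFinite K
    obtain ⟨a, -⟩ : ∃ a : ℕ, a = (Nat.card K).factorization p := ⟨_, rfl⟩
    -- linear characters of `K` have order prime to `p`
    have hres : ∀ f : K →* ℂˣ, (∃ j, f ^ p ^ j = 1) → f = 1 := by
      let L : Subgroup K := ⨅ f : {f : K →* ℂˣ // ∃ j, f ^ p ^ j = 1}, f.1.ker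
      have hLn : (L.map K.subtype).Normal := by
        refine ⟨?_⟩
        rintro _ ⟨k, hk, rfl⟩ g
        refine ⟨conjHom K g k, ?_, rfl⟩
        simp only [L, SetLike.mem_coe, Subgroup.mem_iInf, MonoidHom.mem_ker] at hk ⊢
        rintro ⟨f, j, hj⟩
        refine hk ⟨f.comp (conjHom K g), j, ?_⟩
        ext k'
        have := DFunLike.congr_fun hj (conjHom K g k')
        simp only [MonoidHom.pow_apply, MonoidHom.one_apply, MonoidHom.comp_apply] at this ⊢
        rw [this]
      have hidx : ∃ e', (L.map K.subtype).index = p ^ e' := by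
        haveI : L.Normal := ⟨fun n hn g => by
          simp only [L, Subgroup.mem_iInf, MonoidHom.mem_ker] at hn ⊢
          intro f
          simp [hn f]⟩
        have hq : IsPGroup p (K ⧸ L) := by
          intro q
          obtain ⟨k, rfl⟩ := QuotientGroup.mk_surjective q
          refine ⟨(Nat.card K).factorization p, ?_⟩
          rw [← QuotientGroup.mk_pow, QuotientGroup.eq_one_iff]
          simp only [L, Subgroup.mem_iInf, MonoidHom.mem_ker]
          rintro ⟨f, j, hj⟩
          rw [map_pow, ← orderOf_dvd_iff_pow_eq_one]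
          have h1 : orderOf (f k) ∣ p ^ j := orderOf_dvd_of_pow_eq_one (by
            rw [← MonoidHom.pow_apply, hj, MonoidHom.one_apply])
          have h2 : orderOf (f k) ∣ Nat.card K :=
            (orderOf_map_dvd f k).trans (orderOf_dvd_natCard k)
          obtain ⟨i, -, hi⟩ := (Nat.dvd_prime_pow hp).1 h1
          rw [hi] at h2 ⊢
          exact pow_dvd_pow p ((hp.pow_dvd_iff_le_factorization Nat.card_pos.ne').1 h2)
        obtain ⟨e1, he1⟩ := IsPGroup.iff_card.1 hq
        exact ⟨e1 + e, by
          rw [Subgroup.index_map_subtype, Subgroup.index, he1, he, pow_add]⟩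
      have hmin := Nat.find_min' hex ⟨L.map K.subtype, hLn, hidx, rfl⟩
      rw [← hKm, Subgroup.card_map_of_injective K.subtype_injective] at hmin
      have hLtop : L = ⊤ := Subgroup.eq_top_of_le_card L hmin
      intro f hf
      ext k
      have hk : k ∈ L := hLtop ▸ Subgroup.mem_top k
      simp only [L, Subgroup.mem_iInf, MonoidHom.mem_ker] at hk
      rw [hk ⟨f, hf⟩, MonoidHom.one_apply]
    have hord : ∀ f : K →* ℂˣ, 0 < orderOf f ∧ ¬ p ∣ orderOf f := by
      intro f
      have hpow : f ^ Nat.card K = 1 := by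
        ext k
        rw [MonoidHom.pow_apply, ← map_pow, pow_card_eq_one', map_one, MonoidHom.one_apply]
      have hpos : 0 < orderOf f :=
        (isOfFinOrder_iff_pow_eq_one.2 ⟨_, Nat.card_pos, hpow⟩).orderOf_pos
      refine ⟨hpos, fun hd => ?_⟩
      have h := hres (f ^ (orderOf f / p)) ⟨1, MonoidHom.ext fun k => by
        rw [MonoidHom.pow_apply, MonoidHom.pow_apply, pow_one, ← pow_mul, Nat.div_mul_cancel hd,
          ← MonoidHom.pow_apply, pow_orderOf_eq_one]⟩
      exact absurd (Nat.le_of_dvd (Nat.div_pos (Nat.le_of_dvd hpos hd) hp.pos)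
        (orderOf_dvd_of_pow_eq_one h)) (not_le.2 (Nat.div_lt_self hpos hp.one_lt))
    -- the invariant characters of degree prime to `p` in the principal block of `K`
    obtain ⟨P⟩ : Nonempty (Sylow p G) := inferInstance
    have hPK : (P : Subgroup G) ⊔ K = ⊤ := by
      rw [← Subgroup.index_eq_one]
      have h1 : ((P : Subgroup G) ⊔ K).index ∣ p ^ e := he ▸ Subgroup.index_dvd_of_le le_sup_right
      obtain ⟨i, -, hi⟩ := (Nat.dvd_prime_pow hp).1 h1
      rcases i with _ | i
      · simpa using hi
      · exact absurd ((hi ▸ dvd_pow_self p (Nat.succ_ne_zero i)).trans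
          (Subgroup.index_dvd_of_le le_sup_left)) P.not_dvd_index
    letI : MulAction (P : Subgroup G) (Cfsg.IrrCharacter K) :=
      { smul := fun u ψ => ⟨conjChar K ((u : G)⁻¹) (ψ : K → ℂ), isIrrCharacter_conjChar K ψ.2 _⟩
        one_smul := fun ψ => Subtype.ext (by
          show conjChar K (((1 : (P : Subgroup G)) : G)⁻¹) (ψ : K → ℂ) = ψ
          rw [OneMemClass.coe_one, inv_one, conjChar_one])
        mul_smul := fun u v ψ => Subtype.ext (by
          show conjChar K (((u * v : (P : Subgroup G)) : G)⁻¹) (ψ : K → ℂ) =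
            conjChar K ((u : G)⁻¹) (conjChar K ((v : G)⁻¹) (ψ : K → ℂ))
          rw [Subgroup.coe_mul, mul_inv_rev, conjChar_mul]) }
    let T : Cfsg.IrrCharacter K → Prop := fun ψ =>
      ψ ∈ Cfsg.principalBlock M K ∧ ¬ p ∣ Cfsg.charDegree (ψ : K → ℂ)
    have hTinv : ∀ (g : G) (ψ ψ' : Cfsg.IrrCharacter K), (ψ' : K → ℂ) = conjChar K g (ψ : K → ℂ) →
        T ψ → T ψ' ∧ Cfsg.charDegree (ψ' : K → ℂ) = Cfsg.charDegree (ψ : K → ℂ) := by
      intro g ψ ψ' h hT
      have hd' : Cfsg.charDegree (ψ' : K → ℂ) = Cfsg.charDegree (ψ : K → ℂ) := by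
        unfold Cfsg.charDegree
        rw [h]
        show ⌊((ψ : K → ℂ) (conjHom K g 1)).re⌋₊ = _
        rw [map_one]
      refine ⟨⟨mem_principalBlock_comp (MulAut.conjNormal g : K ≃* K) hT.1 fun k => ?_, hd' ▸ hT.2⟩, hd'⟩
      rw [h]
      show (ψ : K → ℂ) _ = (ψ : K → ℂ) _
      congr 1
    obtain ⟨x, hx⟩ := exists_prime_orderOf_dvd_card' p hpK
    have hdvd := dvd_sum_over hM (isPBlock_principalBlock M K) (⊥ : Subgroup K) isIrrCharacter_one
      (fun ψ => Cfsg.charDegree (ψ : K → ℂ)) (fun ψ => by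
        rw [← irr_deg ψ, Cfsg.classInner, Nat.card_unique, Fintype.sum_unique]
        simp [Subgroup.mem_bot.1 (default : (⊥ : Subgroup K)).2])
      (x := x) ⟨1, by rw [hx, pow_one]⟩ (fun h => hp.ne_one (by
        rw [← hx, Subgroup.mem_bot.1 h, orderOf_one]))
    let F : Cfsg.IrrCharacter K → ZMod p := fun ψ =>
      if T ψ then ((Cfsg.charDegree (ψ : K → ℂ) * Cfsg.charDegree (ψ : K → ℂ) : ℕ) : ZMod p) else 0
    have hF : ∀ (u : (P : Subgroup G)) ψ, F (u • ψ) = F ψ := by
      intro u ψ
      simp only [F]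
      by_cases hT : T ψ
      · obtain ⟨h1, h2⟩ := hTinv ((u : G)⁻¹) ψ (u • ψ) rfl hT
        rw [if_pos h1, if_pos hT, h2]
      · rw [if_neg hT, if_neg]
        intro hT'
        exact hT (hTinv (u : G) (u • ψ) ψ (by
          show (ψ : K → ℂ) = conjChar K (u : G) (conjChar K ((u : G)⁻¹) (ψ : K → ℂ))
          rw [← conjChar_mul, inv_mul_cancel, conjChar_one]) hT').1
    have hsum0 : ∑ ψ, F ψ = 0 := by
      simp only [F]
      rw [← Finset.sum_filter, ← Nat.cast_sum, ZMod.natCast_eq_zero_iff]
      rw [← Finset.sum_filter_add_sum_filter_not _ T, Nat.dvd_add_left (Finset.dvd_sum fun ψ hψ => ?_)]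
        at hdvd
      · refine hdvd.trans (dvd_of_eq (Finset.sum_congr ?_ fun _ _ => rfl))
        ext ψ
        simp only [Finset.mem_filter, Finset.mem_univ, true_and, T]
        tauto
      · simp only [Finset.mem_filter, Finset.mem_univ, true_and, T, not_and, not_not] at hψ
        exact Dvd.dvd.mul_left (hψ.2 hψ.1) _
    -- all invariant members are linear
    have hfixlin : ∀ ψ, ψ ∈ MulAction.fixedPoints (P : Subgroup G) (Cfsg.IrrCharacter K) → T ψ →
        Cfsg.charDegree (ψ : K → ℂ) = 1 := by
      intro ψ hfix hT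
      have hinv : ∀ g : G, conjChar K g (ψ : K → ℂ) = ψ := by
        intro g
        have hle : (P : Subgroup G) ⊔ K ≤ inertia K (ψ : K → ℂ) := sup_le (fun u hu => by
            rw [← inv_inv u]
            exact (inertia K (ψ : K → ℂ)).inv_mem ((mem_inertia K).2 (congrArg Subtype.val (hfix ⟨u, hu⟩))))
          (le_inertia K (IsCharacter.isClassFunction (irr_isCharacter ψ)))
        rw [hPK] at hle
        exact (mem_inertia K).1 (hle (Subgroup.mem_top g))
      obtain ⟨dd, ρ, hρ, hρψ⟩ := ψ.2
      obtain ⟨hford, hfp⟩ := hord (CharExtend.detHom ρ)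
      have hfinv : ∀ (g : G) (n : K), CharExtend.detHom ρ (conjHom K g n) = CharExtend.detHom ρ n := by
        intro g n
        obtain ⟨E⟩ := nonempty_equiv_of_char_eq
          (ρ.comp (conjHom K g) : Representation ℂ K (Fin dd → ℂ)) ρ (funext fun k => by
            show ρ.character (conjHom K g k) = ρ.character k
            rw [hρψ]; exact congrFun (hinv g) k)
        exact Units.ext (CharExtend.det_eq_of_equiv E n).symm
      obtain ⟨μ, hμ, -⟩ := CharExtend.exists_linear_extension (CharExtend.detHom ρ) hfinv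
        (he ▸ ((hp.coprime_iff_not_dvd.2 hfp).pow_left e))
      obtain ⟨χ, hχ, hχψ⟩ := CharExtend.exists_extension_det ψ.2 (fun g n => congrFun (hinv g) n)
        (irr_deg ψ) (he ▸ ((hp.coprime_iff_not_dvd.2 hT.2).pow_left e)) μ (fun n => by
          rw [← hρψ, CharExtend.detChar_eq, hμ])
      have hdegeq : Cfsg.charDegree χ = Cfsg.charDegree (ψ : K → ℂ) := by
        have := hχψ 1
        unfold Cfsg.charDegree
        rw [← this, OneMemClass.coe_one]
      have hmem : (⟨χ, hχ⟩ : Cfsg.IrrCharacter G) ∈ Cfsg.principalBlock M G := by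
        by_contra hnot
        have h0 := sum_regular_eq_zero hM (χ := ⟨χ, hχ⟩) (ψ := principal G)
          (fun h => hnot (sameBlock_symm h))
        refine sum_regular_not_mem hM hT.1 hT.2 ?_
        have hK : ∀ g : G, ¬ p ∣ orderOf g → g ∈ K := by
          intro g hg
          have h1 : g ^ p ^ e ∈ K := he ▸ K.pow_index_mem g
          obtain ⟨j, hj⟩ := exists_pow_eq_self_of_coprime
            (((hp.coprime_iff_not_dvd.2 hg)).pow_left e)
          rw [← hj]
          exact K.pow_mem h1 j
        rw [show (∑ x ∈ Finset.univ.filter (fun x : K => ¬ p ∣ orderOf x), (ψ : K → ℂ) x) = 0 from ?_]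
        · exact memLocalIdeal_zero
        rw [← h0]
        refine Finset.sum_bij' (fun k _ => (k : G)) (fun g hg => ⟨g, hK g (Finset.mem_filter.1 hg).2⟩)
          ?_ ?_ ?_ ?_ ?_
        · intro k hk
          simpa [Subgroup.orderOf_coe] using hk
        · intro g hg
          refine Finset.mem_filter.2 ⟨Finset.mem_univ _, ?_⟩
          rw [← Subgroup.orderOf_coe]
          exact (Finset.mem_filter.1 hg).2
        · intros; rfl
        · intros; rfl
        · intro k _
          simp [principal, hχψ]
      rw [← hdegeq]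
      exact hlin ⟨χ, hχ⟩ hmem (hdegeq ▸ hT.2)
    -- they form a group of linear characters of order prime to `p`
    let S : Set (K →* ℂˣ) := {f | (⟨fun k => (f k : ℂ), isIrrCharacter_linear f⟩ : Cfsg.IrrCharacter K) ∈
      Cfsg.principalBlock M K ∧ ∀ (u : (P : Subgroup G)) (k : K), f (conjHom K ((u : G)⁻¹) k) = f k}
    let H : Submonoid (K →* ℂˣ) :=
      { carrier := S
        one_mem' := ⟨mem_principalBlock_iff.2 fun g => by
            simp only [MonoidHom.one_apply, Units.val_one, centralChar_one_fun, sub_self]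
            exact memLocalIdeal_zero, fun _ _ => rfl⟩
        mul_mem' := fun {f f'} hf hf' => ⟨mem_principalBlock_mul (by simp) hf.1 hf'.1 (fun k => by simp),
          fun u k => by rw [MonoidHom.mul_apply, MonoidHom.mul_apply, hf.2, hf'.2]⟩ }
    let H' : Subgroup (K →* ℂˣ) :=
      { H with
        inv_mem' := fun {f} hf => by
          have : f⁻¹ = f ^ (orderOf f - 1) := MonoidHom.ext fun k => by
            rw [MonoidHom.inv_apply, MonoidHom.pow_apply, inv_eq_iff_mul_eq_one, ← pow_succ',
              Nat.sub_add_cancel (hord f).1, ← MonoidHom.pow_apply, pow_orderOf_eq_one,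
              MonoidHom.one_apply]
          rw [this]
          exact H.pow_mem hf _ }
    let toI : (K →* ℂˣ) → Cfsg.IrrCharacter K := fun f => ⟨fun k => (f k : ℂ), isIrrCharacter_linear f⟩
    have htoI : Function.Injective toI := fun f f' h =>
      MonoidHom.ext fun k => Units.ext (congrFun (congrArg Subtype.val h) k)
    haveI : Finite H' := Finite.of_injective (fun f => toI f.1) (htoI.comp Subtype.val_injective)
    have hH : p ∣ Nat.card H' := by
      rw [sum_eq_sum_fixed P.isPGroup' F hF, ← Finset.sum_filter_ne_zero, Finset.filter_filter] at hsum0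
      rw [Finset.sum_congr rfl (fun ψ hψ => show F ψ = 1 by
        obtain ⟨-, hfix, hne⟩ := Finset.mem_filter.1 hψ
        have hT : T ψ := by by_contra h; exact hne (if_neg h)
        simp [F, if_pos hT, hfixlin ψ hfix hT]), Finset.sum_const, nsmul_one,
        ZMod.natCast_eq_zero_iff] at hsum0
      refine hsum0.trans (dvd_of_eq ?_)
      rw [← Nat.card_eq_finsetCard,
        ← Nat.card_range_of_injective (f := fun f : H' => toI f.1) (htoI.comp Subtype.val_injective)]
      refine Nat.card_congr (Equiv.subtypeEquivRight fun ψ => ⟨fun hψ => ?_, ?_⟩)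
      · obtain ⟨-, hfix, hne⟩ := Finset.mem_filter.1 hψ
        have hT : T ψ := by by_contra h; exact hne (if_neg h)
        obtain ⟨f, hf⟩ := exists_hom_of_degree_one (irr_isCharacter ψ)
          (by rw [irr_deg ψ, hfixlin ψ hfix hT, Nat.cast_one])
        have hψf : toI f = ψ := Subtype.ext hf.symm
        refine ⟨⟨f, ?_, fun u k => Units.ext ?_⟩, hψf⟩
        · show toI f ∈ _
          rw [hψf]; exact hT.1
        · have := congrFun (congrArg Subtype.val (hfix u)) k
          rw [← hψf] at this
          exact this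
      · rintro ⟨f, rfl⟩
        have hT : T (toI f.1) := ⟨f.2.1, by simp [toI, Cfsg.charDegree, hp.not_dvd_one]⟩
        refine Finset.mem_filter.2 ⟨Finset.mem_univ _, fun u => Subtype.ext (funext fun k => ?_), ?_⟩
        · exact congrArg Units.val (f.2.2 u k)
        · simp [F, if_pos hT, toI, Cfsg.charDegree]
    obtain ⟨f, hf⟩ := exists_prime_orderOf_dvd_card' p hH
    exact (hord f.1).2 (by rw [Subgroup.orderOf_coe, hf])
  · rintro ⟨P, K, hK, hcomp⟩
    refine ⟨1, fun χ hχ h0 => ?_⟩
    have hd := (hht χ).1 h0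
    haveI := hK
    haveI := Fintype.ofFinite K
    have hidx : K.index = Nat.card (P : Subgroup G) := hcomp.symm.index_eq_card
    obtain ⟨e, he⟩ := IsPGroup.iff_card.1 P.isPGroup'
    rw [he] at hidx
    have hKp : ¬ p ∣ Nat.card K := fun h => P.not_dvd_index (by rwa [hcomp.index_eq_card])
    have htriv : ∀ k ∈ K, (χ : G → ℂ) k = (χ : G → ℂ) 1 := by
      by_contra hne
      push Not at hne
      have h := sum_coset_eq_zero χ.2 K hne 1
      simp only [one_mul] at h
      refine sum_regular_not_mem hM hχ hd ?_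
      rw [show (∑ x ∈ Finset.univ.filter (fun x : G => ¬ p ∣ orderOf x), (χ : G → ℂ) x) = 0 from ?_]
      · exact memLocalIdeal_zero
      rw [← h]
      refine (Finset.sum_subtype _ (fun g => ?_) _)
      simp only [Finset.mem_filter, Finset.mem_univ, true_and]
      refine ⟨fun hg => ?_, fun hg hd' => hKp (hd'.trans (K.orderOf_dvd_natCard hg))⟩
      have h1 : g ^ p ^ e ∈ K := hidx ▸ K.pow_index_mem g
      obtain ⟨j, hj⟩ := exists_pow_eq_self_of_coprime (((hp.coprime_iff_not_dvd.2 hg)).pow_left e)
      rw [← hj]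
      exact K.pow_mem h1 j
    let χ' := (quotEquiv K).symm ⟨χ, htriv⟩
    have hχ' : ((infl K χ' : Cfsg.IrrCharacter G)) = χ :=
      congrArg Subtype.val ((quotEquiv K).apply_symm_apply ⟨χ, htriv⟩)
    have hdd : Cfsg.charDegree (χ' : G ⧸ K → ℂ) = Cfsg.charDegree (χ : G → ℂ) := by
      conv_rhs => rw [← hχ']
      simp [Cfsg.charDegree]
    have hdvd := irr_deg_dvd_card χ'
    rw [hdd, show Nat.card (G ⧸ K) = K.index from rfl, hidx] at hdvd
    obtain ⟨i, -, hi⟩ := (Nat.dvd_prime_pow hp).1 hdvd
    rcases i with _ | i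
    · simpa using hi
    · exact absurd (hi ▸ dvd_pow_self p (Nat.succ_ne_zero i)) hd

end Cfsg.Agent.S4888
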