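import Cfsg.Statements.S4889
import Cfsg.Agent.Lib.BrauerPairs.EqualDegreesInertia
import Cfsg.Agent.Lib.BrauerPairs.NilpotentMain
import Cfsg.Agent.Lib.Char.DegreeCenter

set_option autoImplicit false
open Cfsg

namespace Cfsg.Agent.S4889

/-- Let G be a finite group, p a prime, M a maximal ideal of the algebraic integers containing p, and B a p-block of G that has an abelian defect group and in which every irreducible character has height zero. Then all irreducible characters of B have the same degree if and only if B is a nilpotent block. -/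
theorem result {G : Type*} [Group G] [Finite G] (p : ℕ) [Fact p.Prime] (M : Ideal Cfsg.AlgInt) (hM : Cfsg.IsPModular p M) (B : Set (Cfsg.IrrCharacter G)) (hB : Cfsg.IsPBlock M B) (D : Subgroup G) (hD : Cfsg.IsDefectGroup p M B D) (hDab : IsMulCommutative ↥D) (h0 : ∀ χ : Cfsg.IrrCharacter G, χ ∈ B → Cfsg.blockHeight p B (χ : G → ℂ) = 0) : (∃ d : ℕ, ∀ χ : Cfsg.IrrCharacter G, χ ∈ B → Cfsg.charDegree (χ : G → ℂ) = d) ↔ Cfsg.IsNilpotentBlock p M B := by
  classical
  haveI : Fintype G := Fintype.ofFinite G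
  haveI : M.IsPrime := hM.2.1.isPrime
  haveI : CharP (Cfsg.Agent.Blocks.resField M) p := Cfsg.Agent.Blocks.resField_charP hM
  have hdef := (Cfsg.Agent.BrauerPairs.isDefectGroup_iff hB D).1 hD
  obtain ⟨e, he⟩ := Cfsg.Agent.BrauerPairs.exists_pairOf_defGrp
    (Cfsg.Agent.BrauerPairs.isBlk_Ek hB) hdef
  constructor
  · rintro ⟨f, hf⟩
    obtain ⟨eB, heB, rfl⟩ := Cfsg.Agent.BrauerPairs.exists_eq_zB
      (H := Subgroup.centralizer (D : Set G)) (z := e) he.pair.blkC
    have hab : D ≤ Subgroup.centralizer (D : Set G) := fun x hx =>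
      Subgroup.mem_centralizer_iff.2 fun y hy =>
        congrArg Subtype.val (hDab.is_comm.comm (⟨y, hy⟩ : D) ⟨x, hx⟩)
    have hmax : Cfsg.Agent.BrauerPairs.IsMax p (Cfsg.Agent.BrauerPairs.Ek M B)
        (D, Cfsg.Agent.BrauerPairs.zB M (Subgroup.centralizer (D : Set G)) eB) := ⟨he, hdef⟩
    rw [Cfsg.Agent.BrauerPairs.isNilpotentBlock_iff hM, and_iff_right hB,
      Cfsg.Agent.BrauerPairs.isNilB_iff_abelian hmax hab]
    exact Cfsg.Agent.EqualDeg.stabP_le hM hB hf heB hmax hab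
  · intro hnil
    obtain ⟨χ₀, -, -, Φ, -, -, hreg, hsurj⟩ :=
      Cfsg.Agent.NilpotentMain.exists_nilpotent_structure hM hnil (a := (D, e)) ⟨he, hdef⟩
    refine ⟨Cfsg.charDegree (χ₀ : G → ℂ), fun χ hχ => ?_⟩
    obtain ⟨θ, rfl⟩ := hsurj χ hχ
    have h1 := hreg θ 1 (by simp [hM.1.ne_one])
    rw [Cfsg.Agent.Char.degree_one_of_comm (fun a b => hDab.is_comm.comm a b) θ.2, one_mul] at h1
    exact Nat.cast_injective (R := ℂ) (by
      rw [← Cfsg.Agent.Blocks.irr_one_eq_charDegree, ← Cfsg.Agent.Blocks.irr_one_eq_charDegree, h1])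

end Cfsg.Agent.S4889
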