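import Cfsg.Statements.S4890
import Cfsg.Agent.Lib.BrauerPairs.NormalDefectNilpotent
import Cfsg.Agent.Lib.BrauerPairs.NilpotentMain

set_option autoImplicit false
open Cfsg

namespace Cfsg.Agent.S4890

/-- Let G be a finite group, p a prime, M a maximal ideal of the algebraic integers containing p, and B a p-block of G with a defect group that is normal in G. Then all height-zero irreducible characters of B have the same degree if and only if B is a nilpotent block. -/
theorem result {G : Type*} [Group G] [Finite G] (p : ℕ) [Fact p.Prime] (M : Ideal Cfsg.AlgInt) (hM : Cfsg.IsPModular p M) (B : Set (Cfsg.IrrCharacter G)) (hB : Cfsg.IsPBlock M B) (D : Subgroup G) (hD : Cfsg.IsDefectGroup p M B D) (hDn : D.Normal) : (∃ d : ℕ, ∀ χ : Cfsg.IrrCharacter G, χ ∈ B → Cfsg.blockHeight p B (χ : G → ℂ) = 0 → Cfsg.charDegree (χ : G → ℂ) = d) ↔ Cfsg.IsNilpotentBlock p M B := by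
  classical
  haveI : Fintype G := Fintype.ofFinite G
  haveI : M.IsPrime := hM.2.1.isPrime
  haveI : CharP (Cfsg.Agent.Blocks.resField M) p := Cfsg.Agent.Blocks.resField_charP hM
  haveI := hDn
  have hdef := (Cfsg.Agent.BrauerPairs.isDefectGroup_iff hB D).1 hD
  obtain ⟨e, he⟩ := Cfsg.Agent.BrauerPairs.exists_pairOf_defGrp
    (Cfsg.Agent.BrauerPairs.isBlk_Ek hB) hdef
  constructor
  · rintro ⟨f, hf⟩
    rw [Cfsg.Agent.BrauerPairs.isNilpotentBlock_iff hM, and_iff_right hB]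
    exact Cfsg.Agent.NormalDefect.isNilB_of_normal (a := (D, e)) ⟨he, hdef⟩ hDn
      fun y hy hyr => Cfsg.Agent.NormalDefect.regular_stab_centralizes hM hB hD hf he hy hyr
  · intro hnil
    obtain ⟨χ₀, hχ₀, h0, Φ, hΦB, -, hreg, hsurj⟩ :=
      Cfsg.Agent.NilpotentMain.exists_nilpotent_structure hM hnil (a := (D, e)) ⟨he, hdef⟩
    refine ⟨Cfsg.charDegree (χ₀ : G → ℂ), fun χ hχ hht => ?_⟩
    obtain ⟨θ, rfl⟩ := hsurj χ hχ
    have h1 := hreg θ 1 (by simp [hM.1.ne_one])
    have h2 := Cfsg.Agent.NilpotentMain.height_eq hM hB hχ₀ (hΦB θ) h0 h1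
    rw [hht] at h2
    obtain ⟨j, hj⟩ := IsPGroup.iff_card.1 (hdef.pgroup)
    obtain ⟨i, -, hi⟩ := (Nat.dvd_prime_pow hM.1).1
      (hj ▸ Cfsg.Agent.CharX.irr_deg_dvd_card θ)
    rw [hi, hM.1.factorization_pow, Finsupp.single_eq_same] at h2
    rw [← h2, pow_zero] at hi
    rw [Cfsg.Agent.Blocks.irr_one_eq_charDegree θ, hi, Nat.cast_one, one_mul] at h1
    exact Nat.cast_injective (R := ℂ) (by
      rw [← Cfsg.Agent.Blocks.irr_one_eq_charDegree, ← Cfsg.Agent.Blocks.irr_one_eq_charDegree, h1])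

end Cfsg.Agent.S4890
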