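import Cfsg.Statements.S4892
import Cfsg.Agent.Lib.Blocks.GoodExtension
open Cfsg.Agent.Char Cfsg.Agent.CharX Cfsg.Agent.Blocks Cfsg.Agent.CharExtend Cfsg.Agent.DetComp Cfsg.Agent.GoodExt
-- import your own Cfsg.Agent.* helpers here

set_option autoImplicit false
open Cfsg

namespace Cfsg.Agent.S4892

/-- A `p`-rational character has determinantal order prime to `p` when `p` is odd. -/
theorem not_dvd_detOrder {A : Type*} [Group A] [Finite A] {p m : ℕ} (hp : p.Prime) (hp2 : p ≠ 2)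
    (hm : ¬ p ∣ m) {χ : A → ℂ} (hχ : Cfsg.IsCharacter A χ)
    (hrat : ∀ a, χ a ∈ IntermediateField.adjoin ℚ
      ({Complex.exp (2 * Real.pi * Complex.I / m)} : Set ℂ)) :
    ¬ p ∣ Cfsg.detOrder χ := by
  obtain ⟨n, ρ, rfl⟩ := hχ
  rw [detOrder_eq]
  intro hd
  have hm0 : m ≠ 0 := fun e => hm (e ▸ dvd_zero p)
  set f := detHom ρ
  obtain ⟨o, ho⟩ := hd
  obtain ⟨g, hg⟩ : ∃ g, f g ^ o ≠ 1 := by
    by_contra hall
    push Not at hall
    have h1 : orderOf f ∣ o := orderOf_dvd_of_pow_eq_one (MonoidHom.ext fun g => by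
      rw [MonoidHom.pow_apply, hall g, MonoidHom.one_apply])
    have h2 := orderOf_detHom_ne_zero ρ
    rw [ho] at h1
    have h3 := Nat.le_of_dvd (Nat.pos_of_ne_zero fun e => by
      apply h2; show orderOf f = 0; rw [ho, e, mul_zero]) h1
    have h4 : 0 < o := Nat.pos_of_ne_zero fun e => by
      apply h2; show orderOf f = 0; rw [ho, e, mul_zero]
    nlinarith [hp.two_le]
  apply hg
  have hz : ((f g ^ o : ℂˣ) : ℂ) ^ p = 1 := by
    rw [← Units.val_pow_eq_pow_val, ← pow_mul, mul_comm, ← ho, ← MonoidHom.pow_apply,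
      pow_orderOf_eq_one, MonoidHom.one_apply, Units.val_one]
  obtain ⟨k, hk1, hk2⟩ := Nat.chineseRemainder ((hp.coprime_iff_not_dvd).2 hm) 2 1
  have hcop : k.Coprime (p * m) := by
    refine Nat.Coprime.mul_right ?_ ?_
    · rw [Nat.coprime_comm, hp.coprime_iff_not_dvd]
      intro h
      have := (Nat.modEq_zero_iff_dvd.2 h).symm.trans hk1
      have h2 := Nat.le_of_dvd two_pos (Nat.modEq_zero_iff_dvd.1 this.symm)
      exact hp2 (le_antisymm h2 hp.two_le)
    · rw [Nat.coprime_iff_gcd_eq_one, hk2.gcd_eq]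
      exact Nat.gcd_one_left m
  obtain ⟨σ, hσ⟩ := CharGalois.exists_galoisAut (mul_ne_zero hp.ne_zero hm0) hcop
  have hζ := Complex.isPrimitiveRoot_exp m hm0
  have hfix : σ (Complex.exp (2 * Real.pi * Complex.I / m)) =
      Complex.exp (2 * Real.pi * Complex.I / m) := by
    rw [hσ _ (by rw [mul_comm p m, pow_mul, hζ.pow_eq_one, one_pow])]
    conv_rhs => rw [← pow_one (Complex.exp _)]
    rw [pow_eq_pow_mod k hζ.pow_eq_one, pow_eq_pow_mod 1 hζ.pow_eq_one, hk2]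
  have hsame : detHom (CharGalois.twistRep σ ρ) = detHom ρ := detHom_eq_of_char _ _ (funext fun a =>
    (CharGalois.character_twistRep σ ρ a).trans (fixed_of_mem_adjoin σ hfix (hrat a)))
  have hdet : σ (f g : ℂ) = (f g : ℂ) :=
    (det_twistRep σ ρ g).symm.trans (congrArg Units.val (DFunLike.congr_fun hsame g))
  have h2 : ((f g ^ o : ℂˣ) : ℂ) ^ 2 = ((f g ^ o : ℂˣ) : ℂ) := by
    have e : σ ((f g ^ o : ℂˣ) : ℂ) = ((f g ^ o : ℂˣ) : ℂ) := by
      rw [Units.val_pow_eq_pow_val, map_pow, hdet]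
    rw [hσ _ (by rw [pow_mul, hz, one_pow])] at e
    conv_rhs => rw [← e]
    rw [pow_eq_pow_mod k hz, pow_eq_pow_mod 2 hz, hk1]
  rw [sq] at h2
  exact Units.ext ((mul_eq_left₀ (Units.ne_zero _)).1 h2)

/-- Let p be an odd prime, M a maximal ideal of the algebraic integers containing p, N a normal subgroup of the finite group G, and θ an irreducible character of N that is G-invariant, of degree prime to p, p-rational (values in the field generated over ℚ by a root of unity of order prime to p) and lies in the principal p-block of N. Let Q be a Sylow p-subgroup of N and suppose the index of N·C_G(Q) in G is a power of p. Then θ extends to a p-rational irreducible character of G lying in the principal p-block of G. -/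
theorem result {G : Type*} [Group G] [Finite G] (p : ℕ) [Fact p.Prime] (hp : p ≠ 2) (M : Ideal Cfsg.AlgInt) (hM : Cfsg.IsPModular p M) (N : Subgroup G) [N.Normal] (θ : Cfsg.IrrCharacter ↥N) (hinv : ∀ g : G, ∀ n n' : ↥N, (n' : G) = g * (n : G) * g⁻¹ → (θ : ↥N → ℂ) n' = (θ : ↥N → ℂ) n) (hdeg : ¬ p ∣ Cfsg.charDegree (θ : ↥N → ℂ)) (hrat : ∃ m : ℕ, ¬ p ∣ m ∧ ∀ n : ↥N, (θ : ↥N → ℂ) n ∈ IntermediateField.adjoin ℚ ({Complex.exp (2 * Real.pi * Complex.I / m)} : Set ℂ)) (hB : θ ∈ Cfsg.principalBlock M ↥N) (Q : Sylow p ↥N) (hidx : ∃ a : ℕ, (N ⊔ Subgroup.centralizer (((Q : Subgroup ↥N).map N.subtype : Subgroup G) : Set G)).index = p ^ a) : ∃ χ : Cfsg.IrrCharacter G, χ ∈ (Cfsg.principalBlock M G) ∧ (∃ n : ℕ, ¬ p ∣ n ∧ ∀ g : G, (χ : G → ℂ) g ∈ IntermediateField.adjoin ℚ ({Complex.exp (2 * Real.pi * Complex.I / n)} : Set ℂ)) ∧ ∀ n : ↥N, (χ : G → ℂ) n = (θ : ↥N → ℂ) n := by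
  classical
  have hp' : p.Prime := hM.1
  haveI := IsPModular.isPrime hM
  haveI := Fintype.ofFinite G
  obtain ⟨m, hm, hm2⟩ := hrat
  have hm0 : m ≠ 0 := fun e => hm (e ▸ dvd_zero p)
  let θ' : G → ℂ := fun g => if h : g ∈ N then (θ : ↥N → ℂ) ⟨g, h⟩ else 0
  have hθ' : (fun n : ↥N => θ' n) = (θ : ↥N → ℂ) := funext fun n => dif_pos n.2
  set Q' : Subgroup G := (Q : Subgroup ↥N).map N.subtype with hQ'
  set C := Subgroup.centralizer (Q' : Set G) with hC
  have hθ1 : (θ : ↥N → ℂ) 1 = Cfsg.charDegree (θ : ↥N → ℂ) := irr_deg θ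
  have hyp : Hyp p M N Q' C θ' := by
    refine ⟨inferInstance, Subgroup.map_subtype_le _, Q.isPGroup'.map _, ?_, le_rfl, ?_, ?_, ?_, ?_,
      fun g n hn => ?_⟩
    · rw [hQ', Subgroup.relIndex, Subgroup.subgroupOf,
        Subgroup.comap_map_eq_self_of_injective N.subtype_injective]
      exact Q.not_dvd_index
    · rw [hθ']; exact θ.2
    · intro n; rw [hθ']; exact hB n
    · exact ⟨Cfsg.charDegree (θ : ↥N → ℂ), by rw [← hθ1, ← hθ']; rfl, hdeg⟩
    · rw [hθ']; exact not_dvd_detOrder hp' hp hm (IsIrrCharacter.isCharacter θ.2) hm2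
    · have hgn : g * n * g⁻¹ ∈ N := Subgroup.Normal.conj_mem inferInstance n hn g
      simp only [θ', dif_pos hn, dif_pos hgn]
      exact hinv g ⟨n, hn⟩ ⟨_, hgn⟩ rfl
  have hnorm : ∀ x : G, ∃ n ∈ N, ∃ k : G, x = n * k ∧ ∀ y ∈ C, k * y * k⁻¹ ∈ C := by
    intro x
    obtain ⟨n, hn, k, hk, hnk⟩ := Subgroup.mem_sup_of_normal_left.1
      (show x ∈ N ⊔ Subgroup.normalizer ((Q : Subgroup ↥N).map N.subtype : Set G) by
        rw [sup_comm, Sylow.normalizer_sup_eq_top]; trivial)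
    refine ⟨n, hn, k, hnk.symm, fun y hy => ?_⟩
    rw [hC, Subgroup.mem_centralizer_iff] at hy ⊢
    intro q hq
    have hq' : k⁻¹ * q * k ∈ Q' := (Subgroup.mem_normalizer_iff.1 hk _).2 (by
      rw [show k * (k⁻¹ * q * k) * k⁻¹ = q by group]; exact hq)
    calc q * (k * y * k⁻¹) = k * (k⁻¹ * q * k * y) * k⁻¹ := by group
      _ = k * (y * (k⁻¹ * q * k)) * k⁻¹ := by rw [hy _ hq']
      _ = k * y * k⁻¹ * q := by group
  haveI hHn : (N ⊔ C).Normal := ⟨fun h hh x => by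
    obtain ⟨a, ha, c, hc, rfl⟩ := Subgroup.mem_sup_of_normal_left.1 hh
    obtain ⟨n, hn, k, rfl, hk⟩ := hnorm x
    rw [show n * k * (a * c) * (n * k)⁻¹ = n * k * a * (n * k)⁻¹ * (n * (k * c * k⁻¹) * n⁻¹) by group]
    exact mul_mem (Subgroup.mem_sup_left (Subgroup.Normal.conj_mem inferInstance a ha _))
      (mul_mem (mul_mem (Subgroup.mem_sup_left hn) (Subgroup.mem_sup_right (hk c hc)))
        (inv_mem (Subgroup.mem_sup_left hn)))⟩
  obtain ⟨χ, hχ⟩ := exists_nice hM hyp hidx hnorm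
  have hirr := hyp.isIrr hχ.char hχ.res
  refine ⟨⟨χ, hirr⟩, fun g => ?_, ?_, fun n => (hχ.res n n.2).trans (congrFun hθ' n)⟩
  · obtain ⟨d, hd, hpd⟩ := hyp.deg
    exact mem_principal_of_good hM (Q.isPGroup'.map _) hχ.char
      ((hχ.res 1 N.one_mem).trans hd) hpd hχ.good g
  set s := Nat.card G / p ^ (Nat.card G).factorization p with hs
  have hsp : ¬ p ∣ s := Nat.not_dvd_ordCompl hp' Nat.card_pos.ne'
  have hn0 : m * s ≠ 0 := mul_ne_zero hm0 (Nat.ordCompl_pos p Nat.card_pos.ne').ne'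
  refine ⟨m * s, fun h => ((hp'.dvd_mul).1 h).elim hm hsp, fun g => ?_⟩
  have hζ := Complex.isPrimitiveRoot_exp (m * s) hn0
  obtain ⟨d, ρ, hρc⟩ := hχ.char
  refine mem_adjoin_of_fixed ((hζ.isIntegral (Nat.pos_of_ne_zero hn0)).tower_top).isAlgebraic
    ((hρc ▸ isIntegral_char ρ g : IsIntegral ℤ (χ g)).tower_top).isAlgebraic fun σ hσ => ?_
  have hroot : ∀ z : ℂ, z ^ (m * s) = 1 → σ z = z := fun z hz => by
    haveI : NeZero (m * s) := ⟨hn0⟩
    obtain ⟨i, -, rfl⟩ := hζ.eq_pow_of_pow_eq_one hz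
    rw [map_pow, hσ]
  obtain ⟨a, ha⟩ := hidx
  refine congrFun (Nice.unique hM hyp ⟨a, fun x => ha ▸ Subgroup.pow_index_mem _ x⟩
    (?_ : Nice p M N C θ' fun x => σ (χ x)) hχ) g
  refine ⟨⟨_, CharGalois.twistRep σ ρ, funext fun x => by
    rw [CharGalois.character_twistRep, hρc]⟩, fun n hn => ?_, fun y hy hreg => ?_, ?_⟩
  · rw [hχ.res n hn, show θ' n = (θ : ↥N → ℂ) ⟨n, hn⟩ from dif_pos hn]
    refine fixed_of_mem_adjoin σ (hroot _ ?_) (hm2 _)
    rw [pow_mul, (Complex.isPrimitiveRoot_exp m hm0).pow_eq_one, one_pow]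
  · have hval : ∀ x : G, ¬ p ∣ orderOf x → σ (χ x) = χ x := fun x hx => by
      obtain ⟨L, -, hL, hsum, -⟩ := exists_eigenvalues ρ x
      have h := hsum 1
      simp only [pow_one, Multiset.map_id'] at h
      rw [← hρc, h, map_multiset_sum]
      refine congrArg Multiset.sum
        ((Multiset.map_congr rfl fun z hz => hroot z ?_).trans (Multiset.map_id' L))
      refine orderOf_dvd_iff_pow_eq_one.1 (((orderOf_dvd_of_pow_eq_one (hL z hz)).trans ?_).trans
        (dvd_mul_left s m))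
      exact ((Nat.Coprime.pow_right _ ((hp'.coprime_iff_not_dvd).2 hx).symm).dvd_of_dvd_mul_left
        (by rw [hs, Nat.ordProj_mul_ordCompl_eq_self]; exact orderOf_dvd_natCard x))
    show Cfsg.MemLocalIdeal M (σ (χ y) - σ (χ 1))
    rw [hval y hreg, hval 1 (by rw [orderOf_one]; exact hp'.not_dvd_one)]
    exact hχ.good y hy hreg
  · rw [detOrder_galois σ hχ.char]
    exact hχ.det

end Cfsg.Agent.S4892
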