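import Cfsg.Statements.S4903
import Cfsg.Agent.Lib.SmallDeg16.Primes
import Cfsg.Agent.Lib.SmallDeg16.Quotient

set_option autoImplicit false
open Cfsg

namespace Cfsg.Agent.S4903

/-- Let G be a finite group with a faithful irreducible complex character of degree 16, p a prime with p ≥ 19, and P a Sylow p-subgroup of G. Then P is normal in G, or p = 31 and the quotient of G by its centre is isomorphic to PSL(2,31). -/
theorem result {G : Type*} [Group G] [Finite G] (χ : Cfsg.IrrCharacter G) (hdeg : Cfsg.charDegree (χ : G → ℂ) = 16) (hfaith : ∀ g : G, (χ : G → ℂ) g = (χ : G → ℂ) 1 → g = 1) (p : ℕ) [Fact p.Prime] (hp : 19 ≤ p) (P : Sylow p G) : (P : Subgroup G).Normal ∨ (p = 31 ∧ Nonempty (G ⧸ Subgroup.center G ≃* Matrix.ProjectiveSpecialLinearGroup (Fin 2) (ZMod 31))) := by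
  by_cases hP : (P : Subgroup G).Normal
  · exact Or.inl hP
  right
  obtain ⟨ρ, hρ, -, -, L, hLn, hcore, hirr⟩ := SmallDeg16.exists_core χ hdeg hfaith hp P hP
  haveI := hLn
  haveI : Fintype L := Fintype.ofFinite L
  haveI := hirr
  have hinj : Function.Injective
      (MonoidHom.comp ρ L.subtype : Representation ℂ L (Fin 16 → ℂ)) := hρ.comp L.subtype_injective
  have hpr := SmallDeg16.prime_dvd_cases hcore _ hinj
  rcases SmallDeg16.core_prime_cases hcore _ hinj with h19 | h31
  · subst h19
    exact (SmallDeg16.absurd_nineteen hcore hpr _ hinj).elim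
  · subst h31
    refine ⟨rfl, ?_⟩
    obtain ⟨e⟩ := SmallDeg16.psl_thirtyone _ L rfl hcore (fun h => by
      rcases hpr 23 (by norm_num) (by norm_num) h with h' | h' <;> omega) _ hirr hinj
    exact SmallDeg16.quotient_of_core (by norm_num) ρ hρ L hcore hirr e

end Cfsg.Agent.S4903
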