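import Cfsg.Statements.S4904
import Cfsg.Agent.Lib.Feit.Large
import Cfsg.Agent.Lib.Feit.SmallPrimes

set_option autoImplicit false
open Cfsg

namespace Cfsg.Agent.S4904

/-- Let G be a finite group with a faithful irreducible complex character of degree d < 27, and p a prime with p > d + 1 and P a Sylow p-subgroup of G. Then one of the following holds: P is normal in G; the quotient of G by its centre is isomorphic to PSL(2,p) and 2d = p + 1 or 2d = p − 1; p = 17, d = 15 and G is isomorphic to the direct product of SL(2,16) with an abelian group; p = 7, d = 4 and G modulo its centre is the alternating group of degree 7; p = 5, d = 3 and G modulo its centre is the alternating group of degree 6. -/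
theorem result {G : Type*} [Group G] [Finite G] (d : ℕ) (hd : d < 27) (χ : Cfsg.IrrCharacter G) (hdeg : Cfsg.charDegree (χ : G → ℂ) = d) (hfaith : ∀ g : G, (χ : G → ℂ) g = (χ : G → ℂ) 1 → g = 1) (p : ℕ) [Fact p.Prime] (hp : d + 1 < p) (P : Sylow p G) : (P : Subgroup G).Normal ∨ (Nonempty (G ⧸ Subgroup.center G ≃* Matrix.ProjectiveSpecialLinearGroup (Fin 2) (ZMod p)) ∧ (2 * d = p + 1 ∨ 2 * d = p - 1)) ∨ (p = 17 ∧ d = 15 ∧ ∃ (A : Type) (_ : CommGroup A) (_ : Finite A), Nonempty (G ≃* Matrix.SpecialLinearGroup (Fin 2) (GaloisField 2 4) × A)) ∨ (p = 7 ∧ d = 4 ∧ Nonempty (G ⧸ Subgroup.center G ≃* ↥(alternatingGroup (Fin 7)))) ∨ (p = 5 ∧ d = 3 ∧ Nonempty (G ⧸ Subgroup.center G ≃* ↥(alternatingGroup (Fin 6)))) := by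
  haveI : Fintype G := Fintype.ofFinite G
  have hpp : p.Prime := Fact.out
  rcases (show p ≤ 3 ∨ (5 ≤ p ∧ p ≤ 7) ∨ 11 ≤ p by
    by_contra h
    push Not at h
    obtain ⟨h1, h2, h3⟩ := h
    interval_cases p <;> norm_num at hpp <;> omega) with h3 | h57 | h11
  · -- linear: `G` is abelian
    refine Or.inl ?_
    obtain ⟨n, ρ, hirr, hχ⟩ := id χ.2
    have hn : n = d := by
      rw [charDegree, ← hχ, Representation.char_one, Module.finrank_fin_fun] at hdeg
      simpa using hdeg
    haveI := hirr
    haveI : Nontrivial (Fin n → ℂ) := Cfsg.Agent.Char.nontrivial_of_irreducible ρ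
    have hn0 : 0 < n := by
      have := Module.finrank_pos (R := ℂ) (M := Fin n → ℂ)
      rwa [Module.finrank_fin_fun] at this
    obtain rfl : n = 1 := by omega
    have hinj : Function.Injective ρ := fun a b h => by
      have h1 : ρ (a⁻¹ * b) = LinearMap.id := by
        rw [map_mul, ← h, ← map_mul, inv_mul_cancel, map_one]; rfl
      refine inv_mul_eq_one.1 (hfaith _ ?_)
      rw [← hχ, Representation.char_one]
      exact (Cfsg.Agent.Char.char_eq_degree_iff ρ _).2 h1
    refine ⟨fun x hx g => ?_⟩
    have hcomm : g * x = x * g := hinj (by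
      rw [map_mul, map_mul]
      refine LinearMap.ext fun v => ?_
      have hs : ∀ (f : Module.End ℂ (Fin 1 → ℂ)) (w : Fin 1 → ℂ),
          f w = (f (fun _ => 1) 0) • w := fun f w => by
        have hw : w = (w 0) • (fun _ => (1 : ℂ)) := funext fun i => by
          rw [Subsingleton.elim i 0]; simp
        funext i
        rw [Subsingleton.elim i 0]
        conv_lhs => rw [hw, map_smul]
        simp [mul_comm]
      rw [Module.End.mul_apply, Module.End.mul_apply, hs (ρ g) v, hs (ρ x) v, map_smul, map_smul,
        hs (ρ g) v, hs (ρ x) v, smul_comm])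
    rwa [hcomm, mul_inv_cancel_right]
  · exact Cfsg.Agent.Feit.small_primes d χ hdeg hfaith p hp h57.2 P
  · rcases Cfsg.Agent.Feit.large_primes d hd χ hdeg hfaith p hp h11 P with h | h | h
    · exact Or.inl h
    · exact Or.inr (Or.inl h)
    · exact Or.inr (Or.inr (Or.inl h))

end Cfsg.Agent.S4904
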