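import Cfsg.Statements.S4911
import Cfsg.Agent.Lib.Char.GlaubermanMod
import Cfsg.Agent.Lib.Char.RealClasses
import Mathlib.Tactic.Group
-- import your own Cfsg.Agent.* helpers here

set_option autoImplicit false
open Cfsg

open Cfsg.Agent Cfsg.Agent.Char
open scoped ComplexConjugate

namespace Cfsg.Agent.S4911

/-- Let P and K be subgroups of a finite group with P a p-group normalizing K and K of order prime to p. Then the number of P-invariant real-valued irreducible complex characters of K equals the number of conjugacy classes of K that are real (closed under inversion) and P-invariant. Moreover, if every real-valued irreducible character of K is P-invariant, then every real element of K (one conjugate in K to its inverse) is conjugate in K to an element centralized by P. -/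
theorem result {G : Type*} [Group G] [Finite G] (p : ℕ) [Fact p.Prime] (P K : Subgroup G) (hP : IsPGroup p ↥P) (hK : ¬ p ∣ Nat.card ↥K) (hPK : P ≤ Subgroup.normalizer (K : Set G)) : Nat.card {θ : Cfsg.IrrCharacter ↥K // (∀ k : ↥K, ((θ : ↥K → ℂ) k).im = 0) ∧ (∀ x ∈ P, ∀ k k' : ↥K, (k' : G) = x * (k : G) * x⁻¹ → (θ : ↥K → ℂ) k' = (θ : ↥K → ℂ) k)} = Nat.card {c : ConjClasses ↥K // (∀ k : ↥K, ConjClasses.mk k = c → IsConj k k⁻¹) ∧ ∀ k : ↥K, ConjClasses.mk k = c → ∀ x ∈ P, ∀ k' : ↥K, (k' : G) = x * (k : G) * x⁻¹ → ConjClasses.mk k' = c} ∧ ((∀ θ : Cfsg.IrrCharacter ↥K, (∀ k : ↥K, ((θ : ↥K → ℂ) k).im = 0) → (∀ x ∈ P, ∀ k k' : ↥K, (k' : G) = x * (k : G) * x⁻¹ → (θ : ↥K → ℂ) k' = (θ : ↥K → ℂ) k)) → ∀ k : ↥K, IsConj k k⁻¹ → ∃ k' : ↥K, IsConj k k' ∧ ∀ x ∈ P, x * (k' : G) * x⁻¹ = (k' : G)) := by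
  classical
  haveI := Fintype.ofFinite K
  let φ : P →* MulAut K := K.normalizerMonoidHom.comp (Subgroup.inclusion hPK)
  have hφ : ∀ (u : P) (k : K), ((φ u k : K) : G) = (u : G) * k * (u : G)⁻¹ := fun u k => rfl
  let C := GlaubermanMod.fixedSub φ
  haveI := Fintype.ofFinite C
  have hinvK : ∀ f : K → ℂ, GlaubermanMod.IsInv φ f ↔
      ∀ x ∈ P, ∀ k k' : K, (k' : G) = x * (k : G) * x⁻¹ → f k' = f k := by
    intro f
    refine ⟨fun h x hx k k' hk => ?_, fun h u k => h u u.2 k _ (hφ u k)⟩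
    rw [show k' = φ ⟨x, hx⟩ k from Subtype.ext (hk.trans (hφ ⟨x, hx⟩ k).symm)]
    exact h _ _
  choose F hF1 hF2 using fun (θ : Cfsg.IrrCharacter K) (h : GlaubermanMod.IsInv φ (θ : K → ℂ)) =>
    GlaubermanMod.exists_unique_constituent φ hP hK θ h
  have hF3 : ∀ θ h, ¬ p ∣ GlaubermanMod.mult φ θ (F θ h) := fun θ h hd => by
    rw [← ZMod.natCast_eq_zero_iff] at hd
    rcases hF1 θ h with hn | hn <;> simp [hd] at hn
  have hmultbar : ∀ (θ : Cfsg.IrrCharacter K) (γ : Cfsg.IrrCharacter C),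
      GlaubermanMod.mult φ (RealChar.bar θ) (RealChar.bar γ) = GlaubermanMod.mult φ θ γ := by
    intro θ γ
    apply Nat.cast_injective (R := ℂ)
    rw [← GlaubermanMod.classInner_resC, ← map_natCast conj (GlaubermanMod.mult φ θ γ),
      ← GlaubermanMod.classInner_resC]
    simp only [Cfsg.classInner, map_mul, map_inv₀, map_natCast, map_sum]
    rfl
  have hbarinv : ∀ θ : Cfsg.IrrCharacter K, GlaubermanMod.IsInv φ (θ : K → ℂ) →
      GlaubermanMod.IsInv φ (RealChar.bar θ : K → ℂ) := fun θ h u k => congrArg conj (h u k)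
  have hFbar : ∀ θ h, F (RealChar.bar θ) (hbarinv θ h) = RealChar.bar (F θ h) := by
    intro θ h
    by_contra hne
    refine hF3 θ h ?_
    rw [← hmultbar]
    exact hF2 _ (hbarinv θ h) _ (Ne.symm hne)
  have hFinj : ∀ θ θ' h h', F θ h = F θ' h' → θ = θ' := fun θ θ' h h' e =>
    GlaubermanMod.eq_of_common φ hP hK h h' (γ := F θ h) (hF3 θ h) (e ▸ hF3 θ' h')
  have hFcongr : ∀ θ θ' h h', θ = θ' → F θ h = F θ' h' := by
    rintro θ _ h h' rfl; rfl
  have hpart1 : Nat.card {θ : Cfsg.IrrCharacter K // (∀ k : K, ((θ : K → ℂ) k).im = 0) ∧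
      (∀ x ∈ P, ∀ k k' : K, (k' : G) = x * (k : G) * x⁻¹ → (θ : K → ℂ) k' = (θ : K → ℂ) k)} =
      Nat.card {γ : Cfsg.IrrCharacter C // ∀ c, ((γ : C → ℂ) c).im = 0} := by
    refine Nat.card_eq_of_bijective (fun θ => ⟨F θ.1 ((hinvK _).2 θ.2.2), ?_⟩) ⟨?_, ?_⟩
    · rw [← RealChar.bar_eq_self_iff, ← hFbar]
      exact hFcongr _ _ _ _ ((RealChar.bar_eq_self_iff _).2 θ.2.1)
    · intro θ θ' h
      exact Subtype.ext (hFinj _ _ _ _ (congrArg Subtype.val h))
    · rintro ⟨γ, hγ⟩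
      obtain ⟨θ, hθ, hd⟩ := GlaubermanMod.exists_over φ hP hK γ
      have hFγ : F θ hθ = γ := by_contra fun hne => hd (hF2 θ hθ γ (Ne.symm hne))
      refine ⟨⟨θ, (RealChar.bar_eq_self_iff θ).1 ?_, (hinvK _).1 hθ⟩,
        Subtype.ext ((hFcongr θ θ ((hinvK _).2 ((hinvK _).1 hθ)) hθ rfl).trans hFγ)⟩
      refine hFinj _ _ (hbarinv θ hθ) hθ ?_
      rw [hFbar θ hθ, hFγ]
      exact (RealChar.bar_eq_self_iff γ).2 hγ
  have hcl : Nat.card {c : ConjClasses C // ∀ g, ConjClasses.mk g = c → IsConj g g⁻¹} =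
      Nat.card {c : ConjClasses K // (∀ k : K, ConjClasses.mk k = c → IsConj k k⁻¹) ∧
        ∀ k : K, ConjClasses.mk k = c → ∀ x ∈ P, ∀ k' : K, (k' : G) = x * (k : G) * x⁻¹ →
          ConjClasses.mk k' = c} := by
    haveI : Finite (ConjClasses C) := Finite.of_surjective ConjClasses.mk ConjClasses.mk_surjective
    refine Nat.card_eq_of_bijective (fun c => ⟨ConjClasses.map C.subtype c.1, ?_, ?_⟩) ⟨?_, ?_⟩
    · intro k hk
      obtain ⟨a, ha⟩ := ConjClasses.mk_surjective c.1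
      rw [← ha] at hk
      have h1 : IsConj k (a : K) := ConjClasses.mk_eq_mk_iff_isConj.1 hk
      have h2 : IsConj (a : K) (a : K)⁻¹ := C.subtype.map_isConj (c.2 a ha)
      obtain ⟨d, hd⟩ := isConj_iff.1 h1.symm
      exact h1.trans (h2.trans (isConj_iff.2 ⟨d, by rw [← hd]; group⟩))
    · intro k hk x hx k' hk'
      obtain ⟨a, ha⟩ := ConjClasses.mk_surjective c.1
      rw [← ha] at hk ⊢
      have h1 : IsConj k (a : K) := ConjClasses.mk_eq_mk_iff_isConj.1 hk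
      have h2 := (φ ⟨x, hx⟩ : K ≃* K).toMonoidHom.map_isConj h1
      simp only [MulEquiv.coe_toMonoidHom, a.2 ⟨x, hx⟩] at h2
      rw [show k' = φ ⟨x, hx⟩ k from Subtype.ext (hk'.trans (hφ ⟨x, hx⟩ k).symm)]
      exact ConjClasses.mk_eq_mk_iff_isConj.2 h2
    · rintro ⟨c, hc⟩ ⟨c', hc'⟩ h
      obtain ⟨a, rfl⟩ := ConjClasses.mk_surjective c
      obtain ⟨a', rfl⟩ := ConjClasses.mk_surjective c'
      exact Subtype.ext (ConjClasses.mk_eq_mk_iff_isConj.2 (GlaubermanMod.isConj_fixed φ hP hK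
        (ConjClasses.mk_eq_mk_iff_isConj.1 (congrArg Subtype.val h))))
    · rintro ⟨c, hc1, hc2⟩
      obtain ⟨k, rfl⟩ := ConjClasses.mk_surjective c
      obtain ⟨a, ha⟩ := GlaubermanMod.exists_fixed_conj φ hP hK (k := k) fun u =>
        (ConjClasses.mk_eq_mk_iff_isConj.1 (hc2 k rfl u u.2 _ (hφ u k))).symm
      refine ⟨⟨ConjClasses.mk a, fun g hg => ?_⟩,
        Subtype.ext (ConjClasses.mk_eq_mk_iff_isConj.2 ha.symm)⟩
      have hg' : IsConj k (g : K) :=
        ha.trans (C.subtype.map_isConj (ConjClasses.mk_eq_mk_iff_isConj.1 hg).symm)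
      exact GlaubermanMod.isConj_fixed φ hP hK
        (hc1 (g : K) (ConjClasses.mk_eq_mk_iff_isConj.2 hg'.symm))
  have heq := hpart1.trans ((RealChar.card_real (G := C)).trans hcl)
  refine ⟨heq, fun hall k hk => ?_⟩
  haveI : Finite (ConjClasses K) := Finite.of_surjective ConjClasses.mk ConjClasses.mk_surjective
  rw [Nat.card_congr (Equiv.subtypeEquivRight (fun θ : Cfsg.IrrCharacter K =>
    and_iff_left_of_imp (hall θ))), RealChar.card_real] at heq
  let ι : {c : ConjClasses K // (∀ k : K, ConjClasses.mk k = c → IsConj k k⁻¹) ∧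
      ∀ k : K, ConjClasses.mk k = c → ∀ x ∈ P, ∀ k' : K, (k' : G) = x * (k : G) * x⁻¹ →
        ConjClasses.mk k' = c} →
      {c : ConjClasses K // ∀ g, ConjClasses.mk g = c → IsConj g g⁻¹} := fun c => ⟨c.1, c.2.1⟩
  have hinj : Function.Injective ι := fun a b h => Subtype.ext (congrArg (fun z => z.1) h :)
  haveI := Fintype.ofFinite (ConjClasses K)
  have hsur := ((Nat.bijective_iff_injective_and_card ι).2 ⟨hinj, heq.symm⟩).2
  obtain ⟨c, hc⟩ := hsur ⟨ConjClasses.mk k, fun g hg => by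
    have h1 : IsConj g k := ConjClasses.mk_eq_mk_iff_isConj.1 hg
    obtain ⟨d, hd⟩ := isConj_iff.1 h1.symm
    exact h1.trans (hk.trans (isConj_iff.2 ⟨d, by rw [← hd]; group⟩))⟩
  have hcv : c.1 = ConjClasses.mk k := congrArg Subtype.val hc
  obtain ⟨a, ha⟩ := GlaubermanMod.exists_fixed_conj φ hP hK (k := k) fun u =>
    (ConjClasses.mk_eq_mk_iff_isConj.1 ((c.2.2 k hcv.symm u u.2 _ (hφ u k)).trans hcv)).symm
  exact ⟨a, ha, fun x hx => by rw [← hφ ⟨x, hx⟩, a.2 ⟨x, hx⟩]⟩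

end Cfsg.Agent.S4911
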