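import Cfsg.Statements.S4912
import Cfsg.Agent.Lib.Char.LinearTwist
import Cfsg.Agent.Lib.Char.OddIndexReal
-- import your own Cfsg.Agent.* helpers here

set_option autoImplicit false
open Cfsg

open Cfsg.Agent Cfsg.Agent.Char Cfsg.Agent.CharX
open scoped ComplexConjugate

namespace Cfsg.Agent.S4912

/-- Let G be a finite group with a non-abelian minimal normal subgroup N, and let φ be an irreducible complex character of N with stabilizer I in G such that φ extends to an irreducible character of I with Frobenius–Schur indicator +1. Put d = φ(1)·[G : I]. Then the number of linear characters of G with Frobenius–Schur indicator +1 is at most [G : I] times the number of irreducible characters of G of degree d with Frobenius–Schur indicator +1. -/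
theorem result {G : Type*} [Group G] [Finite G] (N : Subgroup G) (hN : N.Normal) (hN1 : N ≠ ⊥) (hmin : ∀ M : Subgroup G, M.Normal → M ≤ N → M = ⊥ ∨ M = N) (hna : ¬ IsMulCommutative ↥N) (φ : Cfsg.IrrCharacter ↥N) (I : Subgroup G) (hI : ∀ g : G, g ∈ I ↔ ∀ n n' : ↥N, (n' : G) = g * (n : G) * g⁻¹ → (φ : ↥N → ℂ) n' = (φ : ↥N → ℂ) n) (hNI : N ≤ I) (hext : ∃ ψ : Cfsg.IrrCharacter ↥I, (Nat.card ↥I : ℂ)⁻¹ * ∑ᶠ g : ↥I, (ψ : ↥I → ℂ) (g * g) = 1 ∧ ∀ n : ↥N, (ψ : ↥I → ℂ) (Subgroup.inclusion hNI n) = (φ : ↥N → ℂ) n) : Nat.card {χ : Cfsg.IrrCharacter G // Cfsg.charDegree (χ : G → ℂ) = 1 ∧ (Nat.card G : ℂ)⁻¹ * ∑ᶠ g : G, (χ : G → ℂ) (g * g) = 1} ≤ I.index * Nat.card {χ : Cfsg.IrrCharacter G // Cfsg.charDegree (χ : G → ℂ) = Cfsg.charDegree (φ : ↥N → ℂ) * I.index ∧ (Nat.card G : ℂ)⁻¹ * ∑ᶠ g : G, (χ : G → ℂ) (g * g) = 1} := by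
  classical
  haveI := Fintype.ofFinite G
  haveI := Fintype.ofFinite N
  haveI := Fintype.ofFinite I
  haveI := hN
  obtain ⟨ψ, hν, hψ⟩ := hext
  simp only [finsum_eq_sum_of_fintype] at hν ⊢
  have hI' : I = inertia N (φ : N → ℂ) := by
    ext g
    rw [hI, mem_inertia_iff]
    refine ⟨fun h n => h n _ rfl, fun h n n' e => ?_⟩
    rw [show n' = ⟨g * n * g⁻¹, hN.conj_mem n n.2 g⟩ from Subtype.ext e]
    exact h n
  have hd : ∀ χ : Cfsg.IrrCharacter G,
      Cfsg.charDegree (χ : G → ℂ) = Cfsg.charDegree (φ : N → ℂ) * I.index ↔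
        (χ : G → ℂ) 1 = (φ : N → ℂ) 1 * (I.index : ℂ) := fun χ => by
    rw [irr_deg, irr_deg, ← Nat.cast_mul, Nat.cast_inj]
  have h1 : ∀ χ : Cfsg.IrrCharacter G, Cfsg.charDegree (χ : G → ℂ) = 1 ↔ (χ : G → ℂ) 1 = 1 := fun χ => by
    rw [irr_deg, Nat.cast_eq_one]
  have hψ0 : Cfsg.classInner (fun n : N => (ψ : I → ℂ) ⟨n, hNI n.2⟩) (φ : N → ℂ) ≠ 0 := by
    rw [show (fun n : N => (ψ : I → ℂ) ⟨n, hNI n.2⟩) = (φ : N → ℂ) from funext hψ,
      classInner_self_irr φ.2]
    exact one_ne_zero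
  have hind := LinearTwist.indicator_indFun ψ.2 hν
    (clifford_correspondence N φ.2 hI' hNI ψ.2 hψ0).1
  have h := LinearTwist.card_linear_le (I := I) (LinearTwist.linear_trivial hmin hna) φ.2 hI' hNI ψ.2
    (fun n => hψ n) (fun χ => (Nat.card G : ℂ)⁻¹ * ∑ g : G, (χ : G → ℂ) (g * g) = 1) (by
      intro lam χ hl hQ hχ
      obtain ⟨f, hf⟩ := exists_hom_of_degree_one (IsIrrCharacter.isCharacter lam.2) hl
      have hreal : ∀ g, ((lam : G → ℂ) g).im = 0 := by
        rcases OddIndexReal.nu_cases lam with ⟨-, h0⟩ | ⟨hr, -⟩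
        · exact absurd (hQ.symm.trans h0) one_ne_zero
        · exact hr
      have hsq : ∀ g, (lam : G → ℂ) (g * g) = 1 := by
        intro g
        have hn : ‖(lam : G → ℂ) g‖ = 1 := by
          refine Complex.norm_eq_one_of_pow_eq_one (n := orderOf g) ?_ (orderOf_pos g).ne'
          rw [hf]
          show (f g : ℂ) ^ orderOf g = 1
          rw [← Units.val_pow_eq_pow_val, ← map_pow, pow_orderOf_eq_one, map_one, Units.val_one]
        have hre : conj ((lam : G → ℂ) g) = (lam : G → ℂ) g := Complex.conj_eq_iff_im.2 (hreal g)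
        have := Complex.mul_conj' ((lam : G → ℂ) g)
        rw [hre, hn] at this
        rw [hf] at this ⊢
        simpa [map_mul] using this
      show (Nat.card G : ℂ)⁻¹ * ∑ g : G, (χ : G → ℂ) (g * g) = 1
      rw [hχ, ← hind]
      exact congrArg _ (Finset.sum_congr rfl fun g _ => by rw [Pi.mul_apply, hsq, one_mul]))
  simp only [hd, h1]
  exact h

end Cfsg.Agent.S4912
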