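import Cfsg.Statements.S4916
import Cfsg.Agent.Lib.Blocks.Congruence
-- import your own Cfsg.Agent.* helpers here

set_option autoImplicit false
open Cfsg

open Cfsg.Agent.Char Cfsg.Agent.CharX Cfsg.Agent.Blocks
open scoped ComplexConjugate

namespace Cfsg.Agent.S4916

/-- Let G be a finite group, p a prime and M a maximal ideal of the algebraic integers containing p. Then the principal character is the only irreducible character of degree prime to p in the principal p-block of G if and only if p does not divide the order of G. -/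
theorem result {G : Type*} [Group G] [Finite G] (p : ℕ) [Fact p.Prime] (M : Ideal Cfsg.AlgInt) (hM : Cfsg.IsPModular p M) : (∀ χ : Cfsg.IrrCharacter G, χ ∈ Cfsg.principalBlock M G → ¬ p ∣ Cfsg.charDegree (χ : G → ℂ) → (χ : G → ℂ) = fun _ => (1 : ℂ)) ↔ ¬ p ∣ Nat.card G := by
  classical
  haveI := Fintype.ofFinite G
  haveI := IsPModular.isPrime hM
  have hp : p.Prime := Fact.out
  constructor
  · intro honly hdvd
    obtain ⟨x, hx⟩ := exists_prime_orderOf_dvd_card' p hdvd
    haveI := Fintype.ofFinite (⊥ : Subgroup G)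
    have hxb : x ∉ (⊥ : Subgroup G) := fun h => hp.ne_one (by
      rw [← hx, Subgroup.mem_bot.1 h, orderOf_one])
    have hm : ∀ χ : Cfsg.IrrCharacter G, Cfsg.classInner (fun n : (⊥ : Subgroup G) => (χ : G → ℂ) n)
        (fun _ => 1) = (Cfsg.charDegree (χ : G → ℂ) : ℂ) := by
      intro χ
      rw [← irr_deg χ, Cfsg.classInner, Nat.card_unique, Fintype.sum_unique]
      simp [Subgroup.mem_bot.1 (default : (⊥ : Subgroup G)).2]
    have h := dvd_sum_over hM (isPBlock_principalBlock M G) ⊥ isIrrCharacter_one _ hm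
      (x := x) ⟨1, by rw [hx, pow_one]⟩ hxb
    have hmem : principal G ∈ Finset.univ.filter (· ∈ Cfsg.principalBlock M G) :=
      Finset.mem_filter.2 ⟨Finset.mem_univ _, principal_mem_principalBlock⟩
    rw [← Finset.add_sum_erase _ _ hmem, Nat.dvd_add_left (Finset.dvd_sum fun χ hχ => ?_)] at h
    · have h1 : Cfsg.charDegree ((principal G : Cfsg.IrrCharacter G) : G → ℂ) = 1 := by
        simp [principal, Cfsg.charDegree]
      rw [h1, one_mul] at h
      exact hp.not_dvd_one h
    · obtain ⟨hne, hχB⟩ := Finset.mem_erase.1 hχ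
      refine Dvd.dvd.mul_left (not_not.1 fun hd => hne (Subtype.ext ?_)) _
      exact honly χ (Finset.mem_filter.1 hχB).2 hd
  · intro hG χ hχ _
    by_contra hne
    have h0 : ∑ g : G, (χ : G → ℂ) g = 0 := by
      have := classInner_irr_of_ne χ.2 isIrrCharacter_one hne
      simpa [Cfsg.classInner] using this
    have hcong : ∀ g : G, MemLocalIdeal M ((χ : G → ℂ) g - (χ : G → ℂ) 1) := by
      intro g
      have hidx : ¬ p ∣ (Subgroup.centralizer ({g} : Set G)).index := fun h =>
        hG (h.trans (Subgroup.index_dvd_card _))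
      have h := hχ g
      have hd : (χ : G → ℂ) 1 ≠ 0 := IsIrrCharacter.one_ne_zero χ.2
      have hi : ((Subgroup.centralizer ({g} : Set G)).index : ℂ) ≠ 0 :=
        Nat.cast_ne_zero.2 Subgroup.index_ne_zero_of_finite
      have e : (χ : G → ℂ) g - (χ : G → ℂ) 1 =
          -((χ : G → ℂ) 1 * ((Subgroup.centralizer ({g} : Set G)).index : ℂ)⁻¹) *
            (Cfsg.centralChar (fun _ : G => (1 : ℂ)) g - Cfsg.centralChar (χ : G → ℂ) g) := by
        unfold Cfsg.centralChar
        field_simp
        ring
      rw [e, neg_mul]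
      refine MemLocalIdeal.neg (MemLocalIdeal.mul_left ((locRing M).mul_mem ?_
        (inv_natCast_memLocalRing hM hidx)) h)
      rw [irr_deg χ]
      exact natCast_mem (locRing M) _
    have h1 : MemLocalIdeal M ((Nat.card G * Cfsg.charDegree (χ : G → ℂ) : ℕ) : ℂ) := by
      rw [show ((Nat.card G * Cfsg.charDegree (χ : G → ℂ) : ℕ) : ℂ) =
        - ∑ g : G, ((χ : G → ℂ) g - (χ : G → ℂ) 1) by
          rw [Finset.sum_sub_distrib, h0, Finset.sum_const, Finset.card_univ, zero_sub, neg_neg,
            nsmul_eq_mul, Nat.cast_mul, irr_deg χ, Nat.card_eq_fintype_card]]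
      exact MemLocalIdeal.neg (memLocalIdeal_sum _ _ fun g _ => hcong g)
    rcases hp.dvd_mul.1 ((natCast_memLocalIdeal_iff hM _).1 h1) with e | e
    · exact hG e
    · exact hG (e.trans (irr_deg_dvd_card χ))

end Cfsg.Agent.S4916
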