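import Cfsg.Statements.S4923
import Cfsg.Agent.Lib.PLocal.MaxClass
import Cfsg.Agent.Lib.Char.DetComp
import Cfsg.Agent.Lib.Char.Complete
import Cfsg.Agent.Lib.Char.Degree
open Cfsg.Agent.Char Cfsg.Agent.CharX Cfsg.Agent.DetComp
-- import your own Cfsg.Agent.* helpers here

set_option autoImplicit false
open Cfsg

namespace Cfsg.Agent.S4923

open scoped commutatorElement

/-- The middle power of a primitive root of two-power order. -/
theorem pow_half {ζ : ℂ} {k : ℕ} (hζ : IsPrimitiveRoot ζ (2 ^ (k + 1))) : ζ ^ 2 ^ k = -1 :=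
  (hζ.pow (pow_pos two_pos _) (by rw [pow_succ])).eq_neg_one_of_two_right

section Arith

/-- A square root of one modulo a power of two congruent to one modulo four. -/
theorem dvd_sub_one {m c : ℕ} (hm : 2 ≤ m) (hc : c % 4 = 1) (h : 2 ^ m ∣ (c - 1) * (c + 1)) :
    2 ^ (m - 1) ∣ c - 1 := by
  obtain ⟨o, ho, hodd⟩ : ∃ o, c + 1 = 2 * o ∧ o % 2 = 1 :=
    ⟨(c + 1) / 2, by omega, by omega⟩
  rw [ho, show (2 : ℕ) ^ m = 2 * 2 ^ (m - 1) by rw [← pow_succ']; congr 1; omega,
    mul_left_comm] at h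
  exact ((Nat.coprime_two_left.2 (Nat.odd_iff.2 hodd)).pow_left (m - 1)).dvd_of_dvd_mul_right
    (Nat.dvd_of_mul_dvd_mul_left two_pos h)

/-- A square root of one modulo a power of two congruent to three modulo four. -/
theorem dvd_add_one {m c : ℕ} (hm : 2 ≤ m) (hc : c % 4 = 3) (h : 2 ^ m ∣ (c - 1) * (c + 1)) :
    2 ^ (m - 1) ∣ c + 1 := by
  obtain ⟨o, ho, hodd⟩ : ∃ o, c - 1 = 2 * o ∧ o % 2 = 1 :=
    ⟨(c - 1) / 2, by omega, by omega⟩
  rw [ho, show (2 : ℕ) ^ m = 2 * 2 ^ (m - 1) by rw [← pow_succ']; congr 1; omega,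
    mul_assoc] at h
  exact ((Nat.coprime_two_left.2 (Nat.odd_iff.2 hodd)).pow_left (m - 1)).dvd_of_dvd_mul_left
    (Nat.dvd_of_mul_dvd_mul_left two_pos h)

end Arith

section Values

variable {G : Type*} [Group G] [Finite G]

/-- A field endomorphism acting as a power map on the roots of unity of order dividing `o g`. -/
theorem map_value (χ : Cfsg.IrrCharacter G) (σ : ℂ →+* ℂ) (g : G) {N k : ℕ} (hN : g ^ N = 1)
    (hσ : ∀ z : ℂ, z ^ N = 1 → σ z = z ^ k) : σ ((χ : G → ℂ) g) = (χ : G → ℂ) (g ^ k) := by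
  obtain ⟨n, ρ, -, hρ⟩ := χ.2
  obtain ⟨L, -, hL, hs, -⟩ := exists_eigenvalues ρ g
  have h1 := hs 1
  simp only [pow_one, Multiset.map_id'] at h1
  rw [← hρ, h1, hs k, map_multiset_sum]
  refine congrArg Multiset.sum (Multiset.map_congr rfl fun z hz => hσ z ?_)
  exact orderOf_dvd_iff_pow_eq_one.1 ((orderOf_dvd_of_pow_eq_one (hL z hz)).trans
    (orderOf_dvd_of_pow_eq_one hN))

theorem isAlgebraic_value (χ : Cfsg.IrrCharacter G) (g : G) : IsAlgebraic ℚ ((χ : G → ℂ) g) := by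
  obtain ⟨n, ρ, -, hρ⟩ := χ.2
  rw [← hρ]
  exact ((isIntegral_char ρ g).tower_top).isAlgebraic

end Values

section Structure

variable {P : Type*} [Group P] [Finite P]

/-- Conjugation by an element outside a cyclic subgroup of index two. -/
theorem exists_exponent {n : ℕ} (hn3 : 3 ≤ n) (hn : Nat.card P = 2 ^ n) {g : P}
    (hg : orderOf g = 2 ^ (n - 1)) :
    (Subgroup.zpowers g).index = 2 ∧ ∃ (y : P) (c : ℕ), y ∉ Subgroup.zpowers g ∧
      y * g * y⁻¹ = g ^ c ∧ 2 ^ (n - 1) ∣ (c - 1) * (c + 1) ∧ c % 2 = 1 := by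
  have hidx : (Subgroup.zpowers g).index = 2 := by
    have h := (Subgroup.zpowers g).card_mul_index
    rw [Nat.card_zpowers, hg, hn, show 2 ^ n = 2 ^ (n - 1) * 2 by
      rw [← pow_succ]; congr 1; omega] at h
    exact Nat.eq_of_mul_eq_mul_left (pow_pos two_pos _) h
  haveI := Subgroup.normal_of_index_eq_two hidx
  refine ⟨hidx, ?_⟩
  obtain ⟨y, hy⟩ : ∃ y, y ∉ Subgroup.zpowers g := by
    by_contra h
    push Not at h
    rw [(Subgroup.eq_top_iff' _).2 h, Subgroup.index_top] at hidx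
    omega
  obtain ⟨c, hc⟩ : ∃ c : ℕ, g ^ c = y * g * y⁻¹ := mem_powers_iff_mem_zpowers.2
    ((inferInstance : (Subgroup.zpowers g).Normal).conj_mem g (Subgroup.mem_zpowers g) y)
  have hc2 : g ^ (c * c) = g := by
    obtain ⟨i, hi⟩ := Subgroup.mem_zpowers_iff.1 (Subgroup.mul_self_mem_of_index_two hidx y)
    calc g ^ (c * c) = (y * g * y⁻¹) ^ c := by rw [pow_mul, hc]
      _ = y * g ^ c * y⁻¹ := conj_pow
      _ = y * y * g * (y * y)⁻¹ := by rw [hc]; group
      _ = g := by rw [← hi]; group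
  have hm : c * c ≡ 1 [MOD 2 ^ (n - 1)] := by
    rw [← hg, ← pow_eq_pow_iff_modEq, pow_one]; exact hc2
  have hodd : c % 2 = 1 := by
    have h2 := hm.of_dvd (dvd_pow_self 2 (by omega : n - 1 ≠ 0))
    rw [Nat.ModEq, Nat.mul_mod] at h2
    rcases Nat.mod_two_eq_zero_or_one c with e | e
    · simp [e] at h2
    · exact e
  refine ⟨y, c, hy, hc.symm, ?_, hodd⟩
  have h1 : 1 ≤ c * c := Nat.one_le_iff_ne_zero.2 (mul_ne_zero (by omega) (by omega))
  have h2 := (Nat.modEq_iff_dvd' h1).1 hm.symm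
  rwa [show c * c - 1 = (c - 1) * (c + 1) by
    rw [Nat.mul_comm (c - 1), ← Nat.sq_sub_sq, one_pow, sq]] at h2

/-- An abelianization of order four forces the exponent to be three modulo four. -/
theorem mod_four_eq_three {n : ℕ} (hn3 : 3 ≤ n) (hn : Nat.card P = 2 ^ n) {g : P}
    (hg : orderOf g = 2 ^ (n - 1)) (hci : (commutator P).index = 4) {y : P} {c : ℕ}
    (hy : y ∉ Subgroup.zpowers g) (hc : y * g * y⁻¹ = g ^ c) (hodd : c % 2 = 1)
    (hidx : (Subgroup.zpowers g).index = 2) : c % 4 = 3 := by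
  by_contra hc4
  have hC : ∀ a ∈ Subgroup.zpowers g, ∀ b ∈ Subgroup.zpowers g, a * b = b * a := by
    rintro _ ⟨i, rfl⟩ _ ⟨j, rfl⟩
    exact ((Commute.refl g).zpow_zpow i j).eq
  obtain ⟨-, -, -, hR, -, -⟩ :=
    MaxClass.abelian_index_two hn hn3 hci (Subgroup.zpowers g) hidx hC hy
  have hle : commutator P ≤ Subgroup.zpowers (g ^ 4) := by
    intro x hx
    obtain ⟨_, ⟨i, rfl⟩, rfl⟩ := (hR x).1 hx
    obtain ⟨j, hj⟩ : (4 : ℤ) ∣ i * (1 - (c : ℤ)) := dvd_mul_of_dvd_right (by omega) i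
    refine ⟨j, ?_⟩
    show (g ^ 4) ^ j = g ^ i * (y * g ^ i * y⁻¹)⁻¹
    rw [← zpow_natCast g 4, ← zpow_mul, ← conj_zpow, hc, ← zpow_natCast g c, ← zpow_mul,
      ← zpow_neg, ← zpow_add]
    congr 1
    push_cast
    rw [← hj]
    ring
  have h1 := (commutator P).card_mul_index
  have h2 := Subgroup.card_le_of_le hle
  rw [Nat.card_zpowers, orderOf_pow' g (by norm_num : (4 : ℕ) ≠ 0), hg,
    show (2 : ℕ) ^ (n - 1) = 4 * 2 ^ (n - 3) by
      rw [show (4 : ℕ) = 2 ^ 2 from rfl, ← pow_add]; congr 1; omega,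
    Nat.gcd_mul_right_left, Nat.mul_div_cancel_left _ (by norm_num : 0 < 4)] at h2
  rw [hci, hn, show (2 : ℕ) ^ n = 8 * 2 ^ (n - 3) by
    rw [show (8 : ℕ) = 2 ^ 3 from rfl, ← pow_add]; congr 1; omega] at h1
  have := pow_pos (two_pos (α := ℕ)) (n - 3)
  omega

/-- Three modulo four forces an abelianization of order four. -/
theorem index_eq_four {n : ℕ} (hn3 : 3 ≤ n) (hn : Nat.card P = 2 ^ n) {g : P}
    (hg : orderOf g = 2 ^ (n - 1)) {y : P} {c : ℕ} (hc : y * g * y⁻¹ = g ^ c) (hc4 : c % 4 = 3) :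
    (commutator P).index = 4 := by
  haveI : Fact (Nat.Prime 2) := ⟨Nat.prime_two⟩
  obtain ⟨o, ho, hodd⟩ : ∃ o, c - 1 = 2 * o ∧ o % 2 = 1 := ⟨(c - 1) / 2, by omega, by omega⟩
  have hmem : g ^ (c - 1) ∈ commutator P := by
    rw [show g ^ (c - 1) = ⁅y, g⁆ by
      rw [commutatorElement_def, hc, eq_mul_inv_iff_mul_eq, ← pow_succ,
        Nat.sub_add_cancel (by omega)]]
    exact Subgroup.commutator_mem_commutator (Subgroup.mem_top y) (Subgroup.mem_top g)
  have h2 := Subgroup.card_le_of_le (Subgroup.zpowers_le.2 hmem)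
  rw [Nat.card_zpowers, orderOf_pow' g (by omega : c - 1 ≠ 0), hg, ho,
    show (2 : ℕ) ^ (n - 1) = 2 * 2 ^ (n - 2) by rw [← pow_succ']; congr 1; omega,
    Nat.gcd_mul_left, (Nat.coprime_two_left.2 (Nat.odd_iff.2 hodd)).pow_left (n - 2),
    mul_one, Nat.mul_div_cancel_left _ two_pos] at h2
  have h1 := (commutator P).card_mul_index
  rw [hn, show (2 : ℕ) ^ n = 2 ^ (n - 2) * 4 by
    rw [show (4 : ℕ) = 2 ^ 2 from rfl, ← pow_add]; congr 1; omega] at h1
  refine le_antisymm ?_ (by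
    simpa using MaxClass.sq_le_index_commutator (IsPGroup.of_card hn) fun e => by
      rw [e, Subgroup.card_bot] at h2
      have : 2 ^ 1 ≤ 2 ^ (n - 2) := Nat.pow_le_pow_right two_pos (by omega)
      omega)
  exact Nat.le_of_mul_le_mul_left
    ((Nat.mul_le_mul_right _ h2).trans h1.le) (pow_pos two_pos _)

end Structure

section Main

variable {G : Type*} [Group G] [Finite G]

/-- The conjugates of a generator among its powers. -/
theorem conj_pow_cases (P : Sylow 2 G) {m : ℕ} {g y : G} (hg : g ∈ (P : Subgroup G))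
    (hord : orderOf g = 2 ^ m) {c : ℕ} (hc : y * g * y⁻¹ = g ^ c)
    (hPdec : ∀ x ∈ (P : Subgroup G), (∃ i : ℤ, x = g ^ i) ∨ ∃ i : ℤ, x = g ^ i * y)
    {x : G} {k : ℕ} (hk : x * g * x⁻¹ = g ^ k) : g ^ k = g ∨ g ^ k = g ^ c := by
  haveI : Fact (Nat.Prime 2) := ⟨Nat.prime_two⟩
  set N := Subgroup.normalizer (Subgroup.zpowers g : Set G)
  set C := (Subgroup.centralizer ({g} : Set G)).subgroupOf N
  have hNg : ∀ w ∈ N, ∃ l : ℕ, g ^ l = w * g * w⁻¹ := fun w hw =>
    mem_powers_iff_mem_zpowers.2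
      ((Subgroup.mem_normalizer_iff.1 hw g).1 (Subgroup.mem_zpowers g))
  have hnorm : ∀ {w : G} {l : ℕ}, w * g * w⁻¹ = g ^ l → w ∈ N := by
    intro w l hl
    refine Subgroup.mem_normalizer_iff_map_conj_eq.2 (Subgroup.eq_of_le_of_card_ge ?_ ?_)
    · rw [MonoidHom.map_zpowers, Subgroup.zpowers_le]
      show w * g * w⁻¹ ∈ _
      rw [hl]; exact Subgroup.npow_mem_zpowers g l
    · rw [Subgroup.card_map_of_injective (MulAut.conj w).injective]
  haveI : C.Normal := ⟨fun a ha w => by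
    obtain ⟨l, hl⟩ := hNg _ (inv_mem w.2)
    rw [inv_inv] at hl
    have ha' : g * (a : G) = (a : G) * g := (Subgroup.mem_centralizer_singleton_iff.1 ha).symm
    have hcl : Commute (g ^ l) (a : G) := (show Commute g (a : G) from ha').pow_left l
    show (w : G) * a * (w : G)⁻¹ ∈ Subgroup.centralizer ({g} : Set G)
    rw [Subgroup.mem_centralizer_singleton_iff]
    calc (w : G) * a * (w : G)⁻¹ * g = (w : G) * ((a : G) * g ^ l) * (w : G)⁻¹ := by rw [hl]; group
      _ = (w : G) * (g ^ l * (a : G)) * (w : G)⁻¹ := by rw [hcl.eq]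
      _ = g * ((w : G) * a * (w : G)⁻¹) := by rw [hl]; group⟩
  have h2 : IsPGroup 2 (N ⧸ C) := by
    intro q
    obtain ⟨w, rfl⟩ := QuotientGroup.mk_surjective q
    obtain ⟨l, hl⟩ := hNg _ w.2
    refine ⟨m, ?_⟩
    rw [← QuotientGroup.mk_pow, QuotientGroup.eq_one_iff]
    show ((w ^ 2 ^ m : N) : G) ∈ Subgroup.centralizer ({g} : Set G)
    rw [Subgroup.mem_centralizer_singleton_iff, SubmonoidClass.coe_pow]
    have hpow : ∀ j : ℕ, (w : G) ^ j * g * ((w : G) ^ j)⁻¹ = g ^ l ^ j := by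
      intro j
      induction j with
      | zero => simp
      | succ j ih =>
        calc (w : G) ^ (j + 1) * g * ((w : G) ^ (j + 1))⁻¹
            = (w : G) * ((w : G) ^ j * g * ((w : G) ^ j)⁻¹) * (w : G)⁻¹ := by
              rw [pow_succ']; group
          _ = ((w : G) * g * (w : G)⁻¹) ^ l ^ j := by rw [ih, conj_pow]
          _ = g ^ l ^ (j + 1) := by rw [← hl, ← pow_mul, ← pow_succ']
    rw [← mul_inv_eq_iff_eq_mul, hpow]
    rcases Nat.eq_zero_or_pos m with rfl | hm
    · have : g = 1 := by rwa [pow_zero, orderOf_eq_one_iff] at hord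
      simp [this]
    conv_rhs => rw [← pow_one g]
    rw [pow_eq_pow_iff_modEq, hord]
    have hlo : l.Coprime (2 ^ m) := by
      have h := congrArg orderOf hl
      rw [← MulAut.conj_apply, MulEquiv.orderOf_eq, orderOf_pow, hord] at h
      have h3 : Nat.gcd (2 ^ m) l = 1 := by
        have hd := Nat.gcd_dvd_left (2 ^ m) l
        have h4 := Nat.div_mul_cancel hd
        rw [h] at h4
        exact (mul_eq_left₀ (pow_ne_zero m two_ne_zero)).1 h4
      exact Nat.Coprime.symm h3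
    have := Nat.ModEq.pow_totient hlo
    rw [Nat.totient_prime_pow Nat.prime_two hm] at this
    rw [show (2 : ℕ) - 1 = 1 from rfl, mul_one] at this
    have h5 := this.pow 2
    rwa [one_pow, ← pow_mul, ← pow_succ, Nat.sub_add_cancel hm] at h5
  have hPN : (P : Subgroup G) ≤ N := by
    intro w hw
    rcases hPdec w hw with ⟨i, rfl⟩ | ⟨i, rfl⟩
    · exact zpow_mem (Subgroup.le_normalizer (Subgroup.mem_zpowers g)) i
    · exact mul_mem (zpow_mem (Subgroup.le_normalizer (Subgroup.mem_zpowers g)) i) (hnorm hc)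
  have htop : C ⊔ (P : Subgroup G).subgroupOf N = ⊤ := by
    rw [← Subgroup.index_eq_one]
    obtain ⟨e, he⟩ := IsPGroup.iff_card.1 h2
    have hd1 := Subgroup.index_dvd_of_le (le_sup_left : C ≤ C ⊔ (P : Subgroup G).subgroupOf N)
    rw [Subgroup.index_eq_card C, he] at hd1
    have hd2 := Subgroup.index_dvd_of_le
      (le_sup_right : (P : Subgroup G).subgroupOf N ≤ C ⊔ (P : Subgroup G).subgroupOf N)
    obtain ⟨j, -, hj⟩ := (Nat.dvd_prime_pow Nat.prime_two).1 hd1
    by_contra hne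
    have hj0 : j ≠ 0 := fun e => hne (by rw [hj, e, pow_zero])
    refine P.not_dvd_index (((hj ▸ dvd_pow_self 2 hj0).trans hd2).trans ?_)
    exact Dvd.intro _ (Subgroup.relIndex_mul_index hPN)
  obtain ⟨a, ha, w, hw, haw⟩ := Subgroup.mem_sup_of_normal_left.1
    (htop ▸ Subgroup.mem_top (⟨x, hnorm hk⟩ : N))
  have ha' : (a : G) * g = g * a := Subgroup.mem_centralizer_singleton_iff.1 ha
  have hxw : x = (a : G) * (w : G) := (congrArg Subtype.val haw).symm
  have haj : ∀ j : ℕ, (a : G) * g ^ j * (a : G)⁻¹ = g ^ j := fun j => by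
    rw [mul_inv_eq_iff_eq_mul]; exact ((show Commute (a : G) g from ha').pow_right j).eq
  rcases hPdec w hw with ⟨i, hi⟩ | ⟨i, hi⟩
  · left
    rw [← hk, hxw, hi]
    calc (a : G) * g ^ i * g * ((a : G) * g ^ i)⁻¹ = (a : G) * g ^ 1 * (a : G)⁻¹ := by group
      _ = g := by rw [haj, pow_one]
  · right
    rw [← hk, hxw, hi]
    calc (a : G) * (g ^ i * y) * g * ((a : G) * (g ^ i * y))⁻¹
        = (a : G) * (g ^ i * (y * g * y⁻¹) * (g ^ i)⁻¹) * (a : G)⁻¹ := by group
      _ = (a : G) * g ^ c * (a : G)⁻¹ := by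
        rw [hc, show g ^ i * g ^ c * (g ^ i)⁻¹ = g ^ c by
          rw [← zpow_natCast]; group]
      _ = g ^ c := haj c

/-- A generator of the cyclic subgroup of index two has a class of even size. -/
theorem two_dvd_index (P : Sylow 2 G) {m : ℕ} (hm : 2 ≤ m) {g y : G} (hg : g ∈ (P : Subgroup G))
    (hyP : y ∈ (P : Subgroup G)) (hy : y ∉ Subgroup.zpowers g) (hord : orderOf g = 2 ^ m) {c : ℕ}
    (hc : y * g * y⁻¹ = g ^ c) (hc4 : c % 4 = 3)
    (hPdec : ∀ x ∈ (P : Subgroup G), (∃ i : ℤ, x = g ^ i) ∨ ∃ i : ℤ, x = g ^ i * y) :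
    2 ∣ (Subgroup.centralizer ({g} : Set G)).index := by
  haveI : Fact (Nat.Prime 2) := ⟨Nat.prime_two⟩
  by_contra hodd
  obtain ⟨T⟩ : Nonempty (Sylow 2 (Subgroup.centralizer ({g} : Set G))) := inferInstance
  have hTi : ¬ 2 ∣ ((T : Subgroup (Subgroup.centralizer ({g} : Set G))).map
      (Subgroup.centralizer ({g} : Set G)).subtype).index := by
    rw [Subgroup.index_map_subtype]
    exact fun hd => ((Nat.prime_two.dvd_mul).1 hd).elim T.not_dvd_index hodd
  obtain ⟨x, hx⟩ := MulAction.exists_smul_eq G ((T.isPGroup'.map _).toSylow hTi) P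
  set g' := x * g * x⁻¹ with hg'
  have hcom : ∀ q ∈ (P : Subgroup G), Commute g' q := by
    intro q hq
    rw [← hx, Sylow.coe_subgroup_smul, Subgroup.mem_pointwise_smul_iff_inv_smul_mem] at hq
    obtain ⟨t, -, ht⟩ := hq
    rw [Subgroup.coe_subtype, ← map_inv, MulAut.smul_def, MulAut.conj_apply, inv_inv] at ht
    have hc' : g * (x⁻¹ * q * x) = x⁻¹ * q * x * g := by
      rw [← ht]; exact (Subgroup.mem_centralizer_singleton_iff.1 t.2).symm
    show g' * q = q * g'
    calc g' * q = x * (g * (x⁻¹ * q * x)) * x⁻¹ := by rw [hg']; group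
      _ = x * (x⁻¹ * q * x * g) * x⁻¹ := by rw [hc']
      _ = q * g' := by rw [hg']; group
  have hord' : orderOf g' = 2 ^ m := by
    rw [hg', ← MulAut.conj_apply, MulEquiv.orderOf_eq, hord]
  have hg'P : g' ∈ (P : Subgroup G) := by
    have hp : IsPGroup 2 ↥(Subgroup.zpowers g') :=
      IsPGroup.of_card (n := m) (by rw [Nat.card_zpowers, hord'])
    have hs : IsPGroup 2 ↥((P : Subgroup G) ⊔ Subgroup.zpowers g') := by
      refine P.isPGroup'.to_sup_of_normal_left' hp (Subgroup.zpowers_le.2 ?_)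
      exact Subgroup.centralizer_le_normalizer _
        (Subgroup.mem_centralizer_iff.2 fun q hq => (hcom q hq).eq.symm)
    exact P.is_maximal' hs le_sup_left ▸ Subgroup.mem_sup_right (Subgroup.mem_zpowers g')
  rcases hPdec g' hg'P with ⟨i, hi⟩ | ⟨i, hi⟩
  · have h1 := (hcom y hyP).eq
    rw [hi] at h1
    have h2 : (g ^ c) ^ i = g ^ i := by rw [← hc, conj_zpow, ← h1]; group
    rw [← zpow_natCast, ← zpow_mul, zpow_eq_zpow_iff_modEq, hord, Int.modEq_iff_dvd] at h2
    obtain ⟨o, ho, hodd'⟩ : ∃ o, c - 1 = 2 * o ∧ o % 2 = 1 :=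
      ⟨(c - 1) / 2, by omega, by omega⟩
    have h3 : ((2 ^ m : ℕ) : ℤ) ∣ (o : ℤ) * (2 * i) := by
      have : (o : ℤ) * (2 * i) = -(i - (c : ℤ) * i) := by
        have : (c : ℤ) = 2 * o + 1 := by omega
        rw [this]; ring
      rw [this]; exact (dvd_neg).2 h2
    have h4 := Int.dvd_of_dvd_mul_right_of_gcd_one h3 (by
      rw [Int.gcd_natCast_natCast]
      exact (Nat.coprime_two_left.2 (Nat.odd_iff.2 hodd')).pow_left m)
    have h5 : g' ^ 2 = 1 := by
      rw [hi, ← zpow_natCast, ← zpow_mul, ← orderOf_dvd_iff_zpow_eq_one, hord, mul_comm]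
      exact h4
    have := Nat.le_of_dvd two_pos (hord' ▸ orderOf_dvd_of_pow_eq_one h5)
    have : 2 ^ 2 ≤ 2 ^ m := Nat.pow_le_pow_right two_pos hm
    omega
  · have h1 := (hcom g hg).eq
    rw [hi] at h1
    have h2 : g ^ c = g := by
      rw [← hc]
      calc y * g * y⁻¹ = (g ^ i)⁻¹ * (g ^ i * y * g) * y⁻¹ := by group
        _ = g := by rw [h1]; group
    conv_rhs at h2 => rw [← pow_one g]
    rw [pow_eq_pow_iff_modEq, hord] at h2
    have h4 := h2.of_dvd (show (4 : ℕ) ∣ 2 ^ m from pow_dvd_pow 2 hm)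
    rw [Nat.ModEq, hc4] at h4
    omega

end Main

/-- Let G be a finite group with Sylow 2-subgroup P of order 2^n ≥ 8, and let ζ be a primitive 2^(n−1)-th root of unity in ℂ. Then the commutator subgroup of P has index 4 in P if and only if there is an element g of P whose conjugacy class in G has even size and such that the field generated over ℚ by the values at g of all irreducible complex characters of G equals ℚ(ζ + ζ⁻¹) or ℚ(ζ − ζ⁻¹). -/
theorem result {G : Type*} [Group G] [Finite G] (P : Sylow 2 G) (n : ℕ) (hn : 3 ≤ n) (hP : Nat.card P = 2 ^ n) (ζ : ℂ) (hζ : IsPrimitiveRoot ζ (2 ^ (n - 1))) :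
    (commutator ↥P).index = 4 ↔
      ∃ g : G, g ∈ (P : Subgroup G) ∧ 2 ∣ (Subgroup.centralizer ({g} : Set G)).index ∧
        (IntermediateField.adjoin ℚ {z : ℂ | ∃ χ : Cfsg.IrrCharacter G, (χ : G → ℂ) g = z} = IntermediateField.adjoin ℚ ({ζ + ζ⁻¹} : Set ℂ) ∨
          IntermediateField.adjoin ℚ {z : ℂ | ∃ χ : Cfsg.IrrCharacter G, (χ : G → ℂ) g = z} = IntermediateField.adjoin ℚ ({ζ - ζ⁻¹} : Set ℂ)) := by
  classical
  haveI : Fact (Nat.Prime 2) := ⟨Nat.prime_two⟩
  have hm0 : (2 : ℕ) ^ (n - 1) ≠ 0 := pow_ne_zero _ two_ne_zero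
  have hζ0 : ζ ≠ 0 := hζ.ne_zero hm0
  have halg : ∀ z : ℂ, z ^ 2 ^ (n - 1) = 1 → IsIntegral ℚ z := fun z hz =>
    (Cfsg.Agent.Char.isIntegral_of_pow_eq_one (Nat.pos_of_ne_zero hm0) hz).tower_top
  constructor
  · intro hci
    obtain ⟨a, ha⟩ := MaxClass.exists_cyclic_index_two n P hP hn hci
    have hao : orderOf a = 2 ^ (n - 1) := by
      have h := (Subgroup.zpowers a).card_mul_index
      rw [Nat.card_zpowers, ha, hP, show 2 ^ n = 2 ^ (n - 1) * 2 by
        rw [← pow_succ]; congr 1; omega] at h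
      exact Nat.eq_of_mul_eq_mul_right two_pos h
    obtain ⟨hidx, y, c, hy, hc, hdvd, hodd⟩ := exists_exponent hn hP hao
    have hc4 := mod_four_eq_three hn hP hao hci hy hc hodd hidx
    set g : G := (a : G)
    have hord : orderOf g = 2 ^ (n - 1) := by rw [Subgroup.orderOf_coe]; exact hao
    have hc' : (y : G) * g * (y : G)⁻¹ = g ^ c := congrArg Subtype.val hc
    have hy' : (y : G) ∉ Subgroup.zpowers g := by
      rintro ⟨i, hi⟩
      exact hy ⟨i, Subtype.ext (by simpa using hi)⟩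
    have hPdec : ∀ x ∈ (P : Subgroup G),
        (∃ i : ℤ, x = g ^ i) ∨ ∃ i : ℤ, x = g ^ i * (y : G) := by
      intro x hx
      by_cases h : (⟨x, hx⟩ : P) ∈ Subgroup.zpowers a
      · obtain ⟨i, hi⟩ := h
        exact Or.inl ⟨i, (congrArg Subtype.val hi).symm.trans (by simp [g])⟩
      · have : (⟨x, hx⟩ : P) * y⁻¹ ∈ Subgroup.zpowers a := by
          rw [Subgroup.mul_mem_iff_of_index_two hidx]; simp [h, hy]
        obtain ⟨i, hi⟩ := this
        refine Or.inr ⟨i, ?_⟩
        have h2 : g ^ i = x * (y : G)⁻¹ := by simpa [g] using congrArg Subtype.val hi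
        rw [h2, inv_mul_cancel_right]
    refine ⟨g, a.2, two_dvd_index P (by omega) a.2 y.2 hy' hord hc' hc4 hPdec, ?_⟩
    set S := {z : ℂ | ∃ χ : Cfsg.IrrCharacter G, (χ : G → ℂ) g = z}
    have hSalg : ∀ w ∈ S, IsAlgebraic ℚ w := by
      rintro _ ⟨χ, rfl⟩; exact isAlgebraic_value χ g
    have key : IntermediateField.adjoin ℚ S =
        IntermediateField.adjoin ℚ ({ζ + ζ ^ c} : Set ℂ) := by
      have hcc : c * c ≡ 1 [MOD 2 ^ (n - 1)] := by
        have h1 : 1 ≤ c * c := Nat.one_le_iff_ne_zero.2 (mul_ne_zero (by omega) (by omega))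
        refine ((Nat.modEq_iff_dvd' h1).2 ?_).symm
        rwa [show c * c - 1 = (c - 1) * (c + 1) by
          rw [Nat.mul_comm (c - 1), ← Nat.sq_sub_sq, one_pow, sq]]
      have hζcc : (ζ ^ c) ^ c = ζ := by
        rw [← pow_mul, pow_eq_pow_mod (c * c) hζ.pow_eq_one, hcc]
        rw [← pow_eq_pow_mod 1 hζ.pow_eq_one, pow_one]
      have hηalg : IsAlgebraic ℚ (ζ + ζ ^ c) :=
        ((halg _ hζ.pow_eq_one).add ((halg _ hζ.pow_eq_one).pow c)).isAlgebraic
      have hgm : g ^ 2 ^ (n - 1) = 1 := hord ▸ pow_orderOf_eq_one g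
      refine le_antisymm (IntermediateField.adjoin_le_iff.2 ?_)
        (IntermediateField.adjoin_simple_le_iff.2 ?_)
      · rintro _ ⟨χ, rfl⟩
        refine mem_adjoin_of_fixed hηalg (hSalg _ ⟨χ, rfl⟩) fun σ hσ => ?_
        obtain ⟨k, hk, hσk⟩ := CharGalois.exists_exponent σ.toRingHom hm0
        have hkodd : k % 2 = 1 := by
          have h2 : k.Coprime 2 := hk.coprime_dvd_right (dvd_pow_self 2 (by omega))
          exact Nat.odd_iff.1 (Nat.coprime_two_right.1 h2)
        have hχk : σ ((χ : G → ℂ) g) = (χ : G → ℂ) (g ^ k) := map_value χ σ.toRingHom g hgm hσk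
        have hs2 : (ζ ^ (c + 1)) ^ 2 = 1 := by
          rw [← pow_mul, hζ.pow_eq_one_iff_dvd, show (2 : ℕ) ^ (n - 1) = 2 ^ (n - 1 - 1) * 2 by
            rw [← pow_succ]; congr 1; omega]
          exact mul_dvd_mul_right (dvd_add_one (by omega) hc4 hdvd) 2
        have hsk : (ζ ^ (c + 1)) ^ k = ζ ^ (c + 1) := by
          conv_lhs => rw [← Nat.mod_add_div k 2, hkodd, pow_add, pow_mul, hs2, one_pow, mul_one,
            pow_one]
        have hprod : ζ ^ k * (ζ ^ c) ^ k = ζ * ζ ^ c := by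
          rw [← mul_pow, ← pow_succ', hsk]
        have hsum : ζ ^ k + (ζ ^ c) ^ k = ζ + ζ ^ c := by
          have e1 : σ ζ = ζ ^ k := hσk ζ hζ.pow_eq_one
          conv_rhs => rw [← hσ, map_add, map_pow, e1]
          ring
        have hcases : (ζ ^ k - ζ) * (ζ ^ k - ζ ^ c) = 0 := by
          linear_combination ζ ^ k * hsum - hprod
        have hgk : g ^ k = g ∨ g ^ k = g ^ c := by
          rcases mul_eq_zero.1 hcases with h | h
          · left
            conv_rhs => rw [← pow_one g]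
            rw [pow_eq_pow_iff_modEq, hord]
            conv_rhs at h => skip
            have h' : ζ ^ k = ζ ^ 1 := by rw [pow_one]; exact sub_eq_zero.1 h
            exact hζ.eq_orderOf ▸ (orderOf_pos_iff.1 (hζ.eq_orderOf ▸ Nat.pos_of_ne_zero hm0)).pow_eq_pow_iff_modEq.1 h'
          · right
            rw [pow_eq_pow_iff_modEq, hord]
            exact hζ.eq_orderOf ▸ (orderOf_pos_iff.1 (hζ.eq_orderOf ▸ Nat.pos_of_ne_zero hm0)).pow_eq_pow_iff_modEq.1 (sub_eq_zero.1 h)
        rcases hgk with h | h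
        · rw [hχk, h]
        · rw [hχk, h, ← hc']
          exact IsCharacter.isClassFunction (IsIrrCharacter.isCharacter χ.2) g (y : G)
      · refine mem_adjoin_set_of_fixed hSalg hηalg fun σ hσ => ?_
        obtain ⟨k, hk, hσk⟩ := CharGalois.exists_exponent σ.toRingHom hm0
        haveI := Fintype.ofFinite G
        obtain ⟨x, hx⟩ : ∃ x : G, x * g * x⁻¹ = g ^ k := isConj_iff.1
          ((isConj_iff_forall_irr _ _).2 fun χ =>
            (hσ _ ⟨χ, rfl⟩).symm.trans (map_value χ σ.toRingHom g hgm hσk))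
        have hζk : σ ζ = ζ ^ k := hσk ζ hζ.pow_eq_one
        rw [map_add, map_pow, hζk]
        rcases conj_pow_cases P a.2 hord hc' hPdec hx with h | h
        · replace h : g ^ k = g ^ 1 := h.trans (pow_one g).symm
          rw [pow_eq_pow_iff_modEq, hord] at h
          rw [pow_eq_pow_mod k hζ.pow_eq_one, h, ← pow_eq_pow_mod 1 hζ.pow_eq_one, pow_one]
        · rw [pow_eq_pow_iff_modEq, hord] at h
          rw [pow_eq_pow_mod k hζ.pow_eq_one, h, ← pow_eq_pow_mod c hζ.pow_eq_one, hζcc, add_comm]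
    rw [key]
    have hcd := dvd_add_one (by omega : 2 ≤ n - 1) hc4 hdvd
    obtain ⟨q, hq⟩ := hcd
    rcases Nat.even_or_odd q with ⟨r, rfl⟩ | ⟨r, rfl⟩
    · left
      have : ζ ^ c * ζ = 1 := by
        rw [← pow_succ, hζ.pow_eq_one_iff_dvd, hq, show (2 : ℕ) ^ (n - 1) = 2 ^ (n - 1 - 1) * 2 by
          rw [← pow_succ]; congr 1; omega]
        exact mul_dvd_mul_left _ ⟨r, by ring⟩
      rw [eq_inv_of_mul_eq_one_left this]
    · right
      have hhalf : ζ ^ 2 ^ (n - 1 - 1) = -1 :=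
        pow_half (by rwa [show n - 1 - 1 + 1 = n - 1 by omega])
      have : ζ ^ c * ζ = -1 := by
        rw [← pow_succ, hq, pow_mul, hhalf, pow_add, pow_mul]
        simp
      rw [show ζ ^ c = -ζ⁻¹ by field_simp; linear_combination this, ← sub_eq_add_neg]
  · rintro ⟨g, hgP, hgidx, hfield⟩
    have hnc : ∃ z ∈ (P : Subgroup G), ¬ Commute g z := by
      by_contra hall
      push Not at hall
      refine P.not_dvd_index (hgidx.trans (Subgroup.index_dvd_of_le fun z hz => ?_))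
      rw [Subgroup.mem_centralizer_singleton_iff]
      exact (hall z hz).eq.symm
    obtain ⟨z, hzP, hz⟩ := hnc
    set a : P := ⟨g, hgP⟩
    have hab : ¬ IsMulCommutative P := fun h => hz (congrArg Subtype.val (mul_comm' a ⟨z, hzP⟩) :)
    have hne : commutator P ≠ ⊥ := fun e => hab ⟨⟨fun u v => commutatorElement_eq_one_iff_mul_comm.1
      (Subgroup.mem_bot.1 (e ▸ Subgroup.commutator_mem_commutator (Subgroup.mem_top u)
        (Subgroup.mem_top v)))⟩⟩
    rcases Nat.eq_or_lt_of_le hn with rfl | hn4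
    · have h1 := MaxClass.sq_le_index_commutator (IsPGroup.of_card hP) hne
      have h2 := (commutator P).card_mul_index
      rw [hP] at h2
      have h3 : 2 ≤ Nat.card (commutator P) := by
        rcases Nat.lt_or_ge (Nat.card (commutator P)) 2 with h | h
        · exact absurd (Subgroup.card_eq_one.1 (by have := Nat.card_pos (α := commutator P); omega)) hne
        · exact h
      norm_num at h1
      rw [show (2 : ℕ) ^ 3 = 8 from rfl] at h2
      exact le_antisymm (Nat.le_of_mul_le_mul_left ((Nat.mul_le_mul_right _ h3).trans h2.le : _ ≤ 2 * 4) two_pos) h1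
    obtain ⟨η, ε, hε, hη, hK⟩ : ∃ η ε : ℂ, (ε = 1 ∨ ε = -1) ∧ η = ζ + ε * ζ⁻¹ ∧
        IntermediateField.adjoin ℚ {z : ℂ | ∃ χ : Cfsg.IrrCharacter G, (χ : G → ℂ) g = z} =
          IntermediateField.adjoin ℚ ({η} : Set ℂ) := by
      rcases hfield with h | h
      · exact ⟨_, 1, Or.inl rfl, (by rw [one_mul]), h⟩
      · exact ⟨_, -1, Or.inr rfl, (by ring), h⟩
    have hη0 : η ≠ 0 := by
      intro h0
      have h4 : ζ ^ 4 = 1 := by
        have h2 : ζ ^ 2 = -ε := by
          rw [hη] at h0; field_simp at h0; linear_combination h0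
        rw [show ζ ^ 4 = (ζ ^ 2) ^ 2 by ring, h2]
        rcases hε with rfl | rfl <;> norm_num
      have := Nat.le_of_dvd (by norm_num) ((hζ.pow_eq_one_iff_dvd 4).1 h4)
      have : 2 ^ 3 ≤ 2 ^ (n - 1) := Nat.pow_le_pow_right two_pos (by omega)
      omega
    have hfix : ∀ σ : ℂ ≃+* ℂ, (∀ χ : Cfsg.IrrCharacter G, σ ((χ : G → ℂ) g) = (χ : G → ℂ) g) →
        σ η = η := fun σ h => fixed_of_mem_adjoin_set σ (by rintro _ ⟨χ, rfl⟩; exact h χ)
          (hK ▸ IntermediateField.mem_adjoin_simple_self ℚ η)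
    -- an automorphism negating `ζ` moves `η`
    have hneg : ∀ k : ℕ, ζ ^ k = -ζ → (∀ χ : Cfsg.IrrCharacter G,
        (χ : G → ℂ) (g ^ k) = (χ : G → ℂ) g) → ∀ N, k.Coprime N → N ≠ 0 →
          2 ^ (n - 1) ∣ N → g ^ N = 1 → False := by
      intro k hk hv N hkN hN hdN hgN
      obtain ⟨σ, hσ⟩ := CharGalois.exists_galoisAut hN hkN
      have h1 : σ ζ = -ζ := by
        rw [hσ ζ ((hζ.pow_eq_one_iff_dvd N).2 hdN), hk]
      have h2 := hfix σ fun χ => (map_value χ σ.toRingHom g hgN hσ).trans (hv χ)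
      have hσε : σ ε = ε := by rcases hε with rfl | rfl <;> simp
      rw [hη, map_add, map_mul, map_inv₀, hσε, h1] at h2
      refine hη0 ?_
      rw [hη]
      linear_combination (norm := (field_simp; ring)) (-(1 : ℂ) / 2) * h2
    have hao : orderOf a = orderOf g := (Subgroup.orderOf_coe a).symm
    obtain ⟨j, hjn, hj⟩ := (Nat.dvd_prime_pow Nat.prime_two).1 (hP ▸ orderOf_dvd_natCard a)
    have hhalf : ζ ^ 2 ^ (n - 2) = -1 := pow_half (by rwa [show n - 2 + 1 = n - 1 by omega])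
    have hjeq : j = n - 1 := by
      rcases Nat.lt_trichotomy j (n - 1) with h | h | h
      · exfalso
        have hd2 : orderOf g ∣ 2 ^ (n - 2) := by
          rw [← hao, hj]; exact pow_dvd_pow 2 (by omega)
        refine hneg (1 + 2 ^ (n - 2)) (by rw [pow_add, pow_one, hhalf, mul_neg_one]) (fun χ => ?_)
          (2 ^ (n - 1)) ?_ hm0 dvd_rfl ?_
        · rw [pow_add, pow_one, orderOf_dvd_iff_pow_eq_one.1
            hd2, mul_one]
        · refine Nat.Coprime.pow_right _ (Nat.coprime_two_right.2 ?_)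
          exact Even.one_add (Nat.even_pow.2 ⟨even_two, by omega⟩)
        · exact orderOf_dvd_iff_pow_eq_one.1 (hd2.trans (pow_dvd_pow 2 (by omega)))
      · exact h
      · exfalso
        have hjn' : j = n := by omega
        haveI : IsCyclic P := isCyclic_of_orderOf_eq_card a (by rw [hj, hP, hjn'])
        exact hab inferInstance
    obtain ⟨hidx, y, c, hy, hc, hdvd, hodd⟩ := exists_exponent hn hP (hj.trans (by rw [hjeq]))
    refine index_eq_four hn hP (hj.trans (by rw [hjeq])) hc ?_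
    by_contra hc4
    have hgm : g ^ 2 ^ (n - 1) = 1 := by
      rw [← hjeq, ← hj, hao]; exact pow_orderOf_eq_one g
    have hc1 := dvd_sub_one (by omega : 2 ≤ n - 1) (by omega) hdvd
    obtain ⟨q, hq⟩ := hc1
    rcases Nat.even_or_odd q with ⟨r, rfl⟩ | ⟨r, rfl⟩
    · have hgc : g ^ c = g := by
        conv_rhs => rw [← pow_one g]
        rw [show c = c - 1 + 1 by omega, pow_add, hq,
          show 2 ^ (n - 1 - 1) * (r + r) = 2 ^ (n - 1) * r by
            rw [← two_mul, ← mul_assoc, ← pow_succ]; congr 2; omega, pow_mul, hgm, one_pow, one_mul]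
      have hay : Commute a y := by
        have h1 : y * a * y⁻¹ = a := hc.trans (Subtype.ext (by simpa [a] using hgc))
        exact (mul_inv_eq_iff_eq_mul.1 h1).symm
      have hzc : ∀ w : P, Commute a w := by
        intro w
        by_cases hw : w ∈ Subgroup.zpowers a
        · obtain ⟨i, rfl⟩ := hw; exact (Commute.refl a).zpow_right i
        · have : w * y⁻¹ ∈ Subgroup.zpowers a := by
            rw [Subgroup.mul_mem_iff_of_index_two hidx]; simp [hw, hy]
          obtain ⟨i, hi⟩ := this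
          rw [show w = a ^ i * y by simp [hi]]
          exact ((Commute.refl a).zpow_right i).mul_right hay
      exact hz (congrArg Subtype.val (hzc ⟨z, hzP⟩).eq :)
    · refine hneg c ?_ (fun χ => ?_) (2 ^ (n - 1)) ?_ hm0 dvd_rfl hgm
      · rw [show c = c - 1 + 1 by omega, pow_add, pow_one, hq, show n - 1 - 1 = n - 2 by omega,
          pow_mul, hhalf, pow_add, pow_mul]
        simp
      · rw [show g ^ c = (y : G) * g * (y : G)⁻¹ from (congrArg Subtype.val hc).symm]
        exact IsCharacter.isClassFunction (IsIrrCharacter.isCharacter χ.2) g (y : G)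
      · exact (Nat.coprime_two_right.2 (Nat.odd_iff.2 hodd)).pow_right _

end Cfsg.Agent.S4923
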