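import Cfsg.Statements.S4931
import Cfsg.Agent.Lib.Transfer.Tate
import Cfsg.Agent.Lib.Transfer.Basic
import Cfsg.Agent.Lib.Char.ItoPSolvable
import Cfsg.Agent.Lib.Char.Complete
import Cfsg.Agent.Lib.Solvable.NilpotentFrattini
import Mathlib.GroupTheory.Transfer
-- import your own Cfsg.Agent.* helpers here

set_option autoImplicit false
open Cfsg

open Cfsg.Agent.Char Cfsg.Agent.CharX
open scoped ComplexConjugate commutatorElement

namespace Cfsg.Agent.S4931

/-- Let G be a finite group, p a prime and P a Sylow p-subgroup of G with normalizer N. Then every irreducible complex character of N of degree not divisible by p is the restriction of an irreducible character of G if and only if there is a normal subgroup K of G with KN = G and K ∩ N = 1. -/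
theorem result {G : Type*} [Group G] [Finite G] (p : ℕ) [Fact p.Prime] (P : Sylow p G) :
    (∀ θ : Cfsg.IrrCharacter ↥(Subgroup.normalizer ((P : Subgroup G) : Set G)), ¬ p ∣ Cfsg.charDegree (θ : ↥(Subgroup.normalizer ((P : Subgroup G) : Set G)) → ℂ) →
        ∃ χ : Cfsg.IrrCharacter G, ∀ x : ↥(Subgroup.normalizer ((P : Subgroup G) : Set G)), (χ : G → ℂ) x = (θ : ↥(Subgroup.normalizer ((P : Subgroup G) : Set G)) → ℂ) x) ↔
      ∃ K : Subgroup G, K.Normal ∧ K ⊔ Subgroup.normalizer ((P : Subgroup G) : Set G) = ⊤ ∧ K ⊓ Subgroup.normalizer ((P : Subgroup G) : Set G) = ⊥ := by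
  classical
  haveI := Fintype.ofFinite G
  have hp : p.Prime := Fact.out
  set N := Subgroup.normalizer ((P : Subgroup G) : Set G) with hN
  haveI := Fintype.ofFinite ↥N
  constructor
  swap
  · rintro ⟨K, hK, hsup, hinf⟩ θ -
    haveI := hK
    have hb : Function.Bijective ((QuotientGroup.mk' K).comp N.subtype) := by
      refine ⟨?_, fun c => ?_⟩
      · rw [injective_iff_map_eq_one]
        intro a ha
        have h1 : (a : G) ∈ K ⊓ N := Subgroup.mem_inf.2 ⟨(QuotientGroup.eq_one_iff _).1 ha, a.2⟩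
        rw [hinf, Subgroup.mem_bot] at h1
        exact Subtype.ext h1
      · obtain ⟨g, rfl⟩ := QuotientGroup.mk_surjective c
        have hg : g ∈ K ⊔ N := hsup ▸ Subgroup.mem_top g
        rw [← SetLike.mem_coe, Subgroup.normal_mul] at hg
        obtain ⟨k, hk, n, hn, rfl⟩ := hg
        refine ⟨⟨n, hn⟩, ?_⟩
        show ((n : G) : G ⧸ K) = _
        rw [QuotientGroup.mk_mul, (QuotientGroup.eq_one_iff k).2 hk, one_mul]
    let e := MulEquiv.ofBijective _ hb
    refine ⟨⟨_, IsIrrCharacter.comp θ.2 (e.symm.toMonoidHom.comp (QuotientGroup.mk' K))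
      (e.symm.surjective.comp (QuotientGroup.mk'_surjective K))⟩, fun x => ?_⟩
    exact congrArg (θ : ↥N → ℂ) (e.symm_apply_apply x)
  intro h
  have hPN : (P : Subgroup G) ≤ N := Subgroup.le_normalizer
  set PN := (P : Subgroup G).subgroupOf N with hPNdef
  haveI hPNn : PN.Normal := Subgroup.normal_in_normalizer
  set D : Subgroup ↥N := ⁅PN, PN⁆ with hD
  haveI hDn : D.Normal := Subgroup.commutator_normal PN PN
  have hDle : D ≤ PN := Subgroup.commutator_le_left PN PN
  have hidx : ¬ p ∣ PN.index := fun hd => P.not_dvd_index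
    (hd.trans (Subgroup.relIndex_dvd_index_of_le hPN))
  have hdegD : ∀ ψ : Cfsg.IrrCharacter (↥N ⧸ D), ¬ p ∣ Cfsg.charDegree (infl D ψ : ↥N → ℂ) := by
    intro ψ hd
    haveI := Fintype.ofFinite (↥N ⧸ D)
    haveI : (PN.map (QuotientGroup.mk' D)).Normal := hPNn.map _ (QuotientGroup.mk'_surjective D)
    have hA : IsMulCommutative ↥(PN.map (QuotientGroup.mk' D)) := by
      refine .of_setLike_mul_comm fun a ha b hb => ?_
      obtain ⟨a, ha, rfl⟩ := ha
      obtain ⟨b, hb, rfl⟩ := hb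
      apply commutatorElement_eq_one_iff_mul_comm.1
      rw [← map_commutatorElement, QuotientGroup.mk'_apply, QuotientGroup.eq_one_iff]
      exact Subgroup.commutator_mem_commutator ha hb
    apply hidx
    have h1 := Ito.degree_dvd_index _ hA ψ
    rw [Subgroup.index_map_eq _ (QuotientGroup.mk'_surjective D)
      (by rw [QuotientGroup.ker_mk']; exact hDle)] at h1
    exact (hd.trans (by exact dvd_rfl)).trans h1
  have hdegP : ∀ ψ : Cfsg.IrrCharacter (↥N ⧸ PN), ¬ p ∣ Cfsg.charDegree (infl PN ψ : ↥N → ℂ) := by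
    intro ψ hd
    apply hidx
    rw [Subgroup.index_eq_card]
    exact (show p ∣ Cfsg.charDegree (ψ : ↥N ⧸ PN → ℂ) from hd).trans (irr_deg_dvd_card ψ)
  choose ext hext using h
  choose ker hkern hker _ _ using fun χ : Cfsg.IrrCharacter G => exists_ker χ
  -- the two normal subgroups
  set L : Subgroup G := ⨅ ψ : Cfsg.IrrCharacter (↥N ⧸ PN), ker (ext _ (hdegP ψ)) with hL
  set K : Subgroup G :=
    L ⊓ ⨅ ψ : Cfsg.IrrCharacter (↥N ⧸ D), ker (ext _ (hdegD ψ)) with hK
  haveI hLn : L.Normal := Subgroup.normal_iInf_normal fun ψ => hkern _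
  haveI : (⨅ ψ : Cfsg.IrrCharacter (↥N ⧸ D), ker (ext _ (hdegD ψ))).Normal :=
    Subgroup.normal_iInf_normal fun ψ => hkern _
  haveI hKn : K.Normal := inferInstance
  have hmem : ∀ (θ : Cfsg.IrrCharacter ↥N) (hθ) (x : ↥N),
      (x : G) ∈ ker (ext θ hθ) ↔ (θ : ↥N → ℂ) x = (θ : ↥N → ℂ) 1 := by
    intro θ hθ x
    rw [hker, hext, ← OneMemClass.coe_one (N), hext]
  have hLN : ∀ x : ↥N, (x : G) ∈ L → (x : G) ∈ (P : Subgroup G) := by
    intro x hx
    haveI := Fintype.ofFinite (↥N ⧸ PN)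
    have h1 : IsConj (QuotientGroup.mk' PN x) 1 := (isConj_iff_forall_irr _ _).2 fun ψ => by
      have := (hmem _ (hdegP ψ) x).1 (Subgroup.mem_iInf.1 hx ψ)
      exact this
    exact (QuotientGroup.eq_one_iff x).1 (isConj_one_left.1 h1)
  have hKN : ∀ x : ↥N, (x : G) ∈ K → x ∈ D := by
    intro x hx
    haveI := Fintype.ofFinite (↥N ⧸ D)
    have h1 : IsConj (QuotientGroup.mk' D x) 1 := (isConj_iff_forall_irr _ _).2 fun ψ => by
      have := (hmem _ (hdegD ψ) x).1 (Subgroup.mem_iInf.1 (Subgroup.mem_inf.1 hx).2 ψ)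
      exact this
    exact (QuotientGroup.eq_one_iff x).1 (isConj_one_left.1 h1)
  have hPL : (P : Subgroup G) ≤ L := fun a ha => Subgroup.mem_iInf.2 fun ψ => by
    refine (hmem _ (hdegP ψ) ⟨a, hPN ha⟩).2 ?_
    exact infl_trivialOn PN ψ _ ha
  have hDK : ∀ x : ↥N, x ∈ D → (x : G) ∈ K := fun x hx => Subgroup.mem_inf.2
    ⟨hPL (hDle hx), Subgroup.mem_iInf.2 fun ψ =>
      (hmem _ (hdegD ψ) x).2 (infl_trivialOn D ψ x hx)⟩
  -- the group `L`
  let PL : Sylow p ↥L := P.subtype hPL
  have hPLmem : ∀ x : ↥L, x ∈ (PL : Subgroup ↥L) ↔ (x : G) ∈ (P : Subgroup G) := fun x => Iff.rfl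
  set KL := K.subgroupOf L with hKL
  set π := QuotientGroup.mk' KL with hπ
  have hsurj : Function.Surjective π := QuotientGroup.mk'_surjective KL
  let PQ : Sylow p (↥L ⧸ KL) := PL.mapSurjective hsurj
  have hPQc : Subgroup.normalizer ((PQ : Subgroup (↥L ⧸ KL)) : Set (↥L ⧸ KL)) ≤
      Subgroup.centralizer ((PQ : Subgroup (↥L ⧸ KL)) : Set (↥L ⧸ KL)) := by
    intro c hc
    obtain ⟨b, rfl⟩ := hsurj c
    -- `b` lies in `P K`
    obtain ⟨a, ha, hab⟩ : ∃ a ∈ (PL : Subgroup ↥L), π a = π b := by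
      set M := (PL : Subgroup ↥L) ⊔ KL with hM
      have hMc : M = ((PQ : Subgroup (↥L ⧸ KL))).comap π := by
        rw [Sylow.coe_mapSurjective, Subgroup.comap_map_eq, QuotientGroup.ker_mk']
      have hPb : ((b • PL : Sylow p ↥L) : Subgroup ↥L) ≤ M := by
        intro y hy
        rw [Sylow.coe_subgroup_smul, Subgroup.mem_pointwise_smul_iff_inv_smul_mem] at hy
        rw [hMc, Subgroup.mem_comap]
        have h2 : π (b⁻¹ * y * b) ∈ (PQ : Subgroup (↥L ⧸ KL)) :=
          ⟨_, hy, by simp [MulAut.smul_def]⟩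
        have := (Subgroup.mem_normalizer_iff.1 hc _).1 h2
        simpa [mul_assoc] using this
      obtain ⟨m, hm⟩ := MulAction.exists_smul_eq ↥M ((b • PL).subtype hPb) (PL.subtype le_sup_left)
      rw [Sylow.smul_subtype] at hm
      have hm' := Sylow.subtype_injective hm
      rw [Subgroup.smul_def, smul_smul, Sylow.smul_eq_iff_mem_normalizer] at hm'
      have h3 : (m : ↥L) * b ∈ (PL : Subgroup ↥L) := by
        rw [hPLmem]
        refine hLN ⟨_, ?_⟩ (((m : ↥L) * b).2)
        rw [hN, Subgroup.mem_normalizer_iff]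
        intro y
        by_cases hy : y ∈ L
        · have := Subgroup.mem_normalizer_iff.1 hm' ⟨y, hy⟩
          exact this
        · refine ⟨fun h => absurd (hPL h) hy, fun h => absurd ?_ hy⟩
          have := hLn.conj_mem _ (hPL h) (((m : ↥L) * b : ↥L) : G)⁻¹
          simpa [mul_assoc] using this
      have h4 : b ∈ M := by
        have := mul_mem (inv_mem m.2) (Subgroup.mem_sup_left (T := KL) h3)
        rwa [inv_mul_cancel_left] at this
      rw [hMc, Subgroup.mem_comap] at h4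
      exact h4
    rw [← hab, Subgroup.mem_centralizer_iff]
    rintro _ ⟨y, hy, rfl⟩
    apply commutatorElement_eq_one_iff_mul_comm.1
    rw [← map_commutatorElement, hπ, QuotientGroup.mk'_apply, QuotientGroup.eq_one_iff]
    exact hDK ⁅(⟨(y : G), hPN hy⟩ : ↥N), ⟨(a : G), hPN ha⟩⁆
      (Subgroup.commutator_mem_commutator hy ha)
  have hRK : ∀ x : ↥L, x ∈ (PL : Subgroup ↥L) → x ∈ Cfsg.pResidual p ↥L → (x : G) ∈ K := by
    intro x hxP hxR
    have hle : Cfsg.pResidual p ↥L ≤ (MonoidHom.transferSylow PQ hPQc).ker.comap π := by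
      rw [Cfsg.pResidual, Subgroup.closure_le]
      intro g hg
      rw [SetLike.mem_coe, Subgroup.mem_comap, MonoidHom.mem_ker, ← orderOf_eq_one_iff]
      obtain ⟨n, hn⟩ := IsPGroup.iff_orderOf.1 PQ.isPGroup' (MonoidHom.transferSylow PQ hPQc (π g))
      refine Nat.eq_one_of_dvd_coprimes (Nat.Coprime.pow_right n hg) ?_ (dvd_of_eq hn)
      exact orderOf_map_dvd ((MonoidHom.transferSylow PQ hPQc).comp π) g
    have h1 : π x ∈ (MonoidHom.transferSylow PQ hPQc).ker ⊓ (PQ : Subgroup (↥L ⧸ KL)) :=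
      Subgroup.mem_inf.2 ⟨hle hxR, ⟨x, hxP, rfl⟩⟩
    rw [(MonoidHom.ker_transferSylow_isComplement' PQ hPQc).disjoint.eq_bot, Subgroup.mem_bot,
      hπ, QuotientGroup.mk'_apply, QuotientGroup.eq_one_iff] at h1
    exact h1
  haveI := PL.isPGroup'.isNilpotent
  have hfrat : (Cfsg.pResidual p ↥L).subgroupOf (PL : Subgroup ↥L) ≤ frattini ↥(PL : Subgroup ↥L) := by
    intro x hx
    have h1 := hKN ⟨((x : ↥L) : G), hPN x.2⟩ (hRK _ x.2 hx)
    apply SolvStruct.commutator_le_frattini ↥(PL : Subgroup ↥L)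
    have hinj : Function.Injective (L.subtype.comp (PL : Subgroup ↥L).subtype) :=
      L.subtype_injective.comp (Subgroup.subtype_injective _)
    rw [← Subgroup.mem_map_iff_mem hinj, commutator_def, Subgroup.map_commutator]
    have h2 : ((x : ↥L) : G) ∈ D.map N.subtype := ⟨_, h1, rfl⟩
    rw [hD, Subgroup.map_commutator, hPNdef, Subgroup.map_subgroupOf_eq_of_le hPN] at h2
    have e : (⊤ : Subgroup ↥(PL : Subgroup ↥L)).map (L.subtype.comp (PL : Subgroup ↥L).subtype) =
        (P : Subgroup G) := by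
      ext g
      constructor
      · rintro ⟨y, -, rfl⟩; exact y.2
      · exact fun hg => ⟨⟨⟨g, hPL hg⟩, hg⟩, trivial, rfl⟩
    rw [e]
    exact h2
  have hbot := (PBasic.hasNormalPComplement_iff_inf PL).1 (Tate.hasNormalPComplement PL hfrat)
  haveI := PBasic.pResidual_characteristic p ↥L
  refine ⟨(Cfsg.pResidual p ↥L).map L.subtype, inferInstance, ?_, ?_⟩
  · have h1 := Sylow.normalizer_sup_eq_top' P hPL
    replace h1 : N ⊔ L = ⊤ := h1
    rw [eq_top_iff, ← h1]
    refine sup_le le_sup_right ?_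
    have h2 := congrArg (Subgroup.map L.subtype) (PBasic.sylow_sup_pResidual PL)
    rw [Subgroup.map_sup, ← MonoidHom.range_eq_map, Subgroup.range_subtype] at h2
    conv_lhs => rw [← h2]
    refine sup_le (le_trans ?_ le_sup_right) le_sup_left
    rintro _ ⟨y, hy, rfl⟩
    exact hPN hy
  · rw [eq_bot_iff]
    intro g hg
    obtain ⟨⟨y, hy, rfl⟩, hgN⟩ := Subgroup.mem_inf.1 hg
    have h1 : y ∈ (PL : Subgroup ↥L) := hLN ⟨(y : G), hgN⟩ y.2
    have h2 : y ∈ Cfsg.pResidual p ↥L ⊓ (PL : Subgroup ↥L) := Subgroup.mem_inf.2 ⟨hy, h1⟩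
    rw [hbot, Subgroup.mem_bot] at h2
    rw [h2, Subgroup.mem_bot, map_one]

end Cfsg.Agent.S4931
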