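import Cfsg.Statements.S4930
import Cfsg.Agent.S4931
import Cfsg.Agent.Lib.Char.RealClassFix
import Cfsg.Agent.Lib.Char.ItoPSolvable
import Cfsg.Agent.Lib.Char.Orbit
import Cfsg.Agent.Lib.Char.GlaubermanMod
-- import your own Cfsg.Agent.* helpers here

set_option autoImplicit false
open Cfsg

open Cfsg.Agent.Char Cfsg.Agent.CharX
open scoped commutatorElement

namespace Cfsg.Agent.S4930

universe u

variable {G : Type u} [Group G] [Fintype G] {p : ℕ} [hp : Fact p.Prime]

/-- Characters of `p'`-degree are trivial on the derived group of a normal `p`-subgroup. -/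
theorem trivial_on_derived (A : Subgroup G) [A.Normal] (hA : IsPGroup p A)
    (θ : Cfsg.IrrCharacter G) (hθ : ¬ p ∣ Cfsg.charDegree (θ : G → ℂ)) :
    ∀ x ∈ (⁅A, A⁆ : Subgroup G), (θ : G → ℂ) x = (θ : G → ℂ) 1 := by
  classical
  haveI : Fintype A := Fintype.ofFinite A
  obtain ⟨φ, hφ⟩ := exists_restrict_constituent θ.2 A
  have hdvd := Ito.dvd_of_over A θ φ hφ
  obtain ⟨n, hn⟩ := IsPGroup.iff_card.1 hA
  obtain ⟨i, -, hi⟩ := (Nat.dvd_prime_pow hp.out).1 (hn ▸ irr_deg_dvd_card φ)
  have hi0 : i = 0 := by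
    by_contra h0
    exact hθ ((hi ▸ dvd_pow_self p h0).trans hdvd)
  have hφ1 : (φ : A → ℂ) 1 = 1 := by rw [irr_deg, hi, hi0, pow_zero, Nat.cast_one]
  have hlin : ∀ ψ ∈ conjOrbit A (φ : A → ℂ), ∀ a ∈ commutator A, ψ a = ψ 1 := by
    intro ψ hψ a ha
    obtain ⟨g, rfl⟩ := (mem_conjOrbit A).1 hψ
    obtain ⟨f, hf⟩ := exists_hom_of_degree_one
      (IsIrrCharacter.isCharacter (isIrrCharacter_conjChar A φ.2 g))
      (show conjChar A g (φ : A → ℂ) 1 = 1 by
        show (φ : A → ℂ) _ = 1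
        rw [← hφ1]; exact congrArg _ (map_one (conjHom A g)))
    rw [hf]
    show ((f a : ℂˣ) : ℂ) = ((f 1 : ℂˣ) : ℂ)
    rw [show f a = 1 from MonoidHom.mem_ker.1 (Abelianization.commutator_subset_ker f ha), map_one]
  intro x hx
  rw [← Subgroup.map_subtype_commutator] at hx
  obtain ⟨a, ha, rfl⟩ := hx
  have hc := clifford A θ.2 φ.2 hφ
  have h1 := congrFun hc a
  have h2 := congrFun hc 1
  simp only [Pi.smul_apply, Finset.sum_apply] at h1 h2
  rw [Finset.sum_congr rfl fun ψ hψ => hlin ψ hψ a ha] at h1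
  exact h1.trans h2.symm

/-- A normal subgroup meeting the normaliser of a Sylow `p`-subgroup trivially lies in the kernel
of every character of `p'`-degree. -/
theorem trivial_on_complement (P : Sylow p G) (K : Subgroup G) [K.Normal]
    (hcard : ¬ p ∣ Nat.card K)
    (hK : K ⊓ Subgroup.normalizer ((P : Subgroup G) : Set G) = ⊥) (χ : Cfsg.IrrCharacter G)
    (hχ : ¬ p ∣ Cfsg.charDegree (χ : G → ℂ)) :
    ∀ x ∈ K, (χ : G → ℂ) x = (χ : G → ℂ) 1 := by
  classical
  haveI : Fintype K := Fintype.ofFinite K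
  obtain ⟨φ, hφ⟩ := exists_restrict_constituent χ.2 K
  obtain ⟨e, he⟩ := IsCharacter.exists_classInner_nat
    (IsCharacter.restrict (IsIrrCharacter.isCharacter χ.2) K) (IsIrrCharacter.isCharacter φ.2)
  have hdeg := clifford_degree K χ.2 φ.2 hφ
  rw [he, irr_deg, irr_deg, ← Nat.cast_mul, ← Nat.cast_mul, Nat.cast_inj] at hdeg
  set I := inertia K (φ : K → ℂ) with hI
  have hidx : ¬ p ∣ I.index := fun h =>
    hχ (hdeg ▸ (h.trans (dvd_mul_left _ e)).trans (dvd_mul_right _ _))
  let S : Sylow p I := default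
  have hS : ¬ p ∣ ((S : Subgroup I).map I.subtype).index := by
    rw [Subgroup.index_map_subtype]
    exact fun h => ((Nat.Prime.dvd_mul hp.out).1 h).elim S.not_dvd_index hidx
  obtain ⟨g, hg⟩ := MulAction.exists_smul_eq G ((S.isPGroup'.map I.subtype).toSylow hS) P
  set η : Cfsg.IrrCharacter K := RealClassFix.cj K g⁻¹ φ with hη
  have hfix : ∀ a ∈ (P : Subgroup G), RealClassFix.cj K a η = η := by
    intro a ha
    rw [← hg] at ha
    rw [Sylow.coe_subgroup_smul, Subgroup.mem_pointwise_smul_iff_inv_smul_mem] at ha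
    obtain ⟨b, -, hb⟩ := (IsPGroup.mem_toSylow _ _).1 ha
    have hb' : (b : G) = g⁻¹ * a * g := by
      rw [show ((b : I) : G) = I.subtype b from rfl, hb]
      simp [MulAut.smul_def]
    rw [hη, ← RealClassFix.cj_mul, show g⁻¹ * a = (b : G) * g⁻¹ by rw [hb']; group,
      RealClassFix.cj_mul]
    exact congrArg (RealClassFix.cj K g⁻¹) (Subtype.ext ((mem_inertia K).1 b.2))
  -- `η` is trivial
  have hη1 : (η : K → ℂ) = fun _ => 1 := by
    by_contra hne
    obtain ⟨M, hM⟩ := GlaubermanMod.exists_isPModular p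
    have hpk : ∀ a : AlgInt ⧸ M, p • a = 0 := fun a => by
      rw [nsmul_eq_mul, ← map_natCast (Ideal.Quotient.mk M),
        Ideal.Quotient.eq_zero_iff_mem.2 hM.2.2, zero_mul]
    let f : K → AlgInt ⧸ M := fun x => if x = 1 then 0 else RealClassFix.chv K M η x
    letI : MulAction ↥(P : Subgroup G) K :=
      { smul := fun a c => conjHom K (a : G) c
        one_smul := fun c => conjHom_one K c
        mul_smul := fun a b c => conjHom_mul K _ _ c }
    have hsum : ∑ x : K, f x = 0 := by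
      refine RealClassFix.sum_eq_zero_of_pGroup P.isPGroup' hpk f (fun a c => ?_) (fun c hc => ?_)
      · show (if conjHom K (a : G) c = 1 then (0 : AlgInt ⧸ M)
          else RealClassFix.chv K M η (conjHom K (a : G) c)) = _
        rw [← RealClassFix.chv_cj, hfix a a.2]
        refine if_congr ⟨fun h => ?_, fun h => by rw [h, map_one]⟩ rfl rfl
        have := congrArg (conjHom K (a : G)⁻¹) h
        rwa [← conjHom_mul, inv_mul_cancel, conjHom_one, map_one] at this
      · have hc1 : (c : G) ∈ K ⊓ Subgroup.normalizer ((P : Subgroup G) : Set G) := by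
          have hcom : ∀ a ∈ (P : Subgroup G), Commute (c : G) a := fun a ha => by
            have h := congrArg Subtype.val (hc ⟨a, ha⟩)
            change a * (c : G) * a⁻¹ = c at h
            exact (mul_inv_eq_iff_eq_mul.1 h).symm
          refine Subgroup.mem_inf.2 ⟨c.2, Subgroup.mem_normalizer_iff.2 fun a => ⟨fun ha => ?_,
            fun ha => ?_⟩⟩
          · rw [(hcom a ha).eq, mul_inv_cancel_right]; exact ha
          · have h := (hcom _ ha).eq
            have e1 : (c : G) * a * (c : G)⁻¹ = a := by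
              have := congrArg (fun y => (c : G)⁻¹ * y) h
              simpa [mul_assoc] using this
            rwa [e1] at ha
        rw [hK, Subgroup.mem_bot] at hc1
        show (if c = 1 then (0 : AlgInt ⧸ M) else _) = 0
        rw [if_pos (Subtype.ext hc1)]
    have horth : ∑ x : K, RealClassFix.chv K M η x = 0 := by
      have h := RealClassFix.chv_row K M η ⟨fun _ => 1, isIrrCharacter_one⟩
      rw [if_neg (fun h => hne (congrArg Subtype.val h))] at h
      rw [← h]
      refine Finset.sum_congr rfl fun x _ => ?_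
      rw [show RealClassFix.chv K M ⟨fun _ => 1, isIrrCharacter_one⟩ x⁻¹ = 1 from
        (congrArg (Ideal.Quotient.mk M) (Subtype.ext rfl)).trans (map_one _), mul_one]
    have h1 : RealClassFix.chv K M η 1 = 0 := by
      rw [← Finset.add_sum_erase _ _ (Finset.mem_univ (1 : K))] at horth hsum
      simp only [f, if_pos] at hsum
      rw [Finset.sum_congr rfl fun x hx => if_neg (Finset.ne_of_mem_erase hx), zero_add] at hsum
      rwa [hsum, add_zero] at horth
    rw [show RealClassFix.chv K M η 1 = ((Cfsg.charDegree (η : K → ℂ) : ℕ) : AlgInt ⧸ M) from by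
      rw [← map_natCast (Ideal.Quotient.mk M)]
      exact congrArg (Ideal.Quotient.mk M) (Subtype.ext (by push_cast; exact irr_deg η))] at h1
    exact RealClassFix.natCast_ne_zero M hM (fun h => hcard (h.trans (irr_deg_dvd_card η))) h1
  have hφ1 : (φ : K → ℂ) = fun _ => 1 := by
    funext x
    obtain ⟨y, rfl⟩ := conjHom_surjective K g⁻¹ x
    exact congrFun hη1 y
  rw [hφ1] at hφ
  exact fun x hx => restrict_over_one K χ.2 hφ ⟨x, hx⟩

/-- Let G be a finite group, P a Sylow 2-subgroup of G with normalizer N, and P′ the commutator subgroup of P. Then the sum of the squares of the degrees of the irreducible complex characters of G of odd degree is at least the index of P′ in N (the order of N divided by the order of P′), and equality holds if and only if N has a normal complement in G: a normal subgroup K of G with K ∩ N = 1 and KN = G. -/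
theorem result {G : Type*} [Group G] [Finite G] (P : Sylow 2 G) :
    Nat.card (Subgroup.normalizer ((P : Subgroup G) : Set G)) ≤ Nat.card (commutator ↥P) * (∑ᶠ χ : {χ : Cfsg.IrrCharacter G // ¬ 2 ∣ Cfsg.charDegree (χ : G → ℂ)}, Cfsg.charDegree (χ.1 : G → ℂ) ^ 2) ∧
    (Nat.card (Subgroup.normalizer ((P : Subgroup G) : Set G)) = Nat.card (commutator ↥P) * (∑ᶠ χ : {χ : Cfsg.IrrCharacter G // ¬ 2 ∣ Cfsg.charDegree (χ : G → ℂ)}, Cfsg.charDegree (χ.1 : G → ℂ) ^ 2) ↔
      ∃ K : Subgroup G, K.Normal ∧ K ⊓ Subgroup.normalizer ((P : Subgroup G) : Set G) = ⊥ ∧ K ⊔ Subgroup.normalizer ((P : Subgroup G) : Set G) = ⊤) := by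
  classical
  haveI := Fintype.ofFinite G
  set N := Subgroup.normalizer ((P : Subgroup G) : Set G) with hN
  haveI := Fintype.ofFinite ↥N
  have hPN : (P : Subgroup G) ≤ N := Subgroup.le_normalizer
  set PN := (P : Subgroup G).subgroupOf N with hPNdef
  haveI hPNn : PN.Normal := Subgroup.normal_in_normalizer
  have hPNp : IsPGroup 2 PN := P.isPGroup'.comap_of_injective N.subtype N.subtype_injective
  set D : Subgroup ↥N := ⁅PN, PN⁆ with hD
  haveI hDn : D.Normal := Subgroup.commutator_normal PN PN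
  have hDle : D ≤ PN := Subgroup.commutator_le_left PN PN
  have hidxN : ¬ 2 ∣ N.index := fun h => P.not_dvd_index (h.trans (Subgroup.index_dvd_of_le hPN))
  have hidx : ¬ 2 ∣ PN.index := fun hd => P.not_dvd_index
    (hd.trans (Subgroup.relIndex_dvd_index_of_le hPN))
  haveI := Fintype.ofFinite (↥N ⧸ D)
  have hcardD : Nat.card D = Nat.card (commutator ↥(P : Subgroup G)) := by
    rw [← Subgroup.card_map_of_injective N.subtype_injective,
      ← Subgroup.card_map_of_injective (K := commutator ↥(P : Subgroup G))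
        (Subgroup.subtype_injective (P : Subgroup G)), Subgroup.map_subtype_commutator, hD,
      Subgroup.map_commutator, hPNdef, Subgroup.map_subgroupOf_eq_of_le hPN]
  set s := Finset.univ.filter
    (fun θ : Cfsg.IrrCharacter ↥N => ∀ x ∈ D, (θ : ↥N → ℂ) x = (θ : ↥N → ℂ) 1) with hs
  have hmem : ∀ θ : Cfsg.IrrCharacter ↥N,
      θ ∈ s ↔ ∀ x ∈ D, (θ : ↥N → ℂ) x = (θ : ↥N → ℂ) 1 := fun θ => by simp [hs]
  have hsum : ∑ θ ∈ s, Cfsg.charDegree (θ : ↥N → ℂ) ^ 2 = D.index := by
    rw [sum_trivialOn' D s hmem (fun f => Cfsg.charDegree f ^ 2), Subgroup.index_eq_card,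
      ← sum_deg_sq (G := ↥N ⧸ D)]
    exact Finset.sum_congr rfl fun χ _ => rfl
  have hodd : ∀ θ ∈ s, ¬ 2 ∣ Cfsg.charDegree (θ : ↥N → ℂ) := by
    intro θ hθ hd
    obtain ⟨⟨ψ, hψ⟩⟩ : Nonempty {ψ : Cfsg.IrrCharacter (↥N ⧸ D) // infl D ψ = θ} := by
      obtain ⟨ψ, hψ⟩ := (quotEquiv D).surjective ⟨θ, (hmem θ).1 hθ⟩
      exact ⟨⟨ψ, congrArg Subtype.val hψ⟩⟩
    subst hψ
    haveI : (PN.map (QuotientGroup.mk' D)).Normal := hPNn.map _ (QuotientGroup.mk'_surjective D)
    have hA : IsMulCommutative ↥(PN.map (QuotientGroup.mk' D)) := by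
      refine .of_setLike_mul_comm fun a ha b hb => ?_
      obtain ⟨a, ha, rfl⟩ := ha
      obtain ⟨b, hb, rfl⟩ := hb
      apply commutatorElement_eq_one_iff_mul_comm.1
      rw [← map_commutatorElement, QuotientGroup.mk'_apply, QuotientGroup.eq_one_iff]
      exact Subgroup.commutator_mem_commutator ha hb
    apply hidx
    have h1 := Ito.degree_dvd_index _ hA ψ
    rw [Subgroup.index_map_eq _ (QuotientGroup.mk'_surjective D)
      (by rw [QuotientGroup.ker_mk']; exact hDle)] at h1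
    exact (show 2 ∣ Cfsg.charDegree (ψ : ↥N ⧸ D → ℂ) from hd).trans h1
  choose c hc using fun (χ : Cfsg.IrrCharacter G) (θ : Cfsg.IrrCharacter ↥N) =>
    IsCharacter.exists_classInner_nat (IsCharacter.restrict (IsIrrCharacter.isCharacter χ.2) N)
      (IsIrrCharacter.isCharacter θ.2)
  set O := Finset.univ.filter
    (fun χ : Cfsg.IrrCharacter G => ¬ 2 ∣ Cfsg.charDegree (χ : G → ℂ)) with hO
  have hO' : ∀ χ, χ ∈ O ↔ ¬ 2 ∣ Cfsg.charDegree (χ : G → ℂ) := fun χ => by simp [hO]
  have hfin : (∑ᶠ χ : {χ : Cfsg.IrrCharacter G // ¬ 2 ∣ Cfsg.charDegree (χ : G → ℂ)},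
      Cfsg.charDegree (χ.1 : G → ℂ) ^ 2) = ∑ χ ∈ O, Cfsg.charDegree (χ : G → ℂ) ^ 2 := by
    haveI : Fintype {χ : Cfsg.IrrCharacter G // ¬ 2 ∣ Cfsg.charDegree (χ : G → ℂ)} :=
      Fintype.ofFinite _
    rw [finsum_eq_sum_of_fintype,
      Finset.sum_subtype O hO' (fun χ => Cfsg.charDegree (χ : G → ℂ) ^ 2)]
  have hcardD' : Nat.card D = Nat.card (commutator ↥P) := hcardD
  rw [hfin, ← Subgroup.card_mul_index D, hcardD', Nat.mul_le_mul_left_iff Nat.card_pos,
    Nat.mul_left_cancel_iff Nat.card_pos]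
  set A : Cfsg.IrrCharacter ↥N → ℕ :=
    fun θ => ∑ χ ∈ O, Cfsg.charDegree (χ : G → ℂ) * c χ θ with hA
  -- an odd constituent over each character in `s`
  have hex : ∀ θ ∈ s, ∃ χ ∈ O, c χ θ ≠ 0 := by
    intro θ hθ
    by_contra hcon
    push Not at hcon
    obtain ⟨m, hm⟩ := IsCharacter.exists_decomp
      (isCharacter_indFun N (IsIrrCharacter.isCharacter θ.2))
    have hmc : ∀ χ, m χ = c χ θ := fun χ => by
      have h1 := classInner_combination (fun χ => (m χ : ℂ)) χ
      rw [← hm, classInner_indFun_left N _ (IsCharacter.isClassFunction (IsIrrCharacter.isCharacter χ.2)),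
        classInner_comm_of_isCharacter (IsIrrCharacter.isCharacter θ.2)
          (IsCharacter.restrict (IsIrrCharacter.isCharacter χ.2) N), hc, Nat.cast_inj] at h1
      exact h1.symm
    have h1 := congrFun hm 1
    rw [indFun_one_apply] at h1
    simp only [Finset.sum_apply, Pi.smul_apply, smul_eq_mul, irr_deg] at h1
    have h2 : N.index * Cfsg.charDegree (θ : ↥N → ℂ) = ∑ χ, m χ * Cfsg.charDegree (χ : G → ℂ) := by
      exact_mod_cast h1
    have h3 : 2 ∣ N.index * Cfsg.charDegree (θ : ↥N → ℂ) := by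
      rw [h2]
      refine Finset.dvd_sum fun χ _ => ?_
      by_cases hd : 2 ∣ Cfsg.charDegree (χ : G → ℂ)
      · exact dvd_mul_of_dvd_right hd _
      · rw [hmc, hcon χ ((hO' χ).2 hd), zero_mul]; exact dvd_zero 2
    exact ((Nat.Prime.dvd_mul Nat.prime_two).1 h3).elim hidxN (hodd θ hθ)
  have hle : ∀ (χ : Cfsg.IrrCharacter G) (θ : Cfsg.IrrCharacter ↥N), c χ θ ≠ 0 →
      Cfsg.charDegree (θ : ↥N → ℂ) ≤ Cfsg.charDegree (χ : G → ℂ) := fun χ θ h =>
    degree_le_of_constituent (IsCharacter.restrict (IsIrrCharacter.isCharacter χ.2) N) θ.2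
      (by rw [hc]; exact Nat.cast_ne_zero.2 h) (irr_deg χ) (irr_deg θ)
  have hA1 : ∀ θ ∈ s, Cfsg.charDegree (θ : ↥N → ℂ) ≤ A θ := by
    intro θ hθ
    obtain ⟨χ, hχ, hne⟩ := hex θ hθ
    refine ((hle χ θ hne).trans (Nat.le_mul_of_pos_right _ (Nat.pos_of_ne_zero hne))).trans ?_
    exact Finset.single_le_sum (f := fun χ : Cfsg.IrrCharacter G => Cfsg.charDegree (χ : G → ℂ) * c χ θ)
      (fun _ _ => Nat.zero_le _) hχ
  have hB : ∑ θ ∈ s, Cfsg.charDegree (θ : ↥N → ℂ) * A θ ≤
      ∑ χ ∈ O, Cfsg.charDegree (χ : G → ℂ) ^ 2 := by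
    simp only [hA, Finset.mul_sum]
    rw [Finset.sum_comm]
    refine Finset.sum_le_sum fun χ _ => ?_
    have h := sum_constituents_le (IsCharacter.restrict (IsIrrCharacter.isCharacter χ.2) N) s
      (c χ) (fun θ _ => hc χ θ) (fun θ => Cfsg.charDegree (θ : ↥N → ℂ)) irr_deg
      (Cfsg.charDegree (χ : G → ℂ)) (irr_deg χ)
    rw [sq]
    refine le_trans (le_of_eq ?_) (Nat.mul_le_mul_left _ h)
    rw [Finset.mul_sum]
    exact Finset.sum_congr rfl fun θ _ => by ring
  have hC : D.index ≤ ∑ θ ∈ s, Cfsg.charDegree (θ : ↥N → ℂ) * A θ := by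
    rw [← hsum]
    exact Finset.sum_le_sum fun θ hθ => by rw [sq]; exact Nat.mul_le_mul_left _ (hA1 θ hθ)
  refine ⟨hC.trans hB, fun heq => ?_, ?_⟩
  · -- equality gives extensions
    have hall : ∀ θ ∈ s, ∃ χ : Cfsg.IrrCharacter G,
        ∀ x : ↥N, (χ : G → ℂ) x = (θ : ↥N → ℂ) x := by
      intro θ hθ
      obtain ⟨χ, hχ, hne⟩ := hex θ hθ
      have hAeq : A θ = Cfsg.charDegree (θ : ↥N → ℂ) := by
        refine le_antisymm (not_lt.1 fun hlt => ?_) (hA1 θ hθ)
        have hd : 0 < Cfsg.charDegree (θ : ↥N → ℂ) := irr_deg_pos θ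
        have h1 := Finset.sum_lt_sum
          (f := fun θ : Cfsg.IrrCharacter ↥N => Cfsg.charDegree (θ : ↥N → ℂ) ^ 2)
          (g := fun θ : Cfsg.IrrCharacter ↥N => Cfsg.charDegree (θ : ↥N → ℂ) * A θ)
          (fun θ hθ => by rw [sq]; exact Nat.mul_le_mul_left _ (hA1 θ hθ))
          ⟨θ, hθ, by rw [sq]; exact Nat.mul_lt_mul_of_pos_left hlt hd⟩
        rw [hsum] at h1
        omega
      have h2 := hle χ θ hne
      have h3 : Cfsg.charDegree (χ : G → ℂ) ≤ A θ :=
        (Nat.le_mul_of_pos_right _ (Nat.pos_of_ne_zero hne)).trans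
          (Finset.single_le_sum (f := fun χ : Cfsg.IrrCharacter G => Cfsg.charDegree (χ : G → ℂ) * c χ θ)
            (fun _ _ => Nat.zero_le _) hχ)
      refine ⟨χ, fun x => ?_⟩
      refine congrFun (eq_of_constituent_degree
        (IsCharacter.restrict (IsIrrCharacter.isCharacter χ.2) N) θ.2
        (by rw [hc]; exact Nat.cast_ne_zero.2 hne) ?_) x
      show (χ : G → ℂ) 1 = _
      rw [irr_deg, irr_deg]
      exact congrArg _ (le_antisymm (hAeq ▸ h3) h2)
    obtain ⟨K, hK, h1, h2⟩ := (Cfsg.Agent.S4931.result 2 P).1 fun θ hθ =>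
      hall θ ((hmem θ).2 (trivial_on_derived PN hPNp θ hθ))
    exact ⟨K, hK, h2, h1⟩
  · rintro ⟨K, hK, hinf, hsup⟩
    haveI := hK
    have hcardK : ¬ 2 ∣ Nat.card K := by
      have h1 : N.index = Nat.card K :=
        (Subgroup.isComplement'_of_disjoint_and_mul_eq_univ (disjoint_iff.2 hinf)
          (by rw [← Subgroup.normal_mul, hsup, Subgroup.coe_top])).index_eq_card
      exact h1 ▸ hidxN
    choose ext hext using fun θ : {θ : Cfsg.IrrCharacter ↥N // θ ∈ s} =>
      (Cfsg.Agent.S4931.result 2 P).2 ⟨K, hK, hsup, hinf⟩ θ.1 (hodd θ.1 θ.2)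
    rw [← hsum, ← Finset.sum_attach s]
    have hdecG : ∀ g : G, ∃ k ∈ K, ∃ n ∈ N, g = k * n := by
      intro g
      have hg : g ∈ K ⊔ N := hsup ▸ Subgroup.mem_top g
      rw [← SetLike.mem_coe, Subgroup.normal_mul] at hg
      obtain ⟨k, hk, n, hn, e⟩ := hg
      exact ⟨k, hk, n, hn, e.symm⟩
    -- characters trivial on `K` are determined on `N`
    have hval : ∀ χ ∈ O, ∀ (g : G) (k : G), k ∈ K → ∀ n : ↥N, g = k * n →
        (χ : G → ℂ) g = (χ : G → ℂ) n := by
      intro χ hχ g k hk n e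
      obtain ⟨Z, -, hZ, hZm⟩ := IsCharacter.exists_kernel (IsIrrCharacter.isCharacter χ.2)
      rw [e, hZm k ((hZ k).2 (trivial_on_complement P K hcardK hinf χ ((hO' χ).1 hχ) k hk))]
    have hextO : ∀ θ, ext θ ∈ O := fun θ => by
      rw [hO']
      have h1 : Cfsg.charDegree (ext θ : G → ℂ) = Cfsg.charDegree (θ.1 : ↥N → ℂ) := by
        have h := hext θ 1
        rw [OneMemClass.coe_one, irr_deg, irr_deg, Nat.cast_inj] at h
        exact h
      exact h1 ▸ hodd θ.1 θ.2
    refine Finset.sum_bij (fun θ _ => ext θ) (fun θ _ => hextO θ) (fun a _ b _ hab => ?_)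
      (fun χ hχ => ?_) (fun θ _ => ?_)
    · exact Subtype.ext (Subtype.ext (funext fun x => by rw [← hext a, ← hext b, hab]))
    · have hrc := IsCharacter.restrict (IsIrrCharacter.isCharacter χ.2) N
      have hirr : Cfsg.IsIrrCharacter ↥N (fun x : ↥N => (χ : G → ℂ) x) := by
        have hb : Function.Bijective ((QuotientGroup.mk' K).comp N.subtype) := by
          refine ⟨?_, fun q => ?_⟩
          · rw [injective_iff_map_eq_one]
            intro a ha
            have h1 : (a : G) ∈ K ⊓ N :=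
              Subgroup.mem_inf.2 ⟨(QuotientGroup.eq_one_iff _).1 ha, a.2⟩
            rw [hinf, Subgroup.mem_bot] at h1
            exact Subtype.ext h1
          · obtain ⟨g, rfl⟩ := QuotientGroup.mk_surjective q
            obtain ⟨k, hk, n, hn, rfl⟩ := hdecG g
            refine ⟨⟨n, hn⟩, ?_⟩
            show ((n : G) : G ⧸ K) = _
            rw [QuotientGroup.mk_mul, (QuotientGroup.eq_one_iff k).2 hk, one_mul]
        obtain ⟨χ', -, he, hirr⟩ := IsCharacter.deflate (IsIrrCharacter.isCharacter χ.2) K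
          (trivial_on_complement P K hcardK hinf χ ((hO' χ).1 hχ))
        have := IsIrrCharacter.comp (hirr χ.2) ((QuotientGroup.mk' K).comp N.subtype) hb.2
        convert this using 1
        funext x
        exact (he x).symm
      have hθs : (⟨_, hirr⟩ : Cfsg.IrrCharacter ↥N) ∈ s := (hmem _).2 (trivial_on_derived PN hPNp _ (by
        have h1 : Cfsg.charDegree (fun x : ↥N => (χ : G → ℂ) x) = Cfsg.charDegree (χ : G → ℂ) := rfl
        exact h1 ▸ (hO' χ).1 hχ))
      refine ⟨⟨_, hθs⟩, Finset.mem_attach _ _, Subtype.ext (funext fun g => ?_)⟩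
      obtain ⟨k, hk, n, hn, e⟩ := hdecG g
      rw [hval _ (hextO _) g k hk ⟨n, hn⟩ e, hext, hval χ hχ g k hk ⟨n, hn⟩ e]
    · have h := hext θ 1
      rw [OneMemClass.coe_one, irr_deg, irr_deg, Nat.cast_inj] at h
      rw [h]

end Cfsg.Agent.S4930
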