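import Cfsg.Statements.S4937
import Cfsg.Agent.Lib.Blocks.PrincipalExtend
open Cfsg.Agent.Char Cfsg.Agent.CharX Cfsg.Agent.Blocks

set_option autoImplicit false
open Cfsg

namespace Cfsg.Agent.S4937

/-- Let G be a finite group, p a prime, M a maximal ideal of the algebraic integers containing p, N a normal subgroup of G and P a Sylow p-subgroup of N such that G = N·C_G(P). Let θ be an irreducible character in the principal p-block of N that is the restriction of some irreducible character of G. Then θ is the restriction of an irreducible character χ of G lying in the principal p-block of G such that, for every subgroup J of G containing N, the restriction of χ to J is an irreducible character of J lying in the principal p-block of J. -/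
theorem result {G : Type*} [Group G] [Finite G] (p : ℕ) [Fact p.Prime] (M : Ideal Cfsg.AlgInt) (hM : Cfsg.IsPModular p M) (N : Subgroup G) [N.Normal] (P : Sylow p ↥N)
    (hcov : N ⊔ Subgroup.centralizer (((P : Subgroup ↥N).map N.subtype : Subgroup G) : Set G) = ⊤)
    (θ : Cfsg.IrrCharacter ↥N) (hθ : θ ∈ Cfsg.principalBlock M ↥N)
    (hext : ∃ ψ : Cfsg.IrrCharacter G, ∀ x : ↥N, (ψ : G → ℂ) x = (θ : ↥N → ℂ) x) :
    ∃ χ : Cfsg.IrrCharacter G, χ ∈ Cfsg.principalBlock M G ∧ (∀ x : ↥N, (χ : G → ℂ) x = (θ : ↥N → ℂ) x) ∧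
      ∀ J : Subgroup G, N ≤ J → ∃ ξ : Cfsg.IrrCharacter ↥J, ξ ∈ Cfsg.principalBlock M ↥J ∧ ∀ y : ↥J, (ξ : ↥J → ℂ) y = (χ : G → ℂ) y := by
  classical
  haveI := Fintype.ofFinite G
  haveI := Fintype.ofFinite N
  haveI := hM.2.1.isPrime
  obtain ⟨ψ, hψ⟩ := hext
  obtain ⟨Λ, hΛroot, hΛ⟩ := PrincExt.exists_lift N ψ θ hψ hθ hM P hcov
  -- the twisted character
  let lam : G →* ℂ :=
    { toFun := fun g => Λ ((g : G ⧸ N)⁻¹)
      map_one' := by rw [QuotientGroup.mk_one, inv_one, map_one]
      map_mul' := fun a b => by rw [QuotientGroup.mk_mul, mul_inv_rev, map_mul, mul_comm] }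
  set f : G → ℂ := (ψ : G → ℂ) * fun g => lam g with hf
  have hfc : Cfsg.IsCharacter G f :=
    IsCharacter.mul (IsIrrCharacter.isCharacter ψ.2) (PrincExt.isCharacter_of_hom lam)
  have hfN : ∀ x : N, f x = (θ : N → ℂ) x := fun x => by
    show (ψ : G → ℂ) x * Λ ((x : G) : G ⧸ N)⁻¹ = _
    rw [(QuotientGroup.eq_one_iff (x : G)).2 x.2, inv_one, map_one, mul_one, hψ]
  have hlam : ∀ g, lam g * (starRingEnd ℂ) (lam g) = 1 := fun g => by
    obtain ⟨m, hm, hpow⟩ := hΛroot ((g : G ⧸ N)⁻¹)
    rw [Complex.mul_conj, Complex.normSq_eq_norm_sq,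
      Complex.norm_eq_one_of_pow_eq_one (show lam g ^ m = 1 from hpow) hm]
    simp
  have hfirr : Cfsg.IsIrrCharacter G f := by
    refine IsCharacter.isIrr_of_norm_one hfc ?_
    refine Eq.trans ?_ (classInner_self_irr ψ.2)
    simp only [Cfsg.classInner, hf, Pi.mul_apply, map_mul]
    refine congrArg _ (Finset.sum_congr rfl fun g _ => ?_)
    rw [mul_mul_mul_comm, hlam, mul_one]
  -- every subgroup above `N`
  have hJ : ∀ J : Subgroup G, N ≤ J → ∃ ξ : Cfsg.IrrCharacter J, ξ ∈ Cfsg.principalBlock M J ∧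
      ∀ z : J, (ξ : J → ℂ) z = f z := by
    intro J hNJ
    haveI := Fintype.ofFinite J
    have hξc : Cfsg.IsCharacter J (fun z : J => f z) := IsCharacter.restrict hfc J
    obtain ⟨φ, hφ⟩ := IsCharacter.exists_constituent hξc (fun h => by
      have := congrFun h (1 : J)
      simp only [OneMemClass.coe_one, Pi.zero_apply] at this
      exact IsIrrCharacter.one_ne_zero hfirr this)
    -- the constituent has the full degree
    have hdeg : Cfsg.charDegree (θ : N → ℂ) ≤ Cfsg.charDegree (φ : J → ℂ) := by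
      obtain ⟨m, hm⟩ := IsCharacter.exists_decomp hξc
      have hres : (fun x : N => (φ : J → ℂ) ⟨x, hNJ x.2⟩) ≠ 0 := fun h => by
        have := congrFun h (1 : N)
        exact IsIrrCharacter.one_ne_zero φ.2 this
      have hresc : Cfsg.IsCharacter N (fun x : N => (φ : J → ℂ) ⟨x, hNJ x.2⟩) := by
        obtain ⟨d, ρ, -, hρ⟩ := φ.2
        exact ⟨d, ρ.comp (Subgroup.inclusion hNJ), funext fun x => by rw [← hρ]; rfl⟩
      obtain ⟨β, hβ⟩ := IsCharacter.exists_constituent hresc hres
      have hmφ : m φ ≠ 0 := fun h => hφ (by rw [hm, classInner_combination, h, Nat.cast_zero])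
      choose k hk using fun χ : Cfsg.IrrCharacter J =>
        (show ∃ k : ℕ, Cfsg.classInner (fun x : N => (χ : J → ℂ) ⟨x, hNJ x.2⟩) (β : N → ℂ) = k from
          IsCharacter.exists_classInner_nat (by
            obtain ⟨d, ρ, -, hρ⟩ := χ.2
            exact ⟨d, ρ.comp (Subgroup.inclusion hNJ), funext fun x => by rw [← hρ]; rfl⟩)
            (IsIrrCharacter.isCharacter β.2))
      have hsum : Cfsg.classInner (θ : N → ℂ) (β : N → ℂ) =
          ((∑ χ : Cfsg.IrrCharacter J, m χ * k χ : ℕ) : ℂ) := by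
        have hdec : (θ : N → ℂ) =
            ∑ χ : Cfsg.IrrCharacter J, (m χ : ℂ) • fun x : N => (χ : J → ℂ) ⟨x, hNJ x.2⟩ := by
          funext x
          have := congrFun hm ⟨x, hNJ x.2⟩
          simp only [Finset.sum_apply, Pi.smul_apply] at this ⊢
          rw [← this, ← hfN]
        rw [hdec, classInner_sum_left, Nat.cast_sum]
        exact Finset.sum_congr rfl fun χ _ => by rw [classInner_smul_left, hk, Nat.cast_mul]
      have hne : Cfsg.classInner (θ : N → ℂ) (β : N → ℂ) ≠ 0 := by
        rw [hsum, Nat.cast_ne_zero]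
        intro h
        rcases Nat.mul_eq_zero.1 ((Finset.sum_eq_zero_iff.1 h) φ (Finset.mem_univ φ)) with e | e
        · exact hmφ e
        · exact hβ (by rw [hk, e, Nat.cast_zero])
      have hθβ : (θ : N → ℂ) = (β : N → ℂ) :=
        by_contra fun h => hne (classInner_irr_of_ne θ.2 β.2 h)
      refine degree_le_of_constituent hresc β.2 hβ ?_ ?_
      · show (φ : J → ℂ) 1 = _
        exact irr_deg φ
      · rw [← hθβ, irr_deg]
    have hfd : (fun z : J => f z) 1 = (Cfsg.charDegree (θ : N → ℂ) : ℂ) := by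
      rw [← irr_deg, ← hfN]; rfl
    have heq : (fun z : J => f z) = (φ : J → ℂ) := by
      obtain ⟨m, hm⟩ := IsCharacter.exists_decomp hξc
      have hmφ : 1 ≤ m φ := Nat.one_le_iff_ne_zero.2 fun h => hφ (by
        rw [hm, classInner_combination, h, Nat.cast_zero])
      have h1 : Cfsg.charDegree (θ : N → ℂ) =
          ∑ χ : Cfsg.IrrCharacter J, m χ * Cfsg.charDegree (χ : J → ℂ) := by
        have := congrFun hm 1
        simp only [Finset.sum_apply, Pi.smul_apply, smul_eq_mul, irr_deg] at this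
        rw [show f ((1 : J) : G) = (Cfsg.charDegree (θ : N → ℂ) : ℂ) from hfd] at this
        exact_mod_cast this
      have hsum := Finset.add_sum_erase Finset.univ (fun χ : Cfsg.IrrCharacter J =>
        m χ * Cfsg.charDegree (χ : J → ℂ)) (Finset.mem_univ φ)
      have h2 : Cfsg.charDegree (φ : J → ℂ) ≤ m φ * Cfsg.charDegree (φ : J → ℂ) :=
        Nat.le_mul_of_pos_left _ hmφ
      have hz : ∀ χ, χ ≠ φ → m χ = 0 := by
        intro χ hχ
        have hle := Finset.single_le_sum (f := fun χ : Cfsg.IrrCharacter J =>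
          m χ * Cfsg.charDegree (χ : J → ℂ)) (fun _ _ => Nat.zero_le _)
          (Finset.mem_erase.2 ⟨hχ, Finset.mem_univ χ⟩)
        exact (Nat.mul_eq_zero.1 (by omega : m χ * Cfsg.charDegree (χ : J → ℂ) = 0)).resolve_right
          (irr_deg_pos χ).ne'
      have hone : m φ = 1 := by
        have hle : m φ * Cfsg.charDegree (φ : J → ℂ) ≤ 1 * Cfsg.charDegree (φ : J → ℂ) := by omega
        exact le_antisymm (Nat.le_of_mul_le_mul_right hle (irr_deg_pos φ)) hmφ
      rw [hm, Finset.sum_eq_single φ (fun χ _ hχ => by rw [hz χ hχ, Nat.cast_zero, zero_smul])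
        (fun hn => absurd (Finset.mem_univ φ) hn), hone, Nat.cast_one, one_smul]
    refine ⟨φ, fun z => ?_, fun z => (congrFun heq z).symm⟩
    -- the central character of the class of `z`
    set w : G → ℤ := fun g => if h : g ∈ J then (if IsConj z ⟨g, h⟩ then 1 else 0) else 0 with hw
    have hinv : PrincExt.Inv N w := by
      intro n hn g
      simp only [hw]
      by_cases hg : g ∈ J
      · have hg' := mul_mem (mul_mem (hNJ hn) hg) (inv_mem (hNJ hn))
        have hc : IsConj (⟨g, hg⟩ : J) ⟨n * g * n⁻¹, hg'⟩ := isConj_iff.2 ⟨⟨n, hNJ hn⟩, rfl⟩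
        rw [dif_pos hg', dif_pos hg]
        exact if_congr ⟨fun h => h.trans hc.symm, fun h => h.trans hc⟩ rfl rfl
      · rw [dif_neg hg, dif_neg]
        intro h
        apply hg
        have := mul_mem (mul_mem (inv_mem (hNJ hn)) h) (hNJ hn)
        simpa [mul_assoc] using this
    haveI : Fintype (G ⧸ N) := Fintype.ofFinite _
    let part : G ⧸ N → G → ℤ := fun c g => if (g : G ⧸ N) = c then w g else 0
    have hpart : MemLocalIdeal M (∑ c : G ⧸ N,
        (Λ c⁻¹ * PrincExt.gval (ψ : G → ℂ) (part c) - (PrincExt.aug (part c) : ℂ))) := by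
      refine memLocalIdeal_sum _ _ fun c _ => hΛ c _ (fun n hn g => ?_) (fun g hg => ?_)
      · simp only [part, hinv n hn g, QuotientGroup.mk_mul, QuotientGroup.mk_inv,
          (QuotientGroup.eq_one_iff n).2 hn, one_mul, inv_one, mul_one]
      · by_contra h; exact hg (if_neg h)
    have hval : ∑ c : G ⧸ N,
        (Λ c⁻¹ * PrincExt.gval (ψ : G → ℂ) (part c) - (PrincExt.aug (part c) : ℂ)) =
        ∑ g : G, (w g : ℂ) * (f g / f 1 - 1) := by
      simp only [PrincExt.gval, PrincExt.aug, Int.cast_sum, Finset.mul_sum,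
        ← Finset.sum_sub_distrib]
      rw [Finset.sum_comm]
      refine Finset.sum_congr rfl fun g _ => ?_
      rw [Finset.sum_eq_single (g : G ⧸ N) (fun c _ hc => by simp [part, Ne.symm hc]) (by simp)]
      simp only [part, if_pos rfl]
      show _ = (w g : ℂ) * ((ψ : G → ℂ) g * Λ (g : G ⧸ N)⁻¹ / ((ψ : G → ℂ) 1 * Λ ((1 : G) : G ⧸ N)⁻¹) - 1)
      rw [QuotientGroup.mk_one, inv_one, map_one, mul_one]
      ring
    rw [hval] at hpart
    have hJsum : ∑ g : G, (w g : ℂ) * (f g / f 1 - 1) =
        ∑ x ∈ classFinset z, (f (x : G) / f 1 - 1) := by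
      rw [classFinset, Finset.sum_filter,
        ← Finset.sum_subset (Finset.subset_univ (Finset.univ.filter fun g => g ∈ J)) (fun g _ hg => by
          have : g ∉ J := fun h => hg (Finset.mem_filter.2 ⟨Finset.mem_univ _, h⟩)
          simp [hw, this]),
        ← Finset.sum_subtype_eq_sum_filter, Finset.subtype_univ]
      refine Finset.sum_congr rfl fun x _ => ?_
      simp only [hw, dif_pos x.2]
      split_ifs with h1 <;> simp
    rw [hJsum, sum_char_class (χ := fun x : J => f (x : G) / f 1 - 1) (fun a b => by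
      show f ↑(b * a * b⁻¹) / f 1 - 1 = _
      rw [Subgroup.coe_mul, Subgroup.coe_mul, Subgroup.coe_inv,
        IsCharacter.isClassFunction hfc (a : G) (b : G)]) z] at hpart
    have h3 := MemLocalIdeal.neg hpart
    convert h3 using 1
    rw [Cfsg.centralChar, Cfsg.centralChar, ← congrFun heq z, ← congrFun heq 1, OneMemClass.coe_one]
    ring
  obtain ⟨ξ, hξ, hξf⟩ := hJ ⊤ le_top
  refine ⟨⟨f, hfirr⟩, ?_, hfN, fun J hNJ => hJ J hNJ⟩
  intro g
  have h := hξ ⟨g, Subgroup.mem_top g⟩
  have hidx : (Subgroup.centralizer ({⟨g, Subgroup.mem_top g⟩} : Set (⊤ : Subgroup G))).index =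
      (Subgroup.centralizer ({g} : Set G)).index := by
    rw [← Subgroup.index_comap_of_surjective (f := (Subgroup.topEquiv (G := G)).toMonoidHom)
      (Subgroup.centralizer ({g} : Set G)) (Subgroup.topEquiv (G := G)).surjective]
    congr 1
    ext x
    simp only [Subgroup.mem_comap, Subgroup.mem_centralizer_singleton_iff]
    exact ⟨fun h => congrArg Subtype.val h, fun h => Subtype.ext h⟩
  simp only [Cfsg.centralChar, hidx, hξf] at h ⊢
  exact h

end Cfsg.Agent.S4937
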