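import Cfsg.Statements.S4955
import Cfsg.Agent.Lib.KGV.Frame
-- import your own Cfsg.Agent.* helpers here

set_option autoImplicit false
open Cfsg

open Cfsg.Agent Cfsg.Agent.Char
open scoped ComplexConjugate

namespace Cfsg.Agent.S4955

/-- Let X be a finite group with an abelian normal Sylow p-subgroup V (a normal p-subgroup of index prime to p in which any two elements commute), and let G be a complement to V in X. Then for every v in V, writing C for the centralizer of v in G, the number k(X) of conjugacy classes of X satisfies k(X) ≤ (order of C)·(order of V) − ((order of G) − k(G)); the statement is written with the subtracted term moved to the left. In particular, if some v in V is centralized by no nonidentity element of G, then k(X) is at most the order of V. -/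
theorem result {X : Type*} [Group X] [Finite X] (p : ℕ) [Fact p.Prime] (V : Subgroup X) [V.Normal] (hVp : IsPGroup p V) (hidx : ¬ p ∣ V.index) (hab : ∀ a ∈ V, ∀ b ∈ V, a * b = b * a) (G : Subgroup X) (hGV : Subgroup.IsComplement' V G) (v : X) (hv : v ∈ V) : Nat.card (ConjClasses X) + Nat.card G ≤ Nat.card ↥(G ⊓ Subgroup.centralizer ({v} : Set X)) * Nat.card V + Nat.card (ConjClasses G) := by
  classical
  haveI := Fintype.ofFinite X
  set C : Subgroup X := G ⊓ Subgroup.centralizer ({v} : Set X) with hC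
  haveI : Fintype C := Fintype.ofFinite _
  have hcop : (Nat.card V).Coprime (Nat.card G) := by
    obtain ⟨a, ha⟩ := IsPGroup.iff_card.1 hVp
    rw [ha, ← hGV.symm.index_eq_card]
    exact Nat.Coprime.pow_left _ ((Fact.out : p.Prime).coprime_iff_not_dvd.2 hidx)
  -- the projection onto the complement
  let e : G ≃* X ⧸ V := hGV.symm.QuotientMulEquiv.symm
  let π : X →* G := (e.symm.toMonoidHom).comp (QuotientGroup.mk' V)
  have hπG : ∀ y : G, π (y : X) = y := fun y => e.symm_apply_apply y
  have hπV : ∀ x ∈ V, π x = 1 := fun x hx => by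
    show e.symm (QuotientGroup.mk x) = 1
    rw [(QuotientGroup.eq_one_iff x).2 hx, map_one]
  have hsurj : Function.Surjective π := fun y => ⟨y, hπG y⟩
  let S : Finset (Cfsg.IrrCharacter X) :=
    Finset.univ.filter fun χ => ∀ x ∈ V, (χ : X → ℂ) x = (χ : X → ℂ) 1
  have hfac : ∀ χ ∈ S, ∀ x : X, (χ : X → ℂ) x = (χ : X → ℂ) (π x : G) := fun χ hχ x => by
    obtain ⟨χ', -, hval, -⟩ := IsCharacter.deflate (IsIrrCharacter.isCharacter χ.2) V
      (Finset.mem_filter.1 hχ).2
    rw [← hval, ← hval]
    refine congrArg χ' ?_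
    show QuotientGroup.mk x = e (e.symm (QuotientGroup.mk x))
    rw [e.apply_symm_apply]
  have hres : ∀ χ ∈ S, Cfsg.IsIrrCharacter G (fun y : G => (χ : X → ℂ) y) := fun χ hχ => by
    obtain ⟨χ', -, hval, hirr⟩ := IsCharacter.deflate (IsIrrCharacter.isCharacter χ.2) V
      (Finset.mem_filter.1 hχ).2
    have := IsIrrCharacter.comp (hirr χ.2) e.toMonoidHom e.surjective
    exact (funext fun y : G => hval y) ▸ this
  let E : {χ // χ ∈ S} ≃ Cfsg.IrrCharacter G :=
    { toFun := fun χ => ⟨fun y => (χ.1 : X → ℂ) y, hres χ.1 χ.2⟩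
      invFun := fun θ => ⟨⟨fun x => (θ : G → ℂ) (π x), IsIrrCharacter.comp θ.2 π hsurj⟩,
        Finset.mem_filter.2 ⟨Finset.mem_univ _, fun x hx => by
          show (θ : G → ℂ) (π x) = (θ : G → ℂ) (π 1)
          rw [hπV x hx, map_one]⟩⟩
      left_inv := fun χ => Subtype.ext (Subtype.ext (funext fun x => (hfac χ.1 χ.2 x).symm))
      right_inv := fun θ => Subtype.ext (funext fun y => by
        show (θ : G → ℂ) (π (y : X)) = _
        rw [hπG]) }
  have hScard : S.card = Nat.card (ConjClasses G) := by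
    rw [← card_irrCharacter, Nat.card_eq_fintype_card, ← Fintype.card_congr E, Fintype.card_coe]
  have hSsum : ∑ χ ∈ S, ‖(χ : X → ℂ) v‖ ^ 2 = (Nat.card G : ℝ) := by
    rw [← Finset.sum_coe_sort]
    calc ∑ χ : {χ // χ ∈ S}, ‖(χ.1 : X → ℂ) v‖ ^ 2
        = ∑ θ : Cfsg.IrrCharacter G, (Cfsg.charDegree (θ : G → ℂ) : ℝ) ^ 2 := by
          refine Fintype.sum_equiv E _ _ fun χ => ?_
          have h1 : (χ.1 : X → ℂ) v = ((E χ : Cfsg.IrrCharacter G) : G → ℂ) 1 :=
            ((Finset.mem_filter.1 χ.2).2 v hv).trans rfl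
          rw [h1, CharX.irr_deg, Complex.norm_natCast]
      _ = (Nat.card G : ℝ) := by exact_mod_cast CharX.sum_deg_sq (G := G)
  have htot : ∑ χ : Cfsg.IrrCharacter X, ‖(χ : X → ℂ) v‖ ^ 2 = (Nat.card C * Nat.card V : ℝ) := by
    have hg : Cfsg.IsClassFunction C (fun h => if h = 1 then (Nat.card C : ℂ) else 0) := by
      intro a b
      simp only [show b * a * b⁻¹ = 1 ↔ a = 1 from conj_eq_one_iff]
    have h := KGV.sum_normSq_L (C := C) hab hcop hGV hv hC hg
    have hfix : KGV.fixCard V (1 : X) = Nat.card V :=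
      Nat.card_congr (Equiv.subtypeUnivEquiv fun w => by simp)
    simp only [KGV.L, mul_ite, mul_zero, Finset.sum_ite_eq', Finset.mem_univ, if_true,
      OneMemClass.coe_one, mul_one, apply_ite norm, norm_zero, ite_pow, ite_mul, zero_mul,
      ne_eq, OfNat.ofNat_ne_zero, not_false_eq_true, zero_pow, Complex.norm_natCast] at h
    rw [Finset.sum_congr rfl fun χ _ => ?_] at h
    · rw [h, hfix, sq, mul_assoc, inv_mul_cancel_left₀ (Nat.cast_ne_zero.2 Nat.card_pos.ne')]
    · rw [mul_comm ((χ : X → ℂ) v), inv_mul_cancel_left₀ (Nat.cast_ne_zero.2 Nat.card_pos.ne')]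
  have hrest : (Sᶜ.card : ℝ) ≤ ∑ χ ∈ Sᶜ, ‖(χ : X → ℂ) v‖ ^ 2 := by
    refine CharGalois.card_le_sum_normSq Sᶜ (fun χ => (χ : X → ℂ) v)
      (fun χ _ => IsCharacter.isIntegral (IsIrrCharacter.isCharacter χ.2) v)
      (fun χ _ => KGV.char_ne_zero hab hVp hidx χ.2 hv) fun σ => ?_
    rw [map_prod]
    refine Finset.prod_equiv (KGV.twistPerm σ) (fun χ => ?_) (fun χ _ => rfl)
    simp only [Finset.mem_compl, S, Finset.mem_filter, Finset.mem_univ, true_and,
      KGV.twistPerm_apply, σ.injective.eq_iff]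
  have hk : (Nat.card (ConjClasses X) : ℝ) = (S.card : ℝ) + (Sᶜ.card : ℝ) := by
    rw [← card_irrCharacter, Nat.card_eq_fintype_card, ← Finset.card_add_card_compl S, Nat.cast_add]
  rw [← Finset.sum_add_sum_compl S, hSsum] at htot
  have hfin : (Nat.card (ConjClasses X) : ℝ) + Nat.card G ≤
      (Nat.card C : ℝ) * Nat.card V + Nat.card (ConjClasses G) := by
    rw [hk, hScard]
    linarith
  exact_mod_cast hfin

end Cfsg.Agent.S4955
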