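import Cfsg.Statements.S4956
import Mathlib.Tactic.Group
import Mathlib.GroupTheory.GroupAction.CardCommute
import Mathlib.GroupTheory.GroupAction.Quotient
import Mathlib.GroupTheory.Complement
import Mathlib.GroupTheory.Index
import Mathlib.GroupTheory.SchurZassenhaus
import Mathlib.Algebra.BigOperators.Ring.Finset
import Mathlib.Algebra.Group.Subgroup.Finite
import Mathlib.Tactic.Ring
-- import your own Cfsg.Agent.* helpers here

set_option autoImplicit false
open Cfsg

namespace Cfsg.Agent.S4956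

/-- Fixed points and commutator image of a commutative group of coprime order on an abelian group:
the kernel of the pair map has order `|V|` times the number of common fixed points. -/
lemma kerCard {V : Type*} [CommGroup V] [Finite V] {M : Type*} [Group M] (θ : M →* MulAut V)
    (g h : M) (hgh : g * h = h * g) [Finite M] (hcop : (Nat.card V).Coprime (Nat.card M)) :
    Nat.card {vw : V × V // vw.1 * θ g vw.2 = vw.2 * θ h vw.1} =
      Nat.card V * Nat.card {v : V // θ g v = v ∧ θ h v = v} := by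
  classical
  let A : Subgroup M := Subgroup.closure {g, h}
  haveI : Fintype A := Fintype.ofFinite _
  let L : V × V →* V :=
    MonoidHom.mk' (fun vw => vw.1 * θ g vw.2 * (vw.2 * θ h vw.1)⁻¹) (fun a b => by
      simp only [Prod.fst_mul, Prod.snd_mul, map_mul, mul_inv]
      ac_rfl)
  let e : V →* V := ∏ a : A, (θ (a : M)).toMonoidHom
  have he : ∀ v, e v = ∏ a : A, θ (a : M) v := fun v => by
    simp only [e, MonoidHom.finsetProd_apply]; rfl
  have hAcard : Fintype.card A = Nat.card A := (Nat.card_eq_fintype_card).symm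
  have hcopA : (Nat.card V).Coprime (Fintype.card A) := by
    rw [hAcard]; exact hcop.coprime_dvd_right A.card_subgroup_dvd_card
  have hpow : Function.Bijective (fun v : V => v ^ Fintype.card A) := (powCoprime hcopA).bijective
  let C : Subgroup V :=
    { carrier := {v | θ g v = v ∧ θ h v = v}
      one_mem' := ⟨map_one _, map_one _⟩
      mul_mem' := fun ha hb => ⟨by rw [map_mul, ha.1, hb.1], by rw [map_mul, ha.2, hb.2]⟩
      inv_mem' := fun ha => ⟨by rw [map_inv, ha.1], by rw [map_inv, ha.2]⟩ }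
  have hfix : ∀ v ∈ C, ∀ a ∈ A, θ a v = v := by
    intro v hv a ha
    refine Subgroup.closure_induction (p := fun x _ => θ x v = v) ?_ (by simp) ?_ ?_ ha
    · intro x hx
      rcases hx with rfl | rfl
      · exact hv.1
      · exact hv.2
    · intro x y _ _ hx hy
      rw [map_mul, MulAut.mul_apply, hy, hx]
    · intro x _ hx
      rw [map_inv]
      conv_lhs => rw [← hx]
      exact (θ x).symm_apply_apply v
  have heC : ∀ v, ∀ a : A, θ (a : M) (e v) = e v := by
    intro v a
    rw [he, map_prod]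
    refine Fintype.prod_equiv (Equiv.mulLeft a) _ _ (fun b => ?_)
    simp only [Equiv.coe_mulLeft, Subgroup.coe_mul, map_mul, MulAut.mul_apply]
  have hrangee : e.range = C := by
    apply le_antisymm
    · rintro _ ⟨v, rfl⟩
      exact ⟨heC v ⟨g, Subgroup.subset_closure (by simp)⟩, heC v ⟨h, Subgroup.subset_closure (by simp)⟩⟩
    · intro v hv
      obtain ⟨w, hw⟩ := hpow.2 v
      have hwC : w ∈ C := by
        constructor <;> apply hpow.1 <;> simp only [← map_pow] <;> simp only at hw <;> rw [hw]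
        · exact hv.1
        · exact hv.2
      refine ⟨w, ?_⟩
      rw [he, Finset.prod_congr rfl (fun (a : A) _ => hfix w hwC a a.2), Finset.prod_const]
      exact hw
  have hkere : e.ker = L.range := by
    have hmove : ∀ a ∈ A, ∀ v, θ a v * v⁻¹ ∈ L.range := by
      intro a ha
      refine Subgroup.closure_induction (p := fun x _ => ∀ v, θ x v * v⁻¹ ∈ L.range) ?_ (by simp) ?_ ?_ ha
      · intro x hx v
        rcases hx with rfl | rfl
        · refine ⟨(1, v), ?_⟩
          simp [L]
        · refine ⟨(v⁻¹, 1), ?_⟩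
          simp [L, mul_comm]
      · intro x y _ _ hx hy v
        have := mul_mem (hx (θ y v)) (hy v)
        rwa [map_mul, MulAut.mul_apply, show θ x (θ y v) * v⁻¹ = θ x (θ y v) * (θ y v)⁻¹ * (θ y v * v⁻¹) by group]
      · intro x _ hx v
        have := inv_mem (hx (θ x⁻¹ v))
        rw [map_inv] at this ⊢
        simpa [mul_comm] using this
    have hev : ∀ (x : M), x ∈ A → ∀ v, e (θ x v) = e v := by
      intro x hx v
      rw [he, he]
      refine Fintype.prod_equiv (Equiv.mulRight ⟨x, hx⟩) _ _ (fun b => ?_)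
      simp only [Equiv.coe_mulRight, Subgroup.coe_mul, map_mul, MulAut.mul_apply]
    apply le_antisymm
    · intro v hv
      obtain ⟨w, hw⟩ := hpow.2 v
      simp only at hw
      have h1 : e v * (v ^ Fintype.card A)⁻¹ ∈ L.range := by
        rw [he, ← Finset.card_univ, ← Finset.prod_const, ← Finset.prod_inv_distrib, ← Finset.prod_mul_distrib]
        exact Subgroup.prod_mem _ (fun a _ => hmove a a.2 v)
      rw [MonoidHom.mem_ker.mp hv, one_mul, inv_mem_iff] at h1
      obtain ⟨m, hm⟩ := (powCoprime hcopA).surjective v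
      have hco : (orderOf v).Coprime (Fintype.card A) := hcopA.coprime_dvd_left (orderOf_dvd_natCard v)
      obtain ⟨k, hk⟩ := exists_pow_eq_self_of_coprime hco.symm
      rw [← hk]
      exact pow_mem h1 k
    · rintro _ ⟨⟨v, w⟩, rfl⟩
      rw [MonoidHom.mem_ker]
      simp only [L, MonoidHom.mk'_apply, map_mul, map_inv]
      rw [hev g (Subgroup.subset_closure (by simp)), hev h (Subgroup.subset_closure (by simp))]
      rw [mul_comm (e v), mul_inv_cancel]
  have hsub : Nat.card {vw : V × V // vw.1 * θ g vw.2 = vw.2 * θ h vw.1} = Nat.card L.ker :=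
    Nat.card_congr (Equiv.subtypeEquivRight (fun vw => by
      rw [MonoidHom.mem_ker]; exact mul_inv_eq_one.symm))
  have h1 : Nat.card L.ker * Nat.card L.range = Nat.card V * Nat.card V := by
    rw [← Nat.card_prod V V, ← L.ker.card_mul_index, Subgroup.index_ker]
  have h2 : Nat.card e.ker * Nat.card e.range = Nat.card V := by
    rw [← Subgroup.index_ker, Subgroup.card_mul_index]
  rw [hkere, hrangee] at h2
  rw [hsub]
  have hI : 0 < Nat.card L.range := Nat.card_pos
  have hCeq : Nat.card {v : V // θ g v = v ∧ θ h v = v} = Nat.card C := rfl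
  rw [hCeq]
  apply Nat.eq_of_mul_eq_mul_right hI
  rw [h1, mul_assoc, mul_comm (Nat.card C), h2]

/-- Let X be a finite group, V an abelian normal subgroup of X (any two elements of V commute) and G a complement to V in X whose order is coprime to that of V. Let S be a set of representatives of the orbits of G on V under conjugation: S lies in V and every element of V is conjugate under G to exactly one member of S. Then the number of conjugacy classes of X equals the sum, over s in S, of the number of conjugacy classes of the centralizer of s in G. -/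
theorem result {X : Type*} [Group X] [Finite X] (V : Subgroup X) [V.Normal] (hab : ∀ a ∈ V, ∀ b ∈ V, a * b = b * a) (G : Subgroup X) (hGV : Subgroup.IsComplement' V G) (hcop : (Nat.card V).Coprime (Nat.card G)) (S : Finset X) (hSV : ∀ s ∈ S, s ∈ V) (hrep : ∀ v ∈ V, ∃! s, s ∈ S ∧ ∃ g ∈ G, g * v * g⁻¹ = s) : Nat.card (ConjClasses X) = ∑ s ∈ S, Nat.card (ConjClasses ↥(G ⊓ Subgroup.centralizer ({s} : Set X))) := by
  classical
  letI : CommGroup ↥V := { (inferInstance : Group ↥V) with mul_comm := fun a b => Subtype.ext (hab a a.2 b b.2) }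
  let θ : G →* MulAut ↥V := (MulAut.conjNormal (H := V)).comp G.subtype
  have hθ : ∀ (g : G) (v : V), ((θ g v : V) : X) = g * v * (g : X)⁻¹ := fun g v => rfl
  haveI : Fintype X := Fintype.ofFinite _
  have huniq : ∀ (v v' : V) (g g' : G), (v : X) * g = v' * g' → v = v' ∧ g = g' := fun v v' g g' h => by
    have := hGV.1 (a₁ := (v, g)) (a₂ := (v', g')) h
    exact ⟨congrArg Prod.fst this, congrArg Prod.snd this⟩
  have hmulform : ∀ (v w : V) (g h : G), (v : X) * g * ((w : X) * h) = ((v * θ g w : V) : X) * ((g * h : G) : X) := by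
    intro v w g h
    rw [Subgroup.coe_mul, Subgroup.coe_mul, hθ]
    group
  -- commuting pairs of X
  have hX : Nat.card {p : X × X // Commute p.1 p.2} =
      Nat.card (Σ q : {q : G × G // Commute q.1 q.2}, {vw : V × V // vw.1 * θ q.1.1 vw.2 = vw.2 * θ q.1.2 vw.1}) := by
    symm
    refine Nat.card_eq_of_bijective (fun s => ⟨((s.2.1.1 : X) * s.1.1.1, (s.2.1.2 : X) * s.1.1.2), ?_⟩) ⟨?_, ?_⟩
    · show _ = _
      rw [hmulform, hmulform, s.2.2, s.1.2.eq]
    · rintro ⟨⟨⟨g, h⟩, hq⟩, ⟨⟨v, w⟩, hvw⟩⟩ ⟨⟨⟨g', h'⟩, hq'⟩, ⟨⟨v', w'⟩, hvw'⟩⟩ he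
      have h1 := congrArg (fun p => p.1.1) he
      have h2 := congrArg (fun p => p.1.2) he
      obtain ⟨rfl, rfl⟩ := huniq _ _ _ _ h1
      obtain ⟨rfl, rfl⟩ := huniq _ _ _ _ h2
      rfl
    · rintro ⟨⟨x, y⟩, hxy⟩
      obtain ⟨⟨v, g⟩, rfl⟩ := hGV.2 x
      obtain ⟨⟨w, h⟩, rfl⟩ := hGV.2 y
      have hc : (v : X) * g * ((w : X) * h) = (w : X) * h * ((v : X) * g) := hxy
      rw [hmulform, hmulform] at hc
      obtain ⟨e1, e2⟩ := huniq _ _ _ _ hc
      exact ⟨⟨⟨(g, h), e2⟩, ⟨(v, w), e1⟩⟩, rfl⟩
  have hswap : Nat.card (Σ q : {q : G × G // Commute q.1 q.2}, {v : V // θ q.1.1 v = v ∧ θ q.1.2 v = v}) =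
      Nat.card (Σ v : V, {r : ↥(G ⊓ Subgroup.centralizer ({(v : X)} : Set X)) × ↥(G ⊓ Subgroup.centralizer ({(v : X)} : Set X)) // Commute r.1 r.2}) := by
    have hiff : ∀ (g : G) (v : V), θ g v = v ↔ (g : X) ∈ Subgroup.centralizer ({(v : X)} : Set X) := fun g v => by
      rw [Subtype.ext_iff, hθ, mul_inv_eq_iff_eq_mul, Subgroup.mem_centralizer_singleton_iff]
    refine Nat.card_congr
      { toFun := fun s => ⟨s.2.1, ⟨(⟨s.1.1.1, s.1.1.1.2, (hiff _ _).1 s.2.2.1⟩, ⟨s.1.1.2, s.1.1.2.2, (hiff _ _).1 s.2.2.2⟩),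
            Subtype.ext (congrArg (fun t : G => (t : X)) s.1.2.eq)⟩⟩
        invFun := fun s => ⟨⟨(⟨s.2.1.1, s.2.1.1.2.1⟩, ⟨s.2.1.2, s.2.1.2.2.1⟩), Subtype.ext (congrArg (fun t : ↥(G ⊓ Subgroup.centralizer ({(s.1 : X)} : Set X)) => (t : X)) s.2.2.eq)⟩,
            ⟨s.1, (hiff _ _).2 s.2.1.1.2.2, (hiff _ _).2 s.2.1.2.2.2⟩⟩
        left_inv := fun s => rfl
        right_inv := fun s => rfl }
  let F : X → ℕ := fun v => Nat.card (ConjClasses ↥(G ⊓ Subgroup.centralizer ({v} : Set X))) *
      Nat.card ↥(G ⊓ Subgroup.centralizer ({v} : Set X))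
  have hmain : Nat.card (ConjClasses X) * Nat.card X = Nat.card V * ∑ v : V, F v := by
    rw [← card_comm_eq_card_conjClasses_mul_card, hX, Nat.card_sigma]
    rw [Finset.sum_congr rfl (fun q _ => kerCard θ q.1.1 q.1.2 q.2.eq hcop)]
    rw [← Finset.mul_sum, ← Nat.card_sigma, hswap, Nat.card_sigma]
    refine congrArg _ (Finset.sum_congr rfl (fun v _ => ?_))
    exact card_comm_eq_card_conjClasses_mul_card _
  -- orbit decomposition
  have hconj : ∀ (v : X) (g : X), g ∈ G → ∀ c, c ∈ G ⊓ Subgroup.centralizer ({v} : Set X) ↔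
      g * c * g⁻¹ ∈ G ⊓ Subgroup.centralizer ({g * v * g⁻¹} : Set X) := by
    intro v g hg c
    simp only [Subgroup.mem_inf, Subgroup.mem_centralizer_singleton_iff]
    constructor
    · rintro ⟨h1, h2⟩
      refine ⟨mul_mem (mul_mem hg h1) (inv_mem hg), ?_⟩
      calc g * c * g⁻¹ * (g * v * g⁻¹) = g * (c * v) * g⁻¹ := by group
        _ = g * (v * c) * g⁻¹ := by rw [h2]
        _ = g * v * g⁻¹ * (g * c * g⁻¹) := by group
    · rintro ⟨h1, h2⟩
      refine ⟨by simpa [mul_assoc] using mul_mem (mul_mem (inv_mem hg) h1) hg, ?_⟩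
      calc c * v = g⁻¹ * (g * c * g⁻¹ * (g * v * g⁻¹)) * g := by group
        _ = g⁻¹ * (g * v * g⁻¹ * (g * c * g⁻¹)) * g := by rw [h2]
        _ = v * c := by group
  have hFinv : ∀ (v : X) (g : X), g ∈ G → F (g * v * g⁻¹) = F v := by
    intro v g hg
    let e : ↥(G ⊓ Subgroup.centralizer ({v} : Set X)) ≃* ↥(G ⊓ Subgroup.centralizer ({g * v * g⁻¹} : Set X)) :=
      { toFun := fun c => ⟨g * c * g⁻¹, (hconj v g hg c).1 c.2⟩
        invFun := fun c => ⟨g⁻¹ * c * g, (hconj v g hg _).2 (by
          have : g * (g⁻¹ * (c : X) * g) * g⁻¹ = c := by group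
          rw [this]; exact c.2)⟩
        left_inv := fun c => Subtype.ext (by simp only; group)
        right_inv := fun c => Subtype.ext (by simp only; group)
        map_mul' := fun a b => Subtype.ext (by simp only [Subgroup.coe_mul]; group) }
    have hb : Function.Bijective (ConjClasses.map e.toMonoidHom) := by
      refine Function.bijective_iff_has_inverse.2 ⟨ConjClasses.map e.symm.toMonoidHom, ?_, ?_⟩
      · intro c; obtain ⟨c, rfl⟩ := ConjClasses.mk_surjective c
        exact congrArg ConjClasses.mk (e.symm_apply_apply c)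
      · intro c; obtain ⟨c, rfl⟩ := ConjClasses.mk_surjective c
        exact congrArg ConjClasses.mk (e.apply_symm_apply c)
    simp only [F]
    rw [← Nat.card_eq_of_bijective _ hb, ← Nat.card_congr e.toEquiv]
  let rep : V → X := fun v => (hrep v v.2).exists.choose
  have hrepspec : ∀ v : V, rep v ∈ S ∧ ∃ g ∈ G, g * v * g⁻¹ = rep v := fun v => (hrep v v.2).exists.choose_spec
  have horb : ∀ s ∈ S, (Finset.univ.filter (fun v : V => rep v = s)).card *
      Nat.card ↥(G ⊓ Subgroup.centralizer ({s} : Set X)) = Nat.card G := by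
    intro s hs
    let sv : V := ⟨s, hSV s hs⟩
    have : Nat.card {v : V // rep v = s} = ((G ⊓ Subgroup.centralizer ({s} : Set X)).subgroupOf G).index := by
      symm
      rw [Subgroup.index]
      refine Nat.card_eq_of_bijective (Quotient.lift (fun g : G => (⟨θ g sv, ?_⟩ : {v : V // rep v = s})) ?_) ⟨?_, ?_⟩
      · refine (hrep _ (θ g sv).2).unique (hrepspec _) ⟨hs, (g : X)⁻¹, inv_mem g.2, ?_⟩
        rw [hθ]; simp only [sv]; group
      · intro a b hab'
        have h' := QuotientGroup.leftRel_apply.1 hab'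
        rw [Subgroup.mem_subgroupOf, Subgroup.mem_inf, Subgroup.mem_centralizer_singleton_iff] at h'
        refine Subtype.ext (Subtype.ext ?_)
        simp only [hθ]
        have e : ((a⁻¹ * b : G) : X) * s = s * ((a⁻¹ * b : G) : X) := h'.2
        simp only [Subgroup.coe_mul, Subgroup.coe_inv] at e
        calc (a : X) * s * (a : X)⁻¹ = a * (s * ((a : X)⁻¹ * b)) * (b : X)⁻¹ := by group
          _ = a * ((a : X)⁻¹ * b * s) * (b : X)⁻¹ := by rw [← e]
          _ = b * s * (b : X)⁻¹ := by group
      · intro a b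
        refine Quotient.inductionOn₂ a b (fun a b h => ?_)
        have h' : (a : X) * s * (a : X)⁻¹ = b * s * (b : X)⁻¹ := by
          simpa [hθ, sv] using congrArg (fun v => (v.1 : X)) h
        refine Quotient.sound (QuotientGroup.leftRel_apply.2 ?_)
        rw [Subgroup.mem_subgroupOf, Subgroup.mem_inf, Subgroup.mem_centralizer_singleton_iff]
        refine ⟨(a⁻¹ * b : G).2, ?_⟩
        simp only [Subgroup.coe_mul, Subgroup.coe_inv]
        calc (a : X)⁻¹ * b * s = (a : X)⁻¹ * (b * s * (b : X)⁻¹) * b := by group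
          _ = (a : X)⁻¹ * (a * s * (a : X)⁻¹) * b := by rw [h']
          _ = s * ((a : X)⁻¹ * b) := by group
      · rintro ⟨v, hv⟩
        obtain ⟨-, g, hg, hgv⟩ := hrepspec v
        refine ⟨Quotient.mk _ (⟨g⁻¹, inv_mem hg⟩ : G), Subtype.ext (Subtype.ext ?_)⟩
        simp only [Quotient.lift_mk, hθ, sv]
        rw [← hv, ← hgv]; group
    rw [← Fintype.card_subtype, ← Nat.card_eq_fintype_card, this,
      ← Nat.card_congr (Subgroup.subgroupOfEquivOfLe (inf_le_left : G ⊓ _ ≤ G)).toEquiv, mul_comm,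
      Subgroup.card_mul_index]
  have hsum : ∑ v : V, F v = Nat.card G * ∑ s ∈ S, Nat.card (ConjClasses ↥(G ⊓ Subgroup.centralizer ({s} : Set X))) := by
    rw [← Finset.sum_fiberwise_of_maps_to (fun v _ => (hrepspec v).1) (fun v : V => F v), Finset.mul_sum]
    refine Finset.sum_congr rfl (fun s hs => ?_)
    rw [Finset.sum_const_nat (m := F s), ← horb s hs]
    · simp only [F]; ring
    · intro v hv
      obtain ⟨-, g, hg, hgv⟩ := hrepspec v
      rw [← (Finset.mem_filter.1 hv).2, ← hgv]
      exact (hFinv v g hg).symm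
  rw [hsum, ← mul_assoc, hGV.card_mul, mul_comm (Nat.card X)] at hmain
  exact Nat.eq_of_mul_eq_mul_right Nat.card_pos hmain

end Cfsg.Agent.S4956
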