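import Cfsg.Statements.S4966
import Mathlib
-- import your own Cfsg.Agent.* helpers here

set_option autoImplicit false
open Cfsg

namespace Cfsg.Agent.S4966

section

variable {F : Type*} [Field F] {G : Type*} [Group G] {V : Type*} [AddCommGroup V] [Module F V]
  (ρ : Representation F G V)

/-- A submodule stable under all operators of `ρ`. -/
def Inv (U : Submodule F V) : Prop := ∀ g : G, ∀ u ∈ U, ρ g u ∈ U

/-- A bilinear form invariant on `U` and nondegenerate on `U`. -/
def Good (U : Submodule F V) (A : LinearMap.BilinForm F V) : Prop :=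
  (∀ g : G, ∀ x ∈ U, ∀ y ∈ U, A (ρ g x) (ρ g y) = A x y) ∧
  (∀ x ∈ U, (∀ y ∈ U, A x y = 0) → x = 0)

lemma exists_proj {U1 U2 : Submodule F V} (h : Disjoint U1 U2) :
    ∃ π : V →ₗ[F] V, (∀ v, π v ∈ U1) ∧ (∀ u ∈ U1, π u = u) ∧ (∀ u ∈ U2, π u = 0) := by
  obtain ⟨E, hE⟩ := (U1 ⊔ U2).exists_isCompl
  have hc : IsCompl U1 (U2 ⊔ E) := by
    refine ⟨h.disjoint_sup_right_of_disjoint_sup_left hE.disjoint, ?_⟩
    rw [codisjoint_iff, ← sup_assoc]
    exact hE.sup_eq_top
  refine ⟨U1.subtype ∘ₗ U1.projectionOnto (U2 ⊔ E) hc, fun v => Subtype.coe_prop _,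
    fun u hu => ?_, fun u hu => ?_⟩
  · exact congrArg Subtype.val (Submodule.projectionOnto_apply_left hc ⟨u, hu⟩)
  · have := (Submodule.projectionOnto_apply_eq_zero_iff hc).2 (Submodule.mem_sup_left hu)
    simp only [LinearMap.comp_apply, this, map_zero]

lemma proj_comm {U1 U2 : Submodule F V} (h1 : Inv ρ U1) (h2 : Inv ρ U2) (π : V →ₗ[F] V)
    (hπ1 : ∀ u ∈ U1, π u = u) (hπ2 : ∀ u ∈ U2, π u = 0) (g : G) {x : V} (hx : x ∈ U1 ⊔ U2) :
    π (ρ g x) = ρ g (π x) := by
  obtain ⟨a, ha, b, hb, rfl⟩ := Submodule.mem_sup.1 hx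
  simp [hπ1 a ha, hπ1 _ (h1 g a ha), hπ2 b hb, hπ2 _ (h2 g b hb)]

lemma inv_sup {U1 U2 : Submodule F V} (h1 : Inv ρ U1) (h2 : Inv ρ U2) : Inv ρ (U1 ⊔ U2) := by
  intro g x hx
  obtain ⟨a, ha, b, hb, rfl⟩ := Submodule.mem_sup.1 hx
  rw [map_add]
  exact Submodule.add_mem_sup (h1 g a ha) (h2 g b hb)

lemma inv_bot : Inv ρ (⊥ : Submodule F V) := by
  intro g u hu
  rw [Submodule.mem_bot] at hu ⊢
  rw [hu, map_zero]

/-- Gluing two alternating forms on disjoint invariant submodules. -/
lemma glue {U1 U2 : Submodule F V} (hd : Disjoint U1 U2) (h1 : Inv ρ U1) (h2 : Inv ρ U2)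
    {A1 A2 : LinearMap.BilinForm F V} (g1 : Good ρ U1 A1) (g2 : Good ρ U2 A2)
    (a1 : ∀ x, A1 x x = 0) (a2 : ∀ x, A2 x x = 0) :
    ∃ A : LinearMap.BilinForm F V, (∀ x, A x x = 0) ∧ Good ρ (U1 ⊔ U2) A := by
  obtain ⟨π1, m1, e1, z1⟩ := exists_proj hd
  obtain ⟨π2, m2, e2, z2⟩ := exists_proj hd.symm
  refine ⟨A1.compl₁₂ π1 π1 + A2.compl₁₂ π2 π2, fun x => ?_, fun g x hx y hy => ?_, fun x hx h => ?_⟩
  · simp [a1, a2]
  · have hx' : x ∈ U2 ⊔ U1 := by rwa [sup_comm]
    have hy' : y ∈ U2 ⊔ U1 := by rwa [sup_comm]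
    simp only [LinearMap.add_apply, LinearMap.compl₁₂_apply,
      proj_comm ρ h1 h2 π1 e1 z1 g hx, proj_comm ρ h1 h2 π1 e1 z1 g hy,
      proj_comm ρ h2 h1 π2 e2 z2 g hx', proj_comm ρ h2 h1 π2 e2 z2 g hy',
      g1.1 g _ (m1 x) _ (m1 y), g2.1 g _ (m2 x) _ (m2 y)]
  · obtain ⟨a, ha, b, hb, rfl⟩ := Submodule.mem_sup.1 hx
    have ha0 : a = 0 := g1.2 a ha (fun y hy => by
      have := h y (Submodule.mem_sup_left hy)
      simpa [e1 a ha, z1 b hb, e1 y hy, z2 y hy] using this)
    have hb0 : b = 0 := g2.2 b hb (fun y hy => by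
      have := h y (Submodule.mem_sup_right hy)
      simpa [e2 b hb, z2 a ha, e2 y hy, z1 y hy] using this)
    rw [ha0, hb0, add_zero]

/-- Maschke inside an invariant submodule. -/
lemma exists_inv_compl [Finite G] (hG : (Nat.card G : F) ≠ 0) {C D : Submodule F V} (hCD : C ≤ D)
    (hC : Inv ρ C) (hD : Inv ρ D) : ∃ E, Inv ρ E ∧ E ≤ D ∧ Disjoint C E ∧ C ⊔ E = D := by
  classical
  haveI := Fintype.ofFinite G
  obtain ⟨π, m, e, -⟩ := exists_proj (U1 := C) (U2 := ⊥) disjoint_bot_right
  let P : V →ₗ[F] V := (Nat.card G : F)⁻¹ • ∑ g : G, (ρ g) ∘ₗ π ∘ₗ (ρ g⁻¹)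
  have hP : ∀ v, P v = (Nat.card G : F)⁻¹ • ∑ g : G, ρ g (π (ρ g⁻¹ v)) := fun v => by
    simp [P, LinearMap.sum_apply]
  have hPC : ∀ v, P v ∈ C := fun v => by
    rw [hP]; exact C.smul_mem _ (C.sum_mem (fun g _ => hC g _ (m _)))
  have hPid : ∀ c ∈ C, P c = c := fun c hc => by
    rw [hP, Finset.sum_congr rfl (fun g _ => by rw [e _ (hC g⁻¹ c hc), ρ.self_inv_apply g c]),
      Finset.sum_const, Finset.card_univ, ← Nat.cast_smul_eq_nsmul F, ← Nat.card_eq_fintype_card,
      inv_smul_smul₀ hG]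
  have hcomm : ∀ h v, P (ρ h v) = ρ h (P v) := fun h v => by
    rw [hP, hP, map_smul, map_sum]
    refine congrArg _ (Fintype.sum_equiv (Equiv.mulLeft h⁻¹) _ _ (fun g => ?_))
    simp only [Equiv.coe_mulLeft, mul_inv_rev, inv_inv, map_mul, Module.End.mul_apply,
      ρ.self_inv_apply]
  refine ⟨D ⊓ LinearMap.ker P, fun g u hu => ⟨hD g u hu.1, ?_⟩, inf_le_left, ?_, ?_⟩
  · show P (ρ g u) = 0
    rw [hcomm, LinearMap.mem_ker.1 hu.2, map_zero]
  · rw [Submodule.disjoint_def]
    intro x hx hx'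
    rw [← hPid x hx]; exact hx'.2
  · refine le_antisymm (sup_le hCD inf_le_left) (fun x hx => ?_)
    have : P x + (x - P x) = x := by abel
    rw [← this]
    exact Submodule.add_mem_sup (hPC x) ⟨D.sub_mem hx (hCD (hPC x)), by
      show P (x - P x) = 0
      rw [map_sub, hPid _ (hPC x), sub_self]⟩

/-- A pairing with trivial kernels on both sides represents every functional. -/
lemma pairing_surj [FiniteDimensional F V] (B : LinearMap.BilinForm F V) (Z Y : Submodule F V)
    (hl : ∀ z ∈ Z, (∀ y ∈ Y, B z y = 0) → z = 0) (hr : ∀ y ∈ Y, (∀ z ∈ Z, B z y = 0) → y = 0)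
    (f : Y →ₗ[F] F) : ∃ z ∈ Z, ∀ y : Y, B z y = f y := by
  let Φ : Z →ₗ[F] (Y →ₗ[F] F) := B.compl₁₂ Z.subtype Y.subtype
  let Ψ : Y →ₗ[F] (Z →ₗ[F] F) := Φ.flip
  have h1 : Function.Injective Φ := (injective_iff_map_eq_zero _).2 (fun z hz =>
    Subtype.ext (hl z z.2 (fun y hy => LinearMap.congr_fun hz ⟨y, hy⟩)))
  have h2 : Function.Injective Ψ := (injective_iff_map_eq_zero _).2 (fun y hy =>
    Subtype.ext (hr y y.2 (fun z hz => LinearMap.congr_fun hy ⟨z, hz⟩)))
  have d1 := LinearMap.finrank_le_finrank_of_injective h1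
  have d2 := LinearMap.finrank_le_finrank_of_injective h2
  rw [show Module.finrank F (Y →ₗ[F] F) = Module.finrank F Y from Subspace.dual_finrank_eq] at d1
  rw [show Module.finrank F (Z →ₗ[F] F) = Module.finrank F Z from Subspace.dual_finrank_eq] at d2
  obtain ⟨z, hz⟩ := (LinearMap.injective_iff_surjective_of_finrank_eq_finrank (f := Φ) (by
    rw [show Module.finrank F (Y →ₗ[F] F) = Module.finrank F Y from Subspace.dual_finrank_eq]; omega)).1 h1 f
  exact ⟨z, z.2, fun y => LinearMap.congr_fun hz y⟩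

/-- The decomposition lemma. `two` is the characteristic-2 regime, where no trivial constituent is present. -/
lemma core [Finite G] [FiniteDimensional F V] (hG : (Nat.card G : F) ≠ 0) (B : LinearMap.BilinForm F V)
    (hBinv : ∀ g : G, ∀ x y : V, B (ρ g x) (ρ g y) = B x y) :
    ∀ (n : ℕ) (D : Submodule F V), Module.finrank F D ≤ n → Inv ρ D →
      (∀ x ∈ D, (∀ y ∈ D, B x y = 0) → x = 0) →
      ((2 : F) = 0 → ∀ x ∈ D, ∑ᶠ g : G, ρ g x = 0) →
      ∃ U W : Submodule F V, Inv ρ U ∧ Inv ρ W ∧ Disjoint U W ∧ U ⊔ W = D ∧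
        (∃ A : LinearMap.BilinForm F V, (∀ x, A x x = 0) ∧ Good ρ U A) ∧
        (∃ S : LinearMap.BilinForm F V, (∀ x y, S x y = S y x) ∧ Good ρ W S) ∧
        ((2 : F) = 0 → W = ⊥) := by
  classical
  haveI := Fintype.ofFinite G
  have hbot : ∀ A : LinearMap.BilinForm F V, Good ρ ⊥ A := fun A =>
    ⟨fun g x hx y hy => by
      rw [Submodule.mem_bot] at hx hy; simp [hx, hy],
     fun x hx _ => by rwa [Submodule.mem_bot] at hx⟩
  intro n
  induction n with
  | zero =>
    intro D hD _ _ _
    have hD0 : D = ⊥ := Submodule.finrank_eq_zero.1 (Nat.le_zero.1 hD)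
    exact ⟨⊥, ⊥, inv_bot ρ, inv_bot ρ, disjoint_bot_left, by simp [hD0],
      ⟨0, fun x => by simp, hbot 0⟩, ⟨0, fun x y => by simp, hbot 0⟩, fun _ => rfl⟩
  | succ n ih =>
    intro D hn hD hnd hfix
    let S0 : Submodule F V :=
      { carrier := {x | x ∈ D ∧ ∀ y ∈ D, B x y + B y x = 0}
        zero_mem' := ⟨D.zero_mem, fun y _ => by simp⟩
        add_mem' := fun {a b} ha hb => ⟨D.add_mem ha.1 hb.1, fun y hy => by
          have h1 := ha.2 y hy
          have h2 := hb.2 y hy
          simp only [map_add, LinearMap.add_apply]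
          linear_combination h1 + h2⟩
        smul_mem' := fun c a ha => ⟨D.smul_mem c ha.1, fun y hy => by
          simp only [map_smul, LinearMap.smul_apply, smul_eq_mul]
          rw [← mul_add, ha.2 y hy, mul_zero]⟩ }
    have hS0D : S0 ≤ D := fun x hx => hx.1
    have hskew : ∀ x ∈ S0, ∀ y ∈ D, B y x = - B x y := fun x hx y hy =>
      eq_neg_of_add_eq_zero_right (hx.2 y hy)
    have hback : ∀ g : G, ∀ y ∈ D, ∃ y' ∈ D, ρ g y' = y := fun g y hy =>
      ⟨ρ g⁻¹ y, hD _ _ hy, ρ.self_inv_apply g y⟩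
    have hS0 : Inv ρ S0 := fun g x hx => ⟨hD g x hx.1, fun y hy => by
      obtain ⟨y', hy', rfl⟩ := hback g y hy
      rw [hBinv, hBinv]; exact hx.2 y' hy'⟩
    by_cases h0 : S0 = ⊥
    · let S : LinearMap.BilinForm F V := B + B.flip
      have hS : ∀ x y, S x y = B x y + B y x := fun x y => rfl
      have hgood : Good ρ D S := ⟨fun g x _ y _ => by rw [hS, hS, hBinv, hBinv], fun x hx h => by
        have : x ∈ S0 := ⟨hx, fun y hy => (hS x y).symm.trans (h y hy)⟩
        rw [h0, Submodule.mem_bot] at this; exact this⟩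
      by_cases h2 : (2 : F) = 0
      · exact ⟨D, ⊥, hD, inv_bot ρ, disjoint_bot_right, sup_bot_eq D,
          ⟨S, fun x => by rw [hS]; linear_combination (B x x) * h2, hgood⟩,
          ⟨0, fun x y => by simp, hbot 0⟩, fun _ => rfl⟩
      · exact ⟨⊥, D, inv_bot ρ, hD, disjoint_bot_left, bot_sup_eq D,
          ⟨0, fun x => by simp, hbot 0⟩,
          ⟨S, fun x y => by rw [hS, hS]; exact add_comm _ _, hgood⟩, fun h => absurd h h2⟩
    · -- the form restricted to S0 is alternating
      have halt : ∀ x ∈ S0, B x x = 0 := by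
        intro x hx
        by_cases h2 : (2 : F) = 0
        · have hadd : ∀ a ∈ S0, ∀ b ∈ S0, B (a + b) (a + b) = B a a + B b b := fun a ha b hb => by
            simp only [map_add, LinearMap.add_apply]
            linear_combination ha.2 b (hS0D hb)
          have hsum : ∀ s : Finset G, B (∑ g ∈ s, ρ g x) (∑ g ∈ s, ρ g x) = (s.card : F) * B x x := by
            intro s
            induction s using Finset.induction_on with
            | empty => simp
            | insert a s has ihs =>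
              rw [Finset.sum_insert has, hadd _ (hS0 a x hx) _ (S0.sum_mem (fun g _ => hS0 g x hx)),
                hBinv, ihs, Finset.card_insert_of_notMem has]
              push_cast; ring
          have h := hsum Finset.univ
          rw [← finsum_eq_sum_of_fintype, hfix h2 x (hS0D hx), map_zero,
            Finset.card_univ, ← Nat.card_eq_fintype_card, eq_comm, mul_eq_zero] at h
          exact h.resolve_left hG
        · have := hx.2 x (hS0D hx)
          rw [← two_mul, mul_eq_zero] at this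
          exact this.resolve_left h2
      let Z : Submodule F V :=
        { carrier := {x | x ∈ S0 ∧ ∀ y ∈ S0, B x y = 0}
          zero_mem' := ⟨S0.zero_mem, fun y _ => by simp⟩
          add_mem' := fun {a b} ha hb => ⟨S0.add_mem ha.1 hb.1, fun y hy => by
            simp [ha.2 y hy, hb.2 y hy]⟩
          smul_mem' := fun c a ha => ⟨S0.smul_mem c ha.1, fun y hy => by simp [ha.2 y hy]⟩ }
      -- right orthogonal inside D
      let orth : Submodule F V → Submodule F V := fun C =>
        { carrier := {y | y ∈ D ∧ ∀ x ∈ C, B x y = 0}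
          zero_mem' := ⟨D.zero_mem, fun x _ => by simp⟩
          add_mem' := fun {a b} ha hb => ⟨D.add_mem ha.1 hb.1, fun x hx => by simp [ha.2 x hx, hb.2 x hx]⟩
          smul_mem' := fun c a ha => ⟨D.smul_mem c ha.1, fun x hx => by simp [ha.2 x hx]⟩ }
      have horth : ∀ C, Inv ρ C → Inv ρ (orth C) := fun C hC g y hy => ⟨hD g y hy.1, fun x hx => by
        have hx' : ρ g (ρ g⁻¹ x) = x := ρ.self_inv_apply g x
        rw [← hx', hBinv]; exact hy.2 _ (hC g⁻¹ x hx)⟩
      have hZ : Inv ρ Z := fun g x hx => ⟨hS0 g x hx.1, fun y hy => by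
        have hy' : ρ g (ρ g⁻¹ y) = y := ρ.self_inv_apply g y
        rw [← hy', hBinv]; exact hx.2 _ (hS0 g⁻¹ y hy)⟩
      by_cases hZ0 : Z = ⊥
      · have hndS : ∀ x ∈ S0, (∀ y ∈ S0, B x y = 0) → x = 0 := fun x hx h => by
          have : x ∈ Z := ⟨hx, h⟩
          rw [hZ0, Submodule.mem_bot] at this; exact this
        let D' := orth S0
        have hdisj : ∀ y ∈ S0, y ∈ D' → y = 0 := fun y hy hy' => hndS y hy (fun x hx => by
          have := hskew y hy x (hS0D hx); rw [hy'.2 x hx] at this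
          exact neg_eq_zero.1 this.symm)
        have hsup : S0 ⊔ D' = D := by
          refine le_antisymm (sup_le hS0D (fun y hy => hy.1)) (fun y hy => ?_)
          obtain ⟨z, hz, hz'⟩ := pairing_surj B S0 S0 hndS (fun a ha h => hndS a ha (fun b hb => by
            have := hskew a ha b (hS0D hb); rw [h b hb] at this; exact neg_eq_zero.1 this.symm))
            (-((B.flip y).comp S0.subtype))
          have : z + (y - z) = y := by abel
          rw [← this]
          refine Submodule.add_mem_sup hz ⟨D.sub_mem hy (hS0D hz), fun x hx => ?_⟩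
          have e := hz' ⟨x, hx⟩
          simp only [LinearMap.neg_apply, LinearMap.comp_apply, Submodule.coe_subtype, LinearMap.flip_apply] at e
          rw [map_sub, hskew z hz x (hS0D hx), e]
          simp
        have hlt : Module.finrank F D' ≤ n := by
          have := Submodule.finrank_sup_add_finrank_inf_eq S0 D'
          rw [hsup, (Submodule.disjoint_def.2 hdisj).eq_bot, finrank_bot] at this
          have : 0 < Module.finrank F S0 := Nat.pos_of_ne_zero (fun h => h0 (Submodule.finrank_eq_zero.1 h))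
          omega
        obtain ⟨U', W, hU', hW, hd, hUW, ⟨A', hA', gA'⟩, hS, hW2⟩ := ih D' hlt (horth _ hS0)
          (fun x hx h => hnd x hx.1 (fun y hy => by
            rw [← hsup] at hy
            obtain ⟨a, ha, b, hb, rfl⟩ := Submodule.mem_sup.1 hy
            rw [map_add, h b hb, hskew a ha x hx.1, hx.2 a ha, neg_zero, add_zero]))
          (fun h2 x hx => hfix h2 x hx.1)
        have hU'D : U' ≤ D' := hUW ▸ le_sup_left
        have hd1 : Disjoint S0 U' := Submodule.disjoint_def.2 (fun x hx hx' => hdisj x hx (hU'D hx'))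
        obtain ⟨π, m, e, -⟩ := exists_proj (U1 := S0) (U2 := ⊥) disjoint_bot_right
        have gS0 : Good ρ S0 (B.compl₁₂ π π) := ⟨fun g x hx y hy => by
            simp [e x hx, e y hy, e _ (hS0 g x hx), e _ (hS0 g y hy), hBinv],
          fun x hx h => hndS x hx (fun y hy => by simpa [e x hx, e y hy] using h y hy)⟩
        obtain ⟨A, hA, gA⟩ := glue ρ hd1 hS0 hU' gS0 gA' (fun x => halt _ (m x)) hA'
        refine ⟨S0 ⊔ U', W, inv_sup ρ hS0 hU', hW, ?_, by rw [sup_assoc, hUW, hsup],
          ⟨A, hA, gA⟩, hS, hW2⟩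
        refine hd.disjoint_sup_left_of_disjoint_sup_right ?_
        rw [hUW]
        exact Submodule.disjoint_def.2 hdisj
      · -- a totally isotropic invariant submodule
        have hZD : Z ≤ D := fun x hx => hS0D hx.1
        have hZp : Z ≤ orth Z := fun z hz => ⟨hZD hz, fun x hx => hx.2 z hz.1⟩
        obtain ⟨M, hM, hMle, hdM, hMsup⟩ := exists_inv_compl ρ hG hZp hZ (horth Z hZ)
        obtain ⟨Y, hY, hYle, hdY, hYsup⟩ := exists_inv_compl ρ hG (C := orth Z) (D := D)
          (fun y hy => hy.1) (horth Z hZ) hD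
        have hl : ∀ z ∈ Z, (∀ y ∈ Y, B z y = 0) → z = 0 := fun z hz h => hnd z (hZD hz) (fun y hy => by
          rw [← hYsup] at hy
          obtain ⟨a, ha, b, hb, rfl⟩ := Submodule.mem_sup.1 hy
          rw [map_add, ha.2 z hz, h b hb, add_zero])
        have hr : ∀ y ∈ Y, (∀ z ∈ Z, B z y = 0) → y = 0 := fun y hy h =>
          Submodule.disjoint_def.1 hdY y ⟨hYle hy, h⟩ hy
        have hlt : Module.finrank F M ≤ n := by
          have h1 := Submodule.finrank_mono (sup_le hZD (fun x hx => (hMle hx).1) : Z ⊔ M ≤ D)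
          have h2 := Submodule.finrank_sup_add_finrank_inf_eq Z M
          rw [hdM.eq_bot, finrank_bot] at h2
          have : 0 < Module.finrank F Z := Nat.pos_of_ne_zero (fun h => hZ0 (Submodule.finrank_eq_zero.1 h))
          omega
        obtain ⟨U', W, hU', hW, hd, hUW, ⟨A', hA', gA'⟩, hS, hW2⟩ := ih M hlt hM
          (fun x hx h => by
            obtain ⟨z, hz, hz'⟩ := pairing_surj B Z Y hl hr ((B x).comp Y.subtype)
            have hxD := (hMle hx).1
            have hxz : x = z := by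
              refine sub_eq_zero.1 (hnd _ (D.sub_mem hxD (hZD hz)) (fun y hy => ?_))
              rw [← hYsup, ← hMsup, sup_assoc] at hy
              obtain ⟨a, ha, q, hq, rfl⟩ := Submodule.mem_sup.1 hy
              obtain ⟨b, hb, c, hc, rfl⟩ := Submodule.mem_sup.1 hq
              have e := hz' ⟨c, hc⟩
              simp only [LinearMap.comp_apply, Submodule.coe_subtype] at e
              rw [map_sub, LinearMap.sub_apply]
              simp only [map_add]
              rw [e, hskew a ha.1 x hxD, (hMle hx).2 a ha, h b hb, (hMle hb).2 z hz, hz.2 a ha.1]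
              ring
            exact Submodule.disjoint_def.1 hdM x (hxz ▸ hz) hx)
          (fun h2 x hx => hfix h2 x (hMle hx).1)
        have hdZY : Disjoint Z Y := hdY.mono_left hZp
        obtain ⟨π1, m1, e1, z1⟩ := exists_proj hdZY
        obtain ⟨π2, m2, e2, z2⟩ := exists_proj hdZY.symm
        let H : LinearMap.BilinForm F V := B.compl₁₂ π1 π2 - (B.compl₁₂ π1 π2).flip
        have hH : ∀ u v, H u v = B (π1 u) (π2 v) - B (π1 v) (π2 u) := fun u v => rfl
        have gH : Good ρ (Z ⊔ Y) H := by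
          refine ⟨fun g x hx y hy => ?_, fun x hx h => ?_⟩
          · have hx' : x ∈ Y ⊔ Z := by rwa [sup_comm]
            have hy' : y ∈ Y ⊔ Z := by rwa [sup_comm]
            rw [hH, hH, proj_comm ρ hZ hY π1 e1 z1 g hx, proj_comm ρ hZ hY π1 e1 z1 g hy,
              proj_comm ρ hY hZ π2 e2 z2 g hx', proj_comm ρ hY hZ π2 e2 z2 g hy', hBinv, hBinv]
          · obtain ⟨a, ha, b, hb, rfl⟩ := Submodule.mem_sup.1 hx
            have ha0 : a = 0 := hl a ha (fun y hy => by
              have := h y (Submodule.mem_sup_right hy)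
              simpa [hH, e1 a ha, z1 b hb, z1 y hy, e2 y hy] using this)
            have hb0 : b = 0 := hr b hb (fun z hz => by
              have := h z (Submodule.mem_sup_left hz)
              simpa [hH, e1 z hz, z2 z hz, e2 b hb, z2 a ha] using this)
            rw [ha0, hb0, add_zero]
        have hZYM : Disjoint (Z ⊔ Y) M := by
          rw [Submodule.disjoint_def]
          intro m hm hmM
          obtain ⟨a, ha, b, hb, rfl⟩ := Submodule.mem_sup.1 hm
          have hb0 : b = 0 := by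
            have : b ∈ orth Z := by
              have := (orth Z).sub_mem (hMle hmM) (hZp ha)
              rwa [add_sub_cancel_left] at this
            exact Submodule.disjoint_def.1 hdY b this hb
          rw [hb0, add_zero] at hmM ⊢
          exact Submodule.disjoint_def.1 hdM a ha hmM
        have hU'M : U' ≤ M := hUW ▸ le_sup_left
        obtain ⟨A, hA, gA⟩ := glue ρ (hZYM.mono_right hU'M) (inv_sup ρ hZ hY) hU' gH gA'
          (fun x => by rw [hH, sub_self]) hA'
        refine ⟨Z ⊔ Y ⊔ U', W, inv_sup ρ (inv_sup ρ hZ hY) hU', hW, ?_, ?_, ⟨A, hA, gA⟩, hS, hW2⟩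
        · refine hd.disjoint_sup_left_of_disjoint_sup_right ?_
          rw [hUW]
          exact hZYM
        · rw [sup_assoc (Z ⊔ Y), hUW, sup_assoc, sup_comm Y M, ← sup_assoc, hMsup, hYsup]

end

/-- Let F be a finite field of characteristic p, G a finite group of order prime to p, and V a finite-dimensional representation of G over F carrying a nondegenerate G-invariant bilinear form (equivalently, V is self-dual). Then V is the direct sum of two G-invariant subspaces U and W such that U carries a G-invariant alternating bilinear form that is nondegenerate on U and W carries a G-invariant symmetric bilinear form that is nondegenerate on W; moreover when p = 2 the decomposition can be chosen with G acting trivially on W. -/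
theorem result {F : Type*} [Field F] [Fintype F] (p : ℕ) [Fact p.Prime] [CharP F p] {G : Type*} [Group G] [Finite G] (hcop : ¬ p ∣ Nat.card G) {V : Type*} [AddCommGroup V] [Module F V] [FiniteDimensional F V] (ρ : Representation F G V) (B : LinearMap.BilinForm F V) (hB : B.Nondegenerate) (hBinv : ∀ g : G, ∀ x y : V, B (ρ g x) (ρ g y) = B x y) : ∃ U W : Submodule F V, IsCompl U W ∧ (∀ g : G, ∀ u ∈ U, ρ g u ∈ U) ∧ (∀ g : G, ∀ w ∈ W, ρ g w ∈ W) ∧ (∃ A : LinearMap.BilinForm F V, (∀ x : V, A x x = 0) ∧ (∀ g : G, ∀ x ∈ U, ∀ y ∈ U, A (ρ g x) (ρ g y) = A x y) ∧ (∀ x ∈ U, (∀ y ∈ U, A x y = 0) → x = 0)) ∧ (∃ S : LinearMap.BilinForm F V, (∀ x y : V, S x y = S y x) ∧ (∀ g : G, ∀ x ∈ W, ∀ y ∈ W, S (ρ g x) (ρ g y) = S x y) ∧ (∀ x ∈ W, (∀ y ∈ W, S x y = 0) → x = 0)) ∧ (p = 2 → ∀ g : G, ∀ w ∈ W, ρ g w = w) := by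
  classical
  haveI := Fintype.ofFinite G
  have hG : (Nat.card G : F) ≠ 0 := fun h => hcop ((CharP.cast_eq_zero_iff F p _).1 h)
  by_cases h2 : (2 : F) = 0
  swap
  · obtain ⟨U, W, hU, hW, hd, hs, ⟨A, hA, gA⟩, ⟨S, hS, gS⟩, -⟩ := core ρ hG B hBinv _ ⊤ le_rfl
      (fun g u _ => Submodule.mem_top) (fun x _ h => hB.1 x (fun y => h y Submodule.mem_top))
      (fun h => absurd h h2)
    refine ⟨U, W, ⟨hd, codisjoint_iff.2 hs⟩, hU, hW, ⟨A, hA, gA.1, gA.2⟩, ⟨S, hS, gS.1, gS.2⟩, ?_⟩
    intro hp; exfalso; subst hp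
    exact h2 (by exact_mod_cast CharP.cast_eq_zero F 2)
  let e : V →ₗ[F] V := (Nat.card G : F)⁻¹ • ∑ g : G, ρ g
  have he : ∀ v, e v = (Nat.card G : F)⁻¹ • ∑ g : G, ρ g v := fun v => by simp [e, LinearMap.sum_apply]
  have hfixe : ∀ h v, ρ h (e v) = e v := fun h v => by
    rw [he, map_smul, map_sum]
    refine congrArg _ (Fintype.sum_equiv (Equiv.mulLeft h) _ _ (fun g => ?_))
    simp only [Equiv.coe_mulLeft, map_mul, Module.End.mul_apply]
  have heρ : ∀ h v, e (ρ h v) = e v := fun h v => by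
    rw [he, he]
    refine congrArg _ (Fintype.sum_equiv (Equiv.mulRight h) _ _ (fun g => ?_))
    simp only [Equiv.coe_mulRight, map_mul, Module.End.mul_apply]
  have hee : ∀ v, e (e v) = e v := fun v => by
    rw [he (e v), Finset.sum_congr rfl (fun g _ => hfixe g v), Finset.sum_const, Finset.card_univ,
      ← Nat.cast_smul_eq_nsmul F, ← Nat.card_eq_fintype_card, inv_smul_smul₀ hG]
  have hadj : ∀ x v, B x (e v) = B (e x) v := fun x v => by
    rw [he, he]
    simp only [map_smul, map_sum, LinearMap.smul_apply, LinearMap.sum_apply]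
    refine congrArg _ (Fintype.sum_equiv (Equiv.inv G) _ _ (fun g => ?_))
    simp only [Equiv.inv_apply]
    rw [← hBinv g⁻¹ x (ρ g v), ρ.inv_self_apply]
  let D := LinearMap.ker e
  let C := LinearMap.range e
  have hCD : IsCompl D C := by
    refine ⟨Submodule.disjoint_def.2 ?_, codisjoint_iff.2 (eq_top_iff.2 ?_)⟩
    · rintro _ hx ⟨v, rfl⟩
      rw [← hee v]; exact hx
    · intro x _
      rw [← sub_add_cancel x (e x)]
      exact Submodule.add_mem_sup (by simp [D, hee]) ⟨x, rfl⟩
  obtain ⟨U, W, hU, hW, hd, hs, ⟨A, hA, gA⟩, -, hW2⟩ := core ρ hG B hBinv _ D le_rfl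
    (fun g u hu => by
      show e (ρ g u) = 0
      rw [heρ]; exact hu)
    (fun x hx h => hB.1 x (fun y => by
      have hxe : e x = 0 := hx
      have : B x (y - e y) = 0 := h _ (by simp [D, hee])
      rw [map_sub, hadj, hxe, map_zero, LinearMap.zero_apply, sub_zero] at this
      exact this))
    (fun _ x hx => by
      have hxe : e x = 0 := hx
      rw [he, smul_eq_zero] at hxe
      rw [finsum_eq_sum_of_fintype]
      exact hxe.resolve_left (inv_ne_zero hG))
  rw [hW2 h2, sup_bot_eq] at hs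
  subst hs
  let b := Module.finBasis F C
  let π : V →ₗ[F] C := C.projectionOnto (LinearMap.ker e) hCD.symm
  let S : LinearMap.BilinForm F V := LinearMap.mk₂ F (fun x y => ∑ i, b.repr (π x) i * b.repr (π y) i)
    (fun a a' y => by simp [add_mul, Finset.sum_add_distrib])
    (fun c a y => by simp [Finset.mul_sum, mul_assoc])
    (fun a y y' => by simp [mul_add, Finset.sum_add_distrib])
    (fun c a y => by simp [Finset.mul_sum, mul_left_comm])
  have hC : ∀ g : G, ∀ w ∈ C, ρ g w = w := by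
    rintro g _ ⟨v, rfl⟩; exact hfixe g v
  refine ⟨LinearMap.ker e, C, hCD, hU, fun g w hw => by rw [hC g w hw]; exact hw, ⟨A, hA, gA.1, gA.2⟩,
    ⟨S, fun x y => ?_, fun g x hx y hy => by rw [hC g x hx, hC g y hy], fun x hx h => ?_⟩, fun _ => hC⟩
  · simp [S, mul_comm]
  · have hπ : ∀ z : C, π z = z := fun z => Submodule.projectionOnto_apply_left hCD.symm z
    have : b.repr ⟨x, hx⟩ = 0 := Finsupp.ext (fun i => by
      have := h (b i) (b i).2
      simp only [S, LinearMap.mk₂_apply] at this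
      rw [hπ, show π x = ⟨x, hx⟩ from hπ ⟨x, hx⟩] at this
      simpa [Finsupp.single_apply] using this)
    exact congrArg Subtype.val (b.repr.map_eq_zero_iff.1 this)

end Cfsg.Agent.S4966
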