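import Cfsg.Statements.S4959
import Cfsg.Agent.Lib.KGV.SelfDual
import Cfsg.Agent.Lib.Char.GlaubermanMod
import Cfsg.Agent.S4966
-- import your own Cfsg.Agent.* helpers here

set_option autoImplicit false
open Cfsg

open Cfsg.Agent Cfsg.Agent.Char
open scoped ComplexConjugate

namespace Cfsg.Agent.S4959

/-- Let X be a finite group and V a normal subgroup of X in which every element has order dividing the prime p, whose index in X is prime to p and which is its own centralizer in X; so V is an elementary abelian normal Sylow p-subgroup, and any complement G to V in X is a group of order prime to p acting faithfully on the vector space V by conjugation (the coprime linear setting of the k(GV) problem). Let G be a complement to V in X, let v be in V and let H be the centralizer of v in G. Suppose there is a subgroup U of V normalized by H, on which H acts faithfully, and carrying an H-invariant bi-additive pairing β with values in the integers modulo p that is nondegenerate on U (equivalently: the restriction of the module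 V to H has a faithful self-dual submodule; such a v is called a real vector for G). Then the number of conjugacy classes of X is at most the order of V (the real-vector criterion for the k(GV) problem). The pairing is given as a function on X whose relevant values are those on pairs from U. -/
theorem result {X : Type*} [Group X] [Finite X] (p : ℕ) [Fact p.Prime] (V : Subgroup X) [V.Normal] (hVexp : ∀ v ∈ V, v ^ p = 1) (hidx : ¬ p ∣ V.index) (hself : Subgroup.centralizer (V : Set X) = V) (G : Subgroup X) (hGV : Subgroup.IsComplement' V G) (v : X) (hv : v ∈ V) (U : Subgroup X) (hUV : U ≤ V) (hUinv : ∀ h ∈ G, h * v * h⁻¹ = v → ∀ u ∈ U, h * u * h⁻¹ ∈ U) (hUfaith : ∀ h ∈ G, h * v * h⁻¹ = v → (∀ u ∈ U, h * u * h⁻¹ = u) → h = 1) (β : X → X → ZMod p) (hβl : ∀ u ∈ U, ∀ u' ∈ U, ∀ w ∈ U, β (u * u') w = β u w + β u' w) (hβr : ∀ u ∈ U, ∀ w ∈ U, ∀ w' ∈ U, β u (w * w') = β u w + β u w') (hβinv : ∀ h ∈ G, h * v * h⁻¹ = v → ∀ u ∈ U, ∀ w ∈ U, β (h * u * h⁻¹) (h * w * h⁻¹) = β u w) (hβnd : ∀ u ∈ U, (∀ w ∈ U, β u w = 0) → u = 1) : Nat.card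 (ConjClasses X) ≤ Nat.card V := by
  classical
  haveI := Fintype.ofFinite X
  set C : Subgroup X := G ⊓ Subgroup.centralizer ({v} : Set X) with hC
  haveI : Fintype C := Fintype.ofFinite _
  have hp := (Fact.out : p.Prime)
  have hVp : IsPGroup p V := fun w => ⟨1, Subtype.ext (by simpa using hVexp w w.2)⟩
  have habV : ∀ a ∈ V, ∀ b ∈ V, a * b = b * a := fun a ha b hb => ((hself.ge ha) b hb).symm
  have hpG : ¬ p ∣ Nat.card G := by rwa [← hGV.symm.index_eq_card]
  have hcop : (Nat.card V).Coprime (Nat.card G) := by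
    obtain ⟨a, ha⟩ := IsPGroup.iff_card.1 hVp
    rw [ha]
    exact Nat.Coprime.pow_left _ (hp.coprime_iff_not_dvd.2 hpG)
  have hpC : ¬ p ∣ Fintype.card C := fun h => hpG (h.trans (by
    rw [← Nat.card_eq_fintype_card]
    exact Subgroup.card_dvd_of_le inf_le_left))
  have hCv : ∀ c : C, (c : X) * v * (c : X)⁻¹ = v := fun c =>
    mul_inv_eq_iff_eq_mul.2 (Subgroup.mem_centralizer_singleton_iff.1 c.2.2)
  -- `U` as a module
  letI : CommGroup U :=
    { (inferInstance : Group U) with
      mul_comm := fun a b => Subtype.ext (habV a (hUV a.2) b (hUV b.2)) }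
  have hexpA : ∀ x : Additive U, p • x = 0 := fun x => by
    refine Additive.toMul.injective ?_
    rw [toMul_nsmul]
    exact Subtype.ext (by simpa using hVexp _ (hUV (Additive.toMul x).2))
  letI : Module (ZMod p) (Additive U) := AddCommGroup.zmodModule (n := p) hexpA
  haveI : Fintype (Additive U) := Fintype.ofFinite _
  let act : C → Module.End (ZMod p) (Additive U) := fun c => AddMonoidHom.toZModLinearMap p
        (AddMonoidHom.mk' (fun x => Additive.ofMul (⟨(c : X) * (Additive.toMul x : U) * (c : X)⁻¹,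
          hUinv c c.2.1 (hCv c) _ (Additive.toMul x).2⟩ : U)) fun x y => by
            refine congrArg Additive.ofMul (Subtype.ext ?_)
            show (c : X) * ((Additive.toMul x : U) * (Additive.toMul y : U) : X) * (c : X)⁻¹ =
              (c : X) * (Additive.toMul x : U) * (c : X)⁻¹ *
                ((c : X) * (Additive.toMul y : U) * (c : X)⁻¹)
            group)
  let ρ : Representation (ZMod p) C (Additive U) := show C →* Module.End (ZMod p) (Additive U) from
    { toFun := act
      map_one' := LinearMap.ext fun x => by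
        refine congrArg Additive.ofMul (Subtype.ext ?_)
        show ((1 : C) : X) * (Additive.toMul x : U) * ((1 : C) : X)⁻¹ = ((Additive.toMul x : U) : X)
        simp
      map_mul' := fun a b => LinearMap.ext fun x => by
        refine congrArg Additive.ofMul (Subtype.ext ?_)
        show ((a * b : C) : X) * (Additive.toMul x : U) * ((a * b : C) : X)⁻¹ =
          (a : X) * ((b : X) * (Additive.toMul x : U) * (b : X)⁻¹) * (a : X)⁻¹
        rw [Subgroup.coe_mul]
        group }
  have hρ : ∀ (c : C) (x : Additive U), ((Additive.toMul (ρ c x) : U) : X) =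
      (c : X) * (Additive.toMul x : U) * (c : X)⁻¹ := fun c x => rfl
  let Bl : Additive U → Additive U →ₗ[ZMod p] ZMod p := fun x =>
    AddMonoidHom.toZModLinearMap p (AddMonoidHom.mk'
      (fun y => β (Additive.toMul x : U) (Additive.toMul y : U))
      fun y y' => hβr _ (Additive.toMul x).2 _ (Additive.toMul y).2 _ (Additive.toMul y').2)
  let B : LinearMap.BilinForm (ZMod p) (Additive U) :=
    AddMonoidHom.toZModLinearMap p (AddMonoidHom.mk' Bl fun x x' => LinearMap.ext fun y =>
      hβl _ (Additive.toMul x).2 _ (Additive.toMul x').2 _ (Additive.toMul y).2)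
  have hBinv : ∀ c x y, B (ρ c x) (ρ c y) = B x y := fun c x y =>
    hβinv c c.2.1 (hCv c) _ (Additive.toMul x).2 _ (Additive.toMul y).2
  have hBl : ∀ x, (∀ y, B x y = 0) → x = 0 := fun x hx =>
    Additive.toMul.injective (Subtype.ext (hβnd _ (Additive.toMul x).2
      fun w hw => hx (Additive.ofMul ⟨w, hw⟩)))
  have hBnd : B.Nondegenerate :=
    LinearMap.BilinForm.Nondegenerate.ofSeparatingLeft hBl
  -- the class function
  set n : ℕ := 2 * p * Fintype.card C * Nat.card X with hn
  have hn0 : n ≠ 0 := mul_ne_zero (mul_ne_zero (mul_ne_zero two_ne_zero hp.ne_zero)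
    Fintype.card_ne_zero) Nat.card_pos.ne'
  have hn1 : 2 * p * Fintype.card C ∣ n := dvd_mul_right _ _
  have hnp : p ∣ n := ((dvd_mul_left p 2).trans (dvd_mul_right _ _)).trans hn1
  obtain ⟨U₁, U₂, hc, hU₁, hU₂, ⟨A, hA, hAinv, hAnd⟩, ⟨S, hS, hSinv, hSnd⟩, -⟩ :=
    Cfsg.Agent.S4966.result (F := ZMod p) p (G := C) (by rwa [Nat.card_eq_fintype_card]) ρ B hBnd
      hBinv
  let sub : ∀ (W : Submodule (ZMod p) (Additive U)), (∀ (g : C), ∀ u ∈ W, ρ g u ∈ W) →
      Representation (ZMod p) C W := fun W hW =>
    { toFun := fun g => (ρ g).restrict (hW g)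
      map_one' := LinearMap.ext fun u => Subtype.ext (by
        rw [LinearMap.coe_restrict_apply, map_one]; rfl)
      map_mul' := fun a b => LinearMap.ext fun u => Subtype.ext (by
        rw [LinearMap.coe_restrict_apply, map_mul]; rfl) }
  have hsub : ∀ (W : Submodule (ZMod p) (Additive U)) hW (g : C) (u : W), ((sub W hW g u : W) : Additive U) = ρ g u := fun W hW g u => rfl
  haveI : Fintype U₁ := Fintype.ofFinite _
  haveI : Fintype U₂ := Fintype.ofFinite _
  obtain ⟨η₁, hη₁⟩ : ∃ η, KGV.Good (sub U₁ hU₁) n η := by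
    have hnd1 : ∀ u : U₁, (∀ w : U₁, (A.domRestrict₁₂ U₁ U₁) u w = 0) → u = 0 := fun u hu =>
      Subtype.ext (hAnd u u.2 fun y hy => hu ⟨y, hy⟩)
    have hinv1 : ∀ (h : C) (u w : U₁), (A.domRestrict₁₂ U₁ U₁) (sub U₁ hU₁ h u) (sub U₁ hU₁ h w) =
        (A.domRestrict₁₂ U₁ U₁) u w := fun h u w => hAinv h u u.2 w w.2
    by_cases hp2 : p = 2
    · refine KGV.exists_good_symm _ (A.domRestrict₁₂ U₁ U₁) hinv1 hpC hnp (fun u w => ?_) hnd1
      show A (u : Additive U) (w : Additive U) = A (w : Additive U) (u : Additive U)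
      have h0 := hA ((u : Additive U) + w)
      simp only [map_add, LinearMap.add_apply, hA, zero_add, add_zero] at h0
      have h20 : ((2 : ℕ) : ZMod p) = 0 := (ZMod.natCast_eq_zero_iff 2 p).2 (hp2 ▸ dvd_rfl)
      push_cast at h20
      linear_combination h0 - A (w : Additive U) (u : Additive U) * h20
    · exact KGV.exists_good_alt _ (A.domRestrict₁₂ U₁ U₁) hinv1 hp2 hpC hn1 (fun u => hA u) hnd1
  obtain ⟨η₂, hη₂⟩ : ∃ η, KGV.Good (sub U₂ hU₂) n η :=
    KGV.exists_good_symm _ (S.domRestrict₁₂ U₂ U₂) (fun h u w => hSinv h u u.2 w w.2) hpC hnp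
      (fun u w => hS u w) fun u hu => Subtype.ext (hSnd u u.2 fun y hy => hu ⟨y, hy⟩)
  have hfix : ∀ h, KGV.fixN ρ h = KGV.fixN (sub U₁ hU₁) h * KGV.fixN (sub U₂ hU₂) h := fun h => by
    rw [KGV.fixN, KGV.fixN, KGV.fixN, ← Nat.card_prod]
    let e := Submodule.prodEquivOfIsCompl U₁ U₂ hc
    refine (Nat.card_congr (Equiv.ofBijective (fun x : {u : U₁ // sub U₁ hU₁ h u = u} ×
      {u : U₂ // sub U₂ hU₂ h u = u} => (⟨e (x.1.1, x.2.1), ?_⟩ : {u // ρ h u = u})) ⟨?_, ?_⟩)).symm
    · simp only [e, Submodule.coe_prodEquivOfIsCompl', map_add, ← hsub _ hU₁, ← hsub _ hU₂, x.1.2,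
        x.2.2]
    · intro x y hxy
      have h1 := e.injective (congrArg (fun z : {u // ρ h u = u} => z.1) hxy)
      simp only [Prod.mk.injEq] at h1
      exact Prod.ext (Subtype.ext h1.1) (Subtype.ext h1.2)
    · rintro ⟨u, hu⟩
      obtain ⟨⟨a, b⟩, rfl⟩ := e.surjective u
      have h1 : e (sub U₁ hU₁ h a, sub U₂ hU₂ h b) = e (a, b) := by
        simp only [e, Submodule.coe_prodEquivOfIsCompl', hsub, ← map_add] at hu ⊢
        exact hu
      have h2 := e.injective h1
      simp only [Prod.mk.injEq] at h2
      exact ⟨(⟨a, h2.1⟩, ⟨b, h2.2⟩), rfl⟩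
  have hη := KGV.Good.mul ρ hη₁ hη₂ hfix (by
    rw [← Nat.card_prod]
    exact (Nat.card_congr (Submodule.prodEquivOfIsCompl U₁ U₂ hc).toEquiv).symm)
  set η : C → ℂ := η₁ * η₂
  -- fixed points on `V`
  have hfixV : ∀ h : C, KGV.fixCard V (h : X) * Nat.card (Additive U) ≤ KGV.fixN ρ h * Nat.card V := by
    intro h
    let F : Subgroup V := (Subgroup.centralizer ({(h : X)} : Set X)).subgroupOf V
    have hFc : KGV.fixCard V (h : X) = Nat.card F :=
      Nat.card_congr (Equiv.subtypeEquivRight fun w => by
        show (w : X) * h = h * w ↔ (w : X) ∈ Subgroup.centralizer ({(h : X)} : Set X)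
        rw [Subgroup.mem_centralizer_singleton_iff])
    let U' : Subgroup V := U.subgroupOf V
    have hU'c : Nat.card U' = Nat.card (Additive U) :=
      Nat.card_congr ((Subgroup.subgroupOfEquivOfLe hUV).toEquiv.trans Additive.ofMul)
    have hinf : Nat.card (F ⊓ U' : Subgroup V) ≤ KGV.fixN ρ h := by
      refine Nat.card_le_card_of_injective
        (fun w => ⟨Additive.ofMul (⟨((w.1 : V) : X), w.2.2⟩ : U), ?_⟩) fun a b e => ?_
      · refine Additive.toMul.injective (Subtype.ext ?_)
        rw [hρ]
        exact mul_inv_eq_iff_eq_mul.2 (Subgroup.mem_centralizer_singleton_iff.1 w.2.1).symm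
      · exact Subtype.ext (Subtype.ext
          (congrArg (fun z : {u // ρ h u = u} => ((Additive.toMul z.1 : U) : X)) e))
    have h1 : Nat.card F = U'.relIndex F * Nat.card (F ⊓ U' : Subgroup V) := by
      rw [Subgroup.relIndex, ← (U'.subgroupOf F).index_mul_card, Subgroup.subgroupOf,
        Subgroup.index_comap]
      congr 1
      rw [inf_comm]
      exact Nat.card_congr
        ((Subgroup.subgroupOfEquivOfLe (inf_le_right (a := U') (b := F))).toEquiv.symm.trans
          (Equiv.subtypeEquivRight fun x => by simp [Subgroup.mem_subgroupOf])).symm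
    have h2 : U'.relIndex F ≤ U'.index := by
      haveI : U'.Normal := ⟨fun x hx g => by
        have : g * x * g⁻¹ = x := Subtype.ext (by
          show (g : X) * x * (g : X)⁻¹ = x
          rw [habV g g.2 x x.2, mul_inv_cancel_right])
        rwa [this]⟩
      exact Nat.le_of_dvd (Nat.pos_of_ne_zero Subgroup.index_ne_zero_of_finite)
        (Subgroup.relIndex_dvd_index_of_normal U' F)
    rw [hFc, h1, ← hU'c, ← U'.index_mul_card]
    calc U'.relIndex F * Nat.card (F ⊓ U' : Subgroup V) * Nat.card U'
        ≤ U'.index * KGV.fixN ρ h * Nat.card U' :=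
          Nat.mul_le_mul_right _ (Nat.mul_le_mul h2 hinf)
      _ = KGV.fixN ρ h * (U'.index * Nat.card U') := by ring
  have hirr0 : Nat.card (Cfsg.IrrCharacter C) ≠ 0 := by
    haveI : Nonempty (Cfsg.IrrCharacter C) := ⟨principal C⟩
    exact Nat.card_pos.ne'
  obtain ⟨M, hM⟩ := GlaubermanMod.exists_isPModular p
  have key : (Nat.card (ConjClasses X) : ℝ) ≤ (Nat.card V : ℝ) := by
    refine KGV.frame_bound (C := C) habV hcop hGV hv hC hn0 (dvd_mul_left _ _)
      (fun t : Cfsg.IrrCharacter C => η * (t : C → ℂ))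
      (fun t => hη.intCF.mul (KGV.VChar.of_char (IsIrrCharacter.isCharacter t.2)).intCF)
      (fun t h => (hη.cyc h).mul (KGV.Cyc.of_char (IsIrrCharacter.isCharacter t.2)
        (by rw [Nat.card_eq_fintype_card]; exact (dvd_mul_left _ _).trans hn1) h))
      (Nat.card (Cfsg.IrrCharacter C) : ℝ)⁻¹ (inv_nonneg.2 (Nat.cast_nonneg _)) (fun χ => ?_) _
      fun σ => ?_
    · have hall : ∀ t : Cfsg.IrrCharacter C, KGV.L C v χ (η * (t : C → ℂ)) ≠ 0 := by
        intro t hL
        rw [KGV.L, mul_eq_zero] at hL
        have hsum := hL.resolve_left (inv_ne_zero (Nat.cast_ne_zero.2 Nat.card_pos.ne'))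
        rw [← Finset.add_sum_erase _ _ (Finset.mem_univ (1 : C))] at hsum
        obtain ⟨d, hd0, hd⟩ := IsIrrCharacter.exists_degree χ.2
        obtain ⟨e, he0, he⟩ := IsIrrCharacter.exists_degree t.2
        have hdp : ¬ p ∣ d := by
          obtain ⟨θ, hθ⟩ := exists_restrict_constituent χ.2 V
          obtain ⟨r, hr, hdvd⟩ := exists_ratio_dvd_index V χ.2 θ.2 hθ
          rw [degree_one_of_comm (fun a b => Subtype.ext (habV a a.2 b b.2)) θ.2, mul_one, hd,
            Nat.cast_inj] at hr
          exact fun h => hidx ((hr ▸ h).trans hdvd)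
        have hep : ¬ p ∣ e := fun h => hpC (h.trans (by
          rw [← Nat.card_eq_fintype_card]
          exact degree_dvd_card t.2 he))
        have hde : ((d * e : ℕ) : AlgInt) ∉ M :=
          KGV.natCast_notMem hM fun h => ((Nat.Prime.dvd_mul hp).1 h).elim hdp hep
        obtain ⟨a, ha, hae⟩ := KGV.char_sub_degree_mem hM (IsIrrCharacter.isCharacter χ.2)
          (g := v) (k := 1) (by rw [pow_one]; exact hVexp v hv) hd
        have hrest : ∀ h ∈ (Finset.univ : Finset C).erase 1, ∃ b ∈ M,
            (b : ℂ) = (χ : X → ℂ) (v * h) * (η * (t : C → ℂ)) h := by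
          intro h hh
          have hne : KGV.fixN ρ h ≠ Nat.card (Additive U) := by
            intro e0
            refine Finset.ne_of_mem_erase hh (Subtype.ext (hUfaith h h.2.1 (hCv h) fun u hu => ?_))
            have htop : KGV.fixS ρ h = ⊤ := by
              refine SetLike.ext' (Set.eq_univ_of_forall fun x => ?_)
              by_contra hx
              have := Finite.card_subtype_lt (p := fun y => ρ h y = y) (x := x)
                (fun e1 => hx ((KGV.mem_fixS ρ).2 e1))
              exact this.ne e0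
            have h1 := (KGV.mem_fixS ρ).1 (htop.ge (Submodule.mem_top
              (x := Additive.ofMul (⟨u, hu⟩ : U))))
            simpa [hρ] using congrArg (fun z => ((Additive.toMul z : U) : X)) h1
          obtain ⟨b, hb, hbe⟩ := hη.mem M hM h hne
          refine ⟨(⟨_, IsCharacter.isIntegral (IsIrrCharacter.isCharacter χ.2) (v * (h : X))⟩ :
              AlgInt) * (b * ⟨_, IsCharacter.isIntegral (IsIrrCharacter.isCharacter t.2) h⟩),
            M.mul_mem_left _ (M.mul_mem_right _ hb), ?_⟩
          simp [hbe]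
        choose! b hb hbe using hrest
        have hm1 : ∃ s : AlgInt, (s : ℂ) = η 1 ∧ s * s = 1 := by
          rcases hη.one with h1 | h1
          · exact ⟨1, by simp [h1], by simp⟩
          · exact ⟨-1, by simp [h1], by simp⟩
        obtain ⟨s, hs, hs2⟩ := hm1
        refine hde ?_
        have hmem : ((d : AlgInt) + a) * (s * (e : AlgInt)) ∈ M := by
          have : ((d : AlgInt) + a) * (s * (e : AlgInt)) =
              -∑ h ∈ (Finset.univ : Finset C).erase 1, b h := by
            refine Subtype.ext ?_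
            push_cast
            rw [hae, hs, Finset.sum_congr rfl hbe, eq_neg_iff_add_eq_zero]
            refine Eq.trans ?_ hsum
            simp only [OneMemClass.coe_one, mul_one, Pi.mul_apply, he]
            ring
          rw [this]
          exact M.neg_mem (M.sum_mem hb)
        have h3 := M.sub_mem (M.mul_mem_left s hmem) (M.mul_mem_right (s * s * (e : AlgInt)) ha)
        have h4 : s * (((d : AlgInt) + a) * (s * (e : AlgInt))) - a * (s * s * (e : AlgInt)) =
            ((d * e : ℕ) : AlgInt) := by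
          push_cast
          linear_combination ((d : AlgInt) * (e : AlgInt)) * hs2
        rwa [h4] at h3
      rw [Finset.filter_true_of_mem fun t _ => hall t, Finset.card_univ, ← Nat.card_eq_fintype_card,
        inv_mul_cancel₀ (Nat.cast_ne_zero.2 hirr0)]
    · have hbound : ∀ h : C, ‖σ (η h)‖ ^ 2 * (KGV.fixCard V (h : X) : ℝ) ≤ Nat.card V := by
        intro h
        have h1 := hη.norm σ h
        have h2 : (KGV.fixCard V (h : X) : ℝ) * Nat.card (Additive U) ≤
            (KGV.fixN ρ h : ℝ) * Nat.card V := by exact_mod_cast hfixV h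
        have h3 : (0 : ℝ) < KGV.fixN ρ h := by
          haveI : Nonempty {u // ρ h u = u} := ⟨⟨0, map_zero _⟩⟩
          exact_mod_cast Nat.card_pos (α := {u // ρ h u = u})
        rw [← h1] at h2
        nlinarith [h2, h3]
      have hone : ∀ t : Cfsg.IrrCharacter C,
          (Nat.card C : ℝ)⁻¹ * ∑ h : C, ‖σ ((t : C → ℂ) h)‖ ^ 2 = 1 := by
        intro t
        have h1 := classInner_self_irr (CharGalois.IsIrrCharacter.twist t.2 σ)
        simp only [Cfsg.classInner, Complex.mul_conj', ← Complex.ofReal_pow, ← Complex.ofReal_sum,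
          ← Complex.ofReal_natCast, ← Complex.ofReal_inv, ← Complex.ofReal_mul] at h1
        exact Complex.ofReal_eq_one.1 h1
      calc (Nat.card (Cfsg.IrrCharacter C) : ℝ)⁻¹ * ∑ t : Cfsg.IrrCharacter C,
            (Nat.card C : ℝ)⁻¹ * ∑ h : C,
              ‖σ ((η * (t : C → ℂ)) h)‖ ^ 2 * (KGV.fixCard V (h : X) : ℝ)
          ≤ (Nat.card (Cfsg.IrrCharacter C) : ℝ)⁻¹ * ∑ t : Cfsg.IrrCharacter C,
              (Nat.card V : ℝ) * ((Nat.card C : ℝ)⁻¹ * ∑ h : C, ‖σ ((t : C → ℂ) h)‖ ^ 2) := by
            refine mul_le_mul_of_nonneg_left (Finset.sum_le_sum fun t _ => ?_)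
              (inv_nonneg.2 (Nat.cast_nonneg _))
            rw [mul_left_comm (Nat.card V : ℝ), Finset.mul_sum (a := (Nat.card V : ℝ))]
            refine mul_le_mul_of_nonneg_left (Finset.sum_le_sum fun h _ => ?_)
              (inv_nonneg.2 (Nat.cast_nonneg _))
            rw [Pi.mul_apply, map_mul, norm_mul, mul_pow, mul_right_comm]
            exact mul_le_mul_of_nonneg_right (hbound h) (sq_nonneg _)
        _ = (Nat.card V : ℝ) := by
            simp only [hone, mul_one, Finset.sum_const, Finset.card_univ, nsmul_eq_mul,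
              ← Nat.card_eq_fintype_card]
            rw [inv_mul_cancel_left₀ (Nat.cast_ne_zero.2 hirr0)]
  exact_mod_cast key

end Cfsg.Agent.S4959
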