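import Cfsg.Statements.S4964
import Cfsg.Agent.Lib.Blocks.ProductBlock
import Cfsg.Agent.Lib.Blocks.Quotient
import Cfsg.Agent.Lib.Blocks.MinMax
import Cfsg.Agent.Lib.Solvable.Coprime
import Cfsg.Agent.Lib.Solvable.NilpotentFrattini

set_option autoImplicit false
open Cfsg

namespace Cfsg.Agent.S4964

open Cfsg.Agent.Char Cfsg.Agent.Blocks
open scoped commutatorElement

universe u

theorem sameBlock_of_quot {G : Type u} [Group G] [Fintype G] (p : ℕ) [Fact p.Prime]
    {M : Ideal Cfsg.AlgInt} [M.IsPrime] (hM : Cfsg.IsPModular p M) (D : Subgroup G) [D.Normal]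
    (hD : IsPGroup p D) (D' : Subgroup G) [D'.Normal] (hD' : D' = ⁅D, D⁆) [Fintype (G ⧸ D')]
    (χ ψ : Cfsg.IrrCharacter (G ⧸ D'))
    (h : Cfsg.SameBlock M (CharX.infl D' χ : G → ℂ) (CharX.infl D' ψ : G → ℂ)) :
    Cfsg.SameBlock M (χ : G ⧸ D' → ℂ) (ψ : G ⧸ D' → ℂ) := by
  classical
  have hp : p.Prime := Fact.out
  set B := Cfsg.blockOf M (χ : G ⧸ D' → ℂ)
  have hB : Cfsg.IsPBlock M B := isPBlock_blockOf χ
  by_contra hne
  have hψ : ψ ∉ B := hne
  haveI : Finite (ConjClasses (G ⧸ D')) := Finite.of_surjective _ ConjClasses.mk_surjective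
  haveI : Fintype (ConjClasses (G ⧸ D')) := Fintype.ofFinite _
  have h1 : omegaR χ (blockEltR M B) - omegaR ψ (blockEltR M B) = 1 := by
    rw [omegaR_blockEltR hB, omegaR_blockEltR hB, if_pos (self_mem_blockOf χ), if_neg hψ, sub_zero]
  apply not_memLocalIdeal_one (M := M)
  rw [← h1, omegaR_eq_sum χ (isClassElt_blockEltR B), omegaR_eq_sum ψ (isClassElt_blockEltR B),
    ← Finset.sum_sub_distrib]
  refine memLocalIdeal_sum _ _ fun C _ => ?_
  rw [← mul_sub, coeff_blockEltR hB]
  generalize C.out = q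
  by_cases hq : p ∣ orderOf q
  · rw [blockCoeff_eq_zero_of_singular hM hB hq, zero_mul]
    exact memLocalIdeal_zero
  refine MemLocalIdeal.mul_left (blockCoeff_memLocalRing hB q) ?_
  set Db := D.map (QuotientGroup.mk' D')
  haveI : Db.Normal := Subgroup.Normal.map inferInstance _ (QuotientGroup.mk'_surjective D')
  have hDb : IsPGroup p Db := hD.map _
  by_cases hqC : q ∈ Subgroup.centralizer (Db : Set (G ⧸ D'))
  swap
  · refine MemLocalIdeal.sub (by_contra fun h' => hqC ?_) (by_contra fun h' => hqC ?_)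
    · exact mem_centralizer_of_not_memLocalIdeal hM Db hDb h'
    · exact mem_centralizer_of_not_memLocalIdeal hM Db hDb h'
  -- the `p`-regular lift
  obtain ⟨x, rfl⟩ := QuotientGroup.mk_surjective q
  obtain ⟨a, u, rfl, hau, ⟨i, hi⟩, hu⟩ := exists_isPPart hp x
  have hqu : ((a * u : G) : G ⧸ D') = (u : G ⧸ D') := by
    have hd : orderOf (a : G ⧸ D') ∣ p ^ i := hi ▸ orderOf_map_dvd (QuotientGroup.mk' D') a
    obtain ⟨j, -, hj⟩ := (Nat.dvd_prime_pow hp).1 hd
    rcases Nat.eq_zero_or_pos j with h0 | h0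
    · rw [h0, pow_zero, orderOf_eq_one_iff] at hj
      rw [QuotientGroup.mk_mul, hj, one_mul]
    · exfalso
      apply hq
      have hc : Commute (a : G ⧸ D') (u : G ⧸ D') := hau.map (QuotientGroup.mk' D')
      have hcop : (orderOf (a : G ⧸ D')).Coprime (orderOf (u : G ⧸ D')) := by
        rw [hj]
        exact Nat.Coprime.pow_left _ ((Nat.Prime.coprime_iff_not_dvd hp).2 fun h' =>
          hu (h'.trans (orderOf_map_dvd (QuotientGroup.mk' D') u)))
      rw [QuotientGroup.mk_mul, hc.orderOf_mul_eq_mul_orderOf_of_coprime hcop, hj]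
      exact dvd_mul_of_dvd_left (dvd_pow_self p h0.ne') _
  rw [hqu] at hqC ⊢
  -- `u` centralises `D`
  have hfr : ⁅D, D⁆ ≤ (frattini D).map D.subtype := by
    haveI : Group.IsNilpotent D := hD.isNilpotent
    refine le_trans (le_of_eq ?_) (Subgroup.map_mono (SolvStruct.commutator_le_frattini D))
    rw [commutator_def, Subgroup.map_commutator, ← MonoidHom.range_eq_map, Subgroup.range_subtype]
  have hcen : ∀ d ∈ D, d * u = u * d := by
    obtain ⟨k, hk⟩ := IsPGroup.iff_card.1 (hD.to_subgroup (frattini D))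
    have hle := CoprimeAct.le_centralizer_of_frattini (A := Subgroup.zpowers u) (K := D)
      (by rw [Subgroup.normalizer_eq_top]; exact le_top)
      (by rw [Nat.card_zpowers, hk]
          exact Nat.Coprime.pow_right _ ((Nat.Prime.coprime_iff_not_dvd hp).2 hu).symm)
      (by
        intro y hy d hd
        apply hfr
        have hyC : (y : G ⧸ D') ∈ Subgroup.centralizer (Db : Set (G ⧸ D')) := by
          obtain ⟨j, rfl⟩ := hy
          exact zpow_mem hqC j
        have h2 := Subgroup.mem_centralizer_iff.1 hyC _ (Subgroup.mem_map_of_mem _ hd)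
        rw [← hD', ← QuotientGroup.eq_one_iff]
        simp only [QuotientGroup.mk_mul, QuotientGroup.mk_inv]
        rw [QuotientGroup.mk'_apply] at h2
        rw [← h2]
        group)
    exact fun d hd => Subgroup.mem_centralizer_iff.1 (hle (Subgroup.mem_zpowers u)) d hd
  -- the centralisers correspond
  have hidx : (Subgroup.centralizer ({u} : Set G)).index =
      (Subgroup.centralizer ({(u : G ⧸ D')} : Set (G ⧸ D'))).index := by
    rw [← Subgroup.index_comap_of_surjective (f := QuotientGroup.mk' D') _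
      (QuotientGroup.mk'_surjective D')]
    congr 1
    ext c
    simp only [Subgroup.mem_comap, QuotientGroup.mk'_apply, Subgroup.mem_centralizer_singleton_iff]
    refine ⟨fun h' => by rw [← QuotientGroup.mk_mul, ← QuotientGroup.mk_mul, h'], fun h' => ?_⟩
    set d := c * u * c⁻¹ * u⁻¹ with hd
    have hdD' : d ∈ D' := by
      rw [← QuotientGroup.eq_one_iff, hd]
      simp only [QuotientGroup.mk_mul, QuotientGroup.mk_inv]
      rw [h']
      group
    have hdD : d ∈ D := (hD' ▸ hdD' : d ∈ ⁅D, D⁆) |> Subgroup.commutator_le_left D D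
    obtain ⟨j, hj⟩ := IsPGroup.iff_orderOf.1 hD ⟨d, hdD⟩
    rw [Subgroup.orderOf_mk] at hj
    have hcu : Commute d u := hcen d hdD
    have hord : orderOf (d * u) = orderOf u := by
      rw [show d * u = MulAut.conj c u by rw [hd, MulAut.conj_apply]; group, MulEquiv.orderOf_eq]
    have hcop : (orderOf d).Coprime (orderOf u) := by
      rw [hj]; exact Nat.Coprime.pow_left _ ((Nat.Prime.coprime_iff_not_dvd hp).2 hu)
    rw [hcu.orderOf_mul_eq_mul_orderOf_of_coprime hcop] at hord
    have hd1 : d = 1 := orderOf_eq_one_iff.1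
      (Nat.eq_of_mul_eq_mul_right (orderOf_pos u) (hord.trans (one_mul _).symm))
    rw [hd, mul_inv_eq_one, mul_inv_eq_iff_eq_mul] at hd1
    exact hd1
  have h2 := h u
  simp only [Cfsg.centralChar, CharX.infl_apply, hidx, QuotientGroup.mk_one] at h2
  exact h2

/-- Let D be a normal p-subgroup of the finite group G, let D′ be its commutator subgroup (normal in G), and fix a maximal ideal M of the algebraic integers containing p. Then (i) two irreducible characters of G ⧸ D′ lie in the same p-block if and only if their inflations to G do, and (ii) every p-block of G contains the inflation of some irreducible character of G ⧸ D′; so inflation induces a bijection between the p-blocks of G ⧸ D′ and the p-blocks of G. -/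
theorem result {G : Type*} [Group G] [Finite G] (p : ℕ) [Fact p.Prime] (M : Ideal Cfsg.AlgInt) (hM : Cfsg.IsPModular p M) (D : Subgroup G) [D.Normal] (hD : IsPGroup p D) : (∀ χ ψ : Cfsg.IrrCharacter (G ⧸ ⁅D, D⁆), Cfsg.SameBlock M (χ : G ⧸ ⁅D, D⁆ → ℂ) (ψ : G ⧸ ⁅D, D⁆ → ℂ) ↔ Cfsg.SameBlock M ((χ : G ⧸ ⁅D, D⁆ → ℂ) ∘ QuotientGroup.mk) ((ψ : G ⧸ ⁅D, D⁆ → ℂ) ∘ QuotientGroup.mk)) ∧ ∀ B : Set (Cfsg.IrrCharacter G), Cfsg.IsPBlock M B → ∃ χ : Cfsg.IrrCharacter (G ⧸ ⁅D, D⁆), ∃ θ ∈ B, (θ : G → ℂ) = (χ : G ⧸ ⁅D, D⁆ → ℂ) ∘ QuotientGroup.mk := by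
  classical
  haveI := Fintype.ofFinite G
  haveI := Fintype.ofFinite (G ⧸ ⁅D, D⁆)
  haveI := hM.2.1.isPrime
  refine ⟨fun χ ψ => ⟨fun h => ?_, fun h => sameBlock_of_quot p hM D hD _ rfl χ ψ h⟩, fun B hB => ?_⟩
  · have := infl_mem_of_mem (M := M) (N := ⁅D, D⁆) (isPBlock_blockOf (CharX.infl ⁅D, D⁆ χ))
      (isPBlock_blockOf χ) (self_mem_blockOf χ) h (self_mem_blockOf _)
    exact this
  · obtain ⟨θ, hθ, htriv⟩ := exists_trivial_on_normal hM hB D hD
    obtain ⟨χ, hχ⟩ := (CharX.quotEquiv ⁅D, D⁆).surjective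
      ⟨θ, fun x hx => htriv x (Subgroup.commutator_le_left D D hx)⟩
    exact ⟨χ, θ, hθ, (congrArg (fun t => ((t.1 : Cfsg.IrrCharacter G) : G → ℂ)) hχ).symm⟩

end Cfsg.Agent.S4964
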