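import Cfsg.Statements.S4965
import Mathlib.Tactic.Group
import Mathlib.GroupTheory.GroupAction.CardCommute
-- import your own Cfsg.Agent.* helpers here

set_option autoImplicit false
open Cfsg

namespace Cfsg.Agent.S4965

/-- Let X be a finite group with an abelian normal subgroup V (any two elements of V commute), and let φ be the action of X ⧸ V on V induced by conjugation (well defined because V is abelian; the hypothesis hφ says that the class of x acts as conjugation by x). Then X has at most as many conjugacy classes as the semidirect product of V by X ⧸ V formed with this action: the split extension has the largest class number among extensions with the given action. -/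
theorem result {X : Type*} [Group X] [Finite X] (V : Subgroup X) [V.Normal] (hab : ∀ a ∈ V, ∀ b ∈ V, a * b = b * a) (φ : X ⧸ V →* MulAut ↥V) (hφ : ∀ (x : X) (v : ↥V), ((φ (QuotientGroup.mk x) v : ↥V) : X) = x * v * x⁻¹) : Nat.card (ConjClasses X) ≤ Nat.card (ConjClasses (SemidirectProduct ↥V (X ⧸ V) φ)) := by
  classical
  haveI : Finite (SemidirectProduct ↥V (X ⧸ V) φ) := Finite.of_equiv _ SemidirectProduct.equivProd.symm
  have hcard : Nat.card (SemidirectProduct ↥V (X ⧸ V) φ) = Nat.card X := by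
    rw [SemidirectProduct.card, mul_comm, ← Subgroup.card_eq_card_quotient_mul_card_subgroup]
  -- the chosen commuting lift of a pair of cosets
  let L : (X ⧸ V) × (X ⧸ V) → X × X := fun q =>
    if h : ∃ p : X × X, Commute p.1 p.2 ∧ (QuotientGroup.mk p.1, QuotientGroup.mk p.2) = q then h.choose else (1, 1)
  have hL : ∀ p : X × X, Commute p.1 p.2 →
      Commute (L (↑p.1, ↑p.2)).1 (L (↑p.1, ↑p.2)).2 ∧
      ((L (↑p.1, ↑p.2)).1 : X ⧸ V) = p.1 ∧ ((L (↑p.1, ↑p.2)).2 : X ⧸ V) = p.2 := by
    intro p hp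
    have h : ∃ q : X × X, Commute q.1 q.2 ∧ (QuotientGroup.mk q.1, QuotientGroup.mk q.2) = ((p.1 : X ⧸ V), (p.2 : X ⧸ V)) :=
      ⟨p, hp, rfl⟩
    have hc := h.choose_spec
    have he : L (↑p.1, ↑p.2) = h.choose := dif_pos h
    rw [he]
    exact ⟨hc.1, congrArg Prod.fst hc.2, congrArg Prod.snd hc.2⟩
  have hmem : ∀ {x y : X}, (x : X ⧸ V) = y → x * y⁻¹ ∈ V := by
    intro x y h
    rw [← QuotientGroup.eq_one_iff (N := V) (x * y⁻¹)]
    simp [h]
  let T : {p : X × X // Commute p.1 p.2} →
      {p : SemidirectProduct ↥V (X ⧸ V) φ × SemidirectProduct ↥V (X ⧸ V) φ // Commute p.1 p.2} := fun p =>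
    ⟨(⟨⟨p.1.1 * (L (↑p.1.1, ↑p.1.2)).1⁻¹, hmem (hL p.1 p.2).2.1.symm⟩, (p.1.1 : X ⧸ V)⟩,
      ⟨⟨p.1.2 * (L (↑p.1.1, ↑p.1.2)).2⁻¹, hmem (hL p.1 p.2).2.2.symm⟩, (p.1.2 : X ⧸ V)⟩), by
      obtain ⟨⟨x, y⟩, hxy⟩ := p
      obtain ⟨hc, h1, h2⟩ := hL (x, y) hxy
      set x0 := (L (↑x, ↑y)).1
      set y0 := (L (↑x, ↑y)).2
      refine SemidirectProduct.ext (Subtype.ext ?_) ?_
      · simp only [SemidirectProduct.mul_left, Subgroup.coe_mul]
        have e1 := hφ x0 ⟨y * y0⁻¹, hmem h2.symm⟩
        have e2 := hφ y0 ⟨x * x0⁻¹, hmem h1.symm⟩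
        dsimp only at h1 h2 e1 e2
        rw [h1] at e1
        rw [h2] at e2
        simp only at *
        rw [e1, e2]
        have hc' : x0 * y0 = y0 * x0 := hc
        have hxy' : x * y = y * x := hxy
        calc x * x0⁻¹ * (x0 * (y * y0⁻¹) * x0⁻¹) = x * y * (x0 * y0)⁻¹ := by group
          _ = y * x * (y0 * x0)⁻¹ := by rw [hxy', hc']
          _ = y * y0⁻¹ * (y0 * (x * x0⁻¹) * y0⁻¹) := by group
      · simp only [SemidirectProduct.mul_right]
        rw [← QuotientGroup.mk_mul, ← QuotientGroup.mk_mul]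
        exact congrArg _ hxy⟩
  have hT : Function.Injective T := by
    rintro ⟨⟨x, y⟩, hxy⟩ ⟨⟨x', y'⟩, hxy'⟩ h
    have hp := congrArg Subtype.val h
    have ha : (x : X ⧸ V) = x' := congrArg (fun q => q.1.right) hp
    have hb : (y : X ⧸ V) = y' := congrArg (fun q => q.2.right) hp
    have hx := congrArg (fun q => (q.1.left : X)) hp
    have hy := congrArg (fun q => (q.2.left : X)) hp
    simp only [T] at hx hy
    rw [ha, hb, mul_left_inj] at hx hy
    exact Subtype.ext (Prod.ext hx hy)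
  have h := Nat.card_le_card_of_injective T hT
  rw [card_comm_eq_card_conjClasses_mul_card, card_comm_eq_card_conjClasses_mul_card, hcard] at h
  exact Nat.le_of_mul_le_mul_right h Nat.card_pos

end Cfsg.Agent.S4965
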