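import Cfsg.Statements.S4967
import Mathlib
-- import your own Cfsg.Agent.* helpers here

set_option autoImplicit false
open Cfsg

open scoped ComplexConjugate

namespace Cfsg.Agent.S4967

/-- Let F be a finite field with r elements and of characteristic p, H a finite abelian group of order prime to p, and V a faithful irreducible representation of H over F of dimension n (faithful: distinct elements act differently; irreducible: the only H-invariant subspaces are 0 and V). Call V self-dual when it carries a nondegenerate H-invariant bilinear form. If n = 1 and V is self-dual then H has order at most 2. If n ≥ 2 then V is self-dual if and only if n is even and the order of H divides r^(n/2) + 1. -/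
theorem result {F : Type*} [Field F] [Fintype F] (p : ℕ) [Fact p.Prime] [CharP F p] {H : Type*} [CommGroup H] [Finite H] (hcop : ¬ p ∣ Nat.card H) {V : Type*} [AddCommGroup V] [Module F V] [FiniteDimensional F V] (ρ : Representation F H V) (hfaith : Function.Injective ρ) (hirr : ∀ U : Submodule F V, (∀ h : H, ∀ u ∈ U, ρ h u ∈ U) → U = ⊥ ∨ U = ⊤) : (Module.finrank F V = 1 → (∃ B : LinearMap.BilinForm F V, B.Nondegenerate ∧ ∀ h : H, ∀ x y : V, B (ρ h x) (ρ h y) = B x y) → Nat.card H ≤ 2) ∧ (2 ≤ Module.finrank F V → ((∃ B : LinearMap.BilinForm F V, B.Nondegenerate ∧ ∀ h : H, ∀ x y : V, B (ρ h x) (ρ h y) = B x y) ↔ (Even (Module.finrank F V) ∧ Nat.card H ∣ Fintype.card F ^ (Module.finrank F V / 2) + 1))) := by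
  classical
  haveI : Fintype H := Fintype.ofFinite H
  by_cases hn0 : Module.finrank F V = 0
  · exact ⟨fun h => by omega, fun h => by omega⟩
  haveI : Nontrivial V := Module.nontrivial_of_finrank_pos (R := F) (Nat.pos_of_ne_zero hn0)
  let A : Subalgebra F (Module.End F V) := Algebra.adjoin F (Set.range ρ)
  have hHA : ∀ h, ρ h ∈ A := fun h => Algebra.subset_adjoin (Set.mem_range_self h)
  haveI : IsMulCommutative A := Algebra.isMulCommutative_adjoin F (by
    rintro _ ⟨a, rfl⟩ _ ⟨b, rfl⟩
    rw [← map_mul, ← map_mul, mul_comm])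
  have hAcomm : ∀ a ∈ A, ∀ b ∈ A, a * b = b * a := fun a ha b hb => setLike_mul_comm ha hb
  have hker : ∀ a ∈ A, a ≠ 0 → ∀ x, a x = 0 → x = 0 := by
    intro a ha ha0 x hx
    rcases hirr (LinearMap.ker a) (fun h u hu => by
      rw [LinearMap.mem_ker] at hu ⊢
      rw [← Module.End.mul_apply, hAcomm a ha _ (hHA h), Module.End.mul_apply, hu, map_zero]) with
      h0 | h0
    · exact (Submodule.mem_bot F).1 (h0 ▸ LinearMap.mem_ker.2 hx)
    · exact absurd (LinearMap.ker_eq_top.1 h0) ha0
  letI : CommRing A :=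
    { (inferInstance : Ring A) with mul_comm := fun a b => Subtype.ext (hAcomm a a.2 b b.2) }
  haveI : NoZeroDivisors A := ⟨fun {a b} hab => by
    by_cases ha : a = 0
    · exact Or.inl ha
    · refine Or.inr (Subtype.ext (LinearMap.ext fun x => ?_))
      exact hker a a.2 (fun e => ha (Subtype.ext e)) _
        (LinearMap.congr_fun (congrArg Subtype.val hab) x)⟩
  haveI : Nontrivial A := ⟨1, 0, fun h => by
    obtain ⟨x, hx⟩ := exists_ne (0 : V)
    exact hx (LinearMap.congr_fun (congrArg Subtype.val h) x)⟩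
  haveI : IsDomain A := NoZeroDivisors.to_isDomain A
  haveI : Finite V := Module.finite_of_finite F
  haveI : Finite (Module.End F V) := Finite.of_injective _ DFunLike.coe_injective
  haveI : Finite A := inferInstance
  letI : Field A := (Finite.isField_of_domain A).toField
  obtain ⟨v₀, hv₀⟩ := exists_ne (0 : V)
  let Ev : A →ₗ[F] V :=
    { toFun := fun a => (a : Module.End F V) v₀
      map_add' := fun a b => rfl
      map_smul' := fun c a => rfl }
  have hEvinj : Function.Injective Ev := by
    rw [← LinearMap.ker_eq_bot, LinearMap.ker_eq_bot']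
    intro a ha
    by_contra h
    exact hv₀ (hker a a.2 (fun e => h (Subtype.ext e)) _ ha)
  have hEvsurj : Function.Surjective Ev := by
    rw [← LinearMap.range_eq_top]
    refine (hirr _ ?_).resolve_left ?_
    · rintro h _ ⟨a, rfl⟩
      exact ⟨⟨ρ h, hHA h⟩ * a, rfl⟩
    · intro h
      refine hv₀ ((Submodule.mem_bot F).1 (h ▸ ⟨1, rfl⟩))
  let E : A ≃ₗ[F] V := LinearEquiv.ofBijective Ev ⟨hEvinj, hEvsurj⟩
  have hfr : Module.finrank F A = Module.finrank F V := E.finrank_eq
  let ι : H →* A := ρ.codRestrict A hHA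
  have hι : Function.Injective ι := fun a b e => hfaith (congrArg Subtype.val e)
  haveI : IsCyclic H := isCyclic_of_injective_ringHom ι hι
  have hιinv : ∀ h, ι h * ι h⁻¹ = 1 := fun h => by rw [← map_mul, mul_inv_cancel, map_one]
  -- the adjoint automorphism of an invariant form
  have hadj : ∀ B : LinearMap.BilinForm F V, B.Nondegenerate →
      (∀ h : H, ∀ x y : V, B (ρ h x) (ρ h y) = B x y) → ∃ σ : A →ₐ[F] A, ∀ h, σ (ι h) = ι h⁻¹ := by
    intro B hB hBinv
    let R : A → A → Prop := fun a b => ∀ x y, B ((a : Module.End F V) x) y = B x ((b : Module.End F V) y)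
    have hRuniq : ∀ a b b', R a b → R a b' → b = b' := fun a b b' h h' =>
      Subtype.ext (LinearMap.ext fun y => sub_eq_zero.1 (hB.2 _ fun x => by
        rw [map_sub, ← h, ← h', sub_self]))
    have hex : ∀ a : A, ∃ b, R a b := by
      rintro ⟨a, ha⟩
      induction ha using Algebra.adjoin_induction with
      | mem x hx =>
        obtain ⟨h, rfl⟩ := hx
        refine ⟨ι h⁻¹, fun x y => ?_⟩
        show B (ρ h x) y = B x (ρ h⁻¹ y)
        rw [← hBinv h⁻¹ (ρ h x) y, ← Module.End.mul_apply, ← map_mul, inv_mul_cancel, map_one,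
          Module.End.one_apply]
      | algebraMap r =>
        exact ⟨algebraMap F A r, fun x y => by simp [Module.algebraMap_end_apply]⟩
      | add x y _ _ hx hy =>
        obtain ⟨b, hb⟩ := hx
        obtain ⟨c, hc⟩ := hy
        exact ⟨b + c, fun u w => by
          simp only [AddMemClass.coe_add, LinearMap.add_apply, map_add]
          rw [← hb, ← hc]⟩
      | mul x y _ _ hx hy =>
        obtain ⟨b, hb⟩ := hx
        obtain ⟨c, hc⟩ := hy
        exact ⟨c * b, fun u w => (hb _ w).trans (hc u _)⟩
    choose s hs using hex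
    refine ⟨{ toFun := s, map_one' := ?_, map_mul' := ?_, map_zero' := ?_, map_add' := ?_,
              commutes' := ?_ }, fun h => ?_⟩
    · exact hRuniq 1 _ _ (hs 1) fun x y => rfl
    · intro a b
      refine hRuniq (a * b) _ _ (hs _) ?_
      rw [mul_comm (s a)]
      exact fun u w => (hs a _ w).trans (hs b u _)
    · exact hRuniq 0 _ _ (hs 0) fun x y => by simp
    · intro a b
      exact hRuniq (a + b) _ _ (hs _) fun x y => by
        simp only [AddMemClass.coe_add, LinearMap.add_apply, map_add]
        rw [← hs, ← hs]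
    · intro r
      exact hRuniq _ _ _ (hs _) fun x y => by simp [Module.algebraMap_end_apply]
    · refine hRuniq (ι h) _ _ (hs _) fun x y => ?_
      show B (ρ h x) y = B x (ρ h⁻¹ y)
      rw [← hBinv h⁻¹ (ρ h x) y, ← Module.End.mul_apply, ← map_mul, inv_mul_cancel, map_one,
        Module.End.one_apply]
  have hgen : ∀ σ τ : A →ₐ[F] A, (∀ h, σ (ι h) = τ (ι h)) → σ = τ := by
    intro σ τ h
    refine AlgHom.ext fun ⟨a, ha⟩ => ?_
    induction ha using Algebra.adjoin_induction with
    | mem x hx => obtain ⟨g, rfl⟩ := hx; exact h g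
    | algebraMap r => exact (σ.commutes r).trans (τ.commutes r).symm
    | add x y hx hy ihx ihy =>
      show σ (⟨x, hx⟩ + ⟨y, hy⟩) = τ (⟨x, hx⟩ + ⟨y, hy⟩)
      rw [map_add, map_add, ihx, ihy]
    | mul x y hx hy ihx ihy =>
      show σ (⟨x, hx⟩ * ⟨y, hy⟩) = τ (⟨x, hx⟩ * ⟨y, hy⟩)
      rw [map_mul, map_mul, ihx, ihy]
  -- an involutive image means scalars
  have hsmall : (∀ h, ι h = ι h⁻¹) → Nat.card H ≤ 2 ∧ Module.finrank F V ≤ 1 := by
    intro hh
    have hsq : ∀ h, ι h = 1 ∨ ι h = -1 := fun h => by
      have h1 := hιinv h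
      rw [← hh, ← pow_two] at h1
      exact sq_eq_one_iff.1 h1
    constructor
    · refine (Nat.card_le_card_of_injective
        (fun h => (⟨ι h, by rcases hsq h with e | e <;> simp [e]⟩ : ({1, -1} : Finset A)))
        fun a b e => hι (congrArg Subtype.val e)).trans ?_
      rw [Nat.card_eq_finsetCard]
      exact Finset.card_le_two
    · have hbot : A ≤ ⊥ := Algebra.adjoin_le (by
        rintro _ ⟨h, rfl⟩
        rcases hsq h with e | e
        · rw [show ρ h = 1 from congrArg Subtype.val e]
          exact one_mem (⊥ : Subalgebra F (Module.End F V))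
        · rw [show ρ h = -1 from congrArg Subtype.val e]
          exact neg_mem (one_mem (⊥ : Subalgebra F (Module.End F V))))
      rw [← hfr]
      refine finrank_le_one (1 : A) fun a => ?_
      obtain ⟨r, hr⟩ := Algebra.mem_bot.1 (hbot a.2)
      exact ⟨r, Subtype.ext (by rw [← hr, Algebra.algebraMap_eq_smul_one]; rfl)⟩
  refine ⟨fun h1 ⟨B, hB, hBinv⟩ => ?_, fun h2 => ⟨fun ⟨B, hB, hBinv⟩ => ?_, fun ⟨⟨m, hm⟩, hdvd⟩ => ?_⟩⟩
  · refine (hsmall fun h => ?_).1
    obtain ⟨σ, hσ⟩ := hadj B hB hBinv
    obtain ⟨c, hc⟩ := (finrank_eq_one_iff_of_nonzero' (1 : A) one_ne_zero).1 (hfr.trans h1) (ι h)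
    rw [← hσ, ← hc, map_smul, map_one]
  · obtain ⟨σ, hσ⟩ := hadj B hB hBinv
    haveI : Fintype A := Fintype.ofFinite A
    obtain ⟨⟨i, hi⟩, hiσ⟩ := (FiniteField.bijective_frobeniusAlgEquivOfAlgebraic_pow F A).2
      (AlgEquiv.ofBijective σ (Finite.injective_iff_bijective.1 σ.toRingHom.injective))
    have hpw : ∀ x : A, σ x = x ^ (Fintype.card F ^ i) := fun x => by
      have e := DFunLike.congr_fun hiσ x
      rw [show AlgEquiv.ofBijective σ _ x = σ x from rfl] at e
      rw [← e, AlgEquiv.coe_pow, FiniteField.coe_frobeniusAlgEquivOfAlgebraic_iterate]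
    have h2i : (FiniteField.frobeniusAlgEquivOfAlgebraic F A) ^ (2 * i) = 1 := by
      refine AlgEquiv.ext fun x => ?_
      have hid : σ.comp σ = AlgHom.id F A := hgen _ _ fun h => by
        rw [AlgHom.comp_apply, hσ, hσ, inv_inv]; rfl
      have e := DFunLike.congr_fun hid x
      rw [AlgHom.comp_apply, hpw, hpw, ← pow_mul, ← pow_add, ← two_mul] at e
      rw [AlgEquiv.coe_pow, FiniteField.coe_frobeniusAlgEquivOfAlgebraic_iterate]
      exact e
    have hdv := orderOf_dvd_of_pow_eq_one h2i
    rw [FiniteField.orderOf_frobeniusAlgEquivOfAlgebraic, hfr] at hdv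
    rw [hfr] at hi
    have hi0 : i ≠ 0 := fun h0 => by
      have := (hsmall fun h => by rw [← hσ, hpw, h0, pow_zero, pow_one]).2
      omega
    obtain ⟨t, ht⟩ := hdv
    have ht1 : t = 1 := by
      rcases t with _ | _ | t
      · omega
      · rfl
      · nlinarith
    rw [ht1, mul_one] at ht
    refine ⟨⟨i, by omega⟩, ?_⟩
    rw [show Module.finrank F V / 2 = i by omega, ← IsCyclic.exponent_eq_card]
    refine Monoid.exponent_dvd_of_forall_pow_eq_one fun h => hι ?_
    rw [map_one, map_pow, pow_succ, ← hpw, hσ, mul_comm, hιinv]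
  · haveI : Fintype A := Fintype.ofFinite A
    let σ : A ≃ₐ[F] A := FiniteField.frobeniusAlgEquivOfAlgebraic F A ^ (Module.finrank F V / 2)
    have hσ : ∀ h, ι h * σ (ι h) = 1 := fun h => by
      simp only [σ, AlgEquiv.coe_pow, FiniteField.coe_frobeniusAlgEquivOfAlgebraic_iterate]
      rw [← pow_succ', ← map_pow,
        orderOf_dvd_iff_pow_eq_one.1 ((orderOf_dvd_natCard h).trans hdvd), map_one]
    obtain ⟨f, hf⟩ := Module.Projective.exists_dual_ne_zero F (one_ne_zero : (1 : A) ≠ 0)
    refine ⟨LinearMap.mk₂ F (fun x y => f (E.symm x * σ (E.symm y)))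
      (fun a b c => by rw [map_add, add_mul, map_add])
      (fun r a c => by rw [map_smul, smul_mul_assoc, map_smul])
      (fun a b c => by rw [map_add, map_add, mul_add, map_add])
      (fun r a c => by rw [map_smul, map_smul, mul_smul_comm, map_smul]),
      LinearMap.BilinForm.Nondegenerate.ofSeparatingLeft fun x hx => ?_, fun h x y => ?_⟩
    · by_contra hne
      have h0 : E.symm x ≠ 0 := fun e => hne (by
        rw [← E.apply_symm_apply x, e, map_zero])
      have := hx (E (σ.symm (E.symm x)⁻¹))
      simp only [LinearMap.mk₂_apply, LinearEquiv.symm_apply_apply, AlgEquiv.apply_symm_apply,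
        mul_inv_cancel₀ h0] at this
      exact hf this
    · have hE : ∀ z, E.symm (ρ h z) = ι h * E.symm z := fun z => by
        rw [LinearEquiv.symm_apply_eq]
        show ρ h z = ρ h ((E.symm z : Module.End F V) v₀)
        exact congrArg (ρ h) (E.apply_symm_apply z).symm
      simp only [LinearMap.mk₂_apply, hE, map_mul]
      rw [mul_mul_mul_comm, hσ, one_mul]

end Cfsg.Agent.S4967
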