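import Cfsg.Statements.S4989
import Cfsg.Agent.Lib.Char.Galois
import Cfsg.Agent.Lib.Char.Degree

set_option autoImplicit false
open Cfsg
open Cfsg.Agent.Char Cfsg.Agent.CharX
open scoped ComplexConjugate

namespace Cfsg.Agent.S4989

/-- Let H be a subgroup of the finite group G and χ an irreducible complex character of G. Then the inner product of the restriction of χ to H with itself, (1/#H)·Σ_{h ∈ H} |χ(h)|², is at most 1 + #(Z ∖ H)/#H, where Z is the set of zeros of χ in G. -/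
theorem result {G : Type*} [Group G] [Finite G] (H : Subgroup G) (χ : Cfsg.IrrCharacter G) : (Nat.card ↥H : ℝ)⁻¹ * ∑ᶠ h : ↥H, ‖(χ : G → ℂ) h‖ ^ 2 ≤ 1 + (Set.ncard ({x : G | (χ : G → ℂ) x = 0} \ (H : Set G)) : ℝ) / (Nat.card ↥H : ℝ) := by
  classical
  haveI := Fintype.ofFinite G
  rw [finsum_eq_sum_of_fintype]
  have hsum : (∑ g : G, ‖(χ : G → ℂ) g‖ ^ 2 : ℝ) = Nat.card G := by
    have := classInner_self_irr χ.2
    rw [Cfsg.classInner, inv_mul_eq_one₀ (Nat.cast_ne_zero.2 Nat.card_pos.ne')] at this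
    simp only [Complex.mul_conj, Complex.normSq_eq_norm_sq] at this
    exact_mod_cast this.symm
  let s : Finset G := Finset.univ.filter fun g => g ∉ H ∧ (χ : G → ℂ) g ≠ 0
  have hs : (s.card : ℝ) ≤ ∑ g ∈ s, ‖(χ : G → ℂ) g‖ ^ 2 := by
    refine Cfsg.Agent.CharGalois.card_le_sum_normSq_char (IsIrrCharacter.isCharacter χ.2) s ?_
      (fun g hg => (Finset.mem_filter.1 hg).2.2)
    intro g hg k hk
    obtain ⟨hg1, hg2⟩ := (Finset.mem_filter.1 hg).2
    refine Finset.mem_filter.2 ⟨Finset.mem_univ _, fun hgk => hg1 ?_, ?_⟩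
    · obtain ⟨m, hm⟩ := exists_pow_eq_self_of_coprime (hk.coprime_dvd_right (orderOf_dvd_natCard g))
      rw [← hm]; exact H.pow_mem hgk m
    · obtain ⟨σ, hσ⟩ := Cfsg.Agent.CharGalois.exists_galoisAut (Nat.card_pos (α := G)).ne' hk
      rw [← Cfsg.Agent.CharGalois.map_char (IsIrrCharacter.isCharacter χ.2) σ.toRingHom hσ g]
      exact fun h0 => hg2 (σ.map_eq_zero_iff.1 h0)
  have hsplit := Finset.sum_filter_add_sum_filter_not (Finset.univ : Finset G) (fun g => g ∈ H)
    (fun g => ‖(χ : G → ℂ) g‖ ^ 2)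
  rw [hsum, Finset.sum_subtype (p := fun g => g ∈ H) _ (by simp) (fun g => ‖(χ : G → ℂ) g‖ ^ 2)] at hsplit
  have hle : ∑ g ∈ s, ‖(χ : G → ℂ) g‖ ^ 2 ≤
      ∑ g ∈ Finset.univ.filter (fun g => ¬ g ∈ H), ‖(χ : G → ℂ) g‖ ^ 2 :=
    Finset.sum_le_sum_of_subset_of_nonneg (fun g hg => Finset.mem_filter.2 ⟨Finset.mem_univ _, (Finset.mem_filter.1 hg).2.1⟩)
      fun g _ _ => by positivity
  have hcount : s.card + Set.ncard ({x : G | (χ : G → ℂ) x = 0} \ (H : Set G)) + Nat.card H = Nat.card G := by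
    have e1 : Set.ncard ({x : G | (χ : G → ℂ) x = 0} \ (H : Set G)) =
        (Finset.univ.filter fun g => g ∉ H ∧ (χ : G → ℂ) g = 0).card := by
      rw [← Set.ncard_coe_finset]; congr 1; ext x; simp [and_comm]
    have e2 : Nat.card H = (Finset.univ.filter fun g => g ∈ H).card := by
      rw [← Fintype.card_subtype, ← Nat.card_eq_fintype_card]
    have e3 := Finset.card_filter_add_card_filter_not (s := (Finset.univ : Finset G)) (fun g => g ∈ H)
    have e4 := Finset.card_filter_add_card_filter_not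
      (s := Finset.univ.filter fun g : G => g ∉ H) (fun g => (χ : G → ℂ) g = 0)
    simp only [Finset.filter_filter] at e4
    rw [Nat.card_eq_fintype_card (α := G), ← Finset.card_univ, e1, e2]
    simp only [s, ne_eq] at *
    omega
  have hH : (0 : ℝ) < Nat.card H := by exact_mod_cast Nat.card_pos
  have hcount' : (s.card : ℝ) + (Set.ncard ({x : G | (χ : G → ℂ) x = 0} \ (H : Set G)) : ℝ) + (Nat.card H : ℝ) =
      Nat.card G := by exact_mod_cast hcount
  rw [inv_mul_le_iff₀ hH, mul_add, mul_one, mul_div_cancel₀ _ hH.ne']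
  linarith

end Cfsg.Agent.S4989
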