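import Cfsg.Statements.S4993
import Cfsg.Agent.Lib.PrimClass.Main
import Cfsg.Agent.Lib.Char.Burnside
import Cfsg.Agent.Lib.Solvable.Fitting
import Cfsg.Agent.Lib.Solvable.Structure
-- import your own Cfsg.Agent.* helpers here

set_option autoImplicit false
open Cfsg

namespace Cfsg.Agent.S4993

open scoped commutatorElement

universe u

theorem trivial_on_factor {G : Type u} [Group G] [Finite G] {p : ℕ} [Fact p.Prime] (C : Subgroup G)
    (hCn : C.Normal) (hpow : ∀ c ∈ C, ∃ k : ℕ, c ^ p ^ k ∈ Cfsg.fittingSubgroup G)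
    (K L : Subgroup G) (hch : Cfsg.IsChiefFactor K L) (hp : ∃ n : ℕ, L.relIndex K = p ^ n) :
    ∀ c ∈ C, ∀ x ∈ K, ⁅x, c⁆ ∈ L := by
  obtain ⟨hLK, hKn, hLn, hchief⟩ := hch
  haveI := hLn
  set Kb := K.map (QuotientGroup.mk' L) with hKb
  haveI hKbn : Kb.Normal := hKn.map _ (QuotientGroup.mk'_surjective L)
  have hKbne : Kb ≠ ⊥ := by
    rw [hKb, Ne, Subgroup.map_eq_bot_iff, QuotientGroup.ker_mk']
    exact fun h => hLK.ne (le_antisymm hLK.le h)
  have hKbmin : ∀ W : Subgroup (G ⧸ L), W.Normal → W ≤ Kb → W = ⊥ ∨ W = Kb := by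
    intro W hW hWK
    have hLW : L ≤ W.comap (QuotientGroup.mk' L) := fun x hx => by
      rw [Subgroup.mem_comap, QuotientGroup.mk'_apply, (QuotientGroup.eq_one_iff x).2 hx]
      exact W.one_mem
    have hWK' : W.comap (QuotientGroup.mk' L) ≤ K := by
      refine (Subgroup.comap_mono hWK).trans ?_
      rw [hKb, Subgroup.comap_map_eq, QuotientGroup.ker_mk', sup_eq_left.2 hLK.le]
    rcases hchief _ (hW.comap _) hLW hWK' with h | h
    · left
      rw [← Subgroup.map_comap_eq_self_of_surjective (QuotientGroup.mk'_surjective L) W, h,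
        QuotientGroup.map_mk'_self]
    · right
      rw [← Subgroup.map_comap_eq_self_of_surjective (QuotientGroup.mk'_surjective L) W, h]
  obtain ⟨n, hn⟩ := hp
  have hKbp : IsPGroup p ↥Kb := IsPGroup.of_card (n := n) (by
    rw [← hn, hKb]
    conv_rhs => rw [← QuotientGroup.ker_mk' L]
    rw [Subgroup.relIndex_ker])
  haveI : (C.map (QuotientGroup.mk' L)).Normal := hCn.map _ (QuotientGroup.mk'_surjective L)
  have hle := ChiefAct.le_centralizer_of_pow (R := C.map (QuotientGroup.mk' L))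
    (P := Kb) ⟨bot_lt_iff_ne_bot.2 hKbne, hKbn, inferInstance, fun N hN _ hNK => hKbmin N hN hNK⟩
    hKbp (by
      rintro _ ⟨c, hc, rfl⟩
      obtain ⟨k, hk⟩ := hpow c hc
      refine ⟨k, ?_⟩
      rw [← map_pow]
      exact SolvStruct.fitting_le_centralizer_minimal hKbne hKbmin
        (FittingCores.fitting_map_le (QuotientGroup.mk'_surjective L) (Subgroup.mem_map_of_mem _ hk)))
  intro c hc x hx
  rw [← QuotientGroup.eq_one_iff, ← QuotientGroup.mk'_apply, map_commutatorElement,
    commutatorElement_eq_one_iff_mul_comm]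
  exact Subgroup.mem_centralizer_iff.1 (hle (Subgroup.mem_map_of_mem _ hc)) _
    (Subgroup.mem_map_of_mem _ hx)

/-- The preimage of a Sylow subgroup of the nilpotent quotient. -/
theorem exists_preimage {G : Type u} [Group G] [Finite G] [(Cfsg.fittingSubgroup G).Normal]
    (hmeta : Group.IsNilpotent (G ⧸ Cfsg.fittingSubgroup G)) (p : ℕ) [hp : Fact p.Prime] :
    ∃ C : Subgroup G, C.Normal ∧ ¬ p ∣ C.index ∧
      ∀ c ∈ C, ∃ k : ℕ, c ^ p ^ k ∈ Cfsg.fittingSubgroup G := by
  haveI := hmeta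
  let P : Sylow p (G ⧸ Cfsg.fittingSubgroup G) := default
  have hPn : (P : Subgroup (G ⧸ Cfsg.fittingSubgroup G)).Normal :=
    P.normal_of_normalizerCondition Group.normalizerCondition_of_isNilpotent
  refine ⟨(P : Subgroup _).comap (QuotientGroup.mk' (Cfsg.fittingSubgroup G)),
    hPn.comap (QuotientGroup.mk' (Cfsg.fittingSubgroup G)), ?_, fun c hc => ?_⟩
  · rw [Subgroup.index_comap_of_surjective _ (QuotientGroup.mk'_surjective _)]
    exact P.not_dvd_index
  · obtain ⟨k, hk⟩ := P.isPGroup' ⟨_, Subgroup.mem_comap.1 hc⟩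
    refine ⟨k, (QuotientGroup.eq_one_iff _).1 ?_⟩
    rw [← QuotientGroup.mk'_apply, map_pow]
    exact congrArg Subtype.val hk

/-- Let G be a group of odd order whose order has exactly two prime divisors and whose quotient by its Fitting subgroup is nilpotent (G is metanilpotent), and let χ be a primitive irreducible complex character of G (not induced from a character of any proper subgroup). Then χ(1) divides the size of some conjugacy class of G. -/
theorem result {G : Type*} [Group G] [Fintype G] (hodd : Odd (Nat.card G)) (h2 : (Nat.card G).primeFactors.card = 2) [hF : (Cfsg.fittingSubgroup G).Normal] (hmeta : Group.IsNilpotent (G ⧸ Cfsg.fittingSubgroup G)) (χ : Cfsg.IrrCharacter G) (hprim : ¬ ∃ (H : Subgroup G), H ≠ ⊤ ∧ ∃ θ : ↥H → ℂ, Cfsg.IsCharacter ↥H θ ∧ Cfsg.indFun H θ = (χ : G → ℂ)) : ∃ g : G, Cfsg.charDegree (χ : G → ℂ) ∣ (Subgroup.centralizer ({g} : Set G)).index := by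
  classical
  obtain ⟨p, q, hpq, hpf⟩ := Finset.card_eq_two.1 h2
  have hp : p.Prime := Nat.prime_of_mem_primeFactors (n := Nat.card G) (by
    rw [hpf]; exact Finset.mem_insert_self _ _)
  have hq : q.Prime := Nat.prime_of_mem_primeFactors (n := Nat.card G) (by
    rw [hpf]; exact Finset.mem_insert_of_mem (Finset.mem_singleton_self _))
  haveI := Fact.mk hp
  haveI := Fact.mk hq
  haveI hsolv : Group.IsSolvable G := Char.isSolvable_of_card_pq p q hp hq _ G rfl
    ⟨(Nat.card G).factorization p, (Nat.card G).factorization q, by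
      conv_lhs => rw [← Nat.prod_factorization_pow_eq_self (Nat.card_pos (α := G)).ne']
      rw [Finsupp.prod, Nat.support_factorization, hpf, Finset.prod_pair hpq]⟩
  obtain ⟨Cp, hCpn, hCpi, hCp⟩ := exists_preimage hmeta p
  obtain ⟨Cq, hCqn, hCqi, hCq⟩ := exists_preimage hmeta q
  obtain ⟨ℓ, hℓ, hℓC, g, hg⟩ := PrimClass.exists_mass_top p Cp
    (trivial_on_factor Cp hCpn hCp) χ hprim
  obtain ⟨ℓ', hℓ', hℓC', g', hg'⟩ := PrimClass.exists_mass_top q Cq
    (trivial_on_factor Cq hCqn hCq) χ hprim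
  haveI := hCpn
  have htop : Cp ⊔ Cq = ⊤ := by
    rw [← Subgroup.index_eq_one]
    by_contra h
    obtain ⟨r, hr, hrd⟩ := Nat.exists_prime_and_dvd h
    have : r ∈ (Nat.card G).primeFactors :=
      Nat.mem_primeFactors.2 ⟨hr, hrd.trans (Cp ⊔ Cq).index_dvd_card, Nat.card_pos.ne'⟩
    rw [hpf, Finset.mem_insert, Finset.mem_singleton] at this
    rcases this with rfl | rfl
    · exact hCpi (hrd.trans (Subgroup.index_dvd_of_le le_sup_left))
    · exact hCqi (hrd.trans (Subgroup.index_dvd_of_le le_sup_right))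
  obtain ⟨a, ha, b, hb, hab⟩ := Subgroup.mem_sup_of_normal_left.1
    (htop ▸ Subgroup.mem_top (g⁻¹ * g') : g⁻¹ * g' ∈ Cp ⊔ Cq)
  have e : g * a = g' * b⁻¹ := by
    rw [eq_mul_inv_iff_mul_eq, mul_assoc, hab, mul_inv_cancel_left]
  have hd : Cfsg.charDegree (χ : G → ℂ) ∣ Nat.card G := CharX.irr_deg_dvd_card χ
  refine ⟨g * a, (Nat.factorization_le_iff_dvd (CharX.irr_deg_pos χ).ne'
    Subgroup.index_ne_zero_of_finite).1 fun r => ?_⟩
  by_cases hr : r ∈ (Nat.card G).primeFactors
  · rw [hpf, Finset.mem_insert, Finset.mem_singleton] at hr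
    rcases hr with rfl | rfl
    · exact (hg.trans (hℓC g a ha).ge).trans (hℓ _)
    · rw [e]
      exact (hg'.trans (hℓC' g' b⁻¹ (inv_mem hb)).ge).trans (hℓ' _)
  · refine le_of_eq_of_le ?_ (Nat.zero_le _)
    by_contra h
    exact hr (Nat.primeFactors_mono hd Nat.card_pos.ne'
      (by rw [← Nat.support_factorization]; exact Finsupp.mem_support_iff.2 h))

end Cfsg.Agent.S4993
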