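import Cfsg.Statements.S4996
import Cfsg.Agent.Lib.Char.Galois
import Cfsg.Agent.Lib.Char.Degree
import Mathlib.Tactic.Group

set_option autoImplicit false
open Cfsg
open Cfsg.Agent.Char Cfsg.Agent.CharX
open scoped ComplexConjugate

namespace Cfsg.Agent.S4996

/-- Let N be a normal subgroup of the finite group G and χ an irreducible complex character of G. Then the restriction of χ to N is not irreducible if and only if χ vanishes on some whole coset Nx of N in G. -/
theorem result {G : Type*} [Group G] [Finite G] (N : Subgroup G) [N.Normal] (χ : Cfsg.IrrCharacter G) : ¬ Cfsg.IsIrrCharacter ↥N (fun n : ↥N => (χ : G → ℂ) n) ↔ ∃ x : G, ∀ n : ↥N, (χ : G → ℂ) ((n : G) * x) = 0 := by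
  classical
  haveI := Fintype.ofFinite G
  have hc := IsIrrCharacter.isCharacter χ.2
  let Ψ : G → ℂ := fun g => (χ : G → ℂ) g * conj ((χ : G → ℂ) g)
  have hΨ : Cfsg.IsCharacter G Ψ := IsCharacter.mul hc (IsCharacter.conj hc)
  let A : G → ℂ := fun x => (Nat.card N : ℂ)⁻¹ * ∑ n : N, Ψ (x * n)
  -- the coset average is a character trivial on N
  let t : Finset (Cfsg.IrrCharacter G) := Finset.univ.filter fun φ => ∀ x ∈ N, (φ : G → ℂ) x = (φ : G → ℂ) 1
  have hconst : ∀ φ ∈ t, ∀ x : G, ∀ n : N, (φ : G → ℂ) (x * n) = (φ : G → ℂ) x := by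
    intro φ hφ x n
    obtain ⟨K, -, hK, hKc⟩ := IsCharacter.exists_kernel (IsIrrCharacter.isCharacter φ.2)
    have hmem : x * (n : G) * x⁻¹ ∈ N := Subgroup.Normal.conj_mem inferInstance _ n.2 x
    rw [show x * (n : G) = x * (n : G) * x⁻¹ * x by group]
    exact hKc _ ((hK _).2 ((Finset.mem_filter.1 hφ).2 _ hmem)) x
  have hA : ∀ x, A x = ∑ φ ∈ t, Cfsg.classInner Ψ (φ : G → ℂ) * (φ : G → ℂ) x := by
    intro x
    simp only [A]
    conv_lhs => rw [IsCharacter.eq_sum hΨ]
    simp only [Finset.sum_apply, Pi.smul_apply, smul_eq_mul]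
    rw [Finset.sum_comm, Finset.mul_sum, ← Finset.sum_filter_add_sum_filter_not Finset.univ
      (fun φ : Cfsg.IrrCharacter G => ∀ y ∈ N, (φ : G → ℂ) y = (φ : G → ℂ) 1)]
    rw [Finset.sum_eq_zero (s := Finset.univ.filter (fun φ : Cfsg.IrrCharacter G => ¬ _)) ?_, add_zero]
    · refine Finset.sum_congr rfl fun φ hφ => ?_
      rw [← Finset.mul_sum, Finset.sum_congr rfl (fun n _ => hconst φ hφ x n), Finset.sum_const,
        Finset.card_univ, nsmul_eq_mul, ← Nat.card_eq_fintype_card]
      field_simp [Nat.cast_ne_zero.2 (Nat.card_pos (α := N)).ne']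
    · intro φ hφ
      have hne := (Finset.mem_filter.1 hφ).2
      push_neg at hne
      rw [← Finset.mul_sum, sum_coset_eq_zero φ.2 N hne x, mul_zero, mul_zero]
  have hAchar : Cfsg.IsCharacter G A := by
    choose m hm using fun φ : Cfsg.IrrCharacter G =>
      IsCharacter.exists_classInner_nat hΨ (IsIrrCharacter.isCharacter φ.2)
    have : A = ∑ φ ∈ t, (m φ : ℂ) • (φ : G → ℂ) := by
      funext x
      rw [hA x, Finset.sum_apply]
      exact Finset.sum_congr rfl fun φ _ => by rw [hm φ]; simp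
    rw [this]
    exact isCharacter_sum t fun φ _ => IsCharacter.nsmul (IsIrrCharacter.isCharacter φ.2) (m φ)
  have hAint : ∀ x, IsIntegral ℤ (A x) := fun x => IsCharacter.isIntegral hAchar x
  let χN : N → ℂ := fun n => (χ : G → ℂ) n
  have hA1 : A 1 = Cfsg.classInner χN χN := by simp [A, Ψ, χN, Cfsg.classInner]
  have hsumA : ∑ x : G, A x = Nat.card G := by
    simp only [A, ← Finset.mul_sum]
    rw [Finset.sum_comm, Finset.sum_congr rfl (fun (n : N) _ => Fintype.sum_equiv (Equiv.mulRight (n : G)) (fun x => Ψ (x * (n : G))) Ψ fun _ => rfl),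
      Finset.sum_const, Finset.card_univ, nsmul_eq_mul, ← Nat.card_eq_fintype_card,
      inv_mul_cancel_left₀ (Nat.cast_ne_zero.2 Nat.card_pos.ne')]
    have := classInner_self_irr χ.2
    rwa [Cfsg.classInner, inv_mul_eq_one₀ (Nat.cast_ne_zero.2 Nat.card_pos.ne'), eq_comm] at this
  have hnonneg : ∀ x, A x = (‖A x‖ : ℂ) := by
    intro x
    have hx : A x = (((Nat.card N : ℝ)⁻¹ * ∑ n : N, ‖(χ : G → ℂ) (x * n)‖ ^ 2 : ℝ) : ℂ) := by
      simp [A, Ψ, Complex.mul_conj, Complex.normSq_eq_norm_sq]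
    rw [hx, Complex.norm_real, Real.norm_eq_abs, abs_of_nonneg (by positivity)]
  have hAzero : ∀ x, A x = 0 → ∀ n : N, (χ : G → ℂ) (x * n) = 0 := by
    intro x hx n
    have : A x = (((Nat.card N : ℝ)⁻¹ * ∑ n : N, ‖(χ : G → ℂ) (x * n)‖ ^ 2 : ℝ) : ℂ) := by
      simp [A, Ψ, Complex.mul_conj, Complex.normSq_eq_norm_sq]
    rw [hx, eq_comm, Complex.ofReal_eq_zero, mul_eq_zero, inv_eq_zero, Nat.cast_eq_zero] at this
    have := (Finset.sum_eq_zero_iff_of_nonneg fun n _ => by positivity).1 (this.resolve_left Nat.card_pos.ne') n (Finset.mem_univ n)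
    simpa using this
  constructor
  · intro hred
    by_contra hno
    push_neg at hno
    have hne : ∀ x, A x ≠ 0 := by
      intro x hx
      obtain ⟨n, hn⟩ := hno x
      have hmem : x⁻¹ * (n : G) * x ∈ N := Subgroup.Normal.conj_mem' inferInstance _ n.2 x
      refine hn ?_
      rw [show (n : G) * x = x * (x⁻¹ * (n : G) * x) by group]
      exact hAzero x hx ⟨_, hmem⟩
    have hχN : Cfsg.IsCharacter N χN := IsCharacter.restrict hc N
    obtain ⟨m, hm⟩ := IsCharacter.exists_classInner_nat hχN hχN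
    rw [hm] at hA1
    have hm1 : m ≠ 1 := fun h => hred (IsCharacter.isIrr_of_norm_one hχN (by rw [hm, h, Nat.cast_one]))
    have hm0 : m ≠ 0 := fun h => hne 1 (by rw [hA1, h, Nat.cast_zero])
    have hbound := Cfsg.Agent.CharGalois.card_le_sum_norm (Finset.univ.erase (1 : G)) A
      (fun x _ => hAint x) (fun x _ => hne x)
      (fun σ => Cfsg.Agent.CharGalois.prod_char_fixed hAchar _ (fun g hg k hk =>
        Finset.mem_erase.2 ⟨fun h => (Finset.mem_erase.1 hg).1
          ((powCoprime hk.symm).injective (by simpa using h)), Finset.mem_univ _⟩) σ)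
    have htot : ∑ x : G, ‖A x‖ = (Nat.card G : ℝ) := by
      rw [← Complex.ofReal_inj, Complex.ofReal_sum]
      simp only [← hnonneg, hsumA, Complex.ofReal_natCast]
    rw [← Finset.add_sum_erase _ _ (Finset.mem_univ (1 : G)), hA1, Complex.norm_natCast] at htot
    rw [Finset.card_erase_of_mem (Finset.mem_univ _), Finset.card_univ, ← Nat.card_eq_fintype_card] at hbound
    have hm2 : (2 : ℝ) ≤ m := by exact_mod_cast (show 2 ≤ m by omega)
    rw [Nat.cast_sub (Nat.card_pos (α := G)), Nat.cast_one] at hbound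
    linarith
  · rintro ⟨x, hx⟩ hirr
    have hA10 : A 1 = 1 := by rw [hA1]; exact classInner_self_irr hirr
    have hirrA : Cfsg.IsIrrCharacter G A := by
      obtain ⟨f, hf⟩ := exists_hom_of_degree_one hAchar hA10
      rw [hf]; exact isIrrCharacter_linear f
    have hone : A = fun _ => 1 := by
      by_contra hne
      have := classInner_irr_of_ne hirrA isIrrCharacter_one hne
      simp [Cfsg.classInner, hsumA] at this
    have hzero : A x = 0 := by
      simp only [A]
      rw [Finset.sum_eq_zero, mul_zero]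
      intro n _
      have hmem : x * (n : G) * x⁻¹ ∈ N := Subgroup.Normal.conj_mem inferInstance _ n.2 x
      have : (χ : G → ℂ) (x * n) = 0 := by
        rw [show x * (n : G) = x * (n : G) * x⁻¹ * x by group]
        exact hx ⟨_, hmem⟩
      simp [Ψ, this]
    rw [hone] at hzero
    exact one_ne_zero hzero

end Cfsg.Agent.S4996
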