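import Cfsg.Statements.S4997
import Cfsg.Agent.Lib.OneOrder.Main
-- import your own Cfsg.Agent.* helpers here

set_option autoImplicit false
open Cfsg

namespace Cfsg.Agent.S4997

/-- Let p be an odd prime and G a finite solvable group with exactly one conjugacy class consisting of vanishing elements (elements at which some irreducible complex character is zero) of order divisible by p. Let P be a Sylow p-subgroup of G. Then the order of P is at most p times the order of the largest normal p-subgroup of G. -/
theorem result {G : Type*} [Group G] [Finite G] (hsolv : Group.IsSolvable G) (p : ℕ) [Fact p.Prime] (hp : p ≠ 2) (h1 : Set.ncard {C : ConjClasses G | (∀ g ∈ C.carrier, ∃ χ : Cfsg.IrrCharacter G, (χ : G → ℂ) g = 0) ∧ ∃ g ∈ C.carrier, p ∣ orderOf g} = 1) (P : Sylow p G) : Nat.card ↥(P : Subgroup G) ≤ p * Nat.card ↥(Cfsg.pCore p G) := by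
  classical
  haveI := hsolv
  have hclass : ∀ (x : G) (χ : Cfsg.IrrCharacter G), (χ : G → ℂ) x = 0 →
      ∀ g ∈ (ConjClasses.mk x).carrier, (χ : G → ℂ) g = 0 := by
    intro x χ hx g hg
    obtain ⟨c, rfl⟩ := isConj_iff.1 (ConjClasses.mk_eq_mk_iff_isConj.1
      (ConjClasses.mem_carrier_iff_mk_eq.1 hg).symm)
    exact (Char.IsCharacter.isClassFunction (Char.IsIrrCharacter.isCharacter χ.2) x c).trans hx
  have hsame : ∀ x y : G, OneOrder.Van x → OneOrder.Van y → p ∣ orderOf x → p ∣ orderOf y →
      orderOf x = orderOf y := by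
    intro x y hx hy hpx hpy
    obtain ⟨C, hC⟩ := Set.ncard_eq_one.1 h1
    have hmem : ∀ z : G, OneOrder.Van z → p ∣ orderOf z → ConjClasses.mk z = C := fun z hz hpz =>
      (Set.ext_iff.1 hC (ConjClasses.mk z)).1
        ⟨fun g hg => hz.imp fun χ hχ => hclass z χ hχ g hg, z, ConjClasses.mem_carrier_mk, hpz⟩
    obtain ⟨c, rfl⟩ := isConj_iff.1
      (ConjClasses.mk_eq_mk_iff_isConj.1 ((hmem x hx hpx).trans (hmem y hy hpy).symm))
    exact (MulEquiv.orderOf_eq (MulAut.conj c) x).symm
  set O := Cfsg.pCore p G
  have hle := OneOrder.card_map_le hsame (P : Subgroup G) P.2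
  rw [← Subgroup.relIndex_ker, QuotientGroup.ker_mk'] at hle
  have h3 : Nat.card ↥(P : Subgroup G) ≤ O.relIndex (P : Subgroup G) * Nat.card ↥O := by
    rw [← Subgroup.inf_relIndex_right O (P : Subgroup G)]
    calc Nat.card ↥(P : Subgroup G)
        = Nat.card ↥(O ⊓ (P : Subgroup G) : Subgroup G) *
            (O ⊓ (P : Subgroup G)).relIndex (P : Subgroup G) := by
          rw [← Subgroup.relIndex_bot_left, ← Subgroup.relIndex_bot_left,
            Subgroup.relIndex_mul_relIndex _ _ _ bot_le inf_le_right]
      _ ≤ _ := by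
          rw [mul_comm]
          exact Nat.mul_le_mul_left _
            (Nat.card_le_card_of_injective _ (Subgroup.inclusion_injective inf_le_left))
  exact h3.trans (Nat.mul_le_mul_right _ hle)

end Cfsg.Agent.S4997
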