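import Cfsg.Statements.S5001
import Cfsg.Agent.Lib.Blocks.HeightZero
-- import your own Cfsg.Agent.* helpers here

set_option autoImplicit false
open Cfsg

open Cfsg.Agent.Char Cfsg.Agent.CharX Cfsg.Agent.Blocks
open scoped ComplexConjugate

namespace Cfsg.Agent.S5001

/-- Let p be a prime, G a finite group and B a p-block of G (relative to a maximal ideal M of the algebraic integers containing p) with defect group D. Let Z be a central p-subgroup of G contained in D and λ a linear character of Z (a homomorphism to the nonzero complex numbers). Say an irreducible character χ of G lies over λ when χ(z) = χ(1)λ(z) for all z ∈ Z. If some irreducible character in B lying over λ has height zero, then λ extends to a linear character of D. -/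
theorem result {G : Type*} [Group G] [Finite G] (p : ℕ) [Fact p.Prime] (M : Ideal Cfsg.AlgInt) (hM : Cfsg.IsPModular p M) (B : Set (Cfsg.IrrCharacter G)) (hB : Cfsg.IsPBlock M B) (D : Subgroup G) (hD : Cfsg.IsDefectGroup p M B D) (Z : Subgroup G) (hZc : Z ≤ Subgroup.center G) (hZp : IsPGroup p ↥Z) (hZD : Z ≤ D) (lam : ↥Z →* ℂˣ) (χ : Cfsg.IrrCharacter G) (hχ : χ ∈ B) (hover : (∀ z : ↥Z, (χ : G → ℂ) z = (χ : G → ℂ) 1 * (lam z : ℂ))) (h0 : Cfsg.blockHeight p B (χ : G → ℂ) = 0) : (∃ μ : ↥D →* ℂˣ, ∀ z : ↥Z, μ ⟨(z : G), hZD z.2⟩ = lam z) := by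
  classical
  haveI := Fintype.ofFinite G
  haveI := IsPModular.isPrime hM
  obtain ⟨g, hg, P, rfl⟩ := hD
  have hval := value_not_mem_of_height_zero hM hB hg hχ h0
  set D := (P : Subgroup (Subgroup.centralizer ({g} : Set G))).map
    (Subgroup.centralizer ({g} : Set G)).subtype with hDdef
  have hDg : D ≤ Subgroup.centralizer ({g} : Set G) := Subgroup.map_subtype_le _
  let C := Subgroup.centralizer ({g} : Set G)
  have hgC : g ∈ C := Subgroup.mem_centralizer_singleton_iff.2 rfl
  haveI := Fintype.ofFinite C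
  haveI := Fintype.ofFinite D
  haveI := Fintype.ofFinite Z
  obtain ⟨n, hn⟩ := IsCharacter.exists_decomp
    (IsCharacter.restrict (IsIrrCharacter.isCharacter χ.2) C)
  -- a constituent on the centraliser of degree prime to `p`
  obtain ⟨θ, hnθ, hθ⟩ : ∃ θ : Cfsg.IrrCharacter C, n θ ≠ 0 ∧
      ¬ p ∣ Cfsg.charDegree (θ : C → ℂ) := by
    by_contra hc
    push Not at hc
    refine hval ?_
    rw [show (χ : G → ℂ) g = (fun c : C => (χ : G → ℂ) c) ⟨g, hgC⟩ from rfl, hn, Finset.sum_apply]
    refine memLocalIdeal_sum _ _ fun θ _ => ?_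
    by_cases h : n θ = 0
    · simp [h, memLocalIdeal_zero]
    rw [Pi.smul_apply, smul_eq_mul]
    refine MemLocalIdeal.mul_left (natCast_mem (locRing M) _) ?_
    have htop : Subgroup.centralizer ({(⟨g, hgC⟩ : C)} : Set C) = ⊤ := eq_top_iff.2 fun c _ =>
      Subgroup.mem_centralizer_singleton_iff.2
        (Subtype.ext (Subgroup.mem_centralizer_singleton_iff.1 c.2))
    have hint := centralChar_isIntegral θ (⟨g, hgC⟩ : C)
    rw [Cfsg.centralChar, htop, Subgroup.index_top, Nat.cast_one, one_mul] at hint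
    rw [← div_mul_cancel₀ ((θ : C → ℂ) ⟨g, hgC⟩) (IsIrrCharacter.one_ne_zero θ.2)]
    refine MemLocalIdeal.mul_left (mem_locRing_of_isIntegral hint) ?_
    rw [irr_deg θ]
    exact (natCast_memLocalIdeal_iff hM _).2 (hc θ h)
  have hDp : IsPGroup p D := P.isPGroup'.map _
  -- a linear constituent of that on the defect group
  let i : D →* C := Subgroup.inclusion hDg
  obtain ⟨k, hk⟩ := IsCharacter.exists_decomp
    (IsCharacter.comp (IsIrrCharacter.isCharacter θ.2) i)
  obtain ⟨μ, hkμ, hμ⟩ : ∃ μ : Cfsg.IrrCharacter D, k μ ≠ 0 ∧ Cfsg.charDegree (μ : D → ℂ) = 1 := by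
    by_contra hc
    push Not at hc
    refine hθ ?_
    have h1 : (Cfsg.charDegree (θ : C → ℂ) : ℂ) =
        ((∑ μ : Cfsg.IrrCharacter D, k μ * Cfsg.charDegree (μ : D → ℂ) : ℕ) : ℂ) := by
      have h2 := congrFun hk 1
      simp only [map_one, Finset.sum_apply, Pi.smul_apply, smul_eq_mul] at h2
      rw [← irr_deg θ, h2]
      push_cast
      exact Finset.sum_congr rfl fun μ _ => by rw [irr_deg μ]
    rw [Nat.cast_injective h1]
    refine Finset.dvd_sum fun μ _ => ?_
    by_cases h : k μ = 0
    · simp [h]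
    obtain ⟨e, he⟩ := IsPGroup.iff_card.1 hDp
    obtain ⟨j, -, hj⟩ := (Nat.dvd_prime_pow (Fact.out : p.Prime)).1 (he ▸ irr_deg_dvd_card μ)
    rcases j with _ | j
    · exact absurd (by simpa using hj) (hc μ h)
    · exact Dvd.dvd.mul_left (hj ▸ dvd_pow_self p (Nat.succ_ne_zero j)) _
  obtain ⟨f, hf⟩ := exists_hom_of_degree_one (IsIrrCharacter.isCharacter μ.2)
    (by rw [irr_deg μ, hμ, Nat.cast_one])
  refine ⟨f, ?_⟩
  let j : Z →* D := Subgroup.inclusion hZD
  have hlin : Cfsg.IsIrrCharacter Z (fun z => ((f.comp j) z : ℂ)) := isIrrCharacter_linear _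
  have hfl : (fun z : Z => ((f.comp j) z : ℂ)) = fun z => (lam z : ℂ) := by
    by_contra hne
    have hz0 : Cfsg.classInner (fun z : Z => (χ : G → ℂ) z) (fun z => ((f.comp j) z : ℂ)) = 0 := by
      rw [show (fun z : Z => (χ : G → ℂ) z) = (χ : G → ℂ) 1 • (fun z => (lam z : ℂ)) from
        funext fun z => by rw [Pi.smul_apply, smul_eq_mul]; exact hover z, classInner_smul_left,
        classInner_irr_of_ne (isIrrCharacter_linear lam) hlin (fun h => hne h.symm), mul_zero]
    have hexp : (fun z : Z => (χ : G → ℂ) z) = ∑ θ' : Cfsg.IrrCharacter C,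
        (n θ' : ℂ) • (fun z => (θ' : C → ℂ) (i (j z))) := by
      funext z
      have := congrFun hn (i (j z))
      simp only [Finset.sum_apply, Pi.smul_apply] at this ⊢
      exact this
    have hexp2 : (fun z => (θ : C → ℂ) (i (j z))) = ∑ μ' : Cfsg.IrrCharacter D,
        (k μ' : ℂ) • (fun z => (μ' : D → ℂ) (j z)) := by
      funext z
      have := congrFun hk (j z)
      simp only [Finset.sum_apply, Pi.smul_apply] at this ⊢
      exact this
    have hnat : ∀ θ' : Cfsg.IrrCharacter C, ∃ m : ℕ,
        Cfsg.classInner (fun z => (θ' : C → ℂ) (i (j z))) (fun z => ((f.comp j) z : ℂ)) = m :=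
      fun θ' => IsCharacter.exists_classInner_nat
        (IsCharacter.comp (IsIrrCharacter.isCharacter θ'.2) (i.comp j))
        (IsIrrCharacter.isCharacter hlin)
    have hnat2 : ∀ μ' : Cfsg.IrrCharacter D, ∃ m : ℕ,
        Cfsg.classInner (fun z => (μ' : D → ℂ) (j z)) (fun z => ((f.comp j) z : ℂ)) = m :=
      fun μ' => IsCharacter.exists_classInner_nat
        (IsCharacter.comp (IsIrrCharacter.isCharacter μ'.2) j) (IsIrrCharacter.isCharacter hlin)
    choose a ha using hnat
    choose b hb using hnat2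
    have hbμ : b μ = 1 := by
      have h := hb μ
      rw [show (fun z => (μ : D → ℂ) (j z)) = fun z => ((f.comp j) z : ℂ) from
        funext fun z => congrFun hf (j z), classInner_self_irr hlin] at h
      exact_mod_cast h.symm
    have haθ : a θ ≠ 0 := by
      intro h
      have h2 := ha θ
      rw [hexp2, h, Nat.cast_zero, classInner_sum_left] at h2
      simp only [classInner_smul_left, hb] at h2
      have h3 : ∑ μ', k μ' * b μ' = 0 := by exact_mod_cast h2
      have := Finset.sum_eq_zero_iff.1 h3 μ (Finset.mem_univ _)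
      rw [hbμ, mul_one] at this
      exact hkμ this
    rw [hexp, classInner_sum_left] at hz0
    simp only [classInner_smul_left, ha] at hz0
    have h4 : ∑ θ', n θ' * a θ' = 0 := by exact_mod_cast hz0
    exact mul_ne_zero hnθ haθ (Finset.sum_eq_zero_iff.1 h4 θ (Finset.mem_univ _))
  exact fun z => Units.ext (congrFun hfl z)

end Cfsg.Agent.S5001
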