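import Cfsg.Statements.S5005
import Cfsg.Agent.Lib.Blocks.SingleBlock
import Cfsg.Agent.Lib.Golay.Constrained
import Cfsg.Agent.Lib.Golay.NoDefectZero
-- import your own Cfsg.Agent.* helpers here

set_option autoImplicit false
open Cfsg

open Cfsg.Agent
open scoped ComplexConjugate

namespace Cfsg.Agent.S5005

/-- All irreducible complex characters of the Mathieu group `M₂₂` lie in a single 2-block: any two of them lie in the same block relative to every maximal ideal of the algebraic integers containing 2. -/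
theorem result (M : Ideal Cfsg.AlgInt) (hM : Cfsg.IsPModular 2 M)
    (χ ψ : Cfsg.IrrCharacter ↥Cfsg.Spor.M22) : Cfsg.SameBlock M (χ : ↥Cfsg.Spor.M22 → ℂ) (ψ : ↥Cfsg.Spor.M22 → ℂ) := by
  haveI : Fintype Spor.M22 := Fintype.ofFinite _
  refine Blocks.sameBlock_of_local hM (fun z hz ξ η => ?_) (fun φ => Golay.SB.degree_lt22 φ) χ ψ
  obtain ⟨E, hE⟩ := Golay.SB.exists_core_of_orderOf_two (Golay.SB.M22_le z.2)
    ((Subgroup.orderOf_coe z).trans hz)
  obtain ⟨-, h1, h2⟩ := Golay.SB.mem22_iff.1 z.2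
  exact hE.sameBlock Golay.SB.M22_le
    (fun e he => Golay.SB.mem22_iff.2 ⟨hE.le he, hE.fixed _ h1 e he, hE.fixed _ h2 e he⟩)
    hM z rfl ξ η

end Cfsg.Agent.S5005
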