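import Cfsg.Statements.S5006
import Cfsg.Agent.Lib.Blocks.SingleBlock
import Cfsg.Agent.Lib.Golay.Constrained
import Cfsg.Agent.Lib.Golay.NoDefectZero
-- import your own Cfsg.Agent.* helpers here

set_option autoImplicit false
open Cfsg

open Cfsg.Agent
open scoped ComplexConjugate

namespace Cfsg.Agent.S5006

/-- All irreducible complex characters of the Mathieu group `M₂₄` lie in a single 2-block: any two of them lie in the same block relative to every maximal ideal of the algebraic integers containing 2. -/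
theorem result (M : Ideal Cfsg.AlgInt) (hM : Cfsg.IsPModular 2 M)
    (χ ψ : Cfsg.IrrCharacter ↥Cfsg.M24) : Cfsg.SameBlock M (χ : ↥Cfsg.M24 → ℂ) (ψ : ↥Cfsg.M24 → ℂ) := by
  haveI : Fintype M24 := Fintype.ofFinite _
  refine Blocks.sameBlock_of_local hM (fun z hz ξ η => ?_) (fun φ => Golay.SB.degree_lt24 φ) χ ψ
  obtain ⟨E, hE⟩ := Golay.SB.exists_core_of_orderOf_two z.2 ((Subgroup.orderOf_coe z).trans hz)
  exact hE.sameBlock le_rfl hE.le hM z rfl ξ η

end Cfsg.Agent.S5006
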