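import Cfsg.Statements.S5011
-- import your own Cfsg.Agent.* helpers here

set_option autoImplicit false
open Cfsg

namespace Cfsg.Agent.S5011

/-- Let G be a finite non-abelian simple group and ρ an irreducible complex representation of G on a space of dimension greater than one (irreducible in the sense that the only subspaces invariant under every ρ(x) are 0 and the whole space). Then for every non-identity element g of G, the centralizer of g does not act irreducibly: there is a non-zero proper subspace invariant under ρ(c) for every c commuting with g. -/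
theorem result {G : Type*} [Group G] [Finite G] [IsSimpleGroup G]
    (hG : ¬ IsMulCommutative G) {V : Type*} [AddCommGroup V] [Module ℂ V] [FiniteDimensional ℂ V]
    (ρ : Representation ℂ G V)
    (hirr : ∀ W : Submodule ℂ V, (∀ x : G, ∀ v ∈ W, ρ x v ∈ W) → W = ⊥ ∨ W = ⊤)
    (hdim : 1 < Module.finrank ℂ V) (g : G) (hg : g ≠ 1) :
    ∃ W : Submodule ℂ V, W ≠ ⊥ ∧ W ≠ ⊤ ∧ ∀ c ∈ Subgroup.centralizer ({g} : Set G), ∀ v ∈ W, ρ c v ∈ W := by
  by_contra hne
  push_neg at hne
  have hsc : ∀ T : Module.End ℂ V, ∀ H : Set G, (∀ c ∈ H, ρ c * T = T * ρ c) →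
      (∀ W : Submodule ℂ V, (∀ c ∈ H, ∀ v ∈ W, ρ c v ∈ W) → W = ⊥ ∨ W = ⊤) →
      ∃ μ : ℂ, ∀ v, T v = μ • v := by
    intro T H hc hH
    haveI : Nontrivial V := Module.nontrivial_of_finrank_pos (R := ℂ) (by omega)
    obtain ⟨μ, hμ⟩ := Module.End.exists_eigenvalue T
    refine ⟨μ, fun v => ?_⟩
    rcases hH (T.eigenspace μ) (fun c hcH v hv => by
      rw [Module.End.mem_eigenspace_iff] at hv ⊢
      have := congrArg (fun f : Module.End ℂ V => f v) (hc c hcH)
      simp only [Module.End.mul_apply] at this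
      rw [← this, hv, map_smul]) with h | h
    · exact absurd h hμ
    · have : v ∈ T.eigenspace μ := by rw [h]; exact Submodule.mem_top
      exact Module.End.mem_eigenspace_iff.mp this
  obtain ⟨μ, hμ⟩ := hsc (ρ g) (Subgroup.centralizer ({g} : Set G) : Set G) (fun c hc => by
      rw [← map_mul, ← map_mul, (Subgroup.mem_centralizer_singleton_iff.mp hc)]) (fun W hW => by
      by_cases h1 : W = ⊥
      · exact Or.inl h1
      by_cases h2 : W = ⊤
      · exact Or.inr h2
      obtain ⟨c, hc, v, hv, hv'⟩ := hne W h1 h2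
      exact absurd (hW c hc v hv) hv')
  let K : Subgroup G :=
    { carrier := {x | ∀ y, ρ x * ρ y = ρ y * ρ x}
      one_mem' := fun y => by simp
      mul_mem' := fun {a b} ha hb y => by
        rw [map_mul, mul_assoc, hb y, ← mul_assoc, ha y, mul_assoc]
      inv_mem' := fun {a} ha y => by
        calc ρ a⁻¹ * ρ y = ρ a⁻¹ * ρ y * (ρ a * ρ a⁻¹) := by
              rw [← map_mul ρ a, mul_inv_cancel, map_one, mul_one]
          _ = ρ a⁻¹ * (ρ a * ρ y) * ρ a⁻¹ := by rw [ha y]; simp only [mul_assoc]
          _ = ρ y * ρ a⁻¹ := by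
              rw [← mul_assoc, ← map_mul ρ a⁻¹, inv_mul_cancel, map_one, one_mul] }
  have hKn : K.Normal := ⟨fun x hx z y => by
    have hxz : ρ (z * x * z⁻¹) = ρ x := by
      rw [map_mul, map_mul, ← hx z, mul_assoc, ← map_mul, mul_inv_cancel, map_one, mul_one]
    rw [hxz]; exact hx y⟩
  have hgK : g ∈ K := fun y => by
    apply LinearMap.ext; intro v
    simp only [Module.End.mul_apply, hμ, map_smul]
  have hK : K = ⊤ := (hKn.eq_bot_or_eq_top).resolve_left (fun h => hg (by rwa [h, Subgroup.mem_bot] at hgK))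
  have hall : ∀ x : G, ∃ ν : ℂ, ∀ v, ρ x v = ν • v := fun x =>
    hsc (ρ x) Set.univ (fun c _ => (show c ∈ K by rw [hK]; exact Subgroup.mem_top c) x)
      (fun W hW => hirr W (fun c => hW c trivial))
  haveI : Nontrivial V := Module.nontrivial_of_finrank_pos (R := ℂ) (by omega)
  obtain ⟨v, hv⟩ := exists_ne (0 : V)
  rcases hirr (ℂ ∙ v) (fun x w hw => by
    obtain ⟨ν, hν⟩ := hall x
    rw [hν]; exact Submodule.smul_mem _ _ hw) with h | h
  · exact hv (Submodule.span_singleton_eq_bot.mp h)
  · have := finrank_span_singleton (K := ℂ) hv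
    rw [h, finrank_top] at this
    omega

end Cfsg.Agent.S5011
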