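import Cfsg.Statements.S5012
import Cfsg.Agent.Lib.LocalCharP.Main
import Cfsg.Agent.Lib.Blocks.FirstMain
import Cfsg.Agent.Lib.Blocks.Constrained
import Cfsg.Agent.Lib.BrauerPairs.Principal
-- import your own Cfsg.Agent.* helpers here

set_option autoImplicit false
open Cfsg

namespace Cfsg.Agent.S5012

open Cfsg.Agent.CharP Cfsg.Agent.Blocks in
/-- In a group of local characteristic `p` a non-trivial defect group is a Sylow subgroup. -/
theorem defectGroup_sylow {G : Type*} [Group G] [Fintype G] {p : ℕ} [Fact p.Prime] (hloc : LCP.LocalP p G)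
    {M : Ideal Cfsg.AlgInt} (hM : Cfsg.IsPModular p M) {B : Set (Cfsg.IrrCharacter G)}
    (hB : Cfsg.IsPBlock M B) {D : Subgroup G} (hD : Cfsg.IsDefectGroup p M B D) (hne : D ≠ ⊥) :
    ∃ P : Sylow p G, (P : Subgroup G) = D := by
  classical
  haveI := IsPModular.isPrime hM
  have hDp := isPGroup_defectGroup hD
  haveI : Nontrivial D := (Subgroup.nontrivial_iff_ne_bot D).2 hne
  obtain ⟨n, hn, hcard⟩ := IsPGroup.nontrivial_iff_card hDp |>.1 inferInstance
  obtain ⟨z, hz⟩ := exists_prime_orderOf_dvd_card' (G := D) p (hcard ▸ dvd_pow_self p hn.ne')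
  have hz' : orderOf (z : G) = p := by rw [Subgroup.orderOf_coe, hz]
  have hchar := isCharP_normalizer_of_mem hDp z.2 (hloc _ hz')
  set N := Subgroup.normalizer (D : Set G) with hN
  haveI : Fintype N := Fintype.ofFinite _
  have hcore := defectGroup_eq_pCore_normalizer hM hB hD
  set Q : Subgroup N := D.subgroupOf N with hQ
  haveI : (Cfsg.pCore p N).Normal := Cfsg.pCore_normal p _
  have hone := fun χ ψ : Cfsg.IrrCharacter N =>
    sameBlock_of_centralizer_le hM (Cfsg.pCore p N) (PBasic.pCore_isPGroup p _) hchar χ ψ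
  obtain ⟨b, ⟨hb, hbD, -⟩, -⟩ := (first_main hM hDp).2 B hB hD
  have hbp : b = Cfsg.principalBlock M N := by
    obtain ⟨ξ, hξ⟩ := isPBlock_nonempty hb
    obtain ⟨η, hη⟩ := isPBlock_nonempty (isPBlock_principalBlock M N)
    exact isPBlock_eq_of_mem hb (isPBlock_principalBlock M N) hξ
      (isPBlock_mem_of_sameBlock (isPBlock_principalBlock M N) hη (sameBlock_symm (hone ξ η)))
  rw [hbp] at hbD
  obtain ⟨S, hS⟩ := (Cfsg.Agent.BrauerPairs.isDefectGroup_principal_iff hM _).1 hbD
  obtain ⟨P, hP⟩ := hDp.exists_le_sylow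
  refine ⟨P, ?_⟩
  by_contra hPD
  haveI := P.2.isNilpotent
  set H := D.subgroupOf (P : Subgroup G) with hH
  have hlt : H < ⊤ := by
    rw [lt_top_iff_ne_top, ne_eq, Subgroup.subgroupOf_eq_top]
    exact fun h => hPD (le_antisymm h hP)
  obtain ⟨y, hy, hy'⟩ := SetLike.exists_of_lt (Group.normalizerCondition_of_isNilpotent H hlt)
  apply hy'
  have hyN : (y : G) ∈ N := by
    rw [hN, Subgroup.mem_normalizer_iff]
    intro w
    refine ⟨fun hw => ?_, fun hw => ?_⟩
    · exact (Subgroup.mem_normalizer_iff.1 hy ⟨w, hP hw⟩).1 hw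
    · have := (Subgroup.mem_normalizer_iff.1 (inv_mem hy) ⟨_, hP hw⟩).1 hw
      simp only [hH, Subgroup.mem_subgroupOf, Subgroup.coe_mul, Subgroup.coe_inv] at this
      simpa [mul_assoc] using this
  have hle : (S : Subgroup N) ≤ (P : Subgroup G).subgroupOf N := by
    rw [hS]; exact fun w hw => hP hw
  have heq := S.3 (P.2.comap_of_injective N.subtype N.subtype_injective) hle
  have hmem : (⟨y, hyN⟩ : N) ∈ (S : Subgroup N) := heq ▸ y.2
  rw [hS] at hmem
  exact hmem



/-- Let G be a finite simple group of Lie type in characteristic p. Then every p-block of G has defect zero or full defect: its defect is 0 or the exponent of p in the order of G (its defect groups are trivial or Sylow p-subgroups). -/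
theorem result {G : Type*} [Group G] [Finite G] (p : ℕ) [Fact p.Prime] (hG : Cfsg.IsLieTypeChar p G) (M : Ideal Cfsg.AlgInt) (hM : Cfsg.IsPModular p M) (B : Set (Cfsg.IrrCharacter G)) (hB : Cfsg.IsPBlock M B) : Cfsg.blockDefect p B = 0 ∨ Cfsg.blockDefect p B = (Nat.card G).factorization p := by
  classical
  haveI : Fintype G := Fintype.ofFinite G
  haveI := Blocks.IsPModular.isPrime hM
  obtain ⟨D, hD⟩ := Blocks.exists_isDefectGroup (p := p) hB
  have hcard := Blocks.card_defectGroup hM hB hD
  by_cases hne : D = ⊥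
  · left
    rw [hne, Subgroup.card_bot] at hcard
    exact Nat.pow_right_injective hM.1.two_le (hcard.symm.trans (pow_zero p).symm)
  · right
    obtain ⟨P, hP⟩ := defectGroup_sylow (LCP.isLieTypeChar hG) hM hB hD hne
    rw [← hP, P.card_eq_multiplicity] at hcard
    exact (Nat.pow_right_injective hM.1.two_le hcard).symm

end Cfsg.Agent.S5012
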