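import Cfsg.Statements.S5028
import Cfsg.Agent.Lib.Timmesfeld.Root
-- import your own Cfsg.Agent.* helpers here

set_option autoImplicit false
open Cfsg

namespace Cfsg.Agent.S5028

/-- Let S be a set of abstract root subgroups of G and A a member of S having a rank one partner in S. Then A meets every other member of S trivially. -/
theorem result {G : Type*} [Group G] {S : Set (Subgroup G)} (hS : Cfsg.IsRootSubgroupSet S)
    {A : Subgroup G} (hA : ¬ Cfsg.IsIsolatedIn (Cfsg.FAdj S) S A) (hAS : A ∈ S) : ∀ B ∈ S, A ⊓ B = ⊥ ∨ A = B := by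
  intro B hB
  by_contra hne
  push Not at hne
  obtain ⟨C, hC⟩ : ∃ C, Cfsg.FAdj S A C ∨ Cfsg.FAdj S C A := by
    by_contra hno
    push Not at hno
    exact hA ⟨hAS, hno⟩
  obtain ⟨hCS, hp⟩ : C ∈ S ∧ Cfsg.IsRankOnePair A C := by
    rcases hC with ⟨-, h1, h2⟩ | ⟨h1, -, h2⟩
    · exact ⟨h1, h2⟩
    · exact ⟨h1, Cfsg.RankOnePair_symm h2⟩
  obtain ⟨x, hx, hx1⟩ := Cfsg.Agent.Timmesfeld.exists_ne_one hne.1
  exact hne.2 (Cfsg.Agent.Timmesfeld.eq_of_mem_inter hS hAS hCS hp hB hx.1 hx1 hx.2).symm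


end Cfsg.Agent.S5028
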