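import Cfsg.Statements.S5037
import Cfsg.Agent.Lib.Timmesfeld.Containment
-- import your own Cfsg.Agent.* helpers here

set_option autoImplicit false
open Cfsg

namespace Cfsg.Agent.S5037

/-- Let S be a class of abstract root subgroups of G that is either degenerate or non-degenerate (so either the commutator case never occurs, or all three cases occur), and A ≠ C members of S. If every member of S commuting with A commutes with C, then A and C have the same commuting members of S; and if every rank one partner of A is a rank one partner of C, then A and C commute and have the same rank one partners. -/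
theorem result {G : Type*} [Group G] {S : Set (Subgroup G)} (hS : Cfsg.IsRootSubgroupClass S)
    (hdn : Cfsg.IsDegenerateRootSet S ∨ Cfsg.IsNondegenerateRootSet S)
    {A C : Subgroup G} (hA : A ∈ S) (hC : C ∈ S) (hAC : A ≠ C) :
    (Cfsg.centralizingMembers S A ⊆ Cfsg.centralizingMembers S C →
      Cfsg.centralizingMembers S A = Cfsg.centralizingMembers S C) ∧
    (Cfsg.rankOnePartners S A ⊆ Cfsg.rankOnePartners S C →
      ⁅A, C⁆ = ⊥ ∧ Cfsg.rankOnePartners S A = Cfsg.rankOnePartners S C) := by
  classical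
  by_cases hr : ∃ A₀ ∈ S, ∃ B₀ ∈ S, Cfsg.IsRankOnePair A₀ B₀
  · obtain ⟨A₀, hA₀, B₀, hB₀, hp⟩ := hr
    have hF := Cfsg.Agent.Timmesfeld.class_partners hS hA₀ hB₀ hp
    exact ⟨fun h => Cfsg.Agent.Timmesfeld.centralizing_eq hS hA hC h (hF C hC),
      fun h => Cfsg.Agent.Timmesfeld.rankOne_eq hS hA hC h hF⟩
  push Not at hr
  have hdeg : Cfsg.IsDegenerateRootSet S := hdn.resolve_right fun h => by
    obtain ⟨-, ⟨A₀, hA₀, B₀, hB₀, hp⟩, -⟩ := h
    exact hr A₀ hA₀ B₀ hB₀ hp
  have hall : ∀ X ∈ S, ∀ Y ∈ S, ⁅X, Y⁆ = ⊥ := fun X hX Y hY => by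
    rcases hS.1.pair X hX Y hY with e | e | e
    · exact e
    · exact absurd e (hr X hX Y hY)
    · exact absurd e (hdeg X hX Y hY)
  have hc : ∀ X ∈ S, Cfsg.centralizingMembers S X = S := fun X hX => Set.Subset.antisymm (fun B hB => hB.1)
    fun B hB => Cfsg.Agent.Timmesfeld.mem_centralizing.2
      ⟨hB, fun b hb a ha => Cfsg.Agent.Timmesfeld.bracket_eq_bot.1 (hall X hX B hB) a ha b hb⟩
  refine ⟨fun _ => by rw [hc A hA, hc C hC], fun _ => ⟨hall A hA C hC, ?_⟩⟩
  ext B
  exact ⟨fun h => absurd h.2 (hr A hA B h.1), fun h => absurd h.2 (hr C hC B h.1)⟩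

end Cfsg.Agent.S5037
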