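import Cfsg.Statements.S5043
import Cfsg.Agent.Lib.RootClass.Linear
-- import your own Cfsg.Agent.* helpers here

set_option autoImplicit false
open Matrix
open Cfsg

namespace Cfsg.Agent.S5043

/-- Let k be a field and n a natural number. In SL_{n+3}(k) (so in every dimension at least 3) the conjugates of the root subgroup of elementary transvections 1 + c E₁₂ (c ∈ k) — that is, the groups of transvections attached to an incident point–hyperplane pair — form a non-degenerate class of abstract k-root subgroups of SL_{n+3}(k) whose graph of rank one pairs is connected. -/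
theorem result (k : Type*) [Field k] (n : ℕ) :
    Cfsg.IsRootSubgroupClass {A : Subgroup (Matrix.SpecialLinearGroup (Fin (n + 3)) k) |
        ∃ g : Matrix.SpecialLinearGroup (Fin (n + 3)) k,
          A = Cfsg.conjBy (Subgroup.closure {t : Matrix.SpecialLinearGroup (Fin (n + 3)) k |
            ∃ c : k, (t : Matrix (Fin (n + 3)) (Fin (n + 3)) k) = Matrix.transvection 0 1 c}) g} ∧
    Cfsg.IsNondegenerateRootSet {A : Subgroup (Matrix.SpecialLinearGroup (Fin (n + 3)) k) |
        ∃ g : Matrix.SpecialLinearGroup (Fin (n + 3)) k,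
          A = Cfsg.conjBy (Subgroup.closure {t : Matrix.SpecialLinearGroup (Fin (n + 3)) k |
            ∃ c : k, (t : Matrix (Fin (n + 3)) (Fin (n + 3)) k) = Matrix.transvection 0 1 c}) g} ∧
    Cfsg.IsKRootSubgroupSet k {A : Subgroup (Matrix.SpecialLinearGroup (Fin (n + 3)) k) |
        ∃ g : Matrix.SpecialLinearGroup (Fin (n + 3)) k,
          A = Cfsg.conjBy (Subgroup.closure {t : Matrix.SpecialLinearGroup (Fin (n + 3)) k |
            ∃ c : k, (t : Matrix (Fin (n + 3)) (Fin (n + 3)) k) = Matrix.transvection 0 1 c}) g} ∧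
    Cfsg.IsConnectedFamily (Cfsg.FAdj {A : Subgroup (Matrix.SpecialLinearGroup (Fin (n + 3)) k) |
        ∃ g : Matrix.SpecialLinearGroup (Fin (n + 3)) k,
          A = Cfsg.conjBy (Subgroup.closure {t : Matrix.SpecialLinearGroup (Fin (n + 3)) k |
            ∃ c : k, (t : Matrix (Fin (n + 3)) (Fin (n + 3)) k) = Matrix.transvection 0 1 c}) g})
      {A : Subgroup (Matrix.SpecialLinearGroup (Fin (n + 3)) k) |
        ∃ g : Matrix.SpecialLinearGroup (Fin (n + 3)) k,
          A = Cfsg.conjBy (Subgroup.closure {t : Matrix.SpecialLinearGroup (Fin (n + 3)) k |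
            ∃ c : k, (t : Matrix (Fin (n + 3)) (Fin (n + 3)) k) = Matrix.transvection 0 1 c}) g} := by
  classical
  let R := Cfsg.Agent.RootClass.slFam (n + 3) k
  let e : Fin (n + 3) → Fin (n + 3) → k := fun i => Pi.single i 1
  let pt : ∀ i j : Fin (n + 3), i ≠ j → Cfsg.Agent.RootClass.SLPoint (n + 3) k := fun i j hij =>
    ⟨(Pi.single i 1, LinearMap.proj j), fun h => by simpa using congrFun (show (Pi.single i 1 : Fin (n + 3) → k) = 0 from h) i,
      fun h => by
        simpa using LinearMap.congr_fun (show (LinearMap.proj j : Module.Dual k (Fin (n + 3) → k)) = 0 from h)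
          (Pi.single j 1),
      by show (Pi.single i 1 : Fin (n + 3) → k) j = 0; exact Pi.single_eq_of_ne (Ne.symm hij) _⟩
  have h01 : (0 : Fin (n + 3)) ≠ 1 := by simp [Fin.ext_iff]
  have h02 : (0 : Fin (n + 3)) ≠ 2 := by simp [Fin.ext_iff, Nat.mod_eq_of_lt]
  have h12 : (1 : Fin (n + 3)) ≠ 2 := by simp [Fin.ext_iff, Nat.mod_eq_of_lt]
  have happ : ∀ (i j : Fin (n + 3)) (c : k) (x : Fin (n + 3) → k),
      Matrix.transvection i j c *ᵥ x = x + (c * x j) • (Pi.single i 1 : Fin (n + 3) → k) := by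
    intro i j c x
    rw [Matrix.transvection, Matrix.add_mulVec, Matrix.one_mulVec]
    congr 1
    ext l
    simp [Matrix.mulVec, dotProduct, Matrix.single, Pi.single_apply, ite_and, eq_comm]
  have hA0 : Subgroup.closure {t : Matrix.SpecialLinearGroup (Fin (n + 3)) k |
            ∃ c : k, (t : Matrix (Fin (n + 3)) (Fin (n + 3)) k) = Matrix.transvection 0 1 c} = R.grp (pt 0 1 h01) := by
    refine le_antisymm ((Subgroup.closure_le _).2 ?_) ?_
    · rintro t ⟨c, hc⟩
      refine ⟨c, Subtype.ext (Matrix.ext_of_mulVec_single fun i => ?_)⟩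
      rw [hc, happ]
      exact Cfsg.Agent.Transvec.tvMat_mulVec _ _ _
    · rintro _ ⟨c, rfl⟩
      refine Subgroup.subset_closure ⟨c, Matrix.ext_of_mulVec_single fun i => ?_⟩
      rw [happ]
      exact Cfsg.Agent.Transvec.tvMat_mulVec _ _ _
  haveI : Nonempty (Cfsg.Agent.RootClass.SLPoint (n + 3) k) := ⟨pt 0 1 h01⟩
  have hgen := Cfsg.Agent.RootClass.slFam_gen (n := n + 3) (k := k)
  have hconj := Cfsg.Agent.RootClass.slFam_conj (n := n + 3) (k := k)
  have hcls : Cfsg.IsConjClassOfSubgroups R.roots := R.conjClass Cfsg.Agent.RootClass.slFam_path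
  have hset : {A : Subgroup (Matrix.SpecialLinearGroup (Fin (n + 3)) k) |
        ∃ g : Matrix.SpecialLinearGroup (Fin (n + 3)) k,
          A = Cfsg.conjBy (Subgroup.closure {t : Matrix.SpecialLinearGroup (Fin (n + 3)) k |
            ∃ c : k, (t : Matrix (Fin (n + 3)) (Fin (n + 3)) k) = Matrix.transvection 0 1 c}) g} = R.roots := by
    rw [hA0]
    ext A
    constructor
    · rintro ⟨g, rfl⟩
      obtain ⟨q, hq⟩ := hconj g (pt 0 1 h01)
      exact ⟨q, hq.symm⟩
    · intro hA
      exact hcls.2 _ ⟨_, rfl⟩ A hA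
  rw [hset]
  refine ⟨⟨R.isRootSubgroupSet hgen hconj Cfsg.Agent.RootClass.slFam_pair, hcls⟩, ⟨?_, ?_, ?_⟩,
    R.isKRootSubgroupSet hgen hconj Cfsg.Agent.RootClass.slFam_pair, R.connected Cfsg.Agent.RootClass.slFam_path⟩
  · refine ⟨_, ⟨pt 0 1 h01, rfl⟩, _, ⟨pt 0 2 h02, rfl⟩, fun he => ?_, R.commutator_eq_bot
      (Cfsg.Agent.RootClass.slFam_comm ?_ ?_)⟩
    · obtain ⟨c, hc⟩ : R.T (pt 0 1 h01) 1 ∈ R.grp (pt 0 2 h02) := he ▸ ⟨1, rfl⟩
      have h := congrArg (fun g => Cfsg.Agent.Transvec.mv (Matrix.SpecialLinearGroup.toGL g) (Pi.single 1 1) 0) hc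
      simp only [R, Cfsg.Agent.RootClass.slFam_apply, pt] at h
      simp [Pi.single_eq_of_ne h12.symm, h01] at h
    · exact Pi.single_eq_of_ne h01.symm (1 : k)
    · exact Pi.single_eq_of_ne h02.symm (1 : k)
  · exact ⟨_, ⟨pt 0 1 h01, rfl⟩, _, ⟨pt 1 0 h01.symm, rfl⟩,
      (R.linked_rankOne (Cfsg.Agent.RootClass.slFam_linked (p := pt 0 1 h01) (q := pt 1 0 h01.symm)
        (by simp [pt]) (by simp [pt]))).1⟩
  · exact ⟨_, ⟨pt 0 1 h01, rfl⟩, _, ⟨pt 1 2 h12, rfl⟩,
      R.bracket_case (Cfsg.Agent.RootClass.slFam_bracket_left (p := pt 0 1 h01) (q := pt 1 2 h12)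
        (by simp [pt]) (by simp [pt, h02.symm]))⟩

end Cfsg.Agent.S5043
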