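import Cfsg.Statements.S5045
import Cfsg.Agent.Lib.RootClass.Involutions
-- import your own Cfsg.Agent.* helpers here

set_option autoImplicit false
open Cfsg

namespace Cfsg.Agent.S5045

/-- Let G be a finite group generated by a set D of root involutions, and W the set of members of D whose product with every other member of D has even order or is trivial (the isolated vertices of the odd-order-product graph on D). Then W is conjugation-invariant and generates a normal 2-subgroup of G meeting D in exactly W; the commutator of two members of D lying in different connected components of that graph, each with more than one member, lies in the subgroup generated by W; and for a in such a component, every member of D commuting with a, different from a and with product with a in D, lies in that component or in W. -/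
theorem result {G : Type*} [Group G] [Finite G] {D : Set G} (hD : Cfsg.IsRootInvolutionSet D) :
    (∀ w ∈ {w | Cfsg.IsIsolatedElem (Cfsg.OddAdj D) D w}, ∀ g : G, g * w * g⁻¹ ∈ {w | Cfsg.IsIsolatedElem (Cfsg.OddAdj D) D w}) ∧
    (Subgroup.closure {w | Cfsg.IsIsolatedElem (Cfsg.OddAdj D) D w}).Normal ∧
    IsPGroup 2 ↥(Subgroup.closure {w | Cfsg.IsIsolatedElem (Cfsg.OddAdj D) D w}) ∧
    (Subgroup.closure {w | Cfsg.IsIsolatedElem (Cfsg.OddAdj D) D w} : Set G) ∩ D = {w | Cfsg.IsIsolatedElem (Cfsg.OddAdj D) D w} ∧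
    (∀ a ∈ D, ∀ b ∈ D, (∃ a' ∈ Cfsg.elemComponentOf (Cfsg.OddAdj D) D a, a' ≠ a) →
      (∃ b' ∈ Cfsg.elemComponentOf (Cfsg.OddAdj D) D b, b' ≠ b) →
      Cfsg.elemComponentOf (Cfsg.OddAdj D) D a ≠ Cfsg.elemComponentOf (Cfsg.OddAdj D) D b →
        a * b * a⁻¹ * b⁻¹ ∈ Subgroup.closure {w | Cfsg.IsIsolatedElem (Cfsg.OddAdj D) D w}) ∧
    (∀ a ∈ D, (∃ a' ∈ Cfsg.elemComponentOf (Cfsg.OddAdj D) D a, a' ≠ a) →
      Cfsg.productPartners D a ⊆ Cfsg.elemComponentOf (Cfsg.OddAdj D) D a ∪ {w | Cfsg.IsIsolatedElem (Cfsg.OddAdj D) D w}) := by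
  classical
  obtain ⟨hn, hp, hDW⟩ := Cfsg.Agent.RootInvol.isolated_spec hD
  refine ⟨fun w hw g => Cfsg.Agent.RootInvol.isolated_conj hD hw g, hn, hp, hDW, ?_, ?_⟩
  · intro a ha b hb hA hB hne
    obtain ⟨z, hz⟩ := Cfsg.Agent.RootInvol.exists_partner hA
    obtain ⟨w, hw⟩ := Cfsg.Agent.RootInvol.exists_partner hB
    have hno : ¬ Cfsg.Agent.RootInvol.Odd2 a b := fun h => hne
      (Cfsg.Agent.RootInvol.comp_eq ⟨hb, Relation.ReflTransGen.single ⟨ha, hb, h⟩⟩).symm
    by_cases hc : a * b = b * a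
    · rw [hc, mul_inv_cancel_right, mul_inv_cancel]; exact one_mem _
    have h4 := Cfsg.Agent.RootInvol.four_of_not hD ha hb hc hno
    obtain ⟨-, -, ta, -⟩ := Cfsg.Agent.RootInvol.four_tri hD ha hb h4
    obtain ⟨-, -, tb, -⟩ := Cfsg.Agent.RootInvol.four_tri hD hb ha h4.symm
    rw [Cfsg.Agent.RootInvol.four_sq_eq hD ha hb h4] at tb
    rw [Cfsg.Agent.RootInvol.inv_eq hD ha, Cfsg.Agent.RootInvol.inv_eq hD hb, mul_assoc, ← pow_two]
    refine Subgroup.subset_closure ?_
    rcases ta.comp_or_isolated hD hz with h | h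
    · rcases tb.comp_or_isolated hD hw with h' | h'
      · exact absurd ((Cfsg.Agent.RootInvol.comp_eq h).symm.trans (Cfsg.Agent.RootInvol.comp_eq h')) hne
      · exact h'
    · exact h
  · intro a ha hA b hb
    obtain ⟨z, hz⟩ := Cfsg.Agent.RootInvol.exists_partner hA
    have t : Cfsg.Agent.RootInvol.Tri D a b :=
      ⟨ha, hb.1.1, hb.1.2.1.symm, by rw [← hb.1.2.1]; exact hb.2⟩
    exact t.comp_or_isolated hD hz

end Cfsg.Agent.S5045
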