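import Cfsg.Statements.S5046
import Cfsg.Agent.Lib.RootClass.InvolSame
-- import your own Cfsg.Agent.* helpers here

set_option autoImplicit false
open Cfsg

namespace Cfsg.Agent.S5046

/-- Let G be a finite group generated by a set D of root involutions whose odd-order-product graph is connected, and d ∈ D. Then the members e of D with the same commuting members as d are exactly those for which the union of the commuting members of d and the members whose product with d has order 4 equals the corresponding union for e. -/
theorem result {G : Type*} [Group G] [Finite G] {D : Set G} (hD : Cfsg.IsRootInvolutionSet D)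
    (hc : Cfsg.IsConnectedSet (Cfsg.OddAdj D) D) {d : G} (hd : d ∈ D) :
    Cfsg.sameCommutingClass D d =
      {e | e ∈ D ∧ Cfsg.commutingMembers D d ∪ Cfsg.fourPartners D d = Cfsg.commutingMembers D e ∪ Cfsg.fourPartners D e} := by
  classical
  have key : ∀ {x : G}, x ∈ D →
      Cfsg.commutingMembers D x ∪ Cfsg.fourPartners D x = D \ Cfsg.oddPartners D x := by
    intro x hx
    ext y
    constructor
    · rintro (⟨hy, hc⟩ | ⟨hy, h4⟩)
      · exact ⟨hy, fun h => Cfsg.Agent.RootInvol.not_comm_of_odd2 hD hx hy
          (Cfsg.Agent.RootInvol.mem_A.1 h).2 hc.symm⟩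
      · exact ⟨hy, fun h => Cfsg.Agent.RootInvol.not_odd2_of_four h4 (Cfsg.Agent.RootInvol.mem_A.1 h).2⟩
    · intro ⟨hy, hn⟩
      rcases Cfsg.Agent.RootInvol.pair3 hD hx hy with h | h | h
      · exact Or.inl ⟨hy, h.symm⟩
      · exact absurd (Cfsg.Agent.RootInvol.mem_A.2 ⟨hy, h⟩) hn
      · exact Or.inr ⟨hy, h⟩
  have hsub : ∀ x : G, Cfsg.oddPartners D x ⊆ D := fun x y hy => hy.1
  ext e
  simp only [Cfsg.sameCommutingClass, Set.mem_setOf_eq]
  refine and_congr_right fun he => ?_
  rw [Cfsg.Agent.RootInvol.comm_iff_A hD hc hd he, key hd, key he]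
  refine ⟨fun h => by rw [h], fun h => ?_⟩
  have := congrArg (fun S => D \ S) h
  simpa [Set.sdiff_sdiff_cancel_left, hsub, Set.inter_eq_right.2 (hsub d), Set.inter_eq_right.2 (hsub e)] using this

end Cfsg.Agent.S5046
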