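import Cfsg.Statements.S5047
import Cfsg.Agent.Lib.RootClass.InvolSame
-- import your own Cfsg.Agent.* helpers here

set_option autoImplicit false
open Cfsg

namespace Cfsg.Agent.S5047

/-- Let G be a finite group generated by a set D of root involutions whose odd-order-product graph is connected, a ∈ D, and b a member of D different from a, commuting with a, with ab ∈ D, but not having the same commuting members as a. Then some member x of D with bx of order 4 has ax of order 3. -/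
theorem result {G : Type*} [Group G] [Finite G] {D : Set G} (hD : Cfsg.IsRootInvolutionSet D)
    (hc : Cfsg.IsConnectedSet (Cfsg.OddAdj D) D) {a b : G} (ha : a ∈ D) (hb : b ∈ Cfsg.productPartners D a)
    (hbE : b ∉ Cfsg.sameCommutingClass D a) : ∃ x ∈ Cfsg.fourPartners D b, orderOf (a * x) = 3 := by
  classical
  have t : Cfsg.Agent.RootInvol.Tri D a b := ⟨ha, hb.1.1, hb.1.2.1.symm, by rw [← hb.1.2.1]; exact hb.2⟩
  have hbD : b ∈ D := hb.1.1
  have hne : Cfsg.commutingMembers D a ≠ Cfsg.commutingMembers D b := fun h => hbE ⟨hbD, h⟩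
  obtain ⟨β, hβ, f1, e1⟩ := Cfsg.Agent.RootInvol.exists_pre hD hc t hne
  have hb2 : b * b = 1 := Cfsg.Agent.RootInvol.sq hD hbD
  have hβ2 := Cfsg.Agent.RootInvol.cancel hD hβ
  have ha2 := Cfsg.Agent.RootInvol.cancel hD ha
  have hcbβ : β * b = b * β := by
    have := Cfsg.Agent.RootInvol.four_comm_sq hD hβ ha f1.symm
    rwa [Cfsg.Agent.RootInvol.four_sq_eq hD ha hβ f1, e1] at this
  have hbβ : b * β = a * β * a := by
    rw [← e1]; simp only [pow_two, mul_assoc, Cfsg.Agent.RootInvol.sq hD hβ, mul_one]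
  have t2 : Cfsg.Agent.RootInvol.Tri D b β :=
    ⟨hbD, hβ, hcbβ.symm, hbβ ▸ Cfsg.Agent.RootInvol.conj3 hD hβ ha⟩
  have hne2 : Cfsg.commutingMembers D b ≠ Cfsg.commutingMembers D β := fun h =>
    Cfsg.Agent.RootInvol.not_comm_of_four hD ha hβ f1
      (h ▸ (⟨ha, t.comm⟩ : a ∈ Cfsg.commutingMembers D b) : a ∈ Cfsg.commutingMembers D β).2
  obtain ⟨γ, hγ, f2, e2⟩ := Cfsg.Agent.RootInvol.exists_pre hD hc t2 hne2
  refine ⟨γ, ⟨hγ, f2⟩, ?_⟩
  have hγ2 := Cfsg.Agent.RootInvol.cancel hD hγ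
  have hγβ : γ * β = β * γ := by
    have := Cfsg.Agent.RootInvol.four_comm_sq hD hγ hbD f2.symm
    rwa [Cfsg.Agent.RootInvol.four_sq_eq hD hbD hγ f2, e2] at this
  have hγb : γ * b * γ = b * β := by
    rw [← e2]; simp only [pow_two, mul_assoc, Cfsg.Agent.RootInvol.cancel hD hbD]
  -- conjugation by `a * γ` permutes `b`, `β`, `b * β` cyclically
  have hinv : (a * γ)⁻¹ = γ * a := by
    rw [mul_inv_rev, Cfsg.Agent.RootInvol.inv_eq hD ha, Cfsg.Agent.RootInvol.inv_eq hD hγ]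
  have haba : a * b * a = b := by rw [t.comm, mul_assoc, Cfsg.Agent.RootInvol.sq hD ha, mul_one]
  have step : ∀ x y : G, a * (x * y) * a = a * x * a * (a * y * a) := fun x y => by
    simp only [mul_assoc, ha2]
  have c1 : a * γ * b * (a * γ)⁻¹ = β := by
    rw [hinv, show a * γ * b * (γ * a) = a * (γ * b * γ) * a by simp only [mul_assoc], hγb, step, haba, ← hbβ,
      ← mul_assoc, hb2, one_mul]
  have c2 : a * γ * β * (a * γ)⁻¹ = b * β := by
    rw [hinv, show a * γ * β * (γ * a) = a * (γ * β * γ) * a by simp only [mul_assoc], hγβ, mul_assoc β,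
      Cfsg.Agent.RootInvol.sq hD hγ, mul_one, hbβ]
  have c3 : a * γ * (b * β) * (a * γ)⁻¹ = b := by
    rw [show a * γ * (b * β) * (a * γ)⁻¹ = (a * γ * b * (a * γ)⁻¹) * (a * γ * β * (a * γ)⁻¹) by simp [mul_assoc],
      c1, c2, ← mul_assoc, hcbβ, mul_assoc, Cfsg.Agent.RootInvol.sq hD hβ, mul_one]
  have p3 : (a * γ) ^ 3 * b * ((a * γ) ^ 3)⁻¹ = b := by
    calc (a * γ) ^ 3 * b * ((a * γ) ^ 3)⁻¹
        = a * γ * (a * γ * (a * γ * b * (a * γ)⁻¹) * (a * γ)⁻¹) * (a * γ)⁻¹ := by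
          simp only [pow_succ, pow_zero, one_mul, mul_inv_rev, mul_assoc]
      _ = b := by rw [c1, c2, c3]
  have hnc : a * γ ≠ γ * a := by
    intro h
    refine Cfsg.Agent.RootInvol.not_comm_of_four hD hbD hγ f2 ?_
    rw [← e1]
    exact (((show Commute a γ from h).mul_left (show Commute β γ from hγβ.symm)).pow_left 2).eq
  have hnf : ¬ Cfsg.Agent.RootInvol.Four a γ := by
    intro h4
    have h := pow_orderOf_eq_one (a * γ)
    rw [show orderOf (a * γ) = 4 from h4] at h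
    have e : (a * γ) ^ 4 * b * ((a * γ) ^ 4)⁻¹ = β := by
      calc (a * γ) ^ 4 * b * ((a * γ) ^ 4)⁻¹
          = a * γ * ((a * γ) ^ 3 * b * ((a * γ) ^ 3)⁻¹) * (a * γ)⁻¹ := by
            simp only [pow_succ' _ 3, mul_inv_rev, mul_assoc]
        _ = β := by rw [p3, c1]
    rw [h] at e
    simp only [one_mul, inv_one, mul_one] at e
    exact Cfsg.Agent.RootInvol.Tri.ne hD t2 e
  have ho : Cfsg.Agent.RootInvol.Odd2 a γ :=
    ((Cfsg.Agent.RootInvol.pair3 hD ha hγ).resolve_left hnc).resolve_right hnf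
  set x' := a * (a * γ) ^ 3 with hx'
  have hx'D : x' ∈ D := by
    have : x' = γ * (a * γ * a) * γ := by simp only [hx', pow_succ, pow_zero, one_mul, mul_assoc, ha2]
    rw [this]
    exact Cfsg.Agent.RootInvol.conj3 hD (Cfsg.Agent.RootInvol.conj3 hD hγ ha) hγ
  have hx'b : x' * b = b * x' := by
    have h3 : Commute ((a * γ) ^ 3) b := mul_inv_eq_iff_eq_mul.1 p3
    exact ((show Commute a b from t.comm).mul_left h3).eq
  have h3 : (a * γ) ^ 3 = 1 := by
    by_contra h
    refine t.not_comm hD hx'D (Cfsg.Agent.RootInvol.Odd2.symm ⟨fun he => h ?_, ?_⟩) hx'b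
    · rw [hx'] at he; exact mul_left_cancel (he.symm.trans (mul_one a).symm)
    · rw [hx', ha2]; exact ho.2.of_dvd_nat (orderOf_pow_dvd 3)
  haveI : Fact (Nat.Prime 3) := ⟨Nat.prime_three⟩
  exact orderOf_eq_prime h3 fun h => ho.1
    ((mul_eq_one_iff_eq_inv.1 h).trans (Cfsg.Agent.RootInvol.inv_eq hD hγ))

end Cfsg.Agent.S5047
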