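import Cfsg.Statements.S5048
import Cfsg.Agent.Lib.RootClass.InvolSame
-- import your own Cfsg.Agent.* helpers here

set_option autoImplicit false
open Cfsg

namespace Cfsg.Agent.S5048

/-- Let G be a finite group generated by a set D of root involutions whose odd-order-product graph is connected, with some product of two different commuting members of D again in D. Then the largest solvable normal subgroup of G is the preimage of the centre of G/O₂(G), and the quotient of G by it is a simple group. -/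
theorem result {G : Type*} [Group G] [Finite G] {D : Set G} (hD : Cfsg.IsRootInvolutionSet D)
    (hc : Cfsg.IsConnectedSet (Cfsg.OddAdj D) D) (hDD : (D ∩ Cfsg.commutingProducts D).Nonempty) :
    Cfsg.solvableRadical G = Cfsg.twoZCore G ∧ IsSimpleGroup (G ⧸ Cfsg.twoZCore G) := by
  classical
  haveI : Fact (Nat.Prime 2) := ⟨Nat.prime_two⟩
  haveI hRc := Cfsg.Agent.PBasic.pCore_characteristic 2 G
  haveI hRn : (Cfsg.pCore 2 G).Normal := inferInstance
  obtain ⟨y, hyD, a, ha, b, hb, hab, -, rfl⟩ := hDD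
  have t : Cfsg.Agent.RootInvol.Tri D a b := ⟨ha, hb, hab, hyD⟩
  have conjD : ∀ d ∈ D, ∃ g : G, d = g * a * g⁻¹ := fun d hd => Cfsg.Agent.RootInvol.exists_conj hD hc ha hd
  have htri : ∀ d ∈ D, ∃ b', Cfsg.Agent.RootInvol.Tri D d b' := by
    intro d hd
    obtain ⟨g, rfl⟩ := conjD d hd
    refine ⟨g * b * g⁻¹, ⟨hd, hD.conj_mem b hb g, ?_, ?_⟩⟩
    · simp only [mul_assoc, inv_mul_cancel_left]; rw [← mul_assoc a b, hab, mul_assoc]
    · rw [show g * a * g⁻¹ * (g * b * g⁻¹) = g * (a * b) * g⁻¹ by simp [mul_assoc]]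
      exact hD.conj_mem _ hyD g
  -- a normal subgroup containing a member is everything
  have full : ∀ N : Subgroup G, N.Normal → ∀ d ∈ D, d ∈ N → N = ⊤ := by
    intro N hN d hd hdN
    rw [eq_top_iff, ← hD.generates, Subgroup.closure_le]
    intro e he
    obtain ⟨g, rfl⟩ := Cfsg.Agent.RootInvol.exists_conj hD hc hd he
    exact hN.conj_mem d hdN g
  -- every proper normal subgroup is central modulo `O₂`
  have central : ∀ N : Subgroup G, N.Normal → N ≠ ⊤ → N ≤ Cfsg.twoZCore G := by
    intro N hN hNt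
    have hND : ∀ d ∈ D, d ∉ N := fun d hd h => hNt (full N hN d hd h)
    have comm : ∀ d ∈ D, ∀ x ∈ N, d * (x * d * x⁻¹) = x * d * x⁻¹ * d ∧ d * (x * d * x⁻¹) ∈ N := by
      intro d hd x hx
      have hd' : x * d * x⁻¹ ∈ D := hD.conj_mem d hd x
      have hmem : d * (x * d * x⁻¹) ∈ N := by
        have := mul_mem (hN.conj_mem x hx d) (inv_mem hx)
        rwa [Cfsg.Agent.RootInvol.inv_eq hD hd, mul_assoc, mul_assoc, ← mul_assoc x d] at this
      refine ⟨?_, hmem⟩
      rcases Cfsg.Agent.RootInvol.pair3 hD hd hd' with h | h | h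
      · exact h
      · exfalso
        obtain ⟨b', tb⟩ := htri d hd
        set z := x * d * x⁻¹ with hzdef
        have bad : ∀ c ∈ D, d * c ∈ D → ¬ Cfsg.Agent.RootInvol.Odd2 z c := by
          intro c hc' hdc ho
          haveI := hN
          have h1 : (QuotientGroup.mk' N) (z * c) = (QuotientGroup.mk' N) (d * c) := by
            refine QuotientGroup.eq.2 ?_
            rw [mul_inv_rev, show c⁻¹ * z⁻¹ * (d * c) = c⁻¹ * (z⁻¹ * d) * c⁻¹⁻¹ by simp [mul_assoc]]
            refine hN.conj_mem _ ?_ _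
            rw [Cfsg.Agent.RootInvol.inv_eq hD hd']
            have := inv_mem hmem
            rwa [mul_inv_rev, Cfsg.Agent.RootInvol.inv_eq hD hd', Cfsg.Agent.RootInvol.inv_eq hD hd] at this
          have h2 : (QuotientGroup.mk' N) (d * c) ^ orderOf (z * c) = 1 := by
            rw [← h1, ← map_pow, pow_orderOf_eq_one, map_one]
          rw [Cfsg.Agent.RootInvol.pow_odd_of_sq (by rw [← map_mul, Cfsg.Agent.RootInvol.sq hD hdc, map_one]) ho.2] at h2
          exact hND _ hdc ((QuotientGroup.eq_one_iff _).1 h2)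
        rcases tb.key hD hd' h.symm with h' | h'
        · exact bad b' tb.right tb.mul_mem h'
        · exact bad _ tb.mul_mem (by rw [Cfsg.Agent.RootInvol.cancel hD hd]; exact tb.right) h'
      · exact absurd (by rw [pow_two]; exact mul_mem hmem hmem : (d * (x * d * x⁻¹)) ^ 2 ∈ N)
          (hND _ (Cfsg.Agent.RootInvol.four_sq_mem hD hd hd' h))
    have inR : ∀ d ∈ D, ∀ x ∈ N, d * (x * d * x⁻¹) ∈ Cfsg.pCore 2 G := by
      intro d hd x hx
      have pc : ∀ u ∈ N, ∀ v ∈ N, Commute (u * d * u⁻¹) (v * d * v⁻¹) := by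
        intro u hu v hv
        have h := congrArg (fun w => u * w * u⁻¹) (comm d hd (u⁻¹ * v) (mul_mem (inv_mem hu) hv)).1
        show _ = _
        simpa [mul_assoc] using h
      set q : ↥N := ⟨d * (x * d * x⁻¹), (comm d hd x hx).2⟩ with hq
      suffices h : q ∈ Cfsg.pCore 2 ↥N by
        haveI := hN
        haveI := Cfsg.Agent.PBasic.pCore_characteristic 2 ↥N
        exact Cfsg.Agent.PBasic.le_pCore (inferInstance : ((Cfsg.pCore 2 ↥N).map N.subtype).Normal)
          ((Cfsg.Agent.PBasic.pCore_isPGroup 2 ↥N).map N.subtype) ⟨q, h, rfl⟩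
      by_cases hq1 : q = 1
      · rw [hq1]; exact one_mem _
      have c0 : Commute d (x * d * x⁻¹) := (comm d hd x hx).1
      have hd' : x * d * x⁻¹ ∈ D := hD.conj_mem d hd x
      refine Cfsg.Agent.RootInvol.mem_pCore_two (orderOf_eq_prime (Subtype.ext
        (Cfsg.Agent.RootInvol.comm_sq hD hd hd' c0.eq)) hq1) fun g => Subtype.ext ?_
      show (d * (x * d * x⁻¹) * (g * (d * (x * d * x⁻¹)) * (g : G)⁻¹)) ^ 4 = 1
      have e : (g : G) * (d * (x * d * x⁻¹)) * (g : G)⁻¹ =
          (g * d * (g : G)⁻¹) * ((g * x) * d * ((g : G) * x)⁻¹) := by simp [mul_assoc]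
      have s2 : ∀ u : G, (u * d * u⁻¹) * (u * d * u⁻¹) = 1 :=
        fun u => Cfsg.Agent.RootInvol.sq hD (hD.conj_mem d hd u)
      have k0 : ∀ v ∈ N, Commute d (v * d * v⁻¹) := fun v hv => by simpa using pc 1 (one_mem _) v hv
      have hgx := mul_mem g.2 hx
      have cgg : Commute (g * d * (g : G)⁻¹) ((g * x) * d * ((g : G) * x)⁻¹) := pc _ g.2 _ hgx
      have hsq : ((d * (x * d * x⁻¹)) * ((g * d * (g : G)⁻¹) * ((g * x) * d * ((g : G) * x)⁻¹))) ^ 2 = 1 := by
        rw [(((k0 _ g.2).mul_right (k0 _ hgx)).mul_left ((pc x hx _ g.2).mul_right (pc x hx _ hgx))).mul_pow,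
          c0.mul_pow, cgg.mul_pow]
        simp only [pow_two, s2, Cfsg.Agent.RootInvol.sq hD hd, one_mul]
      rw [e, show (4 : ℕ) = 2 * 2 from rfl, pow_mul, hsq, one_pow]
    intro x hx
    show QuotientGroup.mk' (Cfsg.pCore 2 G) x ∈ Subgroup.center _
    rw [Subgroup.mem_center_iff]
    intro g
    obtain ⟨g, rfl⟩ := QuotientGroup.mk'_surjective _ g
    have hle : ⊤ ≤ (Subgroup.centralizer {QuotientGroup.mk' (Cfsg.pCore 2 G) x}).comap
        (QuotientGroup.mk' (Cfsg.pCore 2 G)) := by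
      rw [← hD.generates, Subgroup.closure_le]
      intro d hd
      simp only [SetLike.mem_coe, Subgroup.mem_comap, Subgroup.mem_centralizer_singleton_iff]
      rw [← map_mul, ← map_mul]
      refine QuotientGroup.eq.2 ?_
      have h := hRn.conj_mem _ (inR d hd x hx) (x⁻¹)
      rwa [mul_inv_rev, Cfsg.Agent.RootInvol.inv_eq hD hd, show x⁻¹ * d * (x * d) = x⁻¹ * (d * (x * d * x⁻¹)) * x⁻¹⁻¹ by simp [mul_assoc]]
    exact (Subgroup.mem_centralizer_singleton_iff.1 (hle (Subgroup.mem_top g)))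
  have perfect : commutator G = ⊤ := by
    refine full _ inferInstance a ha ?_
    obtain ⟨g, hg⟩ := conjD b hb
    obtain ⟨g', hg'⟩ := conjD (a * b) hyD
    rw [← QuotientGroup.eq_one_iff, ← QuotientGroup.mk'_apply]
    set π := QuotientGroup.mk' (commutator G) with hπ
    have hcm : ∀ u v : G, π u * π v = π v * π u := fun u v => by
      rw [← map_mul, ← map_mul]
      refine QuotientGroup.eq.2 ?_
      rw [show (u * v)⁻¹ * (v * u) = v⁻¹ * u⁻¹ * v⁻¹⁻¹ * u⁻¹⁻¹ by simp [mul_assoc]]
      exact Subgroup.commutator_mem_commutator (Subgroup.mem_top _) (Subgroup.mem_top _)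
    have e : ∀ u v : G, π (u * v * u⁻¹) = π v := fun u v => by
      rw [map_mul, map_mul, hcm u v, mul_assoc, ← map_mul π u, mul_inv_cancel, map_one, mul_one]
    have h1 : π a * π b = π a := by rw [← map_mul, hg', e]
    rw [hg, e] at h1
    exact mul_eq_left.1 h1
  have hnt : Nontrivial G := ⟨⟨a, 1, Cfsg.Agent.RootInvol.ne_one hD ha⟩⟩
  have nsolv : ¬ Group.IsSolvable G := fun h => by
    haveI := h
    exact absurd perfect (Group.IsSolvable.commutator_lt_top_of_nontrivial G).ne
  have hZt : Cfsg.twoZCore G ≠ ⊤ := by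
    intro h
    haveI : Group.IsSolvable ↥(Cfsg.pCore 2 G) := by
      haveI := (Cfsg.Agent.PBasic.pCore_isPGroup 2 G).isNilpotent
      infer_instance
    haveI : Group.IsSolvable (G ⧸ Cfsg.pCore 2 G) := by
      refine Group.isSolvable_of_comm fun u v => ?_
      have hall : ∀ w : G ⧸ Cfsg.pCore 2 G, w ∈ Subgroup.center (G ⧸ Cfsg.pCore 2 G) := fun w => by
        obtain ⟨w, rfl⟩ := QuotientGroup.mk'_surjective _ w
        exact Subgroup.mem_comap.1 (show w ∈ Cfsg.twoZCore G from h ▸ Subgroup.mem_top w)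
      exact (Subgroup.mem_center_iff.1 (hall v) u)
    exact nsolv (Group.isSolvable_of_ker_le_range (Cfsg.pCore 2 G).subtype (QuotientGroup.mk' (Cfsg.pCore 2 G))
      (by rw [QuotientGroup.ker_mk', Subgroup.range_subtype]))
  refine ⟨le_antisymm (sSup_le fun N ⟨hN, hs⟩ => central N hN fun h => ?_) (le_sSup ⟨inferInstance, ?_⟩), ?_⟩
  · subst h
    haveI := hs
    exact nsolv (Group.isSolvable_of_surjective (f := (Subgroup.topEquiv (G := G)).toMonoidHom) Subgroup.topEquiv.surjective)
  · set Z := Cfsg.twoZCore G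
    haveI : Group.IsSolvable ↥(Cfsg.pCore 2 G) := by
      haveI := (Cfsg.Agent.PBasic.pCore_isPGroup 2 G).isNilpotent
      infer_instance
    haveI : Group.IsSolvable ↥(Subgroup.center (G ⧸ Cfsg.pCore 2 G)) :=
      Group.isSolvable_of_comm fun u v => Subtype.ext ((Subgroup.mem_center_iff.1 v.2 u))
    have hle : Cfsg.pCore 2 G ≤ Z := fun w hw => by
      refine Subgroup.mem_comap.2 ?_
      rw [show QuotientGroup.mk' (Cfsg.pCore 2 G) w = 1 from (QuotientGroup.eq_one_iff _).2 hw]
      exact one_mem _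
    refine Group.isSolvable_of_ker_le_range (Subgroup.inclusion hle) (((QuotientGroup.mk' (Cfsg.pCore 2 G)).comp Z.subtype).codRestrict
      (Subgroup.center (G ⧸ Cfsg.pCore 2 G)) fun z => z.2) fun z hz => ?_
    rw [MonoidHom.mem_ker] at hz
    exact ⟨⟨z, (QuotientGroup.eq_one_iff _).1 (congrArg Subtype.val hz)⟩, Subtype.ext rfl⟩
  · haveI : Nontrivial (G ⧸ Cfsg.twoZCore G) := QuotientGroup.nontrivial_iff.2 hZt
    refine ⟨fun N hN => ?_⟩
    haveI := hN
    by_cases h : N.comap (QuotientGroup.mk' (Cfsg.twoZCore G)) = ⊤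
    · right
      rw [← Subgroup.map_comap_eq_self_of_surjective (QuotientGroup.mk'_surjective _) N, h,
        Subgroup.map_top_of_surjective _ (QuotientGroup.mk'_surjective _)]
    · left
      rw [← Subgroup.map_comap_eq_self_of_surjective (QuotientGroup.mk'_surjective _) N,
        Subgroup.map_eq_bot_iff, QuotientGroup.ker_mk']
      exact central _ inferInstance h

end Cfsg.Agent.S5048
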