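import Cfsg.Statements.S5049
import Cfsg.Agent.Lib.FiniteGroup.FittingPow
-- import your own Cfsg.Agent.* helpers here

set_option autoImplicit false
open Cfsg
open scoped commutatorElement

namespace Cfsg.Agent.S5049

/-- Let G be a finite group generated by a set D of odd transpositions (root involutions with no product of order 4), Q = O₂(G), and for a ∈ D let Q_a be the commutator subgroup of Q with a. Then every member of D commuting with a centralizes Q_a; and for b ∈ D with ab of odd order greater than 1, the centralizer of ab in Q is the intersection of the centralizers of a and b in Q. -/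
theorem result {G : Type*} [Group G] [Finite G] {D : Set G} (hD : Cfsg.IsOddTranspositionSet D) {a : G} (ha : a ∈ D) :
    (∀ e ∈ Cfsg.commutingMembers D a, ∀ q ∈ ⁅Cfsg.pCore 2 G, Subgroup.zpowers a⁆, e * q = q * e) ∧
    (∀ b ∈ Cfsg.oddPartners D a,
      Cfsg.pCore 2 G ⊓ Subgroup.centralizer {a * b} = Cfsg.pCore 2 G ⊓ Subgroup.centralizer {a} ⊓ Subgroup.centralizer {b}) := by
  classical
  haveI := Fact.mk Nat.prime_two
  haveI hQn : (Cfsg.pCore 2 G).Normal := Cfsg.Agent.FiniteGroup.pCore_normal 2
  have hQp : IsPGroup 2 (Cfsg.pCore 2 G) := Cfsg.Agent.FiniteGroup.pCore_isPGroup 2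
  obtain ⟨hS, h4⟩ := hD
  have hinv : ∀ d ∈ D, d * d = 1 := fun d hd => by rw [← pow_two, ← hS.orderOf_eq d hd, pow_orderOf_eq_one]
  -- members congruent to commuting members modulo the core commute
  have hcomm : ∀ x ∈ D, ∀ y ∈ D, ∀ q ∈ Cfsg.pCore 2 G, x * y = y * x → x * (q * y * q⁻¹) = q * y * q⁻¹ * x := by
    intro x hx y hy q hq hxy
    have hy' := hS.conj_mem y hy q
    rcases hS.pair x hx _ hy' with h | h | ⟨h, -⟩
    · exact h
    · set z := x * (q * y * q⁻¹)
      have hz2 : z * z ∈ Cfsg.pCore 2 G := by
        rw [← QuotientGroup.eq_one_iff]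
        show QuotientGroup.mk' (Cfsg.pCore 2 G) (z * z) = 1
        have hq1 : QuotientGroup.mk' (Cfsg.pCore 2 G) q = 1 := (QuotientGroup.eq_one_iff q).2 hq
        have : QuotientGroup.mk' (Cfsg.pCore 2 G) z = QuotientGroup.mk' (Cfsg.pCore 2 G) (x * y) := by
          simp only [z, map_mul, map_inv, hq1, inv_one, one_mul, mul_one]
        rw [map_mul, this, ← map_mul, show x * y * (x * y) = 1 by
          nth_rw 2 [hxy]
          rw [mul_assoc, ← mul_assoc y, hinv y hy, one_mul, hinv x hx], map_one]
      obtain ⟨j, hj⟩ := hQp ⟨_, hz2⟩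
      have hzj : z ^ (2 ^ (j + 1)) = 1 := by
        rw [pow_succ', pow_mul, pow_two]
        exact congrArg Subtype.val hj
      have h1 : orderOf z = 1 :=
        Nat.eq_one_of_dvd_coprimes ((Nat.coprime_two_left.2 h).pow_left (j + 1)) (orderOf_dvd_of_pow_eq_one hzj) dvd_rfl
      have hz1 : z = 1 := orderOf_eq_one_iff.1 h1
      have : x = q * y * q⁻¹ :=
        mul_left_cancel (a := x) (by rw [hinv x hx]; exact hz1.symm)
      rw [← this, hz1, hinv x hx]
    · exact absurd h (h4 x hx _ hy')
  refine ⟨fun e he q hq => ?_, fun b hb => ?_⟩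
  · obtain ⟨heD, hea⟩ := he
    have hle : ⁅Cfsg.pCore 2 G, Subgroup.zpowers a⁆ ≤ Subgroup.centralizer {e} := by
      refine Subgroup.commutator_le.2 fun q hq z hz => ?_
      obtain ⟨i, rfl⟩ := hz
      refine Subgroup.mem_centralizer_singleton_iff.2 (Commute.symm (?_ : Commute e ⁅q, a ^ i⁆)).eq
      rw [commutatorElement_def, ← conj_zpow, ← inv_zpow]
      exact (Commute.zpow_right (show Commute e (q * a * q⁻¹) from hcomm e heD a ha q hq hea) i).mul_right
        (Commute.zpow_right (show Commute e a from hea).inv_right i)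
    exact (Subgroup.mem_centralizer_singleton_iff.1 (hle hq)).symm
  obtain ⟨hbD, hba, hodd⟩ := hb
  ext q
  simp only [Subgroup.mem_inf, Subgroup.mem_centralizer_singleton_iff]
  constructor
  · rintro ⟨hq, hqd⟩
    set A := q * a * q⁻¹ with hA
    set B := q * b * q⁻¹ with hB
    have hAD := hS.conj_mem a ha q
    have hBD := hS.conj_mem b hbD q
    set d := a * b with hd
    have hAB : A * B = d := by
      rw [hA, hB, show q * a * q⁻¹ * (q * b * q⁻¹) = q * (a * b) * q⁻¹ by group, hqd, mul_inv_cancel_right]
    set x := a * A with hx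
    have hxB : x = b * B := by
      calc x = a * A * (B * B) := by rw [hinv B hBD, mul_one]
        _ = a * (A * B) * B := by group
        _ = a * a * b * B := by rw [hAB, hd]; group
        _ = _ := by rw [hinv a ha, one_mul]
    have cA : a * A = A * a := hcomm a ha a ha q hq rfl
    have cB : b * B = B * b := hcomm b hbD b hbD q hq rfl
    have hxa : Commute x a := by
      show a * A * a = a * (a * A)
      rw [mul_assoc, ← cA]
    have hxb : Commute x b := by
      rw [hxB]
      show b * B * b = b * (b * B)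
      rw [mul_assoc, ← cB]
    have hxd : Commute d x := (hxa.mul_right hxb).symm
    have hx2 : x * x = 1 := by
      rw [hx]; nth_rw 1 [cA]; rw [mul_assoc, ← mul_assoc a, hinv a ha, one_mul, hinv A hAD]
    have hAb : A * b = d * x := by
      calc A * b = a * a * A * b := by rw [hinv a ha, one_mul]
        _ = a * (x * b) := by rw [hx]; group
        _ = a * (b * x) := by rw [hxb.eq]
        _ = _ := by rw [hd]; group
    have hm : d ^ orderOf d = 1 := pow_orderOf_eq_one d
    have hoddpow : ∀ k, Odd k → x ^ k = x := by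
      rintro k ⟨r, rfl⟩
      rw [pow_succ, pow_mul, pow_two, hx2, one_pow, one_mul]
    have hx1 : x = 1 := by
      rcases hS.pair A hAD b hbD with h | h | ⟨h, -⟩
      · exfalso
        have h2 : (d * x) ^ 2 = 1 := by
          rw [← hAb, pow_two]
          nth_rw 2 [h]
          rw [mul_assoc, ← mul_assoc b, hinv b hbD, one_mul, hinv A hAD]
        rw [hxd.mul_pow, pow_two x, hx2, mul_one] at h2
        rcases (Nat.dvd_prime Nat.prime_two).1 (orderOf_dvd_of_pow_eq_one h2) with h1 | h1
        · refine hba ?_
          have hd1 : a * b = 1 := orderOf_eq_one_iff.1 h1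
          rw [← inv_eq_of_mul_eq_one_right hd1, inv_eq_of_mul_eq_one_right (hinv a ha)]
        · rw [hd] at h1; rw [h1] at hodd; exact absurd hodd (by decide)
      · rw [hAb] at h
        have h1 := pow_orderOf_eq_one (d * x)
        rw [hxd.mul_pow, hoddpow _ h] at h1
        have h2 : x ^ orderOf d = 1 := by
          rw [eq_inv_of_mul_eq_one_right h1, inv_pow, ← pow_mul, mul_comm, pow_mul, hm, one_pow, inv_one]
        rwa [hoddpow _ hodd] at h2
      · exact absurd h (h4 A hAD b hbD)
    have hAa : A = a := by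
      calc A = a * a * A := by rw [hinv a ha, one_mul]
        _ = a * x := by rw [hx]; group
        _ = _ := by rw [hx1, mul_one]
    have hBb : B = b := by
      calc B = b * b * B := by rw [hinv b hbD, one_mul]
        _ = b * x := by rw [hxB]; group
        _ = _ := by rw [hx1, mul_one]
    refine ⟨⟨hq, ?_⟩, ?_⟩
    · rw [hA] at hAa
      exact mul_inv_eq_iff_eq_mul.1 hAa
    · rw [hB] at hBb
      exact mul_inv_eq_iff_eq_mul.1 hBb
  · rintro ⟨⟨hq, hqa⟩, hqb⟩
    exact ⟨hq, by rw [← mul_assoc, hqa, mul_assoc, hqb, ← mul_assoc]⟩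

end Cfsg.Agent.S5049
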