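import Cfsg.Statements.S5053
import Cfsg.Agent.Lib.RootConn.Weak
-- import your own Cfsg.Agent.* helpers here

set_option autoImplicit false
open Cfsg

namespace Cfsg.Agent.S5053

/-- Let G be a finite group generated by a non-degenerate conjugacy class D of root involutions (some two different members commute, some two have product of odd order, some two have product of order 4) and T a weak TI-subset of D: a subset with more than one element, different from D, whose conjugate by any member of D equals T or is disjoint from it. Then T generates an abelian subgroup. -/
theorem result {G : Type*} [Group G] [Finite G] {D : Set G} (hD : Cfsg.IsNondegenerateRootInvolutionSet D)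
    (hcl : Cfsg.IsRootInvolutionClass D)     {T : Set G} (hT : Cfsg.IsWeakTISubsetOfElements D T) : IsMulCommutative ↥(Subgroup.closure T) := by
  have C : Cfsg.Agent.RootConn.Class D := ⟨hD, hcl⟩
  have hc : ∀ t ∈ T, ∀ z ∈ T, t * z = z * t := fun t ht z hz => C.weak_comm hT ht hz
  refine ⟨⟨fun a b => Subtype.ext ?_⟩⟩
  have h1 : Subgroup.closure T ≤ Subgroup.centralizer T := (Subgroup.closure_le _).2 fun t ht =>
    Subgroup.mem_centralizer_iff.2 fun z hz => hc z hz t ht
  have h2 : Subgroup.closure T ≤ Subgroup.centralizer (Subgroup.closure T : Set G) :=
    (Subgroup.closure_le _).2 fun t ht => Subgroup.mem_centralizer_iff.2 fun z hz =>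
      (Subgroup.mem_centralizer_iff.1 (h1 hz) t ht).symm
  exact (Subgroup.mem_centralizer_iff.1 (h2 b.2) a a.2)

end Cfsg.Agent.S5053
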