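import Cfsg.Statements.S5057
import Cfsg.Prelude.Def_RootSubgroups
-- import your own Cfsg.Agent.* helpers here

set_option autoImplicit false
open Cfsg

namespace Cfsg.Agent.S5057

/-- The involutions of the alternating group of degree 6 form a class of root involutions (a single conjugacy class of involutions generating the group, any two of which commute, have product of odd order, or have product of order 4 whose square is again an involution of the class), and the product of any two of them has order at most 5. -/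
theorem result :
    Cfsg.IsRootInvolutionClass {g : ↥(alternatingGroup (Fin 6)) | orderOf g = 2} ∧
    ∀ d ∈ {g : ↥(alternatingGroup (Fin 6)) | orderOf g = 2}, ∀ e ∈ {g : ↥(alternatingGroup (Fin 6)) | orderOf g = 2},
      orderOf (d * e) ≤ 5 := by
  classical
  -- element orders
  have hord : ∀ g : ↥(alternatingGroup (Fin 6)), orderOf g ∈ ({1, 2, 3, 4, 5} : Finset ℕ) := by
    intro g
    rw [← Subgroup.orderOf_coe, ← Equiv.Perm.lcm_cycleType]
    obtain ⟨c, hc⟩ : ∃ c, (g : Equiv.Perm (Fin 6)).cycleType = c := ⟨_, rfl⟩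
    rw [hc]
    have hs : c.sum ≤ 6 := by simpa [hc] using Equiv.Perm.sum_cycleType_le (g : Equiv.Perm (Fin 6))
    have h2 : ∀ x ∈ c, 2 ≤ x := fun x hx => Equiv.Perm.two_le_of_mem_cycleType (hc ▸ hx)
    have hsign : Even (c.sum + Multiset.card c) := by
      have h : Equiv.Perm.sign (g : Equiv.Perm (Fin 6)) = 1 := Equiv.Perm.mem_alternatingGroup.1 g.2
      rw [Equiv.Perm.sign_of_cycleType, hc] at h
      exact neg_one_pow_eq_one_iff_even (by decide) |>.1 h
    have hcard : 2 * Multiset.card c ≤ c.sum := by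
      have := Multiset.card_nsmul_le_sum (s := c) (a := 2) h2
      rw [smul_eq_mul, mul_comm] at this
      exact this
    have : Multiset.card c ≤ 3 := by omega
    interval_cases hk : Multiset.card c
    · rw [Multiset.card_eq_zero.1 hk]; decide
    · obtain ⟨x, rfl⟩ := Multiset.card_eq_one.1 hk
      have := h2 x (by simp)
      simp only [Multiset.sum_singleton] at hs hsign
      interval_cases x <;> revert hsign <;> decide
    · obtain ⟨x, y, rfl⟩ := Multiset.card_eq_two.1 hk
      have := h2 x (by simp)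
      have := h2 y (by simp)
      simp only [Multiset.insert_eq_cons, Multiset.sum_cons, Multiset.sum_singleton] at hs hsign
      have : x ≤ 4 := by omega
      have : y ≤ 4 := by omega
      interval_cases x <;> interval_cases y <;> (first | omega | (revert hsign; decide))
    · obtain ⟨x, y, z, rfl⟩ := Multiset.card_eq_three.1 hk
      have := h2 x (by simp)
      have := h2 y (by simp)
      have := h2 z (by simp)
      simp only [Multiset.insert_eq_cons, Multiset.sum_cons, Multiset.sum_singleton] at hs hsign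
      obtain ⟨rfl, rfl, rfl⟩ : x = 2 ∧ y = 2 ∧ z = 2 := by omega
      revert hsign; decide
  haveI : IsSimpleGroup ↥(alternatingGroup (Fin 6)) := alternatingGroup.isSimpleGroup (by simp)
  have hsq : ∀ g : ↥(alternatingGroup (Fin 6)), orderOf g = 2 ↔ g * g = 1 ∧ g ≠ 1 := fun g => by
    haveI := Fact.mk Nat.prime_two
    refine ⟨fun h => ⟨by rw [← pow_two, ← h, pow_orderOf_eq_one], fun h1 => ?_⟩,
      fun h => orderOf_eq_prime (by rw [pow_two, h.1]) h.2⟩
    rw [h1, orderOf_one] at h; omega
  have hct : ∀ g : ↥(alternatingGroup (Fin 6)), orderOf g = 2 →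
      (g : Equiv.Perm (Fin 6)).cycleType = {2, 2} := by
    intro g hg
    set c := (g : Equiv.Perm (Fin 6)).cycleType with hc
    have hall : ∀ x ∈ c, x = 2 := fun x hx => by
      have h1 := Equiv.Perm.dvd_of_mem_cycleType hx
      rw [Subgroup.orderOf_coe, hg] at h1
      exact le_antisymm (Nat.le_of_dvd (by norm_num) h1) (Equiv.Perm.two_le_of_mem_cycleType hx)
    have hrep : c = Multiset.replicate (Multiset.card c) 2 := Multiset.eq_replicate_card.2 hall
    have hs : c.sum ≤ 6 := by simpa [hc] using Equiv.Perm.sum_cycleType_le (g : Equiv.Perm (Fin 6))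
    have hne : c ≠ 0 := fun h => by
      have h1 : (g : Equiv.Perm (Fin 6)) = 1 := Equiv.Perm.cycleType_eq_zero.1 h
      exact ((hsq g).1 hg).2 (Subtype.ext h1)
    have hsign : Even (c.sum + Multiset.card c) := by
      have h : Equiv.Perm.sign (g : Equiv.Perm (Fin 6)) = 1 := Equiv.Perm.mem_alternatingGroup.1 g.2
      rw [Equiv.Perm.sign_of_cycleType, ← hc] at h
      exact neg_one_pow_eq_one_iff_even (by decide) |>.1 h
    rw [hrep, Multiset.sum_replicate, smul_eq_mul] at hs
    rw [hrep, Multiset.sum_replicate, Multiset.card_replicate, smul_eq_mul] at hsign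
    have : Multiset.card c ≠ 0 := fun h => hne (Multiset.card_eq_zero.1 h)
    have h2c : Multiset.card c = 2 := by
      rcases hsign with ⟨r, hr⟩
      omega
    rw [hrep, h2c]; rfl
  have hconjmem : ∀ d, orderOf d = 2 → ∀ g : ↥(alternatingGroup (Fin 6)), orderOf (g * d * g⁻¹) = 2 := fun d hd g => by
    rwa [show g * d * g⁻¹ = MulAut.conj g d by simp, (MulAut.conj g).orderOf_eq]
  obtain ⟨d0, hd0⟩ : ∃ d0 : ↥(alternatingGroup (Fin 6)), orderOf d0 = 2 :=
    ⟨⟨Equiv.swap 0 1 * Equiv.swap 2 3, Equiv.Perm.mem_alternatingGroup.2 (by decide)⟩,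
      (hsq _).2 ⟨Subtype.ext (by decide), fun h => absurd (congrArg Subtype.val h) (by decide)⟩⟩
  refine ⟨⟨⟨fun d hd => hd, ?_, hconjmem, fun a ha b hb => ?_⟩, ⟨d0, hd0⟩, fun a ha b hb => ?_⟩, fun a _ b _ => ?_⟩
  · haveI hn : (Subgroup.closure {g : ↥(alternatingGroup (Fin 6)) | orderOf g = 2}).Normal := by
      refine ⟨fun x hx g => ?_⟩
      induction hx using Subgroup.closure_induction with
      | mem y hy => exact Subgroup.subset_closure (hconjmem y hy g)
      | one => simp [one_mem]
      | mul y z _ _ hy hz =>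
        rw [show g * (y * z) * g⁻¹ = (g * y * g⁻¹) * (g * z * g⁻¹) by group]; exact mul_mem hy hz
      | inv y _ hy =>
        rw [show g * y⁻¹ * g⁻¹ = (g * y * g⁻¹)⁻¹ by group]; exact inv_mem hy
    refine hn.eq_bot_or_eq_top.resolve_left fun h => ?_
    have : d0 ∈ (⊥ : Subgroup ↥(alternatingGroup (Fin 6))) := h ▸ Subgroup.subset_closure hd0
    exact ((hsq d0).1 hd0).2 (Subgroup.mem_bot.1 this)
  · obtain ⟨a2, -⟩ := (hsq a).1 ha
    obtain ⟨b2, -⟩ := (hsq b).1 hb
    have h := hord (a * b)
    simp only [Finset.mem_insert, Finset.mem_singleton] at h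
    have hcomm : (a * b) * (a * b) = 1 → a * b = b * a := fun h => by
      rw [← inv_eq_of_mul_eq_one_right h, mul_inv_rev, inv_eq_of_mul_eq_one_right a2, inv_eq_of_mul_eq_one_right b2]
    rcases h with h | h | h | h | h
    · exact Or.inr (Or.inl (by rw [h]; decide))
    · exact Or.inl (hcomm (by rw [← pow_two, ← h, pow_orderOf_eq_one]))
    · exact Or.inr (Or.inl (by rw [h]; decide))
    · exact Or.inr (Or.inr ⟨h, show orderOf ((a * b) ^ 2) = 2 by rw [orderOf_pow, h]; rfl⟩)
    · exact Or.inr (Or.inl (by rw [h]; decide))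
  · obtain ⟨g, hg⟩ := isConj_iff.1 (Equiv.Perm.isConj_iff_cycleType_eq.2 ((hct a ha).trans (hct b hb).symm))
    by_cases hs : g ∈ alternatingGroup (Fin 6)
    · exact ⟨⟨g, hs⟩, Subtype.ext hg.symm⟩
    obtain ⟨b2, b1⟩ := (hsq b).1 hb
    obtain ⟨x, hx⟩ : ∃ x, (b : Equiv.Perm (Fin 6)) x ≠ x := by
      by_contra h
      push Not at h
      exact b1 (Subtype.ext (Equiv.ext h))
    set t := Equiv.swap x ((b : Equiv.Perm (Fin 6)) x) with ht
    have hbb : (b : Equiv.Perm (Fin 6)) ((b : Equiv.Perm (Fin 6)) x) = x :=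
      congrArg (fun p : Equiv.Perm (Fin 6) => p x) (congrArg Subtype.val b2)
    have htb : t * (b : Equiv.Perm (Fin 6)) * t⁻¹ = b := by
      have h1 : (b : Equiv.Perm (Fin 6)) * t = t * b := by
        rw [ht, Equiv.mul_swap_eq_swap_mul, hbb, Equiv.swap_comm]
      rw [← h1, mul_inv_cancel_right]
    have htg : t * g ∈ alternatingGroup (Fin 6) := by
      rw [Equiv.Perm.mem_alternatingGroup] at hs ⊢
      rw [map_mul, ht, Equiv.Perm.sign_swap hx.symm, (Int.units_eq_one_or _).resolve_left hs]
      decide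
    refine ⟨⟨t * g, htg⟩, Subtype.ext ?_⟩
    show (b : Equiv.Perm (Fin 6)) = t * g * (a : Equiv.Perm (Fin 6)) * (t * g)⁻¹
    rw [show t * g * (a : Equiv.Perm (Fin 6)) * (t * g)⁻¹ = t * (g * a * g⁻¹) * t⁻¹ by group, hg, htb]
  · have h := hord (a * b)
    simp only [Finset.mem_insert, Finset.mem_singleton] at h
    omega

end Cfsg.Agent.S5057
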