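import Cfsg.Statements.S5058
import Cfsg.Agent.Lib.RootClass.Linear
import Cfsg.Agent.Lib.RootClass.Invol
-- import your own Cfsg.Agent.* helpers here

set_option autoImplicit false
open Matrix
open Cfsg

namespace Cfsg.Agent.S5058

/-- Let F be a finite field of characteristic 2 and n a natural number. Then the transvections of SL_{n+3}(F) (so in every dimension at least 3) (the conjugates of the elementary matrices 1 + c E₁₂, c ≠ 0) form a class of root involutions of SL_{n+3}(F); when F has two elements they form a class of {3,4}⁺-transpositions (every product of odd order has order 1 or 3). -/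
theorem result (F : Type*) [Field F] [Fintype F] [CharP F 2] (n : ℕ) :
    Cfsg.IsRootInvolutionClass {t : Matrix.SpecialLinearGroup (Fin (n + 3)) F | ∃ c : F, c ≠ 0 ∧
        ∃ g : Matrix.SpecialLinearGroup (Fin (n + 3)) F, ((g⁻¹ * t * g : Matrix.SpecialLinearGroup (Fin (n + 3)) F) :
          Matrix (Fin (n + 3)) (Fin (n + 3)) F) = Matrix.transvection 0 1 c} ∧
    (Fintype.card F = 2 → Cfsg.IsThreeFourPlusTranspositionSet {t : Matrix.SpecialLinearGroup (Fin (n + 3)) F | ∃ c : F, c ≠ 0 ∧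
        ∃ g : Matrix.SpecialLinearGroup (Fin (n + 3)) F, ((g⁻¹ * t * g : Matrix.SpecialLinearGroup (Fin (n + 3)) F) :
          Matrix (Fin (n + 3)) (Fin (n + 3)) F) = Matrix.transvection 0 1 c}) := by
  classical
  let R := Cfsg.Agent.RootClass.slFam (n + 3) F
  have h01 : (0 : Fin (n + 3)) ≠ 1 := by simp [Fin.ext_iff]
  let p0 : Cfsg.Agent.RootClass.SLPoint (n + 3) F :=
    ⟨(Pi.single 0 1, LinearMap.proj 1), fun h => by simpa using congrFun (show (Pi.single 0 1 : Fin (n + 3) → F) = 0 from h) 0,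
      fun h => by
        simpa using LinearMap.congr_fun (show (LinearMap.proj 1 : Module.Dual F (Fin (n + 3) → F)) = 0 from h)
          (Pi.single 1 1),
      by show (Pi.single 0 1 : Fin (n + 3) → F) 1 = 0; exact Pi.single_eq_of_ne h01.symm _⟩
  haveI : Nonempty (Cfsg.Agent.RootClass.SLPoint (n + 3) F) := ⟨p0⟩
  have hA0 : ∀ c : F, ((R.T p0 c : Matrix.SpecialLinearGroup (Fin (n + 3)) F) : Matrix (Fin (n + 3)) (Fin (n + 3)) F) =
      Matrix.transvection 0 1 c := by
    intro c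
    refine Matrix.ext_of_mulVec_single fun i => ?_
    rw [Matrix.transvection, Matrix.add_mulVec, Matrix.one_mulVec]
    refine (Cfsg.Agent.Transvec.tvMat_mulVec _ _ _).trans ?_
    congr 1
    ext l
    simp [p0, Matrix.mulVec, dotProduct, Matrix.single, Pi.single_apply, ite_and, eq_comm]
  have hne : ∀ p (c : F), c ≠ 0 → R.T p c ≠ 1 := fun p c hc h => by
    obtain ⟨x, hx⟩ := DFunLike.ne_iff.1 p.2.2.1
    have h1 := Cfsg.Agent.RootClass.slFam_apply p c x
    rw [show Cfsg.Agent.RootClass.slFam (n + 3) F = R from rfl, h, map_one, Cfsg.Agent.Transvec.mv_one] at h1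
    have h2 : (c * p.1.2 x) • p.1.1 = 0 := left_eq_add.1 h1
    exact (smul_eq_zero.1 h2).elim (mul_ne_zero hc hx) p.2.1
  have hgen := Cfsg.Agent.RootClass.slFam_gen (n := n + 3) (k := F)
  have hcmem : ∀ x ∈ R.invols, ∀ g : Matrix.SpecialLinearGroup (Fin (n + 3)) F, g * x * g⁻¹ ∈ R.invols := by
    rintro _ ⟨p, c, hc, rfl⟩ g
    obtain ⟨q, hq⟩ := Cfsg.Agent.RootClass.slFam_conj g p
    obtain ⟨d, hd⟩ : g * R.T p c * g⁻¹ ∈ R.grp q := hq ▸ ⟨_, ⟨c, rfl⟩, rfl⟩
    refine ⟨q, d, fun h0 => hne p c hc ?_, hd⟩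
    rw [h0, R.T_zero] at hd
    exact conj_eq_one_iff.1 hd.symm
  have hcls := R.isRootInvolutionClass hne hgen hcmem Cfsg.Agent.RootClass.slFam_pair Cfsg.Agent.RootClass.slFam_path
  have hset : {t : Matrix.SpecialLinearGroup (Fin (n + 3)) F | ∃ c : F, c ≠ 0 ∧
        ∃ g : Matrix.SpecialLinearGroup (Fin (n + 3)) F, ((g⁻¹ * t * g : Matrix.SpecialLinearGroup (Fin (n + 3)) F) :
          Matrix (Fin (n + 3)) (Fin (n + 3)) F) = Matrix.transvection 0 1 c} = R.invols := by
    ext t
    constructor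
    · rintro ⟨c, hc, g, hg⟩
      have : g⁻¹ * t * g = R.T p0 c := Subtype.ext (hg.trans (hA0 c).symm)
      have h := hcmem _ ⟨p0, c, hc, rfl⟩ g
      rw [← this] at h
      simpa [mul_assoc] using h
    · intro ht
      obtain ⟨g, hg⟩ := hcls.2.2 _ ⟨p0, 1, one_ne_zero, rfl⟩ t ht
      refine ⟨1, one_ne_zero, g, ?_⟩
      rw [hg, ← hA0]
      simp [mul_assoc]
  rw [hset]
  exact ⟨hcls, fun hq => R.isThreeFour hne hgen hcmem Cfsg.Agent.RootClass.slFam_pair hq⟩

end Cfsg.Agent.S5058
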