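import Cfsg.Statements.S5060
import Cfsg.Agent.Lib.RootClass.DicksonAlphaInf
-- import your own Cfsg.Agent.* helpers here

set_option autoImplicit false
open Cfsg

namespace Cfsg.Agent.S5060

/-- Let k ⊆ K be fields with the characteristic of k not 2 and k not of order 3, and let α ∈ K be a non-zero element algebraic over k. Then the subgroup of SL₂(K) generated by the upper unitriangular matrices with entry c and the lower unitriangular matrices with entry cα, c ranging over k, is exactly the group of matrices of SL₂(K) with all entries in k(α). -/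
theorem result {k K : Type*} [Field k] [Field K] [Algebra k K] (hk2 : ringChar k ≠ 2) (hk3 : Nat.card k ≠ 3)
    (α : K) (hα : IsAlgebraic k α) (hα0 : α ≠ 0) :
    (Subgroup.closure ({g : Matrix.SpecialLinearGroup (Fin 2) K | ∃ c : k, (g : Matrix (Fin 2) (Fin 2) K) = !![1, algebraMap k K c; 0, 1]} ∪
        {g : Matrix.SpecialLinearGroup (Fin 2) K | ∃ c : k, (g : Matrix (Fin 2) (Fin 2) K) = !![1, 0; algebraMap k K c * α, 1]}) :
      Set (Matrix.SpecialLinearGroup (Fin 2) K)) =
    {g : Matrix.SpecialLinearGroup (Fin 2) K | ∀ i j : Fin 2, (g : Matrix (Fin 2) (Fin 2) K) i j ∈ IntermediateField.adjoin k ({α} : Set K)} := by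
  classical
  have h2 : (2 : k) ≠ 0 := Ring.two_ne_zero hk2
  set E := IntermediateField.adjoin k ({α} : Set K) with hE
  haveI : FiniteDimensional k E := IntermediateField.adjoin.finiteDimensional hα.isIntegral
  set α' : E := ⟨α, IntermediateField.mem_adjoin_simple_self k α⟩ with hα'
  have hα'0 : α' ≠ 0 := fun h => hα0 (congrArg Subtype.val h)
  have hgen : IntermediateField.adjoin k ({α'} : Set E) = ⊤ := by
    refine (IntermediateField.map_injective E.val) ?_
    rw [IntermediateField.adjoin_map, ← AlgHom.fieldRange_eq_map, IntermediateField.fieldRange_val]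
    simp [hα', hE]
  have htop : Cfsg.Agent.DicksonAlpha.grp (k := k) α' = ⊤ := by
    cases finite_or_infinite k with
    | inl hf =>
      haveI : Finite E := Module.finite_of_finite k
      exact Cfsg.Agent.DicksonAlpha.finite_case h2 hk3 hgen hα'0
    | inr hi => exact Cfsg.Agent.DicksonAlpha.infinite_case α' h2 hgen hα'0
  set f := Matrix.SpecialLinearGroup.map (n := Fin 2) (algebraMap E K) with hf
  have hval : ∀ (g : Matrix.SpecialLinearGroup (Fin 2) E) (i j : Fin 2),
      (f g : Matrix (Fin 2) (Fin 2) K) i j = ((g : Matrix (Fin 2) (Fin 2) E) i j : K) := fun g i j => rfl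
  have hrange : (f.range : Set (Matrix.SpecialLinearGroup (Fin 2) K)) =
      {g : Matrix.SpecialLinearGroup (Fin 2) K | ∀ i j : Fin 2, (g : Matrix (Fin 2) (Fin 2) K) i j ∈ E} := by
    ext g
    constructor
    · rintro ⟨g, rfl⟩ i j; rw [hval]; exact ((g : Matrix (Fin 2) (Fin 2) E) i j).2
    · intro hg
      let M : Matrix (Fin 2) (Fin 2) E := fun i j => ⟨_, hg i j⟩
      have hM : M.det = 1 := Subtype.ext (by
        have := g.2
        rw [Matrix.det_fin_two] at this ⊢
        simpa [M] using this)
      exact ⟨⟨M, hM⟩, Subtype.ext (by ext i j; rfl)⟩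
  rw [← hrange, MonoidHom.range_eq_map, ← htop, Cfsg.Agent.DicksonAlpha.grp, MonoidHom.map_closure]
  congr 2
  ext g
  constructor
  · rintro (⟨c, hc⟩ | ⟨c, hc⟩)
    · refine ⟨_, Or.inl ⟨c, rfl⟩, Subtype.ext (Eq.trans ?_ hc.symm)⟩
      ext i j
      fin_cases i <;> fin_cases j <;> simp [hval, Cfsg.Agent.PStable.upp_val]
    · refine ⟨_, Or.inr ⟨c, rfl⟩, Subtype.ext (Eq.trans ?_ hc.symm)⟩
      ext i j
      fin_cases i <;> fin_cases j <;> simp [hval, Cfsg.Agent.PStable.low_val, hα']
  · rintro ⟨_, ⟨c, rfl⟩ | ⟨c, rfl⟩, rfl⟩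
    · refine Or.inl ⟨c, ?_⟩
      ext i j
      fin_cases i <;> fin_cases j <;> simp [hval, Cfsg.Agent.PStable.upp_val]
    · refine Or.inr ⟨c, ?_⟩
      ext i j
      fin_cases i <;> fin_cases j <;> simp [hval, Cfsg.Agent.PStable.low_val, hα']

end Cfsg.Agent.S5060
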