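import Cfsg.Statements.S5064
import Cfsg.Agent.Lib.QuadPair.Basic

set_option autoImplicit false
universe u
open Cfsg

namespace Cfsg.Agent.S5064

/-- Let k be a field of characteristic not 2 with k not of order 3, M a finite-dimensional k-vector space and G ≤ GL(M) such that (G, M) is a quadratic pair (M irreducible for G, and G generated by its quadratically acting elements σ whose scalar family 1 + c(σ − 1), c ∈ k, lies in G). Write 𝒬_d for the quadratic elements of G of minimal commutator rank, E(σ) for the subgroup generated by the members of 𝒬_d with the same fixed space and commutator space as σ, and Σ for the set of these subgroups. If σ, τ ∈ 𝒬_d and the subgroup H generated by their two scalar families does not act unipotently on M, then H is isomorphic to SL₂ over a simple algebraic extension k(λ) of k. -/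
theorem result {k : Type u} [Field k] (hk2 : ringChar k ≠ 2) (hk3 : Nat.card k ≠ 3)
    {M : Type u} [AddCommGroup M] [Module k M] [FiniteDimensional k M]
    {G : Subgroup (LinearMap.GeneralLinearGroup k M)} (hG : Cfsg.IsQuadraticPair G)
    {σ τ : LinearMap.GeneralLinearGroup k M} (hσ : σ ∈ Cfsg.minimalQuadraticElements G) (hτ : τ ∈ Cfsg.minimalQuadraticElements G)
    (hH : ¬ Cfsg.IsUnipotentOn (Subgroup.closure (Cfsg.scalarFamily σ ∪ Cfsg.scalarFamily τ))) :
    ∃ (K : Type u) (_ : Field K) (_ : Algebra k K) (lam : K), IsAlgebraic k lam ∧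
      IntermediateField.adjoin k ({lam} : Set K) = ⊤ ∧
      Nonempty (↥(Subgroup.closure (Cfsg.scalarFamily σ ∪ Cfsg.scalarFamily τ)) ≃* Matrix.SpecialLinearGroup (Fin 2) K) := by
  classical
  have h2 : (2 : k) ≠ 0 := Ring.two_ne_zero hk2
  have hs := Cfsg.Agent.QuadPair.sq_zero hσ
  have ht := Cfsg.Agent.QuadPair.sq_zero hτ
  have hz : ¬ IsNilpotent (Cfsg.Agent.QuadPair.zz (Cfsg.Agent.UniFamily.dev σ) (Cfsg.Agent.UniFamily.dev τ)) := by
    intro hn
    apply hH
    rw [Cfsg.Agent.QuadPair.scalarFamily_eq hσ, Cfsg.Agent.QuadPair.scalarFamily_eq hτ]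
    exact Cfsg.Agent.QuadPair.isUnipotentOn_of_nilpotent hs ht hn
  obtain ⟨-, ν, Λ, H, hfield, hHdef, -, -, -, -, -, -, ⟨e⟩, -⟩ :=
    Cfsg.Agent.QuadPair.structure_theorem h2 hk3 hσ hτ hz
  subst hHdef
  set R := Algebra.adjoin k ({Λ} : Set (Module.End k (LinearMap.range (Cfsg.Agent.UniFamily.dev σ))))
  letI : Field R := hfield.toField
  set lam : R := ⟨Λ, Algebra.subset_adjoin rfl⟩ with hlam
  refine ⟨R, hfield.toField, inferInstance, lam, Algebra.IsAlgebraic.isAlgebraic lam, ?_, ⟨e⟩⟩
  rw [eq_top_iff]
  intro x _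
  have hmap : Algebra.adjoin k ({lam} : Set R) = ⊤ := by
    refine Subalgebra.map_injective (f := R.val) Subtype.val_injective ?_
    rw [← Algebra.adjoin_image, Set.image_singleton, Algebra.map_top, Subalgebra.range_val]
    rfl
  exact IntermediateField.algebra_adjoin_le_adjoin k {lam} (hmap ▸ Algebra.mem_top)

end Cfsg.Agent.S5064
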