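import Cfsg.Statements.S5067
import Mathlib
-- import your own Cfsg.Agent.* helpers here

set_option autoImplicit false
open Cfsg
open scoped commutatorElement

namespace Cfsg.Agent.S5067

/-- Let P be a non-abelian nilpotent p-group (every element of p-power order; P possibly infinite) generated by two abelian subgroups E and F. Then the normal closure of E in P, and likewise that of F, has nilpotency class strictly smaller than that of P. -/
theorem result {P : Type*} [Group P] {p : ℕ} [Fact p.Prime] (hP : IsPGroup p P) [Group.IsNilpotent P]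
    (hna : ¬ IsMulCommutative P) {E F : Subgroup P} (hE : IsMulCommutative ↥E) (hF : IsMulCommutative ↥F) (hgen : E ⊔ F = ⊤) :
    Group.nilpotencyClass ↥(Subgroup.normalClosure (E : Set P)) < Group.nilpotencyClass P ∧
    Group.nilpotencyClass ↥(Subgroup.normalClosure (F : Set P)) < Group.nilpotencyClass P := by
  classical
  set γ := (⊤ : Subgroup P).lowerCentralSeries with hγ
  suffices key : ∀ A : Subgroup P, IsMulCommutative A →
      Group.nilpotencyClass ↥(Subgroup.normalClosure (A : Set P)) < Group.nilpotencyClass P from ⟨key E hE, key F hF⟩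
  intro A hA
  set N := Subgroup.normalClosure (A : Set P) with hN
  have hc : 2 ≤ Group.nilpotencyClass P := by
    by_contra h
    exact hna (Group.IsNilpotent.nilpotencyClass_le_one_iff.1 (by omega))
  haveI : (γ 1).Normal := inferInstance
  haveI : (γ 2).Normal := inferInstance
  have hle : N ≤ A ⊔ γ 1 := by
    haveI : (A ⊔ γ 1).Normal := Subgroup.Normal.of_commutator_le _ (le_trans (le_of_eq Subgroup.top_lowerCentralSeries_one.symm) le_sup_right)
    exact Subgroup.normalClosure_le_normal fun x hx => Subgroup.mem_sup_left hx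
  have hcen : ∀ c ∈ γ 1, ∀ g : P, (QuotientGroup.mk' (γ 2)) c * QuotientGroup.mk' (γ 2) g =
      QuotientGroup.mk' (γ 2) g * QuotientGroup.mk' (γ 2) c := fun c hc g => by
    have : ⁅c, g⁆ ∈ γ 2 := Subgroup.commutator_mem_commutator hc (Subgroup.mem_top g)
    rw [← commutatorElement_eq_one_iff_mul_comm, ← map_commutatorElement]
    exact (QuotientGroup.eq_one_iff _).2 this
  have h1 : N.lowerCentralSeries 1 ≤ γ 2 := by
    rw [Subgroup.lowerCentralSeries_succ, Subgroup.lowerCentralSeries_zero]
    refine Subgroup.commutator_le.2 fun x hx y hy => ?_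
    obtain ⟨a, ha, c, hc', rfl⟩ := Subgroup.mem_sup_of_normal_right.1 (hle hx)
    obtain ⟨b, hb, d, hd, rfl⟩ := Subgroup.mem_sup_of_normal_right.1 (hle hy)
    apply (QuotientGroup.eq_one_iff _).1
    show QuotientGroup.mk' (γ 2) ⁅a * c, b * d⁆ = 1
    rw [map_commutatorElement, commutatorElement_eq_one_iff_mul_comm, map_mul, map_mul]
    have hab : a * b = b * a := congrArg Subtype.val (hA.is_comm.comm (⟨a, ha⟩ : A) ⟨b, hb⟩)
    calc _ = QuotientGroup.mk' (γ 2) a * (QuotientGroup.mk' (γ 2) c * QuotientGroup.mk' (γ 2) b) * QuotientGroup.mk' (γ 2) d := by group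
      _ = QuotientGroup.mk' (γ 2) (a * b) * (QuotientGroup.mk' (γ 2) c * QuotientGroup.mk' (γ 2) d) := by rw [hcen c hc', map_mul]; group
      _ = QuotientGroup.mk' (γ 2) b * (QuotientGroup.mk' (γ 2) a * QuotientGroup.mk' (γ 2) d) * QuotientGroup.mk' (γ 2) c := by
        rw [hab, hcen c hc', map_mul]; group
      _ = _ := by rw [← hcen d hd]; group
  have hstep : ∀ i, N.lowerCentralSeries (i + 1) ≤ γ (i + 2) := by
    intro i
    induction i with
    | zero => exact h1
    | succ i ih =>
      rw [Subgroup.lowerCentralSeries_succ]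
      exact Subgroup.commutator_mono ih le_top
  have hb : N.lowerCentralSeries (Group.nilpotencyClass P - 1) = ⊥ := by
    obtain ⟨j, hj⟩ : ∃ j, Group.nilpotencyClass P = j + 2 := ⟨_, (Nat.sub_add_cancel hc).symm⟩
    rw [hj, show j + 2 - 1 = j + 1 by omega, eq_bot_iff]
    refine (hstep j).trans ?_
    rw [← hj, hγ, Subgroup.lowerCentralSeries_nilpotencyClass]
  haveI : Group.IsNilpotent N := Subgroup.isNilpotent_of_lowerCentralSeries_eq_bot hb
  have h2 : Group.nilpotencyClass N ≤ Group.nilpotencyClass P - 1 := by
    refine Subgroup.lowerCentralSeries_eq_bot_iff_nilpotencyClass_le.1 (Subgroup.map_injective N.subtype_injective ?_)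
    rw [Subgroup.top_subtype_lowerCentralSeries, hb, Subgroup.map_bot]
  omega

end Cfsg.Agent.S5067
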