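import Cfsg.Statements.S5073
import Cfsg.Agent.Lib.QuadPair.Class2
import Cfsg.Agent.S5059

set_option autoImplicit false
universe u
open Cfsg

namespace Cfsg.Agent.S5073

/-- Let k be a field of characteristic not 2 with k not of order 3, M a finite-dimensional k-vector space and G ≤ GL(M) such that (G, M) is a quadratic pair (M irreducible for G, and G generated by its quadratically acting elements σ whose scalar family 1 + c(σ − 1), c ∈ k, lies in G). Write 𝒬_d for the quadratic elements of G of minimal commutator rank, E(σ) for the subgroup generated by the members of 𝒬_d with the same fixed space and commutator space as σ, and Σ for the set of these subgroups. Let E, F ∈ Σ. If some non-identity element of E commutes with some non-identity element of F, or some non-identity element of E normalizes F, then E and F commute elementwise. -/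
theorem result {k : Type u} [Field k] (hk2 : ringChar k ≠ 2) (hk3 : Nat.card k ≠ 3)
    {M : Type u} [AddCommGroup M] [Module k M] [FiniteDimensional k M]
    {G : Subgroup (LinearMap.GeneralLinearGroup k M)} (hG : Cfsg.IsQuadraticPair G)
    {E F : Subgroup (LinearMap.GeneralLinearGroup k M)} (hE : E ∈ Cfsg.quadraticRootSubgroups G) (hF : F ∈ Cfsg.quadraticRootSubgroups G)
    (h : (∃ e ∈ E, e ≠ 1 ∧ ∃ f ∈ F, f ≠ 1 ∧ e * f = f * e) ∨ E ⊓ Subgroup.normalizer (F : Set (LinearMap.GeneralLinearGroup k M)) ≠ ⊥) :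
    ⁅E, F⁆ = ⊥ := by
  have h2' : (2 : k) ≠ 0 := Ring.two_ne_zero hk2
  have hcl : ∀ ρ ∈ Cfsg.minimalQuadraticElements G, Cfsg.Agent.QuadPair.IsRootClass G ρ :=
    fun ρ hρ => ⟨hρ, (Cfsg.Agent.S5059.result hk2 hk3 hG hρ).1⟩
  have hab : ∀ ρ ∈ Cfsg.minimalQuadraticElements G, IsMulCommutative (Cfsg.sameActionSubgroup G ρ) :=
    fun ρ hρ => (Cfsg.Agent.S5059.result hk2 hk3 hG hρ).2.1
  obtain ⟨σ, hσ, hEσ⟩ := hE
  obtain ⟨τ, hτ, hFτ⟩ := hF
  subst hEσ hFτ
  rcases h with ⟨e, he, he1, f, hf, hf1, hef⟩ | h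
  · exact Cfsg.Agent.QuadPair.comm_bot_of_commute h2' hk3 hcl hσ hτ
      (Cfsg.Agent.QuadPair.mem_class_of_mem (hcl σ hσ).2 he he1)
      (Cfsg.Agent.QuadPair.mem_class_of_mem (hcl τ hτ).2 hf hf1)
      (Cfsg.Agent.QuadPair.zc_of_commute hef)
  · obtain ⟨⟨e, he, hn⟩, hne⟩ := Subgroup.ne_bot_iff_exists_ne_one.1 h
    refine Cfsg.Agent.QuadPair.comm_bot_of_normalizes h2' hk3 hcl hσ hτ
      (Cfsg.Agent.QuadPair.mem_class_of_mem (hcl σ hσ).2 he fun h1 => hne (Subtype.ext h1)) hn

end Cfsg.Agent.S5073
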