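import Cfsg.Statements.S5075
import Cfsg.Agent.Lib.McLaughlin.Main
import Mathlib.RingTheory.Finiteness.Cardinality
-- import your own Cfsg.Agent.* helpers here

set_option autoImplicit false
open Cfsg

namespace Cfsg.Agent.S5075

/-- Let p be an odd prime, V a finite-dimensional vector space over the field with p elements, and H a group of linear automorphisms of V generated by transvections (elements of order p fixing a hyperplane pointwise) and having no nontrivial normal p-subgroup. Then for some n ≥ 1 there are a decomposition V = V₀ ⊕ V₁ ⊕ ⋯ ⊕ Vₙ into H-invariant subspaces and a decomposition of H as the internal direct product of normal subgroups H₁, …, Hₙ such that Hⱼ acts trivially on every Vᵢ with i ≠ j, and Hⱼ induces on Vⱼ exactly the special linear group of Vⱼ or exactly the isometry group of a non-degenerate alternating form on Vⱼ. -/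
theorem result {p : ℕ} [Fact p.Prime] (hp : Odd p) {V : Type*} [AddCommGroup V] [Module (ZMod p) V] [Finite V]
    (H : Subgroup (V ≃ₗ[ZMod p] V)) (T : Set (V ≃ₗ[ZMod p] V)) (hHT : H = Subgroup.closure T)
    (hT : ∀ t ∈ T, orderOf t = p ∧
      Module.finrank (ZMod p) ↥(LinearMap.ker ((t : V →ₗ[ZMod p] V) - LinearMap.id)) + 1 =
        Module.finrank (ZMod p) V)
    (hOp : Cfsg.pCore p ↥H = ⊥) :
    ∃ (n : ℕ) (W : Fin (n + 1) → Submodule (ZMod p) V) (K : Fin n → Subgroup (V ≃ₗ[ZMod p] V)),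
      1 ≤ n ∧ DirectSum.IsInternal W ∧
      (∀ h ∈ H, ∀ i, (W i).map (h : V →ₗ[ZMod p] V) = W i) ∧
      (∀ j, K j ≤ H ∧ ((K j).subgroupOf H).Normal) ∧ ⨆ j, K j = H ∧
      (∀ j, K j ⊓ (⨆ j' ∈ {j' : Fin n | j' ≠ j}, K j') = ⊥) ∧
      (∀ j j', j ≠ j' → ∀ a ∈ K j, ∀ b ∈ K j', a * b = b * a) ∧
      (∀ j, ∀ h ∈ K j, ∀ i : Fin (n + 1), i ≠ j.succ → ∀ v ∈ W i, h v = v) ∧
      (∀ j, ∃ ρ : ↥(K j) →* (↥(W j.succ) ≃ₗ[ZMod p] ↥(W j.succ)),
        (∀ (h : ↥(K j)) (v : ↥(W j.succ)), ((ρ h v : ↥(W j.succ)) : V) = (h : V ≃ₗ[ZMod p] V) (v : V)) ∧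
        ((ρ.range : Set (↥(W j.succ) ≃ₗ[ZMod p] ↥(W j.succ))) =
            {f : ↥(W j.succ) ≃ₗ[ZMod p] ↥(W j.succ) | LinearMap.det (f : ↥(W j.succ) →ₗ[ZMod p] ↥(W j.succ)) = 1} ∨
          ∃ B : LinearMap.BilinForm (ZMod p) ↥(W j.succ), B.IsAlt ∧ B.Nondegenerate ∧
            (ρ.range : Set (↥(W j.succ) ≃ₗ[ZMod p] ↥(W j.succ))) = {f : ↥(W j.succ) ≃ₗ[ZMod p] ↥(W j.succ) | ∀ x y, B (f x) (f y) = B x y})) := by
  classical
  haveI : Module.Finite (ZMod p) V := Module.Finite.of_finite
  have h3 : 3 ≤ p := by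
    obtain ⟨k, hk⟩ := hp
    have := (Fact.out : p.Prime).two_le
    omega
  have S : McLaughlin.Setting H := by
    refine ⟨h3, hOp, ?_⟩
    conv_lhs => rw [hHT]
    rw [Subgroup.closure_le]
    intro t ht
    obtain ⟨ho, hr⟩ := hT t ht
    obtain ⟨a, φ, h0, htv⟩ := McLaughlin.exists_tv_of_order ho hr
    exact Subgroup.subset_closure ⟨hHT ▸ Subgroup.subset_closure ht, a, φ, h0, htv⟩
  haveI : Finite (Set V) := inferInstance
  by_cases hne : ∃ a, McLaughlin.IsC H a
  · let 𝒞 : Set (Set V) := McLaughlin.comps (H := H)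
    haveI : Fintype 𝒞 := Fintype.ofFinite _
    let e := Fintype.equivFin 𝒞
    choose r hr hrC using fun i => (e.symm i).2
    have hdisj : ∀ i j, i ≠ j → r j ∉ McLaughlin.Comp H (r i) := by
      intro i j hij hmem
      apply hij
      have : (e.symm i : Set V) = e.symm j := by rw [hrC i, hrC j, S.comp_eq hmem]
      exact e.symm.injective (Subtype.ext this)
    have hcov : ∀ a, McLaughlin.IsC H a → ∃ i, a ∈ McLaughlin.Comp H (r i) := by
      intro a ha
      refine ⟨e ⟨McLaughlin.Comp H a, a, ha, rfl⟩, ?_⟩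
      rw [← hrC, e.symm_apply_apply]
      exact McLaughlin.Setting.mem_self ha
    obtain ⟨W, hW, hint, hinv, hsup, hind, hcomm, hfix⟩ := S.decomposition r hr hdisj hcov
    refine ⟨_, W, fun j => McLaughlin.compGroup H (r j), ?_, hint, hinv,
      fun j => ⟨McLaughlin.compGroup_le _,
        ⟨fun g hg x => S.comp_normal (hr j) x.2 hg⟩⟩, hsup, hind, hcomm, hfix, fun j => ?_⟩
    · obtain ⟨a, ha⟩ := hne
      exact Fintype.card_pos_iff.2 ⟨⟨McLaughlin.Comp H a, a, ha, rfl⟩⟩
    · rw [hW j]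
      refine ⟨S.restrict (r j), fun h v => rfl, ?_⟩
      rcases Nat.lt_or_ge (Module.finrank (ZMod p) (McLaughlin.axes H (r j))) 2 with hlt | hge
      · exact Or.inr (S.range_eq_sp (hr j) (by omega))
      · exact Or.inl (S.range_eq_sl (hr j) hge)
  · have hbot : H = ⊥ := by
      refine le_bot_iff.1 (le_trans S.gen ((Subgroup.closure_le _).2 ?_))
      rintro g ⟨hg, a, φ, h0, t⟩
      by_contra htriv
      refine hne ⟨a, fun ha => htriv ?_, fun hb => htriv ?_⟩
      · exact LinearEquiv.ext fun v => by simp [t v, ha]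
      · have hφ : φ ∈ McLaughlin.axes H a := (McLaughlin.mem_axes H).2 ⟨h0, g, hg, t⟩
        rw [hb, Submodule.mem_bot] at hφ
        exact LinearEquiv.ext fun v => by simp [t v, hφ]
    let W : Fin 2 → Submodule (ZMod p) V := ![⊤, ⊥]
    refine ⟨1, W, fun _ => ⊥, le_rfl, ?_, ?_, fun j => ⟨bot_le, ?_⟩, ?_, fun j => by simp,
      ?_, ?_, fun j => ⟨1, ?_, Or.inl ?_⟩⟩
    · rw [DirectSum.isInternal_submodule_iff_isCompl W (i := 0) (j := 1) (by decide)
        (by ext x; fin_cases x <;> simp)]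
      exact isCompl_top_bot
    · intro h hh i
      rw [hbot, Subgroup.mem_bot] at hh
      subst hh
      exact Submodule.map_id _
    · rw [Subgroup.bot_subgroupOf]; infer_instance
    · rw [hbot]; simp
    · intro j j' hj
      exact absurd (Subsingleton.elim j j') hj
    · intro j h hh i _ v _
      rw [Subgroup.mem_bot] at hh
      subst hh; rfl
    · intro h v
      rw [show (h : V ≃ₗ[ZMod p] V) = 1 from Subgroup.mem_bot.1 h.2]
      rfl
    · haveI : Subsingleton (W j.succ) := by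
        obtain rfl := Subsingleton.elim j 0
        exact (Submodule.subsingleton_iff_eq_bot).2 rfl
      ext f
      constructor
      · intro _
        show LinearMap.det (f : W j.succ →ₗ[ZMod p] W j.succ) = 1
        rw [show (f : W j.succ →ₗ[ZMod p] W j.succ) = LinearMap.id from
          LinearMap.ext fun x => Subsingleton.elim _ _, LinearMap.det_id]
      · intro _
        exact ⟨⟨1, Subgroup.one_mem _⟩, LinearEquiv.ext fun x => Subsingleton.elim _ _⟩

end Cfsg.Agent.S5075
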