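import Cfsg.Statements.S5085
import Cfsg.Agent.Lib.Fusion.Basic

set_option autoImplicit false
open Cfsg

namespace Cfsg.Agent.S5085

open Cfsg.FusionSystem Cfsg.Agent.FusionSys

/-- In any fusion system, a characteristic subgroup of a subgroup that is normal in the system is itself normal in the system. -/
theorem result {Ω : Type*} [Group Ω] {S : Subgroup Ω} (F : Cfsg.FusionSystem S) (Q U : Subgroup Ω) (hQ : F.IsNormal Q) (hUQ : U ≤ Q) (hU : (U.subgroupOf Q).Characteristic) : F.IsNormal U := by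
  refine ⟨hUQ.trans hQ.1, fun P φ hφ => ?_⟩
  obtain ⟨ψ, hψ, h1, h2⟩ := hQ.2 P φ hφ
  have hle : P ⊔ U ≤ P ⊔ Q := sup_le_sup_left hUQ P
  refine ⟨ψ.comp (Subgroup.inclusion hle), restrict_mem F hψ hle, fun x => h1 x, ?_⟩
  obtain ⟨α, -, hα⟩ := exists_restrict_aut F (le_sup_right : Q ≤ P ⊔ Q) hψ h2
  have hc := Subgroup.characteristic_iff_map_eq.1 hU α
  ext y
  rw [mem_map_subgroupOf]
  constructor
  · rintro ⟨x, hx, hxU, rfl⟩
    have hm : α ⟨x, hUQ hxU⟩ ∈ U.subgroupOf Q := hc.le ⟨⟨x, hUQ hxU⟩, hxU, rfl⟩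
    rw [Subgroup.mem_subgroupOf, hα ⟨x, hUQ hxU⟩] at hm
    exact hm
  · intro hy
    obtain ⟨z, hz, hzy⟩ := hc.ge (show (⟨y, hUQ hy⟩ : Q) ∈ U.subgroupOf Q from hy)
    exact ⟨z, Subgroup.mem_sup_right hz, hz, (hα z).symm.trans (congrArg Subtype.val hzy)⟩

end Cfsg.Agent.S5085
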