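import Cfsg.Statements.S5087
import Cfsg.Agent.Lib.Fusion.Normal

set_option autoImplicit false
open Cfsg

namespace Cfsg.Agent.S5087

open Cfsg.Agent.FusionSys

/-- In a saturated fusion system over a finite p-group S, a subgroup Q is normal in the system if and only if every subgroup P that equals S or is essential contains Q and every element of Aut_F(P) maps Q onto itself. -/
theorem result {Ω : Type*} [Group Ω] {S : Subgroup Ω} [Finite S] (p : ℕ) [Fact p.Prime] (hS : IsPGroup p S) (F : Cfsg.FusionSystem S) (hF : F.IsSaturated p) (Q : Subgroup Ω) : F.IsNormal Q ↔ ∀ P : Subgroup Ω, (P = S ∨ F.IsEssential p P) → (Q ≤ P ∧ ∀ α ∈ F.autGroup P, (Q.subgroupOf P).map α.toMonoidHom = Q.subgroupOf P) := by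
  constructor
  · intro h P hP
    have hPS : P ≤ S := hP.elim (fun e => e.le) fun e => e.1.1
    have hQP : Q ≤ P := by
      rcases hP with rfl | hP
      · exact h.1
      · exact isNormal_le_centricRadical hS h hP.1 (essential_radical hS hF hP)
    have := finite_of_le hPS
    refine ⟨hQP, fun α hα => Subgroup.eq_of_le_of_card_ge ?_ (Subgroup.card_map_of_injective α.injective).ge⟩
    rintro _ ⟨y, hy, rfl⟩
    exact stronglyClosed_autGroup_mem (isNormal_stronglyClosed h) hPS hα y hy
  · intro h
    refine isNormal_of_autGroup_preserve hS hF fun P hP => ⟨(h P hP).1, fun α hα y hy => ?_⟩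
    exact ((h P hP).2 α hα).le ⟨y, hy, rfl⟩

end Cfsg.Agent.S5087
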