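import Cfsg.Statements.S5089
import Cfsg.Agent.Lib.Fusion.Normal

set_option autoImplicit false
open Cfsg

namespace Cfsg.Agent.S5089

open Cfsg.Agent.FusionSys

/-- A saturated fusion system over a finite p-group has a nontrivial subgroup that is normal in the system (O_p(F) ≠ 1) if and only if some nontrivial abelian subgroup is strongly closed in the system. -/
theorem result {Ω : Type*} [Group Ω] {S : Subgroup Ω} [Finite S] (p : ℕ) [Fact p.Prime] (hS : IsPGroup p S) (F : Cfsg.FusionSystem S) (hF : F.IsSaturated p) : F.core ≠ ⊥ ↔ ∃ Q : Subgroup Ω, Q ≠ ⊥ ∧ IsMulCommutative Q ∧ F.StronglyClosed Q := by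
  constructor
  · intro hne
    have hcore := core_isNormal F
    have := finite_of_le hcore.1
    have hcn := (hS.to_le hcore.1).isNilpotent
    haveI : Nontrivial F.core := (Subgroup.nontrivial_iff_ne_bot _).2 hne
    refine ⟨(Subgroup.center F.core).map F.core.subtype, ?_, inferInstance, ?_⟩
    · rw [ne_eq, Subgroup.map_eq_bot_iff_of_injective _ F.core.subtype_injective]
      exact ((Subgroup.nontrivial_iff_ne_bot _).1 (hS.to_le hcore.1).center_nontrivial)
    · refine stronglyClosed_char hcore.1 (fun P hP φ hφ => exists_aut_of_isNormal hcore hP hφ) _ fun α x hx => ?_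
      rw [Subgroup.mem_center_iff] at hx ⊢
      intro g
      obtain ⟨g, rfl⟩ := α.surjective g
      rw [← map_mul, ← map_mul, hx g]
  · rintro ⟨Q, hQ1, hab, hsc⟩
    intro hbot
    have hn := isNormal_of_abelian hS hF hsc fun x hx y hy =>
      congrArg Subtype.val (hab.is_comm.comm ⟨x, hx⟩ ⟨y, hy⟩)
    exact hQ1 (le_bot_iff.1 (hbot ▸ isNormal_le_core hn))

end Cfsg.Agent.S5089
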