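import Cfsg.Statements.S5094
import Cfsg.Agent.Lib.BrauerSuzuki.TwoElements
import Cfsg.Agent.Lib.Fusion.Normal
import Cfsg.Agent.Lib.Fusion.Group

set_option autoImplicit false
open Cfsg

namespace Cfsg.Agent.S5094


/-- Glauberman's Z*-Theorem in fusion language: for a finite group G with Sylow 2-subgroup S, the centre of the fusion system of G on S is the set of elements of S whose image in G/O(G) is central, O(G) being the largest normal subgroup of odd order. -/
theorem result {G : Type*} [Group G] [Finite G] (S : Sylow 2 G) : (Cfsg.groupFusionSystem (S : Subgroup G)).center = (S : Subgroup G) ⊓ (Subgroup.center (G ⧸ Cfsg.oddCore G)).comap (QuotientGroup.mk' (Cfsg.oddCore G)) := by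
  haveI : Fact (Nat.Prime 2) := ⟨Nat.prime_two⟩
  haveI hn : (Cfsg.oddCore G).Normal := Cfsg.Agent.FittingCores.pPrimeCore_normal 2
  set F := Cfsg.groupFusionSystem (S : Subgroup G) with hF
  have hsat := FusionSys.groupFusionSystem_saturated S
  have hconj : ∀ x y : G, F.IsConjElt x y ↔
      x ∈ (S : Subgroup G) ∧ y ∈ (S : Subgroup G) ∧ ∃ g : G, y = g * x * g⁻¹ := by
    intro x y
    constructor
    · rintro ⟨φ, ⟨hP, hS, g, hg⟩, rfl⟩
      exact ⟨hP (Subgroup.mem_zpowers x), hS _, g, hg ⟨x, Subgroup.mem_zpowers x⟩⟩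
    · rintro ⟨hx, hy, g, rfl⟩
      refine ⟨(MulAut.conj g).toMonoidHom.comp (Subgroup.zpowers x).subtype,
        ⟨Subgroup.zpowers_le.2 hx, fun z => ?_, g, fun z => rfl⟩, rfl⟩
      obtain ⟨j, hj⟩ := Subgroup.mem_zpowers_iff.1 z.2
      show g * (z : G) * g⁻¹ ∈ (S : Subgroup G)
      rw [← hj, ← conj_zpow]
      exact zpow_mem hy j
  apply le_antisymm
  · intro x hx
    obtain ⟨hle, hfix⟩ := (FusionSys.isCentral_iff S.2 hsat _).1 (FusionSys.center_isCentral F)
    have hxS := hle hx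
    refine ⟨hxS, ?_⟩
    obtain ⟨i, hi⟩ := IsPGroup.iff_orderOf.1 S.2 ⟨x, hxS⟩
    rw [Subgroup.orderOf_mk] at hi
    have h := BrauerSuzuki.zStar_two_element G x ⟨i, hi⟩
      (BrauerSuzuki.fixed_of_sylow hxS fun g hg => hfix x hx _ ((hconj x _).2 ⟨hxS, hg, g, rfl⟩))
    show (x : G ⧸ Cfsg.oddCore G) ∈ Subgroup.center (G ⧸ Cfsg.oddCore G)
    rw [Subgroup.mem_center_iff]
    intro q
    induction q using QuotientGroup.induction_on with
    | _ g =>
      have h1 := h g
      rw [← QuotientGroup.eq_one_iff, QuotientGroup.mk_mul, QuotientGroup.mk_mul,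
        QuotientGroup.mk_mul, QuotientGroup.mk_inv, QuotientGroup.mk_inv] at h1
      exact mul_inv_eq_iff_eq_mul.1 (mul_inv_eq_one.1 h1)
  · refine FusionSys.isCentral_le_center ((FusionSys.isCentral_iff S.2 hsat _).2
      ⟨inf_le_left, fun x hx y hy => ?_⟩)
    obtain ⟨hxS, hyS, g, rfl⟩ := (hconj x y).1 hy
    have hc := Subgroup.mem_center_iff.1 hx.2 (g : G ⧸ Cfsg.oddCore G)
    have h1 : g * x * g⁻¹ * x⁻¹ ∈ Cfsg.oddCore G := by
      rw [← QuotientGroup.eq_one_iff, QuotientGroup.mk_mul, QuotientGroup.mk_mul,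
        QuotientGroup.mk_mul, QuotientGroup.mk_inv, QuotientGroup.mk_inv]
      simp only [QuotientGroup.mk'_apply] at hc
      rw [hc, mul_inv_cancel_right, mul_inv_cancel]
    have h2 : g * x * g⁻¹ * x⁻¹ ∈ (S : Subgroup G) := mul_mem hyS (inv_mem hxS)
    obtain ⟨i, hi⟩ := IsPGroup.iff_orderOf.1 S.2 ⟨_, h2⟩
    rw [Subgroup.orderOf_mk] at hi
    have h3 := Subgroup.orderOf_dvd_natCard _ h1
    rw [hi] at h3
    have h4 : (2 ^ i).Coprime (Nat.card (Cfsg.oddCore G)) :=
      Nat.Coprime.pow_left i (Cfsg.Agent.FittingCores.pPrimeCore_coprime (G := G) 2).symm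
    have h5 := orderOf_eq_one_iff.1 (hi.trans (h4.eq_one_of_dvd h3))
    exact mul_inv_eq_one.1 h5

end Cfsg.Agent.S5094
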