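import Cfsg.Statements.S5102
import Cfsg.Agent.Lib.Fusion.Local

set_option autoImplicit false
open Cfsg

namespace Cfsg.Agent.S5102

open Cfsg.FusionSystem Cfsg.Agent.FusionSys

/-- A normal p-subgroup of a finite group G is normal in the fusion system of G on a Sylow p-subgroup. -/
theorem result {G : Type*} [Group G] [Finite G] (p : ℕ) [Fact p.Prime] (S : Sylow p G) (R : Subgroup G) [R.Normal] (hR : IsPGroup p R) : (Cfsg.groupFusionSystem (S : Subgroup G)).IsNormal R := by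
  have hRS : R ≤ (S : Subgroup G) := hR.le_sylow_of_normal S
  refine ⟨hRS, fun P φ hφ => ?_⟩
  obtain ⟨hP, hφS, g, hg⟩ := id hφ
  have hmem : ∀ x : ↥(P ⊔ R), conjHom (P ⊔ R) g x ∈ (S : Subgroup G) :=
    apply_mem_of_sup _ (fun x => by
      show g * (x : G) * g⁻¹ ∈ (S : Subgroup G)
      rw [← hg x]; exact hφS x) fun x => hRS (Subgroup.Normal.conj_mem inferInstance _ x.2 g)
  refine ⟨conjHom (P ⊔ R) g, ⟨sup_le hP hRS, hmem, g, fun _ => rfl⟩, fun x => (hg x).symm, ?_⟩
  rw [map_subgroupOf_eq_iff _ le_sup_right]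
  refine ⟨fun x => Subgroup.Normal.conj_mem inferInstance _ x.2 g, fun y hy =>
    ⟨⟨g⁻¹ * y * g, by simpa using Subgroup.Normal.conj_mem inferInstance y hy g⁻¹⟩, ?_⟩⟩
  simp [mul_assoc]

end Cfsg.Agent.S5102
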