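import Cfsg.Statements.S5107
import Cfsg.Agent.Lib.Fusion.Normal
import Cfsg.Agent.Lib.Fusion.Group

set_option autoImplicit false
open Cfsg

namespace Cfsg.Agent.S5107

open Cfsg.Agent.FusionSys Cfsg.FusionSystem

/-- If a Sylow p-subgroup S of a finite group G has nilpotency class at most two and its centre is strongly closed in S with respect to G, then every map of the fusion system of G on S is conjugation by an element of N_G(S), and S is the largest subgroup normal in that fusion system. -/
theorem result {G : Type*} [Group G] [Finite G] (p : ℕ) [Fact p.Prime] (S : Sylow p G) (hcl : ⁅(S : Subgroup G), (S : Subgroup G)⁆ ≤ (S : Subgroup G) ⊓ Subgroup.centralizer ((S : Subgroup G) : Set G)) (hZ : Cfsg.IsStronglyClosed ((S : Subgroup G) ⊓ Subgroup.centralizer ((S : Subgroup G) : Set G)) (S : Subgroup G)) : (∀ (P : Subgroup G) (φ : P →* G), φ ∈ (Cfsg.groupFusionSystem (S : Subgroup G)).Hom P → ∃ g ∈ Subgroup.normalizer ((S : Subgroup G) : Set G), ∀ x : P, φ x = g * (x : G) * g⁻¹) ∧ (Cfsg.groupFusionSystem (S : Subgroup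 G)).core = S := by
  have hS : IsPGroup p (S : Subgroup G) := S.isPGroup'
  have hsat := groupFusionSystem_saturated S
  have hZ' : (groupFusionSystem (S : Subgroup G)).StronglyClosed
      ((S : Subgroup G) ⊓ Subgroup.centralizer ((S : Subgroup G) : Set G)) := by
    refine ⟨inf_le_left, fun R hR φ hφ x => ?_⟩
    obtain ⟨-, hφS, g, hg⟩ := hφ
    rw [hg x]
    exact hZ.2 _ (hR x.2) g (hg x ▸ hφS x)
  have hN : (groupFusionSystem (S : Subgroup G)).IsNormal S := by
    refine isNormal_of_chain hS hsat (stronglyClosed_self _)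
      (C := ![⊥, (S : Subgroup G) ⊓ Subgroup.centralizer ((S : Subgroup G) : Set G), S]) rfl rfl ?_ ?_ ?_
    · intro a b hab
      fin_cases a <;> fin_cases b <;> first | exact le_rfl | exact bot_le | exact inf_le_left |
        (exact absurd hab (by simp [Fin.le_def]))
    · intro i
      fin_cases i
      · show ⁅(S : Subgroup G) ⊓ Subgroup.centralizer ((S : Subgroup G) : Set G), (S : Subgroup G)⁆ ≤ ⊥
        rw [le_bot_iff, Subgroup.commutator_eq_bot_iff_le_centralizer]
        exact inf_le_right
      · exact hcl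
    · intro i
      fin_cases i
      · exact stronglyClosed_weaklyClosed (stronglyClosed_bot _)
      · exact stronglyClosed_weaklyClosed hZ'
  refine ⟨fun P φ hφ => ?_, le_antisymm (sSup_le fun Q hQ => hQ.1) (isNormal_le_core hN)⟩
  obtain ⟨ψ, hψ, h1, h2⟩ := hN.2 P φ hφ
  obtain ⟨-, hψS, g, hg⟩ := hψ
  refine ⟨g, ?_, fun x => ?_⟩
  · rw [Subgroup.mem_normalizer_iff]
    intro y
    refine ⟨fun hy => ?_, fun hy => ?_⟩
    · have := hψS ⟨y, Subgroup.mem_sup_right hy⟩
      rwa [hg] at this
    · rw [← h2] at hy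
      obtain ⟨z, hz, hzy⟩ := hy
      rw [hg] at hzy
      have : (z : G) = y := mul_left_cancel (mul_right_cancel hzy)
      exact this ▸ Subgroup.mem_subgroupOf.1 hz
  · rw [← h1 x, hg]
    rfl

end Cfsg.Agent.S5107
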