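import Cfsg.Statements.S5109
import Cfsg.Agent.S2759
import Cfsg.Agent.Lib.Fusion.FunctorControl
import Cfsg.Agent.Lib.S3Free.Closure.General

set_option autoImplicit false
open Cfsg

namespace Cfsg.Agent.S5109

universe u

/-- If no automorphism group involves `S₃`, then no model involves `S₄`. -/
theorem sectionFree_sfour {Ω : Type u} [Group Ω] {S : Subgroup Ω} [Finite S] (F : Cfsg.FusionSystem S)
    (h3 : ∀ U : Subgroup Ω, U ≤ S → ¬ Cfsg.Involves (Equiv.Perm (Fin 3)) ↥(F.autGroup U)) :
    F.IsSectionFree 2 (Equiv.Perm (Fin 4)) := by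
  intro Q _ _ N hN L _ ι hL hinv
  haveI : Fact (Nat.Prime 2) := ⟨Nat.prime_two⟩
  haveI := hL.1
  obtain ⟨T, hT, hS3⟩ := Cfsg.Agent.S2759.result.1 hinv
  obtain ⟨hi, hr⟩ := hL.2.1
  obtain ⟨P, hP⟩ := hL.2.2.1
  obtain ⟨R, hR⟩ := hT.exists_le_sylow
  obtain ⟨g, hg⟩ := MulAction.exists_smul_eq L R P
  have hgT : ∀ t ∈ T, g * t * g⁻¹ ∈ ι.range := fun t ht => by
    rw [← hP, ← hg, Sylow.coe_subgroup_smul, Subgroup.mem_pointwise_smul_iff_inv_smul_mem]
    simpa [MulAut.smul_def, mul_assoc] using hR ht
  -- the copy of `T` in `S`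
  set c : L →* L := (MulAut.conj g).toMonoidHom with hc
  set U : Subgroup Ω := FusionSys.preim ι (T.map c) with hU
  set UT : Subgroup (FusionSystem.normalizerIn S Q) := (T.map c).comap ι with hUT
  have hUmap : UT.map ι = T.map c := by
    rw [hUT, Subgroup.map_comap_eq, inf_eq_right]
    rintro _ ⟨t, ht, rfl⟩
    exact hgT t ht
  have hUle : U ≤ FusionSystem.normalizerIn S Q := FusionSys.preim_le _
  let e : ↥T ≃* ↥U := ((T.equivMapOfInjective c (MulAut.conj g).injective).trans
    ((MulEquiv.subgroupCongr hUmap.symm).trans (UT.equivMapOfInjective ι hi).symm)).trans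
    (UT.equivMapOfInjective (FusionSystem.normalizerIn S Q).subtype Subtype.val_injective)
  have he : ∀ t : T, ι ⟨e t, hUle (e t).2⟩ = g * t * g⁻¹ := fun t => by
    set z := MulEquiv.subgroupCongr hUmap.symm (T.equivMapOfInjective c (MulAut.conj g).injective t) with hz
    have h : ι ((UT.equivMapOfInjective ι hi).symm z) = (z : L) := by
      rw [← Subgroup.coe_equivMapOfInjective_apply (hf := hi), MulEquiv.apply_symm_apply]
    exact h
  let φ : ↥(Subgroup.normalizer (T : Set L)) →* MulAut ↥U :=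
    (MulAut.congr e).toMonoidHom.comp T.normalizerMonoidHom
  have hker : φ.ker = (Subgroup.centralizer (T : Set L)).subgroupOf (Subgroup.normalizer (T : Set L)) := by
    rw [← T.normalizerMonoidHom_ker]
    exact MonoidHom.ker_mulEquiv_comp _ (MulAut.congr e)
  have hmem : ∀ n, φ n ∈ F.autGroup U := fun n => by
    refine Subgroup.subset_closure ?_
    have h : U.subtype.comp (φ n).toMonoidHom ∈ N.Hom U := by
      refine (hr U hUle _ fun x => hUle (φ n x).2).2 ⟨g * n * g⁻¹, fun x => ?_⟩
      obtain ⟨t, rfl⟩ := e.surjective x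
      have hx : φ n (e t) = e (T.normalizerMonoidHom n t) := by simp [φ, MulAut.congr]
      have h1 := he (T.normalizerMonoidHom n t)
      rw [← hx] at h1
      refine h1.trans ?_
      rw [he]
      show g * ((n : L) * t * (n : L)⁻¹) * g⁻¹ = _
      group
    rw [hN] at h
    exact h.1
  refine h3 U (hUle.trans inf_le_left) ?_
  have hq : Cfsg.Involves (Equiv.Perm (Fin 3)) ↥φ.range :=
    FusionSys.involves_of_injective
      ((QuotientGroup.quotientKerEquivRange φ).toMonoidHom.comp (QuotientGroup.quotientMulEquivOfEq hker.symm).toMonoidHom)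
      ((QuotientGroup.quotientKerEquivRange φ).injective.comp (QuotientGroup.quotientMulEquivOfEq hker.symm).injective) hS3
  have hle : φ.range ≤ F.autGroup U := by rintro _ ⟨n, rfl⟩; exact hmem n
  exact FusionSys.involves_of_injective (Subgroup.inclusion hle) (Subgroup.inclusion_injective _) hq

/-- A saturated fusion system over a finite 2-group S in which no automorphism group Aut_F(U), U ≤ S, has a section isomorphic to the symmetric group of degree 3 is constrained. -/
theorem result {Ω : Type*} [Group Ω] {S : Subgroup Ω} [Finite S] (hS : IsPGroup 2 S) (F : Cfsg.FusionSystem S) (hF : F.IsSaturated 2) (h3 : ∀ U : Subgroup Ω, U ≤ S → ¬ Cfsg.Involves (Equiv.Perm (Fin 3)) ↥(F.autGroup U)) : F.IsConstrained 2 := by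
  haveI : Fact (Nat.Prime 2) := ⟨Nat.prime_two⟩
  exact FusionSys.constrained_of_sectionFree (W := fun Q _ => SFW.wGen Q)
    (fun Q _ _ hQ _ => SFW.wGen_ne_bot hQ) (fun Q R _ _ _ _ φ => SFW.wGen_map φ)
    (fun L _ _ P hc hn => SFW.wOf_normal hn hc P) hS hF (sectionFree_sfour F h3)

end Cfsg.Agent.S5109
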