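import Cfsg.Statements.S5112
import Cfsg.Agent.Lib.Fusion.Simple
import Cfsg.Agent.S3116

set_option autoImplicit false
open Cfsg

namespace Cfsg.Agent.S5112

open Cfsg.Agent.FusionSys

theorem aut_dihedral (m : ℕ) (hm : 3 ≤ m) : IsPGroup 2 (MulAut (DihedralGroup (2 ^ m))) := by
  have h8 : 8 ≤ 2 ^ m := le_trans (by norm_num) (Nat.pow_le_pow_right two_pos hm)
  haveI : NeZero (2 ^ m) := ⟨by omega⟩
  refine S3116.aut_two_group m (by omega) (DihedralGroup.r 1) (DihedralGroup.sr 0)
    DihedralGroup.orderOf_r_one ?_ ?_ ?_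
  · have h1 := (Subgroup.zpowers (DihedralGroup.r 1 : DihedralGroup (2 ^ m))).index_mul_card
    rw [Nat.card_zpowers, DihedralGroup.orderOf_r_one, DihedralGroup.nat_card] at h1
    exact Nat.eq_of_mul_eq_mul_right (by omega) h1
  · rintro ⟨k, hk⟩
    simp at hk
  · rintro (i | i) hz
    · exact ⟨(i.val : ℤ), by simp⟩
    · rw [DihedralGroup.orderOf_sr] at hz; omega

theorem aut_quaternion (m : ℕ) (hm : 2 ≤ m) : IsPGroup 2 (MulAut (QuaternionGroup (2 ^ m))) := by
  have h8 : 4 ≤ 2 ^ m := le_trans (by norm_num) (Nat.pow_le_pow_right two_pos hm)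
  haveI : NeZero (2 ^ m) := ⟨by omega⟩
  have ho : orderOf (QuaternionGroup.a 1 : QuaternionGroup (2 ^ m)) = 2 ^ (m + 1) := by
    rw [QuaternionGroup.orderOf_a_one, pow_succ']
  refine S3116.aut_two_group (m + 1) (by omega) (QuaternionGroup.a 1) (QuaternionGroup.xa 0) ho ?_ ?_ ?_
  · have h1 := (Subgroup.zpowers (QuaternionGroup.a 1 : QuaternionGroup (2 ^ m))).index_mul_card
    rw [Nat.card_zpowers, ho, Nat.card_eq_fintype_card, QuaternionGroup.card] at h1
    have : 4 * 2 ^ m = 2 * 2 ^ (m + 1) := by rw [pow_succ']; ring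
    exact Nat.eq_of_mul_eq_mul_right (Nat.two_pow_pos _) (h1.trans this)
  · intro hk
    obtain ⟨k, hk⟩ := (isOfFinOrder_of_finite _).mem_powers_iff_mem_zpowers.2 hk
    simp at hk
  · rintro (i | i) hz
    · exact ⟨(i.val : ℤ), by simp only; rw [zpow_natCast, QuaternionGroup.a_one_pow, ZMod.natCast_zmod_val]⟩
    · rw [QuaternionGroup.orderOf_xa, pow_succ'] at hz; omega


/-- If S is a dihedral or generalized quaternion 2-group of order at least 16, then in every saturated fusion system over S (at the prime 2) the automorphism group Aut_F(S) consists of the inner automorphisms of S. -/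
theorem result {Ω : Type*} [Group Ω] {S : Subgroup Ω} [Finite S] (n : ℕ) (hn : 4 ≤ n) (hshape : Nonempty (S ≃* DihedralGroup (2 ^ (n - 1))) ∨ Nonempty (S ≃* QuaternionGroup (2 ^ (n - 2)))) (F : Cfsg.FusionSystem S) (hF : F.IsSaturated 2) : F.autGroup S = Cfsg.Inn S := by
  have hA : IsPGroup 2 (MulAut S) := by
    rcases hshape with ⟨⟨e⟩⟩ | ⟨⟨e⟩⟩
    · exact (aut_dihedral (n - 1) (by omega)).of_equiv (MulAut.congr e).symm
    · exact (aut_quaternion (n - 2) (by omega)).of_equiv (MulAut.congr e).symm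
  haveI : Fact (Nat.Prime 2) := ⟨Nat.prime_two⟩
  have hS : IsPGroup 2 S := by
    rcases hshape with ⟨⟨e⟩⟩ | ⟨⟨e⟩⟩
    · haveI : NeZero (2 ^ (n - 1)) := ⟨by positivity⟩
      exact IsPGroup.of_card (n := n) (by
        rw [Nat.card_congr e.toEquiv, DihedralGroup.nat_card, ← pow_succ']; congr 1; omega)
    · haveI : NeZero (2 ^ (n - 2)) := ⟨by positivity⟩
      exact IsPGroup.of_card (n := n) (by
        rw [Nat.card_congr e.toEquiv, Nat.card_eq_fintype_card, QuaternionGroup.card,
          show (4 : ℕ) = 2 ^ 2 from rfl, ← pow_add]; congr 1; omega)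
  exact autGroup_top_eq_inn hS hF (hA.to_subgroup _)

end Cfsg.Agent.S5112
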