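import Cfsg.Statements.S5114
import Cfsg.Agent.Lib.Fusion.Alperin
open Cfsg.FusionSystem Cfsg.Agent.FusionSys

set_option autoImplicit false
open Cfsg

namespace Cfsg.Agent.S5114

variable {Ω : Type*} [Group Ω] {S : Subgroup Ω} {p : ℕ}

/-- Maps reached from inclusions by left composition with automorphisms of `S` and with automorphisms of
`p`-power order of centric subgroups. -/
inductive Reach (F : FusionSystem S) (p : ℕ) : (P : Subgroup Ω) → (P →* Ω) → Prop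
  | incl {P : Subgroup Ω} {φ : P →* Ω} (hP : P ≤ S) (h : ∀ x, φ x = x) : Reach F p P φ
  | top {P : Subgroup Ω} {φ φ' : P →* Ω} (a : MulAut S) (ha : a ∈ F.autGroup S) (hφ : Reach F p P φ)
      (hm : ∀ x, φ x ∈ S) (h : ∀ x, φ' x = ((a ⟨φ x, hm x⟩ : S) : Ω)) : Reach F p P φ'
  | gen {P R : Subgroup Ω} {φ φ' : P →* Ω} (hR : F.IsCentric R) (a : F.autGroup R) (k : ℕ)
      (ha : orderOf a = p ^ k) (hφ : Reach F p P φ) (hm : ∀ x, φ x ∈ R)
      (h : ∀ x, φ' x = (((a : MulAut R) ⟨φ x, hm x⟩ : R) : Ω)) : Reach F p P φ'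

theorem Reach.mem {F : FusionSystem S} {P : Subgroup Ω} {φ : P →* Ω} (h : Reach F p P φ) : φ ∈ F.Hom P := by
  induction h with
  | incl hP h => exact hom_congr F (subtype_mem F hP) h
  | top a ha _ hm h ih =>
    refine hom_congr F (F.comp_mem ih ((mem_autGroup_iff F le_rfl a).1 ha) hm) fun x => ?_
    exact h x
  | gen hR a k _ _ hm h ih =>
    refine hom_congr F (F.comp_mem ih ((mem_autGroup_iff F hR.1 (a : MulAut _)).1 a.2) hm) fun x => ?_
    exact h x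

theorem Reach.comp {F : FusionSystem S} {Q : Subgroup Ω} {ψ : Q →* Ω} (hψ : Reach F p Q ψ) :
    ∀ {P : Subgroup Ω} {φ : P →* Ω}, Reach F p P φ → ∀ h : ∀ x, φ x ∈ Q, Reach F p P (ψ.comp (φ.codRestrict Q h)) := by
  induction hψ with
  | incl hP h =>
    intro P φ hφ hm
    have he : ∀ x : P, φ x ∈ S := fun x => hom_apply_mem F hφ.mem x
    exact Reach.top 1 (Subgroup.one_mem _) hφ he fun x => (h _).trans rfl
  | @top ψ ψ' a ha _ hm h ih =>
    intro P φ hφ hQ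
    exact Reach.top a ha (ih hφ hQ) (fun x => hm _) fun x => h _
  | @gen R ψ ψ' hR a k ha _ hm h ih =>
    intro P φ hφ hQ
    exact Reach.gen hR a k ha (ih hφ hQ) (fun x => hm _) fun x => h _

theorem Reach.congr {F : FusionSystem S} {P : Subgroup Ω} {φ φ' : P →* Ω} (h : Reach F p P φ)
    (he : ∀ x, φ' x = φ x) : Reach F p P φ' :=
  (show φ' = φ from MonoidHom.ext he) ▸ h

theorem Reach.inv {F : FusionSystem S} {P : Subgroup Ω} {φ : P →* Ω} (h : Reach F p P φ) :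
    ∃ ψ : φ.range →* Ω, Reach F p φ.range ψ ∧ ∀ x : P, ψ ⟨φ x, ⟨x, rfl⟩⟩ = (x : Ω) := by
  induction h with
  | @incl φ hP h =>
    have hr : φ.range ≤ S := by rintro _ ⟨x, rfl⟩; rw [h]; exact hP x.2
    exact ⟨φ.range.subtype, .incl hr fun _ => rfl, fun x => h x⟩
  | @top φ φ' a ha hφ hm h ih =>
    obtain ⟨ψ, hψ, hψe⟩ := ih
    have hr : φ'.range ≤ S := by rintro _ ⟨x, rfl⟩; rw [h]; exact (a _).2
    let χ : φ'.range →* Ω := S.subtype.comp ((a⁻¹ : MulAut S).toMonoidHom.comp (Subgroup.inclusion hr))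
    have hχ : Reach F p φ'.range χ :=
      .top a⁻¹ (Subgroup.inv_mem _ ha) (.incl (φ := φ'.range.subtype) hr fun _ => rfl) (fun x => hr x.2) fun _ => rfl
    have hχe : ∀ x : P, χ ⟨φ' x, ⟨x, rfl⟩⟩ = φ x := fun x => by
      show ((a⁻¹ ⟨φ' x, _⟩ : S) : Ω) = φ x
      rw [show (⟨φ' x, hr ⟨x, rfl⟩⟩ : S) = a ⟨φ x, hm x⟩ from Subtype.ext (h x), MulAut.inv_apply_self]
    have hmem : ∀ y, χ y ∈ φ.range := by rintro ⟨_, x, rfl⟩; exact ⟨x, (hχe x).symm⟩
    refine ⟨ψ.comp (χ.codRestrict _ hmem), Reach.comp hψ hχ hmem, fun x => ?_⟩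
    exact (congrArg ψ (Subtype.ext (hχe x))).trans (hψe x)
  | @gen R φ φ' hR a k ha hφ hm h ih =>
    obtain ⟨ψ, hψ, hψe⟩ := ih
    have hr : φ'.range ≤ R := by rintro _ ⟨x, rfl⟩; rw [h]; exact ((a : MulAut R) _).2
    let χ : φ'.range →* Ω := R.subtype.comp ((a⁻¹ : MulAut R).toMonoidHom.comp (Subgroup.inclusion hr))
    have hχ : Reach F p φ'.range χ :=
      .gen hR a⁻¹ k (by rw [orderOf_inv, ha]) (.incl (φ := φ'.range.subtype) (hr.trans hR.1) fun _ => rfl)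
        (fun x => hr x.2) fun _ => rfl
    have hχe : ∀ x : P, χ ⟨φ' x, ⟨x, rfl⟩⟩ = φ x := fun x => by
      show (((a : MulAut R)⁻¹ ⟨φ' x, _⟩ : R) : Ω) = φ x
      rw [show (⟨φ' x, hr ⟨x, rfl⟩⟩ : R) = (a : MulAut R) ⟨φ x, hm x⟩ from Subtype.ext (h x), MulAut.inv_apply_self]
    have hmem : ∀ y, χ y ∈ φ.range := by rintro ⟨_, x, rfl⟩; exact ⟨x, (hχe x).symm⟩
    refine ⟨ψ.comp (χ.codRestrict _ hmem), Reach.comp hψ hχ hmem, fun x => ?_⟩
    exact (congrArg ψ (Subtype.ext (hχe x))).trans (hψe x)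

/-- The system of reached maps. -/
def reachSystem (F : FusionSystem S) (p : ℕ) : FusionSystem S where
  Hom P := {φ | Reach F p P φ}
  le_of_mem h := F.le_of_mem h.mem
  injective_of_mem h := F.injective_of_mem h.mem
  conj_mem := fun {P} {g} hP hg => Reach.top (MulAut.conj (⟨g, hg⟩ : S))
    (inn_le_autGroup F le_rfl ⟨⟨g, hg⟩, rfl⟩) (.incl (φ := P.subtype) hP fun _ => rfl) (fun x => hP x.2) fun _ => rfl
  comp_mem hφ hψ h := Reach.comp hψ hφ h
  inv_mem h := Reach.inv h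

/-- Alperin's induction, the larger subgroups being available. -/
theorem alperin_ih [hp : Fact p.Prime] [Finite S] (hS : IsPGroup p S) {F : FusionSystem S} (hF : F.IsSaturated p)
    {E : FusionSystem S} (hE : ∀ P : Subgroup Ω, (P = S ∨ F.IsEssential p P) →
      (∀ (N : Subgroup Ω) (ψ : N →* Ω), P < N → ψ ∈ F.Hom N → ψ ∈ E.Hom N) →
      F.autGroup P ≤ E.autGroup P) : F ≤ E := by
  intro P φ hφ
  induction hk : Nat.card S - Nat.card P using Nat.strong_induction_on generalizing P with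
  | _ k ih =>
  have hPS := hom_le F hφ
  have := finite_of_le hPS
  rcases eq_or_lt_of_le hPS with rfl | hlt
  · have hr : φ.range = P := Subgroup.eq_of_le_of_card_ge (range_le F hφ) (isConj_card ⟨φ, hφ, rfl⟩).le
    obtain ⟨α, hα, hαe⟩ := exists_autGroup_of_range F hφ hr
    exact hom_congr E ((equivHom_autGroup E le_rfl).1 (hE P (Or.inl rfl)
      (fun N ψ hPN hψ => absurd (hom_le F hψ) (not_le_of_gt hPN)) hα)) fun x => (hαe x).symm
  obtain ⟨Q, hPQ, hQ⟩ := exists_fullyNormalized F hPS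
  have hcard : ∀ (A N : Subgroup Ω), N ≤ S → A < N → Nat.card S - Nat.card N < Nat.card S - Nat.card A := by
    intro A N hN hAN
    have := finite_of_le hN
    have h1 : Nat.card A < Nat.card N := lt_of_le_of_ne (Subgroup.card_le_of_le hAN.le)
      fun he => hAN.ne (Subgroup.eq_of_le_of_card_ge hAN.le he.ge)
    have h2 : Nat.card N ≤ Nat.card S := Subgroup.card_le_of_le hN
    omega
  have step : ∀ (A : Subgroup Ω), F.IsConj A Q → Nat.card A = Nat.card P →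
      ∃ e : A ≃* Q, equivHom e ∈ E.Hom A ∧ equivHom e ∈ F.Hom A := by
    intro A hA hAc
    have hAS := isConj_le_left hA
    have := finite_of_le hAS
    have hAlt : A < S := lt_of_le_of_ne hAS fun he => hlt.ne
      (Subgroup.eq_of_le_of_card_ge hPS (by rw [← hAc, he]))
    obtain ⟨ψ, hψ, -, hψA⟩ := exists_normalizer_map_fullyNormalized hS hF hQ hA
    have h1 := ih _ (hk ▸ hAc ▸ hcard A _ (normalizerIn_le S A) (lt_normalizerIn hS hAlt)) _ hψ rfl
    exact ⟨mapEquiv F (restrict_mem F hψ (le_normalizerIn hAS)) (extend_restrict_range _ hψA),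
      hom_congr E (restrict_mem E h1 (le_normalizerIn hAS)) (fun _ => rfl), equivHom_mapEquiv F _ _⟩
  obtain ⟨e₁, he₁E, he₁⟩ := step P hPQ rfl
  obtain ⟨e₂, he₂E, he₂⟩ := step φ.range (isConj_trans (isConj_symm ⟨φ, hφ, rfl⟩) hPQ)
    (isConj_card ⟨φ, hφ, rfl⟩).symm
  set f := mapEquiv F hφ rfl
  have hsymm : ∀ (D : FusionSystem S) {A B : Subgroup Ω} (e : A ≃* B), equivHom e ∈ D.Hom A →
      equivHom e.symm ∈ D.Hom B := by
    intro D A B e he
    have := equivHom_mapEquiv_symm D he (equivHom_range e)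
    have heq : mapEquiv D he (equivHom_range e) = e := MulEquiv.ext fun x => Subtype.ext rfl
    rwa [heq] at this
  set α : MulAut Q := e₁.symm.trans (f.trans e₂)
  have hα : α ∈ F.autGroup Q := (equivHom_autGroup F hQ.1).2
    (equivHom_trans F (hsymm F e₁ he₁) (equivHom_trans F (equivHom_mapEquiv F hφ rfl) he₂))
  have hbig : ∀ (N : Subgroup Ω) (ψ : N →* Ω), Q < N → ψ ∈ F.Hom N → ψ ∈ E.Hom N := fun N ψ hQN hψ =>
    ih _ (hk ▸ (isConj_card hPQ).symm ▸ hcard Q N (hom_le F hψ) hQN) _ hψ rfl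
  have hαE : α ∈ E.autGroup Q := by
    by_cases hess : F.IsEssential p Q
    · exact hE Q (Or.inr hess) hbig hα
    have hQlt : Q < S := lt_of_le_of_ne hQ.1 fun he => hlt.ne
      (Subgroup.eq_of_le_of_card_ge hPS (by rw [isConj_card hPQ, he]))
    have heq : extendableGroup F Q = F.autGroup Q := by
      rcases fullyNormalized_dichotomy hS hF hQlt hQ with h | h
      · exact h.2
      · exact absurd h.1 hess
    refine (Subgroup.closure_le _).2 ?_ (heq.ge hα)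
    rintro β ⟨N, hQN, ψ, hψ, he⟩
    exact Subgroup.subset_closure (hom_congr E (restrict_mem E (hbig N ψ hQN hψ) hQN.le) fun x => (he x).symm)
  have := equivHom_trans E he₁E (equivHom_trans E ((equivHom_autGroup E hQ.1).1 hαE) (hsymm E e₂ he₂E))
  refine hom_congr E this fun x => ?_
  show φ x = ((e₂.symm (e₂ (f (e₁.symm (e₁ x)))) : _) : Ω)
  rw [e₂.symm_apply_apply, e₁.symm_apply_apply]
  rfl

/-- Every map of a saturated system is reached. -/
theorem le_reach [hp : Fact p.Prime] [Finite S] (hS : IsPGroup p S) {F : FusionSystem S} (hF : F.IsSaturated p) :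
    F ≤ reachSystem F p := by
  refine alperin_ih hS hF ?_
  intro P hP hbig a ha
  have hPS : P ≤ S := hP.elim (fun h => h.le) fun h => h.1.1
  rw [mem_autGroup_iff _ hPS]
  rcases hP with rfl | hess
  · exact Reach.top a ha (.incl (φ := P.subtype) le_rfl fun _ => rfl) (fun x => x.2) fun _ => rfl
  have := finite_of_le hPS
  have hlt := essential_lt hS hF hess
  obtain ⟨R, hR⟩ := (fullyNormalized_imp hS hF hess.2.1).2.2
  let K : Subgroup (F.autGroup P) := Subgroup.closure {α | ∃ k : ℕ, orderOf α = p ^ k}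
  haveI : K.Normal := ⟨fun n hn g => by
    have hle : K ≤ K.comap (MulAut.conj g).toMonoidHom := (Subgroup.closure_le _).2 fun α ⟨k, hk⟩ =>
      Subgroup.subset_closure ⟨k, (MulEquiv.orderOf_eq (MulAut.conj g) α).trans hk⟩
    exact hle hn⟩
  have hRK : (R : Subgroup (F.autGroup P)) ≤ K := fun x hx => by
    obtain ⟨k, hk⟩ := IsPGroup.iff_orderOf.1 R.2 ⟨x, hx⟩
    exact Subgroup.subset_closure ⟨k, by rwa [Subgroup.orderOf_mk] at hk⟩
  let A₀ : Subgroup (F.autGroup P) := ((reachSystem F p).autGroup P).comap (F.autGroup P).subtype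
  have hK : K ≤ A₀ := (Subgroup.closure_le _).2 fun α ⟨k, hk⟩ =>
    (mem_autGroup_iff _ hPS _).2 (Reach.gen hess.1 α k hk (.incl (φ := P.subtype) hPS fun _ => rfl) (fun x => x.2)
      fun _ => rfl)
  have hN : Subgroup.normalizer ((R : Subgroup (F.autGroup P)) : Set (F.autGroup P)) ≤ A₀ := by
    intro γ hγ
    obtain ⟨ψ, hψ, hag⟩ := (fullyNormalized_receptive hS hF hess.2.1).2 P _
      ((equivHom_autGroup F hPS).1 γ.2) (equivHom_range (γ : MulAut P))
    have hext : normalizerIn S P ≤ extender S P (equivHom (γ : MulAut P)) := by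
      intro g hg
      obtain ⟨c, hc, hce⟩ := exists_conjAut (P := P) hg.1 hg.2
      have hcR : (⟨c, autInducedBy_le_autGroup F hPS hc⟩ : F.autGroup P) ∈ (R : Subgroup (F.autGroup P)) := by
        rw [hR]; exact Subgroup.mem_subgroupOf.2 hc
      have h1 := (Subgroup.mem_normalizer_iff.1 hγ _).1 hcR
      rw [hR, Subgroup.mem_subgroupOf] at h1
      obtain ⟨w, hw, hwe⟩ := (mem_autInducedBy_iff _).1 h1
      refine Subgroup.subset_closure ⟨hg.1, hg.2, w, hw, fun x hx => ?_⟩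
      show (((γ : MulAut P) ⟨g * x * g⁻¹, hx⟩ : P) : Ω) = w * (((γ : MulAut P) x : P) : Ω) * w⁻¹
      rw [show (⟨g * x * g⁻¹, hx⟩ : P) = c x from Subtype.ext (hce x).symm, ← hwe ((γ : MulAut P) x)]
      show (((γ : MulAut P) (c x) : P) : Ω) =
        (((γ : MulAut P) * c * (γ : MulAut P)⁻¹) ((γ : MulAut P) x) : P)
      rw [MulAut.mul_apply, MulAut.mul_apply, MulAut.inv_apply_self]
    have hPN : P < extender S P (equivHom (γ : MulAut P)) := lt_of_lt_of_le (lt_normalizerIn hS hlt) hext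
    have hψR := hbig _ ψ hPN hψ
    exact (mem_autGroup_iff _ hPS _).2 (hom_congr (reachSystem F p) (restrict_mem (reachSystem F p) hψR hPN.le)
      fun x => (hag x x.2 (hPN.le x.2)).symm)
  have htop : Subgroup.normalizer ((R : Subgroup (F.autGroup P)) : Set (F.autGroup P)) ⊔ K = ⊤ :=
    Sylow.normalizer_sup_eq_top' R hRK
  exact (mem_autGroup_iff _ hPS a).1 (sup_le hN hK (htop.ge (Subgroup.mem_top (⟨a, ha⟩ : F.autGroup P))))


/-- Let F be a saturated fusion system over a finite p-group S and E a fusion system over S contained in F. If Aut_E(P) contains the subgroup of Aut_F(P) generated by its elements of p-power order for every subgroup P that is centric in F, then the same holds for every subgroup of S (E has index prime to p in F), every map of F with source a subgroup P of S is an element of Aut_F(S) composed with a map of E, and a subgroup is centric in E exactly when it is centric in F. -/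
theorem result {Ω : Type*} [Group Ω] {S : Subgroup Ω} [Finite S] (p : ℕ) [Fact p.Prime] (hS : IsPGroup p S) (F : Cfsg.FusionSystem S) (hF : F.IsSaturated p) (E : Cfsg.FusionSystem S) (hEF : E.IsSubsystemOf F) (h : ∀ P : Subgroup Ω, F.IsCentric P → (Subgroup.closure {α : ↥(F.autGroup P) | ∃ k : ℕ, orderOf α = p ^ k}).map (F.autGroup P).subtype ≤ E.autGroup P) : E.HasPrimeToPIndexIn F p ∧ (∀ (P : Subgroup Ω) (φ : P →* Ω), φ ∈ F.Hom P → ∃ α ∈ F.autGroup S, ∃ φ₀ ∈ E.Hom P, ∀ (x : P) (hx : φ₀ x ∈ S), φ x = ((α ⟨φ₀ x, hx⟩ : S) : Ω)) ∧ ∀ P : Subgroup Ω, E.IsCentric P ↔ F.IsCentric P := by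
  classical
  have hgen : ∀ (P : Subgroup Ω) (φ : P →* Ω), Reach F p P φ →
      ∃ α ∈ F.autGroup S, ∃ φ₀ ∈ E.Hom P, ∀ (x : P) (hx : φ₀ x ∈ S), φ x = ((α ⟨φ₀ x, hx⟩ : S) : Ω) := by
    intro P φ hφ
    induction hφ with
    | incl hP h => exact ⟨1, Subgroup.one_mem _, _, subtype_mem E hP, fun x _ => h x⟩
    | @top φ φ' a ha _ hm h ih =>
      obtain ⟨α, hα, φ₀, hφ₀, he⟩ := ih
      refine ⟨a * α, Subgroup.mul_mem _ ha hα, φ₀, hφ₀, fun x hx => ?_⟩
      rw [h]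
      exact congrArg (fun z : S => ((a z : S) : Ω)) (Subtype.ext (he x hx))
    | @gen R φ φ' hR a k ha _ hm hφ' ih =>
      obtain ⟨α, hα, φ₀, hφ₀, he⟩ := ih
      let ι : R →* Ω := S.subtype.comp ((α⁻¹ : MulAut S).toMonoidHom.comp (Subgroup.inclusion hR.1))
      have hι : ι ∈ F.Hom R :=
        restrict_mem F ((mem_autGroup_iff F le_rfl _).1 (Subgroup.inv_mem _ hα)) hR.1
      let e := mapEquiv F hι rfl
      have hR' : F.IsCentric ι.range := isCentric_isConj hR ⟨ι, hι, rfl⟩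
      have hmemF : (MulAut.congr e) (a : MulAut R) ∈ F.autGroup ι.range :=
        congr_mem_autGroup F e (equivHom_mapEquiv F hι rfl) (equivHom_mapEquiv_symm F hι rfl) a.2
      have hord : orderOf (⟨_, hmemF⟩ : F.autGroup ι.range) = p ^ k := by
        rw [Subgroup.orderOf_mk, MulEquiv.orderOf_eq, Subgroup.orderOf_coe, ha]
      have hE' : (MulAut.congr e) (a : MulAut R) ∈ E.autGroup ι.range :=
        h _ hR' ⟨⟨_, hmemF⟩, Subgroup.subset_closure ⟨k, hord⟩, rfl⟩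
      have hmem : ∀ x : P, φ₀ x ∈ ι.range := fun x => ⟨⟨φ x, hm x⟩, by
        show ((α⁻¹ ⟨φ x, _⟩ : S) : Ω) = φ₀ x
        rw [show (⟨φ x, hR.1 (hm x)⟩ : S) = α ⟨φ₀ x, hom_apply_mem E hφ₀ x⟩ from Subtype.ext (he x _),
          MulAut.inv_apply_self]⟩
      refine ⟨α, hα, _, E.comp_mem hφ₀ ((mem_autGroup_iff E (range_le F hι) _).1 hE') hmem, fun x hx => ?_⟩
      have h1 : (⟨φ₀ x, hmem x⟩ : ι.range) = e ⟨φ x, hm x⟩ := Subtype.ext (by
        show φ₀ x = ((α⁻¹ ⟨φ x, _⟩ : S) : Ω)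
        rw [show (⟨φ x, hR.1 (hm x)⟩ : S) = α ⟨φ₀ x, hom_apply_mem E hφ₀ x⟩ from Subtype.ext (he x _),
          MulAut.inv_apply_self])
      have h2 : (MulAut.congr e) (a : MulAut R) ⟨φ₀ x, hmem x⟩ = e ((a : MulAut R) ⟨φ x, hm x⟩) := by
        rw [h1, congr_apply, e.symm_apply_apply]
      calc φ' x = (((a : MulAut R) ⟨φ x, hm x⟩ : R) : Ω) := hφ' x
        _ = _ := by
          have h3 : (⟨_, hx⟩ : S) = α⁻¹ ⟨_, hR.1 ((a : MulAut R) ⟨φ x, hm x⟩).2⟩ :=
            Subtype.ext (congrArg (fun z : ι.range => (z : Ω)) h2)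
          rw [h3, MulAut.apply_inv_self]
  have hdec : ∀ (P : Subgroup Ω) (φ : P →* Ω), φ ∈ F.Hom P →
      ∃ α ∈ F.autGroup S, ∃ φ₀ ∈ E.Hom P, ∀ (x : P) (hx : φ₀ x ∈ S), φ x = ((α ⟨φ₀ x, hx⟩ : S) : Ω) :=
    fun P φ hφ => hgen P φ (le_reach hS hF P hφ)
  refine ⟨⟨hEF, fun P hP => ?_⟩, hdec, fun P => ⟨fun hcE => ⟨hcE.1, fun Q hQ => ?_⟩, fun hc => ⟨hc.1, fun Q hQ => ?_⟩⟩⟩
  · rw [Subgroup.map_le_iff_le_comap, Subgroup.closure_le]
    rintro a ⟨k, hk⟩
    show (a : MulAut P) ∈ E.autGroup P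
    haveI := finite_of_le hP
    obtain ⟨Q, hPQ, hQ⟩ := exists_fullyNormalized F hP
    obtain ⟨ε, hε, hεr⟩ := hPQ
    haveI := finite_of_le hQ.1
    let e := mapEquiv F hε hεr
    let b : F.autGroup Q := ⟨_, congr_mem_autGroup F e (equivHom_mapEquiv F hε hεr) (equivHom_mapEquiv_symm F hε hεr) a.2⟩
    obtain ⟨R, hR⟩ := (fullyNormalized_imp hS hF hQ).2.2
    have hb : IsPGroup p (Subgroup.zpowers b) := IsPGroup.of_card (n := k) (by
      rw [Nat.card_zpowers, ← Subgroup.orderOf_coe, show ((b : F.autGroup Q) : MulAut Q) = MulAut.congr e (a : MulAut P) from rfl,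
        MulEquiv.orderOf_eq, Subgroup.orderOf_coe, hk])
    obtain ⟨T, hT⟩ := hb.exists_le_sylow
    obtain ⟨c, hc⟩ := MulAction.exists_smul_eq (F.autGroup Q) T R
    have hcb : c * b * c⁻¹ ∈ (R : Subgroup (F.autGroup Q)) := by
      rw [← hc]
      exact ⟨b, hT (Subgroup.mem_zpowers b), rfl⟩
    rw [hR, Subgroup.mem_subgroupOf] at hcb
    obtain ⟨g, hg, hge⟩ := (mem_autInducedBy_iff _).1 hcb
    let ψ : P →* Ω := Q.subtype.comp ((c : MulAut Q).toMonoidHom.comp e.toMonoidHom)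
    have hψ : ψ ∈ F.Hom P := equivHom_trans F (equivHom_mapEquiv F hε hεr) ((equivHom_autGroup F hQ.1).1 c.2)
    obtain ⟨α, hα, ψ₀, hψ₀, hd⟩ := hdec P ψ hψ
    set g' : Ω := ((α⁻¹ ⟨g, hg⟩ : S) : Ω)
    have hconj : ∀ x : P, ψ₀ ((a : MulAut P) x) = g' * ψ₀ x * g'⁻¹ := by
      intro x
      have e1 : ψ ((a : MulAut P) x) = g * ψ x * g⁻¹ := by
        show (((c : MulAut Q) (e ((a : MulAut P) x)) : Q) : Ω) = g * (((c : MulAut Q) (e x) : Q) : Ω) * g⁻¹
        rw [← hge ((c : MulAut Q) (e x))]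
        show _ = ((((c : MulAut Q) * (MulAut.congr e (a : MulAut P)) * (c : MulAut Q)⁻¹) ((c : MulAut Q) (e x)) : Q) : Ω)
        rw [MulAut.mul_apply, MulAut.mul_apply, MulAut.inv_apply_self, congr_apply, e.symm_apply_apply]
      rw [hd _ (hom_apply_mem E hψ₀ _), hd _ (hom_apply_mem E hψ₀ _)] at e1
      have e2 : α ⟨ψ₀ ((a : MulAut P) x), hom_apply_mem E hψ₀ _⟩ =
          ⟨g, hg⟩ * α ⟨ψ₀ x, hom_apply_mem E hψ₀ x⟩ * ⟨g, hg⟩⁻¹ := Subtype.ext e1
      have e3 := congrArg (α⁻¹ : MulAut S) e2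
      rw [map_mul, map_mul, map_inv, MulAut.inv_apply_self, MulAut.inv_apply_self] at e3
      exact congrArg Subtype.val e3
    obtain ⟨θ, hθ, hθe⟩ := E.inv_mem hψ₀
    have hm : ∀ y : ψ₀.range, conjHom ψ₀.range g' y ∈ ψ₀.range := by
      rintro ⟨_, x, rfl⟩
      exact ⟨(a : MulAut P) x, hconj x⟩
    have hχ := E.comp_mem (E.conj_mem (P := ψ₀.range) (range_le E hψ₀) (α⁻¹ ⟨g, hg⟩).2) hθ hm
    rw [mem_autGroup_iff E hP]
    refine hom_congr E (E.comp_mem hψ₀ hχ fun x => MonoidHom.mem_range.2 ⟨x, rfl⟩) fun x => ?_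
    show (((a : MulAut P) x : P) : Ω) = θ ⟨g' * ψ₀ x * g'⁻¹, _⟩
    rw [← hθe ((a : MulAut P) x)]
    exact congrArg θ (Subtype.ext (hconj x))
  · obtain ⟨φ, hφ, rfl⟩ := hQ
    obtain ⟨α, hα, φ₀, hφ₀, hd⟩ := hdec P φ hφ
    intro c hc
    obtain ⟨hcS, hcC⟩ := hc
    have h1 : ((α⁻¹ ⟨c, hcS⟩ : S) : Ω) ∈ φ₀.range := by
      refine hcE.2 _ ⟨φ₀, hφ₀, rfl⟩ ⟨(α⁻¹ _).2, ?_⟩
      show _ ∈ Subgroup.centralizer (φ₀.range : Set Ω)
      rw [Subgroup.mem_centralizer_iff]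
      rintro _ ⟨x, rfl⟩
      have h2 : α ⟨φ₀ x, hom_apply_mem E hφ₀ x⟩ * ⟨c, hcS⟩ = ⟨c, hcS⟩ * α ⟨φ₀ x, hom_apply_mem E hφ₀ x⟩ :=
        Subtype.ext (by
          show ((α _ : S) : Ω) * c = c * ((α _ : S) : Ω)
          rw [← hd x]
          exact Subgroup.mem_centralizer_iff.1 hcC (φ x) ⟨x, rfl⟩)
      have h3 := congrArg (α⁻¹ : MulAut S) h2
      rw [map_mul, map_mul, MulAut.inv_apply_self] at h3
      exact congrArg Subtype.val h3
    obtain ⟨x, hx⟩ := h1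
    refine ⟨x, ?_⟩
    rw [hd x (hom_apply_mem E hφ₀ x), show (⟨φ₀ x, hom_apply_mem E hφ₀ x⟩ : S) = α⁻¹ ⟨c, hcS⟩ from Subtype.ext hx,
      MulAut.apply_inv_self]
  · obtain ⟨φ, hφ, rfl⟩ := hQ
    exact hc.2 _ ⟨φ, hEF P hφ, rfl⟩

end Cfsg.Agent.S5114
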