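import Cfsg.Statements.S5119
import Cfsg.Agent.Lib.Fusion.InvariantFrattini

set_option autoImplicit false
open Cfsg

namespace Cfsg.Agent.S5119

open Cfsg.Agent.FusionSys Cfsg.FusionSystem

/-- Let F be a saturated fusion system over a finite p-group S and E a subsystem of F over a subgroup T that is strongly closed in F. Then E is invariant in F (invariance under Aut_F(T) plus the Frattini condition) if and only if the strong invariance condition holds: for P ≤ Q ≤ T, every map φ of E from P into Q and every map ψ of F with source Q, the transported map ψ φ ψ⁻¹ on ψ(P) is a map of E. -/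
theorem result {Ω : Type*} [Group Ω] {S : Subgroup Ω} [Finite S] (p : ℕ) [Fact p.Prime] (hS : IsPGroup p S) (F : Cfsg.FusionSystem S) (hF : F.IsSaturated p) {T : Subgroup Ω} (E : Cfsg.FusionSystem T) (hE : E.IsSubsystemOf F) (hT : F.StronglyClosed T) : E.IsInvariantIn F ↔ ∀ (P Q : Subgroup Ω) (hPQ : P ≤ Q) (_ : Q ≤ T) (φ : P →* Ω) (_ : φ ∈ E.Hom P) (hφQ : ∀ x : P, φ x ∈ Q) (ψ : Q →* Ω) (_ : ψ ∈ F.Hom Q), ∃ χ ∈ E.Hom ((P.subgroupOf Q).map ψ), ∀ (x : P) (hx : ψ (Subgroup.inclusion hPQ x) ∈ (P.subgroupOf Q).map ψ), χ ⟨ψ (Subgroup.inclusion hPQ x), hx⟩ = ψ ⟨φ x, hφQ x⟩ := by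
  constructor
  · rintro ⟨-, -, hAI, hFr⟩ P Q hPQ hQT φ hφ hφQ ψ hψ
    obtain ⟨α, hα, ψ₀, hψ₀, he⟩ := hFr Q hQT ψ hψ
    have h0 : ∀ y : Q, ψ₀ y ∈ T := hom_apply_mem E hψ₀
    have h1 := restrict_mem E hψ₀ hPQ
    obtain ⟨θ, hθ, hθr, hθ1, -⟩ := exists_inv E h1
    have hθP : ∀ y, θ y ∈ P := fun y => hθr.le ⟨y, rfl⟩
    have hb := E.comp_mem (E.comp_mem hθ hφ hθP) hψ₀ fun y => hφQ _
    obtain ⟨χ, hχ, hχe⟩ := hAI _ (range_le E h1) _ hb α hα
    have hsub : (P.subgroupOf Q).map ψ ≤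
        ((ψ₀.comp (Subgroup.inclusion hPQ)).range.subgroupOf T).map (T.subtype.comp α.toMonoidHom) := by
      rintro _ ⟨y, hy, rfl⟩
      exact ⟨⟨ψ₀ y, h0 y⟩, ⟨⟨y, hy⟩, congrArg ψ₀ (Subtype.ext rfl)⟩, (he y (h0 y)).symm⟩
    refine ⟨_, restrict_mem E hχ hsub, fun x hx => ?_⟩
    have hz : ψ₀ (Subgroup.inclusion hPQ x) ∈ (ψ₀.comp (Subgroup.inclusion hPQ)).range := ⟨x, rfl⟩
    have e1 := (he (Subgroup.inclusion hPQ x) (h0 _))
    refine Eq.trans (apply_congr χ e1 _ (e1 ▸ hsub hx)) ?_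
    refine (hχe ⟨_, hz⟩ (h0 _) (e1 ▸ hsub hx)).trans ?_
    rw [he ⟨φ x, hφQ x⟩ (h0 _)]
    refine congrArg (fun z : T => ((α z : T) : Ω)) (Subtype.ext ?_)
    exact apply_congr ψ₀ (congrArg φ (Subtype.ext (hθ1 x hz))) _ _
  · intro hSI
    have hAI : AutInvariant F E := by
      intro P hPT φ hφ α hα
      obtain ⟨χ, hχ, he⟩ := hSI P T hPT le_rfl φ hφ (hom_apply_mem E hφ) (T.subtype.comp α.toMonoidHom)
        ((mem_autGroup_iff F hT.1 α).1 hα)
      exact ⟨χ, hχ, fun x hφx hαx => he x hαx⟩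
    refine ⟨hE, hT, hAI, fun P hPT φ hφ => frattini_of_strong hS hF hE hT hAI ?_ hPT hφ⟩
    intro Q hQT a ha b hb
    rw [mem_autGroup_iff F (hQT.trans hT.1)] at ha
    rw [mem_autGroup_iff E hQT] at hb ⊢
    obtain ⟨χ, hχ, he⟩ := hSI Q Q le_rfl hQT _ hb (fun x => (b x).2) _ ha
    have hm : ∀ y : Q, (y : Ω) ∈ (Q.subgroupOf Q).map (Q.subtype.comp a.toMonoidHom) := fun y =>
      ⟨a.symm y, (a.symm y).2, congrArg Subtype.val (a.apply_symm_apply y)⟩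
    refine hom_congr E (restrict_mem E hχ fun y hy => hm ⟨y, hy⟩) fun y => ?_
    refine Eq.trans ?_ ((he (a.symm y) (hm (a (a.symm y)))).symm.trans
      (apply_congr χ (congrArg Subtype.val (a.apply_symm_apply y)) _ _))
    rfl

end Cfsg.Agent.S5119
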