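import Cfsg.Statements.S5125
import Cfsg.Agent.Lib.Fusion.Normal

set_option autoImplicit false
open Cfsg

namespace Cfsg.Agent.S5125

open Cfsg.Agent.FusionSys

/-- Let F be a saturated fusion system over a finite p-group S and Q a subgroup strongly closed in F. If Q has a subgroup Q₁ that is normal in F, with Q/Q₁ abelian and Aut_F(Q₁) a p-group, then Q is normal in F. -/
theorem result {Ω : Type*} [Group Ω] {S : Subgroup Ω} [Finite S] (p : ℕ) [Fact p.Prime] (hS : IsPGroup p S) (F : Cfsg.FusionSystem S) (hF : F.IsSaturated p) (Q Q₁ : Subgroup Ω) (hQ : F.StronglyClosed Q) (hQ₁Q : Q₁ ≤ Q) (hQ₁ : F.IsNormal Q₁) (hab : ⁅Q, Q⁆ ≤ Q₁) (hAut : IsPGroup p ↥(F.autGroup Q₁)) : F.IsNormal Q := by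
  refine isNormal_of_le_centricRadical hS hF hQ fun P hc hr => ?_
  have hP := hc.1
  have := finite_of_le hP
  have hQ₁P := isNormal_le_centricRadical hS hQ₁ hc hr
  have hsc₁ := isNormal_stronglyClosed hQ₁
  have hQn := stronglyClosed_le_normalizer hQ
  refine le_of_normalizer_le hS hP hQ.1 hQn fun x hx hxN => ?_
  refine mem_of_stabilizer hS hc hr (fun b : Bool => if b then Q else ⊤) (fun b : Bool => if b then Q₁ else Q)
    ?_ ?_ ?_ (hQ.1 hx) hxN ?_
  · rintro (_ | _) α hα y hy
    · exact Subgroup.mem_top _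
    · exact stronglyClosed_autGroup_mem hQ hP hα y hy
  · rintro (_ | _) α hα y hy
    · exact stronglyClosed_autGroup_mem hQ hP hα y hy
    · exact stronglyClosed_autGroup_mem hsc₁ hP hα y hy
  · intro α hα hco hst
    have hfix : ∀ y : P, (y : Ω) ∈ Q₁ → α y = y := by
      obtain ⟨β, hβ, hβe⟩ := exists_autGroup_of_range F
        (restrict_mem F ((equivHom_autGroup F hP).1 hα) hQ₁P)
        ((stronglyClosed_weaklyClosed hsc₁).2 _ (restrict_mem F ((equivHom_autGroup F hP).1 hα) hQ₁P))
      have hiter : ∀ (k : ℕ) (y : Q₁), Subgroup.inclusion hQ₁P ((β ^ k) y) = (α ^ k) (Subgroup.inclusion hQ₁P y) := by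
        intro k
        induction k with
        | zero => intro y; simp
        | succ k ih =>
          intro y
          rw [pow_succ', pow_succ', MulAut.mul_apply, MulAut.mul_apply, ← ih]
          exact Subtype.ext (hβe _)
      have h1 : β ^ orderOf α = 1 := MulEquiv.ext fun y => by
        apply Subgroup.inclusion_injective hQ₁P
        rw [hiter, pow_orderOf_eq_one]
        rfl
      obtain ⟨k, hk⟩ := IsPGroup.iff_orderOf.1 hAut ⟨β, hβ⟩
      rw [Subgroup.orderOf_mk] at hk
      have hd := orderOf_dvd_of_pow_eq_one h1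
      have hβ1 : orderOf β = 1 := Nat.eq_one_of_dvd_coprimes
        (hk ▸ (hco.pow_right k) : (orderOf α).Coprime (orderOf β)) hd dvd_rfl
      intro y hy
      have := hiter 1 ⟨y, hy⟩
      rw [pow_one, pow_one, orderOf_eq_one_iff.1 hβ1] at this
      exact this.symm
    have hPp := hS.to_le hP
    have hQfix : ∀ y : P, (y : Ω) ∈ Q → α y = y := fun y hy =>
      fix_of_step hPp hco (hfix _ (by simpa using hst true y hy))
    exact MulEquiv.ext fun y => fix_of_step hPp hco (hQfix _ (by simpa using hst false y (Subgroup.mem_top _)))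
  · rintro (_ | _) y hyP hy
    · exact conj_commutator_mem hQn (hP hyP) hx
    · exact commutator_conj_mem hab hy hx

end Cfsg.Agent.S5125
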