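import Cfsg.Statements.S5139
import Cfsg.Agent.Lib.Fusion.PPowerExist
import Cfsg.Agent.Lib.Fusion.Group

set_option autoImplicit false
open Cfsg

namespace Cfsg.Agent.S5139

open Cfsg.Agent.FusionSys

/-- Let G be a finite group with Sylow p-subgroup S and O^p(G) the subgroup generated by the elements of order prime to p. Then the p-residual subsystem of the fusion system of G on S — the saturated subsystem of p-power index over the hyperfocal subgroup — is the fusion system of O^p(G) on S ∩ O^p(G): its maps are exactly the conjugation maps by elements of O^p(G) between subgroups of S ∩ O^p(G). -/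
theorem result {G : Type*} [Group G] [Finite G] (p : ℕ) [Fact p.Prime] (S : Sylow p G) (E : Cfsg.FusionSystem ((Cfsg.groupFusionSystem (S : Subgroup G)).hyperfocalSubgroup p)) (hE : (Cfsg.groupFusionSystem (S : Subgroup G)).IsPResidual p E) : ∃ h : (S : Subgroup G) ⊓ Cfsg.pResidual p G ≤ Cfsg.pResidual p G, ∀ P : Subgroup G, E.Hom P = (Cfsg.fusionSystemOfSubgroup (Cfsg.pResidual p G) ((S : Subgroup G) ⊓ Cfsg.pResidual p G) h).Hom P := by
  have hle : (S : Subgroup G) ⊓ Cfsg.pResidual p G ≤ Cfsg.pResidual p G := inf_le_right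
  refine ⟨hle, ?_⟩
  obtain ⟨h1, h2⟩ := hE
  revert E
  rw [group_hyperfocal S]
  intro E h1 h2
  haveI := Cfsg.Agent.PBasic.pResidual_normal_inst p G
  let D := Cfsg.fusionSystemOfSubgroup (Cfsg.pResidual p G) ((S : Subgroup G) ⊓ (Cfsg.pResidual p G)) hle
  have hTp : IsPGroup p ↥((S : Subgroup G) ⊓ (Cfsg.pResidual p G)) := S.isPGroup'.to_le inf_le_left
  obtain ⟨QK, hQK⟩ := Cfsg.Agent.PBasic.exists_sylow_subgroupOf S (Cfsg.pResidual p G)
  have hDs : D.IsSaturated p := ofSubgroup_saturated (by
    refine ⟨inf_le_right, hTp, ?_⟩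
    rw [Subgroup.relIndex, Subgroup.inf_subgroupOf_right, ← hQK]
    exact QK.not_dvd_index) hle
  have hDi : D.HasPPowerIndexIn (Cfsg.groupFusionSystem (S : Subgroup G)) p := by
    refine ⟨?_, (group_hyperfocal S).le, fun P hP => ?_⟩
    · rintro P φ ⟨hP, hv, g, -, hg⟩
      exact ⟨hP.trans inf_le_left, fun x => (hv x).1, g, hg⟩
    · have hPS := hP.trans inf_le_left
      let f : Subgroup.normalizer (P : Set G) →* (Cfsg.groupFusionSystem (S : Subgroup G)).autGroup P :=
        P.normalizerMonoidHom.codRestrict _ fun k => by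
          rw [group_autGroup S hPS]
          exact (mem_autInducedBy_iff _).2 ⟨k, Subgroup.mem_top _, fun _ => rfl⟩
      have hf : Function.Surjective f := fun b => by
        have hb := b.2
        simp only [group_autGroup S hPS] at hb
        obtain ⟨k, -, hke⟩ := (mem_autInducedBy_iff _).1 hb
        exact ⟨⟨k, mem_normalizer_of_autInduced hke⟩, Subtype.ext (MulEquiv.ext fun z => Subtype.ext (hke z).symm)⟩
      rw [← Cfsg.Agent.PBasic.map_pResidual_eq f hf]
      rintro _ ⟨_, ⟨k, hk, rfl⟩, rfl⟩
      have hkK : (k : G) ∈ (Cfsg.pResidual p G) := Cfsg.Agent.PBasic.map_pResidual_le (p := p) (Subgroup.normalizer (P : Set G)).subtype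
        ⟨k, hk, rfl⟩
      refine (mem_autGroup_iff D hP _).2 ⟨hP, fun x => hP ((P.normalizerMonoidHom k) x).2, k, hkK, fun x => rfl⟩
  obtain rfl : E = D := pPower_unique hTp hDs hDi h1 h2
  exact fun P => rfl

end Cfsg.Agent.S5139
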