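import Cfsg.Statements.S5143
import Cfsg.Agent.Lib.RelProd.SEProduct

set_option autoImplicit false
open Cfsg Cfsg.FusionSystem Cfsg.Agent.RelProd Cfsg.Agent.FusionSys
  Cfsg.Agent.FusionSys.FocCent Cfsg.Agent.FusionMeet

namespace Cfsg.Agent.S5143

/-- Let F be a saturated fusion system over a finite p-group S, E a normal subsystem over T, and R a subgroup with T ≤ R ≤ S. Then there is exactly one saturated subsystem D of F over R (exactly one family of map sets) whose p-residual subsystem is that of E: the hyperfocal subgroups of D and E coincide and the p-residual subsystems of D and of E have the same maps. -/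
theorem result {Ω : Type*} [Group Ω] {S : Subgroup Ω} [Finite S] (p : ℕ) [Fact p.Prime] (hS : IsPGroup p S) (F : Cfsg.FusionSystem S) (hF : F.IsSaturated p) {T : Subgroup Ω} (E : Cfsg.FusionSystem T) (hE : E.IsNormalIn F p) (R : Subgroup Ω) (hTR : T ≤ R) (hRS : R ≤ S) : ∃ D : Cfsg.FusionSystem R, (D.IsSaturated p ∧ D.IsSubsystemOf F ∧ D.hyperfocalSubgroup p = E.hyperfocalSubgroup p ∧ ∀ (D₁ : Cfsg.FusionSystem (D.hyperfocalSubgroup p)) (E₁ : Cfsg.FusionSystem (E.hyperfocalSubgroup p)), D.IsPResidual p D₁ → E.IsPResidual p E₁ → ∀ P : Subgroup Ω, D₁.Hom P = E₁.Hom P) ∧ ∀ D' : Cfsg.FusionSystem R, D'.IsSaturated p → D'.IsSubsystemOf F → D'.hyperfocalSubgroup p = E.hyperfocalSubgroup p → (∀ (D₁ : Cfsg.FusionSystem (D'.hyperfocalSubgroup p)) (E₁ : Cfsg.FusionSystem (E.hyperfocalSubgroup p)), D'.IsPResidual p D₁ → E.IsPResidual p E₁ → ∀ P : Subgroup Ω, D₁.Hom P = E₁.Hom P) → ∀ P : Subgroup Ω, D'.Hom P = D.Hom P := by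
  have hEs : E.IsSaturated p := hE.1.1
  haveI : Finite T := finite_of_le (S := S) (hTR.trans hRS)
  haveI : Finite R := finite_of_le (S := S) hRS
  have hTp : IsPGroup p T := hS.to_le (hTR.trans hRS)
  have hRp : IsPGroup p R := hS.to_le hRS
  obtain ⟨D, hD, hDi, hED, hDH⟩ := exists_product hS hE hTR hRS
  -- a residual of `E` is one of `D`
  have hres : ∀ E₁ : FusionSystem (E.hyperfocalSubgroup p), E.IsPResidual p E₁ → E₁.HasPPowerIndexIn D p := by
    intro E₁ hE₁
    refine ⟨fun P φ hφ => hED P (hE₁.2.1 P hφ), hDH.le, fun P hP => Subgroup.map_le_iff_le_comap.2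
      ((Subgroup.closure_le _).2 fun a ha => ?_)⟩
    have hPT : P ≤ T := hP.trans (hyperfocal_le (p := p) E)
    have hPS : P ≤ S := hPT.trans (hTR.trans hRS)
    have hco : (orderOf (a : MulAut P)).Coprime p := by rw [Subgroup.orderOf_coe]; exact ha
    exact opOf_index hE₁.2 hP
      (gAut_autE hPT (seSys_pprime hS hE hPS (autGroup_mono hDi.1 P a.2) hco)) hco
  refine ⟨D, ⟨hD, fun P φ hφ => seSys_sub P (hDi.1 P hφ), hDH, ?_⟩, ?_⟩
  · intro D₁ E₁ hD₁ hE₁
    haveI := finite_of_le (S := S) ((hyperfocal_le (p := p) E).trans (hTR.trans hRS))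
    exact residual_hom_eq hDH (hS.to_le ((hyperfocal_le (p := p) E).trans (hTR.trans hRS))) hD₁.1 hD₁.2 hE₁.1
      (hres E₁ hE₁)
  · intro D' hD' hD'F hD'H hD'res
    obtain ⟨X₁, hX₁, hX₁i, -⟩ := exists_pPower hRp hD' (hyperfocal_le (p := p) D') le_rfl
    obtain ⟨E₁, hE₁, hE₁i, -⟩ := exists_pPower hTp hEs (hyperfocal_le (p := p) E) le_rfl
    have hh := hD'res X₁ E₁ ⟨hX₁, hX₁i⟩ ⟨hE₁, hE₁i⟩
    have hE₁X : E₁.HasPPowerIndexIn D' p := index_congr hD'H hh hX₁i
    obtain rfl := product_unique hS hE hTR hRS rfl hD hDi hED hDH hD' hD'F hD'H hE₁ hE₁i hE₁X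
      (hres E₁ ⟨hE₁, hE₁i⟩)
    exact fun _ => rfl

end Cfsg.Agent.S5143
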