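import Cfsg.Statements.S5164
import Mathlib

set_option autoImplicit false
open Cfsg

namespace Cfsg.Agent.S5164

open Equiv

variable {p : ℕ} [Fact p.Prime]

/-- Translations in `k` disjoint cycles. -/
def cyc (k : ℕ) : Multiplicative (Fin k → ZMod p) →* Perm (Fin k × ZMod p) :=
  MonoidHom.mk' (fun f =>
    { toFun := fun x => (x.1, x.2 + f.toAdd x.1)
      invFun := fun x => (x.1, x.2 - f.toAdd x.1)
      left_inv := fun x => by simp
      right_inv := fun x => by simp })
    fun f g => Equiv.ext fun x => Prod.ext rfl (by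
      show x.2 + (f.toAdd x.1 + g.toAdd x.1) = x.2 + g.toAdd x.1 + f.toAdd x.1
      abel)

theorem cyc_injective (k : ℕ) : Function.Injective (cyc (p := p) k) := by
  intro f g h
  refine Multiplicative.toAdd.injective (funext fun i => ?_)
  have := congrArg Prod.snd (Equiv.ext_iff.1 h (i, 0))
  exact add_left_cancel this

/-- The wreath product of two cyclic groups of order `p`. -/
def wr : Subgroup (Perm (ZMod p × ZMod p)) where
  carrier := {σ | ∃ (c : ZMod p) (f : ZMod p → ZMod p), ∀ x, σ x = (x.1 + c, x.2 + f x.1)}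
  one_mem' := ⟨0, 0, fun x => by simp⟩
  mul_mem' := by
    rintro σ τ ⟨c, f, hσ⟩ ⟨d, g, hτ⟩
    exact ⟨d + c, fun i => g i + f (i + d), fun x => by
      rw [Perm.mul_apply, hτ, hσ]; exact Prod.ext (add_assoc _ _ _) (add_assoc _ _ _)⟩
  inv_mem' := by
    rintro σ ⟨c, f, hσ⟩
    exact ⟨-c, fun i => -f (i - c), fun x => by
      rw [Perm.inv_eq_iff_eq, hσ]; ext <;> simp [sub_eq_add_neg]⟩

theorem wr_isPGroup : IsPGroup p (wr (p := p)) := by
  intro ⟨σ, c, f, hσ⟩
  have h1 : ∀ n : ℕ, ∃ g : ZMod p → ZMod p, ∀ x, (σ ^ n) x = (x.1 + n • c, x.2 + g x.1) := by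
    intro n
    induction n with
    | zero => exact ⟨0, fun x => by simp⟩
    | succ n ih =>
      obtain ⟨g, hg⟩ := ih
      exact ⟨fun i => g i + f (i + n • c), fun x => by
        rw [pow_succ', Perm.mul_apply, hg, hσ, succ_nsmul]; exact Prod.ext (add_assoc _ _ _) (add_assoc _ _ _)⟩
  obtain ⟨g, hg⟩ := h1 p
  have h2 : ∀ n : ℕ, ∀ x, ((σ ^ p) ^ n) x = (x.1, x.2 + n • g x.1) := by
    intro n
    induction n with
    | zero => simp
    | succ n ih =>
      intro x
      rw [pow_succ', Perm.mul_apply, ih, hg]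
      simp [add_assoc, succ_nsmul, add_mul]
  refine ⟨2, Subtype.ext (Equiv.ext fun x => ?_)⟩
  rw [pow_two, SubgroupClass.coe_pow, pow_mul, h2]
  simp

theorem exists_wr_noncomm : ∃ a ∈ wr (p := p), ∃ b ∈ wr (p := p), a * b ≠ b * a := by
  let a : Perm (ZMod p × ZMod p) :=
    { toFun := fun x => (x.1, x.2 + if x.1 = 0 then 1 else 0)
      invFun := fun x => (x.1, x.2 - if x.1 = 0 then 1 else 0)
      left_inv := fun x => by simp
      right_inv := fun x => by simp }
  let b : Perm (ZMod p × ZMod p) :=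
    { toFun := fun x => (x.1 + 1, x.2)
      invFun := fun x => (x.1 - 1, x.2)
      left_inv := fun x => by simp
      right_inv := fun x => by simp }
  refine ⟨a, ⟨0, fun i => if i = 0 then 1 else 0, fun x => by simp [a]⟩, b,
    ⟨1, 0, fun x => by simp [b]⟩, fun h => ?_⟩
  have := congrArg Prod.snd (Equiv.ext_iff.1 h (0, 0))
  simp [a, b] at this

theorem noncomm_of_even {n : ℕ} (S : Sylow p (alternatingGroup (Fin n))) (W : Subgroup (Perm (Fin n)))
    (hW : IsPGroup p W) (hev : W ≤ alternatingGroup (Fin n)) {a b : Perm (Fin n)} (ha : a ∈ W) (hb : b ∈ W)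
    (hab : a * b ≠ b * a) : ¬ IsMulCommutative S := by
  intro hS
  obtain ⟨T, hT⟩ := (IsPGroup.of_injective hW (Subgroup.subgroupOfEquivOfLe hev).toMonoidHom
    (Subgroup.subgroupOfEquivOfLe hev).injective).exists_le_sylow
  refine hab ?_
  have h := congrArg (fun z => ((((Sylow.equiv T S).symm z : T) : alternatingGroup (Fin n)) : Perm (Fin n)))
    (hS.is_comm.comm (Sylow.equiv T S ⟨⟨a, hev ha⟩, hT ha⟩) (Sylow.equiv T S ⟨⟨b, hev hb⟩, hT hb⟩))
  simp only [map_mul, MulEquiv.symm_apply_apply] at h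
  exact h

theorem sign_of_odd_order {α : Type*} [Fintype α] [DecidableEq α] (hp : p ≠ 2) {W : Type*} [Group W]
    (hW : IsPGroup p W) (f : W →* Perm α) (w : W) : Perm.sign (f w) = 1 := by
  obtain ⟨k, hk⟩ := hW w
  have h : Perm.sign (f w) ^ (p ^ k) = 1 := by rw [← map_pow, ← map_pow, hk, map_one, map_one]
  rcases Int.units_eq_one_or (Perm.sign (f w)) with h1 | h1
  · exact h1
  · rw [h1, Odd.neg_one_pow (((Fact.out : p.Prime).odd_of_ne_two hp).pow)] at h
    exact absurd h (by decide)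

theorem nonabelian {n : ℕ} (hn : 6 ≤ n) (hpn : p ^ 2 ≤ n) (S : Sylow p (alternatingGroup (Fin n))) :
    ¬ IsMulCommutative S := by
  classical
  obtain ⟨a, ha, b, hb, hab⟩ := exists_wr_noncomm (p := p)
  by_cases hp : p = 2
  · subst hp
    let s : Perm (ZMod 2 × ZMod 2) →* Perm (Fin 2) := by
      refine MonoidHom.mk' (fun σ => if Perm.sign σ = 1 then 1 else Equiv.swap 0 1) fun σ τ => ?_
      rcases Int.units_eq_one_or (Perm.sign σ) with h | h <;> rcases Int.units_eq_one_or (Perm.sign τ) with h' | h' <;>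
        simp [h, h', map_mul]
    let ψ : Perm (ZMod 2 × ZMod 2) →* Perm ((ZMod 2 × ZMod 2) ⊕ Fin 2) :=
      (Perm.sumCongrHom _ _).comp ((MonoidHom.id _).prod s)
    have hψ : Function.Injective ψ := fun σ τ h => (Prod.mk.inj (Perm.sumCongrHom_injective h)).1
    have hsign : ∀ σ, Perm.sign (ψ σ) = 1 := by
      intro σ
      show Perm.sign (Perm.sumCongr σ (if Perm.sign σ = 1 then 1 else Equiv.swap 0 1)) = 1
      rw [Perm.sign_sumCongr]
      rcases Int.units_eq_one_or (Perm.sign σ) with h | h <;> simp [h]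
    obtain ⟨ι⟩ := Function.Embedding.nonempty_of_card_le (α := (ZMod 2 × ZMod 2) ⊕ Fin 2) (β := Fin n)
      (by simpa using hn)
    let f := (Perm.viaEmbeddingHom ι).comp ψ
    have hf : Function.Injective f := (Perm.viaEmbeddingHom_injective ι).comp hψ
    refine noncomm_of_even S (wr.map f) (wr_isPGroup.map f) ?_ ⟨a, ha, rfl⟩ ⟨b, hb, rfl⟩ fun h => hab (hf (by
      rw [map_mul, map_mul]; exact h))
    rintro _ ⟨σ, -, rfl⟩
    rw [Perm.mem_alternatingGroup]
    refine Eq.trans ?_ (hsign σ)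
    show Perm.sign ((ψ σ).viaEmbedding ι) = _
    unfold Perm.viaEmbedding
    convert Perm.sign_extendDomain (ψ σ) (Equiv.ofInjective ι.1 ι.2)
  · obtain ⟨ι⟩ := Function.Embedding.nonempty_of_card_le (α := ZMod p × ZMod p) (β := Fin n)
      (by simpa [pow_two] using hpn)
    let f := Perm.viaEmbeddingHom ι
    refine noncomm_of_even S (wr.map f) (wr_isPGroup.map f) ?_ ⟨a, ha, rfl⟩ ⟨b, hb, rfl⟩
      fun h => hab (Perm.viaEmbeddingHom_injective ι (by rw [map_mul, map_mul]; exact h))
    rintro _ ⟨σ, hσ, rfl⟩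
    rw [Perm.mem_alternatingGroup]
    exact sign_of_odd_order hp wr_isPGroup (f.comp (wr (p := p)).subtype) ⟨σ, hσ⟩

theorem abelian {n : ℕ} (hpn : n < p ^ 2) (S : Sylow p (alternatingGroup (Fin n))) : IsMulCommutative S := by
  classical
  have hp : p.Prime := Fact.out
  set k := n / p
  have hk : k < p := Nat.div_lt_of_lt_mul (by rwa [← pow_two])
  obtain ⟨ι⟩ := Function.Embedding.nonempty_of_card_le (α := Fin k × ZMod p) (β := Fin n)
    (by simpa using Nat.div_mul_le_self n p)
  let f := (Perm.viaEmbeddingHom ι).comp (cyc (p := p) k)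
  have hf : Function.Injective f := (Perm.viaEmbeddingHom_injective ι).comp (cyc_injective k)
  have hcard : Nat.card f.range = p ^ (Nat.card (Perm (Fin n))).factorization p := by
    rw [← Nat.card_congr (MonoidHom.ofInjective hf).toEquiv, Nat.card_congr Multiplicative.toAdd, Nat.card_fun,
      Nat.card_fin, Nat.card_zmod, Nat.card_perm, Nat.card_fin, Nat.factorization_def _ hp,
      ← padicValNat_mul_div_factorial, padicValNat_factorial_mul,
      padicValNat.eq_zero_of_not_dvd (fun h => absurd (hp.dvd_factorial.1 h) (not_le.2 hk)), zero_add]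
  let U : Sylow p (Perm (Fin n)) := Sylow.ofCard f.range hcard
  obtain ⟨T, hT⟩ := (S.isPGroup'.map (alternatingGroup (Fin n)).subtype).exists_le_sylow
  have hT' : ∀ x : S, (((x : S) : alternatingGroup (Fin n)) : Perm (Fin n)) ∈ T := fun x => hT ⟨x, x.2, rfl⟩
  have hcomm : ∀ u v : U, u * v = v * u := by
    rintro ⟨_, x, rfl⟩ ⟨_, y, rfl⟩
    refine Subtype.ext ?_
    show f x * f y = f y * f x
    rw [← map_mul, ← map_mul, mul_comm]
  refine ⟨⟨fun x y => Subtype.ext (Subtype.ext ?_)⟩⟩
  have h := congrArg (fun z => (((Sylow.equiv T U).symm z : T) : Perm (Fin n)))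
    (hcomm (Sylow.equiv T U ⟨_, hT' x⟩) (Sylow.equiv T U ⟨_, hT' y⟩))
  simp only [map_mul, MulEquiv.symm_apply_apply] at h
  exact h


/-- For n ≥ 6 and a prime p, a nontrivial Sylow p-subgroup of the alternating group of degree n is abelian if and only if n < p². -/
theorem result (n p : ℕ) (hn : 6 ≤ n) [Fact p.Prime] (S : Sylow p (alternatingGroup (Fin n))) (hS : (S : Subgroup (alternatingGroup (Fin n))) ≠ ⊥) : IsMulCommutative S ↔ n < p ^ 2 := by
  refine ⟨fun h => ?_, fun h => abelian h S⟩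
  by_contra hlt
  exact nonabelian hn (not_lt.1 hlt) S h

end Cfsg.Agent.S5164
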