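import Cfsg.Statements.S5167
import Cfsg.Agent.Lib.Golay.FusionMathieu

set_option autoImplicit false
open Cfsg

namespace Cfsg.Agent.S5167

/-- The 2-fusion system of the Mathieu group M₁₂ (as the explicit permutation group carved out of the automorphism group of the binary Golay code) on a Sylow 2-subgroup is simple: saturated, over a nontrivial 2-group, with no normal subsystem other than the trivial one and itself. -/
theorem result (S : Sylow 2 Cfsg.Spor.M12) : (Cfsg.groupFusionSystem (S : Subgroup Cfsg.Spor.M12)).IsSimple 2 := by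
  have he : (Nat.card Cfsg.Spor.M12).factorization 2 = 6 := by
    rw [Cfsg.Agent.Golay.card_sporM12, show (95040 : ℕ) = 2 ^ 6 * 1485 by norm_num]
    exact Cfsg.Agent.Golay.Fus.factorization_two _ _ (by norm_num)
  exact Cfsg.Agent.Golay.Fus.fus_simple Cfsg.Agent.Golay.Fus.spec12 Cfsg.Agent.Golay.Fus.sel12
    Cfsg.Agent.Golay.Fus.cert12 (H := Cfsg.Spor.M12) (by open Cfsg.Agent.Golay in exact (sporM12_eq.trans stabIn_m12.symm)) he (by norm_num) S

end Cfsg.Agent.S5167
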