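import Cfsg.Statements.S5170
import Cfsg.Agent.Lib.Golay.FusionMathieu

set_option autoImplicit false
open Cfsg

namespace Cfsg.Agent.S5170

/-- The 2-fusion system of the Mathieu group M₂₄ (as the explicit permutation group of the 24 points preserving the binary Golay code) on a Sylow 2-subgroup is simple: saturated, over a nontrivial 2-group, with no normal subsystem other than the trivial one and itself. -/
theorem result (S : Sylow 2 Cfsg.M24) : (Cfsg.groupFusionSystem (S : Subgroup Cfsg.M24)).IsSimple 2 := by
  have he : (Nat.card Cfsg.M24).factorization 2 = 10 := by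
    rw [Cfsg.Agent.Golay.card_M24, show (244823040 : ℕ) = 2 ^ 10 * 239085 by norm_num]
    exact Cfsg.Agent.Golay.Fus.factorization_two _ _ (by norm_num)
  exact Cfsg.Agent.Golay.Fus.fus_simple Cfsg.Agent.Golay.Fus.spec24 Cfsg.Agent.Golay.Fus.sel24
    Cfsg.Agent.Golay.Fus.cert24 (H := Cfsg.M24) (by open Cfsg.Agent.Golay in exact stabIn_nil.symm) he (by norm_num) S

end Cfsg.Agent.S5170
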