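import Cfsg.Statements.S5178
import Cfsg.Agent.Lib.Fusion.ExtraspecialCentre
import Cfsg.Agent.Lib.LocalEven.CharPAux

set_option autoImplicit false
universe u
open Cfsg

namespace Cfsg.Agent.S5178

open Cfsg.Agent
open scoped commutatorElement

/-- Let p be an odd prime, S a finite p-group containing an extraspecial subgroup Q of index p, and F a saturated fusion system over S whose largest subgroup normal in F is trivial. Then the centre of S equals the centre of Q. -/
theorem result {Ω : Type u} [Group Ω] {S : Subgroup Ω} [Finite S] (p : ℕ) [Fact p.Prime] (hp : Odd p) (hS : IsPGroup p S)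
    (Q : Subgroup Ω) (hQS : Q ≤ S) (hQ : Cfsg.IsExtraspecial p ↥Q) (hQi : (Q.subgroupOf S).index = p)
    (F : Cfsg.FusionSystem S) (hF : F.IsSaturated p) (hO : F.core = ⊥) :
    S ⊓ Subgroup.centralizer (S : Set Ω) = Q ⊓ Subgroup.centralizer (Q : Set Ω) := by
  have hpp : p.Prime := Fact.out
  obtain ⟨⟨-, -, hQc⟩, hQcard⟩ := hQ
  haveI : Finite ↥Q := FusionSys.finite_of_le hQS
  obtain ⟨z₀, hz₀⟩ : ∃ z₀ : ↥(Subgroup.center ↥Q), z₀ ≠ 1 := by
    haveI : Nontrivial ↥(Subgroup.center ↥Q) := Finite.one_lt_card_iff_nontrivial.1 (hQcard ▸ hpp.one_lt)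
    exact exists_ne 1
  set z : Ω := ((z₀ : ↥Q) : Ω) with hzdef
  have hzQ : z ∈ Q := (z₀ : ↥Q).2
  have hzc : ∀ q ∈ Q, q * z = z * q := fun q hq =>
    congrArg Subtype.val (Subgroup.mem_center_iff.1 z₀.2 ⟨q, hq⟩)
  have hord : orderOf z = p := by
    rw [hzdef, Subgroup.orderOf_coe, Subgroup.orderOf_coe]
    have h := orderOf_dvd_natCard z₀
    rw [hQcard] at h
    exact ((Nat.dvd_prime hpp).1 h).resolve_left fun h1 => hz₀ (orderOf_eq_one_iff.1 h1)
  have hCQ : ∀ x, x ∈ Q → (∀ q ∈ Q, q * x = x * q) → x ∈ Subgroup.zpowers z := by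
    intro x hx hxc
    have hgen : Subgroup.zpowers z₀ = ⊤ := Subgroup.eq_top_of_card_eq _ (by
      rw [Nat.card_zpowers, hQcard, ← hord, hzdef, Subgroup.orderOf_coe, Subgroup.orderOf_coe])
    obtain ⟨n, hn⟩ := (hgen ▸ Subgroup.mem_top (⟨⟨x, hx⟩, Subgroup.mem_center_iff.2 fun q =>
      Subtype.ext (hxc q q.2)⟩ : ↥(Subgroup.center ↥Q)) :)
    exact ⟨n, congrArg (fun u : ↥(Subgroup.center ↥Q) => ((u : ↥Q) : Ω)) hn⟩
  have hQn : S ≤ Subgroup.normalizer (Q : Set Ω) := by
    obtain ⟨k, hk⟩ := IsPGroup.iff_card.1 hS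
    have hmin : (Nat.card S).minFac = p := by
      rw [hk]
      rcases k with _ | k
      · exfalso
        have h := (Q.subgroupOf S).index_dvd_card
        rw [hQi, hk, pow_zero] at h
        exact hpp.not_dvd_one h
      · exact (Nat.pow_minFac (Nat.succ_ne_zero k)).trans hpp.minFac_eq
    haveI : (Q.subgroupOf S).Normal := Subgroup.normal_of_index_eq_minFac_card (hQi.trans hmin.symm)
    intro g hg
    refine FusionSys.mem_normalizer_of_conj_mem g (fun x hx => ?_) fun x hx => ?_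
    · exact (inferInstance : (Q.subgroupOf S).Normal).conj_mem ⟨x, hQS hx⟩ hx ⟨g, hg⟩
    · have := (inferInstance : (Q.subgroupOf S).Normal).conj_mem ⟨x, hQS hx⟩ hx ⟨g, hg⟩⁻¹
      simpa [Subgroup.mem_subgroupOf, mul_assoc] using this
  have hcomQ : ∀ a ∈ Q, ∀ b ∈ Q, ∃ i : ℤ, a * b * a⁻¹ * b⁻¹ = z ^ i := by
    intro a ha b hb
    have h : ⁅(⟨a, ha⟩ : ↥Q), ⟨b, hb⟩⁆ ∈ Subgroup.center ↥Q := hQc ▸
      Subgroup.commutator_mem_commutator (Subgroup.mem_top _) (Subgroup.mem_top _)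
    obtain ⟨n, hn⟩ := hCQ ((⁅(⟨a, ha⟩ : ↥Q), ⟨b, hb⟩⁆ : ↥Q) : Ω) (⁅(⟨a, ha⟩ : ↥Q), ⟨b, hb⟩⁆ : ↥Q).2 fun q hq =>
      congrArg Subtype.val (Subgroup.mem_center_iff.1 h ⟨q, hq⟩)
    exact ⟨n, by simpa [commutatorElement_def] using hn.symm⟩
  have hQna : ∃ a ∈ S, ∃ b ∈ S, a * b ≠ b * a := by
    by_contra h
    push_neg at h
    have : commutator ↥Q = ⊥ := by
      rw [commutator_def, Subgroup.commutator_eq_bot_iff_le_centralizer]
      exact fun a _ => Subgroup.mem_centralizer_iff.2 fun b _ => Subtype.ext (h b (hQS b.2) a (hQS a.2))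
    rw [this] at hQc
    rw [← hQc, Subgroup.card_bot] at hQcard
    exact hpp.ne_one hQcard.symm
  have hmemQ : ∀ x, x ∈ Q ⊓ Subgroup.centralizer (Q : Set Ω) ↔ x ∈ Q ∧ ∀ q ∈ Q, q * x = x * q := fun x => by
    rw [Subgroup.mem_inf, Subgroup.mem_centralizer_iff]
    rfl
  by_cases hle : S ⊓ Subgroup.centralizer (S : Set Ω) ≤ Q
  · refine le_antisymm (fun x hx => (hmemQ x).2 ⟨hle hx, fun q hq =>
      (FusionSys.ExtraCentre.mem_zs.1 hx).2 q (hQS hq)⟩) fun x hx => ?_
    -- a central element of `Q` is fixed by the `p`-group `S`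
    rw [hmemQ] at hx
    set R := Subgroup.zpowers z with hR
    have hRS : R ≤ S := Subgroup.zpowers_le.2 (hQS hzQ)
    have hRn : S ≤ Subgroup.normalizer (R : Set Ω) := by
      have key : ∀ g ∈ S, ∀ v ∈ R, g * v * g⁻¹ ∈ R := by
        intro g hg v hv
        have hvQ : v ∈ Q := Subgroup.zpowers_le.2 hzQ hv
        refine hCQ _ ((Subgroup.mem_normalizer_iff.1 (hQn hg) v).1 hvQ) fun q hq => ?_
        have hq' : g⁻¹ * q * g ∈ Q := by
          have := (Subgroup.mem_normalizer_iff.1 (hQn (S.inv_mem hg)) q).1 hq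
          rwa [inv_inv] at this
        obtain ⟨n, rfl⟩ := hv
        have hc : g⁻¹ * q * g * z ^ n = z ^ n * (g⁻¹ * q * g) :=
          (Commute.zpow_right (hzc _ hq') n).eq
        calc q * (g * z ^ n * g⁻¹) = g * ((g⁻¹ * q * g) * z ^ n) * g⁻¹ := by group
          _ = g * (z ^ n * (g⁻¹ * q * g)) * g⁻¹ := by rw [hc]
          _ = g * z ^ n * g⁻¹ * q := by group
      intro g hg
      refine FusionSys.mem_normalizer_of_conj_mem g (key g hg) fun v hv => ?_
      have := key g⁻¹ (S.inv_mem hg) v hv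
      rwa [inv_inv] at this
    obtain ⟨c', hcR, hcp, hcc'⟩ := LECharP.exists_central_in_normal (hS.to_subgroup ⊤) _ (R.subgroupOf S)
      le_rfl le_top
      (fun g _ => by
        rw [Subgroup.mem_normalizer_iff]
        intro v
        exact (Subgroup.mem_normalizer_iff.1 (hRn g.2) v))
      (fun h => by
        have h' := Subgroup.mem_bot.1 (h.le (show (⟨z, hQS hzQ⟩ : ↥S) ∈ R.subgroupOf S from
          Subgroup.mem_zpowers z))
        have h'' : z = 1 := congrArg Subtype.val h'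
        rw [h'', orderOf_one] at hord
        exact hpp.ne_one hord.symm)
    obtain ⟨c, hc⟩ := c'
    rw [Subgroup.orderOf_mk] at hcp
    rw [Subgroup.mem_subgroupOf] at hcR
    have hcc : ∀ s ∈ S, s * c = c * s := fun s hs => congrArg Subtype.val (hcc' ⟨s, hs⟩ (Subgroup.mem_top _))
    have hc1 : c ≠ 1 := fun h => by rw [h, orderOf_one] at hcp; exact hpp.ne_one hcp.symm
    have hxR : x ∈ R := hCQ x hx.1 hx.2
    obtain ⟨n, rfl⟩ := hxR
    obtain ⟨i, rfl⟩ := hcR
    have hzi : z ∈ Subgroup.zpowers (z ^ i) := by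
      have hle' : Subgroup.zpowers (z ^ i) ≤ Subgroup.zpowers z := Subgroup.zpowers_le.2 ⟨i, rfl⟩
      haveI : Finite ↥(Subgroup.zpowers z) := FusionSys.finite_of_le hRS
      rw [Subgroup.eq_of_le_of_card_ge hle' (by rw [Nat.card_zpowers, Nat.card_zpowers, hcp, hord])]
      exact Subgroup.mem_zpowers z
    obtain ⟨k, hk⟩ := hzi
    refine FusionSys.ExtraCentre.mem_zs.2 ⟨S.zpow_mem (hQS hzQ) n, fun s hs => ?_⟩
    exact (Commute.zpow_right (hk ▸ Commute.zpow_right (hcc s hs) k) n).eq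
  · exfalso
    obtain ⟨y, hy, hyQ⟩ := SetLike.not_le_iff_exists.1 hle
    have hyS : y ∈ S := hy.1
    have hyc : ∀ s ∈ S, s * y = y * s := (FusionSys.ExtraCentre.mem_zs.1 hy).2
    have hyn : Subgroup.zpowers y ≤ Subgroup.normalizer (Q : Set Ω) :=
      Subgroup.zpowers_le.2 (hQn hyS)
    have hsup : S ≤ Q ⊔ Subgroup.zpowers y := by
      rw [← Subgroup.subgroupOf_eq_top, ← Subgroup.index_eq_one]
      set K := Q ⊔ Subgroup.zpowers y
      have hd := Subgroup.index_dvd_of_le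
        (Subgroup.comap_mono (f := S.subtype) (le_sup_left : Q ≤ K) : Q.subgroupOf S ≤ K.subgroupOf S)
      rw [show (Subgroup.comap S.subtype Q).index = p from hQi] at hd
      rcases (Nat.dvd_prime hpp).1 hd with h | h
      · exact h
      · exfalso
        have hlt : Q.subgroupOf S < K.subgroupOf S :=
          lt_of_le_of_ne (Subgroup.comap_mono le_sup_left) fun he =>
            hyQ (Subgroup.mem_subgroupOf.1 (he.ge (show (⟨y, hyS⟩ : ↥S) ∈ K.subgroupOf S from
              Subgroup.mem_sup_right (Subgroup.mem_zpowers y))))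
        have := Subgroup.index_strictAnti hlt
        rw [hQi, show (K.subgroupOf S).index = p from h] at this
        exact lt_irrefl _ this
    have hdec : ∀ s ∈ S, ∃ q ∈ Q, ∃ n : ℤ, s = q * y ^ n := by
      intro s hs
      have h : s ∈ ((Q ⊔ Subgroup.zpowers y : Subgroup Ω) : Set Ω) := hsup hs
      rw [Subgroup.coe_mul_of_right_le_normalizer_left Q _ hyn, Set.mem_mul] at h
      obtain ⟨q, hq, v, ⟨n, rfl⟩, rfl⟩ := h
      exact ⟨q, hq, n, rfl⟩
    have hCtx : FusionSys.ExtraCentre.Ctx S p z := by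
      refine ⟨hQS hzQ, fun s hs => ?_, hord, fun g hg x hx => ?_⟩
      · obtain ⟨q, hq, n, rfl⟩ := hdec s hs
        exact ((show Commute q z from hzc q hq).mul_left
          (Commute.zpow_left (show Commute y z from (hyc z (hQS hzQ)).symm) n)).eq
      · obtain ⟨q, hq, n, rfl⟩ := hdec g hg
        obtain ⟨r, hr, m, rfl⟩ := hdec x hx
        obtain ⟨i, hi⟩ := hcomQ q hq r hr
        refine ⟨i, ?_⟩
        have hyy : ∀ (a : Ω), a ∈ S → ∀ l : ℤ, Commute (y ^ l) a := fun a ha l =>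
          Commute.zpow_left (show Commute y a from (hyc a ha).symm) l
        have hxS := S.mul_mem (hQS hr) (S.zpow_mem hyS m)
        calc q * y ^ n * (r * y ^ m) * (q * y ^ n)⁻¹ = q * (y ^ n * (r * y ^ m)) * (y ^ n)⁻¹ * q⁻¹ := by group
          _ = q * r * (y ^ m * q⁻¹) := by rw [(hyy _ hxS n).eq]; group
          _ = q * r * q⁻¹ * r⁻¹ * r * y ^ m := by rw [(hyy _ (S.inv_mem (hQS hq)) m).eq]; group
          _ = r * y ^ m * z ^ i := by
            rw [hi, ← (Commute.zpow_right (show Commute r z from hzc r hr) i).eq, mul_assoc,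
              ← (hyy _ (S.zpow_mem (hQS hzQ) i) m).eq, ← mul_assoc]
    obtain ⟨N, hN, hNn⟩ := FusionSys.ExtraCentre.exists_normal hS hF hCtx hp hQna hy
      (fun h => hyQ (Subgroup.zpowers_le.2 hzQ h))
    exact hN (le_bot_iff.1 ((le_sSup (show N ∈ {N | F.IsNormal N} from hNn)).trans hO.le))

end Cfsg.Agent.S5178
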