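import Cfsg.Statements.S5185
import Cfsg.Agent.Lib.Fusion.Alperin
import Cfsg.Agent.Lib.OddOrder.RankTwoAut
import Cfsg.Agent.Lib.PStable.DicksonMain
open Cfsg Cfsg.FusionSystem Cfsg.Agent.FusionSys
open scoped commutatorElement

set_option autoImplicit false
universe u
open Cfsg

namespace Cfsg.Agent.S5185

theorem card_sl22 : Fintype.card (Matrix.SpecialLinearGroup (Fin 2) (ZMod 2)) = 6 := by decide +kernel

/-- A subgroup of `GL₂(p)` with at least two Sylow `p`-subgroups contains a copy of `SL₂(p)`. -/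
theorem exists_sl2_of_two_sylow {p : ℕ} [Fact p.Prime] {A : Type*} [Group A] [Finite A]
    (f : A →* Matrix.GeneralLinearGroup (Fin 2) (ZMod p)) (hf : Function.Injective f)
    (h : 1 < Nat.card (Sylow p A)) :
    ∃ K : Subgroup A, Nonempty (K ≃* Matrix.SpecialLinearGroup (Fin 2) (ZMod p)) := by
  classical
  set toGL := Matrix.SpecialLinearGroup.toGL (n := Fin 2) (R := ZMod p)
  set H₀ : Subgroup (Matrix.SpecialLinearGroup (Fin 2) (ZMod p)) := f.range.comap toGL with hH₀
  have htoGL : Function.Injective toGL := fun a b hab => Subtype.ext (congrArg Units.val hab)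
  -- elements of `p`-power order lie in `SL₂`
  have hsl : ∀ a : A, (∃ k, orderOf a = p ^ k) → ∃ x, toGL x = f a := by
    rintro a ⟨k, hk⟩
    refine ⟨⟨(f a : Matrix (Fin 2) (Fin 2) (ZMod p)), ?_⟩, Units.ext rfl⟩
    have h1 : orderOf (Matrix.GeneralLinearGroup.det (f a)) ∣ p ^ k :=
      hk ▸ (orderOf_map_dvd _ _).trans (orderOf_map_dvd f a)
    have h2 : orderOf (Matrix.GeneralLinearGroup.det (f a)) ∣ p - 1 := by
      have := orderOf_dvd_card (x := Matrix.GeneralLinearGroup.det (f a))
      rwa [ZMod.card_units] at this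
    have hco : (p ^ k).Coprime (p - 1) := Nat.Coprime.pow_left k
      (((Fact.out : p.Prime).coprime_iff_not_dvd).2 fun hd => by
        have := (Fact.out : p.Prime).two_le
        have := Nat.le_of_dvd (by omega) hd
        omega)
    have h3 := congrArg Units.val (orderOf_eq_one_iff.1 (Nat.eq_one_of_dvd_coprimes hco h1 h2))
    simpa using h3
  have hlift : ∀ P : Sylow p A, ∃ Q : Subgroup H₀, IsPGroup p Q ∧
      (Q.map H₀.subtype).map toGL = (P : Subgroup A).map f := by
    intro P
    refine ⟨((P : Subgroup A).map f).comap (toGL.comp H₀.subtype),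
      ((P.2.map f).comap_of_injective _ (htoGL.comp Subtype.val_injective)), le_antisymm ?_ ?_⟩
    · rintro _ ⟨_, ⟨x, hx, rfl⟩, rfl⟩; exact hx
    · rintro _ ⟨a, ha, rfl⟩
      obtain ⟨k, hk⟩ := IsPGroup.iff_orderOf.1 P.2 ⟨a, ha⟩
      obtain ⟨x, hx⟩ := hsl a ⟨k, by rwa [Subgroup.orderOf_mk] at hk⟩
      exact ⟨x, ⟨⟨x, ⟨a, hx.symm⟩⟩, ⟨a, ha, hx.symm⟩, rfl⟩, hx⟩
  have h2 : 1 < Nat.card (Sylow p H₀) := by
    by_contra hle
    haveI : Subsingleton (Sylow p H₀) := Finite.card_le_one_iff_subsingleton.1 (not_lt.1 hle)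
    refine absurd h (not_lt.2 (Finite.card_le_one_iff_subsingleton.2 ⟨fun P P' => ?_⟩))
    obtain ⟨Q, hQ, hQe⟩ := hlift P
    obtain ⟨Q', hQ', hQe'⟩ := hlift P'
    obtain ⟨R, hR⟩ := hQ.exists_le_sylow
    obtain ⟨R', hR'⟩ := hQ'.exists_le_sylow
    rw [← Subsingleton.elim R R'] at hR'
    -- both are `p`-subgroups containing the image
    have key : ∀ (P : Sylow p A) (Q : Subgroup H₀), (Q.map H₀.subtype).map toGL = (P : Subgroup A).map f →
        Q ≤ R → (((R : Subgroup H₀).map H₀.subtype).map toGL).comap f = P := by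
      intro P Q hQe hQR
      refine P.3 ((((R.2.map _).map _)).comap_of_injective f hf) fun a ha => ?_
      show f a ∈ ((R : Subgroup H₀).map H₀.subtype).map toGL
      exact Subgroup.map_mono (Subgroup.map_mono hQR) (hQe.ge ⟨a, ha, rfl⟩)
    exact Sylow.ext ((key P Q hQe hR).symm.trans (key P' Q' hQe' hR'))
  obtain ⟨K, hK, ⟨e⟩⟩ : ∃ K : Subgroup (Matrix.SpecialLinearGroup (Fin 2) (ZMod p)), K ≤ H₀ ∧
      Nonempty (K ≃* Matrix.SpecialLinearGroup (Fin 2) (ZMod p)) := by
    by_cases hp2 : p = 2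
    · subst hp2
      have htop : H₀ = ⊤ := by
        refine Subgroup.eq_top_of_card_eq _ ?_
        have hd : Nat.card H₀ ∣ 6 := by
          have := H₀.card_subgroup_dvd_card
          rwa [Nat.card_eq_fintype_card (α := Matrix.SpecialLinearGroup (Fin 2) (ZMod 2)), card_sl22] at this
        rw [Nat.card_eq_fintype_card (α := Matrix.SpecialLinearGroup (Fin 2) (ZMod 2)), card_sl22]
        obtain ⟨R⟩ := (inferInstance : Nonempty (Sylow 2 H₀))
        have hidx := R.card_dvd_index
        have hle : Nat.card H₀ ≤ 6 := Nat.le_of_dvd (by norm_num) hd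
        have hmul := (R : Subgroup H₀).card_mul_index
        have hmod := card_sylow_modEq_one 2 H₀
        have hpos : 0 < Nat.card (R : Subgroup H₀) := Nat.card_pos
        have hR2 : Nat.card (R : Subgroup H₀) ≠ 1 := fun h1 => by
          have hbot : ∀ T : Sylow 2 H₀, (T : Subgroup H₀) = ⊥ := fun T => Subgroup.eq_bot_of_card_eq _
            (by rw [T.card_eq_multiplicity, ← R.card_eq_multiplicity, h1])
          haveI : Subsingleton (Sylow 2 H₀) := ⟨fun a b => Sylow.ext ((hbot a).trans (hbot b).symm)⟩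
          exact absurd h2 (not_lt.2 (Finite.card_le_one_iff_subsingleton.2 inferInstance))
        have hs : 3 ≤ Nat.card (Sylow 2 H₀) := by
          unfold Nat.ModEq at hmod; omega
        have hi : 3 ≤ (R : Subgroup H₀).index :=
          hs.trans (Nat.le_of_dvd (Nat.pos_of_ne_zero Subgroup.index_ne_zero_of_finite) hidx)
        exact Nat.le_antisymm hle (hmul ▸ Nat.mul_le_mul (show 2 ≤ Nat.card (R : Subgroup H₀) by omega) hi)
      exact ⟨H₀, le_rfl, ⟨htop ▸ Subgroup.topEquiv⟩⟩
    · exact Cfsg.Agent.PStable.exists_sl2_le hp2 (Cfsg.Agent.PStable.hasTwo_of_sylow h2)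
  refine ⟨(K.map toGL).comap f, ⟨((MulEquiv.ofBijective ((f.comp ((K.map toGL).comap f).subtype).codRestrict (K.map toGL)
    fun x => x.2) ⟨fun a b hab => Subtype.ext (hf (congrArg Subtype.val hab)), ?_⟩).trans
    (K.equivMapOfInjective toGL htoGL).symm).trans e⟩⟩
  rintro ⟨_, x, hx, rfl⟩
  obtain ⟨a, ha⟩ := hK hx
  exact ⟨⟨a, x, hx, ha.symm⟩, Subtype.ext ha⟩

/-- Let F be a saturated fusion system over a finite p-group S and H an essential subgroup of order p². Then H is elementary abelian (isomorphic to C_p × C_p) and its F-automorphism group contains a subgroup isomorphic to SL(2,p). -/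
theorem result {Ω : Type u} [Group Ω] {S : Subgroup Ω} [Finite S] (p : ℕ) [Fact p.Prime] (hS : IsPGroup p S)
    (F : Cfsg.FusionSystem S) (hF : F.IsSaturated p) (H : Subgroup Ω) (hH : F.IsEssential p H) (hcard : Nat.card H = p ^ 2) :
    Cfsg.IsElementaryAbelian p H ∧
      ∃ K : Subgroup ↥(F.autGroup H), Nonempty (↥K ≃* Matrix.SpecialLinearGroup (Fin 2) (ZMod p)) := by
  haveI := finite_of_le hH.1.1
  have hrad := (essential_radical hS hF hH).2
  obtain ⟨hn, M, hM⟩ := hH.2.2
  have hcomm : ∀ a b : H, a * b = b * a := fun a b => IsPGroup.commutative_of_card_eq_prime_sq hcard a b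
  have hInn : Inn H = ⊥ := by
    rw [eq_bot_iff]
    intro a ha
    rw [inn_eq_autInducedBy_self, mem_autInducedBy_iff] at ha
    obtain ⟨g, hg, hge⟩ := ha
    refine Subgroup.mem_bot.2 (MulEquiv.ext fun x => Subtype.ext ?_)
    have h2 : g * (x : Ω) = x * g := congrArg Subtype.val (hcomm ⟨g, hg⟩ x)
    rw [hge, h2, mul_inv_cancel_right]; rfl
  have hcore : pCore p (F.autGroup H) = ⊥ := by
    rw [hInn] at hrad
    exact (Subgroup.map_eq_bot_iff_of_injective _ (F.autGroup H).subtype_injective).1 hrad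
  have hdvd : p ∣ Nat.card (F.autGroup H) := by
    refine hM.1.trans (Dvd.intro (Nat.card ((Inn H).subgroupOf (F.autGroup H))) ?_)
    exact (Subgroup.card_eq_card_quotient_mul_card_subgroup _).symm
  have hsyl : 1 < Nat.card (Sylow p (F.autGroup H)) := by
    by_contra hle
    haveI : Subsingleton (Sylow p (F.autGroup H)) := Finite.card_le_one_iff_subsingleton.1 (not_lt.1 hle)
    obtain ⟨P⟩ := (inferInstance : Nonempty (Sylow p (F.autGroup H)))
    have hPn : (P : Subgroup (F.autGroup H)).Normal := Sylow.normal_of_subsingleton P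
    exact P.ne_bot_of_dvd_card hdvd (le_bot_iff.1 (hcore ▸ Cfsg.Agent.PBasic.le_pCore hPn P.2))
  have hexp : ∀ x : H, x ^ p = 1 := by
    intro x
    by_contra hx
    haveI : IsCyclic H := by
      refine isCyclic_of_orderOf_eq_card x ?_
      have h1 : orderOf x ∣ p ^ 2 := hcard ▸ orderOf_dvd_natCard x
      obtain ⟨j, hj, hje⟩ := (Nat.dvd_prime_pow (Fact.out : p.Prime)).1 h1
      rw [hcard, hje]
      by_contra hne
      refine hx (orderOf_dvd_iff_pow_eq_one.1 (hje ▸ ?_))
      have : j ≤ 1 := by by_contra h'; exact hne (by rw [show j = 2 by omega])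
      exact (pow_dvd_pow p this).trans (pow_one p).dvd
    have hab : ∀ a b : MulAut H, a * b = b * a := by
      intro a b
      obtain ⟨g, hg⟩ := IsCyclic.exists_generator (α := H)
      obtain ⟨i, hi⟩ := Subgroup.mem_zpowers_iff.1 (hg (a g))
      obtain ⟨j, hj⟩ := Subgroup.mem_zpowers_iff.1 (hg (b g))
      refine MulEquiv.ext fun y => ?_
      obtain ⟨k, rfl⟩ := Subgroup.mem_zpowers_iff.1 (hg y)
      rw [map_zpow, map_zpow]
      congr 1
      show a (b g) = b (a g)
      rw [← hj, ← hi, map_zpow, map_zpow, ← hi, ← hj, ← zpow_mul, ← zpow_mul, mul_comm]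
    refine absurd hsyl (not_lt.2 (Finite.card_le_one_iff_subsingleton.2 ?_))
    obtain ⟨P⟩ := (inferInstance : Nonempty (Sylow p (F.autGroup H)))
    haveI : (P : Subgroup (F.autGroup H)).Normal := ⟨fun n hn g => by
      rw [show g * n = n * g from Subtype.ext (hab g n), mul_inv_cancel_right]; exact hn⟩
    exact ⟨fun a b => by haveI := Sylow.unique_of_normal P ‹_›; exact Subsingleton.elim a b⟩
  refine ⟨⟨⟨⟨hcomm⟩⟩, fun a ha => congrArg Subtype.val (hexp ⟨a, ha⟩)⟩, ?_⟩
  letI : CommGroup H := { (inferInstance : Group H) with mul_comm := hcomm }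
  obtain ⟨ρ, hρ⟩ := Cfsg.Agent.OddOrder.RankTwoAut.exists_rep (p := p) (V := H) hexp hcard.le
  exact exists_sl2_of_two_sylow (ρ.toHomUnits.comp (F.autGroup H).subtype)
    (fun a b hab => Subtype.ext (hρ (congrArg Units.val hab))) hsyl

end Cfsg.Agent.S5185
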