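import Cfsg.Statements.S5187
import Cfsg.Agent.Lib.Fusion.EssentialSmall
import Cfsg.Agent.Lib.FiniteGroup.FrattiniAut
import Cfsg.Agent.Lib.LocalEven.Frattini
open Cfsg.FusionSystem Cfsg.Agent.FusionSys
open scoped commutatorElement

set_option autoImplicit false
universe u
open Cfsg

namespace Cfsg.Agent.S5187

/-- Two generators without relations modulo Frattini in exponent `p^a` give a homocyclic group. -/
theorem two_gen_iso {p : ℕ} [Fact p.Prime] {H : Type*} [CommGroup H] [Finite H] {n a : ℕ} (hn : Nat.card H = p ^ n)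
    (hr : (frattini H).index = p ^ 2) (ha : ∀ x : H, x ^ p ^ a = 1) (ha0 : 0 < a)
    (hM : ∀ x : H, x ^ p ^ (a - 1) = 1 → x ∈ frattini H)
    (hΦ : ∀ x : H, x ∈ frattini H ↔ ∃ y, x = y ^ p) :
    Nonempty (H ≃* Multiplicative (ZMod (p ^ a) × ZMod (p ^ a))) := by
  classical
  have hp : p.Prime := Fact.out
  set Φ := frattini H with hΦdef
  obtain ⟨⟨t, ht⟩, -⟩ := Cfsg.Agent.FrattiniAut.exists_generators hn hr
  have htop := Cfsg.Agent.FrattiniAut.closure_eq_top ht
  haveI : NeZero (p ^ a) := ⟨pow_ne_zero a hp.ne_zero⟩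
  let one1 : ∀ g : H, Multiplicative (ZMod (p ^ a)) →* H := fun g =>
    { toFun := fun i => g ^ (Multiplicative.toAdd i).val
      map_one' := by simp
      map_mul' := fun i j => by
        show g ^ (Multiplicative.toAdd i + Multiplicative.toAdd j).val = _
        rw [ZMod.val_add, ← pow_add]
        exact (pow_mod_orderOf g _).symm.trans (by
          rw [Nat.mod_mod_of_dvd _ (orderOf_dvd_of_pow_eq_one (ha g)), pow_mod_orderOf]) }
  let e : Multiplicative (ZMod (p ^ a) × ZMod (p ^ a)) →* H :=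
    { toFun := fun v => one1 (t 0) (Multiplicative.ofAdd (Multiplicative.toAdd v).1) *
        one1 (t 1) (Multiplicative.ofAdd (Multiplicative.toAdd v).2)
      map_one' := by simp
      map_mul' := fun v w => by
        simp only [toAdd_mul, Prod.fst_add, Prod.snd_add, ofAdd_add, map_mul]
        exact mul_mul_mul_comm _ _ _ _ }
  have hindep : ∀ u v : ℕ, (t 0) ^ u * (t 1) ^ v ∈ Φ → p ∣ u ∧ p ∣ v := by
    have key : ∀ i j : Fin 2, i ≠ j → ∀ u v : ℕ, (t i) ^ u * (t j) ^ v ∈ Φ → p ∣ u := by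
      intro i j hij u v huv
      by_contra hu
      have hi : t i ∈ Subgroup.zpowers (t j) ⊔ Φ := by
        have h1 : (t i) ^ u ∈ Subgroup.zpowers (t j) ⊔ Φ := by
          have := mul_mem (Subgroup.mem_sup_right (S := Subgroup.zpowers (t j)) huv)
            (inv_mem (Subgroup.mem_sup_left (T := Φ) (Subgroup.npow_mem_zpowers (t j) v)))
          rwa [mul_inv_cancel_right] at this
        have h2 : (t i) ^ p ∈ Subgroup.zpowers (t j) ⊔ Φ := Subgroup.mem_sup_right ((hΦ _).2 ⟨_, rfl⟩)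
        have h3 := Nat.gcd_eq_gcd_ab u p
        have hg : Nat.gcd u p = 1 := ((hp.coprime_iff_not_dvd.2 hu).symm)
        rw [hg] at h3
        have h4 : (t i) ^ ((1 : ℕ) : ℤ) ∈ Subgroup.zpowers (t j) ⊔ Φ := by
          rw [h3, zpow_add, zpow_mul, zpow_mul, zpow_natCast, zpow_natCast]
          exact mul_mem (zpow_mem h1 _) (zpow_mem h2 _)
        simpa using h4
      have hle : Subgroup.zpowers (t j) ⊔ Φ = ⊤ := by
        rw [eq_top_iff, ← ht]
        refine sup_le ((Subgroup.closure_le _).2 ?_) le_sup_right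
        rintro _ ⟨k, rfl⟩
        rcases eq_or_ne k j with rfl | hk
        · exact Subgroup.mem_sup_left (Subgroup.mem_zpowers _)
        · obtain rfl : k = i := by omega
          exact hi
      have hcyc : Φ ⊔ Subgroup.zpowers (t j) = ⊤ := (sup_comm _ _).trans hle
      have hcard : Nat.card (H ⧸ Φ) ≤ p := by
        have hgen : ∀ q : H ⧸ Φ, q ∈ Subgroup.zpowers (t j : H ⧸ Φ) := by
          intro q
          obtain ⟨y, rfl⟩ := QuotientGroup.mk_surjective q
          obtain ⟨c, hc, d, hd, rfl⟩ := Subgroup.mem_sup.1 (hcyc.ge (Subgroup.mem_top y))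
          obtain ⟨m, rfl⟩ := Subgroup.mem_zpowers_iff.1 hd
          rw [QuotientGroup.mk_mul, (QuotientGroup.eq_one_iff c).2 hc, one_mul, QuotientGroup.mk_zpow]
          exact zpow_mem (Subgroup.mem_zpowers _) m
        rw [← orderOf_eq_card_of_forall_mem_zpowers hgen]
        refine orderOf_le_of_pow_eq_one hp.pos ?_
        rw [← QuotientGroup.mk_pow, QuotientGroup.eq_one_iff]
        exact (hΦ _).2 ⟨_, rfl⟩
      rw [← Subgroup.index_eq_card, hr] at hcard
      exact absurd hcard (not_le.2 (by nlinarith [hp.two_le]))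
    exact fun u v huv => ⟨key 0 1 (by decide) u v huv, key 1 0 (by decide) v u (by rwa [mul_comm])⟩
  have hker : ∀ u v : ℕ, (t 0) ^ u * (t 1) ^ v = 1 → ∀ k ≤ a, p ^ k ∣ u ∧ p ^ k ∣ v := by
    intro u v huv k
    induction k with
    | zero => intro _; simp
    | succ k ih =>
      intro hk
      obtain ⟨⟨u', rfl⟩, ⟨v', rfl⟩⟩ := ih (by omega)
      have h1 : (t 0) ^ u' * (t 1) ^ v' ∈ Φ := by
        refine hM _ ?_
        rw [show a - 1 = k + (a - 1 - k) by omega, pow_add p, pow_mul, mul_pow, ← pow_mul, ← pow_mul,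
          mul_comm u', mul_comm v', huv, one_pow]
      obtain ⟨hu, hv⟩ := hindep u' v' h1
      exact ⟨pow_succ p k ▸ mul_dvd_mul_left _ hu, pow_succ p k ▸ mul_dvd_mul_left _ hv⟩
  refine ⟨(MulEquiv.ofBijective e ⟨?_, ?_⟩).symm⟩
  · refine (injective_iff_map_eq_one e).2 fun v hv => ?_
    obtain ⟨h0, h1⟩ := hker _ _ hv a le_rfl
    refine Multiplicative.toAdd.injective (Prod.ext ?_ ?_)
    · exact (ZMod.val_eq_zero _).1 (Nat.eq_zero_of_dvd_of_lt h0 (ZMod.val_lt _))
    · exact (ZMod.val_eq_zero _).1 (Nat.eq_zero_of_dvd_of_lt h1 (ZMod.val_lt _))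
  · rw [← MonoidHom.range_eq_top, eq_top_iff, ← htop, Subgroup.closure_le]
    rintro _ ⟨k, rfl⟩
    have hlt : 1 < p ^ a := Nat.one_lt_pow ha0.ne' hp.one_lt
    haveI : Fact (1 < p ^ a) := ⟨hlt⟩
    fin_cases k
    · exact ⟨Multiplicative.ofAdd (1, 0), by simp [e, one1, ZMod.val_one]⟩
    · exact ⟨Multiplicative.ofAdd (0, 1), by simp [e, one1, ZMod.val_one]⟩

/-- An abelian `p`-group of rank at most two with a rich automorphism group is homocyclic. -/
theorem homocyclic {p : ℕ} [Fact p.Prime] {H : Type*} [CommGroup H] [Finite H] (hH : IsPGroup p H)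
    (hrk : (frattini H).index ≤ p ^ 2) (hno : ¬ IsPGroup p (commutator (MulAut H))) :
    ∃ a : ℕ, 0 < a ∧ (frattini H).index = p ^ 2 ∧ (∀ x : H, x ^ p ^ a = 1) ∧
      (∀ x : H, x ^ p ^ (a - 1) = 1 → x ∈ frattini H) ∧ (∀ x : H, x ∈ frattini H ↔ ∃ y, x = y ^ p) ∧
      Nonempty (H ≃* Multiplicative (ZMod (p ^ a) × ZMod (p ^ a))) := by
  classical
  have hp : p.Prime := Fact.out
  obtain ⟨n, hn⟩ := IsPGroup.iff_card.1 hH
  set Φ := frattini H with hΦdef
  let φ : H →* H := { toFun := fun x => x ^ p, map_one' := one_pow p, map_mul' := fun a b => mul_pow a b p }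
  have hΦ : ∀ x : H, x ∈ Φ ↔ ∃ y, x = y ^ p := by
    refine fun x => ⟨fun hx => ?_, ?_⟩
    · obtain ⟨y, hy⟩ := LEFrattini.frattini_le (p := p) (N := φ.range)
        (fun a b => by rw [commutatorElement_eq_one_iff_mul_comm.2 (mul_comm a b)]; exact one_mem _)
        (fun a => ⟨a, rfl⟩) hx
      exact ⟨y, hy.symm⟩
    · rintro ⟨y, rfl⟩; exact Cfsg.Agent.PGroupBasics.pow_mem_frattini hH y
  have hΦchar : Φ.Characteristic := inferInstance
  have htriv : ∀ γ : MulAut H, (∀ x, x⁻¹ * γ x ∈ Φ) → ∀ r : ℕ, Φ.index = p ^ r → ∃ k, γ ^ p ^ k = 1 := by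
    intro γ hγ r hr
    let A : Subgroup (MulAut H) :=
      { carrier := {δ | ∀ x, δ x * x⁻¹ ∈ Φ}
        one_mem' := fun x => by simp
        mul_mem' := fun {a b} ha hb x => by
          have := mul_mem (ha (b x)) (hb x)
          simpa [mul_assoc] using this
        inv_mem' := fun {a} ha x => by
          have := Φ.inv_mem (ha (a⁻¹ x))
          simpa using this }
    have hA : IsPGroup p A := by
      obtain ⟨j, -, hj⟩ := (Nat.dvd_prime_pow hp).1
        (Cfsg.Agent.FrattiniAut.card_dvd_of_trivial hn hr A fun α hα => hα)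
      exact IsPGroup.of_card hj
    obtain ⟨k, hk⟩ := hA ⟨γ, fun x => by rw [mul_comm]; exact hγ x⟩
    exact ⟨k, congrArg Subtype.val hk⟩
  obtain ⟨r, hr⟩ : ∃ r, Φ.index = p ^ r := by
    obtain ⟨r, -, hr⟩ := (Nat.dvd_prime_pow hp).1 (hn ▸ Φ.index_dvd_card)
    exact ⟨r, hr⟩
  have hr2 : r ≤ 2 := by
    rw [hr] at hrk
    exact (Nat.pow_le_pow_iff_right hp.one_lt).1 hrk
  -- no characteristic subgroup of index `p` above the Frattini subgroup
  have hnoM : ∀ M : Subgroup H, M.Characteristic → Φ ≤ M → Nat.card (M.map (QuotientGroup.mk' Φ)) ≤ p →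
      Nat.card ((⊤ : Subgroup H).map (QuotientGroup.mk' M)) ≤ p → False := by
    intro M hM hΦM h1 h2
    have gen : ∀ U V : Subgroup H, U ≤ V → Nat.card (V.map (QuotientGroup.mk' U)) ≤ p →
        ∃ x ∈ V, ∀ y ∈ V, ∃ k : ℤ, y * (x ^ k)⁻¹ ∈ U := by
      intro U V _ hc
      haveI : IsCyclic (V.map (QuotientGroup.mk' U)) := by
        obtain ⟨c, hc'⟩ := IsPGroup.iff_card.1 (((hH.to_quotient U).to_subgroup (V.map (QuotientGroup.mk' U))))
        rw [hc'] at hc
        have hc1 : c ≤ 1 := (Nat.pow_le_pow_iff_right hp.one_lt).1 (hc.trans (pow_one p).ge)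
        obtain rfl | rfl : c = 0 ∨ c = 1 := by omega
        · haveI : Subsingleton (V.map (QuotientGroup.mk' U)) :=
            Finite.card_le_one_iff_subsingleton.1 (le_of_eq (hc'.trans (pow_zero p)))
          infer_instance
        · exact isCyclic_of_prime_card (hc'.trans (pow_one p))
      obtain ⟨⟨g, hg⟩, hgen⟩ := IsCyclic.exists_generator (α := V.map (QuotientGroup.mk' U))
      obtain ⟨x, hx, rfl⟩ := hg
      refine ⟨x, hx, fun y hy => ?_⟩
      obtain ⟨k, hk⟩ := Subgroup.mem_zpowers_iff.1 (hgen ⟨_, y, hy, rfl⟩)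
      refine ⟨k, (QuotientGroup.eq_one_iff _).1 ?_⟩
      have hk' := congrArg Subtype.val hk
      simp only [Subgroup.coe_zpow] at hk'
      rw [QuotientGroup.mk_mul, QuotientGroup.mk_inv, QuotientGroup.mk_zpow, mul_inv_eq_one]
      exact hk'.symm
    obtain ⟨K, hK, hKs⟩ := exists_stabilizer_series (H := H)
      (fun i => if i = 0 then Φ else if i = 1 then M else ⊤) 2
      (fun i => by haveI := hM; split_ifs <;> infer_instance) (fun i hi => by
        interval_cases i
        · exact gen Φ M hΦM h1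
        · exact gen M ⊤ le_top h2)
    refine hno fun ⟨γ, hγ⟩ => ?_
    have e1 : ∀ x : H, x⁻¹ * γ x ∈ M := fun x => hKs γ (hK hγ) 1 (by norm_num) x trivial
    have e2 : ∀ x ∈ M, x⁻¹ * γ x ∈ Φ := hKs γ (hK hγ) 0 (by norm_num)
    have hq : ∀ x (j : ℕ), (((γ ^ j) x : H) : H ⧸ Φ) = (x : H ⧸ Φ) * ((x⁻¹ * γ x : H) : H ⧸ Φ) ^ j := by
      intro x j
      induction j with
      | zero => simp
      | succ j ih =>
        have h1 : (γ ^ (j + 1)) x = (γ ^ j) x * ((γ ^ j) (x⁻¹ * γ x)) := by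
          rw [pow_succ, MulAut.mul_apply, ← map_mul, mul_inv_cancel_left]
        have h2 : ∀ (i : ℕ) (m : H), m ∈ M → (((γ ^ i) m : H) : H ⧸ Φ) = (m : H ⧸ Φ) := by
          intro i
          induction i with
          | zero => intro m _; rfl
          | succ i ih =>
            intro m hm
            rw [pow_succ, MulAut.mul_apply]
            exact (ih _ (Subgroup.characteristic_iff_le_comap.1 hM γ hm)).trans (QuotientGroup.eq.2 (e2 m hm)).symm
        rw [h1, QuotientGroup.mk_mul, ih, h2 j _ (e1 x), pow_succ, mul_assoc]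
    obtain ⟨k, hk⟩ := htriv (γ ^ p) (fun x => by
      refine QuotientGroup.eq.1 ?_
      rw [hq, ← QuotientGroup.mk_pow, (QuotientGroup.eq_one_iff _).2 ((hΦ _).2 ⟨_, rfl⟩), mul_one]) r hr
    exact ⟨k + 1, Subtype.ext (by rw [pow_succ', pow_mul]; exact hk)⟩
  have hcardtop : ∀ U : Subgroup H, Nat.card ((⊤ : Subgroup H).map (QuotientGroup.mk' U)) = U.index := fun U => by
    rw [Subgroup.map_top_of_surjective _ (QuotientGroup.mk'_surjective U), Subgroup.card_top]; rfl
  have hr' : r = 2 := by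
    by_contra hne
    refine hnoM Φ hΦchar le_rfl ?_ ?_
    · rw [show Φ.map (QuotientGroup.mk' Φ) = ⊥ from
        (Subgroup.map_eq_bot_iff _).2 (QuotientGroup.ker_mk' Φ).ge, Subgroup.card_bot]
      exact hp.one_lt.le
    · rw [hcardtop, hr]
      exact (Nat.pow_le_pow_right hp.pos (by omega)).trans (pow_one p).le
  subst hr'
  have hex : ∃ a, ∀ x : H, x ^ p ^ a = 1 := ⟨n, fun x => hn ▸ pow_card_eq_one'⟩
  obtain ⟨a, ha, hmin⟩ : ∃ a, (∀ x : H, x ^ p ^ a = 1) ∧ ∀ b < a, ¬ ∀ x : H, x ^ p ^ b = 1 :=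
    ⟨Nat.find hex, Nat.find_spec hex, fun b hb => Nat.find_min hex hb⟩
  have ha0 : 0 < a := by
    by_contra h0
    have ha1 : ∀ x : H, x = 1 := fun x => by simpa [show a = 0 by omega] using ha x
    have : Φ = ⊤ := eq_top_iff.2 fun x _ => by rw [ha1 x]; exact one_mem _
    rw [this, Subgroup.index_top] at hr
    exact absurd hr.symm (Nat.one_lt_pow two_ne_zero hp.one_lt).ne'
  let ψ : H →* H :=
    { toFun := fun x => x ^ p ^ (a - 1), map_one' := one_pow _, map_mul' := fun a b => mul_pow a b _ }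
  have hMΦ : Φ ≤ ψ.ker := fun x hx => by
    obtain ⟨y, rfl⟩ := (hΦ x).1 hx
    show (y ^ p) ^ p ^ (a - 1) = 1
    rw [← pow_mul, ← pow_succ', show a - 1 + 1 = a by omega]
    exact ha y
  have hM : ψ.ker = Φ := by
    by_contra hne
    have hMc : ψ.ker.Characteristic := Subgroup.characteristic_iff_le_comap.2 fun α x hx => by
      show (α x) ^ p ^ (a - 1) = 1
      rw [← map_pow, show x ^ p ^ (a - 1) = 1 from hx, map_one]
    obtain ⟨j, hj2, hj⟩ := (Nat.dvd_prime_pow hp).1 (hr ▸ Subgroup.index_dvd_of_le hMΦ)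
    have hmul := Subgroup.relIndex_mul_index hMΦ
    rw [hr, hj] at hmul
    have hj1 : j = 1 := by
      obtain rfl | rfl | rfl : j = 0 ∨ j = 1 ∨ j = 2 := by omega
      · exact absurd (fun x => show x ∈ ψ.ker by rw [Subgroup.index_eq_one.1 (hj.trans (pow_zero p))]; trivial)
          (hmin (a - 1) (by omega))
      · rfl
      · refine absurd (le_antisymm ?_ hMΦ) hne
        refine Subgroup.relIndex_eq_one.1 ?_
        exact Nat.eq_of_mul_eq_mul_right (pow_pos hp.pos 2) (by rw [one_mul]; exact hmul)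
    subst hj1
    refine hnoM ψ.ker hMc hMΦ ?_ (by rw [hcardtop, hj, pow_one])
    have h1 : Φ.relIndex ψ.ker = p := Nat.eq_of_mul_eq_mul_right (pow_pos hp.pos 1)
      (by rw [hmul, pow_one, sq])
    rw [← h1, ← Subgroup.relIndex_ker, QuotientGroup.ker_mk']
  have hM' : ∀ x : H, x ^ p ^ (a - 1) = 1 → x ∈ frattini H := fun x hx => hM.le (show x ∈ ψ.ker from hx)
  exact ⟨a, ha0, hr, ha, hM', hΦ, two_gen_iso hn hr ha ha0 hM' hΦ⟩


/-- An automorphism of order `p ≥ 5` of a homocyclic group of rank two, exponent `≥ p²`, is trivial mod Frattini. -/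
theorem trivial_mod_frattini {p : ℕ} [Fact p.Prime] (h5 : 5 ≤ p) {H : Type*} [CommGroup H] [Finite H]
    {a : ℕ} (ha2 : 2 ≤ a) (hr : (frattini H).index = p ^ 2)
    (hM : ∀ x : H, x ^ p ^ (a - 1) = 1 → x ∈ frattini H)
    (hΦ : ∀ x : H, x ∈ frattini H ↔ ∃ y, x = y ^ p)
    (α : MulAut H) (hα : α ^ p = 1) : ∀ x, x⁻¹ * α x ∈ frattini H := by
  classical
  have hp : p.Prime := Fact.out
  let A := Additive H
  let f : AddMonoid.End A := (α : H →* H).toAdditive
  let N : AddMonoid.End A := f - 1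
  have hf1 : f = N + 1 := (sub_add_cancel f 1).symm
  have hfpow : ∀ (k : ℕ) (x : H), (f ^ k) (Additive.ofMul x) = Additive.ofMul ((α ^ k) x) := by
    intro k
    induction k with
    | zero => exact fun x => rfl
    | succ k ih => intro x; rw [pow_succ, pow_succ, MulAut.mul_apply]; exact ih (α x)
  have hN : ∀ x : H, N (Additive.ofMul x) = Additive.ofMul (x⁻¹ * α x) := by
    intro x
    show f (Additive.ofMul x) - Additive.ofMul x = _
    rw [mul_comm, ofMul_mul, ofMul_inv, ← sub_eq_add_neg]; rfl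
  -- images of the powers of `N` modulo the Frattini subgroup
  let Q : AddSubgroup A := (nsmulAddMonoidHom p : A →+ A).range
  have hQ : ∀ x : H, Additive.ofMul x ∈ Q ↔ x ∈ frattini H := by
    intro x
    rw [hΦ x]
    exact ⟨fun ⟨y, hy⟩ => ⟨Additive.toMul y, (Additive.ofMul.injective hy).symm⟩,
      fun ⟨y, hy⟩ => ⟨Additive.ofMul y, by rw [hy]; rfl⟩⟩
  have hexp : ∀ (x : A), (f ^ p) x = x := fun x => by
    rw [show x = Additive.ofMul (Additive.toMul x) from rfl, hfpow, hα]; rfl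
  let ev : A → (AddMonoid.End A →+ A) := fun x => { toFun := fun g => g x, map_zero' := rfl, map_add' := fun _ _ => rfl }
  have hsum : ∀ x : A, x = ∑ m ∈ Finset.range (p + 1), p.choose m • (N ^ m) x := by
    intro x
    conv_lhs => rw [← hexp x, hf1, (Commute.one_right N).add_pow]
    show ev x _ = _
    rw [map_sum]
    refine Finset.sum_congr rfl fun m _ => ?_
    show (N ^ m * 1 ^ (p - m) * (p.choose m : AddMonoid.End A)) x = _
    rw [one_pow, mul_one]
    show (N ^ m) ((p.choose m : AddMonoid.End A) x) = _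
    rw [AddMonoid.End.natCast_apply, map_nsmul]
  have hNQ : ∀ (g : AddMonoid.End A), ∀ x ∈ Q, g x ∈ Q := by
    rintro g _ ⟨y, rfl⟩
    exact ⟨g y, (map_nsmul g p y).symm⟩
  have hNp : ∀ x : A, (N ^ p) x ∈ Q := by
    intro x
    have h := hsum x
    rw [Finset.sum_range_succ, Finset.range_eq_Ico, Finset.sum_eq_sum_Ico_succ_bot hp.pos] at h
    simp only [Nat.choose_zero_right, Nat.choose_self, one_smul, pow_zero, AddMonoid.End.coe_one, id_eq,
      zero_add] at h
    rw [add_assoc, left_eq_add] at h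
    have : (∑ m ∈ Finset.Ico 1 p, p.choose m • (N ^ m) x) ∈ Q := Q.sum_mem fun m hm => by
      obtain ⟨h1, h2⟩ := Finset.mem_Ico.1 hm
      obtain ⟨c, hc⟩ := hp.dvd_choose_self (by omega) h2
      exact ⟨c • (N ^ m) x, by rw [hc, mul_smul]; rfl⟩
    rw [eq_neg_of_add_eq_zero_right h]
    exact Q.neg_mem this
  -- `N ^ 2` maps into `Q`
  let R : ℕ → AddSubgroup A := fun k => (N ^ k : AddMonoid.End A).range ⊔ Q
  have hRanti : ∀ k, R (k + 1) ≤ R k := by
    refine fun k => sup_le ?_ le_sup_right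
    rintro _ ⟨y, rfl⟩
    rw [pow_succ]
    exact AddSubgroup.mem_sup_left ⟨N y, rfl⟩
  let N' : A →+ A := N
  have hRstep : ∀ k, R (k + 1) = AddSubgroup.map N' (R k) ⊔ Q := by
    intro k
    refine le_antisymm (sup_le ?_ le_sup_right) (sup_le ?_ le_sup_right)
    · rintro _ ⟨y, rfl⟩
      refine AddSubgroup.mem_sup_left ⟨(N ^ k) y, AddSubgroup.mem_sup_left ⟨y, rfl⟩, ?_⟩
      rw [pow_succ']; rfl
    · rintro _ ⟨w, hw, rfl⟩
      obtain ⟨_, ⟨y, rfl⟩, q, hq, rfl⟩ := AddSubgroup.mem_sup.1 hw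
      rw [map_add]
      refine add_mem (AddSubgroup.mem_sup_left ⟨y, ?_⟩) (AddSubgroup.mem_sup_right (hNQ N q hq))
      rw [pow_succ']; rfl
  have hRp : R p = Q := sup_eq_right.2 (by rintro _ ⟨y, rfl⟩; exact hNp y)
  have hstab : ∀ k, R (k + 1) = R k → k ≤ p → R k = Q := by
    intro k hk hkp
    have : ∀ j, R (k + j) = R k := by
      intro j
      induction j with
      | zero => rfl
      | succ j ih => rw [← add_assoc, hRstep, ih, ← hRstep, hk]
    rw [← this (p - k), Nat.add_sub_cancel' hkp, hRp]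
  have hQi : Q.index = p ^ 2 := by
    rw [← hr]
    have : Q = Subgroup.toAddSubgroup (frattini H) := AddSubgroup.ext fun x => hQ (Additive.toMul x)
    rw [this]; exact Subgroup.index_toAddSubgroup
  have hN2 : R 2 = Q := by
    by_contra hne
    have h0 : ∀ k ≤ 2, R k ≠ Q := fun k hk h => hne (le_antisymm (h ▸ (by
      interval_cases k
      · exact (hRanti 1).trans (hRanti 0)
      · exact hRanti 1
      · exact le_rfl)) le_sup_right)
    have hd : ∀ k ≤ 2, p * (R k).index ≤ (R (k + 1)).index := by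
      intro k hk
      obtain ⟨i, hi2, hi⟩ := (Nat.dvd_prime_pow hp).1 (hQi ▸ AddSubgroup.index_dvd_of_le (le_sup_right : Q ≤ R k))
      obtain ⟨j, hj2, hj⟩ := (Nat.dvd_prime_pow hp).1
        (hQi ▸ AddSubgroup.index_dvd_of_le (le_sup_right : Q ≤ R (k + 1)))
      rw [hi, hj, ← pow_succ']
      refine Nat.pow_le_pow_right hp.pos (Nat.succ_le_of_lt ((Nat.pow_lt_pow_iff_right hp.one_lt).1 ?_))
      rw [← hi, ← hj]
      exact AddSubgroup.index_strictAnti (lt_of_le_of_ne (hRanti k) fun h => h0 k hk (hstab k h (by omega)))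
    have h3 : (R 3).index ≤ p ^ 2 := hQi ▸ Nat.le_of_dvd (hQi ▸ pow_pos hp.pos 2)
      (AddSubgroup.index_dvd_of_le (le_sup_right : Q ≤ R 3))
    have h0i : 0 < (R 0).index := Nat.pos_of_ne_zero AddSubgroup.index_ne_zero_of_finite
    have e0 : p ^ 3 ≤ p * (p * (p * (R 0).index)) := by
      refine le_of_le_of_eq (Nat.le_mul_of_pos_right (p ^ 3) h0i) ?_
      ring
    have e : p ^ 3 ≤ p ^ 2 := calc p ^ 3 ≤ p * (p * (p * (R 0).index)) := e0
      _ ≤ p * (p * (R 1).index) := Nat.mul_le_mul_left p (Nat.mul_le_mul_left p (hd 0 (by norm_num)))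
      _ ≤ p * (R 2).index := Nat.mul_le_mul_left p (hd 1 (by norm_num))
      _ ≤ (R 3).index := hd 2 le_rfl
      _ ≤ p ^ 2 := h3
    exact absurd ((Nat.pow_le_pow_iff_right hp.one_lt).1 e) (by norm_num)
  let Q2 : AddSubgroup A := (nsmulAddMonoidHom (p * p) : A →+ A).range
  have hN2' : ∀ x, (N ^ 2) x ∈ Q := fun x => hN2 ▸ AddSubgroup.mem_sup_left ⟨x, rfl⟩
  have hhi : ∀ x (m : ℕ), 4 ≤ m → (N ^ m) x ∈ Q2 := by
    intro x m hm
    have hsplit : N ^ m = N ^ (m - 4) * (N ^ 2 * N ^ 2) := by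
      rw [← pow_add, ← pow_add]; congr 1; omega
    obtain ⟨y, hy⟩ := hN2' x
    obtain ⟨z, hz⟩ := hN2' y
    refine ⟨(N ^ (m - 4)) z, ?_⟩
    show (p * p) • (N ^ (m - 4)) z = _
    rw [hsplit]
    show _ = (N ^ (m - 4)) ((N ^ 2) ((N ^ 2) x))
    rw [← hy]
    show _ = (N ^ (m - 4)) ((N ^ 2) (p • y))
    rw [map_nsmul, ← hz]
    show _ = (N ^ (m - 4)) (p • (p • z))
    rw [← mul_smul, map_nsmul]
  intro x
  rw [← hQ, ← hN]
  set X := Additive.ofMul x
  have h := hsum X
  rw [Finset.sum_range_succ, Finset.range_eq_Ico, Finset.sum_eq_sum_Ico_succ_bot hp.pos,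
    Finset.sum_eq_sum_Ico_succ_bot hp.one_lt] at h
  simp only [Nat.choose_zero_right, Nat.choose_self, Nat.choose_one_right, one_smul, pow_zero, pow_one,
    AddMonoid.End.coe_one, id_eq, zero_add] at h
  rw [add_assoc, left_eq_add, add_assoc] at h
  have hrest : (∑ m ∈ Finset.Ico (1 + 1) p, p.choose m • (N ^ m) X) + (N ^ p) X ∈ Q2 := by
    refine Q2.add_mem (Q2.sum_mem fun m hm => ?_) (hhi X p (by omega))
    obtain ⟨h1, h2⟩ := Finset.mem_Ico.1 hm
    obtain ⟨c, hc⟩ := hp.dvd_choose_self (by omega) h2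
    have hm2 : (N ^ m) X ∈ Q := by
      rw [show m = (m - 2) + 2 by omega, pow_add]
      exact (hNQ (N ^ (m - 2)) _ (hN2' X) : (N ^ (m - 2)) ((N ^ 2) X) ∈ Q)
    obtain ⟨y, hy⟩ := hm2
    refine ⟨c • y, ?_⟩
    show (p * p) • c • y = _
    rw [hc, ← hy]
    show _ = (p * c) • p • y
    rw [← mul_smul, ← mul_smul]; congr 1; ring
  obtain ⟨z, hz⟩ := Q2.neg_mem hrest
  have hpN : p • N X = (p * p) • z := (eq_neg_of_add_eq_zero_left h).trans hz.symm
  have h1 : p • (N X - p • z) = 0 := by rw [smul_sub, hpN, ← mul_smul, sub_self]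
  have h2 : N X - p • z ∈ Q := by
    rw [show N X - p • z = Additive.ofMul (Additive.toMul (N X - p • z)) from rfl, hQ]
    refine hM _ ?_
    rw [show a - 1 = 1 + (a - 2) by omega, pow_add, pow_one, pow_mul]
    rw [show Additive.toMul (N X - p • z) ^ p = 1 from Additive.ofMul.injective h1, one_pow]
  have := Q.add_mem h2 (⟨z, rfl⟩ : p • z ∈ Q)
  rwa [sub_add_cancel] at this

/-- Let F be a saturated fusion system over a finite p-group S and H an abelian essential subgroup that can be generated by two elements (its Frattini quotient has order at most p²). Then H is elementary abelian of order p², or p ≤ 3 and H is homocyclic of rank two, that is isomorphic to C_{pᵏ} × C_{pᵏ} for some k. -/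
theorem result {Ω : Type u} [Group Ω] {S : Subgroup Ω} [Finite S] (p : ℕ) [Fact p.Prime] (hS : IsPGroup p S)
    (F : Cfsg.FusionSystem S) (hF : F.IsSaturated p) (H : Subgroup Ω) (hH : F.IsEssential p H) (hab : IsMulCommutative ↥H) (hrk : (frattini ↥H).index ≤ p ^ 2) :
    (Cfsg.IsElementaryAbelian p H ∧ Nat.card H = p ^ 2) ∨
      (p ≤ 3 ∧ ∃ k : ℕ, Nonempty (↥H ≃* Multiplicative (ZMod (p ^ k) × ZMod (p ^ k)))) := by
  haveI := finite_of_le hH.1.1
  letI : CommGroup H := { (inferInstance : Group H) with mul_comm := hab.is_comm.comm }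
  have hHp : IsPGroup p H := hS.to_le hH.1.1
  obtain ⟨a, ha0, hr, hexp, hM, hΦ, hiso⟩ := homocyclic hHp hrk (not_isPGroup_commutator_mulAut hS hF hH)
  rcases (show a = 1 ∨ 2 ≤ a by omega) with rfl | ha2
  · refine Or.inl ⟨⟨hab, fun x hx => congrArg Subtype.val ((pow_one p) ▸ hexp ⟨x, hx⟩)⟩, ?_⟩
    obtain ⟨e⟩ := hiso
    rw [Nat.card_congr e.toEquiv, Nat.card_congr Multiplicative.toAdd, Nat.card_prod, Nat.card_zmod, pow_one, sq]
  · refine Or.inr ⟨?_, a, hiso⟩
    by_contra hp3
    have h5 : 5 ≤ p := by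
      have h : p.Prime := Fact.out
      by_contra hlt
      interval_cases p
      norm_num at h
    have hrad := (essential_radical hS hF hH).2
    obtain ⟨hn, M, hM'⟩ := hH.2.2
    have hInn : Inn H = ⊥ := by
      rw [eq_bot_iff]
      intro c hc
      rw [inn_eq_autInducedBy_self, mem_autInducedBy_iff] at hc
      obtain ⟨g, hg, hge⟩ := hc
      refine Subgroup.mem_bot.2 (MulEquiv.ext fun x => Subtype.ext ?_)
      have h2 : g * (x : Ω) = x * g := congrArg Subtype.val (mul_comm (⟨g, hg⟩ : H) x)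
      rw [hge, h2, mul_inv_cancel_right]; rfl
    obtain ⟨α, hα⟩ := exists_prime_orderOf_dvd_card' (G := F.autGroup H) p (hM'.1.trans (Dvd.intro
      (Nat.card ((Inn H).subgroupOf (F.autGroup H))) (Subgroup.card_eq_card_quotient_mul_card_subgroup _).symm))
    let K : Subgroup (F.autGroup H) :=
      { carrier := {δ | ∀ x : H, (δ : MulAut H) x * x⁻¹ ∈ frattini H}
        one_mem' := fun x => by simp
        mul_mem' := fun {c d} hc hd x => by
          have := mul_mem (hc ((d : MulAut H) x)) (hd x)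
          simpa [mul_assoc] using this
        inv_mem' := fun {c} hc x => by
          have := inv_mem (hc ((c : MulAut H)⁻¹ x))
          simpa using this }
    have hKn : K.Normal := ⟨fun k hk g x => by
      have hchar : (frattini H).Characteristic := inferInstance
      have := Subgroup.characteristic_iff_le_comap.1 hchar (g : MulAut H) (hk ((g : MulAut H)⁻¹ x))
      rw [Subgroup.mem_comap] at this
      simpa using this⟩
    have hKp : IsPGroup p K := by
      obtain ⟨n, hn'⟩ := IsPGroup.iff_card.1 hHp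
      obtain ⟨j, -, hj⟩ := (Nat.dvd_prime_pow (Fact.out : p.Prime)).1 (Cfsg.Agent.FrattiniAut.card_dvd_of_trivial hn' hr
        (K.map (F.autGroup H).subtype) (by rintro _ ⟨δ, hδ, rfl⟩; exact hδ))
      exact IsPGroup.of_card ((Subgroup.card_map_of_injective (F.autGroup H).subtype_injective).symm.trans hj)
    have hαK : α ∈ K := fun x => by
      rw [mul_comm]
      exact trivial_mod_frattini h5 ha2 hr hM hΦ (α : MulAut H)
        (by rw [← SubmonoidClass.coe_pow, ← hα, pow_orderOf_eq_one]; rfl) x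
    have h1 := hrad.le ⟨α, Cfsg.Agent.PBasic.le_pCore hKn hKp hαK, rfl⟩
    rw [hInn, Subgroup.mem_bot] at h1
    rw [show α = 1 from Subtype.ext h1, orderOf_one] at hα
    omega

end Cfsg.Agent.S5187
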