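import Cfsg.Statements.S5188
import Cfsg.Agent.Lib.Fusion.EssentialFour
import Cfsg.Agent.S5187
open Cfsg.FusionSystem Cfsg.Agent.FusionSys
open scoped commutatorElement

set_option autoImplicit false
universe u
open Cfsg

namespace Cfsg.Agent.S5188


/-- Let F be a saturated fusion system over a finite p-group S and H an essential subgroup of order p⁴. Then H is isomorphic to one of: C_p⁴ or C_{p²} × C_p × C_p (any p); C_{p²} × C_{p²} with p ∈ {2, 3}; p^{1+2}_+ × C_p with p odd (the direct product of an extraspecial group of order p³ and exponent p with a group of order p); Q₈ × C₂ (p = 2); or the non-abelian group of order p⁴ of exponent p² whose centre is cyclic of order p² (the central product of an extraspecial group of order p³ with a cyclic group of order p²; for p = 2 this is D₈ ∘ C₄). -/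
theorem result {Ω : Type u} [Group Ω] {S : Subgroup Ω} [Finite S] (p : ℕ) [Fact p.Prime] (hS : IsPGroup p S)
    (F : Cfsg.FusionSystem S) (hF : F.IsSaturated p) (H : Subgroup Ω) (hH : F.IsEssential p H) (hcard : Nat.card H = p ^ 4) :
    Cfsg.IsElementaryAbelian p H ∨
      Nonempty (↥H ≃* Multiplicative (ZMod (p ^ 2) × ZMod p × ZMod p)) ∨
      ((p = 2 ∨ p = 3) ∧ Nonempty (↥H ≃* Multiplicative (ZMod (p ^ 2) × ZMod (p ^ 2)))) ∨
      (Odd p ∧ ∃ (E : Type) (_ : Group E) (_ : Finite E), Cfsg.IsExtraspecial p E ∧ Nat.card E = p ^ 3 ∧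
        (∀ x : E, x ^ p = 1) ∧ Nonempty (↥H ≃* E × Multiplicative (ZMod p))) ∨
      (p = 2 ∧ Nonempty (↥H ≃* QuaternionGroup 2 × Multiplicative (ZMod 2))) ∨
      (¬ IsMulCommutative ↥H ∧ (∀ x ∈ H, x ^ (p ^ 2) = 1) ∧ IsCyclic ↥(Subgroup.center ↥H) ∧
        Nat.card (Subgroup.center ↥H) = p ^ 2) := by
  haveI := finite_of_le hH.1.1
  have hp : p.Prime := Fact.out
  have hHp : IsPGroup p H := IsPGroup.of_card hcard
  have hno := not_isPGroup_commutator_mulAut hS hF hH
  by_cases hab : IsMulCommutative ↥H
  · by_cases hrk : (frattini ↥H).index ≤ p ^ 2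
    · rcases Cfsg.Agent.S5187.result p hS F hF H hH hab hrk with ⟨-, h2⟩ | ⟨hp3, k, ⟨e⟩⟩
      · rw [hcard] at h2
        exact absurd (Nat.pow_right_injective hp.two_le h2) (by norm_num)
      · have hc := Nat.card_congr e.toEquiv
        rw [hcard, Nat.card_congr Multiplicative.toAdd, Nat.card_prod, Nat.card_zmod, ← pow_add] at hc
        obtain rfl : k = 2 := by
          have := Nat.pow_right_injective hp.two_le hc
          omega
        refine Or.inr (Or.inr (Or.inl ⟨?_, ⟨e⟩⟩))
        have := hp.two_le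
        omega
    · letI : CommGroup H := { (inferInstance : Group H) with mul_comm := hab.is_comm.comm }
      by_cases hexp : ∀ x : H, x ^ p = 1
      · exact Or.inl ⟨hab, fun a ha => congrArg Subtype.val (hexp ⟨a, ha⟩)⟩
      push Not at hexp
      obtain ⟨a, ha⟩ := hexp
      obtain ⟨j, -, hj⟩ := (Nat.dvd_prime_pow hp).1
        (hcard ▸ (powMonoidHom p : H →* H).range.card_subgroup_dvd_card)
      have hle : (powMonoidHom p : H →* H).range ≤ frattini H := by
        rintro _ ⟨x, rfl⟩
        exact Cfsg.Agent.PGroupBasics.pow_mem_frattini hHp x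
      have hidx := (frattini ↥H).card_mul_index
      obtain ⟨r, -, hr⟩ := (Nat.dvd_prime_pow hp).1 (hcard ▸ (frattini ↥H).index_dvd_card)
      obtain ⟨s, -, hs⟩ := (Nat.dvd_prime_pow hp).1 (hcard ▸ (frattini ↥H).card_subgroup_dvd_card)
      rw [hr] at hrk
      rw [hs, hr, hcard, ← pow_add] at hidx
      have hsr := Nat.pow_right_injective hp.two_le hidx
      have hr3 : 3 ≤ r := by
        by_contra h
        exact hrk (Nat.pow_le_pow_right hp.pos (by omega))
      have hjs : p ^ j ≤ p ^ s := hj ▸ hs ▸ Subgroup.card_le_of_le hle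
      have hjs' := (Nat.pow_le_pow_iff_right hp.one_lt).1 hjs
      have hj0 : j ≠ 0 := by
        rintro rfl
        refine ha (Subgroup.mem_bot.1 ?_)
        rw [← Subgroup.eq_bot_of_card_eq _ (hj.trans (pow_zero p))]
        exact ⟨a, rfl⟩
      obtain rfl : j = 1 := by omega
      rw [pow_one] at hj
      refine Or.inr (Or.inl (Cfsg.Agent.EssentialFour.rank_three hcard ha (fun x => ?_) ?_))
      · have h1 := pow_card_eq_one' (x := (⟨x ^ p, x, rfl⟩ : (powMonoidHom p : H →* H).range))
        rw [hj] at h1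
        rw [pow_mul]
        exact congrArg Subtype.val h1
      · refine Nat.eq_of_mul_eq_mul_right hp.pos ?_
        rw [← pow_succ, ← hcard, ← (powMonoidHom p : H →* H).ker.card_mul_index, Subgroup.index_ker, hj]
  · obtain ⟨k, hk4, hk⟩ := (Nat.dvd_prime_pow hp).1 (hcard ▸ (Subgroup.center ↥H).card_subgroup_dvd_card)
    have hnc : ¬ IsCyclic (H ⧸ Subgroup.center H) := fun h => hab ⟨⟨commutative_of_cyclic_center_quotient
      (QuotientGroup.mk' (Subgroup.center H)) (QuotientGroup.ker_mk' _).le⟩⟩
    haveI : Nontrivial H := (IsPGroup.nontrivial_iff_card hHp).2 ⟨4, by norm_num, hcard⟩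
    have hk0 : k ≠ 0 := fun h0 => by
      haveI := hHp.center_nontrivial
      have := Finite.one_lt_card (α := Subgroup.center H)
      rw [hk, h0, pow_zero] at this
      exact lt_irrefl _ this
    have hmul := (Subgroup.center ↥H).card_eq_card_quotient_mul_card_subgroup
    rw [hk, hcard] at hmul
    have hk3 : k ≤ 2 := by
      by_contra h
      refine hnc ?_
      obtain rfl | rfl : k = 3 ∨ k = 4 := by omega
      · exact isCyclic_of_prime_card (p := p)
          (Nat.eq_of_mul_eq_mul_right (pow_pos hp.pos 3) (by rw [← hmul, ← pow_succ']))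
      · haveI : Subsingleton (H ⧸ Subgroup.center H) := Finite.card_le_one_iff_subsingleton.1
          (le_of_eq (Nat.eq_of_mul_eq_mul_right (pow_pos hp.pos 4) (hmul.symm.trans (one_mul _).symm)))
        infer_instance
    obtain rfl | rfl : k = 1 ∨ k = 2 := by omega
    · exact absurd (hk.trans (pow_one p)) (Cfsg.Agent.EssentialFour.center_ne_prime hHp hcard hno)
    · rcases Cfsg.Agent.EssentialFour.center_sq hHp hcard hno hk with h | h | ⟨hexp, hcyc⟩
      · exact Or.inr (Or.inr (Or.inr (Or.inl h)))
      · exact Or.inr (Or.inr (Or.inr (Or.inr (Or.inl h))))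
      · exact Or.inr (Or.inr (Or.inr (Or.inr (Or.inr
          ⟨hab, fun x hx => congrArg Subtype.val (hexp ⟨x, hx⟩), hcyc, hk⟩))))

end Cfsg.Agent.S5188
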