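import Cfsg.Statements.S5189
import Cfsg.Agent.S5186
import Cfsg.Agent.Lib.RankThreeChar.FromFusion
open Cfsg.FusionSystem Cfsg.Agent.MaxEss Cfsg.Agent.RankThreeNormal Cfsg.Agent.RankThreeChar

set_option autoImplicit false
universe u
open Cfsg

namespace Cfsg.Agent.S5189

/-- Let p be an odd prime, S a finite p-group of sectional p-rank exactly 3, and F a saturated fusion system over S whose largest subgroup normal in F is trivial. Suppose S has two distinct essential subgroups E₁, E₂ each of which is invariant under every F-automorphism of S. Then S is isomorphic to a Sylow p-subgroup of Sp(4,p), and one of E₁, E₂ is extraspecial of order p³ and exponent p while the other is elementary abelian of order p³. -/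
theorem result {Ω : Type u} [Group Ω] {S : Subgroup Ω} [Finite S] (p : ℕ) [Fact p.Prime] (hp : Odd p) (hS : IsPGroup p S)
    (hsr : Cfsg.SectionalPRankLE p 3 ↥S ∧ ¬ Cfsg.SectionalPRankLE p 2 ↥S)
    (F : Cfsg.FusionSystem S) (hF : F.IsSaturated p) (hO : F.core = ⊥)
    (E₁ E₂ : Subgroup Ω) (hne : E₁ ≠ E₂) (hE₁ : F.IsEssential p E₁) (hE₂ : F.IsEssential p E₂)
    (hc₁ : (∀ φ : MulAut ↥S, φ ∈ F.autGroup S → (E₁.subgroupOf S).map φ.toMonoidHom = E₁.subgroupOf S))
    (hc₂ : (∀ φ : MulAut ↥S, φ ∈ F.autGroup S → (E₂.subgroupOf S).map φ.toMonoidHom = E₂.subgroupOf S)) :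
    (∃ P : Sylow p ↥(Matrix.symplecticGroup (Fin 2) (ZMod p)),
        Nonempty (↥S ≃* ↥(P : Subgroup ↥(Matrix.symplecticGroup (Fin 2) (ZMod p))))) ∧
      ((Cfsg.IsExtraspecial p ↥E₁ ∧ Nat.card E₁ = p ^ 3 ∧ (∀ x ∈ E₁, x ^ p = 1) ∧
          Cfsg.IsElementaryAbelian p E₂ ∧ Nat.card E₂ = p ^ 3) ∨
        (Cfsg.IsExtraspecial p ↥E₂ ∧ Nat.card E₂ = p ^ 3 ∧ (∀ x ∈ E₂, x ^ p = 1) ∧
          Cfsg.IsElementaryAbelian p E₁ ∧ Nat.card E₁ = p ^ 3)) := by
  have hp2 : p ≠ 2 := fun h => by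
    subst h
    exact absurd hp (by decide)
  have h3 : 3 ≤ p := lt_of_le_of_ne (Fact.out : p.Prime).two_le (Ne.symm hp2)
  obtain ⟨L₁, rfl⟩ := exists_om hE₁.1.1
  obtain ⟨L₂, rfl⟩ := exists_om hE₂.1.1
  have hsub : ∀ L : Subgroup S, (om L).subgroupOf S = L := fun L =>
    Subgroup.comap_map_eq_self_of_injective S.subtype_injective L
  have hL : L₁ ≠ L₂ := fun h => hne (h ▸ rfl)
  set D := fusionDuo hS hF hsr.1 h3 hL hE₁ hE₂ (fun φ h => by have := hc₁ φ h; rwa [hsub] at this)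
    (fun φ h => by have := hc₂ φ h; rwa [hsub] at this) with hD
  have hsh_data : Shape p S ∧ ∃ (A B : Subgroup S) (z y t x : S), SymData p D.f A B z y t x := by
    rcases duo_main D hS hsr.1 hp2 with h | h
    · exact absurd h (shape_not_class_two (shape (frame hS hF hsr.1 h3 hO fun _ hE =>
        normal_of_class_two h hE) hS hsr.1 hsr.2 hp2))
    · exact h
  obtain ⟨hsh, A, B, z, y, t, x, hd⟩ := hsh_data
  refine ⟨exists_sylow hp2 hsh, ?_⟩
  have hcB : Nat.card B = p ^ 3 := by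
    have h := B.card_mul_index
    rw [D.f.index B hd.hB, hd.cardG, pow_succ p 3] at h
    exact Nat.eq_of_mul_eq_mul_right (Fact.out : p.Prime).pos h
  have hAel : Cfsg.IsElementaryAbelian p (om A) := by
    refine ⟨⟨⟨?_⟩⟩, ?_⟩
    · rintro ⟨_, a, ha, rfl⟩ ⟨_, b, hb, rfl⟩
      exact Subtype.ext (congrArg (Subtype.val : S → Ω) (hd.comm a ha b hb).eq)
    · rintro _ ⟨a, ha, rfl⟩
      rw [← map_pow, hd.exp a ha, map_one]
  have hBext : F.IsEssential p (om B) → Cfsg.IsExtraspecial p ↥(om B) ∧ ∀ r ∈ om B, r ^ p = 1 := by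
    intro hess
    rcases Cfsg.Agent.S5186.result p hS F hF (om B) hess (by rw [card_om, hcB]) with h | ⟨-, h1, h2⟩ | ⟨h, -⟩
    · obtain ⟨a, ha, b, hb, hab⟩ := hd.nonab
      have := congrArg Subtype.val (h.1.1.1 (⟨(a : Ω), a, ha, rfl⟩ : ↥(om B)) ⟨(b : Ω), b, hb, rfl⟩)
      exact absurd (show Commute a b from Subtype.ext this) hab
    · exact ⟨h1, h2⟩
    · exact absurd h hp2
  have hcA : Nat.card (om A) = p ^ 3 := (card_om A).trans hd.cardA
  have hcB' : Nat.card (om B) = p ^ 3 := (card_om B).trans hcB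
  have hA2 : A = L₁ ∨ A = L₂ := hd.hA
  have hB2 : B = L₁ ∨ B = L₂ := hd.hB
  rcases hA2 with rfl | rfl <;> rcases hB2 with rfl | rfl
  · exact absurd rfl hd.ne
  · exact Or.inr ⟨(hBext hE₂).1, hcB', (hBext hE₂).2, hAel, hcA⟩
  · exact Or.inl ⟨(hBext hE₁).1, hcB', (hBext hE₁).2, hAel, hcA⟩
  · exact absurd rfl hd.ne

end Cfsg.Agent.S5189
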