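import Cfsg.Statements.S5190
import Cfsg.Agent.Lib.Fusion.FunctorControl
import Cfsg.Agent.Lib.S3Free.Closure.General
import Cfsg.Agent.Lib.S3Free.Consequences
import Cfsg.Agent.Lib.Qd.SectionFree

set_option autoImplicit false
universe u
open Cfsg

namespace Cfsg.Agent.S5190

/-- Let F be a saturated fusion system over a nontrivial finite p-group S that is Qd(p)-free: no model of the normalizer system of a fully normalized centric subgroup has a section isomorphic to Qd(p), the semidirect product of an elementary abelian group of order p² by SL(2,p) acting naturally. Then some nontrivial characteristic subgroup of S is normal in F. -/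
theorem result {Ω : Type u} [Group Ω] {S : Subgroup Ω} [Finite S] (p : ℕ) [Fact p.Prime] (hS : IsPGroup p S) (hS1 : S ≠ ⊥)
    (F : Cfsg.FusionSystem S) (hF : F.IsSaturated p)
    (hfree : ∀ Q : Subgroup Ω, F.IsCentric Q → F.IsFullyNormalized Q →
      ∀ E : Cfsg.FusionSystem (Cfsg.FusionSystem.normalizerIn S Q), F.IsNormalizerSystem Q E →
        ∀ (G : Type u) (_ : Group G) (ι : ↥(Cfsg.FusionSystem.normalizerIn S Q) →* G),
          E.IsModel p G ι → ¬ Cfsg.Involves ↥(Cfsg.qd p) G) :
    ∃ W : Subgroup Ω, W ≤ S ∧ W ≠ ⊥ ∧ (W.subgroupOf S).Characteristic ∧ F.IsNormal W := by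
  have hfree' : F.IsSectionFree p ↥(Cfsg.qd p) := fun Q hn hc E hE L _ ι hι =>
    hfree Q hc hn E hE L inferInstance ι hι
  haveI : Nontrivial S := (Subgroup.nontrivial_iff_ne_bot S).2 hS1
  suffices key : ∀ W : ∀ (Q : Type u) [Group Q], Subgroup Q, IsCharPFunctor.{u} p W →
      (∀ (L : Type u) [Group L] [Finite L] (P : Sylow p L),
        Subgroup.centralizer ((Cfsg.pCore p L : Subgroup L) : Set L) ≤ Cfsg.pCore p L →
        ¬ Involves ↥(Cfsg.qd p) L → ((W ↥(P : Subgroup L)).map (P : Subgroup L).subtype).Normal) →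
      ∃ W : Subgroup Ω, W ≤ S ∧ W ≠ ⊥ ∧ (W.subgroupOf S).Characteristic ∧ F.IsNormal W by
    rcases eq_or_ne p 2 with rfl | hp
    · refine key (fun Q _ => Cfsg.Agent.SFW.wGen Q)
        ⟨fun Q _ _ hQ _ => Cfsg.Agent.SFW.wGen_ne_bot hQ,
          fun Q R _ _ _ _ φ => Cfsg.Agent.SFW.wGen_map φ⟩ fun L _ _ P hc hn => ?_
      exact Cfsg.Agent.SFW.wOf_normal (fun h => hn (Cfsg.Agent.S3Free.involves_qd_two_iff.2 h)) hc P
    · refine key (Cfsg.Agent.QdFree.zJF p True) (Cfsg.Agent.QdFree.isCharPFunctor_zJF True)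
        fun L _ _ P hc hn => ?_
      show (inducedFunctor (G := L) (Cfsg.Agent.QdFree.zJF p True) (P : Subgroup L)).Normal
      rw [Cfsg.Agent.QdFree.inducedFunctor_zJF]
      refine Cfsg.Agent.ZJ.zJ_normal hp (Cfsg.Agent.QdFree.isQuad_of_stable_quotients fun N _ => ?_) hc P True
      exact Cfsg.Agent.PStable.isNormalizerPStable_of_not_involves hp fun hi =>
        hn (Cfsg.Agent.PStable.involves_of_hom' ((QuotientGroup.mk' N).comp (⊤ : Subgroup L).subtype)
          ((QuotientGroup.mk'_surjective N).comp (fun x => ⟨⟨x, trivial⟩, rfl⟩)) hi)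
  intro W hW hW3
  refine ⟨(W S).map S.subtype, Subgroup.map_subtype_le _, fun h => hW.1 S hS inferInstance
    ((Subgroup.map_eq_bot_iff_of_injective _ S.subtype_injective).1 h), ?_,
    Cfsg.Agent.FusionSys.isNormal_functor hW.1 hW.2 hW3 hS hF hfree'⟩
  rw [show ((W S).map S.subtype).subgroupOf S = W S from
    Subgroup.comap_map_eq_self_of_injective S.subtype_injective _]
  exact Subgroup.characteristic_iff_map_eq.2 fun φ => hW.2 S S hS φ

end Cfsg.Agent.S5190
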