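import Cfsg.Statements.S5192
import Cfsg.Agent.Lib.Fusion.BisetTransfer
import Cfsg.Agent.Lib.FiniteGroup.FrattiniAut
import Mathlib.GroupTheory.ClassEquation
open Cfsg.FusionSystem Cfsg.Agent.FusionSys MulAction

set_option autoImplicit false
open Cfsg

namespace Cfsg.Agent.S5192

/-- An invariant set all whose classes have size divisible by `m` has size divisible by `m`. -/
theorem dvd_card_of_classes {G : Type*} [Group G] [Finite G] (A : Finset G) (hA : ∀ g : G, ∀ s ∈ A, g * s * g⁻¹ ∈ A)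
    {m : ℕ} (hm : ∀ s ∈ A, m ∣ (Subgroup.centralizer ({s} : Set G)).index) : m ∣ A.card := by
  classical
  haveI := Fintype.ofFinite G
  rw [Finset.card_eq_sum_card_fiberwise (f := ConjClasses.mk) (t := A.image ConjClasses.mk)
    fun x hx => Finset.mem_image_of_mem _ hx]
  refine Finset.dvd_sum fun b hb => ?_
  obtain ⟨s, hs, rfl⟩ := Finset.mem_image.1 hb
  have h : (A.filter fun x => ConjClasses.mk x = ConjClasses.mk s).card = (Subgroup.centralizer ({s} : Set G)).index := by
    rw [← Nat.card_eq_finsetCard, Subgroup.centralizer_eq_comap_stabilizer]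
    have h2 : (Subgroup.comap ConjAct.toConjAct.toMonoidHom (MulAction.stabilizer (ConjAct G) s)).index =
        (MulAction.stabilizer (ConjAct G) s).index :=
      Subgroup.index_comap_of_surjective _ ConjAct.toConjAct.surjective
    refine Eq.trans ?_ h2.symm
    rw [MulAction.index_stabilizer, ← Nat.card_coe_set_eq]
    refine Nat.card_congr (Equiv.subtypeEquivRight fun x => ?_)
    rw [ConjAct.mem_orbit_conjAct, Finset.mem_filter, ConjClasses.mk_eq_mk_iff_isConj, isConj_comm]
    refine ⟨fun h => h.2, fun h => ⟨?_, h⟩⟩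
    obtain ⟨g, hg⟩ := isConj_iff.1 h
    rw [← hg]
    exact hA g s hs
  rw [h]
  exact hm s hs

theorem transfer_parity {G : Type*} [Group G] [Finite G] {X : Type*} [Finite X] [MulAction (G × G) X] {n : ℕ}
    {r : Fin n → X} (hr : IsCoord G r) (i : G) (A : Finset G) (hA : ∀ g : G, ∀ s ∈ A, g * s * g⁻¹ ∈ A) :
    ∑ s ∈ A, fixCount X (Subgroup.zpowers ((i, s) : G × G)) =
      Nat.card G * Nat.card {j : Fin n // nxt hr i j = j ∧ coef hr i j ∈ A} := by
  classical
  rw [← Finset.sum_attach, Nat.mul_comm (Nat.card G), ← Nat.card_prod]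
  have hdis : ∑ s ∈ A.attach, fixCount X (Subgroup.zpowers ((i, (s : G)) : G × G)) =
      Nat.card (Σ s : A, {y : X // Subgroup.zpowers ((i, (s : G)) : G × G) ≤ stabilizer (G × G) y}) := by
    rw [Nat.card_sigma]; rfl
  rw [hdis]
  let f : {j : Fin n // nxt hr i j = j ∧ coef hr i j ∈ A} × G →
      Σ s : A, {y : X // Subgroup.zpowers ((i, (s : G)) : G × G) ≤ stabilizer (G × G) y} := fun w =>
    ⟨⟨w.2 * coef hr i w.1.1 * w.2⁻¹, hA _ _ w.1.2.2⟩, ⟨((1, w.2) : G × G) • r w.1.1, by
      rw [Subgroup.zpowers_le, mem_stabilizer_iff, smul_smul]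
      have h1 := coef_spec hr i w.1.1
      rw [w.1.2.1] at h1
      conv_rhs => rw [← h1, smul_smul]
      congr 1
      simp⟩⟩
  have hf : Function.Bijective f := by
    refine ⟨fun a b hab => ?_, fun ⟨⟨s, hs⟩, ⟨y, hy⟩⟩ => ?_⟩
    · have h2 : ((1, a.2) : G × G) • r a.1.1 = ((1, b.2) : G × G) • r b.1.1 := congrArg (fun z => (z.2.1 : X)) hab
      have h3 := hr.1 (a₁ := (a.1.1, a.2)) (a₂ := (b.1.1, b.2)) h2
      simp only [Prod.mk.injEq] at h3
      exact Prod.ext (Subtype.ext h3.1) h3.2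
    · obtain ⟨⟨j, u⟩, rfl⟩ := hr.2 y
      rw [Subgroup.zpowers_le, mem_stabilizer_iff, smul_smul] at hy
      have h1 : ((i, u⁻¹ * s * u) : G × G) • r j = r j := by
        have h2 := congrArg (fun z => ((1, u⁻¹) : G × G) • z) hy
        simp only [smul_smul] at h2
        simpa [mul_assoc, ← Prod.one_eq_mk] using h2
      obtain ⟨h3, h4⟩ := step_unique hr (coef_spec hr i j) (k' := j) h1
      refine ⟨(⟨j, h3, h4 ▸ ?_⟩, u), ?_⟩
      · have := hA u⁻¹ s hs
        simpa using this
      · refine Sigma.ext (Subtype.ext ?_) ?_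
        · show u * coef hr i j * u⁻¹ = s
          rw [h4]; group
        · simp only [f]
          exact (Subtype.heq_iff_coe_eq fun z => by simp [h4, mul_assoc]).2 rfl
  exact (Nat.card_congr (Equiv.ofBijective f hf)).symm

theorem ofAdd_one_sq : (1 : Multiplicative (ZMod 2)) = Multiplicative.ofAdd 1 * Multiplicative.ofAdd 1 := by decide

theorem one_add_one_zmod2 : (1 : ZMod 2) + 1 = 0 := by decide


/-- A Thompson-type transfer for saturated fusion systems. Let F be a saturated fusion system on a finite 2-group S, T a subgroup of S of index 2, and i an involution of S such that every fully normalized F-conjugate of i lies in S but outside T. Then i does not lie in the hyperfocal subgroup of F (the Sylow group of the 2-residual subsystem). -/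
theorem result {Ω : Type*} [Group Ω] [Finite Ω] {S : Subgroup Ω}
    (hS : IsPGroup 2 ↥S) (F : Cfsg.FusionSystem S) (hF : F.IsSaturated 2)
    (T : Subgroup Ω) (hTS : T ≤ S) (hT : T.relIndex S = 2)
    (i : Ω) (hi : i ∈ S) (hi2 : orderOf i = 2)
    (h : ∀ j : Ω, F.IsConjElt i j → F.IsFullyNormalized (Subgroup.zpowers j) → j ∉ T) :
    i ∉ F.hyperfocalSubgroup 2 := by
  classical
  haveI : Fact (Nat.Prime 2) := ⟨Nat.prime_two⟩
  haveI := Fintype.ofFinite S
  intro hhyp
  have hfoc : i ∈ F.focalSubgroup := hyperfocal_le_focal F hhyp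
  set iS : S := ⟨i, hi⟩ with hiS
  have hi2S : orderOf iS = 2 := by rw [hiS, Subgroup.orderOf_mk, hi2]
  -- the character of `T`
  have hidx : (T.subgroupOf S).index = 2 := hT
  let θ : S →* Multiplicative (ZMod 2) :=
    { toFun := fun s => if (s : Ω) ∈ T then 1 else Multiplicative.ofAdd 1
      map_one' := if_pos T.one_mem
      map_mul' := fun a b => by
        have h1 := Subgroup.mul_mem_iff_of_index_two hidx (a := a) (b := b)
        simp only [Subgroup.mem_subgroupOf, Subgroup.coe_mul] at h1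
        show (if (a : Ω) * b ∈ T then (1 : Multiplicative (ZMod 2)) else _) = _
        by_cases ha : (a : Ω) ∈ T <;> by_cases hb : (b : Ω) ∈ T <;> simp [ha, hb, h1] <;>
          exact ofAdd_one_sq }
  -- the conjugates of `i`
  let A : Finset S := Finset.univ.filter fun s => F.IsConjElt i s
  have hA : ∀ g : S, ∀ s ∈ A, g * s * g⁻¹ ∈ A := by
    intro g s hs
    obtain ⟨φ, hφ, hφe⟩ := (Finset.mem_filter.1 hs).2
    refine Finset.mem_filter.2 ⟨Finset.mem_univ _, (conjHom φ.range (g : Ω)).comp (φ.codRestrict φ.range fun x => ⟨x, rfl⟩),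
      F.comp_mem hφ (F.conj_mem (range_le F hφ) g.2) fun x => MonoidHom.mem_range.2 ⟨x, rfl⟩, ?_⟩
    show (g : Ω) * φ ⟨i, _⟩ * (g : Ω)⁻¹ = _
    rw [hφe]; rfl
  have hle_i : Subgroup.zpowers i ≤ S := Subgroup.zpowers_le.2 hi
  -- normalizers of the groups of order two
  have hord : ∀ s ∈ A, orderOf s = 2 := by
    intro s hs
    obtain ⟨φ, hφ, hφe⟩ := (Finset.mem_filter.1 hs).2
    rw [← Subgroup.orderOf_coe, ← hφe, orderOf_injective φ (F.injective_of_mem hφ), Subgroup.orderOf_mk, hi2]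
  have hnc : ∀ s ∈ A, Nat.card (normalizerIn S (Subgroup.zpowers (s : Ω))) =
      Nat.card (Subgroup.centralizer ({s} : Set S)) := by
    intro s hs
    have hs2 := hord s hs
    rw [← Subgroup.card_map_of_injective S.subtype_injective]
    refine congrArg (fun B : Subgroup Ω => Nat.card B) (le_antisymm ?_ ?_)
    · intro g hg
      refine ⟨⟨g, hg.1⟩, Subgroup.mem_centralizer_iff.2 fun x hx => ?_, rfl⟩
      rw [Set.mem_singleton_iff.1 hx]
      obtain ⟨k, hk⟩ := Subgroup.mem_zpowers_iff.1 ((Subgroup.mem_normalizer_iff.1 hg.2 _).1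
        (Subgroup.mem_zpowers (s : Ω)))
      have hk' : (⟨g, hg.1⟩ : S) * s * (⟨g, hg.1⟩ : S)⁻¹ = s ^ k := Subtype.ext (by rw [SubgroupClass.coe_zpow]; exact hk.symm)
      rcases Int.even_or_odd k with ⟨m, rfl⟩ | ⟨m, rfl⟩
      · rw [← two_mul, zpow_mul, zpow_ofNat, show s ^ 2 = 1 from hs2 ▸ pow_orderOf_eq_one s, one_zpow,
          conj_eq_one_iff] at hk'
        rw [hk', orderOf_one] at hs2
        norm_num at hs2
      · rw [zpow_add_one, zpow_mul, zpow_ofNat, show s ^ 2 = 1 from hs2 ▸ pow_orderOf_eq_one s, one_zpow, one_mul,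
          mul_inv_eq_iff_eq_mul] at hk'
        exact hk'.symm
    · rintro _ ⟨g, hg, rfl⟩
      refine ⟨g.2, ?_⟩
      have hgs : (g : Ω) * s = s * g := congrArg Subtype.val ((Subgroup.mem_centralizer_iff.1 hg s rfl).symm)
      show (g : Ω) ∈ Subgroup.normalizer _
      refine Subgroup.centralizer_le_normalizer _ (Subgroup.mem_centralizer_iff.2 fun x hx => ?_)
      obtain ⟨k, rfl⟩ := Subgroup.mem_zpowers_iff.1 hx
      exact ((Commute.zpow_right hgs k).eq).symm
  -- a fully normalized conjugate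
  obtain ⟨Q, ⟨φw, hφw, hφwr⟩, hQ⟩ := exists_fullyNormalized F hle_i
  set w : S := ⟨φw ⟨i, Subgroup.mem_zpowers i⟩, hom_apply_mem F hφw _⟩ with hw
  have hrange : ∀ (φ : Subgroup.zpowers i →* Ω), φ.range = Subgroup.zpowers (φ ⟨i, Subgroup.mem_zpowers i⟩) := by
    intro φ
    refine le_antisymm ?_ (Subgroup.zpowers_le.2 ⟨_, rfl⟩)
    rintro _ ⟨⟨x, hx⟩, rfl⟩
    obtain ⟨k, rfl⟩ := Subgroup.mem_zpowers_iff.1 hx
    refine ⟨k, ?_⟩
    show φ ⟨i, _⟩ ^ k = _
    rw [← map_zpow]; rfl
  have hQw : Q = Subgroup.zpowers (w : Ω) := hφwr ▸ hrange φw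
  have hwA : w ∈ A := Finset.mem_filter.2 ⟨Finset.mem_univ _, φw, hφw, rfl⟩
  have hconjQ : ∀ s ∈ A, F.IsConj Q (Subgroup.zpowers (s : Ω)) := by
    intro s hs
    obtain ⟨φ, hφ, hφe⟩ := (Finset.mem_filter.1 hs).2
    exact isConj_trans (isConj_symm ⟨φw, hφw, hφwr⟩) ⟨φ, hφ, by rw [hrange, hφe]⟩
  set C := Subgroup.centralizer ({w} : Set S)
  obtain ⟨eidx, -, heidx⟩ := (Nat.dvd_prime_pow Nat.prime_two).1
    ((IsPGroup.iff_card.1 hS).choose_spec ▸ C.index_dvd_card)
  have hidxdvd : ∀ s ∈ A, C.index ∣ (Subgroup.centralizer ({s} : Set S)).index ∧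
      ((s : Ω) ∈ T → 2 * C.index ∣ (Subgroup.centralizer ({s} : Set S)).index) := by
    intro s hs
    set D := Subgroup.centralizer ({s} : Set S)
    obtain ⟨k, -, hk⟩ := (Nat.dvd_prime_pow Nat.prime_two).1
      ((IsPGroup.iff_card.1 hS).choose_spec ▸ D.index_dvd_card)
    have hmax := hQ.2 _ (hconjQ s hs)
    rw [hnc s hs, hQw, hnc w hwA] at hmax
    have h1 := C.card_mul_index
    have h2 := D.card_mul_index
    have hle : C.index ≤ D.index := by
      by_contra hgt
      have := Nat.mul_lt_mul_of_le_of_lt hmax (not_le.1 hgt) Nat.card_pos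
      rw [h1, h2] at this
      exact lt_irrefl _ this
    rw [heidx, hk] at hle ⊢
    have hek := (Nat.pow_le_pow_iff_right (by norm_num : 1 < 2)).1 hle
    refine ⟨pow_dvd_pow 2 hek, fun hsT => ?_⟩
    rw [← pow_succ']
    refine pow_dvd_pow 2 (Nat.succ_le_of_lt (lt_of_le_of_ne hek fun he => ?_))
    -- then `s` would be fully normalized
    have hcards : Nat.card D = Nat.card C := by
      refine Nat.eq_of_mul_eq_mul_right (pow_pos two_pos k) ?_
      conv_rhs => rw [← he, ← heidx, h1]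
      rw [← hk, h2]
    refine h s (Finset.mem_filter.1 hs).2 ⟨Subgroup.zpowers_le.2 s.2, fun R hR => ?_⟩ hsT
    rw [hnc s hs, hcards, ← hnc w hwA, ← hQw]
    exact hQ.2 R (isConj_trans (hconjQ s hs) hR)
  -- the biset
  obtain ⟨X, _, _, n, hcard, hn, hX, hst⟩ := exists_biset hS hF
  obtain ⟨m, r, hr, hm, -⟩ := exists_coord (G := S) (free_of_fdiag hX) (fun _ => True) (fun _ => ⟨1, trivial⟩)
  obtain rfl : n = m := Nat.eq_of_mul_eq_mul_right (Nat.card_pos (α := S)) (hcard.symm.trans hm)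
  have hiiS : iS * iS = 1 := by rw [← sq, ← hi2S, pow_orderOf_eq_one]
  have hone : ∀ j, nxt hr 1 j = j ∧ coef hr 1 j = 1 := fun j =>
    step_unique hr (coef_spec hr 1 j) (k' := j) (s' := 1) (by rw [← Prod.one_eq_mk, one_smul])
  have hinvol : ∀ j, nxt hr iS (nxt hr iS j) = j ∧ coef hr iS (nxt hr iS j) * coef hr iS j = 1 := by
    intro j
    have h1 : ((iS * iS, coef hr iS (nxt hr iS j) * coef hr iS j) : S × S) • r j = r (nxt hr iS (nxt hr iS j)) := by
      rw [← coef_spec hr iS, ← coef_spec hr iS, smul_smul, Prod.mk_mul_mk]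
    rw [hiiS] at h1
    obtain ⟨e1, e2⟩ := step_unique hr h1 (coef_spec hr 1 j)
    exact ⟨e1.trans (hone j).1, e2.trans (hone j).2⟩
  have hfix : ∀ j, nxt hr iS j = j → coef hr iS j ∈ A := by
    intro j hj
    obtain ⟨P, φ, hφ, hP⟩ := hX (r j)
    have h1 : ((iS, coef hr iS j) : S × S) ∈ stabilizer (S × S) (r j) := by
      rw [mem_stabilizer_iff]
      exact (coef_spec hr iS j).trans (congrArg r hj)
    obtain ⟨hiP, he⟩ := (hP _).1 h1
    have hle : Subgroup.zpowers i ≤ P := Subgroup.zpowers_le.2 hiP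
    exact Finset.mem_filter.2 ⟨Finset.mem_univ _, _, restrict_mem F hφ hle, he⟩
  -- constant fixed point numbers
  have hdiag : ∀ (z : S) (ψ : Subgroup.zpowers (z : Ω) →* Ω), ψ ∈ F.Hom _ → ∀ s : S,
      ψ ⟨z, Subgroup.mem_zpowers _⟩ = s →
      FDiag F (Subgroup.zpowers ((z, s) : S × S)) ∧ diagDom (Subgroup.zpowers ((z, s) : S × S)) = Subgroup.zpowers (z : Ω) := by
    intro z ψ hψ s hs
    have hz : ∀ x : S × S, x ∈ Subgroup.zpowers ((z, s) : S × S) ↔
        ∃ hx : (x.1 : Ω) ∈ Subgroup.zpowers (z : Ω), ψ ⟨x.1, hx⟩ = x.2 := by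
      intro x
      constructor
      · rintro ⟨k, rfl⟩
        refine ⟨by rw [Prod.pow_fst, SubgroupClass.coe_zpow]; exact zpow_mem (Subgroup.mem_zpowers _) k, ?_⟩
        simp only [Prod.pow_fst, Prod.pow_snd]
        rw [SubgroupClass.coe_zpow s, ← hs, ← map_zpow]
        exact congrArg ψ (Subtype.ext (by simp))
      · rintro ⟨hx, hxe⟩
        obtain ⟨k, hk⟩ := Subgroup.mem_zpowers_iff.1 hx
        refine ⟨k, Prod.ext (Subtype.ext (by simpa using hk)) (Subtype.ext ?_)⟩
        show ((s ^ k : S) : Ω) = _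
        rw [← hxe, SubgroupClass.coe_zpow, ← hs, ← map_zpow]
        exact congrArg ψ (Subtype.ext (by simpa using hk))
    exact ⟨⟨_, ψ, hψ, hz⟩, diagDom_eq hψ hz⟩
  obtain ⟨hdw, hdw'⟩ := hdiag w (Subgroup.zpowers (w : Ω)).subtype (subtype_mem F (Subgroup.zpowers_le.2 w.2)) w rfl
  set c := fixCount X (Subgroup.zpowers ((w, w) : S × S))
  have hconst : ∀ s ∈ A, fixCount X (Subgroup.zpowers ((iS, s) : S × S)) = c := by
    intro s hs
    obtain ⟨φ, hφ, hφe⟩ := (Finset.mem_filter.1 hs).2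
    obtain ⟨h1, h2⟩ := hdiag iS φ hφ s hφe
    refine hst _ _ h1 hdw ?_
    rw [hdw', h2, ← hQw]
    exact ⟨φw, hφw, hφwr⟩
  have hCc : Nat.card C ∣ c := by
    let T' := {x : X // Subgroup.zpowers ((w, w) : S × S) ≤ stabilizer (S × S) x}
    have hwC : ∀ u : C, Commute ((1, (u : S)) : S × S) (w, w) := fun u =>
      Prod.ext (by simp) (Subgroup.mem_centralizer_iff.1 u.2 w rfl).symm
    letI : MulAction C T' :=
      { smul := fun u x => ⟨((1, (u : S)) : S × S) • x.1, by
          rw [Subgroup.zpowers_le, mem_stabilizer_iff, smul_smul, ← (hwC u).eq, ← smul_smul,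
            mem_stabilizer_iff.1 (Subgroup.zpowers_le.1 x.2)]⟩
        one_smul := fun x => Subtype.ext (by
          show ((1, ((1 : C) : S)) : S × S) • x.1 = x.1
          rw [OneMemClass.coe_one, ← Prod.one_eq_mk, one_smul])
        mul_smul := fun u v x => Subtype.ext (by
          show ((1, ((u * v : C) : S)) : S × S) • x.1 = ((1, (u : S)) : S × S) • ((1, (v : S)) : S × S) • x.1
          rw [smul_smul]; simp) }
    exact Cfsg.Agent.FrattiniAut.card_dvd_of_free (A := C) (T := T') fun x => (Subgroup.eq_bot_iff_forall _).2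
      fun u hu => Subtype.ext (free_of_fdiag hX x.1 u (congrArg Subtype.val (mem_stabilizer_iff.1 hu)))
  obtain ⟨c', hc'⟩ := hCc
  -- counts
  set Aout : Finset S := A.filter fun s : S => (s : Ω) ∉ T with hAout
  have hAoutinv : ∀ g : S, ∀ s ∈ Aout, g * s * g⁻¹ ∈ Aout := by
    intro g s hs
    obtain ⟨h1, h2⟩ := Finset.mem_filter.1 hs
    refine Finset.mem_filter.2 ⟨hA g s h1, fun h3 => h2 ?_⟩
    haveI := Subgroup.normal_of_index_eq_two hidx
    have h4 := Subgroup.Normal.conj_mem (H := T.subgroupOf S) inferInstance (g * s * g⁻¹) h3 g⁻¹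
    exact Subgroup.mem_subgroupOf.1 (by simpa [mul_assoc] using h4)
  have key : ∀ B ⊆ A, (∀ g : S, ∀ s ∈ B, g * s * g⁻¹ ∈ B) →
      c * B.card = Nat.card S * Nat.card {j : Fin n // nxt hr iS j = j ∧ coef hr iS j ∈ B} := by
    intro B hB hBinv
    rw [← transfer_parity hr iS B hBinv, Finset.sum_congr rfl fun s hs => hconst s (hB hs), Finset.sum_const,
      smul_eq_mul, mul_comm]
  obtain ⟨d, hd⟩ := dvd_card_of_classes A hA fun s hs => (hidxdvd s hs).1
  obtain ⟨d', hd'⟩ := dvd_card_of_classes Aout hAoutinv fun s hs => (hidxdvd s (Finset.mem_filter.1 hs).1).1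
  obtain ⟨d'', hd''⟩ : 2 * C.index ∣ (A \ Aout).card := by
    refine dvd_card_of_classes _ (fun g s hs => ?_) fun s hs => ?_
    · obtain ⟨h1, h2⟩ := Finset.mem_sdiff.1 hs
      refine Finset.mem_sdiff.2 ⟨hA g s h1, fun h3 => h2 ?_⟩
      simpa [mul_assoc] using hAoutinv g⁻¹ _ h3
    · obtain ⟨h1, h2⟩ := Finset.mem_sdiff.1 hs
      exact (hidxdvd s h1).2 (by simpa [hAout, h1] using h2)
  have hCS : Nat.card C * C.index = Nat.card S := C.card_mul_index
  have hkA := key A subset_rfl hA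
  have hkO := key Aout (Finset.filter_subset _ _) hAoutinv
  rw [hc', hd, mul_mul_mul_comm, hCS] at hkA
  rw [hc', hd', mul_mul_mul_comm, hCS] at hkO
  have hJ : c' * d = Nat.card {j : Fin n // nxt hr iS j = j ∧ coef hr iS j ∈ A} :=
    Nat.eq_of_mul_eq_mul_left Nat.card_pos hkA
  have hJ' : c' * d' = Nat.card {j : Fin n // nxt hr iS j = j ∧ coef hr iS j ∈ Aout} :=
    Nat.eq_of_mul_eq_mul_left Nat.card_pos hkO
  have hdd : d = d' + 2 * d'' := by
    have h1 := Finset.card_sdiff_add_card_eq_card (show Aout ⊆ A from Finset.filter_subset _ _)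
    rw [hd, hd', hd''] at h1
    refine Nat.eq_of_mul_eq_mul_left (show 0 < C.index from Nat.pos_of_ne_zero Subgroup.index_ne_zero_of_finite) ?_
    rw [← h1]; ring
  have hnJ : ((Nat.card {j : Fin n // nxt hr iS j = j ∧ coef hr iS j ∈ A} : ℕ) : ZMod 2) = 1 := by
    have h1 : ∑ j : Fin n, (if nxt hr iS j = j then 0 else (1 : ZMod 2)) = 0 := by
      refine Finset.sum_involution (fun j _ => nxt hr iS j) (fun j _ => ?_) (fun j _ hj => ?_)
        (fun j _ => Finset.mem_univ _) (fun j _ => (hinvol j).1)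
      · rw [(hinvol j).1]
        by_cases hj : nxt hr iS j = j
        · rw [if_pos hj, if_pos hj.symm, add_zero]
        · rw [if_neg hj, if_neg (Ne.symm hj)]; exact one_add_one_zmod2
      · intro he; rw [if_pos he] at hj; exact hj rfl
    have h2 : (n : ZMod 2) = ∑ j : Fin n, (if nxt hr iS j = j then (1 : ZMod 2) else 0) := by
      have : ∑ j : Fin n, ((if nxt hr iS j = j then (1 : ZMod 2) else 0) + (if nxt hr iS j = j then 0 else 1)) = n := by
        rw [Finset.sum_congr rfl fun j _ => show _ = (1 : ZMod 2) by split_ifs <;> simp]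
        simp
      rw [Finset.sum_add_distrib, h1, add_zero] at this
      exact this.symm
    rw [Finset.sum_boole] at h2
    rw [Nat.card_eq_fintype_card, Fintype.card_subtype, Finset.filter_congr fun j _ =>
      ⟨fun h => h.1, fun h => (⟨h, hfix j h⟩ : nxt hr iS j = j ∧ coef hr iS j ∈ A)⟩, ← h2]
    exact ZMod.natCast_eq_one_iff_odd.2 (Nat.odd_iff.2 (Nat.two_dvd_ne_zero.1 hn))
  have hnO : ((Nat.card {j : Fin n // nxt hr iS j = j ∧ coef hr iS j ∈ Aout} : ℕ) : ZMod 2) = 1 := by
    rw [← hJ', ← hnJ, ← hJ, hdd]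
    push_cast
    rw [show (2 : ZMod 2) = 0 from rfl, zero_mul, add_zero]
  -- the transfer
  have hhom : ∀ x y, tr hr θ (x * y) = tr hr θ x * tr hr θ y := fun x y => by
    unfold tr
    rw [Finset.prod_congr rfl fun j _ => show θ (coef hr (x * y) j) = θ (coef hr x (nxt hr y j)) * θ (coef hr y j) by
      rw [coef_mul, map_mul], Finset.prod_mul_distrib, prod_nxt hr y fun j => θ (coef hr x j)]
  let hh : S →* Multiplicative (ZMod 2) := MonoidHom.mk' _ hhom
  have hfocker : F.focalSubgroup ≤ hh.ker.map S.subtype := by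
    refine (Subgroup.closure_le _).2 ?_
    rintro _ ⟨P, φ, x, hφ, rfl⟩
    have hxS := hom_le F hφ x.2
    have hφxS := hom_apply_mem F hφ x
    obtain ⟨e, he⟩ := exists_equiv_of_hom hX hst hφ
    have hc1 : tr hr θ (⟨x, hxS⟩ : S) = tr hr θ ⟨φ x, hφxS⟩ := by
      refine tr_congr hr θ (T := ⊤) inferInstance (fun a _ b _ => map_mul θ a b) (fun g a _ => ?_) e
        (fun s y => he ⟨x, hxS⟩ x.2 s y) (fun s y => ?_) (fun _ => Subgroup.mem_top _) (fun _ => Subgroup.mem_top _)
      · rw [map_mul, map_mul, map_inv, mul_comm (θ g), mul_inv_cancel_right]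
      · rw [he 1 P.one_mem s y]
        congr 2
        exact Subtype.ext (map_one φ)
    refine ⟨(⟨x, hxS⟩ : S)⁻¹ * ⟨φ x, hφxS⟩, ?_, rfl⟩
    show hh _ = 1
    rw [map_mul, map_inv]
    exact inv_mul_eq_one.2 hc1
  obtain ⟨v, hv, hve⟩ := hfocker hfoc
  obtain rfl : v = iS := Subtype.ext hve
  have hz : Multiplicative.toAdd (tr hr θ iS) = 0 := congrArg Multiplicative.toAdd (hv : hh iS = 1)
  have hval : Multiplicative.toAdd (tr hr θ iS) = 1 := by
    unfold tr
    rw [← Finset.prod_filter_mul_prod_filter_not Finset.univ (fun j => nxt hr iS j = j)]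
    have h1 : ∏ j ∈ Finset.univ.filter (fun j => ¬ nxt hr iS j = j), θ (coef hr iS j) = 1 := by
      refine Finset.prod_involution (fun j _ => nxt hr iS j) (fun j _ => ?_) (fun j hj _ => (Finset.mem_filter.1 hj).2)
        (fun j hj => Finset.mem_filter.2 ⟨Finset.mem_univ _, ?_⟩) (fun j _ => (hinvol j).1)
      · rw [mul_comm, ← map_mul, (hinvol j).2, map_one]
      · intro he
        exact (Finset.mem_filter.1 hj).2 (he.symm.trans (hinvol j).1)
    rw [h1, mul_one, toAdd_prod, Finset.sum_congr rfl (g := fun j => if ((coef hr iS j : S) : Ω) ∈ T then (0 : ZMod 2) else 1)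
      (fun j _ => by show Multiplicative.toAdd (if _ then _ else _) = _; split_ifs <;> rfl)]
    refine Eq.trans ?_ hnO
    rw [Nat.card_eq_fintype_card, Fintype.card_subtype]
    rw [Finset.sum_ite, Finset.sum_const_zero, zero_add, Finset.sum_const, nsmul_one, Finset.filter_filter]
    congr 2
    refine Finset.filter_congr fun j _ => ?_
    rw [hAout, Finset.mem_filter]
    exact ⟨fun h => ⟨h.1, hfix j h.1, h.2⟩, fun h => ⟨h.1, h.2.2⟩⟩
  rw [hz] at hval
  exact zero_ne_one hval

end Cfsg.Agent.S5192
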