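import Cfsg.Statements.S5194
import Cfsg.Agent.Lib.Fusion.InnerCriteria
-- import your own Cfsg.Agent.* helpers here

set_option autoImplicit false
open Cfsg

namespace Cfsg.Agent.S5194

/-- Thompson's normal p-complement Theorem for fusion systems. Let F be a saturated fusion system over a finite p-group S such that p is odd or F is S₄-free (the symmetric group of degree 4 is not involved in any model of the normalizer system of a fully normalized F-centric subgroup), and let J(S) be the subgroup generated by the abelian subgroups of S of largest order. If the centralizer fusion system of Z(S) in F is the inner fusion system of C_S(Z(S)) = S and the normalizer fusion system of J(S) in F is the inner fusion system of N_S(J(S)) = S, then F is the inner fusion system of S. -/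
theorem result {Ω : Type*} [Group Ω] {S : Subgroup Ω} [Finite S] (p : ℕ) [Fact p.Prime] (hS : IsPGroup p S) (F : Cfsg.FusionSystem S) (hF : F.IsSaturated p) (hp : p ≠ 2 ∨ F.IsSectionFree p (Equiv.Perm (Fin 4))) (hC : ∀ C : Cfsg.FusionSystem (Cfsg.FusionSystem.centralizerIn S (S ⊓ Subgroup.centralizer (S : Set Ω))), F.IsCentralizerSystem (S ⊓ Subgroup.centralizer (S : Set Ω)) C → ∀ P : Subgroup Ω, C.Hom P = (Cfsg.innerFusionSystem (Cfsg.FusionSystem.centralizerIn S (S ⊓ Subgroup.centralizer (S : Set Ω)))).Hom P) (hN : ∀ N : Cfsg.FusionSystem (Cfsg.FusionSystem.normalizerIn S (Cfsg.thompsonSubgroupAOf S)), F.IsNormalizerSystem (Cfsg.thompsonSubgroupAOf S) N → ∀ P : Subgroup Ω, N.Hom P = (Cfsg.innerFusionSystem (Cfsg.FusionSystem.normalizerIn S (Cfsg.thompsonSubgroupAOf S))).Hom P) : ∀ P : Subgroup Ω, F.Hom P = (Cfsg.innerFusionSystem S).Hom P := by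
  intro P
  rw [← Cfsg.Agent.FusionSys.eq_inner_of_local hS hF ?_]
  intro U L _ hUc hU M hIH
  haveI := M.finL
  have h4 : p ≠ 2 ∨ ¬ Cfsg.Involves (Equiv.Perm (Fin 4)) L := hp.imp_right fun h => h U hU hUc _
    (Cfsg.Agent.FusionSys.normSystem_spec F hU.1) L M.ι (M.model _ (Cfsg.Agent.FusionSys.normSystem_spec F hU.1))
  rcases eq_or_lt_of_le (Cfsg.Agent.FusionSys.normalizerIn_le S U) with he | hlt
  · obtain ⟨Q, hQ⟩ := M.sylow
    refine Cfsg.Agent.FusionSys.isPGroup_of_constrained_npc M.constrained (Cfsg.Agent.S2800.result Q h4 ?_ ?_)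
    · exact Cfsg.Agent.PBasic.hasNormalPComplement_of_isPGroup (M.centralizer_le_of_inner hS hU hUc hC Q hQ)
    refine Cfsg.Agent.PBasic.hasNormalPComplement_of_isPGroup (Q.isPGroup'.to_le ?_)
    rw [hQ, Cfsg.Agent.FusionSys.thompsonAOf_range hS (Cfsg.Agent.FusionSys.normalizerIn_le S U) M.ι M.inj,
      show Cfsg.thompsonSubgroupAOf (Cfsg.FusionSystem.normalizerIn S U) = Cfsg.thompsonSubgroupAOf S by rw [he]]
    exact M.normalizer_le_of_inner ((Subgroup.map_subtype_le _).trans he.ge)
      (he.le.trans ((Cfsg.Agent.FusionSys.le_normalizerIn le_rfl).trans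
        (Cfsg.Agent.FusionSys.normalizerIn_le_inducedFunctor hS (Cfsg.Agent.FusionSys.isCharPFunctor_thompsonA p)
          le_rfl)))
      ((Cfsg.Agent.FusionSys.normalizerIn_le S _).trans he.ge) hN
  · exact M.isPGroup_of_char hS h4 fun A hA _ => hIH _
      ((Subgroup.map_subtype_le _).trans (Cfsg.Agent.FusionSys.normalizerIn_le S U))
      (Cfsg.Agent.FusionSys.card_lt_normalizerIn_char hS hlt hA)

end Cfsg.Agent.S5194
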