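import Cfsg.Statements.S5195
import Cfsg.Agent.Lib.Fusion.InnerCriteria
-- import your own Cfsg.Agent.* helpers here

set_option autoImplicit false
open Cfsg

namespace Cfsg.Agent.S5195

/-- A strengthened Frobenius normal p-complement criterion for fusion systems. Let F be a saturated fusion system over a finite p-group S such that p is odd or F is S₄-free (the symmetric group of degree 4 is not involved in any model of the normalizer system of a fully normalized F-centric subgroup). If Aut_F(Q) is a p-group for every nontrivial characteristic subgroup Q of S, then F is the inner fusion system of S. -/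
theorem result {Ω : Type*} [Group Ω] {S : Subgroup Ω} [Finite S] (p : ℕ) [Fact p.Prime] (hS : IsPGroup p S) (F : Cfsg.FusionSystem S) (hF : F.IsSaturated p) (hp : p ≠ 2 ∨ F.IsSectionFree p (Equiv.Perm (Fin 4))) (h : ∀ Q : Subgroup Ω, Q ≤ S → Q ≠ ⊥ → (Q.subgroupOf S).Characteristic → IsPGroup p (F.autGroup Q)) : ∀ P : Subgroup Ω, F.Hom P = (Cfsg.innerFusionSystem S).Hom P := by
  intro P
  rw [← Cfsg.Agent.FusionSys.eq_inner_of_local hS hF ?_]
  intro U L _ hUc hU M hIH
  have h4 : p ≠ 2 ∨ ¬ Cfsg.Involves (Equiv.Perm (Fin 4)) L := hp.imp_right fun h => h U hU hUc _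
    (Cfsg.Agent.FusionSys.normSystem_spec F hU.1) L M.ι (M.model _ (Cfsg.Agent.FusionSys.normSystem_spec F hU.1))
  refine M.isPGroup_of_char hS h4 fun A hA hA1 => ?_
  rcases eq_or_lt_of_le (Cfsg.Agent.FusionSys.normalizerIn_le S U) with he | hlt
  · have hle : A.map (Cfsg.FusionSystem.normalizerIn S U).subtype ≤ S :=
      (Subgroup.map_subtype_le _).trans (Cfsg.Agent.FusionSys.normalizerIn_le S U)
    refine h _ hle (fun e => hA1 ((Subgroup.map_eq_bot_iff_of_injective _ Subtype.coe_injective).1 e)) ?_
    have key : ∀ (T : Subgroup _) (A : Subgroup T), A.Characteristic → T = S →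
        ((A.map T.subtype).subgroupOf S).Characteristic := by
      rintro T A hA rfl
      rwa [Cfsg.Agent.FusionSys.map_subgroupOf_subtype]
    exact key _ A hA he
  · exact hIH _ ((Subgroup.map_subtype_le _).trans (Cfsg.Agent.FusionSys.normalizerIn_le S U))
      (Cfsg.Agent.FusionSys.card_lt_normalizerIn_char hS hlt hA)

end Cfsg.Agent.S5195
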