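import Cfsg.Statements.S5198
import Cfsg.Agent.Lib.Fusion.Hyperfocal
import Cfsg.Agent.Lib.Fusion.FactorLift
import Cfsg.Agent.Lib.Fusion.Local

set_option autoImplicit false
open Cfsg

namespace Cfsg.Agent.S5198

open Cfsg.Agent.FusionSys Cfsg.FusionSystem

variable {Ω : Type*} [Group Ω] {S : Subgroup Ω}

/-- Conjugation of `S` on a subgroup it normalizes. -/
def actT {T : Subgroup Ω} (h : S ≤ Subgroup.normalizer (T : Set Ω)) : S →* MulAut T :=
  T.normalizerMonoidHom.comp (Subgroup.inclusion h)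

theorem actT_apply {T : Subgroup Ω} (h : S ≤ Subgroup.normalizer (T : Set Ω)) (g : S) (t : T) :
    ((actT h g t : T) : Ω) = (g : Ω) * t * (g : Ω)⁻¹ := rfl


/-- Let F be a saturated fusion system over a finite p-group S and T a subgroup of S strongly closed in F (so T is normal in S). Then every element x of the hyperfocal subgroup of F acts on T by conjugation as an element of O^p(Aut_F(T))·Inn(T): there is an automorphism of T in the subgroup generated by the elements of Aut_F(T) of order prime to p together with the inner automorphisms of T that agrees with conjugation by x. -/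
theorem result {Ω : Type*} [Group Ω] {S : Subgroup Ω} [Finite S] (p : ℕ) [Fact p.Prime] (hS : IsPGroup p S) (F : Cfsg.FusionSystem S) (hF : F.IsSaturated p) (T : Subgroup Ω) (hT : F.StronglyClosed T) : ∀ x ∈ F.hyperfocalSubgroup p, ∃ α ∈ ((Cfsg.pResidual p ↥(F.autGroup T)).map (F.autGroup T).subtype ⊔ Cfsg.Inn ↥T : Subgroup (MulAut ↥T)), ∀ t : ↥T, ((α t : ↥T) : Ω) = x * (t : Ω) * x⁻¹ := by
  classical
  have hTn : S ≤ Subgroup.normalizer (T : Set Ω) := stronglyClosed_le_normalizer hT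
  haveI := finite_of_le hT.1
  set B0 := (Cfsg.pResidual p ↥(F.autGroup T)).map (F.autGroup T).subtype with hB0
  set B := B0 ⊔ Cfsg.Inn ↥T with hB
  haveI := Cfsg.Agent.PBasic.pResidual_normal_inst p (F.autGroup T)
  have hB0n : ∀ c ∈ F.autGroup T, ∀ b ∈ B0, c * b * c⁻¹ ∈ B0 := by
    rintro c hc _ ⟨b, hb, rfl⟩
    exact ⟨⟨c, hc⟩ * b * ⟨c, hc⟩⁻¹, Subgroup.Normal.conj_mem inferInstance b hb _, rfl⟩
  set N := (B.comap (actT hTn)).map S.subtype with hN
  have hNmem : ∀ {g : Ω} (hg : g ∈ S), actT hTn ⟨g, hg⟩ ∈ B → g ∈ N := fun hg h => ⟨_, h, rfl⟩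
  have hTN : T ≤ N := fun t ht => hNmem (hT.1 ht) (Subgroup.mem_sup_right (by
    rw [inn_eq_autInducedBy_self, mem_autInducedBy_iff]; exact ⟨t, ht, fun _ => rfl⟩))
  suffices h : F.hyperfocalSubgroup p ≤ N by
    intro x hx
    obtain ⟨y, hy, rfl⟩ := h hx
    exact ⟨_, hy, fun t => rfl⟩
  refine (Subgroup.closure_le _).2 ?_
  rintro _ ⟨P, a, u, hP, ha, rfl⟩
  haveI := finite_of_le hP
  let K : Subgroup (F.autGroup P) :=
    { carrier := {b | ∀ v : P, (v : Ω)⁻¹ * (((b : MulAut P) v : P) : Ω) ∈ N}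
      one_mem' := fun v => by simp [N.one_mem]
      mul_mem' := fun {b c} hb hc v => by
        have h := mul_mem (hc v) (hb ((c : MulAut P) v))
        rwa [mul_assoc, mul_inv_cancel_left] at h
      inv_mem' := fun {b} hb v => by
        have h := inv_mem (hb (((b⁻¹ : F.autGroup P) : MulAut P) v))
        rw [show (b : MulAut P) (((b⁻¹ : F.autGroup P) : MulAut P) v) = v from (b : MulAut P).apply_symm_apply v,
          mul_inv_rev, inv_inv] at h
        exact h }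
  suffices hK : Cfsg.pResidual p ↥(F.autGroup P) ≤ K from hK ha u
  refine (Subgroup.closure_le _).2 fun b hb => ?_
  obtain ⟨ψ₀, hψ₀, hψe⟩ := exists_lift_mod hS hF hT ((mem_autGroup_iff F hP _).1 b.2)
  have hW : P ⊔ T ≤ S := sup_le hP hT.1
  haveI := finite_of_le hW
  have hψT : ∀ (t : Ω) (ht : t ∈ T), ψ₀ ⟨t, Subgroup.mem_sup_right ht⟩ ∈ T := fun t ht =>
    stronglyClosed_apply_mem hT hψ₀ _ ht
  have hψW : ∀ v : P, ψ₀ (Subgroup.inclusion le_sup_left v) ∈ P ⊔ T := fun v => by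
    have h := mul_mem (Subgroup.mem_sup_left (((b : MulAut P) v).2) : _ ∈ P ⊔ T) (Subgroup.mem_sup_right (hψe v))
    rwa [show ((P.subtype.comp (b : MulAut P).toMonoidHom) v : Ω) = (((b : MulAut P) v : P) : Ω) from rfl,
      mul_inv_cancel_left] at h
  have hr : ψ₀.range = P ⊔ T := Subgroup.eq_of_le_of_card_ge
    (by rintro _ ⟨x, rfl⟩; exact apply_mem_of_sup ψ₀ hψW (fun t => Subgroup.mem_sup_right (hψT t t.2)) x)
    (isConj_card ⟨ψ₀, hψ₀, rfl⟩).le
  obtain ⟨ψ, hψ, hψv⟩ := exists_autGroup_of_range F hψ₀ hr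
  have hψTm : ∀ (n : ℕ) (t : ↥(P ⊔ T)), (t : Ω) ∈ T → (((ψ ^ n) t : ↥(P ⊔ T)) : Ω) ∈ T := by
    intro n
    induction n with
    | zero => exact fun t ht => ht
    | succ n ih => intro t ht; rw [pow_succ', MulAut.mul_apply, hψv]; exact hψT _ (ih t ht)
  have hlift : ∀ (n : ℕ) (v : P), (((((b : MulAut P) ^ n) v : P) : Ω))⁻¹ *
      (((ψ ^ n) (Subgroup.inclusion le_sup_left v) : ↥(P ⊔ T)) : Ω) ∈ T := by
    intro n
    induction n with
    | zero => intro v; simp [T.one_mem]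
    | succ n ih =>
      intro v
      rw [pow_succ', pow_succ', MulAut.mul_apply, MulAut.mul_apply]
      have e : (ψ ^ n) (Subgroup.inclusion le_sup_left v) = Subgroup.inclusion le_sup_left (((b : MulAut P) ^ n) v) *
          ⟨_, Subgroup.mem_sup_right (ih v)⟩ := Subtype.ext (by simp)
      rw [e, map_mul, Subgroup.coe_mul, hψv, hψv, ← mul_assoc]
      exact T.mul_mem (hψe _) (hψT _ (ih v))
  set j := (orderOf ψ).factorization p
  set ψ' := ψ ^ p ^ j with hψ'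
  have hψ'c : (orderOf ψ').Coprime p := by
    rw [hψ', orderOf_pow' _ (pow_ne_zero _ (Fact.out : p.Prime).ne_zero), Nat.gcd_eq_right (Nat.ordProj_dvd _ p)]
    exact ((Fact.out : p.Prime).coprime_iff_not_dvd.2 (Nat.not_dvd_ordCompl Fact.out (orderOf_pos ψ).ne')).symm
  suffices hb' : b ^ p ^ j ∈ K by
    obtain ⟨i, hi⟩ := exists_pow_eq_self_of_coprime (x := b) (n := p ^ j) (Nat.Coprime.pow_left _ (Nat.Coprime.symm hb))
    rw [← hi]; exact K.pow_mem hb' i
  obtain ⟨β, hβ, hβe⟩ := exists_restrict_aut F (le_sup_right : T ≤ P ⊔ T)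
    ((mem_autGroup_iff F hW ψ').1 (Subgroup.pow_mem _ hψ _)) (by
      rw [map_subgroupOf_eq_iff _ le_sup_right]
      refine ⟨fun x => hψTm _ _ x.2, fun y hy => ?_⟩
      obtain ⟨x, hx, hxy⟩ := exists_preimage_stronglyClosed hT ((mem_autGroup_iff F hW ψ').1 (Subgroup.pow_mem _ hψ _))
        le_sup_right hy
      exact ⟨⟨x, hx⟩, hxy⟩)
  have hβpow : ∀ (n : ℕ) (t : T), (((β ^ n) t : T) : Ω) = ((ψ' ^ n) (Subgroup.inclusion le_sup_right t) : ↥(P ⊔ T)) := by
    intro n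
    induction n with
    | zero => exact fun t => rfl
    | succ n ih =>
      intro t
      rw [pow_succ', pow_succ', MulAut.mul_apply, MulAut.mul_apply, hβe]
      show ((ψ' _ : ↥(P ⊔ T)) : Ω) = _
      exact congrArg (fun z => ((ψ' z : ↥(P ⊔ T)) : Ω)) (Subtype.ext (ih t))
  have hβ0 : β ∈ B0 := by
    refine ⟨⟨β, hβ⟩, Subgroup.subset_closure ?_, rfl⟩
    show (orderOf (⟨β, hβ⟩ : F.autGroup T)).Coprime p
    rw [← orderOf_injective _ (F.autGroup T).subtype_injective]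
    refine hψ'c.coprime_dvd_left (orderOf_dvd_of_pow_eq_one (MulEquiv.ext fun t => Subtype.ext ?_))
    show (((β ^ orderOf ψ') t : T) : Ω) = t
    rw [hβpow, pow_orderOf_eq_one]; rfl
  intro v
  rw [SubmonoidClass.coe_pow]
  have hw : ((ψ' (Subgroup.inclusion le_sup_left v) : ↥(P ⊔ T)) : Ω) ∈ S := hW (ψ' _).2
  suffices hw' : (v : Ω)⁻¹ * ((ψ' (Subgroup.inclusion le_sup_left v) : ↥(P ⊔ T)) : Ω) ∈ N by
    have h := mul_mem hw' (hTN (inv_mem (hlift (p ^ j) v)))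
    rwa [mul_inv_rev, inv_inv, mul_assoc, mul_inv_cancel_left] at h
  refine hNmem (S.mul_mem (S.inv_mem (hP v.2)) hw) (Subgroup.mem_sup_left ?_)
  set c := actT hTn ⟨v, hP v.2⟩ with hc
  have hcA : c ∈ F.autGroup T := autInducedBy_le_autGroup F hT.1
    ((mem_autInducedBy_iff c).2 ⟨v, hP v.2, fun t => rfl⟩)
  have key : actT hTn ⟨_, hw⟩ = β * c * β⁻¹ := by
    refine MulEquiv.ext fun t => Subtype.ext ?_
    obtain ⟨t, rfl⟩ := β.surjective t
    show _ = ((β (c (β.symm (β t))) : T) : Ω)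
    rw [β.symm_apply_apply, hβe, actT_apply, hβe]
    show ((ψ' _ : ↥(P ⊔ T)) : Ω) * (ψ' _ : ↥(P ⊔ T)) * ((ψ' _ : ↥(P ⊔ T)) : Ω)⁻¹ = (ψ' _ : ↥(P ⊔ T))
    rw [← Subgroup.coe_inv, ← Subgroup.coe_mul, ← Subgroup.coe_mul, ← map_inv, ← map_mul, ← map_mul]
    exact congrArg (fun z => ((ψ' z : ↥(P ⊔ T)) : Ω)) (Subtype.ext rfl)
  rw [show (⟨(v : Ω)⁻¹ * _, S.mul_mem (S.inv_mem (hP v.2)) hw⟩ : S) = ⟨v, hP v.2⟩⁻¹ * ⟨_, hw⟩ from rfl,
    map_mul, map_inv, ← hc, key, show c⁻¹ * (β * c * β⁻¹) = (c⁻¹ * β * c⁻¹⁻¹) * β⁻¹ by group]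
  exact mul_mem (hB0n _ (Subgroup.inv_mem _ hcA) _ hβ0) (inv_mem hβ0)

end Cfsg.Agent.S5198
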