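import Cfsg.Statements.S5200
import Cfsg.Agent.Lib.Lim1.Main

set_option autoImplicit false
open Cfsg

namespace Cfsg.Agent.S5200

open Cfsg.FusionSystem Cfsg.Agent.FusionSys

/-- Let F be a saturated fusion system over a finite p-group S and E a normal subsystem of F over T whose centralizer in S lies in T: every subgroup Y of C_S(T) such that E is contained in the centralizer fusion system of Y in F satisfies Y ≤ T. Then T·C_S(T)/T is abelian (the commutator subgroup of T·C_S(T) lies in T), and if p is odd then C_S(T) ≤ T. -/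
theorem result {Ω : Type*} [Group Ω] {S : Subgroup Ω} [Finite S] (p : ℕ) [Fact p.Prime] (hS : IsPGroup p S) (F : Cfsg.FusionSystem S) (hF : F.IsSaturated p) {T : Subgroup Ω} (E : Cfsg.FusionSystem T) (hE : E.IsNormalIn F p) (hCE : ∀ Y : Subgroup Ω, Y ≤ Cfsg.FusionSystem.centralizerIn S T → (∀ C : Cfsg.FusionSystem (Cfsg.FusionSystem.centralizerIn S Y), F.IsCentralizerSystem Y C → E.IsSubsystemOf C) → Y ≤ T) : ⁅T ⊔ Cfsg.FusionSystem.centralizerIn S T, T ⊔ Cfsg.FusionSystem.centralizerIn S T⁆ ≤ T ∧ (p ≠ 2 → Cfsg.FusionSystem.centralizerIn S T ≤ T) := by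
  obtain ⟨⟨hEsat, -, hinv⟩, hext⟩ := hE
  have hTc := hinv.2.1
  have hTS := hTc.1
  have hmem : ∀ y ∈ centralizerIn S T, (∀ Q, E.Hom Q ⊆ F.centralizerHom (Subgroup.zpowers y) Q) → y ∈ T :=
    fun y hy h => hCE _ (Subgroup.zpowers_le.2 hy) (fun C hC Q φ hφ => (hC Q).symm ▸ h Q hφ)
      (Subgroup.mem_zpowers y)
  constructor
  · have hC : ∀ a ∈ centralizerIn S T, ∀ b ∈ centralizerIn S T, a * b * a⁻¹ * b⁻¹ ∈ T := by
      intro a ha b hb
      have hP : Subgroup.zpowers b⁻¹ ≤ centralizerIn S T :=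
        Subgroup.zpowers_le.2 (Subgroup.inv_mem _ hb)
      have hγ : conjHom (Subgroup.zpowers b⁻¹) a ∈ F.centralizerHom T (Subgroup.zpowers b⁻¹) :=
        (centSystem F hTS).conj_mem hP ha
      have hcomm : (b⁻¹)⁻¹ * conjHom (Subgroup.zpowers b⁻¹) a ⟨b⁻¹, Subgroup.mem_zpowers _⟩ =
          b * a * b⁻¹ * a⁻¹ := by
        simp only [conjHom_apply, inv_inv]; group
      have h2 : b * a * b⁻¹ * a⁻¹ ∈ T := by
        rw [← hcomm]
        refine hmem _ ?_ fun Q => FocCent.mem_centralizerHom_zpowers hS hF (P := Subgroup.zpowers b⁻¹)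
          ⟨⟨hEsat, hF, hinv⟩, hext⟩ hγ ⟨b⁻¹, Subgroup.mem_zpowers _⟩ Q
        rw [hcomm]
        exact Subgroup.mul_mem _ (Subgroup.mul_mem _ (Subgroup.mul_mem _ hb ha) (Subgroup.inv_mem _ hb))
          (Subgroup.inv_mem _ ha)
      have := T.inv_mem h2
      convert this using 1
      group
    have hn : centralizerIn S T ≤ Subgroup.normalizer (T : Set Ω) :=
      (centralizerIn_le _ _).trans (stronglyClosed_le_normalizer hTc)
    have hN : ∀ g ∈ T ⊔ centralizerIn S T, ∀ u ∈ T, g * u * g⁻¹ ∈ T := fun g hg u hu =>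
      (Subgroup.mem_normalizer_iff.1 ((sup_le Subgroup.le_normalizer hn : T ⊔ _ ≤ _) hg) u).1 hu
    rw [Subgroup.commutator_le]
    intro g hg k hk
    rw [← SetLike.mem_coe, Subgroup.coe_mul_of_right_le_normalizer_left T _ hn] at hg hk
    obtain ⟨u, hu, a, ha, rfl⟩ := hg
    obtain ⟨v, hv, c, hc, rfl⟩ := hk
    have h1 : a * v = v * a := (Subgroup.mem_centralizer_iff.1 ha.2 v hv).symm
    have h2 : c * u = u * c := (Subgroup.mem_centralizer_iff.1 hc.2 u hu).symm
    have h3 : a * c = (a * c * a⁻¹ * c⁻¹) * (c * a) := by group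
    have hw := hC a ha c hc
    set w := a * c * a⁻¹ * c⁻¹ with hwdef
    show (u * a) * (v * c) * (u * a)⁻¹ * (v * c)⁻¹ ∈ T
    have e : (u * a) * (v * c) * (u * a)⁻¹ * (v * c)⁻¹ = u * v * w * u⁻¹ * v⁻¹ := by
      calc (u * a) * (v * c) * (u * a)⁻¹ * (v * c)⁻¹ = u * (a * v) * c * a⁻¹ * u⁻¹ * c⁻¹ * v⁻¹ := by group
        _ = u * v * (a * c * a⁻¹ * c⁻¹) * (c * u⁻¹ * c⁻¹) * v⁻¹ := by rw [h1]; group
        _ = u * v * w * u⁻¹ * v⁻¹ := by
          have h4 : c * u⁻¹ * c⁻¹ = u⁻¹ := by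
            have : Commute c u := h2
            rw [this.inv_right.eq, mul_inv_cancel_right]
          rw [h4, hwdef]
    rw [e]
    exact T.mul_mem (T.mul_mem (T.mul_mem (T.mul_mem hu hv) hw) (T.inv_mem hu)) (T.inv_mem hv)
  · intro hp2 x hx
    obtain ⟨b, hb, hy, hgood⟩ := Cfsg.Agent.Lim1.exists_centralizing hp2
      ⟨hS, hF, hTc, hinv.1, hEsat, hinv⟩ hext hx
    have := T.mul_mem (hmem _ hy hgood) (T.inv_mem hb)
    rwa [mul_inv_cancel_right] at this

end Cfsg.Agent.S5200
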