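import Cfsg.Statements.S5204
import Cfsg.Agent.Lib.Fusion.InnerCriteria
-- import your own Cfsg.Agent.* helpers here

set_option autoImplicit false
open Cfsg

namespace Cfsg.Agent.S5204

/-- The Glauberman–Thompson normal p-complement criterion for fusion systems, p odd. Let F be a saturated fusion system over a finite p-group S with p odd, and let Z(J(S)) be the centre of the subgroup generated by the abelian subgroups of S of largest order. Then F is the inner fusion system of S if and only if the normalizer fusion system of Z(J(S)) in F is the inner fusion system of N_S(Z(J(S))) = S. -/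
theorem result {Ω : Type*} [Group Ω] {S : Subgroup Ω} [Finite S] (p : ℕ) [Fact p.Prime] (hS : IsPGroup p S) (F : Cfsg.FusionSystem S) (hF : F.IsSaturated p) (hp : p ≠ 2) : (∀ P : Subgroup Ω, F.Hom P = (Cfsg.innerFusionSystem S).Hom P) ↔ ∀ N : Cfsg.FusionSystem (Cfsg.FusionSystem.normalizerIn S (Cfsg.centerThompsonAOf S)), F.IsNormalizerSystem (Cfsg.centerThompsonAOf S) N → ∀ P : Subgroup Ω, N.Hom P = (Cfsg.innerFusionSystem (Cfsg.FusionSystem.normalizerIn S (Cfsg.centerThompsonAOf S))).Hom P := by
  constructor
  · exact fun h N hN P => Cfsg.Agent.FusionSys.normalizerSystem_inner h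
      (Cfsg.Agent.FusionSys.le_normalizerIn_centerThompsonAOf hS) hN P
  intro h P
  rw [← Cfsg.Agent.FusionSys.eq_inner_of_local hS hF ?_]
  intro U L _ hUc hU M hIH
  haveI := M.finL
  rcases eq_or_lt_of_le (Cfsg.Agent.FusionSys.normalizerIn_le S U) with he | hlt
  · obtain ⟨Q, hQ⟩ := M.sylow
    refine Cfsg.Agent.FusionSys.isPGroup_of_constrained_npc M.constrained (Cfsg.Agent.S0659.result hp Q ?_)
    refine Cfsg.Agent.PBasic.hasNormalPComplement_of_isPGroup (Q.isPGroup'.to_le ?_)
    rw [hQ, Cfsg.Agent.FusionSys.centerThompsonAOf_range hS (Cfsg.Agent.FusionSys.normalizerIn_le S U) M.ι M.inj,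
      show Cfsg.centerThompsonAOf (Cfsg.FusionSystem.normalizerIn S U) = Cfsg.centerThompsonAOf S by rw [he]]
    exact M.normalizer_le_of_inner ((Cfsg.Agent.FusionSys.centerThompsonAOf_le S).trans he.ge)
      (he.le.trans (Cfsg.Agent.FusionSys.le_normalizerIn_centerThompsonAOf hS))
      ((Cfsg.Agent.FusionSys.normalizerIn_le S _).trans he.ge) h
  · exact M.isPGroup_of_char hS (Or.inl hp) fun A hA _ => hIH _
      ((Subgroup.map_subtype_le _).trans (Cfsg.Agent.FusionSys.normalizerIn_le S U))
      (Cfsg.Agent.FusionSys.card_lt_normalizerIn_char hS hlt hA)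

end Cfsg.Agent.S5204
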