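import Cfsg.Statements.S5206
import Cfsg.Agent.Lib.Fusion.GroupModel
import Cfsg.Agent.Lib.Qd.LocalCentric

set_option autoImplicit false
universe u
open Cfsg

namespace Cfsg.Agent.S5206

open Cfsg.FusionSystem in
/-- The models of a group's fusion system see exactly the sections `Qd(p)` of the group. -/
theorem not_sectionFree {G : Type*} [Group G] [Finite G] {p : ℕ} [Fact p.Prime] (hp : p ≠ 2) (P : Sylow p G)
    (h : Cfsg.Involves ↥(Cfsg.qd p) G) : ¬ (Cfsg.groupFusionSystem (P : Subgroup G)).IsSectionFree p ↥(Cfsg.qd p) := by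
  intro hfree
  obtain ⟨Q₀, hQ₀p, hQ₀c, K₀, hK₀, f, hf⟩ := Cfsg.Agent.QdLocal.exists_centric_normalizer hp h
  set F := Cfsg.groupFusionSystem (P : Subgroup G)
  obtain ⟨P', hP'⟩ := hQ₀p.exists_le_sylow
  obtain ⟨g₁, hg₁⟩ := MulAction.exists_smul_eq G P' P
  set Q₁ := Q₀.map (MulAut.conj g₁).toMonoidHom with hQ₁
  have hQ₁P : Q₁ ≤ P := by
    rw [← hg₁, Sylow.coe_subgroup_smul]
    exact Subgroup.map_mono hP'
  obtain ⟨Q, hQconj, hQ⟩ := Cfsg.Agent.FusionSys.exists_fullyNormalized F hQ₁P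
  obtain ⟨-, hQP, g₂, hg₂⟩ := (Cfsg.Agent.FusionSys.group_isConj_iff P).1 hQconj
  set g := g₂ * g₁
  have hQe : Q₀.map (MulAut.conj g).toMonoidHom = Q := by
    rw [← hg₂, hQ₁, Subgroup.map_map]
    congr 1
    ext x
    simp [g, mul_assoc]
  have hcen : ∀ (k : G) (x : G), x ∈ Subgroup.centralizer ((Q₀.map (MulAut.conj k).toMonoidHom : Subgroup G) : Set G) →
      x ∈ (P : Subgroup G) → x ∈ Q₀.map (MulAut.conj k).toMonoidHom := by
    intro k x hx hxP
    refine ⟨k⁻¹ * x * k, hQ₀c _ (Subgroup.mem_centralizer_iff.2 fun q hq => ?_) ?_, by simp [mul_assoc]⟩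
    · have e := Subgroup.mem_centralizer_iff.1 hx _ ⟨q, hq, rfl⟩
      calc q * (k⁻¹ * x * k) = k⁻¹ * (k * q * k⁻¹ * x) * k := by group
        _ = k⁻¹ * (x * (k * q * k⁻¹)) * k := by rw [show k * q * k⁻¹ * x = x * (k * q * k⁻¹) from e]
        _ = k⁻¹ * x * k * q := by group
    · have hz : Subgroup.zpowers (k⁻¹ * x * k) = (Subgroup.zpowers x).map (MulAut.conj k⁻¹).toMonoidHom := by
        rw [MonoidHom.map_zpowers]; simp
      rw [hz]
      exact (P.isPGroup'.to_le (Subgroup.zpowers_le.2 hxP)).map _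
  have hQc : F.IsCentric Q := by
    refine ⟨hQP, fun R hR => ?_⟩
    obtain ⟨-, hRP, g₃, hg₃⟩ := (Cfsg.Agent.FusionSys.group_isConj_iff P).1 hR
    have hRe : Q₀.map (MulAut.conj (g₃ * g)).toMonoidHom = R := by
      rw [← hg₃, ← hQe, Subgroup.map_map]
      congr 1
      ext x
      simp [mul_assoc]
    rintro x ⟨hxP, hx⟩
    rw [← hRe] at hx ⊢
    exact hcen _ x hx hxP
  obtain ⟨hNs, hNQ⟩ := Cfsg.Agent.FusionSys.normalizerSystem_constrained P.2
    (Cfsg.Agent.FusionSys.groupFusionSystem_saturated P) hQ hQc (Cfsg.Agent.FusionSys.normSystem_spec F hQ.1)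
  obtain ⟨L, _, ι, hL⟩ := Cfsg.Agent.FusionSys.exists_model (P.2.to_le inf_le_left) hNs hNQ
  refine hfree Q hQ hQc _ (Cfsg.Agent.FusionSys.normSystem_spec F hQ.1) L ι hL ?_
  obtain ⟨Φ, hΦ, hker⟩ := Cfsg.Agent.FusionSys.group_model P hQ hQc
    (Cfsg.Agent.FusionSys.normSystem_spec F hQ.1) hL
  -- the conjugated section
  have hin : ∀ x : K₀, g * (x : G) * g⁻¹ ∈ Subgroup.normalizer (Q : Set G) := fun x => by
    rw [← hQe]
    exact Subgroup.le_normalizer_map (MulAut.conj g).toMonoidHom ⟨x, hK₀ x.2, rfl⟩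
  haveI := hL.1
  exact Cfsg.Agent.QdLocal.involves_of_coprime_kernel (((MulAut.conj g).toMonoidHom.comp K₀.subtype).codRestrict _ hin)
    (fun a b hab => Subtype.ext (mul_left_cancel (mul_right_cancel (congrArg Subtype.val hab)))) Φ hker f hf

/-- Let p be an odd prime, G a finite group and P a Sylow p-subgroup of G. Then the fusion system of G on P is Qd(p)-free (Qd(p), the natural semidirect product of an elementary abelian group of order p² by SL₂(p), is not involved in any model of the normalizer system of a fully normalized centric subgroup) if and only if Qd(p) is not involved in G. -/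
theorem result {G : Type u} [Group G] [Finite G] {p : ℕ} [Fact p.Prime] (hp : p ≠ 2) (P : Sylow p G) : (Cfsg.groupFusionSystem (P : Subgroup G)).IsSectionFree p ↥(Cfsg.qd p) ↔ ¬ Cfsg.Involves ↥(Cfsg.qd p) G := by
  constructor
  · intro hfree h
    exact not_sectionFree hp P h hfree
  · intro hG Q hQ hQc N hN L _ ι hL hinv
    obtain ⟨Φ, hΦ, -⟩ := Cfsg.Agent.FusionSys.group_model P hQ hQc hN hL
    exact hG (Cfsg.Agent.FusionSys.involves_of_injective (Subgroup.normalizer (Q : Set G)).subtype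
      Subtype.coe_injective (Cfsg.Agent.FusionSys.involves_of_surjective Φ hΦ hinv))

end Cfsg.Agent.S5206
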