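import Cfsg.Statements.S5214
import Cfsg.Agent.Lib.Suzuki2.Structure
import Cfsg.Agent.Lib.Fusion.Normal

set_option autoImplicit false
open Cfsg

namespace Cfsg.Agent.S5214


/-- Let S be a Suzuki 2-group (a finite nonabelian 2-group with more than one involution admitting a cyclic group of automorphisms permuting its involutions regularly). Then S is normal in every saturated fusion system over S (such a group is resistant). -/
theorem result {Ω : Type*} [Group Ω] {S : Subgroup Ω} [Finite S] (hS : IsPGroup 2 S) (F : Cfsg.FusionSystem S) (hF : F.IsSaturated 2) (hsz : Cfsg.IsSuzukiTwoGroup ↥S) : F.IsNormal S := by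
  classical
  haveI : Fact (Nat.Prime 2) := ⟨Nat.prime_two⟩
  obtain ⟨D, -⟩ := Cfsg.Agent.Suzuki2.exists_datum hsz
  have hna := hsz.2.2.1
  set W : Subgroup Ω := D.V.map S.subtype with hW
  have hWS : W ≤ S := Subgroup.map_subtype_le _
  have hmem : ∀ x : Ω, x ∈ W ↔ x ∈ S ∧ x * x = 1 := fun x => by
    constructor
    · rintro ⟨a, ha, rfl⟩
      exact ⟨a.2, congrArg Subtype.val (D.mem_V.1 ha)⟩
    · rintro ⟨hx, hx2⟩
      exact ⟨⟨x, hx⟩, D.mem_V.2 (Subtype.ext hx2), rfl⟩
  have hWc : F.StronglyClosed W := ⟨hWS, fun R hR φ hφ x => (hmem _).2 ⟨(F.le_of_mem hφ).2 x, by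
    rw [← map_mul, show x * x = 1 from Subtype.ext ((hmem x).1 (hR x.2)).2, map_one]⟩⟩
  refine Cfsg.Agent.FusionSys.isNormal_of_chain hS hF (Cfsg.Agent.FusionSys.stronglyClosed_self F)
    (n := 2) (C := ![⊥, W, S]) rfl rfl (Fin.monotone_iff_le_succ.2 fun i => ?_) (fun i => ?_) fun i => ?_
  · fin_cases i
    · exact bot_le
    · exact hWS
  · fin_cases i
    · show ⁅W, S⁆ ≤ ⊥
      rw [Subgroup.commutator_le]
      rintro _ ⟨a, ha, rfl⟩ b hb
      rw [Subgroup.mem_bot]
      show (a : Ω) * b * (a : Ω)⁻¹ * b⁻¹ = 1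
      have e : (b : Ω) * a = a * b := congrArg Subtype.val (D.V_central ha ⟨b, hb⟩)
      rw [← e]; group
    · show ⁅S, S⁆ ≤ W
      rw [Subgroup.commutator_le]
      intro a ha b hb
      exact ⟨_, D.comm_mem_V hna ⟨a, ha⟩ ⟨b, hb⟩, rfl⟩
  · fin_cases i
    · exact Cfsg.Agent.FusionSys.stronglyClosed_weaklyClosed (Cfsg.Agent.FusionSys.stronglyClosed_bot F)
    · exact Cfsg.Agent.FusionSys.stronglyClosed_weaklyClosed hWc

end Cfsg.Agent.S5214
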