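import Cfsg.Statements.S5219
import Cfsg.Agent.Lib.Fusion.Basic
import Cfsg.Agent.S5218

set_option autoImplicit false
open Cfsg

namespace Cfsg.Agent.S5219

open scoped commutatorElement in
/-- Powers lower the upper central series by one step. -/
theorem pow_mem_upper {G : Type*} [Group G] {e : ℕ} (he : ∀ z ∈ Subgroup.center G, z ^ e = 1) :
    ∀ (i : ℕ), ∀ x ∈ Subgroup.upperCentralSeries G (i + 1), x ^ e ∈ Subgroup.upperCentralSeries G i := by
  intro i
  induction i with
  | zero =>
    intro x hx
    rw [Subgroup.upperCentralSeries_one] at hx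
    rw [Subgroup.upperCentralSeries_zero, Subgroup.mem_bot]
    exact he x hx
  | succ i ih =>
    intro x hx
    rw [Subgroup.mem_upperCentralSeries_succ_iff] at hx ⊢
    intro y
    set π := QuotientGroup.mk' (Subgroup.upperCentralSeries G i)
    set c := ⁅x, y⁆ with hcdef
    have hc := hx y
    have hcen : π c * π x = π x * π c := by
      have h := Subgroup.mem_upperCentralSeries_succ_iff.1 hc x
      have h' : π ⁅c, x⁆ = 1 := (QuotientGroup.eq_one_iff _).2 h
      rw [map_commutatorElement] at h'
      exact commutatorElement_eq_one_iff_mul_comm.1 h'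
    have hx1 : π x * π c * (π x)⁻¹ = π c := by rw [← hcen, mul_inv_cancel_right]
    have hxy : π x * π y * (π x)⁻¹ = π c * π y := by
      rw [hcdef, map_commutatorElement, commutatorElement_def]; group
    have hk : ∀ k : ℕ, π x ^ k * π y * (π x ^ k)⁻¹ = π c ^ k * π y := by
      intro k
      induction k with
      | zero => simp
      | succ k ihk =>
        calc π x ^ (k + 1) * π y * (π x ^ (k + 1))⁻¹
            = π x * (π x ^ k * π y * (π x ^ k)⁻¹) * (π x)⁻¹ := by rw [pow_succ']; group
          _ = π x * (π c ^ k * π y) * (π x)⁻¹ := by rw [ihk]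
          _ = (π x * π c * (π x)⁻¹) ^ k * (π x * π y * (π x)⁻¹) := by rw [conj_pow]; group
          _ = π c ^ (k + 1) * π y := by rw [hx1, hxy, ← mul_assoc, ← pow_succ]
    refine (QuotientGroup.eq_one_iff _).1 ?_
    show π ⁅x ^ e, y⁆ = 1
    have hce : π c ^ e = 1 := by
      rw [← map_pow]
      exact (QuotientGroup.eq_one_iff _).2 (ih c hc)
    rw [map_commutatorElement, map_pow, commutatorElement_def, hk, hce, one_mul, mul_inv_cancel]

/-- Let p be a prime, n a natural number, S a nontrivial finite p-group of nilpotence class at most n(p−1)+1, and F a saturated fusion system over S with no nontrivial normal subgroup (O_p(F) = 1). Then S has exponent dividing p^(n²(p−1)+n). -/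
theorem result {Ω : Type*} [Group Ω] {S : Subgroup Ω} [Finite S] (p : ℕ) [Fact p.Prime] (hS : IsPGroup p S) (F : Cfsg.FusionSystem S) (hF : F.IsSaturated p) (n : ℕ) (hS1 : S ≠ ⊥) (hcl : Subgroup.lowerCentralSeries S (n * (p - 1) + 1) = ⊥) (hcore : F.core = ⊥) : Monoid.exponent ↥S ∣ p ^ (n ^ 2 * (p - 1) + n) := by
  classical
  have h := Cfsg.Agent.S5218.result p hS F hF n hS1 hcl
  have hbot := le_bot_iff.1 ((Cfsg.Agent.FusionSys.isNormal_le_core h).trans hcore.le)
  have he : ∀ z ∈ Subgroup.center S, z ^ p ^ n = 1 := fun z hz => Subtype.ext (by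
    have h1 : (z : Ω) ^ p ^ n ∈ Cfsg.powerClosure p n (S ⊓ Subgroup.centralizer (S : Set Ω)) :=
      Subgroup.subset_closure ⟨z, ⟨z.2, Subgroup.mem_centralizer_iff.2 fun y hy =>
        congrArg Subtype.val (Subgroup.mem_center_iff.1 hz ⟨y, hy⟩)⟩, rfl⟩
    rw [hbot, Subgroup.mem_bot] at h1
    rw [SubmonoidClass.coe_pow]
    exact h1)
  haveI := hS.isNilpotent
  have htop : Subgroup.upperCentralSeries S (n * (p - 1) + 1) = ⊤ := by
    rw [← Subgroup.lowerCentralSeries_eq_bot_iff_upperCentralSeries_eq_top]
    have hmap : ∀ k, (Subgroup.lowerCentralSeries (⊤ : Subgroup S) k).map S.subtype =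
        Subgroup.lowerCentralSeries S k := by
      intro k
      induction k with
      | zero => rw [Subgroup.lowerCentralSeries_zero, Subgroup.lowerCentralSeries_zero, ← MonoidHom.range_eq_map,
          Subgroup.range_subtype]
      | succ k ih =>
        rw [Subgroup.lowerCentralSeries_succ, Subgroup.lowerCentralSeries_succ, Subgroup.map_commutator, ih,
          ← MonoidHom.range_eq_map, Subgroup.range_subtype]
    exact (Subgroup.map_eq_bot_iff_of_injective _ S.subtype_injective).1 ((hmap _).trans hcl)
  have key : ∀ (i : ℕ), ∀ x ∈ Subgroup.upperCentralSeries S i, x ^ p ^ (n * i) = 1 := by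
    intro i
    induction i with
    | zero =>
      intro x hx
      rw [Subgroup.upperCentralSeries_zero, Subgroup.mem_bot] at hx
      rw [hx, one_pow]
    | succ i ih =>
      intro x hx
      rw [show n * (i + 1) = n + n * i by ring, pow_add, pow_mul]
      exact ih _ (pow_mem_upper he i x hx)
  refine Monoid.exponent_dvd_of_forall_pow_eq_one fun x => ?_
  rw [show n ^ 2 * (p - 1) + n = n * (n * (p - 1) + 1) by ring]
  exact key _ x (htop ▸ Subgroup.mem_top x)

end Cfsg.Agent.S5219
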