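import Cfsg.Statements.S5233
import Cfsg.Agent.Lib.Fusion.ClosedExtraspecial
import Cfsg.Agent.Lib.Qd.Basic

set_option autoImplicit false
open Cfsg

namespace Cfsg.Agent.S5233

/-- Let F be a saturated fusion system over a finite p-group S and P a subgroup of S strongly closed in F that is generalized extraspecial (its Frattini subgroup equals its commutator subgroup and has order p) and not isomorphic to E × A with A elementary abelian and E dihedral of order 8 (p = 2) or extraspecial of order p³ and exponent p (p odd). Then P is normal in F. -/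
theorem result {Ω : Type*} [Group Ω] {S : Subgroup Ω} [Finite S] (p : ℕ) [Fact p.Prime] (hS : IsPGroup p S) (F : Cfsg.FusionSystem S) (hF : F.IsSaturated p) (P : Subgroup Ω) (hP : F.StronglyClosed P) (hge : frattini ↥P = commutator ↥P ∧ Nat.card ↥(commutator ↥P) = p) (h2 : p = 2 → ¬ ∃ (A : Type) (_ : CommGroup A), (∀ a : A, a ^ 2 = 1) ∧ Nonempty (↥P ≃* DihedralGroup 4 × A)) (hodd : p ≠ 2 → ¬ ∃ (E : Type) (_ : Group E) (A : Type) (_ : CommGroup A), Cfsg.IsExtraspecial p E ∧ Nat.card E = p ^ 3 ∧ Monoid.exponent E = p ∧ (∀ a : A, a ^ p = 1) ∧ Nonempty (↥P ≃* E × A)) : F.IsNormal P := by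
  refine Cfsg.Agent.FusionSys.genExtraspecial_normal hS hF hP hge
    fun E A x y hA hAp ⟨iso⟩ hEx hE3 hEexp hE hxp hyp hne hpow => ?_
  haveI := Cfsg.Agent.FusionSys.finite_of_le hP.1
  haveI := hA
  obtain ⟨B, _, ⟨eA⟩⟩ := Cfsg.Agent.FusionSys.exists_small_copy_comm A
  have hB : ∀ b : B, b ^ p = 1 := fun b => by
    rw [← eA.apply_symm_apply b, ← map_pow, hAp, map_one]
  by_cases hp : p = 2
  · subst hp
    have hy2 : y * y = 1 := by rw [← sq]; exact hyp
    have hx2 : x * x = 1 := by rw [← sq]; exact hxp
    have ha4 : orderOf (x * y) = 4 := by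
      refine (orderOf_eq_prime_pow (p := 2) (n := 1) ?_ ?_).trans (by norm_num)
      · intro h
        refine hne ?_
        rw [pow_one, sq] at h
        calc x * y = (x * y * (x * y)) * (y⁻¹ * x⁻¹) := by group
          _ = y * x := by rw [h, one_mul, inv_eq_of_mul_eq_one_left hy2, inv_eq_of_mul_eq_one_left hx2]
      · have hc2 : ∀ c : commutator P, c ^ 2 = 1 := fun c => by rw [← hge.2]; exact pow_card_eq_one'
        have h := hc2 ⟨(x * y) ^ 2, hpow⟩
        show (x * y) ^ (2 ^ (1 + 1)) = 1
        rw [show (2 : ℕ) ^ (1 + 1) = 2 * 2 from rfl, pow_mul]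
        exact congrArg Subtype.val h
    obtain ⟨d⟩ := Cfsg.Agent.TwoLift.dihedral_equiv (a := x * y) (g := y) ha4 hy2
      (by rw [mul_inv_rev, inv_eq_of_mul_eq_one_left hy2, inv_eq_of_mul_eq_one_left hx2, mul_assoc, mul_assoc x,
        hy2, mul_one])
      (fun h => hne (by
        obtain ⟨k, hk⟩ := h
        have hc : Commute y (x * y) := by
          have h0 := (Commute.refl (x * y)).zpow_left k
          rwa [show (x * y) ^ k = y from hk] at h0
        have hc' : y * (x * y) = x * y * y := hc
        rw [mul_assoc x, hy2, mul_one] at hc'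
        calc x * y = y * (x * y) * y := by rw [hc']
          _ = y * x * (y * y) := by group
          _ = y * x := by rw [hy2, mul_one]))
      (H := E) (by
        rw [hE]
        refine le_antisymm ((Subgroup.closure_le _).2 ?_) ((Subgroup.closure_le _).2 ?_)
        · rintro u (rfl | rfl)
          · have h := Subgroup.mul_mem (Subgroup.closure ({u * y, y} : Set P))
              (Subgroup.subset_closure (Set.mem_insert _ _)) (Subgroup.inv_mem _ (Subgroup.subset_closure
                (Set.mem_insert_of_mem _ rfl)))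
            simpa using h
          · exact Subgroup.subset_closure (Set.mem_insert_of_mem _ rfl)
        · rintro u (rfl | rfl)
          · exact Subgroup.mul_mem _ (Subgroup.subset_closure (Set.mem_insert _ _))
              (Subgroup.subset_closure (Set.mem_insert_of_mem _ rfl))
          · exact Subgroup.subset_closure (Set.mem_insert_of_mem _ rfl))
    exact h2 rfl ⟨B, inferInstance, hB, ⟨iso.trans (d.prodCongr eA)⟩⟩
  · obtain ⟨E', _, ⟨eE⟩⟩ := Cfsg.Agent.FusionSys.exists_small_copy E
    refine hodd hp ⟨E', inferInstance, B, inferInstance, Cfsg.Agent.Qd.isExtraspecial_congr eE.symm hEx, ?_, ?_, hB, ⟨iso.trans (eE.prodCongr eA)⟩⟩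
    · rw [← Nat.card_congr eE.toEquiv, hE3]
    · rw [← Monoid.exponent_eq_of_mulEquiv eE, hEexp hp]

end Cfsg.Agent.S5233
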