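import Cfsg.Statements.S5237
import Cfsg.Agent.Lib.Fusion.FunctorControl
import Cfsg.Agent.Lib.S3Free.Closure.General

set_option autoImplicit false
open Cfsg

namespace Cfsg.Agent.S5237

/-- Let S be a nontrivial finite 2-group (p = 2). Then S has a nontrivial characteristic subgroup W that is normal in every saturated fusion system over S that is S₄-free (the symmetric group of degree 4 is not involved in any model of the normalizer system of a fully normalized centric subgroup). -/
theorem result {Ω : Type*} [Group Ω] {S : Subgroup Ω} [Finite S] (hS : IsPGroup 2 S) (hS1 : S ≠ ⊥) : ∃ W : Subgroup Ω, W ≤ S ∧ W ≠ ⊥ ∧ (W.subgroupOf S).Characteristic ∧ ∀ F : Cfsg.FusionSystem S, F.IsSaturated 2 → F.IsSectionFree 2 (Equiv.Perm (Fin 4)) → F.IsNormal W := by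
  haveI : Fact (Nat.Prime 2) := ⟨Nat.prime_two⟩
  haveI : Nontrivial S := (Subgroup.nontrivial_iff_ne_bot S).2 hS1
  refine ⟨(Cfsg.Agent.SFW.wGen S).map S.subtype, Subgroup.map_subtype_le _, fun h => ?_, ?_, fun F hF hfree => ?_⟩
  · exact Cfsg.Agent.SFW.wGen_ne_bot hS ((Subgroup.map_eq_bot_iff_of_injective _ S.subtype_injective).1 h)
  · rw [show ((Cfsg.Agent.SFW.wGen S).map S.subtype).subgroupOf S = Cfsg.Agent.SFW.wGen S from
      Subgroup.comap_map_eq_self_of_injective S.subtype_injective _]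
    exact Subgroup.characteristic_iff_map_eq.2 fun φ => Cfsg.Agent.SFW.wGen_map φ
  · exact Cfsg.Agent.FusionSys.isNormal_functor (W := fun Q _ => Cfsg.Agent.SFW.wGen Q)
      (fun Q _ _ hQ _ => Cfsg.Agent.SFW.wGen_ne_bot hQ)
      (fun Q R _ _ _ _ φ => Cfsg.Agent.SFW.wGen_map φ)
      (fun L _ _ P hc hn => Cfsg.Agent.SFW.wOf_normal hn hc P) hS hF hfree

end Cfsg.Agent.S5237
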