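import Cfsg.Statements.S5238
import Cfsg.Agent.Lib.Fusion.PearlRank
import Cfsg.Agent.S5186

set_option autoImplicit false
open Cfsg

open Cfsg.FusionSystem Cfsg.Agent.FusionSys

namespace Cfsg.Agent.S5238Aux

open scoped commutatorElement

variable {G : Type*} [Group G] [Finite G] {p : ℕ} [hp : Fact p.Prime]

/-- A self-centralizing subgroup of order `p²` contains an element with that centralizer. -/
theorem exists_abelian (n : ℕ) (hn : Nat.card G = p ^ n) (h3 : 3 ≤ n) (B : Subgroup G)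
    (hB : Nat.card B = p ^ 2) (hBp : ∀ a ∈ B, a ^ p = 1) (hC : Subgroup.centralizer (B : Set G) ≤ B) :
    ∃ x : G, x ^ p = 1 ∧ Nat.card (Subgroup.centralizer ({x} : Set G)) = p ^ 2 := by
  have hZB : Subgroup.center G ≤ B := (Subgroup.center_le_centralizer _).trans hC
  obtain ⟨x, hxB, hxZ⟩ : ∃ x ∈ B, x ∉ Subgroup.center G := by
    by_contra hall
    push Not at hall
    have : Subgroup.centralizer (B : Set G) = ⊤ := Subgroup.centralizer_eq_top_iff_subset.2 hall
    rw [this, top_le_iff] at hC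
    rw [hC, Subgroup.card_top, hn] at hB
    have := Nat.pow_right_injective hp.out.two_le hB
    omega
  refine ⟨x, hBp x hxB, ?_⟩
  letI := IsPGroup.commGroupOfCardEqPrimeSq (G := B) hB
  have hBC : B ≤ Subgroup.centralizer ({x} : Set G) := fun b hb =>
    Subgroup.mem_centralizer_singleton_iff.2 (congrArg Subtype.val (mul_comm (⟨b, hb⟩ : B) ⟨x, hxB⟩))
  refine le_antisymm ?_ (hB ▸ Subgroup.card_le_of_le hBC)
  rw [← hB]
  refine Subgroup.card_le_of_le fun g hg => hC ?_
  set S := B ⊓ Subgroup.centralizer ({g} : Set G) with hS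
  have hlt : Subgroup.center G < S := lt_of_le_of_ne
    (le_inf hZB (Subgroup.center_le_centralizer _)) fun e => hxZ (e.symm ▸
      (⟨hxB, Subgroup.mem_centralizer_singleton_iff.2 (Subgroup.mem_centralizer_singleton_iff.1 hg).symm⟩ : x ∈ S))
  haveI : Nontrivial G := Finite.one_lt_card_iff_nontrivial.1 (by rw [hn]; exact Nat.one_lt_pow (by omega) hp.out.one_lt)
  obtain ⟨i, hi⟩ := IsPGroup.iff_card.1 ((IsPGroup.of_card hn).to_subgroup (Subgroup.center G))
  obtain ⟨j, hj⟩ := IsPGroup.iff_card.1 ((IsPGroup.of_card hn).to_subgroup S)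
  have hi0 : i ≠ 0 := fun e => (IsPGroup.of_card hn).bot_lt_center.ne'
    (Subgroup.card_eq_one.1 (by rw [hi, e, pow_zero]))
  have hij : i < j := by
    have := lt_of_le_of_ne (Subgroup.card_le_of_le hlt.le)
      fun e => hlt.ne (Subgroup.eq_of_le_of_card_ge hlt.le e.ge)
    rw [hi, hj] at this
    exact (Nat.pow_lt_pow_iff_right hp.out.one_lt).1 this
  have hSB : S = B := Subgroup.eq_of_le_of_card_ge inf_le_left
    (by rw [hB, hj]; exact Nat.pow_le_pow_right hp.out.pos (by omega))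
  exact Subgroup.mem_centralizer_iff.2 fun b hb =>
    Subgroup.mem_centralizer_singleton_iff.1 (hSB.ge hb).2

theorem commutator_mul_of_central {a b y : G} (h : ⁅b, y⁆ ∈ Subgroup.center G) :
    ⁅a * b, y⁆ = ⁅a, y⁆ * ⁅b, y⁆ := by
  have hc := Subgroup.mem_center_iff.1 h
  calc ⁅a * b, y⁆ = a * ⁅b, y⁆ * (y * a⁻¹ * y⁻¹) := by simp only [commutatorElement_def]; group
    _ = ⁅b, y⁆ * (a * (y * a⁻¹ * y⁻¹)) := by rw [hc a, mul_assoc]
    _ = (a * (y * a⁻¹ * y⁻¹)) * ⁅b, y⁆ := (hc _).symm
    _ = ⁅a, y⁆ * ⁅b, y⁆ := by simp only [commutatorElement_def]; group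

theorem card_le_ker_mul (H : Subgroup G) (y : G) (hy : ∀ a ∈ H, ⁅a, y⁆ ∈ Subgroup.center G)
    (hZ : Nat.card (Subgroup.center G) = p) :
    Nat.card H ≤ p * Nat.card (H ⊓ Subgroup.centralizer ({y} : Set G) : Subgroup G) := by
  let f : H →* Subgroup.center G := MonoidHom.mk' (fun a => ⟨⁅(a : G), y⁆, hy a a.2⟩) fun a b =>
    Subtype.ext (commutator_mul_of_central (hy b b.2))
  have h1 := Cfsg.Agent.S4143Aux.card_le_mul_ker f
  rw [hZ] at h1
  refine h1.trans (Nat.mul_le_mul_left _ ?_)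
  rw [← Subgroup.card_map_of_injective (f := H.subtype) H.subtype_injective]
  refine Subgroup.card_le_of_le ?_
  rintro _ ⟨a, ha, rfl⟩
  exact ⟨a.2, Subgroup.mem_centralizer_singleton_iff.2
    (commutatorElement_eq_one_iff_mul_comm.1 (congrArg Subtype.val ha))⟩

/-- A self-centralizing extraspecial subgroup of order `p³` and exponent `p` contains an element with
centralizer of order `p²`. -/
theorem exists_extraspecial (n : ℕ) (hn : Nat.card G = p ^ n) (B : Subgroup G)
    (hB : Nat.card B = p ^ 3) (hna : ¬ IsMulCommutative B) (hBp : ∀ a ∈ B, a ^ p = 1)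
    (hC : Subgroup.centralizer (B : Set G) ≤ B) :
    ∃ x : G, x ^ p = 1 ∧ Nat.card (Subgroup.centralizer ({x} : Set G)) = p ^ 2 := by
  have hG := IsPGroup.of_card hn
  set Z := Subgroup.center G with hZdef
  have hZB : Z ≤ B := (Subgroup.center_le_centralizer _).trans hC
  have hlt : ∀ {S T : Subgroup G}, S < T → ∀ i j : ℕ, Nat.card S = p ^ i → Nat.card T = p ^ j → i < j := by
    intro S T h i j hi hj
    have := lt_of_le_of_ne (Subgroup.card_le_of_le h.le)
      fun e => h.ne (Subgroup.eq_of_le_of_card_ge h.le e.ge)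
    rw [hi, hj] at this
    exact (Nat.pow_lt_pow_iff_right hp.out.one_lt).1 this
  -- two non-commuting elements generate `B`
  have hgen : ∀ a ∈ B, ∀ b ∈ B, a * b ≠ b * a → ∀ S : Subgroup G, a ∈ S → b ∈ S → B ≤ S := by
    intro a ha b hb hab S haS hbS
    obtain ⟨j, hj⟩ := IsPGroup.iff_card.1 (hG.to_subgroup (B ⊓ S))
    have hj2 : ¬ j ≤ 2 := by
      intro hj2
      apply hab
      interval_cases j
      · have := Subgroup.card_eq_one.1 (hj.trans (pow_zero p))
        have h1 : a ∈ (⊥ : Subgroup G) := this ▸ (⟨ha, haS⟩ : a ∈ B ⊓ S)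
        rw [Subgroup.mem_bot.1 h1, one_mul, mul_one]
      · haveI : IsCyclic (B ⊓ S : Subgroup G) := isCyclic_of_prime_card (hj.trans (pow_one p))
        exact congrArg Subtype.val ((IsCyclic.commutative (α := (B ⊓ S : Subgroup G))).is_comm.comm
          ⟨a, ha, haS⟩ ⟨b, hb, hbS⟩)
      · letI := IsPGroup.commGroupOfCardEqPrimeSq (G := (B ⊓ S : Subgroup G)) hj
        exact congrArg Subtype.val (mul_comm (⟨a, ha, haS⟩ : (B ⊓ S : Subgroup G)) ⟨b, hb, hbS⟩)
    refine le_trans ?_ (inf_le_right : B ⊓ S ≤ S)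
    refine (Subgroup.eq_of_le_of_card_ge inf_le_left ?_).ge
    rw [hB, hj]
    exact Nat.pow_le_pow_right hp.out.pos (by omega)
  obtain ⟨a, ha, b, hb, hab⟩ : ∃ a ∈ B, ∃ b ∈ B, a * b ≠ b * a := by
    by_contra hcon
    push Not at hcon
    exact hna ⟨⟨fun u v => Subtype.ext (hcon u u.2 v v.2)⟩⟩
  haveI : Nontrivial G := ⟨a * b, b * a, hab⟩
  -- `Z(G)` has order `p`
  obtain ⟨i, hi⟩ := IsPGroup.iff_card.1 (hG.to_subgroup Z)
  have hi0 : i ≠ 0 := fun e => hG.bot_lt_center.ne' (Subgroup.card_eq_one.1 (by rw [← hZdef, hi, e, pow_zero]))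
  have hi1 : i = 1 := by
    set A := B ⊓ Subgroup.centralizer ({a} : Set G) with hA
    have h1 : Z < A := lt_of_le_of_ne (le_inf hZB (Subgroup.center_le_centralizer _)) fun e => hab (by
      have haZ : a ∈ Z := by rw [e]; exact ⟨ha, Subgroup.mem_centralizer_singleton_iff.2 rfl⟩
      exact (Subgroup.mem_center_iff.1 haZ b).symm)
    have h2 : A < B := lt_of_le_of_ne inf_le_left fun e =>
      hab (Subgroup.mem_centralizer_singleton_iff.1 (e.ge hb).2).symm
    obtain ⟨j, hj⟩ := IsPGroup.iff_card.1 (hG.to_subgroup A)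
    have := hlt h1 i j hi hj
    have := hlt h2 j 3 hj hB
    omega
  subst hi1
  rw [pow_one] at hi
  -- `C(B) = Z`
  have hCB : ∀ g ∈ Subgroup.centralizer (B : Set G), g ∈ Z := by
    intro g hg
    obtain ⟨j, hj⟩ := IsPGroup.iff_card.1 (hG.to_subgroup (Subgroup.centralizer (B : Set G)))
    set A := B ⊓ Subgroup.centralizer ({a} : Set G) with hA
    obtain ⟨k, hk⟩ := IsPGroup.iff_card.1 (hG.to_subgroup A)
    have h2 : A < B := lt_of_le_of_ne inf_le_left fun e =>
      hab (Subgroup.mem_centralizer_singleton_iff.1 (e.ge hb).2).symm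
    have h3 : Subgroup.centralizer (B : Set G) < A := lt_of_le_of_ne
      (le_inf hC (Subgroup.centralizer_le (Set.singleton_subset_iff.2 ha))) fun e => hab (by
        have haC : a ∈ Subgroup.centralizer (B : Set G) := by
          rw [e]; exact ⟨ha, Subgroup.mem_centralizer_singleton_iff.2 rfl⟩
        exact (Subgroup.mem_centralizer_iff.1 haC b hb).symm)
    have := hlt h3 j k hj hk
    have := hlt h2 k 3 hk hB
    refine (Subgroup.eq_of_le_of_card_ge (Subgroup.center_le_centralizer _ :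
      Z ≤ Subgroup.centralizer (B : Set G)) ?_).ge hg
    rw [hi, hj]
    calc p ^ j ≤ p ^ 1 := Nat.pow_le_pow_right hp.out.pos (by omega)
      _ = p := pow_one p
  -- an element of the second centre
  obtain ⟨l, hlZ, hl⟩ : ∃ l, l ∉ Z ∧ ∀ g : G, ⁅g, l⁆ ∈ Z := by
    haveI : Nontrivial (G ⧸ Z) := QuotientGroup.nontrivial_iff.2 fun e =>
      hab (Subgroup.mem_center_iff.1 (e.symm ▸ Subgroup.mem_top a : a ∈ Z) b).symm
    obtain ⟨q, hq, hq1⟩ := SetLike.exists_of_lt ((hG.to_quotient Z).bot_lt_center)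
    obtain ⟨l, rfl⟩ := QuotientGroup.mk'_surjective Z q
    refine ⟨l, fun h => hq1 (Subgroup.mem_bot.2 ((QuotientGroup.eq_one_iff l).2 h)), fun g => ?_⟩
    rw [← QuotientGroup.eq_one_iff, ← QuotientGroup.mk'_apply, map_commutatorElement,
      commutatorElement_eq_one_iff_mul_comm]
    exact Subgroup.mem_center_iff.1 hq _
  -- it lies in `B`
  have hz : ∀ u ∈ B, ∀ v ∈ B, ⁅u, v⁆ ∈ Z := by
    intro u hu v hv
    by_contra hnot
    by_cases huv : u * v = v * u
    · exact hnot ((commutatorElement_eq_one_iff_mul_comm.2 huv).symm ▸ one_mem Z)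
    have hnorm : (Z.subgroupOf B).Normal := Subgroup.Normal.subgroupOf (by infer_instance) B
    have hc : Nat.card (↥B ⧸ Z.subgroupOf B) = p ^ 2 := by
      refine Nat.eq_of_mul_eq_mul_left hp.out.pos ?_
      conv_lhs => rw [← hi, ← Nat.card_congr (Subgroup.subgroupOfEquivOfLe hZB).toEquiv,
        ← Subgroup.index_eq_card, Subgroup.card_mul_index, hB]
      rw [← pow_succ']
    letI := IsPGroup.commGroupOfCardEqPrimeSq hc
    refine hnot ?_
    have h1 := mul_comm (QuotientGroup.mk (⟨u, hu⟩ : B) : ↥B ⧸ Z.subgroupOf B) (QuotientGroup.mk ⟨v, hv⟩)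
    rw [← commutatorElement_eq_one_iff_mul_comm] at h1
    have h2 : (QuotientGroup.mk ⁅(⟨u, hu⟩ : B), ⟨v, hv⟩⁆ : ↥B ⧸ Z.subgroupOf B) = 1 := by
      rw [← QuotientGroup.mk'_apply, map_commutatorElement]; exact h1
    rw [QuotientGroup.eq_one_iff, Subgroup.mem_subgroupOf] at h2
    exact h2
  have hlB : l ∈ B := by
    haveI : Fact (Nat.card Z).Prime := ⟨hi ▸ hp.out⟩
    have hab1 : (⟨⁅a, b⁆, hz a ha b hb⟩ : Z) ≠ 1 := fun e =>
      hab (commutatorElement_eq_one_iff_mul_comm.1 (congrArg Subtype.val e))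
    have hex : ∀ c ∈ Z, ∃ t : ℕ, ⁅a ^ t, b⁆ = c ∧ ⁅b ^ t, a⁆ = c⁻¹ := by
      intro c hc
      obtain ⟨t, ht⟩ := mem_powers_of_prime_card rfl hab1 (g' := ⟨c, hc⟩)
      have hpw : ∀ (u v : G), u ∈ B → v ∈ B → ∀ t : ℕ, ⁅u ^ t, v⁆ = ⁅u, v⁆ ^ t := by
        intro u v hu hv t
        induction t with
        | zero => simp [commutatorElement_def]
        | succ t iht =>
          rw [pow_succ, commutator_mul_of_central (hz u hu v hv), iht, pow_succ]
      have ht' : ⁅a, b⁆ ^ t = c := by simpa using congrArg Subtype.val ht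
      refine ⟨t, by rw [hpw a b ha hb, ht'], ?_⟩
      rw [hpw b a hb ha, ← commutatorElement_inv a b, inv_pow, ht']
    have hla : ⁅l, a⁆ ∈ Z := by rw [← commutatorElement_inv]; exact inv_mem (hl a)
    have hlb : ⁅l, b⁆ ∈ Z := by rw [← commutatorElement_inv]; exact inv_mem (hl b)
    obtain ⟨s, -, hs⟩ := hex ⁅l, a⁆ hla
    obtain ⟨t, ht, -⟩ := hex (⁅l, b⁆⁻¹) (inv_mem hlb)
    set e := b ^ s * a ^ t with he
    have heB : e ∈ B := mul_mem (pow_mem hb s) (pow_mem ha t)
    have h1 : ⁅l * e, a⁆ = 1 := by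
      rw [he, ← mul_assoc, commutator_mul_of_central (hz _ (pow_mem ha t) _ ha),
        commutator_mul_of_central (hz _ (pow_mem hb s) _ ha), hs, mul_inv_cancel, one_mul,
        commutatorElement_eq_one_iff_mul_comm]
      exact (Commute.pow_self a t).eq
    have h2 : ⁅l * e, b⁆ = 1 := by
      rw [he, ← mul_assoc, commutator_mul_of_central (hz _ (pow_mem ha t) _ hb),
        commutator_mul_of_central (hz _ (pow_mem hb s) _ hb), ht,
        commutatorElement_eq_one_iff_mul_comm.2 (Commute.pow_self b s).eq, mul_one, mul_inv_cancel]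
    rw [commutatorElement_eq_one_iff_mul_comm] at h1 h2
    have hle : l * e ∈ Subgroup.centralizer (B : Set G) := by
      rw [Subgroup.mem_centralizer_iff]
      intro u hu
      exact Subgroup.mem_centralizer_singleton_iff.1 (hgen a ha b hb hab
        (Subgroup.centralizer ({l * e} : Set G)) (Subgroup.mem_centralizer_singleton_iff.2 h1.symm)
        (Subgroup.mem_centralizer_singleton_iff.2 h2.symm) hu)
    have := mul_mem (hC hle) (inv_mem heB)
    simpa using this
  obtain ⟨x, hxB, hxl⟩ : ∃ x ∈ B, x * l ≠ l * x := by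
    by_contra hall
    push Not at hall
    exact hlZ (hCB l (Subgroup.mem_centralizer_iff.2 fun u hu => hall u hu))
  refine ⟨x, hBp x hxB, ?_⟩
  set Cx := Subgroup.centralizer ({x} : Set G) with hCx
  have hker : Cx ⊓ Subgroup.centralizer ({l} : Set G) ≤ Z := by
    intro g hg
    have hgC : g ∈ Subgroup.centralizer (B : Set G) := Subgroup.mem_centralizer_iff.2 fun u hu =>
      Subgroup.mem_centralizer_singleton_iff.1 (hgen x hxB l hlB hxl (Subgroup.centralizer ({g} : Set G))
        (Subgroup.mem_centralizer_singleton_iff.2 (Subgroup.mem_centralizer_singleton_iff.1 hg.1).symm)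
        (Subgroup.mem_centralizer_singleton_iff.2 (Subgroup.mem_centralizer_singleton_iff.1 hg.2).symm) hu)
    exact hCB g hgC
  refine le_antisymm ?_ ?_
  · refine (card_le_ker_mul Cx l (fun g _ => hl g) hi).trans ?_
    rw [pow_two]
    exact Nat.mul_le_mul_left _ ((Subgroup.card_le_of_le hker).trans hi.le)
  · obtain ⟨j, hj⟩ := IsPGroup.iff_card.1 (hG.to_subgroup Cx)
    have hlt' : Z < Cx := lt_of_le_of_ne (Subgroup.center_le_centralizer _) fun e => hxl (by
      have hxZ : x ∈ Z := by rw [e]; exact Subgroup.mem_centralizer_singleton_iff.2 rfl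
      exact (Subgroup.mem_center_iff.1 hxZ l).symm)
    have := hlt hlt' 1 j (by rw [hi, pow_one]) hj
    rw [hj]
    exact Nat.pow_le_pow_right hp.out.pos (by omega)

end Cfsg.Agent.S5238Aux

namespace Cfsg.Agent.S5238

/-- Let p be an odd prime and F a saturated fusion system over a finite p-group S having a pearl: an F-essential subgroup E that is elementary abelian of order p² or nonabelian of order p³. Then S has maximal nilpotency class (if S has order pⁿ with n ≥ 3, the term of index n − 2 of its lower central series, counting S itself as the term of index 0, is nontrivial), and every subgroup of S can be generated by at most p elements (the sectional rank of S is at most p). -/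
theorem result {Ω : Type*} [Group Ω] {S : Subgroup Ω} [Finite S] (p : ℕ) [Fact p.Prime] (hS : IsPGroup p S) (F : Cfsg.FusionSystem S) (hF : F.IsSaturated p) (hp : p ≠ 2) (E : Subgroup Ω) (hE : F.IsEssential p E) (hpearl : (Nat.card E = p ^ 2 ∧ ∀ x ∈ E, x ^ p = 1 ∧ IsMulCommutative ↥E) ∨ (Nat.card E = p ^ 3 ∧ ¬ IsMulCommutative ↥E)) : (∀ n : ℕ, Nat.card S = p ^ n → 3 ≤ n → Subgroup.lowerCentralSeries S (n - 2) ≠ ⊥) ∧ ∀ H : Subgroup Ω, H ≤ S → ∃ T : Finset Ω, T.card ≤ p ∧ Subgroup.closure (T : Set Ω) = H := by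
  classical
  have hpp : p.Prime := Fact.out
  obtain ⟨n, hn⟩ := IsPGroup.iff_card.1 hS
  have hES : E ≤ S := hE.1.1
  set B := E.subgroupOf S with hBdef
  have hBE : Nat.card B = Nat.card E := Nat.card_congr (Subgroup.subgroupOfEquivOfLe hES).toEquiv
  have hBC : Subgroup.centralizer (B : Set S) ≤ B := by
    intro g hg
    refine hE.1.2 E (isConj_refl F hES) ⟨g.2, Subgroup.mem_centralizer_iff.2 fun u hu => ?_⟩
    exact congrArg Subtype.val (Subgroup.mem_centralizer_iff.1 hg ⟨u, hES hu⟩ hu)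
  have hsmall : n ≤ 2 → ∀ H : Subgroup S, ∃ T : Finset S, T.card ≤ p ∧ Subgroup.closure (T : Set S) = H := by
    intro hn2 H
    obtain ⟨j, hj⟩ := IsPGroup.iff_card.1 ((IsPGroup.of_card hn).to_subgroup H)
    have hj2 : j ≤ n := (Nat.pow_dvd_pow_iff_le_right hpp.one_lt).1 (hn ▸ hj ▸ H.card_subgroup_dvd_card)
    by_cases hb : H = ⊥
    · exact ⟨∅, by simp, by simp [hb]⟩
    obtain ⟨a, haH, ha⟩ := SetLike.exists_of_lt (bot_lt_iff_ne_bot.2 hb)
    by_cases ha' : H ≤ Subgroup.zpowers a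
    · refine ⟨{a}, by simpa using hpp.one_lt.le, le_antisymm ?_ ?_⟩
      · rw [Subgroup.closure_le]; simpa using haH
      · simpa [← Subgroup.zpowers_eq_closure] using ha'
    obtain ⟨b, hbH, hb'⟩ := SetLike.not_le_iff_exists.1 ha'
    refine ⟨{a, b}, Finset.card_le_two.trans hpp.two_le, ?_⟩
    set U := Subgroup.closure (({a, b} : Finset S) : Set S) with hU
    have hUH : U ≤ H := by
      rw [hU, Subgroup.closure_le]
      intro u hu
      rcases Finset.mem_insert.1 (Finset.mem_coe.1 hu) with rfl | h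
      · exact haH
      · rw [Finset.mem_singleton.1 h]; exact hbH
    refine Subgroup.eq_of_le_of_card_ge hUH ?_
    have hlt : Subgroup.zpowers a < U := lt_of_le_of_ne
      ((Subgroup.zpowers_le).2 (Subgroup.subset_closure (by simp))) fun e =>
        hb' (e ▸ Subgroup.subset_closure (by simp))
    obtain ⟨i₁, hi₁⟩ := IsPGroup.iff_card.1 ((IsPGroup.of_card hn).to_subgroup (Subgroup.zpowers a))
    obtain ⟨i₂, hi₂⟩ := IsPGroup.iff_card.1 ((IsPGroup.of_card hn).to_subgroup U)
    have h1 : i₁ ≠ 0 := fun e => ha (Subgroup.mem_bot.2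
      (Subgroup.zpowers_eq_bot.1 (Subgroup.card_eq_one.1 (by rw [hi₁, e, pow_zero]))))
    have h2 := lt_of_le_of_ne (Subgroup.card_le_of_le hlt.le)
      fun e => hlt.ne (Subgroup.eq_of_le_of_card_ge hlt.le e.ge)
    rw [hi₁, hi₂] at h2
    have := (Nat.pow_lt_pow_iff_right hpp.one_lt).1 h2
    rw [hi₂, hj]
    exact Nat.pow_le_pow_right hpp.pos (by omega)
  have hpearl' : 3 ≤ n → ∃ x, PearlRank.Pearl p n (x : S) := by
    intro h3
    suffices h : ∃ x : S, x ^ p = 1 ∧ Nat.card (Subgroup.centralizer ({x} : Set S)) = p ^ 2 by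
      obtain ⟨x, h1, h2⟩ := h
      exact ⟨x, hn, h3, h1, h2⟩
    rcases hpearl with ⟨hc, hel⟩ | ⟨hc, hna⟩
    · exact S5238Aux.exists_abelian n hn h3 B (hBE.trans hc)
        (fun a ha => Subtype.ext ((hel _ ha).1)) hBC
    · refine S5238Aux.exists_extraspecial n hn B (hBE.trans hc) ?_ ?_ hBC
      · intro h
        refine hna ⟨⟨fun u v => ?_⟩⟩
        have := h.is_comm.comm ⟨⟨u, hES u.2⟩, u.2⟩ ⟨⟨v, hES v.2⟩, v.2⟩
        exact Subtype.ext (congrArg (fun w : B => ((w : S) : Ω)) this)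
      · rcases Cfsg.Agent.S5186.result p hS F hF E hE hc with h | ⟨-, -, h⟩ | ⟨h, -⟩
        · exact fun a ha => Subtype.ext (h.2 _ ha)
        · exact fun a ha => Subtype.ext (h _ ha)
        · exact absurd h hp
  refine ⟨fun m hm h3 hbot => ?_, fun H hH => ?_⟩
  · obtain rfl : m = n := Nat.pow_right_injective hpp.two_le (hm.symm.trans hn)
    obtain ⟨x, hx⟩ := hpearl' h3
    rw [← Subgroup.top_subtype_lowerCentralSeries, Subgroup.map_eq_bot_iff_of_injective _ S.subtype_injective]
      at hbot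
    haveI := hS.isNilpotent
    rw [Subgroup.lowerCentralSeries_eq_bot_iff_nilpotencyClass_le, hx.cls] at hbot
    omega
  · obtain ⟨T, hT, hTH⟩ : ∃ T : Finset S, T.card ≤ p ∧ Subgroup.closure (T : Set S) = H.subgroupOf S := by
      rcases Nat.lt_or_ge n 3 with h3 | h3
      · exact hsmall (by omega) _
      · obtain ⟨x, hx⟩ := hpearl' h3
        exact hx.exists_gen_all _
    refine ⟨T.image S.subtype, Finset.card_image_le.trans hT, ?_⟩
    rw [Finset.coe_image, ← MonoidHom.map_closure, hTH, Subgroup.map_subgroupOf_eq_of_le hH]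

end Cfsg.Agent.S5238
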