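import Cfsg.Statements.S5239
import Cfsg.Agent.Lib.Fusion.PearlThree
import Cfsg.Agent.S5238
import Cfsg.Agent.S5185
import Cfsg.Agent.S5186

set_option autoImplicit false
open Cfsg

open Cfsg.FusionSystem Cfsg.Agent.FusionSys

namespace Cfsg.Agent.S5239Aux

open scoped commutatorElement

universe u

/-- An involutory automorphism of `C₃ × C₃` centralized by a subgroup of exponent `> 2` of automorphisms
inverts every element. -/
theorem inverts {E : Type u} [Group E] [Finite E] (hcard : Nat.card E = 9) (hexp : ∀ x : E, x ^ 3 = 1)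
    (hcomm : ∀ a b : E, a * b = b * a) (α k : MulAut E) (h2 : α * α = 1) (h1 : α ≠ 1)
    (hc : α * k = k * α) (hk : k * k ≠ 1) : ∀ x : E, α x = x⁻¹ := by
  haveI : Fact (Nat.Prime 3) := ⟨Nat.prime_three⟩
  have hα : ∀ x, α (α x) = x := fun x => by rw [← MulAut.mul_apply, h2, MulAut.one_apply]
  have hαk : ∀ x, α (k x) = k (α x) := fun x => by rw [← MulAut.mul_apply, hc, MulAut.mul_apply]
  have hord : ∀ c : E, c ≠ 1 → Nat.card (Subgroup.zpowers c) = 3 := fun c hc1 => by
    rw [Nat.card_zpowers]; exact orderOf_eq_prime (hexp c) hc1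
  have hsq : ∀ (A : Subgroup E) (c : E), A ≠ ⊤ → c ∈ A → c ≠ 1 → (∀ a ∈ A, k a ∈ A) → k (k c) = c := by
    intro A c hA hcA hc1 hinv
    have heq : Subgroup.zpowers c = A := by
      refine Subgroup.eq_of_le_of_card_ge ((Subgroup.zpowers_le).2 hcA) ?_
      have h := A.card_subgroup_dvd_card
      rw [hcard, show (9 : ℕ) = 3 ^ 2 by norm_num] at h
      obtain ⟨i, hi, he⟩ := (Nat.dvd_prime_pow Nat.prime_three).1 h
      rw [hord c hc1, he]
      rcases (show i ≤ 1 ∨ i = 2 by omega) with h1 | rfl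
      · exact (Nat.pow_le_pow_right (by norm_num) h1).trans (by norm_num)
      · exact absurd (Subgroup.eq_top_of_card_eq A (by rw [he, hcard]; norm_num)) hA
    have hm : k c ∈ Subgroup.zpowers c := heq.symm ▸ hinv c hcA
    rw [← mem_powers_iff_mem_zpowers] at hm
    obtain ⟨m, hm⟩ := hm
    simp only at hm
    have hm' : c ^ (m % 3) = k c := by rw [← hm, pow_eq_pow_mod m (hexp c)]
    have h3 : m % 3 < 3 := Nat.mod_lt _ (by norm_num)
    rw [← hm', map_pow, ← hm', ← pow_mul]
    interval_cases h : m % 3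
    · exact absurd (k.map_eq_one_iff.1 (hm'.symm.trans (pow_zero c))) hc1
    · simp
    · rw [show 2 * 2 = 3 + 1 by norm_num, pow_succ, hexp, one_mul]
  intro x
  by_contra hx
  obtain ⟨y, hy⟩ : ∃ y, α y ≠ y := by
    by_contra hall
    push Not at hall
    exact h1 (MulEquiv.ext hall)
  set c := x * α x with hcd
  set d := y⁻¹ * α y with hdd
  have hcfix : α c = c := by rw [hcd, map_mul, hα, hcomm]
  have hc1 : c ≠ 1 := fun e => hx (eq_inv_of_mul_eq_one_right e)
  have hdinv : α d = d⁻¹ := by rw [hdd, map_mul, map_inv, hα, mul_inv_rev, inv_inv]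
  have hd1 : d ≠ 1 := fun e => hy (inv_mul_eq_one.1 e).symm
  let Fx : Subgroup E :=
    { carrier := {a | α a = a}
      mul_mem' := fun {a b} ha hb => by
        simp only [Set.mem_setOf_eq] at ha hb ⊢; rw [map_mul, ha, hb]
      one_mem' := map_one α
      inv_mem' := fun {a} ha => by simp only [Set.mem_setOf_eq] at ha ⊢; rw [map_inv, ha] }
  let Iv : Subgroup E :=
    { carrier := {a | α a = a⁻¹}
      mul_mem' := fun {a b} ha hb => by
        simp only [Set.mem_setOf_eq] at ha hb ⊢; rw [map_mul, ha, hb, mul_inv_rev, hcomm]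
      one_mem' := by simp
      inv_mem' := fun {a} ha => by simp only [Set.mem_setOf_eq] at ha ⊢; rw [map_inv, ha] }
  have hFtop : Fx ≠ ⊤ := fun e => hy (e.ge (Subgroup.mem_top y))
  have hItop : Iv ≠ ⊤ := fun e => hx (e.ge (Subgroup.mem_top x))
  have kc : k (k c) = c := hsq Fx c hFtop hcfix hc1 fun a ha => by
    show α (k a) = k a
    rw [hαk, show α a = a from ha]
  have kd : k (k d) = d := hsq Iv d hItop hdinv hd1 fun a ha => by
    show α (k a) = (k a)⁻¹
    rw [hαk, show α a = a⁻¹ from ha, map_inv]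
  let Kf : Subgroup E :=
    { carrier := {a | k (k a) = a}
      mul_mem' := fun {a b} ha hb => by
        simp only [Set.mem_setOf_eq] at ha hb ⊢; rw [map_mul, map_mul, ha, hb]
      one_mem' := by simp
      inv_mem' := fun {a} ha => by simp only [Set.mem_setOf_eq] at ha ⊢; rw [map_inv, map_inv, ha] }
  have htop : Kf = ⊤ := by
    have hle : Subgroup.zpowers c ≤ Kf := (Subgroup.zpowers_le).2 kc
    have hne : Subgroup.zpowers c ≠ Kf := fun e => by
      have hd : d ∈ Subgroup.zpowers c := e.ge kd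
      have hdF : α d = d := ((Subgroup.zpowers_le).2 (show c ∈ Fx from hcfix)) hd
      rw [hdF] at hdinv
      have h4 : d * d = 1 := by nth_rewrite 1 [hdinv]; exact inv_mul_cancel d
      refine hd1 ?_
      have := hexp d
      rwa [pow_succ, pow_two, h4, one_mul] at this
    refine Subgroup.eq_top_of_card_eq _ ?_
    have h := Kf.card_subgroup_dvd_card
    rw [hcard, show (9 : ℕ) = 3 ^ 2 by norm_num] at h
    obtain ⟨i, hi, he⟩ := (Nat.dvd_prime_pow Nat.prime_three).1 h
    have h3 : ¬ Nat.card Kf ≤ Nat.card (Subgroup.zpowers c) :=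
      fun hle' => hne (Subgroup.eq_of_le_of_card_ge hle hle')
    rw [hord c hc1, he] at h3
    rcases (show i ≤ 1 ∨ i = 2 by omega) with h1 | rfl
    · exact absurd ((Nat.pow_le_pow_right (by norm_num) h1).trans (by norm_num : 3 ^ 1 ≤ 3)) h3
    · rw [he, hcard]; norm_num
  exact hk (MulEquiv.ext fun a => htop.ge (Subgroup.mem_top a))

/-- The central involution of `SL(2,3)`. -/
def zM : Matrix.SpecialLinearGroup (Fin 2) (ZMod 3) := ⟨!![2, 0; 0, 2], by decide⟩

/-- A transvection of `SL(2,3)`. -/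
def tM : Matrix.SpecialLinearGroup (Fin 2) (ZMod 3) := ⟨!![1, 1; 0, 1], by decide⟩

theorem zM_sq : zM * zM = 1 := by decide
theorem zM_ne : zM ≠ 1 := by decide
theorem zM_comm : zM * tM = tM * zM := by decide
theorem tM_sq : tM * tM ≠ 1 := by decide

/-- The case of a pearl of index `3`. -/
theorem small {Ω : Type u} [Group Ω] {S : Subgroup Ω} [Finite S] [Fact (Nat.Prime 3)] (hS : IsPGroup 3 S)
    (F : Cfsg.FusionSystem S) (hF : F.IsSaturated 3) (E : Subgroup Ω) (hE : F.IsEssential 3 E)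
    (hc : Nat.card E = 9) (hcS : Nat.card S = 27) :
    Cfsg.IsExtraspecial 3 ↥S ∧ Monoid.exponent ↥S = 3 := by
  have hES : E ≤ S := hE.1.1
  haveI := finite_of_le hES
  obtain ⟨hel, K, ⟨e⟩⟩ := S5185.result 3 hS F hF E hE (hc.trans (by norm_num))
  have hexpE : ∀ x : E, x ^ 3 = 1 := fun x => Subtype.ext (hel.2 _ x.2)
  have hcomm : ∀ a b : E, a * b = b * a := fun a b =>
    IsPGroup.commutative_of_card_eq_prime_sq (p := 3) (hc.trans (by norm_num)) a b
  -- the central involution
  let z : Matrix.SpecialLinearGroup (Fin 2) (ZMod 3) := zM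
  let T : Matrix.SpecialLinearGroup (Fin 2) (ZMod 3) := tM
  have hz2 : z * z = 1 := zM_sq
  have hz1 : z ≠ 1 := zM_ne
  have hzT : z * T = T * z := zM_comm
  have hT : T * T ≠ 1 := tM_sq
  let ι : Matrix.SpecialLinearGroup (Fin 2) (ZMod 3) →* MulAut E :=
    (F.autGroup E).subtype.comp (K.subtype.comp e.symm.toMonoidHom)
  have hι : Function.Injective ι :=
    (F.autGroup E).subtype_injective.comp (K.subtype_injective.comp e.symm.injective)
  set α := ι z with hαd
  have hinv : ∀ x : E, α x = x⁻¹ := inverts hc hexpE hcomm α (ι T)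
    (by rw [hαd, ← map_mul, hz2, map_one]) (fun h => hz1 (hι (h.trans (map_one ι).symm)))
    (by rw [hαd, ← map_mul, hzT, map_mul]) (fun h => hT (hι (by rw [map_mul, h, map_one])))
  set φ := E.subtype.comp α.toMonoidHom with hφd
  have hαA : α ∈ F.autGroup E := (K.subtype (e.symm z)).2
  have hφ : φ ∈ F.Hom E := (mem_autGroup_iff F hES α).1 hαA
  have hφr : φ.range = E := by
    ext y
    exact ⟨fun ⟨x, hx⟩ => hx ▸ (α x).2, fun hy => ⟨α.symm ⟨y, hy⟩, by simp [hφd]⟩⟩
  have hφv : ∀ x : E, φ x = (x : Ω)⁻¹ := fun x => by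
    show ((α x : E) : Ω) = _
    rw [hinv x]; rfl
  obtain ⟨ψ, hψ, hψφ⟩ := (fullyNormalized_receptive hS hF hE.2.1).2 E φ hφ hφr
  -- `E` is normal
  have hN : normalizerIn S E = S := by
    refine Subgroup.eq_of_le_of_card_ge (normalizerIn_le S E) ?_
    haveI := finite_of_le (normalizerIn_le S E)
    have hlt := lt_normalizerIn hS (essential_lt hS hF hE)
    have h1 := Subgroup.card_le_of_le hlt.le
    have h2 := Subgroup.card_dvd_of_le (normalizerIn_le S E)
    rw [hcS, show (27 : ℕ) = 3 ^ 3 by norm_num] at h2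
    obtain ⟨i, hi, he⟩ := (Nat.dvd_prime_pow Nat.prime_three).1 h2
    have h3 : Nat.card E ≠ Nat.card (normalizerIn S E) := fun h =>
      hlt.ne (Subgroup.eq_of_le_of_card_ge hlt.le h.ge)
    rw [hc, he] at h1 h3
    rw [hcS, he]
    interval_cases i <;> simp_all
  have hnorm : ∀ s ∈ S, ∀ x ∈ E, s * x * s⁻¹ ∈ E := fun s hs x hx =>
    (Subgroup.mem_normalizer_iff.1 (hN.ge hs).2 x).1 hx
  have hext : S ≤ extender S E φ := fun s hs => Subgroup.subset_closure
    ⟨hs, (hN.ge hs).2, s, hs, fun x hx => by rw [hφv, hφv]; simp [mul_assoc]⟩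
  let g : S →* Ω := ψ.comp (Subgroup.inclusion hext)
  have hgS : ∀ s : S, g s ∈ S := fun s => hom_apply_mem F hψ _
  have hgE : ∀ s : S, (s : Ω) ∈ E → g s = (s : Ω)⁻¹ := fun s hs => by
    show ψ ⟨s, hext s.2⟩ = _
    rw [hψφ (s : Ω) hs (hext s.2), hφv]
  have hCE : centralizerIn S E ≤ E := centralizerIn_le_of_centric hE.1
  -- the centre
  haveI : Nontrivial S := Finite.one_lt_card_iff_nontrivial.1 (by rw [hcS]; norm_num)
  have hZE : ∀ c : S, c ∈ Subgroup.center S → (c : Ω) ∈ E := fun c hc' =>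
    hCE ⟨c.2, Subgroup.mem_centralizer_iff.2 fun x hx =>
      congrArg Subtype.val (Subgroup.mem_center_iff.1 hc' ⟨x, hES hx⟩)⟩
  have hZ : Nat.card (Subgroup.center S) = 3 := by
    set B := E.subgroupOf S with hB
    have hBc : Nat.card B = 9 := (Nat.card_congr (Subgroup.subgroupOfEquivOfLe hES).toEquiv).trans hc
    have hle : Subgroup.center S ≤ B := fun c hc' => hZE c hc'
    have hne : Subgroup.center S ≠ B := by
      intro heq
      obtain ⟨s, hs, hsE⟩ := SetLike.exists_of_lt (essential_lt hS hF hE)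
      refine hsE (hCE ⟨hs, Subgroup.mem_centralizer_iff.2 fun x hx => ?_⟩)
      have hxB : (⟨x, hES hx⟩ : S) ∈ Subgroup.center S := heq.ge hx
      exact congrArg Subtype.val (Subgroup.mem_center_iff.1 hxB ⟨s, hs⟩).symm
    have h1 := Subgroup.card_dvd_of_le hle
    rw [hBc, show (9 : ℕ) = 3 ^ 2 by norm_num] at h1
    obtain ⟨i, hi, he⟩ := (Nat.dvd_prime_pow Nat.prime_three).1 h1
    have h0 : i ≠ 0 := fun h => hS.bot_lt_center.ne' (Subgroup.card_eq_one.1 (by rw [he, h, pow_zero]))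
    have h2 : i ≠ 2 := fun h => hne (Subgroup.eq_of_le_of_card_ge hle (by rw [hBc, he, h]; norm_num))
    rw [he, show i = 1 by omega, pow_one]
  have hcl : ∀ a b : S, ⁅a, b⁆ ∈ Subgroup.center S := by
    intro a b
    have hq : Nat.card (S ⧸ Subgroup.center S) = 3 ^ 2 := by
      have h1 := (Subgroup.center S).card_mul_index
      rw [hZ, hcS, Subgroup.index_eq_card] at h1
      omega
    rw [← QuotientGroup.eq_one_iff, ← QuotientGroup.mk'_apply, map_commutatorElement,
      commutatorElement_eq_one_iff_mul_comm]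
    exact IsPGroup.commutative_of_card_eq_prime_sq (p := 3) hq _ _
  refine ⟨isExtraspecial_of_card_cube hS (hcS.trans (by norm_num)) hZ hcl, ?_⟩
  -- exponent
  have hcube : ∀ s : S, s ^ 3 = 1 := by
    intro s
    by_cases hsE : (s : Ω) ∈ E
    · exact Subtype.ext (hel.2 _ hsE)
    set t : S := s⁻¹ * ⟨g s, hgS s⟩ with htd
    have htE : (t : Ω) ∈ E := by
      refine hCE ⟨t.2, Subgroup.mem_centralizer_iff.2 fun x hx => ?_⟩
      let u : S := ⟨x, hES hx⟩
      have h1 : g (s * u * s⁻¹) = ((s : Ω) * x * (s : Ω)⁻¹)⁻¹ := hgE _ (hnorm s s.2 x hx)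
      rw [map_mul, map_mul, map_inv, hgE u hx] at h1
      have h2 : (s : Ω) * x⁻¹ * (s : Ω)⁻¹ = g s * x⁻¹ * (g s)⁻¹ := by rw [h1]; group
      show x * ((s : Ω)⁻¹ * g s) = (s : Ω)⁻¹ * g s * x
      calc x * ((s : Ω)⁻¹ * g s) = (s : Ω)⁻¹ * ((s : Ω) * x⁻¹ * (s : Ω)⁻¹)⁻¹ * g s := by group
        _ = (s : Ω)⁻¹ * (g s * x⁻¹ * (g s)⁻¹)⁻¹ * g s := by rw [h2]
        _ = (s : Ω)⁻¹ * g s * x := by group
    have hnormB : (E.subgroupOf S).Normal := ⟨fun a ha b => hnorm b b.2 a ha⟩
    have hs3 : ((s ^ 3 : S) : Ω) ∈ E := by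
      have hidx : (E.subgroupOf S).index = 3 := by
        have h1 := (E.subgroupOf S).card_mul_index
        rw [Nat.card_congr (Subgroup.subgroupOfEquivOfLe hES).toEquiv, hc, hcS] at h1
        omega
      have := Subgroup.pow_index_mem (E.subgroupOf S) s
      rwa [hidx] at this
    set u : S := ⁅t, s⁆ with hud
    have hu : ∀ v, v * u = u * v := Subgroup.mem_center_iff.1 (hcl t s)
    have hu3 : u ^ 3 = 1 := Subtype.ext (hel.2 _ (hZE u (hcl t s)))
    have ht3 : t ^ 3 = 1 := Subtype.ext (hel.2 _ htE)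
    have hts : t * s = u * (s * t) := by rw [hud, commutatorElement_def]; group
    have hst : (s * t) ^ 3 = s ^ 3 := by
      have e2 : s * t * (s * t) = u * (s * s * (t * t)) := by
        calc s * t * (s * t) = s * (t * s) * t := by simp [mul_assoc]
          _ = s * (u * (s * t)) * t := by rw [hts]
          _ = (s * u) * (s * t) * t := by simp [mul_assoc]
          _ = (u * s) * (s * t) * t := by rw [hu s]
          _ = _ := by simp [mul_assoc]
      have e3 : t * t * s = u * u * (s * (t * t)) := by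
        calc t * t * s = t * (t * s) := by simp [mul_assoc]
          _ = (t * u) * (s * t) := by rw [hts]; simp [mul_assoc]
          _ = u * (t * s) * t := by rw [hu t]; simp [mul_assoc]
          _ = _ := by rw [hts]; simp [mul_assoc]
      calc (s * t) ^ 3 = s * t * (s * t) * (s * t) := by rw [pow_succ, pow_two]
        _ = u * (s * s) * (t * t * s) * t := by rw [e2]; simp [mul_assoc]
        _ = u * ((s * s) * (u * u)) * (s * (t * t)) * t := by rw [e3]; simp [mul_assoc]
        _ = u * ((u * u) * (s * s)) * (s * (t * t)) * t := by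
          rw [show (s * s) * (u * u) = (u * u) * (s * s) by rw [← mul_assoc, hu, mul_assoc u, hu, ← mul_assoc]]
        _ = (u ^ 3) * (s ^ 3 * t ^ 3) := by simp [pow_succ, mul_assoc]
        _ = s ^ 3 := by rw [hu3, ht3, one_mul, mul_one]
    have h6 : (s ^ 3) * s ^ 3 = 1 := by
      apply Subtype.ext
      have h1 := hgE (s ^ 3) hs3
      have h2 : g (s ^ 3) = ((s ^ 3 : S) : Ω) := by
        rw [map_pow, ← hst]
        have : g s = ((s * t : S) : Ω) := by rw [htd, mul_inv_cancel_left]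
        rw [this]; simp
      rw [h2] at h1
      show ((s ^ 3 : S) : Ω) * ((s ^ 3 : S) : Ω) = 1
      nth_rewrite 1 [h1]
      exact inv_mul_cancel _
    have h27 : s ^ 27 = 1 := hcS ▸ pow_card_eq_one'
    have : s ^ 27 = (s ^ 3 * s ^ 3) ^ 4 * s ^ 3 := by rw [← pow_add, ← pow_mul, ← pow_add]
    rw [h27, h6, one_pow, one_mul] at this
    exact this.symm
  refine Nat.dvd_antisymm (Monoid.exponent_dvd_of_forall_pow_eq_one hcube) ?_
  obtain ⟨s, hs⟩ := exists_prime_orderOf_dvd_card' (G := S) 3 (by rw [hcS]; norm_num)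
  exact hs ▸ Monoid.order_dvd_exponent s

set_option maxHeartbeats 1000000 in
/-- A group of order `81` with a core-free subgroup of index `9` is a Sylow `3`-subgroup of `S₉`. -/
theorem wreath {G : Type u} [Group G] [Finite G] [Fact (Nat.Prime 3)] (h : PearlThree.IsWreathLike G) :
    ∃ W : Sylow 3 (Equiv.Perm (Fin 9)), Nonempty (G ≃* ↥(W : Subgroup (Equiv.Perm (Fin 9)))) := by
  obtain ⟨hc, U, hi, hcore⟩ := h
  have hq : Nat.card (G ⧸ U) = 9 := by rw [← Subgroup.index_eq_card, hi]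
  haveI : Finite (G ⧸ U) := inferInstance
  let eq : G ⧸ U ≃ Fin 9 := (Finite.equivFin _).trans (finCongr hq)
  let f : G →* Equiv.Perm (Fin 9) := eq.permCongrHom.toMonoidHom.comp (MulAction.toPermHom G (G ⧸ U))
  have hf : Function.Injective f :=
    eq.permCongrHom.injective.comp ((MonoidHom.ker_eq_bot_iff _).1 (by rw [← Subgroup.normalCore_eq_ker, hcore]))
  have hr : Nat.card f.range = 3 ^ 4 := by
    rw [← Nat.card_congr (MonoidHom.ofInjective hf).toEquiv, hc]; norm_num
  obtain ⟨W, hW⟩ := (IsPGroup.of_card hr).exists_le_sylow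
  refine ⟨W, ⟨(MonoidHom.ofInjective hf).trans (MulEquiv.subgroupCongr ?_)⟩⟩
  refine Subgroup.eq_of_le_of_card_ge hW ?_
  rw [hr]
  obtain ⟨i, hi'⟩ := IsPGroup.iff_card.1 W.2
  rw [hi']
  refine Nat.pow_le_pow_right (by norm_num) ?_
  by_contra hlt
  have h5 : 3 ^ 5 ∣ Nat.card (Equiv.Perm (Fin 9)) :=
    (Nat.pow_dvd_pow 3 (show 5 ≤ i by omega)).trans (hi' ▸ Subgroup.card_subgroup_dvd_card (W : Subgroup (Equiv.Perm (Fin 9))))
  rw [Nat.card_perm, Nat.card_fin] at h5
  norm_num [Nat.factorial] at h5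

end Cfsg.Agent.S5239Aux

namespace Cfsg.Agent.S5239

/-- Let F be a saturated fusion system over a finite 3-group S having a pearl: an F-essential subgroup E that is elementary abelian of order 9 or nonabelian of order 27. Then either S is extraspecial of order 27 and exponent 3, or S has order at least 81 and every subgroup of S can be generated by at most two elements, or S is isomorphic to the wreath product C₃ ≀ C₃ (a Sylow 3-subgroup of the symmetric group of degree 9). -/
theorem result {Ω : Type*} [Group Ω] {S : Subgroup Ω} [Finite S] (hS : IsPGroup 3 S) (F : Cfsg.FusionSystem S) (hF : F.IsSaturated 3) [Fact (Nat.Prime 3)] (E : Subgroup Ω) (hE : F.IsEssential 3 E) (hpearl : (Nat.card E = 9 ∧ ∀ x ∈ E, x ^ 3 = 1 ∧ IsMulCommutative ↥E) ∨ (Nat.card E = 27 ∧ ¬ IsMulCommutative ↥E)) : (Cfsg.IsExtraspecial 3 ↥S ∧ Nat.card S = 27 ∧ Monoid.exponent ↥S = 3) ∨ (81 ≤ Nat.card S ∧ ∀ H : Subgroup Ω, H ≤ S → ∃ T : Finset Ω, T.card ≤ 2 ∧ Subgroup.closure (T : Set Ω) =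 H) ∨ (∃ W : Sylow 3 (Equiv.Perm (Fin 9)), Nonempty (↥S ≃* ↥(W : Subgroup (Equiv.Perm (Fin 9))))) := by
  classical
  obtain ⟨n, hn⟩ := IsPGroup.iff_card.1 hS
  have hES : E ≤ S := hE.1.1
  have hlt := essential_lt hS hF hE
  have hcl : Nat.card E < 3 ^ n := hn ▸ (lt_of_le_of_ne (Subgroup.card_le_of_le hlt.le)
    fun e => hlt.ne (Subgroup.eq_of_le_of_card_ge hlt.le e.ge))
  by_cases hn3 : n ≤ 3
  · have h3 : n = 3 ∧ Nat.card E = 9 := by
      rcases hpearl with ⟨h, -⟩ | ⟨h, -⟩
      · rw [h, show (9 : ℕ) = 3 ^ 2 by norm_num] at hcl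
        have := (Nat.pow_lt_pow_iff_right (show 1 < 3 by norm_num)).1 hcl
        exact ⟨by omega, h⟩
      · rw [h, show (27 : ℕ) = 3 ^ 3 by norm_num] at hcl
        have := (Nat.pow_lt_pow_iff_right (show 1 < 3 by norm_num)).1 hcl
        omega
    obtain ⟨rfl, hc⟩ := h3
    have hcS : Nat.card S = 27 := hn.trans (by norm_num)
    obtain ⟨h1, h2⟩ := S5239Aux.small hS F hF E hE hc hcS
    exact Or.inl ⟨h1, hcS, h2⟩
  set B := E.subgroupOf S with hBdef
  have hBE : Nat.card B = Nat.card E := Nat.card_congr (Subgroup.subgroupOfEquivOfLe hES).toEquiv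
  have hBC : Subgroup.centralizer (B : Set S) ≤ B := by
    intro g hg
    refine hE.1.2 E (isConj_refl F hES) ⟨g.2, Subgroup.mem_centralizer_iff.2 fun u hu => ?_⟩
    exact congrArg Subtype.val (Subgroup.mem_centralizer_iff.1 hg ⟨u, hES hu⟩ hu)
  obtain ⟨x, hx⟩ : ∃ x, PearlRank.Pearl 3 n (x : S) := by
    suffices h : ∃ x : S, x ^ 3 = 1 ∧ Nat.card (Subgroup.centralizer ({x} : Set S)) = 3 ^ 2 by
      obtain ⟨x, h1, h2⟩ := h
      exact ⟨x, hn, by omega, h1, h2⟩
    rcases hpearl with ⟨hc, hel⟩ | ⟨hc, hna⟩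
    · exact S5238Aux.exists_abelian n hn (by omega) B (hBE.trans (hc.trans (by norm_num)))
        (fun a ha => Subtype.ext ((hel _ ha).1)) hBC
    · refine S5238Aux.exists_extraspecial n hn B (hBE.trans (hc.trans (by norm_num))) ?_ ?_ hBC
      · intro h
        refine hna ⟨⟨fun u v => ?_⟩⟩
        have := h.is_comm.comm ⟨⟨u, hES u.2⟩, u.2⟩ ⟨⟨v, hES v.2⟩, v.2⟩
        exact Subtype.ext (congrArg (fun w : B => ((w : S) : Ω)) this)
      · rcases Cfsg.Agent.S5186.result 3 hS F hF E hE (hc.trans (by norm_num)) with h | ⟨-, -, h⟩ | ⟨h, -⟩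
        · exact fun a ha => Subtype.ext (h.2 _ ha)
        · exact fun a ha => Subtype.ext (h _ ha)
        · exact absurd h (by norm_num)
  by_cases hw : PearlThree.IsWreathLike S
  · exact Or.inr (Or.inr (S5239Aux.wreath hw))
  refine Or.inr (Or.inl ⟨?_, fun H hH => ?_⟩)
  · rw [hn]
    calc 81 = 3 ^ 4 := by norm_num
      _ ≤ 3 ^ n := Nat.pow_le_pow_right (by norm_num) (by omega)
  obtain ⟨T, hT, hTH⟩ := (PearlThree.two_gen hx (by omega) (H.subgroupOf S)).resolve_right hw
  refine ⟨T.image S.subtype, Finset.card_image_le.trans hT, ?_⟩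
  rw [Finset.coe_image, ← MonoidHom.map_closure, hTH, Subgroup.map_subgroupOf_eq_of_le hH]

end Cfsg.Agent.S5239
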