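import Cfsg.Statements.S5243
import Cfsg.Agent.Lib.Fusion.KernelSubsystem

set_option autoImplicit false
open Cfsg

namespace Cfsg.Agent.S5243

/-- Let F be a saturated fusion system over a finite p-group S, E a normal subsystem of F over T ≤ S, and χ a surjective homomorphism from Aut_F(T) onto a nontrivial finite group Δ of order prime to p whose kernel contains Aut_E(T). Then there is a proper normal subsystem F₀ of F over S containing E such that Aut_{F₀}(S) consists of those α ∈ Aut_F(S) whose restriction to T is an element of Aut_F(T) in the kernel of χ; moreover every p'-residual subsystem O^{p'}(F) of F is contained in F₀. -/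
theorem result {Ω : Type*} [Group Ω] {S : Subgroup Ω} [Finite S] (p : ℕ) [Fact p.Prime] (hS : IsPGroup p S) (F : Cfsg.FusionSystem S) (hF : F.IsSaturated p) {T : Subgroup Ω} (hTS : T ≤ S) (E : Cfsg.FusionSystem T) (hE : E.IsNormalIn F p) {Δ : Type*} [Group Δ] [Finite Δ] [Nontrivial Δ] (hΔ : (Nat.card Δ).Coprime p) (χ : ↥(F.autGroup T) →* Δ) (hχ : Function.Surjective χ) (hker : (E.autGroup T).subgroupOf (F.autGroup T) ≤ χ.ker) : ∃ F₀ : Cfsg.FusionSystem S, F₀.IsNormalIn F p ∧ ¬ (∀ P : Subgroup Ω, F₀.Hom P = F.Hom P) ∧ E.IsSubsystemOf F₀ ∧ (∀ α : MulAut ↥S, α ∈ F₀.autGroup S ↔ α ∈ F.autGroup S ∧ ∃ β : ↥(F.autGroup T), χ β = 1 ∧ ∀ t : ↥T, (((β : MulAut ↥T) t : ↥T) : Ω) = ((α ⟨(t : Ω), hTS t.2⟩ : ↥S) : Ω)) ∧ ∀ R : Cfsg.FusionSystem S, F.IsPPrimeResidual p R → R.IsSubsystemOf F₀ := by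
  classical
  let K : Subgroup (MulAut ↥T) := χ.ker.map (F.autGroup T).subtype
  have hK : Cfsg.Agent.FusionSys.KerClass.Kern F E p K := by
    obtain ⟨⟨hEs, -, hsub, hTc, hinv, hfr⟩, -⟩ := hE
    refine ⟨hF, hEs, hsub, hTc, hinv, hfr, Subgroup.map_subtype_le _, ?_, ?_, ?_⟩
    · rintro a ha _ ⟨k, hk, rfl⟩
      exact ⟨⟨a, ha⟩ * k * (⟨a, ha⟩ : F.autGroup T)⁻¹, χ.normal_ker.conj_mem k hk _, rfl⟩
    · intro a ha
      exact ⟨⟨a, Cfsg.Agent.FusionSys.autGroup_mono hsub T ha⟩, hker (Subgroup.mem_subgroupOf.2 ha), rfl⟩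
    · rintro a ha ⟨k, hk⟩
      refine ⟨⟨a, ha⟩, ?_, rfl⟩
      show χ ⟨a, ha⟩ = 1
      have h1 : χ ⟨a, ha⟩ ^ p ^ k = 1 := by
        rw [← map_pow, show (⟨a, ha⟩ : F.autGroup T) ^ p ^ k = 1 from Subtype.ext hk, map_one]
      have h2 : χ ⟨a, ha⟩ ^ Nat.card Δ = 1 := pow_card_eq_one'
      exact orderOf_eq_one_iff.1 (Nat.eq_one_of_dvd_coprimes (hΔ.pow_right k)
        (orderOf_dvd_of_pow_eq_one h2) (orderOf_dvd_of_pow_eq_one h1))
  refine ⟨Cfsg.Agent.FusionSys.KerClass.genSys hS hK, Cfsg.Agent.FusionSys.KerClass.genSys_isNormalIn hS hK,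
    fun htop => ?_, Cfsg.Agent.FusionSys.KerClass.sub_genSys hS hK, fun α => ?_, fun R hR => ?_⟩
  · obtain ⟨d, hd⟩ := exists_ne (1 : Δ)
    obtain ⟨β, rfl⟩ := hχ d
    obtain ⟨b, hb, hbe⟩ := Cfsg.Agent.FusionSys.KerClass.kern_eq_top hS hK htop β.2
    exact hd ((Subtype.ext hbe : b = β) ▸ hb)
  · rw [Cfsg.Agent.FusionSys.KerClass.genSys_aut_iff hS hK α]
    refine and_congr Iff.rfl ⟨?_, ?_⟩
    · rintro ⟨_, ⟨β, hβ, rfl⟩, he⟩
      exact ⟨β, hβ, he⟩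
    · rintro ⟨β, hβ, he⟩
      exact ⟨_, ⟨β, hβ, rfl⟩, he⟩
  · exact hR.2.2 _ (Cfsg.Agent.FusionSys.KerClass.genSys_saturated hS hK)
      (Cfsg.Agent.FusionSys.KerClass.genSys_index hS hK)

end Cfsg.Agent.S5243
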