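import Cfsg.Statements.S5244
import Cfsg.Agent.Lib.Fusion.IndexAbelianTorus

set_option autoImplicit false
open Cfsg

namespace Cfsg.Agent.S5244

open Cfsg.Agent.FusionSys in
open scoped commutatorElement in
theorem lcs_bound {Ω : Type*} [Group Ω] {S A : Subgroup Ω} [Finite S] {p : ℕ} [Fact p.Prime]
    (hd : IndexAbelian S A p) (hS : IsPGroup p S) (hZ : Nat.card (centerOf S) = p) {n : ℕ}
    (hn : Nat.card S = p ^ n) :
    ∀ i : ℕ, Subgroup.lowerCentralSeries S (i + 1) ≤ A ∧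
      p ^ (n - 1) ≤ p ^ (i + 1) * Nat.card (Subgroup.lowerCentralSeries S (i + 1)) := by
  obtain ⟨x, hxS, hx⟩ := idx_exists_outside hd
  have hA : Nat.card A = p ^ (n - 1) := by
    have h := (A.subgroupOf S).card_mul_index
    rw [Nat.card_congr (Subgroup.subgroupOfEquivOfLe hd.le_S).toEquiv, hd.index, hn] at h
    rcases n with _ | n
    · rw [pow_zero] at h; exact absurd (mul_eq_one.1 h).2 (Fact.out : p.Prime).ne_one
    · rw [pow_succ] at h
      exact Nat.eq_of_mul_eq_mul_right (Fact.out : p.Prime).pos h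
  intro i
  induction i with
  | zero =>
    have hle : Subgroup.lowerCentralSeries S (0 + 1) ≤ A := fun y hy => by
      obtain ⟨a, ha, rfl⟩ := idx_commutator hd hS hxS hx (y := y) hy
      exact idx_comm_mem hd hS ha hxS
    refine ⟨hle, ?_⟩
    have h := idx_card_le hd hS hxS hx (le_refl A) (hle.trans hd.le_S)
      fun a ha => Subgroup.commutator_mem_commutator (hd.le_S ha) hxS
    rw [hA, hZ] at h
    rwa [pow_one]
  | succ i ih =>
    have hle : Subgroup.lowerCentralSeries S (i + 1 + 1) ≤ A := Subgroup.commutator_le.2 fun a ha g hg =>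
      idx_comm_mem hd hS (ih.1 ha) hg
    refine ⟨hle, ih.2.trans ?_⟩
    have h := idx_card_le hd hS hxS hx ih.1 (hle.trans hd.le_S)
      fun a ha => Subgroup.commutator_mem_commutator ha hxS
    rw [hZ] at h
    rw [pow_succ p (i + 1), mul_assoc]
    exact Nat.mul_le_mul_left _ h

open Cfsg.Agent.FusionSys Cfsg.FusionSystem in
theorem center_small {Ω : Type*} [Group Ω] {S A : Subgroup Ω} [Finite S] {p : ℕ} [Fact p.Prime]
    (hd : IndexAbelian S A p) (hS : IsPGroup p S) {F : Cfsg.FusionSystem S} (hF : F.IsSaturated p)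
    (hp : p ≠ 2) (hcore : F.core = ⊥) (hAe : ¬ F.IsEssential p A) :
    (∃ x ∈ S, x ∉ A ∧ F.IsEssential p (centerOf S ⊔ Subgroup.zpowers x)) ∧
      centerOf S ≤ ⁅S, S⁆ ∧ Nat.card (centerOf S) = p := by
  -- the shape of the essential subgroups
  have hshape : ∀ P : Subgroup Ω, F.IsEssential p P → centerOf S ≤ P ∧ ∃ x ∈ P, x ∉ A ∧
      ((∀ y ∈ P, y ∈ A → y ∈ centerOf S) ∨
        ∀ y ∈ P, (∀ w ∈ P, w * y = y * w) → y ∈ centerOf S) := by
    intro P hP
    have hPS := hP.1.1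
    have hZP : centerOf S ≤ P := fun z hz =>
      mem_of_centralizes hP.1 hz.1 fun q hq => centerOf_comm hz (hPS hq)
    obtain ⟨x, hxP, hx⟩ : ∃ x ∈ P, x ∉ A := by
      by_contra h
      simp only [not_exists, not_and, not_not] at h
      refine hAe ?_
      rwa [show A = P from le_antisymm (fun a ha => mem_of_centralizes hP.1 (hd.le_S ha) fun q hq =>
        hd.comm q (h q hq) a ha) h]
    refine ⟨hZP, x, hxP, hx, ?_⟩
    by_cases hsm : ∀ y ∈ P, y ∈ A → y ∈ centerOf S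
    · exact Or.inl hsm
    refine Or.inr fun y hy hyc => ?_
    simp only [not_forall] at hsm
    obtain ⟨y₀, hy₀P, hy₀A, hy₀⟩ := hsm
    by_cases hyA : y ∈ A
    · exact idx_center_of_comm hd hS (hPS hxP) hx hyA (hyc x hxP)
    · exact absurd (idx_center_of_comm hd hS (hPS hy) hyA hy₀A (hyc y₀ hy₀P).symm) hy₀
  have hB : ∀ P : Subgroup Ω, P ≤ S → centerOf S ≤ P →
      (∀ y ∈ P, (∀ w ∈ P, w * y = y * w) → y ∈ centerOf S) → ∀ α : MulAut P,
      ∀ c : P, (c : Ω) ∈ centerOf S → ((α c : P) : Ω) ∈ centerOf S := fun P hPS _ h α c hc => by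
    refine h _ (α c).2 fun w hw => ?_
    have e : α⁻¹ ⟨w, hw⟩ * c = c * α⁻¹ ⟨w, hw⟩ := Subtype.ext (centerOf_comm hc (hPS (α⁻¹ ⟨w, hw⟩).2))
    have := congrArg (fun u : P => ((α u : P) : Ω)) e
    simpa using this
  have hSZ : ∀ α : MulAut S, ∀ c : S, (c : Ω) ∈ centerOf S → ((α c : S) : Ω) ∈ centerOf S :=
    hB S le_rfl (centerOf_le S) fun y hy h => ⟨hy, Subgroup.mem_centralizer_iff.2 h⟩
  obtain ⟨z₀, hz₀, hz₀1⟩ : ∃ z ∈ centerOf S, z ≠ 1 := by
    haveI : Nontrivial S := by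
      obtain ⟨x, hxS, hx⟩ := idx_exists_outside hd
      exact ⟨⟨x, hxS⟩, 1, fun h => hx (by rw [show x = 1 from congrArg Subtype.val h]; exact A.one_mem)⟩
    haveI := hS.center_nontrivial
    obtain ⟨w, hw⟩ := exists_ne (1 : Subgroup.center S)
    exact ⟨_, map_center (S := S) ▸ ⟨_, w.2, rfl⟩, fun h => hw (Subtype.ext (Subtype.ext h))⟩
  have hnotnormal : ∀ Q : Subgroup Ω, F.IsNormal Q → Q = ⊥ := fun Q hQ =>
    le_bot_iff.1 (hcore ▸ isNormal_le_core hQ)
  -- existence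
  obtain ⟨P, x, hP⟩ : ∃ P x, AbEssential F A p P x := by
    by_contra hno
    refine hz₀1 ?_
    have hN : F.IsNormal (centerOf S) := by
      refine isNormal_of_autGroup_preserve hS hF fun P hP => ?_
      rcases hP with rfl | hP
      · exact ⟨centerOf_le _, fun α _ => hSZ α⟩
      · obtain ⟨hZP, x, hxP, hx, h | h⟩ := hshape P hP
        · exact absurd ⟨P, x, hP, hxP, hx, hZP, h⟩ hno
        · exact ⟨hZP, fun α _ => hB P hP.1.1 hZP h α⟩
    have h := hnotnormal _ hN ▸ hz₀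
    exact Subgroup.mem_bot.1 h
  obtain ⟨z, hzo, hW, -⟩ := ab_split hd hS hF hP
  have hzW : z ∈ commCenter S := hW ▸ Subgroup.mem_zpowers z
  obtain ⟨α, hα, hgood⟩ := ab_exists_good hd hS hF hP
  obtain ⟨γ, hγ, hinv, hdec, -⟩ :=
    ab_torus hS hF hd hp hP (z := ⟨z, hzW.1⟩) hzo hW hα hgood
  have hzp : (⟨z, hzW.1⟩ : centerOf S) ^ p = 1 := Subtype.ext (by simpa [hzo] using pow_orderOf_eq_one z)
  let Q : Subgroup Ω := (MonoidHom.eqLocus γ.toMonoidHom (MonoidHom.id _)).map (centerOf S).subtype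
  have hQ : Q = ⊥ := by
    refine hnotnormal Q (isNormal_of_autGroup_preserve hS hF fun R hR => ?_)
    have hkey : centerOf S ≤ R ∧ ∀ β ∈ F.autGroup R, ∀ c : centerOf S, γ c = c →
        ∀ hc : (c : Ω) ∈ R, ∃ c' : centerOf S, γ c' = c' ∧ (c' : Ω) = ((β ⟨c, hc⟩ : R) : Ω) := by
      rcases hR with rfl | hR
      · exact ⟨centerOf_le _, fun β hβ c hc _ =>
          centerInv_preserve hS hF hγ hzp hW hinv le_rfl (centerOf_le _) hβ (hSZ β) c hc⟩
      · obtain ⟨hZR, x', hx'R, hx', h | h⟩ := hshape R hR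
        · exact ⟨hZR, fun β hβ c hc _ =>
            ab_preserve hS hF hd hp ⟨hR, hx'R, hx', hZR, h⟩ hzo hW hγ hinv hβ c hc⟩
        · exact ⟨hZR, fun β hβ c hc _ =>
            centerInv_preserve hS hF hγ hzp hW hinv hR.1.1 hZR hβ (hB R hR.1.1 hZR h β) c hc⟩
    refine ⟨?_, fun β hβ y hy => ?_⟩
    · rintro _ ⟨c, -, rfl⟩; exact hkey.1 c.2
    · obtain ⟨c, hc, hce⟩ := hy
      obtain ⟨c', hc', hce'⟩ := hkey.2 β hβ c hc (hkey.1 c.2)
      refine ⟨c', hc', hce'.trans ?_⟩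
      exact congrArg (fun u : R => ((β u : R) : Ω)) (Subtype.ext hce)
  have hZ : centerOf S = Subgroup.zpowers z := by
    refine le_antisymm (fun r hr => ?_) (Subgroup.zpowers_le.2 hzW.1)
    obtain ⟨c, k, hc, he⟩ := hdec ⟨r, hr⟩
    have hmem : ((c : centerOf S) : Ω) ∈ Q := ⟨c, hc, rfl⟩
    rw [hQ, Subgroup.mem_bot] at hmem
    rw [show r = ((c : centerOf S) : Ω) * z ^ k by simpa using congrArg Subtype.val he, hmem, one_mul]
    exact Subgroup.pow_mem _ (Subgroup.mem_zpowers z) k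
  refine ⟨⟨x, hP.ess.1.1 hP.x_mem, hP.x_not, ?_⟩, ?_, ?_⟩
  · rw [show centerOf S ⊔ Subgroup.zpowers x = P from le_antisymm
      (sup_le hP.center_le (Subgroup.zpowers_le.2 hP.x_mem)) fun y hy => ?_]
    · exact hP.ess
    obtain ⟨i, c, hc, rfl⟩ := ab_decomp hd hS hP hy
    exact Subgroup.mul_mem _ (le_sup_left (b := Subgroup.zpowers x) hc)
      (le_sup_right (a := centerOf S) (Subgroup.pow_mem _ (Subgroup.mem_zpowers x) i))
  · rw [hZ]; exact Subgroup.zpowers_le.2 hzW.2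
  · rw [hZ, Nat.card_zpowers, hzo]

/-- Let p be an odd prime, S a finite nonabelian p-group with a unique abelian subgroup A of index p, and F a saturated fusion system over S with no nontrivial normal subgroup (O_p(F) = 1) in which A is not F-essential. Then some subgroup Z(S)⟨x⟩ with x ∈ S outside A is F-essential, the centre Z(S) is contained in the commutator subgroup of S, and S has maximal nilpotency class (if S has order pⁿ with n ≥ 3, the term of index n − 2 of its lower central series, counting S itself as the term of index 0, is nontrivial). -/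
theorem result {Ω : Type*} [Group Ω] {S : Subgroup Ω} [Finite S] (p : ℕ) [Fact p.Prime] (hS : IsPGroup p S) (F : Cfsg.FusionSystem S) (hF : F.IsSaturated p) (hp : p ≠ 2) (hna : ¬ IsMulCommutative ↥S) (A : Subgroup Ω) (hA : A ≤ S ∧ IsMulCommutative ↥A ∧ (A.subgroupOf S).index = p) (huniq : ∀ B : Subgroup Ω, B ≤ S → IsMulCommutative ↥B → (B.subgroupOf S).index = p → B = A) (hcore : F.core = ⊥) (hAe : ¬ F.IsEssential p A) : (∃ x ∈ S, x ∉ A ∧ F.IsEssential p ((S ⊓ Subgroup.centralizer (S : Set Ω)) ⊔ Subgroup.zpowers x)) ∧ (S ⊓ Subgroup.centralizer (S : Set Ω)) ≤ (commutator ↥S).map S.subtype ∧ ∀ n : ℕ, Nat.card S = p ^ n → 3 ≤ n → Subgroup.lowerCentralSeries S (n - 2) ≠ ⊥ := by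
  have hd : Cfsg.Agent.FusionSys.IndexAbelian S A p :=
    ⟨hA.1, fun a ha b hb => congrArg Subtype.val (hA.2.1.is_comm.comm (⟨a, ha⟩ : A) ⟨b, hb⟩), hA.2.2,
      fun h => hna ⟨⟨fun a b => Subtype.ext (h a a.2 b b.2)⟩⟩⟩
  obtain ⟨h1, h2, h3⟩ := center_small hd hS hF hp hcore hAe
  refine ⟨h1, ?_, fun n hn hn3 h => ?_⟩
  · rw [Subgroup.map_subtype_commutator]; exact h2
  obtain ⟨-, hb⟩ := lcs_bound hd hS h3 hn (n - 3)
  rw [show n - 3 + 1 = n - 2 by omega, h, Subgroup.card_bot, mul_one] at hb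
  have := (Nat.pow_le_pow_iff_right (Fact.out : p.Prime).one_lt).1 hb
  omega

end Cfsg.Agent.S5244
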