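import Cfsg.Statements.S5245
import Cfsg.Agent.Lib.Fusion.AutSystem
import Cfsg.Agent.Lib.Fusion.Hyperfocal
import Cfsg.Agent.Lib.Fusion.SmallElements
open Cfsg.FusionSystem Cfsg.Agent.FusionSys
open scoped commutatorElement

set_option autoImplicit false
open Cfsg

namespace Cfsg.Agent.S5245

variable {Ω : Type*} [Group Ω] {S : Subgroup Ω} [Finite S] {p : ℕ} [Fact p.Prime]

/-- In an extremely sparse system an automorphism of prime order `q ≠ p` of any subgroup generates the system. -/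
theorem key (hS : IsPGroup p S) {F : FusionSystem S}
    (hxs : ∀ (T : Subgroup Ω) (E : Cfsg.FusionSystem T), E.IsSaturated p → E.IsSubsystemOf F →
      (T = S ∧ ∀ P : Subgroup Ω, E.Hom P = F.Hom P) ∨
      (∀ P : Subgroup Ω, E.Hom P = (Cfsg.innerFusionSystem T).Hom P))
    {T : Subgroup Ω} (hT : T ≤ S) {b : MulAut T} (hb : b ∈ F.autGroup T) {q : ℕ} (hq : q.Prime) (hqp : q ≠ p)
    (hbq : orderOf b = q) :
    T = S ∧ ∀ P : Subgroup Ω, (autSystem (Inn T ⊔ Subgroup.zpowers b) le_sup_left).Hom P = F.Hom P := by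
  haveI := finite_of_le hT
  set A := Inn T ⊔ Subgroup.zpowers b with hA
  haveI hN : (Inn T).Normal := ⟨fun n hn g => by
    obtain ⟨s, rfl⟩ := hn
    exact ⟨g s, MulEquiv.ext fun t => by simp⟩⟩
  have hidx : ((Inn T).relIndex A).Coprime p := by
    refine Nat.Coprime.coprime_dvd_left (k := q) ?_ ((Nat.coprime_primes hq Fact.out).2 hqp)
    rw [← QuotientGroup.ker_mk' (Inn T), Subgroup.relIndex_ker, hA, Subgroup.map_sup, MonoidHom.map_zpowers,
      (Subgroup.map_eq_bot_iff (f := QuotientGroup.mk' (Inn T)) (Inn T)).2 (QuotientGroup.ker_mk' _).ge, bot_sup_eq,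
      Nat.card_zpowers, ← hbq]
    exact orderOf_map_dvd _ b
  have hAle : A ≤ F.autGroup T := sup_le (inn_le_autGroup F hT) (Subgroup.zpowers_le.2 hb)
  have hsat := autSystem_saturated (hS.to_le hT) A le_sup_left hidx
  have hsub : (autSystem A le_sup_left).IsSubsystemOf F := by
    rintro P φ ⟨hP, a, ha, he⟩
    have h1 := restrict_mem F ((mem_autGroup_iff F hT a).1 (hAle ha)) hP
    exact (show φ = (T.subtype.comp a.toMonoidHom).comp (Subgroup.inclusion hP) from
      MonoidHom.ext fun x => he x (hP x.2)) ▸ h1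
  rcases hxs T _ hsat hsub with ⟨rfl, h⟩ | h
  · exact ⟨rfl, h⟩
  · exfalso
    have hbI : b ∈ Inn T := by
      rw [← inner_autGroup_top (S := T)]
      have h1 : (autSystem A le_sup_left).autGroup T = (innerFusionSystem T).autGroup T := by
        simp only [FusionSystem.autGroup, h]
      rw [← h1, autSystem_autGroup]
      exact Subgroup.mem_sup_right (Subgroup.mem_zpowers b)
    have hIp : IsPGroup p (Inn T) := by
      rw [inn_eq_autInducedBy_self]; exact autInducedBy_isPGroup (hS.to_le hT)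
    obtain ⟨k, hk⟩ := IsPGroup.iff_orderOf.1 hIp ⟨b, hbI⟩
    rw [Subgroup.orderOf_mk, hbq] at hk
    exact hqp ((Nat.prime_dvd_prime_iff_eq hq Fact.out).1 (hq.dvd_of_dvd_pow hk.dvd))


/-- Let F be an extremely sparse fusion system over a finite p-group S (saturated, not the inner system, and every saturated fusion system over any subgroup T of S contained in F is F itself or the inner system of T). Then S is normal in F, the focal and hyperfocal subgroups of F are both S, and Aut_F(S) is generated by the inner automorphisms of S together with a single automorphism of prime order q ≠ p (F is the fusion system of the semidirect product of S by a cyclic group of prime order). -/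
theorem result {Ω : Type*} [Group Ω] {S : Subgroup Ω} [Finite S] (p : ℕ) [Fact p.Prime] (hS : IsPGroup p S) (F : Cfsg.FusionSystem S) (hF : F.IsSaturated p) (hxs : ¬ (∀ P : Subgroup Ω, F.Hom P = (Cfsg.innerFusionSystem S).Hom P) ∧ ∀ (T : Subgroup Ω) (E : Cfsg.FusionSystem T), E.IsSaturated p → E.IsSubsystemOf F → (T = S ∧ ∀ P : Subgroup Ω, E.Hom P = F.Hom P) ∨ (∀ P : Subgroup Ω, E.Hom P = (Cfsg.innerFusionSystem T).Hom P)) : F.IsNormal S ∧ F.focalSubgroup = S ∧ F.hyperfocalSubgroup p = S ∧ ∃ (q : ℕ) (β : MulAut ↥S), q.Prime ∧ q ≠ p ∧ β ∈ F.autGroup S ∧ orderOf β = q ∧ (F.autGroup S : Subgroup (MulAut ↥S)) = Cfsg.Inn ↥S ⊔ Subgroup.zpowers β := by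
  classical
  have hp : p.Prime := Fact.out
  obtain ⟨hni, hsub⟩ := hxs
  have hprime : ∀ P : Subgroup Ω, P ≤ S → ¬ IsPGroup p (F.autGroup P) →
      ∃ (q : ℕ) (b : MulAut P), q.Prime ∧ q ≠ p ∧ b ∈ F.autGroup P ∧ orderOf b = q := by
    intro P hP hnp
    haveI := finite_of_le hP
    obtain ⟨q, hq, hdvd, hqp⟩ : ∃ q, q.Prime ∧ q ∣ Nat.card (F.autGroup P) ∧ q ≠ p := by
      by_contra! hall
      exact hnp (IsPGroup.of_card (n := (Nat.card (F.autGroup P)).primeFactorsList.length)
        (Nat.eq_prime_pow_of_unique_prime_dvd Nat.card_pos.ne' fun hd hdd => hall _ hd hdd))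
    haveI := Fact.mk hq
    obtain ⟨b, hb⟩ := exists_prime_orderOf_dvd_card' (G := F.autGroup P) q hdvd
    exact ⟨q, b, hq, hqp, b.2, by rw [Subgroup.orderOf_coe, hb]⟩
  obtain ⟨q, b, hq, hqp, hb, hbq⟩ : ∃ (q : ℕ) (b : MulAut S), q.Prime ∧ q ≠ p ∧ b ∈ F.autGroup S ∧ orderOf b = q := by
    obtain ⟨P, hP, hnp⟩ : ∃ P, P ≤ S ∧ ¬ IsPGroup p (F.autGroup P) := by
      by_contra! hall
      exact hni fun P => by rw [eq_inner_of_autGroup_isPGroup hS hF hall]
    obtain ⟨q, b, hq, hqp, hb, hbq⟩ := hprime P hP hnp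
    obtain ⟨rfl, -⟩ := key hS hsub hP hb hq hqp hbq
    exact ⟨q, b, hq, hqp, hb, hbq⟩
  obtain ⟨-, hHom⟩ := key hS hsub le_rfl hb hq hqp hbq
  set A := Inn S ⊔ Subgroup.zpowers b with hA
  have hautS : F.autGroup S = A := by
    refine (show F.autGroup S = (autSystem A le_sup_left).autGroup S from ?_).trans (autSystem_autGroup A _)
    unfold FusionSystem.autGroup
    exact congrArg (fun s => Subgroup.closure {α : MulAut S | S.subtype.comp α.toMonoidHom ∈ s}) (hHom S).symm
  -- `[S, b]`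
  set T0 := Subgroup.closure (Set.range fun x : S => x⁻¹ * b x) with hT0
  have hinv : ∀ x ∈ T0, b x ∈ T0 := fun x hx => by
    have hle : T0 ≤ T0.comap b.toMonoidHom := (Subgroup.closure_le _).2 (by
      rintro _ ⟨y, rfl⟩
      show b (y⁻¹ * b y) ∈ T0
      rw [map_mul, map_inv]
      exact Subgroup.subset_closure ⟨b y, rfl⟩)
    exact hle hx
  have hTtop : T0.map S.subtype = S := by
    by_contra hne
    set T := T0.map S.subtype
    have hT : T ≤ S := Subgroup.map_subtype_le _
    haveI := finite_of_le hT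
    have hmem : ∀ x : T, (⟨(x : Ω), hT x.2⟩ : S) ∈ T0 := fun x => by
      obtain ⟨y, hy, hye⟩ := x.2
      rwa [show (⟨(x : Ω), hT x.2⟩ : S) = y from Subtype.ext hye.symm]
    let f : T →* T :=
      { toFun := fun x => ⟨((b ⟨(x : Ω), hT x.2⟩ : S) : Ω), ⟨_, hinv _ (hmem x), rfl⟩⟩
        map_one' := Subtype.ext (by
          show ((b (1 : S) : S) : Ω) = 1
          rw [map_one]; rfl)
        map_mul' := fun x y => Subtype.ext (by
          show ((b (⟨(x : Ω), hT x.2⟩ * ⟨(y : Ω), hT y.2⟩) : S) : Ω) = _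
          rw [map_mul]; rfl) }
    have hf : Function.Injective f := fun x y h => by
      have h1 : (⟨(x : Ω), hT x.2⟩ : S) = ⟨(y : Ω), hT y.2⟩ :=
        b.injective (Subtype.ext (show ((b _ : S) : Ω) = ((b _ : S) : Ω) from congrArg (fun z : T => (z : Ω)) h))
      exact Subtype.ext (congrArg (fun z : S => (z : Ω)) h1)
    let b' : MulAut T := MulEquiv.ofBijective f (Finite.injective_iff_bijective.1 hf)
    have hb' : b' ∈ F.autGroup T := by
      rw [mem_autGroup_iff F hT]
      exact restrict_mem F ((mem_autGroup_iff F le_rfl b).1 hb) hT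
    have hpow : ∀ (n : ℕ) (x : T), (((b' ^ n) x : T) : Ω) = (((b ^ n) ⟨(x : Ω), hT x.2⟩ : S) : Ω) := by
      intro n
      induction n with
      | zero => exact fun x => rfl
      | succ n ih =>
        intro x
        rw [pow_succ', pow_succ', MulAut.mul_apply, MulAut.mul_apply]
        show ((b ⟨((b' ^ n) x : T), _⟩ : S) : Ω) = _
        exact congrArg (fun z : S => ((b z : S) : Ω)) (Subtype.ext (ih x))
    have hb'1 : b' ≠ 1 := by
      intro h1
      have hfix : ∀ x : S, b x = x := fun x => by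
        have hxT : ((x⁻¹ * b x : S) : Ω) ∈ T := ⟨_, Subgroup.subset_closure ⟨x, rfl⟩, rfl⟩
        have hc : b (x⁻¹ * b x) = x⁻¹ * b x := Subtype.ext
          (congrArg (fun a : MulAut T => ((a ⟨_, hxT⟩ : T) : Ω)) h1)
        have h2 := pow_apply_of_fixed b (mul_inv_cancel_left x (b x)).symm hc q
        rw [← hbq, pow_orderOf_eq_one, MulAut.one_apply, left_eq_mul] at h2
        exact (inv_mul_eq_one.1 (eq_one_of_coprime hS
          (n := orderOf b) (hbq ▸ (Nat.coprime_primes hq hp).2 hqp) h2)).symm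
      rw [show b = 1 from MulEquiv.ext hfix, orderOf_one] at hbq
      exact hq.ne_one hbq.symm
    have hb'q : orderOf b' = q := by
      refine haveI := Fact.mk hq; orderOf_eq_prime (MulEquiv.ext fun x => Subtype.ext ?_) hb'1
      rw [hpow, ← hbq, pow_orderOf_eq_one]; rfl
    exact hne (key hS hsub hT hb' hq hqp hb'q).1
  have hres : (⟨b, hb⟩ : F.autGroup S) ∈ pResidual p (F.autGroup S) := by
    refine Subgroup.subset_closure ?_
    show (orderOf (⟨b, hb⟩ : F.autGroup S)).Coprime p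
    rw [Subgroup.orderOf_mk, hbq]
    exact (Nat.coprime_primes hq hp).2 hqp
  have hhyp : F.hyperfocalSubgroup p = S := le_antisymm (hyperfocal_le F) (by
    conv_lhs => rw [← hTtop]
    rw [Subgroup.map_le_iff_le_comap, hT0, Subgroup.closure_le]
    rintro _ ⟨x, rfl⟩
    exact Subgroup.subset_closure ⟨S, ⟨b, hb⟩, x, le_rfl, hres, rfl⟩)
  refine ⟨⟨le_rfl, fun P φ hφ => ?_⟩, le_antisymm ?_ ?_, hhyp, q, b, hq, hqp, hb, hbq, hautS⟩
  · rw [← hHom] at hφ
    obtain ⟨hP, a, ha, he⟩ := hφ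
    refine ⟨S.subtype.comp (a.toMonoidHom.comp (Subgroup.inclusion (sup_le hP le_rfl))), ?_, fun x => ?_, ?_⟩
    · rw [← hHom]
      exact ⟨sup_le hP le_rfl, a, ha, fun x hx => rfl⟩
    · exact (he x (hP x.2)).symm
    · refine le_antisymm ?_ fun y hy => ?_
      · rintro _ ⟨x, -, rfl⟩; exact (a _).2
      · exact ⟨⟨((a⁻¹ ⟨y, hy⟩ : S) : Ω), Subgroup.mem_sup_right (a⁻¹ ⟨y, hy⟩).2⟩, (a⁻¹ ⟨y, hy⟩).2,
          congrArg Subtype.val (MulAut.apply_inv_self S a ⟨y, hy⟩)⟩
  · rw [FusionSystem.focalSubgroup, Subgroup.closure_le]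
    rintro _ ⟨P, φ, x, hφ, rfl⟩
    exact S.mul_mem (S.inv_mem (hom_le F hφ x.2)) (hom_apply_mem F hφ x)
  · conv_lhs => rw [← hhyp]
    exact hyperfocal_le_focal F

end Cfsg.Agent.S5245
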