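import Cfsg.Statements.S5246
import Cfsg.Agent.Lib.Fusion.Group
import Cfsg.Agent.Lib.LocalEven.Basic

set_option autoImplicit false
open Cfsg

namespace Cfsg.Agent.S5246

open Cfsg.Agent.FusionSys Cfsg.FusionSystem
open scoped commutatorElement

theorem transport {X Y : Type*} [Group X] [Group Y] (p : ℕ) [Fact p.Prime] (E : X ≃* Y) {A : Subgroup X} {A' : Subgroup Y}
    (h : A.map E.toMonoidHom = A') {x : X} (hx : x ∈ (Cfsg.pCore p A).map A.subtype) :
    E x ∈ (Cfsg.pCore p A').map A'.subtype := by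
  subst h
  obtain ⟨a, ha, rfl⟩ := hx
  have h2 := (LEBasic.map_pCore_equiv (p := p) (E.subgroupMap A)).le ⟨a, ha, rfl⟩
  exact ⟨_, h2, rfl⟩

variable {G : Type*} [Group G] (p : ℕ) [Fact p.Prime]

theorem autInducedBy_top (Q : Subgroup G) : autInducedBy ⊤ Q = Q.normalizerMonoidHom.range := by
  rw [autInducedBy_eq_map, normalizerIn_top, Subgroup.subgroupOf_self, MonoidHom.range_eq_map]

theorem mem_pCore_iff (Q : Subgroup G) (x : Subgroup.normalizer (Q : Set G)) :
    QuotientGroup.mk (s := (Subgroup.centralizer (Q : Set G)).subgroupOf (Subgroup.normalizer (Q : Set G))) x ∈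
      Cfsg.pCore p (Subgroup.normalizer (Q : Set G) ⧸
        (Subgroup.centralizer (Q : Set G)).subgroupOf (Subgroup.normalizer (Q : Set G))) ↔
    Q.normalizerMonoidHom x ∈ (Cfsg.pCore p (autInducedBy ⊤ Q)).map (autInducedBy ⊤ Q).subtype := by
  have key : ∀ e : (Subgroup.normalizer (Q : Set G) ⧸
      (Subgroup.centralizer (Q : Set G)).subgroupOf (Subgroup.normalizer (Q : Set G))) ≃* autInducedBy ⊤ Q,
      ((e (QuotientGroup.mk x) : autInducedBy ⊤ Q) : MulAut Q) = Q.normalizerMonoidHom x →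
      (QuotientGroup.mk (s := (Subgroup.centralizer (Q : Set G)).subgroupOf (Subgroup.normalizer (Q : Set G))) x ∈
        Cfsg.pCore p (Subgroup.normalizer (Q : Set G) ⧸
          (Subgroup.centralizer (Q : Set G)).subgroupOf (Subgroup.normalizer (Q : Set G))) ↔
        Q.normalizerMonoidHom x ∈ (Cfsg.pCore p (autInducedBy ⊤ Q)).map (autInducedBy ⊤ Q).subtype) := by
    intro e he
    rw [← LEBasic.map_pCore_equiv (p := p) e]
    constructor
    · exact fun h => ⟨_, ⟨_, h, rfl⟩, he⟩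
    · rintro ⟨_, ⟨a, ha, rfl⟩, hae⟩
      have : a = QuotientGroup.mk x := e.injective (Subtype.ext (hae.trans he.symm))
      exact this ▸ ha
  exact key (((QuotientGroup.quotientMulEquivOfEq Q.normalizerMonoidHom_ker.symm).trans
    (QuotientGroup.quotientKerEquivRange Q.normalizerMonoidHom)).trans
      (MulEquiv.subgroupCongr (autInducedBy_top Q).symm)) rfl

theorem quad_iff {Q : Subgroup G} {x : G} (hx : x ∈ Subgroup.normalizer (Q : Set G)) (χ : MulAut Q)
    (hχ : ∀ a : Q, ((χ a : Q) : G) = x * a * x⁻¹) :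
    ⁅⁅Q, Subgroup.zpowers x⁆, Subgroup.zpowers x⁆ = ⊥ ↔
      ∀ a : Q, (χ a⁻¹) * a * (χ a⁻¹) * (χ (χ a)) = 1 := by
  have h1 : ∀ a : Q, (χ a⁻¹) * a * (χ a⁻¹) * (χ (χ a)) = 1 ↔ Commute (⁅(a : G)⁻¹, x⁆) x := by
    intro a
    have e : (χ a⁻¹) * a * (χ a⁻¹) * (χ (χ a)) = 1 ↔ χ (a⁻¹ * χ a) = a⁻¹ * χ a := by
      rw [map_mul, map_inv]
      constructor
      · intro h
        have : (χ a)⁻¹ * χ (χ a) = ((χ a)⁻¹ * a)⁻¹ := (eq_inv_of_mul_eq_one_right (by rw [← h]; group))
        rw [this]; group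
      · intro h
        calc _ = (χ a)⁻¹ * a * ((χ a)⁻¹ * χ (χ a)) := by group
          _ = 1 := by rw [h]; group
    rw [e, Subtype.ext_iff, hχ]
    rw [show ((a⁻¹ * χ a : Q) : G) = ⁅(a : G)⁻¹, x⁆ by
      rw [Subgroup.coe_mul, Subgroup.coe_inv, hχ, commutatorElement_def]; group]
    rw [mul_inv_eq_iff_eq_mul]
    exact ⟨fun h => h.symm, fun h => h.symm⟩
  rw [Subgroup.commutator_eq_bot_iff_le_centralizer]
  constructor
  · intro h a
    rw [h1]
    exact (Subgroup.mem_centralizer_iff.1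
      (h (Subgroup.commutator_mem_commutator (inv_mem a.2) (Subgroup.mem_zpowers x))) x
      (Subgroup.mem_zpowers x)).symm
  · intro h
    refine Subgroup.commutator_le.2 fun a ha y hy => ?_
    obtain ⟨k, rfl⟩ := hy
    rw [Subgroup.mem_centralizer_iff]
    rintro z ⟨l, rfl⟩
    have hc : Commute (⁅a, x⁆) x := by
      have := (h1 ⟨a, ha⟩⁻¹).1 (h _)
      rwa [Subgroup.coe_inv, inv_inv] at this
    have hax : Commute (a * x * a⁻¹) x := by
      have := hc.mul_left (Commute.refl x)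
      rwa [commutatorElement_def, inv_mul_cancel_right] at this
    have : Commute (⁅a, x ^ k⁆) (x ^ l) := by
      rw [commutatorElement_def, ← conj_zpow]
      exact ((hax.zpow_left k).mul_left ((Commute.refl x).zpow_left k).inv_left).zpow_right l
    exact this.symm


/-- Let p be an odd prime, G a finite group and P a Sylow p-subgroup. Call a fusion system F p-stable when, for every fully normalized subgroup Q and every χ ∈ Aut_F(Q) acting quadratically on Q (that is, χ fixes a⁻¹χ(a) for every a ∈ Q; equivalently χ(a⁻¹)·a·χ(a⁻¹)·χ(χ(a)) = 1), χ lies in O_p(Aut_F(Q)). Then G is p-stable in the normalizer form (for every p-subgroup Q and x ∈ N_G(Q) with [Q, x, x] = 1, the image of x lies in O_p(N_G(Q)/C_G(Q))) if and only if the fusion system of G on P is p-stable. -/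
theorem result {Ω : Type*} [Group Ω] [Finite Ω] {p : ℕ} [Fact p.Prime] (hp : p ≠ 2) (P : Sylow p Ω) : Cfsg.IsNormalizerPStable p Ω ↔ (∀ Q : Subgroup Ω, (Cfsg.groupFusionSystem (P : Subgroup Ω)).IsFullyNormalized Q → ∀ χ : MulAut ↥Q, χ ∈ (Cfsg.groupFusionSystem (P : Subgroup Ω)).autGroup Q → (∀ a : ↥Q, (χ a⁻¹) * a * (χ a⁻¹) * (χ (χ a)) = 1) → χ ∈ ((Cfsg.pCore p ↥((Cfsg.groupFusionSystem (P : Subgroup Ω)).autGroup Q)).map ((Cfsg.groupFusionSystem (P : Subgroup Ω)).autGroup Q).subtype : Subgroup (MulAut ↥Q))) := by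
  constructor
  · intro h Q hQ χ hχ hquad
    have hQP := hQ.1
    rw [group_autGroup P hQP] at hχ ⊢
    obtain ⟨x, -, hx⟩ := (mem_autInducedBy_iff χ).1 hχ
    have hn := mem_normalizer_of_autInduced hx
    have hQp : IsPGroup p Q := P.isPGroup'.to_le hQP
    have h2 := (mem_pCore_iff p Q ⟨x, hn⟩).1 (h Q hQp x hn ((quad_iff hn χ hx).2 hquad))
    rwa [show Q.normalizerMonoidHom ⟨x, hn⟩ = χ from MulEquiv.ext fun a => Subtype.ext (hx a).symm] at h2
  · intro h R hR x hx hquad
    obtain ⟨P₁, hP₁⟩ := hR.exists_le_sylow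
    obtain ⟨g₁, rfl⟩ := MulAction.exists_smul_eq Ω P₁ P
    have hR1 : R.map (MulAut.conj g₁).toMonoidHom ≤ ((g₁ • P₁ : Sylow p Ω) : Subgroup Ω) := by
      rintro _ ⟨r, hr, rfl⟩
      exact ⟨r, hP₁ hr, rfl⟩
    obtain ⟨g₂, -, hle, hsyl⟩ := exists_conj_isSyl_normalizerIn (isSyl_sylow (g₁ • P₁)) hR1
    rw [map_conj_map_conj] at hle hsyl
    set g := g₂ * g₁
    rw [normalizerIn_top] at hsyl
    have hfn := (group_fullyNormalized_iff (g₁ • P₁) hle).2 hsyl
    let R' := R.map (MulAut.conj g).toMonoidHom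
    let E : R ≃* R' := (MulAut.conj g).subgroupMap R
    have hE : ∀ r : R, ((E r : R') : Ω) = g * r * g⁻¹ := fun r => rfl
    let χ : MulAut R := R.normalizerMonoidHom ⟨x, hx⟩
    have hχ : ∀ a : R, ((χ a : R) : Ω) = x * a * x⁻¹ := fun a => rfl
    rw [mem_pCore_iff]
    show χ ∈ _
    have hA : (autInducedBy ⊤ R).map (MulAut.congr E).toMonoidHom = autInducedBy ⊤ R' := by
      ext β
      rw [mem_autInducedBy_iff]
      constructor
      · rintro ⟨α, hα, rfl⟩
        obtain ⟨y, -, hy⟩ := (mem_autInducedBy_iff α).1 hα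
        refine ⟨g * y * g⁻¹, trivial, fun a => ?_⟩
        obtain ⟨r, rfl⟩ := E.surjective a
        show ((E (α (E.symm (E r))) : R') : Ω) = _
        rw [E.symm_apply_apply, hE, hE, hy]; group
      · rintro ⟨y, -, hy⟩
        refine ⟨(MulAut.congr E).symm β, (mem_autInducedBy_iff _).2 ⟨g⁻¹ * y * g, trivial, fun r => ?_⟩,
          (MulAut.congr E).apply_symm_apply β⟩
        show ((E.symm (β (E r)) : R) : Ω) = _
        have e1 := hE (E.symm (β (E r)))
        rw [E.apply_symm_apply, hy, hE] at e1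
        calc _ = g⁻¹ * (g * ((E.symm (β (E r)) : R) : Ω) * g⁻¹) * g := by group
          _ = _ := by rw [← e1]; group
    have h2 : MulAut.congr E χ ∈ (Cfsg.pCore p (autInducedBy ⊤ R')).map (autInducedBy ⊤ R').subtype := by
      rw [← group_autGroup (g₁ • P₁) hle]
      refine h R' hfn _ ?_ fun a => ?_
      · rw [group_autGroup (g₁ • P₁) hle, ← hA]
        exact ⟨χ, (mem_autInducedBy_iff χ).2 ⟨x, trivial, hχ⟩, rfl⟩
      · obtain ⟨r, rfl⟩ := E.surjective a
        have := congrArg E ((quad_iff hx χ hχ).1 hquad r)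
        simpa [MulAut.congr] using this
    have hA' : (autInducedBy ⊤ R').map (MulAut.congr E).symm.toMonoidHom = autInducedBy ⊤ R := by
      rw [← hA, Subgroup.map_map]
      exact (congrArg (Subgroup.map · _) (MonoidHom.ext fun α => (MulAut.congr E).symm_apply_apply α)).trans
        (Subgroup.map_id _)
    have h3 := transport p (MulAut.congr E).symm hA' h2
    rwa [MulEquiv.symm_apply_apply] at h3

end Cfsg.Agent.S5246
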