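import Cfsg.Statements.S5247
import Cfsg.Agent.S5246
import Cfsg.Agent.Lib.Fusion.ModelLocal
import Cfsg.Agent.Lib.Fusion.Normal

set_option autoImplicit false
open Cfsg

namespace Cfsg.Agent.S5247

open Cfsg.Agent.FusionSys Cfsg.FusionSystem

variable {Ω : Type*} [Group Ω] {S : Subgroup Ω}

theorem quad_orderOf {Q : Type*} [Group Q] [Finite Q] {p : ℕ} [Fact p.Prime] (hQ : IsPGroup p Q) (χ : MulAut Q)
    (h : ∀ a : Q, (χ a⁻¹) * a * (χ a⁻¹) * (χ (χ a)) = 1) : IsPGroup p (Subgroup.zpowers χ) := by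
  have hc : ∀ a : Q, χ (a⁻¹ * χ a) = a⁻¹ * χ a := fun a => by
    have h1 := h a
    rw [map_inv] at h1
    have : (χ a)⁻¹ * χ (χ a) = ((χ a)⁻¹ * a)⁻¹ := (eq_inv_of_mul_eq_one_right (by rw [← h1]; group))
    rw [map_mul, map_inv, this]; group
  have hn : ∀ (n : ℕ) (a : Q), (χ ^ n) a = a * (a⁻¹ * χ a) ^ n := by
    intro n
    induction n with
    | zero => simp
    | succ n ih =>
      intro a
      rw [pow_succ', MulAut.mul_apply, ih, map_mul, map_pow, hc, pow_succ', ← mul_assoc, mul_inv_cancel_left]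
  obtain ⟨k, hk⟩ := hQ.exists_card_eq
  have h1 : χ ^ p ^ k = 1 := MulEquiv.ext fun a => by
    rw [hn, ← hk, pow_card_eq_one', mul_one]; rfl
  obtain ⟨m, -, hm⟩ := (Nat.dvd_prime_pow Fact.out).1 (orderOf_dvd_of_pow_eq_one h1)
  exact IsPGroup.of_card (n := m) (by rw [Nat.card_zpowers, hm])

theorem mem_pCore_of_le {X : Type*} [Group X] {p : ℕ} [Fact p.Prime] [Finite X] {A B : Subgroup X} (hAB : A ≤ B)
    {x : X} (hxA : x ∈ A) (hx : x ∈ (Cfsg.pCore p B).map B.subtype) : x ∈ (Cfsg.pCore p A).map A.subtype := by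
  obtain ⟨b, hb, rfl⟩ := hx
  have : ((Cfsg.pCore p B).comap (Subgroup.inclusion hAB)).Normal :=
    (haveI := LEBasic.pCore_characteristic (p := p) (G := B); inferInstance : (Cfsg.pCore p B).Normal).comap _
  refine ⟨⟨_, hxA⟩, LEBasic.le_pCore this ?_ hb, rfl⟩
  exact (LEBasic.pCore_isPGroup (p := p) (G := B)).comap_of_injective _ (Subgroup.inclusion_injective hAB)

/-- p-stability at all subgroups of `S`. -/
theorem stable_all {p : ℕ} [Fact p.Prime] [Finite S] (F : FusionSystem S)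
    (h : ∀ Q : Subgroup Ω, F.IsFullyNormalized Q → ∀ χ : MulAut ↥Q, χ ∈ F.autGroup Q →
      (∀ a : ↥Q, (χ a⁻¹) * a * (χ a⁻¹) * (χ (χ a)) = 1) →
      χ ∈ ((Cfsg.pCore p ↥(F.autGroup Q)).map (F.autGroup Q).subtype : Subgroup (MulAut ↥Q)))
    {Q : Subgroup Ω} (hQ : Q ≤ S) {χ : MulAut Q} (hχ : χ ∈ F.autGroup Q)
    (hq : ∀ a : ↥Q, (χ a⁻¹) * a * (χ a⁻¹) * (χ (χ a)) = 1) :
    χ ∈ (Cfsg.pCore p ↥(F.autGroup Q)).map (F.autGroup Q).subtype := by
  obtain ⟨R, ⟨φ, hφ, hr⟩, hR⟩ := exists_fullyNormalized F hQ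
  have he := equivHom_mapEquiv F hφ hr
  have he' := equivHom_mapEquiv_symm F hφ hr
  have hmap := map_autGroup F _ he he'
  have h2 : MulAut.congr (mapEquiv F hφ hr) χ ∈ (Cfsg.pCore p ↥(F.autGroup R)).map (F.autGroup R).subtype := by
    refine h R hR _ (congr_mem_autGroup F _ he he' hχ) fun a => ?_
    obtain ⟨r, rfl⟩ := (mapEquiv F hφ hr).surjective a
    have := congrArg (mapEquiv F hφ hr) (hq r)
    simpa [MulAut.congr] using this
  have hA' : (F.autGroup R).map (MulAut.congr (mapEquiv F hφ hr)).symm.toMonoidHom = F.autGroup Q := by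
    rw [← hmap, Subgroup.map_map]
    exact (congrArg (Subgroup.map · _) (MonoidHom.ext fun α =>
      (MulAut.congr (mapEquiv F hφ hr)).symm_apply_apply α)).trans (Subgroup.map_id _)
  have h3 := S5246.transport p (MulAut.congr (mapEquiv F hφ hr)).symm hA' h2
  rwa [MulEquiv.symm_apply_apply] at h3


/-- Let p be an odd prime and F a saturated fusion system over a finite p-group S. Call a fusion system E (over any subgroup) p-stable when, for every fully E-normalized subgroup Q and every χ ∈ Aut_E(Q) with χ(a⁻¹)·a·χ(a⁻¹)·χ(χ(a)) = 1 for all a ∈ Q (χ acts quadratically), χ lies in O_p(Aut_E(Q)). Then F is p-stable if and only if every normalizer fusion system N_F(R) of every non-cyclic fully F-normalized subgroup R of S is p-stable. -/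
theorem result {Ω : Type*} [Group Ω] {S : Subgroup Ω} [Finite S] (p : ℕ) [Fact p.Prime] (hS : IsPGroup p S) (F : Cfsg.FusionSystem S) (hF : F.IsSaturated p) (hp : p ≠ 2) : (∀ Q : Subgroup Ω, F.IsFullyNormalized Q → ∀ χ : MulAut ↥Q, χ ∈ F.autGroup Q → (∀ a : ↥Q, (χ a⁻¹) * a * (χ a⁻¹) * (χ (χ a)) = 1) → χ ∈ ((Cfsg.pCore p ↥(F.autGroup Q)).map (F.autGroup Q).subtype : Subgroup (MulAut ↥Q))) ↔ ∀ R : Subgroup Ω, F.IsFullyNormalized R → ¬ IsCyclic ↥R → ∀ N : Cfsg.FusionSystem (Cfsg.FusionSystem.normalizerIn S R), F.IsNormalizerSystem R N → (∀ Q : Subgroup Ω, N.IsFullyNormalized Q → ∀ χ : MulAut ↥Q, χ ∈ N.autGroup Q → (∀ a : ↥Q, (χ a⁻¹) * a * (χ a⁻¹) * (χ (χ a)) = 1) → χ ∈ ((Cfsg.pCore p ↥(N.autGroup Q)).map (N.autGroup Q).subtype : Subgroup (MulAut ↥Q))) := by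
  constructor
  · intro h R hR _ N hN Q hQ χ hχ hq
    have hQS : Q ≤ S := hQ.1.trans (normalizerIn_le S R)
    haveI := finite_of_le hQS
    have hsub : N.autGroup Q ≤ F.autGroup Q := by
      intro α hα
      rw [mem_autGroup_iff N hQ.1, hN] at hα
      exact (mem_autGroup_iff F hQS α).2 hα.1
    exact mem_pCore_of_le hsub hχ (stable_all F h hQS (hsub hχ) hq)
  · intro h Q hQ χ hχ hq
    haveI := finite_of_le hQ.1
    by_cases hcyc : IsCyclic Q
    · have hcomm : ∀ α β : MulAut Q, α * β = β * α := by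
        intro α β
        obtain ⟨g, hg⟩ := hcyc.exists_generator
        have key : ∀ γ : MulAut Q, ∃ i : ℤ, ∀ a : Q, γ a = a ^ i := by
          intro γ
          obtain ⟨i, hi⟩ := hg (γ g)
          refine ⟨i, fun a => ?_⟩
          obtain ⟨k, rfl⟩ := hg a
          simp only at hi ⊢
          rw [map_zpow, ← hi, ← zpow_mul, ← zpow_mul, mul_comm]
        obtain ⟨i, hi⟩ := key α
        obtain ⟨j, hj⟩ := key β
        exact MulEquiv.ext fun a => by
          rw [MulAut.mul_apply, MulAut.mul_apply, hi, hj, hj, hi, ← zpow_mul, ← zpow_mul, mul_comm]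
      refine ⟨⟨χ, hχ⟩, LEBasic.le_pCore (N := Subgroup.zpowers (⟨χ, hχ⟩ : F.autGroup Q))
        ⟨fun n hn g => ?_⟩ ?_ (Subgroup.mem_zpowers _), rfl⟩
      · rwa [show g * n * g⁻¹ = n from Subtype.ext (by
          rw [Subgroup.coe_mul, Subgroup.coe_mul, hcomm (g : MulAut Q), Subgroup.coe_inv, mul_inv_cancel_right])]
      · refine IsPGroup.of_injective ((quad_orderOf (hS.to_le hQ.1) χ hq))
          (((F.autGroup Q).subtype.comp (Subgroup.zpowers _).subtype).codRestrict _ fun z => ?_) fun a b hab =>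
            Subtype.ext (Subtype.ext (congrArg Subtype.val hab :))
        obtain ⟨k, hk⟩ := z.2
        exact ⟨k, congrArg Subtype.val hk⟩
    · have hN : F.IsNormalizerSystem Q (normSystem F hQ.1) := fun P => rfl
      have haut := normalizerSystem_autGroup hQ.1 hN
      have hnorm := normalizerSystem_isNormal hQ.1 hN
      haveI : Finite (normalizerIn S Q) := finite_of_le (normalizerIn_le S Q)
      have hfn : (normSystem F hQ.1).IsFullyNormalized Q :=
        ⟨le_normalizerIn hQ.1, fun R hR => by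
          obtain ⟨θ, hθ, rfl⟩ := hR
          rw [(stronglyClosed_weaklyClosed (isNormal_stronglyClosed hnorm)).2 θ hθ]⟩
      have := h Q hQ hcyc _ hN Q hfn χ (haut ▸ hχ) hq
      rwa [haut] at this

end Cfsg.Agent.S5247
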