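import Cfsg.Statements.S5248
import Cfsg.Agent.Lib.FusionTame.CycMaxMain
import Cfsg.Agent.Lib.FusionTame.QuatEight
import Cfsg.Agent.Lib.FusionTame.WreathedMain

set_option autoImplicit false
open Cfsg

namespace Cfsg.Agent.S5248

/-- Let S be a finite 2-group that is dihedral of order at least 8, generalized quaternion of order at least 8, semidihedral, or wreathed, and let F be a saturated fusion system over S. Then F has at most two F-conjugacy classes of F-essential subgroups (among any three essential subgroups two are joined by a map of F), and F is realizable: it is the fusion system of a finite group on a Sylow 2-subgroup. -/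
theorem result {Ω : Type*} [Group Ω] {S : Subgroup Ω} [Finite S] (hS : IsPGroup 2 S) (F : Cfsg.FusionSystem S) (hF : F.IsSaturated 2) (hshape : ((∃ m : ℕ, 4 ≤ m ∧ Nonempty (↥S ≃* DihedralGroup m)) ∨ (∃ m : ℕ, 2 ≤ m ∧ Nonempty (↥S ≃* QuaternionGroup m)) ∨ Cfsg.IsQuasiDihedral ↥S ∨ Cfsg.IsWreathed ↥S)) : (∀ E₁ E₂ E₃ : Subgroup Ω, F.IsEssential 2 E₁ → F.IsEssential 2 E₂ → F.IsEssential 2 E₃ → (∃ φ ∈ F.Hom E₁, φ.range = E₂) ∨ (∃ φ ∈ F.Hom E₁, φ.range = E₃) ∨ (∃ φ ∈ F.Hom E₂, φ.range = E₃)) ∧ F.IsRealizable 2 := by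
  rcases hshape with ⟨m, hm, ⟨e⟩⟩ | ⟨m, hm, ⟨e⟩⟩ | hQ | hW
  · obtain ⟨d, -, -, -⟩ := Tame.exists_cm_dihedral hS hm e
    exact ⟨(Tame.cmShape d).two_classes hS hF, Tame.cm_realizable d hS hF⟩
  · rcases Nat.lt_or_ge m 4 with hlt | hge
    · obtain rfl | rfl : m = 2 ∨ m = 3 := by omega
      · exact Tame.q8_result hS e F hF
      · exfalso
        haveI : Fact (Nat.Prime 2) := ⟨Nat.prime_two⟩
        obtain ⟨n, hn⟩ := IsPGroup.iff_card.1 hS
        rw [Nat.card_congr e.toEquiv, Nat.card_eq_fintype_card, QuaternionGroup.card] at hn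
        have h3 : 3 ∣ 2 ^ n := hn ▸ (by norm_num)
        exact absurd (Nat.le_of_dvd two_pos (Nat.prime_three.dvd_of_dvd_pow h3)) (by norm_num)
    · obtain ⟨d, -, -, -⟩ := Tame.exists_cm_quaternion hS hge e
      exact ⟨(Tame.cmShape d).two_classes hS hF, Tame.cm_realizable d hS hF⟩
  · obtain ⟨d, -, -⟩ := Tame.exists_cm_qd hQ
    exact ⟨(Tame.cmShape d).two_classes hS hF, Tame.cm_realizable d hS hF⟩
  · exact Tame.wreathed_result hS hW F hF

end Cfsg.Agent.S5248
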