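import Cfsg.Statements.S5253
import Cfsg.Agent.Lib.Fusion.FunctorCenterJ
import Cfsg.Agent.Lib.Functors.PowWeakClosure
-- import your own Cfsg.Agent.* helpers here

set_option autoImplicit false
universe u
open Cfsg

namespace Cfsg.Agent.S5253

/-- Let p be a prime and W a positive characteristic p-functor with Z(Q) ≤ W(Q): W assigns to every finite p-group Q (in a fixed universe) a subgroup W(Q), nontrivial when Q is, carried to W(R) by every isomorphism Q ≅ R, and containing the centre of Q. Suppose that for every finite group G with Sylow p-subgroup P in which W(P) is not normal there is g ∈ P outside O_p(G) with [Z(O_p(G)), g, g] = 1. Then for every saturated fusion system F over a finite p-group S and every normalizer fusion system N of W(S) in F, every p-th power of an element of Z(S) that lies in the centre of N lies in the centre of F. -/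
theorem result {p : ℕ} [Fact p.Prime] (W : ∀ (Q : Type u) [Group Q], Subgroup Q) (hW1 : ∀ (Q : Type u) [Group Q] [Finite Q], IsPGroup p Q → Nontrivial Q → W Q ≠ ⊥) (hW2 : ∀ (Q R : Type u) [Group Q] [Group R] [Finite Q], IsPGroup p Q → ∀ φ : Q ≃* R, (W Q).map φ.toMonoidHom = W R) (hWZ : ∀ (Q : Type u) [Group Q] [Finite Q], IsPGroup p Q → Subgroup.center Q ≤ W Q) (hq : ∀ (G : Type u) [Group G] [Finite G] (P : Sylow p G), ¬ (((W ↥(P : Subgroup G)).map (P : Subgroup G).subtype : Subgroup G)).Normal → ∃ g : G, g ∈ (P : Subgroup G) ∧ g ∉ Cfsg.pCore p G ∧ ⁅⁅Subgroup.center ↥(Cfsg.pCore p G) |>.map (Cfsg.pCore p G).subtype, Subgroup.zpowers g⁆, Subgroup.zpowers g⁆ = ⊥) {Ω : Type u} [Group Ω] {S : Subgroup Ω} [Finite S] (hS : IsPGroup p S) (F : Cfsg.FusionSystem S) (hF : F.IsSaturated p) (N : Cfsg.FusionSystem (Cfsg.FusionSystem.normalizerIn S ((W ↥S).map S.subtype))) (hN : F.IsNormalizerSystem ((W ↥S).map S.subtype) N) : Subgroup.closure ((fun z =>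 z ^ p) '' ((S ⊓ Subgroup.centralizer (S : Set Ω) : Subgroup Ω) : Set Ω)) ⊓ N.center ≤ F.center := by
  rintro z hz
  obtain ⟨h1, h2⟩ := Subgroup.mem_inf.1 hz
  refine Cfsg.Agent.FusionSys.mem_center_of_functor hS hF ⟨hW1, hW2⟩ hWZ hN h2 ?_
  intro U L _ _ hUc hU M P hP hzT hcore hcent hfix g
  haveI := Cfsg.Agent.FiniteGroup.pCore_normal (G := L) p
  have hW : Cfsg.IsCharPFunctor.{u} p W := ⟨hW1, hW2⟩
  have hloc : Cfsg.Agent.Functors.LocQuad p (Cfsg.inducedFunctor (G := L) W) := by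
    intro H T hT hns
    obtain ⟨Q, hQ⟩ : ∃ Q : Sylow p H, (Q : Subgroup H) = T.subgroupOf H := hT.exists_sylow
    have hmap : (Q : Subgroup H).map H.subtype = T := by rw [hQ, Subgroup.map_subgroupOf_eq_of_le hT.le]
    have hWT : Cfsg.inducedFunctor W T = (Cfsg.inducedFunctor W (Q : Subgroup H)).map H.subtype := by
      rw [← hmap, Cfsg.Agent.Functors.inducedFunctor_map_of_injective hW Q.isPGroup' H.subtype_injective]
    obtain ⟨g, hgQ, hgO, hq⟩ := hq H Q (fun hn => hns (by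
      rw [hWT]
      exact fun x hx => (Subgroup.le_normalizer_map H.subtype) ⟨⟨x, hx⟩, by
        show (⟨x, hx⟩ : H) ∈ Subgroup.normalizer (((W ↥(Q : Subgroup H)).map (Q : Subgroup H).subtype : Subgroup H) : Set H)
        rw [Subgroup.normalizer_eq_top_iff.2 hn]; trivial, rfl⟩))
    refine ⟨g, hmap ▸ ⟨g, hgQ, rfl⟩, hgO, le_bot_iff.1 (le_trans ?_ hq.le)⟩
    refine Subgroup.commutator_mono (Subgroup.commutator_mono ?_ le_rfl) le_rfl
    rintro x hx
    obtain ⟨hx1, hx2⟩ := Subgroup.mem_inf.1 hx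
    exact ⟨⟨x, hx1⟩, Subgroup.mem_center_iff.2 fun y => Subtype.ext
      (Subgroup.mem_centralizer_iff.1 hx2 y y.2), rfl⟩
  obtain ⟨w, hw, rfl⟩ := Cfsg.Agent.FusionSys.exists_pow_of_mem_zPow h1
  have hwT : w ∈ Cfsg.FusionSystem.normalizerIn S U := Cfsg.Agent.FusionSys.le_normalizerIn hU.1
    (Cfsg.Agent.FusionSys.centralizerIn_le_of_centric hUc ⟨hw.1, Subgroup.centralizer_le hU.1 hw.2⟩)
  refine (Cfsg.Agent.Functors.zPow_conclusions (Cfsg.Agent.Functors.inducedFunctor_isConjugacyFunctor hW)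
    (fun R hR => Cfsg.Agent.Functors.zc_le_inducedFunctor (hWZ _ hR)) hloc P).1 _
    (Subgroup.mem_inf.2 ⟨Subgroup.subset_closure ⟨M.ι ⟨w, hwT⟩, ⟨?_, ?_⟩, ?_⟩,
      Subgroup.mem_centralizer_iff.2 fun n hn => mul_inv_eq_iff_eq_mul.1 (hfix n hn)⟩) g ?_
  · exact hP ▸ ⟨_, rfl⟩
  · rw [hP]
    refine Subgroup.mem_centralizer_iff.2 ?_
    rintro _ ⟨y, rfl⟩
    rw [← map_mul, ← map_mul]
    exact congrArg M.ι (Subtype.ext (Subgroup.mem_centralizer_iff.1 hw.2 y
      (Cfsg.Agent.FusionSys.normalizerIn_le _ _ y.2)))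
  · show (M.ι ⟨w, hwT⟩) ^ p = _
    rw [← map_pow]; rfl
  · exact Cfsg.Agent.PBasic.pCore_le_sylow P ((‹(Cfsg.pCore p L).Normal›).conj_mem _ hcore g)

end Cfsg.Agent.S5253
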