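import Cfsg.Statements.S5257
import Cfsg.Agent.Lib.Fusion.IndexAbelianAll

set_option autoImplicit false
open Cfsg

namespace Cfsg.Agent.S5257

/-- Let p be an odd prime, S a finite nonabelian p-group with a unique abelian subgroup A of index p, and F a saturated fusion system over S having an F-essential subgroup other than A. Then the second centre Z₂(S) lies in A; Z(S) ∩ [S, S] has order p; Z(S)[S, S] has index p in A; Z(S) has index p in Z₂(S); and S/Z(S) has maximal nilpotency class (if S/Z(S) has order pᵐ with m ≥ 3 then the term of index m − 2 of the lower central series of S, counting S as index 0, is not contained in Z(S)). -/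
theorem result {Ω : Type*} [Group Ω] {S : Subgroup Ω} [Finite S] (p : ℕ) [Fact p.Prime] (hS : IsPGroup p S) (F : Cfsg.FusionSystem S) (hF : F.IsSaturated p) (hp : p ≠ 2) (hna : ¬ IsMulCommutative ↥S) (A : Subgroup Ω) (hA : A ≤ S ∧ IsMulCommutative ↥A ∧ (A.subgroupOf S).index = p) (huniq : ∀ B : Subgroup Ω, B ≤ S → IsMulCommutative ↥B → (B.subgroupOf S).index = p → B = A) (P : Subgroup Ω) (hP : F.IsEssential p P) (hPA : P ≠ A) : ((upperCentralSeries ↥S 2).map S.subtype) ≤ A ∧ Nat.card ↥((S ⊓ Subgroup.centralizer (S : Set Ω)) ⊓ ((commutator ↥S).map S.subtype)) = p ∧ (((S ⊓ Subgroup.centralizer (S : Set Ω)) ⊔ ((commutator ↥S).map S.subtype)).subgroupOf A).index = p ∧ (((S ⊓ Subgroup.centralizer (S : Set Ω))).subgroupOf ((upperCentralSeries ↥S 2).map S.subtype)).index = p ∧ ∀ m : ℕ, ((S ⊓ Subgroup.centralizer (S : Set Ω)).subgroupOf S).index = p ^ m → 3 ≤ m → ¬ Subgroup.lowerCentralSeries S (m - 2) ≤ (S ⊓ Subgroup.centralizer (S : Set Ω)) := by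
  obtain ⟨hAS, hAc, hAi⟩ := hA
  have hd : Cfsg.Agent.FusionSys.IndexAbelian S A p := ⟨hAS,
    fun a ha b hb => congrArg Subtype.val (hAc.is_comm.comm ⟨a, ha⟩ ⟨b, hb⟩), hAi,
    fun h => hna ⟨⟨fun a b => Subtype.ext (h a a.2 b b.2)⟩⟩⟩
  obtain ⟨y, hyS, hyP, hyA, hcc, -⟩ := Cfsg.Agent.FusionSys.essential_shape hd hS hF hP hPA
  have hder : (commutator ↥S).map S.subtype = ⁅S, S⁆ := by
    rw [commutator_def, Subgroup.map_commutator, ← MonoidHom.range_eq_map, Subgroup.range_subtype]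
  rw [hder]
  have hle := Cfsg.Agent.FusionSys.secondCenter_le hd hS hcc huniq
  have hZ2 : (upperCentralSeries ↥S 2).map S.subtype = Cfsg.Agent.FusionSys.dsub hd hS hyS := by
    rw [← Cfsg.Agent.FusionSys.secondCenter_inf hd hS hyS hyA, inf_eq_left.2 hle]
  refine ⟨hle, hcc, Cfsg.Agent.FusionSys.index_center_sup_derived hd hS hyS hyA hcc, ?_,
    fun m hm h3 => Cfsg.Agent.FusionSys.not_lowerCentral_le hd hS hyS hyA hcc hm h3⟩
  show ((Cfsg.Agent.FusionSys.centerOf S).subgroupOf _).index = p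
  rw [hZ2]
  haveI := Cfsg.Agent.FusionSys.finite_centerOf (S := S)
  have h := ((Cfsg.Agent.FusionSys.centerOf S).subgroupOf (Cfsg.Agent.FusionSys.dsub hd hS hyS)).card_mul_index
  rw [Nat.card_congr (Subgroup.subgroupOfEquivOfLe (Cfsg.Agent.FusionSys.center_le_dsub hd hS hyS hyA)).toEquiv,
    Cfsg.Agent.FusionSys.card_dsub hd hS hyS hyA, hcc] at h
  exact Nat.eq_of_mul_eq_mul_left Nat.card_pos h

end Cfsg.Agent.S5257
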