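import Cfsg.Statements.S5259
import Cfsg.Agent.Lib.Fusion.HeisenbergCore
import Cfsg.Agent.Lib.Fusion.PSLnSimple

set_option autoImplicit false
open Cfsg

namespace Cfsg.Agent.S5259

open Cfsg.Agent
open Cfsg.Agent.FusionPSLn

variable {K : Type*} [Field K]

/-- The three coordinates of a unitriangular `3 × 3` matrix determine it and multiply as expected. -/
theorem uni_mul_apply (x y : ↥(uni K 3)) :
    ((x * y).1 : Matrix (Fin 3) (Fin 3) K) 0 1 = (x.1 : Matrix (Fin 3) (Fin 3) K) 0 1 + (y.1 : Matrix (Fin 3) (Fin 3) K) 0 1 ∧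
    ((x * y).1 : Matrix (Fin 3) (Fin 3) K) 1 2 = (x.1 : Matrix (Fin 3) (Fin 3) K) 1 2 + (y.1 : Matrix (Fin 3) (Fin 3) K) 1 2 ∧
    ((x * y).1 : Matrix (Fin 3) (Fin 3) K) 0 2 = (x.1 : Matrix (Fin 3) (Fin 3) K) 0 2 + (y.1 : Matrix (Fin 3) (Fin 3) K) 0 2 +
      (x.1 : Matrix (Fin 3) (Fin 3) K) 0 1 * (y.1 : Matrix (Fin 3) (Fin 3) K) 1 2 := by
  obtain ⟨x, hxu, hxd⟩ := x
  obtain ⟨y, hyu, hyd⟩ := y
  simp only [Subgroup.coe_mul, MulMemClass.mk_mul_mk, Matrix.SpecialLinearGroup.coe_mul, Matrix.mul_apply,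
    Fin.sum_univ_three]
  rw [hxd 0, hxu 1 0 (by decide), hxd 1, hyd 1, hyu 2 1 (by decide), hyd 2]
  refine ⟨?_, ?_, ?_⟩ <;> ring

/-- Coordinates on a group isomorphic to a Sylow subgroup of `SL₃`. -/
theorem heis_of_equiv {Ω : Type*} [Group Ω] {S : Subgroup Ω} (φ : ↥S ≃* ↥(uni K 3)) :
    FusionSys.HeisCore.Heis S := by
  let A : ↥S → K := fun s => ((φ s).1 : Matrix (Fin 3) (Fin 3) K) 0 1
  let B : ↥S → K := fun s => ((φ s).1 : Matrix (Fin 3) (Fin 3) K) 1 2
  let C : ↥S → K := fun s => ((φ s).1 : Matrix (Fin 3) (Fin 3) K) 0 2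
  have hA : ∀ s t, A (s * t) = A s + A t := fun s t => by
    simp only [A, map_mul]; exact (uni_mul_apply (φ s) (φ t)).1
  have hB : ∀ s t, B (s * t) = B s + B t := fun s t => by
    simp only [B, map_mul]; exact (uni_mul_apply (φ s) (φ t)).2.1
  have hC : ∀ s t, C (s * t) = C s + C t + A s * B t := fun s t => by
    simp only [C, A, B, map_mul]; exact (uni_mul_apply (φ s) (φ t)).2.2
  have hext : ∀ s t, A s = A t → B s = B t → C s = C t → s = t := by
    intro s t h1 h2 h3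
    refine φ.injective (Subtype.ext (Subtype.ext (Matrix.ext fun i j => ?_)))
    have hs := (φ s).2
    have ht := (φ t).2
    fin_cases i <;> fin_cases j <;>
      first
        | exact h1 | exact h2 | exact h3
        | exact (hs.2 _).trans (ht.2 _).symm
        | exact (hs.1 _ _ (by decide)).trans (ht.1 _ _ (by decide)).symm
  have hmk : ∀ a b c : K, ∃ s, A s = a ∧ B s = b ∧ C s = c := by
    intro a b c
    let M : Matrix (Fin 3) (Fin 3) K := !![1, a, c; 0, 1, b; 0, 0, 1]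
    have hdet : M.det = 1 := by simp [M, Matrix.det_fin_three]
    have hu : (⟨M, hdet⟩ : Matrix.SpecialLinearGroup (Fin 3) K) ∈ uni K 3 := by
      refine ⟨fun i j hij => ?_, fun i => ?_⟩
      · fin_cases i <;> fin_cases j <;> first | rfl | exact absurd hij (by decide)
      · fin_cases i <;> rfl
    exact ⟨φ.symm ⟨_, hu⟩, by simp [A, M], by simp [B, M], by simp [C, M]⟩
  have hcomm : ∀ s t, s * t = t * s ↔ A s * B t = A t * B s := by
    intro s t
    constructor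
    · intro h
      have := congrArg C h
      rw [hC, hC] at this
      linear_combination this
    · intro h
      exact hext _ _ (by rw [hA, hA, add_comm]) (by rw [hB, hB, add_comm])
        (by rw [hC, hC]; linear_combination h)
  have hzs : ∀ s : ↥S, (s : Ω) ∈ FusionSys.ExtraCentre.zs S ↔ A s = 0 ∧ B s = 0 := by
    intro s
    rw [FusionSys.ExtraCentre.mem_zs]
    constructor
    · rintro ⟨-, h⟩
      have key : ∀ t : ↥S, A t * B s = A s * B t := fun t => (hcomm t s).1 (Subtype.ext (h t t.2))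
      constructor
      · obtain ⟨t, h1, h2, -⟩ := hmk 0 1 0
        have := key t
        rw [h1, h2] at this
        linear_combination -this
      · obtain ⟨t, h1, h2, -⟩ := hmk 1 0 0
        have := key t
        rw [h1, h2] at this
        linear_combination this
    · rintro ⟨h1, h2⟩
      exact ⟨s.2, fun r hr => congrArg Subtype.val ((hcomm ⟨r, hr⟩ s).2 (by rw [h1, h2]; ring))⟩
  have hconj : ∀ g x : ↥S, ∃ w : ↥S, A w = 0 ∧ B w = 0 ∧ C w = A g * B x - A x * B g ∧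
      g * x * g⁻¹ = x * w := by
    intro g x
    obtain ⟨w, h1, h2, h3⟩ := hmk 0 0 (A g * B x - A x * B g)
    refine ⟨w, h1, h2, h3, mul_inv_eq_iff_eq_mul.2 (hext _ _ ?_ ?_ ?_)⟩
    · rw [hA, hA, hA, h1]; ring
    · rw [hB, hB, hB, h2]; ring
    · rw [hC, hC, hC, hA, h1, h2, h3]; ring
  refine ⟨fun g hg x hx => ?_, fun x hx hxZ u hu v hv hux hvx => ?_, fun a ha haZ w hw => ?_, fun h => ?_⟩
  · obtain ⟨w, h1, h2, -, he⟩ := hconj ⟨g, hg⟩ ⟨x, hx⟩
    exact ⟨w, (hzs w).2 ⟨h1, h2⟩, congrArg Subtype.val he⟩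
  · refine congrArg Subtype.val ((hcomm ⟨u, hu⟩ ⟨v, hv⟩).2 ?_)
    have e1 := (hcomm ⟨u, hu⟩ ⟨x, hx⟩).1 (Subtype.ext hux)
    have e2 := (hcomm ⟨v, hv⟩ ⟨x, hx⟩).1 (Subtype.ext hvx)
    by_cases hA0 : A ⟨x, hx⟩ = 0
    · have hB0 : B ⟨x, hx⟩ ≠ 0 := fun h => hxZ ((hzs ⟨x, hx⟩).2 ⟨hA0, h⟩)
      rw [hA0, zero_mul] at e1 e2
      rw [(mul_eq_zero.1 e1).resolve_right hB0, (mul_eq_zero.1 e2).resolve_right hB0]
      ring
    · refine mul_left_cancel₀ hA0 ?_
      linear_combination (A ⟨v, hv⟩) * e1 - (A ⟨u, hu⟩) * e2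
  · obtain ⟨hw1, hw2⟩ := (hzs ⟨w, hw.1⟩).1 hw
    set c := C ⟨w, hw.1⟩
    obtain ⟨s, hs⟩ : ∃ s, A s * B ⟨a, ha⟩ - A ⟨a, ha⟩ * B s = c := by
      by_cases hB0 : B ⟨a, ha⟩ = 0
      · have hA0 : A ⟨a, ha⟩ ≠ 0 := fun h => haZ ((hzs ⟨a, ha⟩).2 ⟨h, hB0⟩)
        obtain ⟨s, h1, h2, -⟩ := hmk 0 (-(c / A ⟨a, ha⟩)) 0
        exact ⟨s, by rw [h1, h2, zero_mul, zero_sub, mul_neg, neg_neg, mul_div_cancel₀ _ hA0]⟩
      · obtain ⟨s, h1, h2, -⟩ := hmk (c / B ⟨a, ha⟩) 0 0
        exact ⟨s, by rw [h1, h2, mul_zero, sub_zero, div_mul_cancel₀ _ hB0]⟩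
    obtain ⟨w', h1, h2, h3, he⟩ := hconj s ⟨a, ha⟩
    obtain rfl : w' = ⟨w, hw.1⟩ := hext _ _ (h1.trans hw1.symm) (h2.trans hw2.symm) (h3.trans hs)
    exact ⟨s, s.2, congrArg Subtype.val he⟩
  · obtain ⟨s, h1, -, -⟩ := hmk 1 0 0
    exact one_ne_zero (h1.symm.trans ((hzs s).1 (h s.2)).1)

/-- A Sylow subgroup of `SL₃` is the unitriangular group up to isomorphism. -/
theorem sylow_equiv_uni [Fintype K] (p : ℕ) [Fact p.Prime] [CharP K p]
    (T : Sylow p (Matrix.SpecialLinearGroup (Fin 3) K)) :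
    Nonempty (↥(T : Subgroup (Matrix.SpecialLinearGroup (Fin 3) K)) ≃* ↥(uni K 3)) := by
  classical
  have hu : IsPGroup p ↥(uni K 3) := fun x => ⟨3, Subtype.ext (uni_pow_char p x.1 x.2)⟩
  obtain ⟨R, hR⟩ := hu.exists_le_sylow
  obtain ⟨P, hP⟩ := exists_sylow_uniImage (K := K) (n := 3) p
  have hRP : (R : Subgroup _).map (QuotientGroup.mk' (Subgroup.center (Matrix.SpecialLinearGroup (Fin 3) K))) =
      (P : Subgroup _) := P.is_maximal' (R.2.map _) (hP.le.trans (Subgroup.map_mono hR))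
  have hRu : (R : Subgroup (Matrix.SpecialLinearGroup (Fin 3) K)) = uni K 3 := by
    refine le_antisymm (fun x hx => ?_) hR
    have h : QuotientGroup.mk' (Subgroup.center (Matrix.SpecialLinearGroup (Fin 3) K)) x ∈
        (uni K 3).map (QuotientGroup.mk' (Subgroup.center (Matrix.SpecialLinearGroup (Fin 3) K))) := by
      rw [← hP, ← hRP]; exact Subgroup.mem_map_of_mem _ hx
    obtain ⟨y, hy, he⟩ := h
    obtain ⟨k, hk⟩ := R.2 ⟨x, hx⟩
    rw [eq_of_mk_eq p (x := x) (y := y) he.symm (k := k) (m := 3) (congrArg Subtype.val hk) (uni_pow_char p y hy)]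
    exact hy
  exact ⟨((T.equiv R).trans (MulEquiv.subgroupCongr hRu))⟩

/-- Let p be a prime, K a finite field of characteristic p, and S a finite p-group isomorphic to a Sylow p-subgroup of SL₃(K). Then every exotic fusion system F over S (saturated but not the fusion system of a finite group on a Sylow p-subgroup) has no nontrivial normal subgroup: O_p(F) = 1. -/
theorem result {Ω : Type*} [Group Ω] {S : Subgroup Ω} [Finite S] (p : ℕ) [Fact p.Prime] (hS : IsPGroup p S) (F : Cfsg.FusionSystem S) (hF : F.IsSaturated p) {K : Type*} [Field K] [Fintype K] [CharP K p] (T : Sylow p (Matrix.SpecialLinearGroup (Fin 3) K)) (e : ↥S ≃* ↥(T : Subgroup (Matrix.SpecialLinearGroup (Fin 3) K))) (hex : F.IsExotic p) : F.core = ⊥ := by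
  by_contra hne
  obtain ⟨φ⟩ := sylow_equiv_uni p T
  obtain ⟨A, hA⟩ := FusionSys.HeisCore.constrained_of_core_ne_bot hS hF (heis_of_equiv (e.trans φ)) hne
  exact hex.2 (FusionSys.HeisCore.realizable_of_centricNormal hS hF hA)

end Cfsg.Agent.S5259
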