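import Cfsg.Statements.S5264
import Cfsg.Agent.Lib.OrderFive.PearlEssential

set_option autoImplicit false
open Cfsg Cfsg.FusionSystem Cfsg.Agent Cfsg.Agent.FusionSys Cfsg.Agent.MaxEss

namespace Cfsg.Agent.S5264

/-- Let p be an odd prime other than 7, S a finite p-group of order p^5, and F a saturated fusion system over S with no nontrivial normal subgroup and with hyperfocal subgroup equal to S (so F is its own p-residual subsystem). Then S has an abelian subgroup of index p. -/
theorem result {Ω : Type*} [Group Ω] {S : Subgroup Ω} [Finite S] (p : ℕ) [Fact p.Prime] (hS : IsPGroup p ↥S) (F : Cfsg.FusionSystem S) (hF : F.IsSaturated p) (hp : p ≠ 2) (hp7 : p ≠ 7) (hcard : Nat.card S = p ^ 5) (hcore : F.core = ⊥) (hhyp : F.hyperfocalSubgroup p = S) : ∃ A : Subgroup Ω, A ≤ S ∧ IsMulCommutative ↥A ∧ (A.subgroupOf S).index = p := by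
  obtain ⟨A, hAab, hA⟩ : ∃ A : Subgroup S, (∀ a ∈ A, ∀ b ∈ A, a * b = b * a) ∧ Nat.card A = p ^ 4 := by
    by_contra! hno
    have hnab : OrderFive.NoAb p S := fun A hA => hno A hA
    obtain ⟨E, hE, hab, -, hk | hk, -⟩ := OrderFive.exists_abelian hS hF hcard hnab hcore
    · exact OrderFive.no_pearl hS hF hcard hp hp7 hnab hhyp hE hab hk
    · exact OrderFive.no_cube hS hF hcard hp hp7 hnab hhyp hE hab hk
  refine ⟨om A, om_le A, ⟨⟨?_⟩⟩, ?_⟩
  · rintro ⟨_, a, ha, rfl⟩ ⟨_, b, hb, rfl⟩
    exact Subtype.ext ((congrArg (fun w : S => (w : Ω)) (hAab a ha b hb) :))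
  · rw [show (om A).subgroupOf S = A from Subgroup.comap_map_eq_self_of_injective S.subtype_injective A]
    refine Nat.eq_of_mul_eq_mul_left (pow_pos (Fact.out : p.Prime).pos 4) ?_
    rw [← pow_succ, ← hcard, ← hA, A.card_mul_index]

end Cfsg.Agent.S5264
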