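import Cfsg.Statements.S5265
import Cfsg.Agent.Lib.Fusion.SmallCentreTwoMain
import Cfsg.Agent.Lib.Fusion.Abelian

set_option autoImplicit false
open Cfsg

namespace Cfsg.Agent.S5265

/-- Let p be a prime, S a nontrivial finite p-group whose centre has index at most p², and F a saturated fusion system over S with no nontrivial normal subgroup and with hyperfocal subgroup equal to S. Then S is extraspecial of order p³; for odd p it has exponent p, and for p = 2 it is dihedral of order 8. -/
theorem result {Ω : Type*} [Group Ω] {S : Subgroup Ω} [Finite S] (p : ℕ) [Fact p.Prime] (hS : IsPGroup p ↥S) (F : Cfsg.FusionSystem S) (hF : F.IsSaturated p) (hS1 : S ≠ ⊥) (hcore : F.core = ⊥) (hhyp : F.hyperfocalSubgroup p = S) (hZ : (Subgroup.center ↥S).index ≤ p ^ 2) : Cfsg.IsExtraspecial p ↥S ∧ Nat.card S = p ^ 3 ∧ (p ≠ 2 → Monoid.exponent ↥S = p) ∧ (p = 2 → Nonempty (↥S ≃* DihedralGroup 4)) := by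
  have hnc : ¬ ∀ x ∈ S, ∀ y ∈ S, x * y = y * x := fun hab => hS1 (le_bot_iff.1
    (hcore ▸ Cfsg.Agent.FusionSys.isNormal_le_core (Cfsg.Agent.FusionSys.isNormal_top_of_abelian hab hS hF)))
  have hidx : (Subgroup.center S).index = p ^ 2 := by
    obtain ⟨k, hk⟩ := hS.index (Subgroup.center S)
    rw [hk] at hZ ⊢
    have hk2 : k ≤ 2 := (Nat.pow_le_pow_iff_right (Fact.out : p.Prime).one_lt).1 hZ
    have hcyc : ¬ IsCyclic (S ⧸ Subgroup.center S) := fun h => hnc fun x hx y hy => congrArg Subtype.val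
      (commutative_of_cyclic_center_quotient (QuotientGroup.mk' (Subgroup.center S))
        (QuotientGroup.ker_mk' _).le ⟨x, hx⟩ ⟨y, hy⟩)
    interval_cases k
    · refine absurd ?_ hcyc
      haveI : Subsingleton (S ⧸ Subgroup.center S) :=
        (Nat.card_eq_one_iff_unique.1 (hk.trans (pow_zero p))).1
      exact isCyclic_of_subsingleton
    · exact absurd (isCyclic_of_prime_card (hk.trans (pow_one p))) hcyc
    · rfl
  obtain ⟨s, hd⟩ := Cfsg.Agent.FusionSys.exists_smallCentre hS hidx
  by_cases hp : p = 2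
  · subst hp
    obtain ⟨h1, h2, h3⟩ := Cfsg.Agent.FusionSys.dihedral_of_core_trivial_two hd hS hF hcore hhyp
    exact ⟨h1, h2, fun h => absurd rfl h, fun _ => h3⟩
  · obtain ⟨h1, h2, h3⟩ := Cfsg.Agent.FusionSys.extraspecial_of_core_trivial_odd hd hS hF hcore hp
    exact ⟨h1, h2, fun _ => h3, fun h => absurd h hp⟩

end Cfsg.Agent.S5265
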