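import Cfsg.Statements.S5269
import Cfsg.Agent.Lib.MaxNormal.Maximal

set_option autoImplicit false
open Cfsg Cfsg.FusionSystem Cfsg.Agent.FusionSys
open scoped commutatorElement

namespace Cfsg.Agent.S5269

/-- Let p ≥ 5 be a prime, S a finite p-group of maximal class of order p^n with n ≥ 4, F a saturated fusion system over S, and E an F-essential subgroup that is normal in S. Then E has index p in S; moreover E is the two-step centralizer Γ₁ = C_S([S,S]/γ₄(S)) or E = C_S(Z₂(S)), unless S has order p^4 and E is extraspecial of order p³ and exponent p. -/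
theorem result {Ω : Type*} [Group Ω] {S : Subgroup Ω} [Finite S] (p : ℕ) [Fact p.Prime] (hS : IsPGroup p ↥S) (n : ℕ) (hn : Nat.card S = p ^ n) (h4 : 4 ≤ n) (hmax : Subgroup.lowerCentralSeries S (n - 2) ≠ ⊥) (F : Cfsg.FusionSystem S) (hF : F.IsSaturated p) (hp : 5 ≤ p) (Γ₁ : Subgroup Ω) (hΓ₁ : ∀ x : Ω, x ∈ Γ₁ ↔ x ∈ S ∧ ∀ y ∈ Subgroup.lowerCentralSeries S 1, x * y * x⁻¹ * y⁻¹ ∈ Subgroup.lowerCentralSeries S 3) (E : Subgroup Ω) (hE : F.IsEssential p E) (hEn : (E.subgroupOf S).Normal) : (E.subgroupOf S).index = p ∧ (E = Γ₁ ∨ E = (S ⊓ Subgroup.centralizer (((Subgroup.upperCentralSeries ↥S 2).map S.subtype) : Set Ω)) ∨ (n = 4 ∧ Nat.card ↥E = p ^ 3 ∧ Cfsg.IsExtraspecial p ↥E ∧ Monoid.exponent ↥E = p)) := by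
  have hES : E ≤ S := hE.1.1
  obtain ⟨L, rfl⟩ := MaxEss.exists_om hES
  haveI : L.Normal := by
    rwa [show (MaxEss.om L).subgroupOf S = L from Subgroup.comap_map_eq_self_of_injective S.subtype_injective L] at hEn
  haveI := hS.isNilpotent
  have hlcs : ∀ k, Subgroup.lowerCentralSeries S k = ((⊤ : Subgroup ↥S).lowerCentralSeries k).map S.subtype :=
    fun k => by
      rw [Subgroup.map_lowerCentralSeries, ← MonoidHom.range_eq_map, Subgroup.range_subtype]
  have hcl : Group.nilpotencyClass ↥S = n - 1 := by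
    refine le_antisymm (Subgroup.lowerCentralSeries_eq_bot_iff_nilpotencyClass_le.1
      (MaxClass.lcs_eq_bot hS hn (by omega))) ?_
    by_contra h
    refine hmax ?_
    rw [hlcs, show (⊤ : Subgroup ↥S).lowerCentralSeries (n - 2) = ⊥ from
      Subgroup.lowerCentralSeries_eq_bot_iff_nilpotencyClass_le.2 (by omega), Subgroup.map_bot]
  have hidx := MaxNormal.index_eq hS hF hn h4 hcl hp hE
  refine ⟨by rwa [show (MaxEss.om L).subgroupOf S = L from
    Subgroup.comap_map_eq_self_of_injective S.subtype_injective L], ?_⟩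
  rcases MaxNormal.max_cases hS hF hn h4 hcl hp hE hidx with h | h | h
  · refine Or.inl (SetLike.ext fun x => ?_)
    rw [hΓ₁, h, hlcs 1, hlcs 3]
    constructor
    · rintro ⟨u, hu, rfl⟩
      refine ⟨u.2, ?_⟩
      rintro _ ⟨w, hw, rfl⟩
      refine ⟨(⁅w, u⁆)⁻¹, inv_mem (hu w hw), ?_⟩
      rw [commutatorElement_inv, map_commutatorElement, commutatorElement_def]
    · rintro ⟨hx, hcomm⟩
      refine ⟨⟨x, hx⟩, fun w hw => ?_, rfl⟩
      obtain ⟨v, hv, hve⟩ := hcomm _ ⟨w, hw, rfl⟩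
      rw [← commutatorElement_inv]
      refine inv_mem (show ⁅(⟨x, hx⟩ : ↥S), w⁆ ∈ PolySeq.gam ↥S 4 from ?_)
      rwa [show ⁅(⟨x, hx⟩ : ↥S), w⁆ = v from Subtype.ext (hve.symm)]
  · refine Or.inr (Or.inl ?_)
    rw [h, ← MaxEss.centralizerIn_om]
    rfl
  · exact Or.inr (Or.inr h)

end Cfsg.Agent.S5269
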