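import Cfsg.Statements.S5271
import Cfsg.Agent.Lib.LocalEven.WeakEmbInner

set_option autoImplicit false
open Cfsg

namespace Cfsg.Agent.S5271

/-- A nilpotency criterion for fusion systems. Let F be a saturated fusion system over a finite p-group S of order at least p². Call a subgroup Q of S weakly embedded in F when there is a subgroup P of S strongly closed in F such that both the product QP and the intersection Q ∩ P are strongly closed in F. Then F is the inner fusion system of S if and only if there is a subgroup D of S with 1 < D < S such that every subgroup of S of the same order as D is weakly embedded in F and, for every fully normalized subgroup H of S of that order, the normalizer fusion system of H in F is the inner fusion system of N_S(H). -/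
theorem result {Ω : Type*} [Group Ω] {S : Subgroup Ω} [Finite S] (p : ℕ) [Fact p.Prime] (hS : IsPGroup p ↥S) (F : Cfsg.FusionSystem S) (hF : F.IsSaturated p) (hcard : p ^ 2 ≤ Nat.card S) : (∀ P : Subgroup Ω, F.Hom P = (Cfsg.innerFusionSystem S).Hom P) ↔ ∃ D : Subgroup Ω, ⊥ < D ∧ D < S ∧ (∀ Q : Subgroup Ω, Q ≤ S → Nat.card ↥Q = Nat.card ↥D → ∃ P : Subgroup Ω, F.StronglyClosed P ∧ F.StronglyClosed (Q ⊔ P) ∧ F.StronglyClosed (Q ⊓ P)) ∧ (∀ H : Subgroup Ω, F.IsFullyNormalized H → Nat.card ↥H = Nat.card ↥D → ∀ N : Cfsg.FusionSystem (Cfsg.FusionSystem.normalizerIn S H), F.IsNormalizerSystem H N → ∀ P : Subgroup Ω, N.Hom P = (Cfsg.innerFusionSystem (Cfsg.FusionSystem.normalizerIn S H)).Hom P) := by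
  haveI hSfin : Finite S := inferInstance
  obtain ⟨n, hn⟩ := Cfsg.Agent.WeakEmbInner.card_eq_pow (p := p) hS (le_refl S)
  have hpr : p.Prime := Fact.out
  have hn2 : 2 ≤ n := by
    rw [hn] at hcard
    exact (Nat.pow_le_pow_iff_right hpr.one_lt).1 hcard
  constructor
  · intro hin
    obtain ⟨D, -, hDS, hD⟩ := Cfsg.Agent.WeakEmbInner.exists_between (p := p) (A := ⊥) (W := S) bot_le (a := 0)
      (by simp) hn (Nat.zero_le (n - 1)) (Nat.sub_le n 1)
    have hnorm : ∀ Q : Subgroup Ω, Q ≤ S → Nat.card Q = p ^ (n - 1) → S ≤ Subgroup.normalizer (Q : Set Ω) := by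
      intro Q hQS hQ
      refine (Subgroup.normal_subgroupOf_iff_le_normalizer hQS).1
        (Subgroup.normal_of_index_eq_minFac_card ?_)
      have h := (Q.subgroupOf S).card_mul_index
      rw [Nat.card_congr (Subgroup.subgroupOfEquivOfLe hQS).toEquiv, hQ, hn] at h
      conv_rhs at h => rw [show n = n - 1 + 1 by omega, pow_succ]
      rw [Nat.eq_of_mul_eq_mul_left (pow_pos hpr.pos _) h, hn, Nat.Prime.pow_minFac hpr (by omega)]
    refine ⟨D, bot_lt_iff_ne_bot.2 (Cfsg.Agent.WeakEmbInner.ne_bot_of_card hD (by omega)),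
      lt_of_le_of_ne hDS ?_, fun Q hQS hQ => ⟨⊥, Cfsg.Agent.FusionSys.stronglyClosed_bot F, ?_, ?_⟩,
      fun H hH hHc N hN P => ?_⟩
    · rintro rfl
      have := Nat.pow_right_injective hpr.two_le (hD.symm.trans hn)
      omega
    · rw [sup_bot_eq]
      refine ⟨hQS, fun R hR φ hφ x => ?_⟩
      rw [hin] at hφ
      obtain ⟨-, g, hg, hge⟩ := hφ
      rw [hge]
      exact (Subgroup.mem_normalizer_iff.1 (hnorm Q hQS (hQ.trans hD) hg) _).1 (hR x.2)
    · rw [inf_bot_eq]
      exact Cfsg.Agent.FusionSys.stronglyClosed_bot F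
    · exact Cfsg.Agent.FusionSys.normalizerSystem_inner hin
        (le_inf le_rfl (hnorm H hH.1 (hHc.trans hD))) hN P
  · rintro ⟨D, hD0, hDS, hwe, hni⟩ P
    obtain ⟨d, hd⟩ := Cfsg.Agent.WeakEmbInner.card_eq_pow (p := p) hS hDS.le
    have hd1 : 1 ≤ d := by
      by_contra h
      rw [show d = 0 by omega, pow_zero, Subgroup.card_eq_one] at hd
      exact hD0.ne' hd
    have hdn : d < n := by
      by_contra h
      refine hDS.ne (Subgroup.eq_of_le_of_card_ge hDS.le ?_)
      rw [hd, hn]
      exact Nat.pow_le_pow_right hpr.pos (by omega)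
    rw [Cfsg.Agent.WeakEmbInner.inner_of_weakly_embedded hS hF hd1 hdn hn
      (fun Q hQ hc => hwe Q hQ (hc.trans hd.symm)) fun H hH hHc P φ hφ => ?_]
    have hN := Cfsg.Agent.FusionSys.normSystem_spec F hH.1
    have h := hni H hH (hHc.trans hd.symm) _ hN P
    rw [hN P] at h
    rw [h] at hφ
    exact hφ.2

end Cfsg.Agent.S5271

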