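import Cfsg.Statements.S5272
import Cfsg.Agent.Lib.Functors.AxiomaticZJ
import Cfsg.Agent.Lib.Fusion.InnerCriteria
import Cfsg.Agent.Lib.Fusion.InnerEngines
import Cfsg.Agent.Lib.Fusion.LocalEngines
-- import your own Cfsg.Agent.* helpers here

set_option autoImplicit false
open Cfsg

namespace Cfsg.Agent.S5272

/-- An axiomatic Glauberman–Thompson nilpotency criterion for fusion systems. Let p be an odd prime, F a saturated fusion system over a finite p-group S, and 𝒜 a nonempty family of abelian subgroups of S. For Q ≤ S write I(Q) for the intersection of the members of 𝒜 contained in Q. Assume (invariance) that for every Q ≤ S containing a member of 𝒜, every F-automorphism of Q maps I(Q) into itself, and (replacement) that for every subgroup B of S of nilpotency class at most 2, if some member of 𝒜 contains [B,B] but not B, then B normalizes some member of 𝒜 that contains [B,B] but not B. Then F is the inner fusion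 system of S if and only if the normalizer fusion system of I(S) in F is the inner fusion system of N_S(I(S)). -/
theorem result {Ω : Type*} [Group Ω] {S : Subgroup Ω} [Finite S] (p : ℕ) [Fact p.Prime] (hS : IsPGroup p ↥S) (F : Cfsg.FusionSystem S) (hF : F.IsSaturated p) (hp : p ≠ 2) (𝒜 : Set (Subgroup Ω)) (h𝒜 : ∀ A ∈ 𝒜, A ≤ S ∧ IsMulCommutative ↥A) (hne : 𝒜.Nonempty) (hinv : ∀ Q : Subgroup Ω, Q ≤ S → (∃ A ∈ 𝒜, A ≤ Q) → ∀ α ∈ F.autGroup Q, ∀ x : ↥Q, (x : Ω) ∈ (⨅ A ∈ {A : Subgroup Ω | A ∈ 𝒜 ∧ A ≤ Q}, A) → (((α : MulAut ↥Q) x : ↥Q) : Ω) ∈ (⨅ A ∈ {A : Subgroup Ω | A ∈ 𝒜 ∧ A ≤ Q}, A)) (hrep : ∀ B : Subgroup Ω, B ≤ S → ⁅⁅B, B⁆, B⁆ = ⊥ → (∃ A ∈ 𝒜, ⁅B, B⁆ ≤ A ∧ ¬ B ≤ A) → ∃ A ∈ 𝒜, ⁅B, B⁆ ≤ A ∧ ¬ B ≤ A ∧ B ≤ Subgroup.normalizer (A : Set Ω)) : (∀ P : Subgroup Ω, F.Hom P = (Cfsg.innerFusionSystem S).Hom P) ↔ ∀ N : Cfsg.FusionSystem (Cfsg.FusionSystem.normalizerIn S (⨅ A ∈ 𝒜, A)), F.IsNormalizerSystem (⨅ A ∈ 𝒜, A) N → ∀ P : Subgroup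 Ω, N.Hom P = (Cfsg.innerFusionSystem (Cfsg.FusionSystem.normalizerIn S (⨅ A ∈ 𝒜, A))).Hom P := by
  have hI : (⨅ A ∈ 𝒜, A) = Agent.FamilyZJ.famInf 𝒜 S := by
    refine le_antisymm (le_iInf₂ fun A hA => iInf₂_le A hA.1) (le_iInf₂ fun A hA => ?_)
    exact Agent.FamilyZJ.famInf_le_member hA (h𝒜 A hA).1
  obtain ⟨A₀, hA₀⟩ := hne
  have hIS : (⨅ A ∈ 𝒜, A) ≤ S := (iInf₂_le A₀ hA₀).trans (h𝒜 A₀ hA₀).1
  have hSI : S ≤ Cfsg.FusionSystem.normalizerIn S (⨅ A ∈ 𝒜, A) := by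
    have key : ∀ g ∈ S, ∀ x ∈ (⨅ A ∈ 𝒜, A), g * x * g⁻¹ ∈ (⨅ A ∈ 𝒜, A) := by
      intro g hg x hx
      obtain ⟨a, ha, hae⟩ := Agent.FusionSys.exists_conjAut hg
        (Subgroup.le_normalizer hg : g ∈ Subgroup.normalizer (S : Set Ω))
      rw [hI] at hx ⊢
      have h1 := hinv S le_rfl ⟨A₀, hA₀, (h𝒜 A₀ hA₀).1⟩ a
        (Agent.FusionSys.autInducedBy_le_autGroup F le_rfl ha) ⟨x, hIS (hI.ge hx)⟩ hx
      rwa [hae] at h1
    exact fun g hg => ⟨hg, Agent.FusionSys.mem_normalizer_of_conj_mem g (key g hg) fun x hx => by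
      simpa using key g⁻¹ (S.inv_mem hg) x hx⟩
  constructor
  · exact fun h N hN P => Agent.FusionSys.normalizerSystem_inner h hSI hN P
  intro h P
  rw [← Agent.FusionSys.eq_inner_of_local hS hF ?_]
  intro U L _ hUc hU M hIH
  haveI := M.finL
  rcases eq_or_lt_of_le (Agent.FusionSys.normalizerIn_le S U) with he | hlt
  · obtain ⟨Q, hQ⟩ := M.sylow
    set T := Cfsg.FusionSystem.normalizerIn S U with hTdef
    haveI : Finite T := M.finite_dom
    have hA : ∀ A ∈ 𝒜, A ≤ T := fun A hA => (h𝒜 A hA).1.trans he.ge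
    set im : Subgroup Ω → Subgroup L := fun X => (X.subgroupOf T).map M.ι with him
    have hmem : ∀ (X : Subgroup Ω) (t : T), M.ι t ∈ im X ↔ (t : Ω) ∈ X := fun X t =>
      ⟨fun ⟨s, hs, hse⟩ => M.inj hse ▸ hs, fun ht => ⟨t, ht, rfl⟩⟩
    have hle : ∀ X : Subgroup Ω, im X ≤ (Q : Subgroup L) := fun X => hQ ▸ Subgroup.map_le_range _ _
    -- the subgroup below a subgroup of the image
    let pre : Subgroup L → Subgroup Ω := fun R => (R.comap M.ι).map T.subtype
    have hpreT : ∀ R, pre R ≤ T := fun R => Subgroup.map_subtype_le _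
    have hpre : ∀ (R : Subgroup L) (t : T), (t : Ω) ∈ pre R ↔ M.ι t ∈ R := fun R t =>
      ⟨fun ⟨s, hs, hse⟩ => Subtype.ext hse ▸ hs, fun ht => ⟨t, ht, rfl⟩⟩
    have himpre : ∀ R : Subgroup L, R ≤ (Q : Subgroup L) → im (pre R) = R := by
      intro R hR
      refine le_antisymm ?_ fun r hr => ?_
      · rintro _ ⟨t, ht, rfl⟩
        exact (hpre R t).1 ht
      · obtain ⟨t, rfl⟩ := hQ.le (hR hr)
        exact (hmem _ t).2 ((hpre R t).2 hr)
    have himle : ∀ (X : Subgroup Ω) (R : Subgroup L), X ≤ T → (im X ≤ R ↔ X ≤ pre R) := by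
      intro X R hX
      refine ⟨fun h x hx => (hpre R ⟨x, hX hx⟩).2 (h ((hmem X _).2 hx)), fun h => ?_⟩
      rintro _ ⟨t, ht, rfl⟩
      exact (hpre R t).1 (h ht)
    have hfam : ∀ (R : Subgroup L) (t : T), (∃ A ∈ 𝒜, im A ≤ R) →
        (M.ι t ∈ Agent.FamilyZJ.famInf (im '' 𝒜) R ↔ (t : Ω) ∈ Agent.FamilyZJ.famInf 𝒜 (pre R)) := by
      intro R t _
      rw [Agent.FamilyZJ.mem_famInf, Agent.FamilyZJ.mem_famInf]
      constructor
      · exact fun h A hA' hAR => (hmem A t).1 (h _ ⟨A, hA', rfl⟩ ((himle A R (hA A hA')).2 hAR))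
      · rintro h _ ⟨A, hA', rfl⟩ hAR
        exact (hmem A t).2 (h A hA' ((himle A R (hA A hA')).1 hAR))
    have hF' : Agent.FamilyZJ.IsFamily (Q : Subgroup L) (im '' 𝒜) := by
      refine ⟨⟨_, A₀, hA₀, rfl⟩, ?_, ?_, ?_, ?_⟩
      · rintro _ ⟨A, -, rfl⟩; exact hle A
      · rintro _ ⟨A, hA', rfl⟩ _ ⟨x, hx, rfl⟩ _ ⟨y, hy, rfl⟩
        haveI := (h𝒜 A hA').2
        have hxy : x * y = y * x := Subtype.ext
          (congrArg (fun z : A => (z : Ω)) (IsMulCommutative.is_comm.comm (⟨(x : Ω), hx⟩ : A) ⟨(y : Ω), hy⟩))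
        rw [← map_mul, ← map_mul, hxy]
      · rintro R hR ⟨_, ⟨A, hA', rfl⟩, hAR⟩ g hg x hx
        obtain ⟨t, rfl⟩ : x ∈ M.ι.range := by
          refine hQ.le (hR ?_)
          exact hAR (Agent.FamilyZJ.mem_famInf.1 hx _ ⟨A, hA', rfl⟩ hAR)
        have hR' : im (pre R) = R := himpre R hR
        obtain ⟨α, hα, hαe⟩ := M.exists_aut (hpreT R) (g := g) (by
          show g ∈ Subgroup.normalizer ((im (pre R) : Subgroup L) : Set L)
          rw [hR']; exact hg)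
        have hAp : A ≤ pre R := (himle A R (hA A hA')).1 hAR
        have ht := (hfam R t ⟨A, hA', hAR⟩).1 hx
        have htR : (t : Ω) ∈ pre R := hAp (Agent.FamilyZJ.famInf_le_member hA' hAp ht)
        have h1 := hinv (pre R) ((hpreT R).trans he.le) ⟨A, hA', hAp⟩ α hα ⟨t, htR⟩ ht
        have h2 := hαe ⟨t, htR⟩
        rw [← h2]
        exact (hfam R _ ⟨A, hA', hAR⟩).2 h1
      · rintro R hR hcl ⟨_, ⟨A, hA', rfl⟩, hRA, hnot⟩
        have hR' : im (pre R) = R := himpre R hR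
        have hc : ∀ X Y : Subgroup Ω, X ≤ T → Y ≤ T → ⁅im X, im Y⁆ = im ⁅X, Y⁆ := by
          intro X Y hX hY
          show ⁅_, _⁆ = Subgroup.map M.ι _
          rw [← Subgroup.map_commutator]
          congr 1
          apply Subgroup.map_injective T.subtype_injective
          rw [Subgroup.map_commutator, Subgroup.map_subgroupOf_eq_of_le hX,
            Subgroup.map_subgroupOf_eq_of_le hY, Subgroup.map_subgroupOf_eq_of_le
              ((Subgroup.commutator_mono hX hY).trans (Subgroup.commutator_le_self T))]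
        have hcT : ⁅pre R, pre R⁆ ≤ T :=
          (Subgroup.commutator_mono (hpreT R) (hpreT R)).trans (Subgroup.commutator_le_self T)
        have himinj : ∀ X Y : Subgroup Ω, X ≤ T → im X ≤ im Y → X ≤ Y := fun X Y hX hXY x hx =>
          (hmem Y ⟨x, hX hx⟩).1 (hXY ((hmem X _).2 hx))
        obtain ⟨A', hA'', h1, h2, h3⟩ := hrep (pre R) ((hpreT R).trans he.le) (by
            refine le_bot_iff.1 (himinj _ ⊥
              ((Subgroup.commutator_mono hcT (hpreT R)).trans (Subgroup.commutator_le_self T)) ?_)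
            rw [← hc _ _ hcT (hpreT R), ← hc _ _ (hpreT R) (hpreT R), hR', hcl]
            exact bot_le)
          ⟨A, hA', himinj _ _ hcT (by rw [← hc _ _ (hpreT R) (hpreT R), hR']; exact hRA),
            fun hle' => hnot (hR' ▸ Subgroup.map_mono (fun y hy => hle' hy))⟩
        refine ⟨_, ⟨A', hA'', rfl⟩, ?_, fun hle' => h2 (himinj _ _ (hpreT R) (hR'.le.trans hle')), ?_⟩
        · rw [← hR', hc _ _ (hpreT R) (hpreT R)]
          exact Subgroup.map_mono fun y hy => h1 hy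
        · intro r hr
          obtain ⟨t, rfl⟩ := hQ.le (hR hr)
          have htn := h3 ((hpre R t).2 hr)
          exact Subgroup.le_normalizer_map M.ι ⟨t, (Agent.ZJ.comap_normalizer_eq (hA A' hA'') t).2 htn, rfl⟩
    refine Agent.FamilyZJ.isPGroup_of_family hp M.constrained Q hF' ?_
    have hQeq : Agent.FamilyZJ.famInf (im '' 𝒜) (Q : Subgroup L) = im (⨅ A ∈ 𝒜, A) := by
      refine le_antisymm (fun x hx => ?_) fun x hx => Agent.FamilyZJ.mem_famInf.2 ?_
      · obtain ⟨t, rfl⟩ := hQ.le (hle A₀ (Agent.FamilyZJ.famInf_le_member (show im A₀ ∈ im '' 𝒜 from ⟨A₀, hA₀, rfl⟩) (hle A₀) hx))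
        refine (hmem _ t).2 ?_
        simp only [Subgroup.mem_iInf]
        exact fun A hA' => (hmem A t).1 (Agent.FamilyZJ.mem_famInf.1 hx _ ⟨A, hA', rfl⟩ (hle A))
      · obtain ⟨t, ht, rfl⟩ := hx
        rintro _ ⟨A, hA', rfl⟩ -
        exact (hmem A t).2 ((iInf₂_le A hA' : (⨅ A ∈ 𝒜, A) ≤ A) ht)
    rw [hQeq, hQ]
    exact M.normalizer_le_of_inner (hIS.trans he.ge) (he.le.trans hSI)
      ((Agent.FusionSys.normalizerIn_le S _).trans he.ge) h
  · exact M.isPGroup_of_char hS (Or.inl hp) fun A hA _ => hIH _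
      ((Subgroup.map_subtype_le _).trans (Agent.FusionSys.normalizerIn_le S U))
      (Agent.FusionSys.card_lt_normalizerIn_char hS hlt hA)

end Cfsg.Agent.S5272
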