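import Cfsg.Statements.S5275
import Cfsg.Agent.Lib.Fusion.InnerCriteria
import Cfsg.Agent.S3082

set_option autoImplicit false
open Cfsg

namespace Cfsg.Agent.S5275

open Cfsg Cfsg.FusionSystem in
/-- `Z(J(D))` is normalized by the normalizer of `D` in `S`. -/
theorem normalizerIn_le_centerThompsonAOf {Ω : Type*} [Group Ω] {S : Subgroup Ω} [Finite S] {p : ℕ} [Fact p.Prime]
    (hS : IsPGroup p S) {D : Subgroup Ω} (hD : D ≤ S) :
    normalizerIn S D ≤ normalizerIn S (centerThompsonAOf D) := by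
  have key : ∀ g ∈ normalizerIn S D, ∀ x ∈ centerThompsonAOf D, g * x * g⁻¹ ∈ centerThompsonAOf D := by
    intro g hg x hx
    refine ⟨Cfsg.Agent.FusionSys.inducedFunctor_conj_mem hS (Cfsg.Agent.FusionSys.isCharPFunctor_thompsonA p) hD hg.2 hx.1,
      Subgroup.mem_centralizer_iff.2 fun y hy => ?_⟩
    have hy' : g⁻¹ * y * g⁻¹⁻¹ ∈ thompsonSubgroupAOf D :=
      Cfsg.Agent.FusionSys.inducedFunctor_conj_mem hS (Cfsg.Agent.FusionSys.isCharPFunctor_thompsonA p) hD
        (Subgroup.inv_mem _ hg.2) hy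
    rw [inv_inv] at hy'
    calc y * (g * x * g⁻¹) = g * (g⁻¹ * y * g * x) * g⁻¹ := by group
      _ = g * (x * (g⁻¹ * y * g)) * g⁻¹ := by rw [Subgroup.mem_centralizer_iff.1 hx.2 _ hy']
      _ = g * x * g⁻¹ * y := by group
  exact fun g hg => ⟨hg.1, Cfsg.Agent.FusionSys.mem_normalizer_of_conj_mem g (fun x hx => key g hg x hx) fun x hx => by
    simpa using key g⁻¹ ((normalizerIn S D).inv_mem hg) x hx⟩

/-- A Glauberman–Thompson nilpotency criterion for fusion systems relative to a strongly closed subgroup. Let p be an odd prime, F a saturated fusion system over a finite p-group S, and D a subgroup of S that is strongly closed in F. Let Z(J(D)) be the centre of the subgroup of D generated by the abelian subgroups of D of largest order. Then F is the inner fusion system of S if and only if the normalizer fusion system of Z(J(D)) in F is the inner fusion system of N_S(Z(J(D))) = S. -/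
theorem result {Ω : Type*} [Group Ω] {S : Subgroup Ω} [Finite S] (p : ℕ) [Fact p.Prime] (hS : IsPGroup p ↥S) (F : Cfsg.FusionSystem S) (hF : F.IsSaturated p) (hp : p ≠ 2) (D : Subgroup Ω) (hD : F.StronglyClosed D) : (∀ P : Subgroup Ω, F.Hom P = (Cfsg.innerFusionSystem S).Hom P) ↔ ∀ N : Cfsg.FusionSystem (Cfsg.FusionSystem.normalizerIn S (Cfsg.centerThompsonAOf D)), F.IsNormalizerSystem (Cfsg.centerThompsonAOf D) N → ∀ P : Subgroup Ω, N.Hom P = (Cfsg.innerFusionSystem (Cfsg.FusionSystem.normalizerIn S (Cfsg.centerThompsonAOf D))).Hom P := by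
  have hDS : S ≤ Cfsg.FusionSystem.normalizerIn S (Cfsg.centerThompsonAOf D) := by
    refine le_trans ?_ (normalizerIn_le_centerThompsonAOf hS hD.1)
    have key : ∀ g ∈ S, ∀ x ∈ D, g * x * g⁻¹ ∈ D := fun g hg x hx =>
      hD.2 D le_rfl _ (F.conj_mem hD.1 hg) ⟨x, hx⟩
    exact fun g hg => ⟨hg, Cfsg.Agent.FusionSys.mem_normalizer_of_conj_mem g (key g hg) fun x hx => by
      simpa using key g⁻¹ (S.inv_mem hg) x hx⟩
  constructor
  · exact fun h N hN P => Cfsg.Agent.FusionSys.normalizerSystem_inner h hDS hN P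
  intro h P
  rw [← Cfsg.Agent.FusionSys.eq_inner_of_local hS hF ?_]
  intro U L _ hUc hU M hIH
  haveI := M.finL
  rcases eq_or_lt_of_le (Cfsg.Agent.FusionSys.normalizerIn_le S U) with he | hlt
  · obtain ⟨Q, hQ⟩ := M.sylow
    have hDT : D ≤ Cfsg.FusionSystem.normalizerIn S U := hD.1.trans he.ge
    set DL : Subgroup L := (D.subgroupOf (Cfsg.FusionSystem.normalizerIn S U)).map M.ι with hDL
    have hcl : Cfsg.IsStronglyClosed DL (Q : Subgroup L) := by
      rw [hQ]
      refine ⟨Subgroup.map_le_range _ _, ?_⟩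
      rintro _ ⟨x, hx, rfl⟩ g hg
      have hxle : Subgroup.zpowers (x : Ω) ≤ Cfsg.FusionSystem.normalizerIn S U := Subgroup.zpowers_le.2 x.2
      obtain ⟨φ, hφ, hφm, hφe⟩ := M.hom _ hxle g fun z => by
        obtain ⟨k, hk⟩ := Subgroup.mem_zpowers_iff.1 z.2
        rw [show (⟨(z : Ω), hxle z.2⟩ : Cfsg.FusionSystem.normalizerIn S U) = x ^ k from Subtype.ext (by simp [hk]),
          map_zpow, ← conj_zpow]
        exact zpow_mem hg k
      refine ⟨⟨φ ⟨x, Subgroup.mem_zpowers _⟩, hφm _⟩, ?_, hφe _⟩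
      exact hD.2 _ (Subgroup.zpowers_le.2 hx) _ hφ _
    refine Cfsg.Agent.FusionSys.isPGroup_of_constrained_npc M.constrained
      (Cfsg.Agent.S3082.result hp Q DL hcl (Or.inl ?_))
    refine Cfsg.Agent.PBasic.hasNormalPComplement_of_isPGroup (Q.isPGroup'.to_le ?_)
    have hrange : (M.ι.comp (Subgroup.inclusion hDT)).range = DL := by
      ext z
      exact ⟨fun ⟨d, hd⟩ => ⟨⟨d, hDT d.2⟩, d.2, hd⟩, fun ⟨w, hw, hwe⟩ => ⟨⟨w, hw⟩, hwe⟩⟩
    rw [hQ, ← hrange, Cfsg.Agent.FusionSys.centerThompsonAOf_range hS hD.1 _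
      (M.inj.comp (Subgroup.inclusion_injective hDT))]
    have hmap : ((Cfsg.centerThompsonAOf D).subgroupOf D).map (M.ι.comp (Subgroup.inclusion hDT)) =
        ((Cfsg.centerThompsonAOf D).subgroupOf (Cfsg.FusionSystem.normalizerIn S U)).map M.ι := by
      ext z
      exact ⟨fun ⟨d, hd, hde⟩ => ⟨⟨d, hDT d.2⟩, hd, hde⟩,
        fun ⟨w, hw, hwe⟩ => ⟨⟨w, Cfsg.Agent.FusionSys.centerThompsonAOf_le D hw⟩, hw, hwe⟩⟩
    rw [hmap]
    exact M.normalizer_le_of_inner ((Cfsg.Agent.FusionSys.centerThompsonAOf_le D).trans hDT)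
      (he.le.trans hDS) ((Cfsg.Agent.FusionSys.normalizerIn_le S _).trans he.ge) h
  · exact M.isPGroup_of_char hS (Or.inl hp) fun A hA _ => hIH _
      ((Subgroup.map_subtype_le _).trans (Cfsg.Agent.FusionSys.normalizerIn_le S U))
      (Cfsg.Agent.FusionSys.card_lt_normalizerIn_char hS hlt hA)

end Cfsg.Agent.S5275
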