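import Cfsg.Statements.S5278
import Cfsg.Agent.Lib.TorusFF.Fusion

set_option autoImplicit false
open Cfsg

namespace Cfsg.Agent.S5278

/-- Let p be an odd prime, F a saturated fusion system over a finite p-group S, and T a subgroup of Z(S) such that the normalizer fusion system of J(S) in F is contained in the normalizer fusion system of T, J(S) being the subgroup generated by the abelian subgroups of S of largest order. Then either T is weakly closed in F, or Aut_F(T) has a nontrivial cyclic subgroup X of order prime to p that permutes transitively the non-identity elements of the commutator [T, X] (the subgroup of T generated by the elements ψ(t)·t⁻¹ with ψ in X and t in T). -/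
theorem result {Ω : Type*} [Group Ω] {S : Subgroup Ω} [Finite S] (p : ℕ) [Fact p.Prime] (hS : IsPGroup p ↥S) (F : Cfsg.FusionSystem S) (hF : F.IsSaturated p) (hp : p ≠ 2) (T : Subgroup Ω) (hT : T ≤ S ⊓ Subgroup.centralizer (S : Set Ω)) (hJT : ∀ NJ : Cfsg.FusionSystem (Cfsg.FusionSystem.normalizerIn S (Cfsg.thompsonSubgroupAOf S)), F.IsNormalizerSystem (Cfsg.thompsonSubgroupAOf S) NJ → ∀ NT : Cfsg.FusionSystem (Cfsg.FusionSystem.normalizerIn S T), F.IsNormalizerSystem T NT → NJ.IsSubsystemOf NT) : F.WeaklyClosed T ∨ ∃ X : Subgroup (MulAut ↥T), X ≤ F.autGroup T ∧ X ≠ ⊥ ∧ IsCyclic ↥X ∧ (Nat.card ↥X).Coprime p ∧ ∀ a b : ↥T, a ∈ Subgroup.closure {y : ↥T | ∃ ψ ∈ X, ∃ t : ↥T, y = ψ t * t⁻¹} → b ∈ Subgroup.closure {y : ↥T | ∃ ψ ∈ X, ∃ t : ↥T, y = ψ t * t⁻¹} → a ≠ 1 → b ≠ 1 → ∃ ψ ∈ X, ψ a = b := by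
  have hJeq : Cfsg.thompsonSubgroupAOf S = Cfsg.Agent.ZJ.jSub p False S :=
    Cfsg.Agent.TorusFF.thompsonAOf_eq S
  have hTS : T ≤ S := hT.trans inf_le_left
  haveI : Finite T := Cfsg.Agent.FusionSys.finite_of_le (S := S) hTS
  have hmain := Cfsg.Agent.TorusFF.weaklyClosed_or_torus hS hF hp hT (by
    intro P φ hJP hφ hPN hJ x hx hxT
    rw [← hJeq] at hJP hPN hJ
    have hJS : Cfsg.thompsonSubgroupAOf S ≤ S := hJeq ▸ Cfsg.Agent.ZJ.jSub_le S
    have hTJ : T ≤ Cfsg.thompsonSubgroupAOf S := hJeq ▸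
      Cfsg.Agent.TorusFF.le_jSub_of_central hTS (hT.trans inf_le_right)
    set J := Cfsg.thompsonSubgroupAOf S with hJdef
    have hle : P ⊔ J ≤ P := sup_le le_rfl hJP
    have hrange : ∀ y : P, φ y ∈ Cfsg.FusionSystem.normalizerIn S J := fun y => by
      refine ⟨Cfsg.Agent.FusionSys.hom_apply_mem F hφ y, ?_⟩
      haveI := Cfsg.Agent.FusionSys.finite_of_le (S := S) hJS
      refine Cfsg.Agent.FusionSys.apply_mem_normalizer φ hJP ?_ y (hPN y.2).2
      rw [Cfsg.Agent.FusionSys.range_restrict]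
      exact hJ
    have hmem : φ ∈ F.normalizerHom J P := by
      refine ⟨hφ, hPN, hrange, _, Cfsg.Agent.FusionSys.restrict_mem F hφ hle, fun y => rfl, ?_⟩
      rw [Cfsg.Agent.FusionSys.map_subgroupOf_eq_iff _ le_sup_right]
      exact (Cfsg.Agent.FusionSys.map_subgroupOf_eq_iff φ hJP).1 hJ
    have hsub := hJT (Cfsg.Agent.FusionSys.normSystem F hJS) (Cfsg.Agent.FusionSys.normSystem_spec F hJS)
      (Cfsg.Agent.FusionSys.normSystem F hTS) (Cfsg.Agent.FusionSys.normSystem_spec F hTS)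
    obtain ⟨-, -, -, ψ, -, e1, e2⟩ := hsub P hmem
    rw [← e1 ⟨x, hx⟩]
    exact ((Cfsg.Agent.FusionSys.map_subgroupOf_eq_iff ψ le_sup_right).1 e2).1 ⟨x, hxT⟩)
  rcases hmain with h | ⟨β, hβ, ⟨t, ht⟩, htrans⟩
  · exact Or.inl h
  · refine Or.inr ⟨Subgroup.zpowers β, Subgroup.zpowers_le.2 hβ, fun h => ?_, inferInstance, ?_, ?_⟩
    · exact ht (by rw [Subgroup.zpowers_eq_bot.1 h]; rfl)
    · exact (Cfsg.Agent.TorusFF.coprime_autGroup hS hF hT).coprime_dvd_left
        (Subgroup.card_dvd_of_le (Subgroup.zpowers_le.2 hβ))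
    · haveI : Finite (MulAut T) := Finite.of_injective _ MulEquiv.toEquiv_injective
      have hle : Subgroup.closure {y : T | ∃ ψ ∈ Subgroup.zpowers β, ∃ t : T, y = ψ t * t⁻¹} ≤
          Subgroup.closure {y : T | ∃ n : ℕ, ∃ t : T, y = (β ^ n) t * t⁻¹} := by
        refine Subgroup.closure_mono ?_
        rintro y ⟨ψ, hψ, s, rfl⟩
        obtain ⟨n, rfl⟩ := mem_powers_iff_mem_zpowers.2 hψ
        exact ⟨n, s, rfl⟩
      intro a b ha hb ha1 hb1
      obtain ⟨n, hn⟩ := htrans a b (hle ha) (hle hb) ha1 hb1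
      exact ⟨β ^ n, pow_mem (Subgroup.mem_zpowers β) n, hn⟩

end Cfsg.Agent.S5278
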