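import Cfsg.Statements.S5281
import Cfsg.Agent.Lib.Fusion.Alperin
import Cfsg.Agent.Lib.Fusion.Local
import Cfsg.Agent.Lib.Fusion.KNormalizer
open Cfsg.FusionSystem Cfsg.Agent.FusionSys

set_option autoImplicit false
open Cfsg

namespace Cfsg.Agent.S5281

variable {Ω : Type*} [Group Ω] {S : Subgroup Ω} {p : ℕ}

/-- The quadratic condition. -/
def Quad {Q : Subgroup Ω} (χ : MulAut Q) : Prop := ∀ a : Q, (χ a⁻¹) * a * (χ a⁻¹) * (χ (χ a)) = 1

theorem quad_congr {P Q : Subgroup Ω} (e : P ≃* Q) {χ : MulAut P} (h : Quad χ) : Quad (MulAut.congr e χ) := by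
  intro a
  have := congrArg e (h (e.symm a))
  simpa [congr_apply] using this

theorem pCore_congr [hp : Fact p.Prime] {P Q : Subgroup Ω} (F : FusionSystem S) (e : P ≃* Q)
    (he : Q.subtype.comp e.toMonoidHom ∈ F.Hom P) (he' : P.subtype.comp e.symm.toMonoidHom ∈ F.Hom Q)
    {χ : MulAut P} (h : χ ∈ ((pCore p (F.autGroup P)).map (F.autGroup P).subtype : Subgroup (MulAut P))) :
    MulAut.congr e χ ∈ ((pCore p (F.autGroup Q)).map (F.autGroup Q).subtype : Subgroup (MulAut Q)) := by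
  obtain ⟨a, ha, rfl⟩ := h
  let E : F.autGroup P ≃* F.autGroup Q :=
    ((MulAut.congr e).subgroupMap (F.autGroup P)).trans (MulEquiv.subgroupCongr (map_autGroup F e he he'))
  exact ⟨E a, Cfsg.Agent.PBasic.map_pCore_le_of_surjective (p := p) E.toMonoidHom E.surjective ⟨a, ha, rfl⟩, rfl⟩

theorem pCore_inter [Finite S] [hp : Fact p.Prime] {Q : Subgroup Ω} (hQ : Q ≤ S)
    {A B : Subgroup (MulAut Q)} (hBA : B ≤ A) {χ : MulAut Q} (hχB : χ ∈ B)
    (h : χ ∈ ((pCore p A).map A.subtype : Subgroup (MulAut Q))) :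
    χ ∈ ((pCore p B).map B.subtype : Subgroup (MulAut Q)) := by
  have := finite_of_le hQ
  obtain ⟨a, ha, rfl⟩ := h
  refine ⟨⟨a, hχB⟩, ?_, rfl⟩
  have hn : (pCore p A).Normal := haveI := Cfsg.Agent.PBasic.pCore_characteristic p A; inferInstance
  exact Cfsg.Agent.PBasic.le_pCore (hn.comap (Subgroup.inclusion hBA))
    ((Cfsg.Agent.PBasic.pCore_isPGroup p A).comap_of_injective _ (Subgroup.inclusion_injective hBA))
    (show Subgroup.inclusion hBA ⟨a, hχB⟩ ∈ pCore p A from ha)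

theorem centric_mono [Finite S] {F : FusionSystem S} {R R' : Subgroup Ω} (hR : F.IsCentric R) (hle : R ≤ R') (hR' : R' ≤ S) :
    F.IsCentric R' := by
  refine ⟨hR', ?_⟩
  rintro _ ⟨φ, hφ, rfl⟩ y hy
  have hres := restrict_mem F hφ hle
  have h1 : y ∈ centralizerIn S (φ.comp (Subgroup.inclusion hle)).range := ⟨hy.1, by
    show y ∈ Subgroup.centralizer ((φ.comp (Subgroup.inclusion hle)).range : Set Ω)
    refine Subgroup.centralizer_le ?_ hy.2
    rintro _ ⟨x, rfl⟩
    exact ⟨Subgroup.inclusion hle x, rfl⟩⟩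
  obtain ⟨x, rfl⟩ := hR.2 _ ⟨_, hres, rfl⟩ h1
  exact ⟨Subgroup.inclusion hle x, rfl⟩

/-- `R` is a centric overgroup of `Q` to which every automorphism of `Q` extends. -/
def Good (F : FusionSystem S) (Q R : Subgroup Ω) : Prop :=
  ∃ hQR : Q ≤ R, F.IsCentric R ∧ ∀ α ∈ F.autGroup Q, ∃ β ∈ F.autGroup R,
    ∀ q : Q, ((β (Subgroup.inclusion hQR q) : R) : Ω) = ((α q : Q) : Ω)

theorem good_start [Finite S] [hp : Fact p.Prime] (hS : IsPGroup p S) {F : FusionSystem S} (hF : F.IsSaturated p)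
    {Q : Subgroup Ω} (hQ : F.IsFullyNormalized Q) : Good F Q (Q ⊔ centralizerIn S Q) := by
  have hfc := (fullyNormalized_imp hS hF hQ).1
  set R := Q ⊔ centralizerIn S Q
  have hRS : R ≤ S := sup_le hQ.1 (centralizerIn_le S Q)
  haveI := finite_of_le hRS
  refine ⟨le_sup_left, ⟨hRS, ?_⟩, fun α hα => ?_⟩
  · rintro _ ⟨φ, hφ, rfl⟩ y hy
    have hres := restrict_mem F hφ (le_sup_left : Q ≤ R)
    set ι := φ.comp (Subgroup.inclusion (le_sup_left : Q ≤ R)) with hι
    have hy' : y ∈ centralizerIn S ι.range := ⟨hy.1, by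
      show y ∈ Subgroup.centralizer (ι.range : Set Ω)
      refine Subgroup.centralizer_le ?_ hy.2
      rintro _ ⟨x, rfl⟩
      exact ⟨_, rfl⟩⟩
    obtain ⟨x, hx, rfl⟩ := exists_preimage_of_card_le F hφ (le_sup_right : centralizerIn S Q ≤ R)
      (centralizerIn_le _ _) (fun x hx => (⟨hom_apply_mem F hφ _,
        apply_mem_centralizer φ le_sup_left rfl ⟨x, _⟩ hx.2⟩ : _ ∈ centralizerIn S ι.range))
      (hfc.2 _ ⟨ι, hres, rfl⟩) y hy'
    exact ⟨_, rfl⟩
  · obtain ⟨ψ, hψ, hag⟩ := (fullyNormalized_receptive hS hF hQ).2 Q _ ((equivHom_autGroup F hQ.1).1 hα)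
      (equivHom_range α)
    have hle : R ≤ extender S Q (equivHom α) := centralizerIn_sup_le_extender F ((equivHom_autGroup F hQ.1).1 hα)
    have hres := restrict_mem F hψ hle
    set θ := ψ.comp (Subgroup.inclusion hle)
    have hθQ : ∀ q : Q, θ (Subgroup.inclusion le_sup_left q) = ((α q : Q) : Ω) := fun q => hag q q.2 _
    have hrange : θ.range = R := by
      refine Subgroup.eq_of_le_of_card_ge ?_ (isConj_card ⟨θ, hres, rfl⟩).le
      rintro _ ⟨x, rfl⟩
      have hsub : (⊤ : Subgroup R) ≤ R.comap θ := by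
        have h1 : ((Q.subgroupOf R) ⊔ (centralizerIn S Q).subgroupOf R) = ⊤ := by
          rw [← Subgroup.subgroupOf_sup le_sup_left le_sup_right, Subgroup.subgroupOf_self]
        rw [← h1]
        refine sup_le (fun q hq => ?_) fun c hc => Subgroup.mem_sup_right ⟨hom_apply_mem F hres c, ?_⟩
        · show θ q ∈ R
          rw [show q = Subgroup.inclusion le_sup_left ⟨(q : Ω), hq⟩ from rfl, hθQ]
          exact Subgroup.mem_sup_left (α ⟨(q : Ω), hq⟩).2
        · show θ c ∈ Subgroup.centralizer (Q : Set Ω)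
          rw [Subgroup.mem_centralizer_iff]
          intro q hq
          have h2 : Subgroup.inclusion le_sup_left (α⁻¹ ⟨q, hq⟩) * c =
              c * Subgroup.inclusion le_sup_left (α⁻¹ ⟨q, hq⟩) :=
            Subtype.ext (Subgroup.mem_centralizer_iff.1 hc.2 _ (α⁻¹ ⟨q, hq⟩).2)
          have h3 := congrArg θ h2
          rw [map_mul, map_mul, hθQ, MulAut.apply_inv_self] at h3
          exact h3
      exact hsub (Subgroup.mem_top x)
    obtain ⟨β, hβ, hβe⟩ := exists_autGroup_of_range F hres hrange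
    exact ⟨β, hβ, fun q => (hβe _).trans (hθQ q)⟩

/-- Let p be an odd prime and F a saturated fusion system over a finite p-group S. Call a fusion system E (over any subgroup) p-stable when, for every fully E-normalized subgroup Q and every χ in Aut_E(Q) with χ(a⁻¹)·a·χ(a⁻¹)·χ(χ(a)) = 1 for all a in Q (χ acts quadratically), χ lies in O_p(Aut_E(Q)). Then F is p-stable if and only if the normalizer fusion system of R in F is p-stable for every fully F-normalized, F-centric, F-radical subgroup R of S. -/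
theorem result {Ω : Type*} [Group Ω] {S : Subgroup Ω} [Finite S] (p : ℕ) [Fact p.Prime] (hS : IsPGroup p ↥S) (F : Cfsg.FusionSystem S) (hF : F.IsSaturated p) (hp : p ≠ 2) : (∀ Q : Subgroup Ω, F.IsFullyNormalized Q → ∀ χ : MulAut ↥Q, χ ∈ F.autGroup Q → (∀ a : ↥Q, (χ a⁻¹) * a * (χ a⁻¹) * (χ (χ a)) = 1) → χ ∈ ((Cfsg.pCore p ↥(F.autGroup Q)).map (F.autGroup Q).subtype : Subgroup (MulAut ↥Q))) ↔ ∀ R : Subgroup Ω, F.IsFullyNormalized R → F.IsCentric R → F.IsRadical p R → ∀ N : Cfsg.FusionSystem (Cfsg.FusionSystem.normalizerIn S R), F.IsNormalizerSystem R N → (∀ Q : Subgroup Ω, N.IsFullyNormalized Q → ∀ χ : MulAut ↥Q, χ ∈ N.autGroup Q → (∀ a : ↥Q, (χ a⁻¹) * a * (χ a⁻¹) * (χ (χ a)) = 1) → χ ∈ ((Cfsg.pCore p ↥(N.autGroup Q)).map (N.autGroup Q).subtype : Subgroup (MulAut ↥Q))) := by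
  classical
  constructor
  · intro h R hR _ _ N hN Q hQ χ hχ hquad
    have hQN := hQ.1
    have hQS : Q ≤ S := hQN.trans (normalizerIn_le S R)
    have hle : N.autGroup Q ≤ F.autGroup Q := autGroup_mono (fun P φ hφ => by rw [hN P] at hφ; exact hφ.1) Q
    obtain ⟨Q₁, ⟨φ, hφ, hφr⟩, hQ₁⟩ := exists_fullyNormalized F hQS
    let e := mapEquiv F hφ hφr
    have he := equivHom_mapEquiv F hφ hφr
    have he' := equivHom_mapEquiv_symm F hφ hφr
    have h1 := h Q₁ hQ₁ _ (congr_mem_autGroup F e he he' (hle hχ)) (quad_congr e hquad)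
    have h2 := pCore_congr F e.symm he' he h1
    rw [show MulAut.congr e.symm (MulAut.congr e χ) = χ from MulEquiv.ext fun x => by simp [congr_apply]] at h2
    exact pCore_inter hQS hle hχ h2
  · intro h Q hQ χ hχ hquad
    by_contra hbad
    let Bad : Subgroup Ω → Prop := fun Q => ∃ χ ∈ F.autGroup Q, Quad χ ∧
      χ ∉ ((pCore p (F.autGroup Q)).map (F.autGroup Q).subtype : Subgroup (MulAut Q))
    let Fam : Set (Subgroup Ω) := {R | ∃ Q, Bad Q ∧ Good F Q R}
    have hfin : Fam.Finite := (setOf_le_finite (S := S)).subset fun R ⟨_, _, _, hc, _⟩ => hc.1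
    obtain ⟨R₀, ⟨Q₀, hbad₀, hQR₀, hR₀c, hext₀⟩, hmax⟩ := Set.exists_max_image Fam (fun R => Nat.card R) hfin
      ⟨_, Q, ⟨χ, hχ, hquad, hbad⟩, good_start hS hF hQ⟩
    -- move `R₀` to a fully normalized conjugate
    obtain ⟨R, ⟨φ, hφ, hφr⟩, hRn⟩ := exists_fullyNormalized F hR₀c.1
    let eR := mapEquiv F hφ hφr
    have heR := equivHom_mapEquiv F hφ hφr
    have heR' := equivHom_mapEquiv_symm F hφ hφr
    have hι : φ.comp (Subgroup.inclusion hQR₀) ∈ F.Hom Q₀ := restrict_mem F hφ hQR₀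
    obtain ⟨Q₁, eQ, heQ, heQ', hQR, heq⟩ : ∃ (Q₁ : Subgroup Ω) (eQ : Q₀ ≃* Q₁),
        Q₁.subtype.comp eQ.toMonoidHom ∈ F.Hom Q₀ ∧ Q₀.subtype.comp eQ.symm.toMonoidHom ∈ F.Hom Q₁ ∧ Q₁ ≤ R ∧
        ∀ x : Q₀, ((eQ x : Q₁) : Ω) = φ (Subgroup.inclusion hQR₀ x) :=
      ⟨_, mapEquiv F hι rfl, equivHom_mapEquiv F hι rfl, equivHom_mapEquiv_symm F hι rfl,
        (by rw [← hφr]; rintro _ ⟨x, rfl⟩; exact ⟨_, rfl⟩), fun x => rfl⟩
    have hext : ∀ α ∈ F.autGroup Q₁, ∃ β ∈ F.autGroup R,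
        ∀ q : Q₁, ((β (Subgroup.inclusion hQR q) : R) : Ω) = ((α q : Q₁) : Ω) := by
      intro α hα
      obtain ⟨β, hβ, hβe⟩ := hext₀ _ (congr_mem_autGroup F eQ.symm heQ' heQ hα)
      refine ⟨_, congr_mem_autGroup F eR heR heR' hβ, fun q => ?_⟩
      obtain ⟨x, rfl⟩ := eQ.surjective q
      rw [congr_apply, show Subgroup.inclusion hQR (eQ x) = eR (Subgroup.inclusion hQR₀ x) from Subtype.ext (heq x),
        MulEquiv.symm_apply_apply]
      have h1 : β (Subgroup.inclusion hQR₀ x) = Subgroup.inclusion hQR₀ (eQ.symm (α (eQ x))) := Subtype.ext (by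
        rw [hβe x, congr_apply, MulEquiv.symm_symm]; rfl)
      rw [h1]
      exact (heq _).symm.trans (congrArg Subtype.val (eQ.apply_symm_apply (α (eQ x))))
    have hbad₁ : Bad Q₁ := by
      obtain ⟨χ₀, hχ₀, hq₀, hn₀⟩ := hbad₀
      refine ⟨_, congr_mem_autGroup F eQ heQ heQ' hχ₀, quad_congr eQ hq₀, fun h1 => hn₀ ?_⟩
      have h2 := pCore_congr F eQ.symm heQ' heQ h1
      rwa [show MulAut.congr eQ.symm (MulAut.congr eQ χ₀) = χ₀ from MulEquiv.ext fun x => by simp [congr_apply]] at h2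
    have hRc : F.IsCentric R := isCentric_isConj hR₀c ⟨φ, hφ, hφr⟩
    have hcardR : ∀ R' ∈ Fam, Nat.card R' ≤ Nat.card R := fun R' hR' =>
      (hmax R' hR').trans (isConj_card ⟨φ, hφ, hφr⟩).le
    have hRS := hRc.1
    haveI := finite_of_le hRS
    -- `R` is radical
    have hrad : F.IsRadical p R := by
      by_contra hnr
      set A := F.autGroup R
      set L : Subgroup (MulAut R) := (pCore p A).map A.subtype with hL
      obtain ⟨T, hT⟩ := (fullyNormalized_imp hS hF hRn).2.2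
      have hLS : L ≤ autInducedBy S R := by
        rintro _ ⟨a, ha, rfl⟩
        exact Subgroup.mem_subgroupOf.1 (hT.le (Cfsg.Agent.PBasic.pCore_le_sylow T ha))
      have hInn : Inn R ≤ L := fun c hc => ⟨⟨c, inn_le_autGroup F hRS hc⟩, Cfsg.Agent.PBasic.le_pCore
        (innSubgroupOfNormal R A) (((inn_eq_autInducedBy_self R).symm ▸ autInducedBy_isPGroup (hS.to_le hRS)).comap_of_injective
          _ A.subtype_injective) (Subgroup.mem_subgroupOf.2 hc), rfl⟩
      obtain ⟨a, haL, haI⟩ := SetLike.not_le_iff_exists.1 fun hle : L ≤ Inn R => hnr ⟨hRS, le_antisymm hle hInn⟩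
      obtain ⟨g, hg, hge⟩ := (mem_autInducedBy_iff a).1 (hLS haL)
      set R₂ := kNorm S R L with hR₂
      have hRR₂ : R ≤ R₂ := fun x hx => ⟨hRS hx, MulAut.conj (⟨x, hx⟩ : R), hInn ⟨⟨x, hx⟩, rfl⟩, fun y => rfl⟩
      have hR₂S : R₂ ≤ S := fun x hx => hx.1
      haveI := finite_of_le hR₂S
      have hgR : g ∉ R := fun hgR => haI ⟨⟨g, hgR⟩, MulEquiv.ext fun y => Subtype.ext (hge y).symm⟩
      have hR₂n : ∀ x ∈ R₂, x ∈ Subgroup.normalizer (R : Set Ω) := fun x hx => by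
        obtain ⟨-, c, -, hce⟩ := hx
        exact mem_normalizer_of_autInduced hce
      have hC : centralizerIn S R ≤ R := centralizerIn_le_of_centric hRc
      have hgood : Good F Q₁ R₂ := by
        refine ⟨hQR.trans hRR₂, centric_mono hRc hRR₂ hR₂S, fun α hα => ?_⟩
        obtain ⟨β, hβ, hβe⟩ := hext α hα
        obtain ⟨ψ, hψ, hag⟩ := (fullyNormalized_receptive hS hF hRn).2 R _ ((equivHom_autGroup F hRS).1 hβ)
          (equivHom_range β)
        have hLn : ∀ c ∈ L, β * c * β⁻¹ ∈ L := by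
          rintro _ ⟨c, hc, rfl⟩
          haveI : (pCore p A).Normal :=
            haveI := Cfsg.Agent.PBasic.pCore_characteristic p A; inferInstance
          exact ⟨_, Subgroup.Normal.conj_mem inferInstance c hc ⟨β, hβ⟩, rfl⟩
        have hle : R₂ ≤ extender S R (equivHom β) := by
          intro x hx
          obtain ⟨hxS, c, hc, hce⟩ := hx
          obtain ⟨w, hw, hwe⟩ := (mem_autInducedBy_iff _).1 (hLS (hLn c hc))
          refine Subgroup.subset_closure ⟨hxS, hR₂n x ⟨hxS, c, hc, hce⟩, w, hw, fun y hy => ?_⟩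
          show ((β ⟨x * y * x⁻¹, hy⟩ : R) : Ω) = w * ((β y : R) : Ω) * w⁻¹
          rw [show (⟨x * y * x⁻¹, hy⟩ : R) = c y from Subtype.ext (hce y).symm, ← hwe (β y)]
          show ((β (c y) : R) : Ω) = (((β * c * β⁻¹) (β y) : R) : Ω)
          rw [MulAut.mul_apply, MulAut.mul_apply, MulAut.inv_apply_self]
        have hres := restrict_mem F hψ hle
        have hrange : (ψ.comp (Subgroup.inclusion hle)).range = R₂ := by
          refine Subgroup.eq_of_le_of_card_ge ?_ (isConj_card ⟨_, hres, rfl⟩).le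
          rintro _ ⟨⟨x, hxS, c, hc, hce⟩, rfl⟩
          refine ⟨hom_apply_mem F hres _, _, hLn c hc, fun y => ?_⟩
          obtain ⟨z, rfl⟩ := β.surjective y
          rw [MulAut.mul_apply, MulAut.mul_apply, MulAut.inv_apply_self]
          have hzR₂ : ∀ r : R, (ψ.comp (Subgroup.inclusion hle)) (Subgroup.inclusion hRR₂ r) = ((β r : R) : Ω) :=
            fun r => hag r r.2 _
          rw [← hzR₂, ← hzR₂, ← map_mul, ← map_inv, ← map_mul]
          exact congrArg _ (Subtype.ext (hce z))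
        obtain ⟨β₂, hβ₂, hβ₂e⟩ := exists_autGroup_of_range F hres hrange
        refine ⟨β₂, hβ₂, fun q => ?_⟩
        rw [hβ₂e, ← hβe q]
        exact hag _ (hQR q.2) _
      have h1 := hcardR R₂ ⟨Q₁, hbad₁, hgood⟩
      exact hgR ((Subgroup.eq_of_le_of_card_ge hRR₂ h1).ge ⟨hg, a, haL, hge⟩)
    -- inside the normalizer of `R`
    obtain ⟨χ₁, hχ₁, hq₁, hn₁⟩ := hbad₁
    set N := normSystem F hRS
    have hQN : Q₁ ≤ normalizerIn S R := hQR.trans (le_normalizerIn hRS)
    have haut : N.autGroup Q₁ = F.autGroup Q₁ := by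
      refine le_antisymm (autGroup_mono (E := N) (fun P φ hφ => hφ.1) Q₁) fun α hα => ?_
      obtain ⟨β, hβ, hβe⟩ := hext α hα
      rw [mem_autGroup_iff N hQN]
      refine ⟨(mem_autGroup_iff F (hQR.trans hRS) α).1 hα, hQN, fun x => hQN (α x).2,
        R.subtype.comp (β.toMonoidHom.comp (Subgroup.inclusion (sup_le hQR le_rfl))),
        restrict_mem F ((mem_autGroup_iff F hRS β).1 hβ) (sup_le hQR le_rfl), fun x => hβe x, le_antisymm ?_ ?_⟩
      · rintro _ ⟨x, -, rfl⟩; exact (β _).2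
      · intro y hy
        exact ⟨⟨((β⁻¹ ⟨y, hy⟩ : R) : Ω), Subgroup.mem_sup_right (β⁻¹ ⟨y, hy⟩).2⟩, (β⁻¹ ⟨y, hy⟩).2,
          congrArg Subtype.val (MulAut.apply_inv_self R β ⟨y, hy⟩)⟩
    haveI := finite_of_le (normalizerIn_le S R)
    obtain ⟨Q₂, ⟨θ, hθ, hθr⟩, hQ₂⟩ := exists_fullyNormalized N hQN
    let e := mapEquiv N hθ hθr
    have he := equivHom_mapEquiv N hθ hθr
    have he' := equivHom_mapEquiv_symm N hθ hθr
    have h1 := h R hRn hRc hrad N (normSystem_spec F hRS) Q₂ hQ₂ _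
      (congr_mem_autGroup N e he he' (haut.ge hχ₁)) (quad_congr e hq₁)
    have h2 := pCore_congr N e.symm he' he h1
    rw [show MulAut.congr e.symm (MulAut.congr e χ₁) = χ₁ from MulEquiv.ext fun x => by simp [congr_apply]] at h2
    rw [haut] at h2
    exact hn₁ h2

end Cfsg.Agent.S5281
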