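import Cfsg.Statements.S5282
import Cfsg.Agent.Lib.Fusion.SolvableFree
import Cfsg.Agent.Lib.Fusion.FunctorControl
import Cfsg.Agent.Lib.S3Free.Closure.General
import Cfsg.Agent.Lib.S3Free.Consequences

set_option autoImplicit false
open Cfsg

namespace Cfsg.Agent.S5282

/-- Let p be a prime and F a saturated fusion system over a finite p-group S that is Qd(p)-free: the semidirect product of an elementary abelian group of order p² by SL₂(p) acting naturally (the symmetric group of degree 4 when p = 2) is not involved in any model of the normalizer system of a fully normalized F-centric subgroup. Then F is realizable — it is the fusion system of some finite group on a Sylow p-subgroup — and F is a solvable fusion system. -/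
theorem result {Ω : Type*} [Group Ω] {S : Subgroup Ω} [Finite S] (p : ℕ) [Fact p.Prime] (hS : IsPGroup p ↥S) (F : Cfsg.FusionSystem S) (hF : F.IsSaturated p) (hfree : F.IsSectionFree p ↥(Cfsg.qd p)) : F.IsRealizable p ∧ F.IsSolvableSystem := by
  suffices key : ∀ W : ∀ (Q : Type _) [Group Q], Subgroup Q, IsCharPFunctor p W →
      (∀ (L : Type _) [Group L] [Finite L] (P : Sylow p L),
        Subgroup.centralizer ((Cfsg.pCore p L : Subgroup L) : Set L) ≤ Cfsg.pCore p L →
        ¬ Involves ↥(Cfsg.qd p) L → ((W ↥(P : Subgroup L)).map (P : Subgroup L).subtype).Normal) →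
      (∀ (X : Type _) [Group X] [Finite X], ¬ Involves ↥(Cfsg.qd p) X → Functors.CtlSF p {W} X) →
      F.IsRealizable p ∧ F.IsSolvableSystem by
    rcases eq_or_ne p 2 with rfl | hp
    · refine key (fun Q _ => SFW.wGen Q) ⟨fun Q _ _ hQ _ => SFW.wGen_ne_bot hQ,
          fun Q R _ _ _ _ φ => SFW.wGen_map φ⟩
        (fun L _ _ P hc hn => SFW.wOf_normal (fun h => hn (S3Free.involves_qd_two_iff.2 h)) hc P)
        fun X _ _ hn => SFW.ctlSF_wFun (fun h => hn (S3Free.involves_qd_two_iff.2 h))
          fun Y _ _ _ h4 hC T => SFW.wOf_normal h4 hC T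
    · refine key (QdFree.zJF p True) (QdFree.isCharPFunctor_zJF True) (fun L _ _ P hc hn => ?_)
        fun X _ _ hn => QdFree.ctlSF_zJ hp True (QdFree.pStable_sections hp hn)
      show (inducedFunctor (G := L) (QdFree.zJF p True) (P : Subgroup L)).Normal
      rw [QdFree.inducedFunctor_zJF]
      refine ZJ.zJ_normal hp (QdFree.isQuad_of_stable_quotients fun N _ => ?_) hc P True
      exact PStable.isNormalizerPStable_of_not_involves hp fun hi =>
        hn (PStable.involves_of_hom' ((QuotientGroup.mk' N).comp (⊤ : Subgroup L).subtype)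
          ((QuotientGroup.mk'_surjective N).comp (fun x => ⟨⟨x, trivial⟩, rfl⟩)) hi)
  intro W hW hW3 hctl
  obtain ⟨-, Z, hZn, hZc⟩ := FusionSys.constrained_of_sectionFree hW.1 hW.2 hW3 hS hF hfree
  obtain ⟨L, _, ι, hL⟩ := FusionSys.exists_model hS hF ⟨hZn, hZc⟩
  haveI := hL.1
  obtain ⟨T, hT⟩ := hL.2.2.1
  exact ⟨⟨L, inferInstance, hL.1, ι, hL.2.1, T, hT⟩,
    FusionSys.solvable_of_functor hW hctl hL.2.1 T hT (FusionSys.sectionFree_model hfree ⟨hZn, hZc⟩ hL)⟩

end Cfsg.Agent.S5282
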