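import Cfsg.Statements.S5283
import Cfsg.Agent.Lib.Fusion.AutSystem
import Cfsg.Agent.Lib.Fusion.EssentialSmall
import Mathlib.FieldTheory.Finite.Basic
import Mathlib.GroupTheory.SchurZassenhaus
open Cfsg.FusionSystem Cfsg.Agent.FusionSys
open scoped commutatorElement

set_option autoImplicit false
open Cfsg

namespace Cfsg.Agent.S5283

section eigen

variable {p : ℕ} [Fact p.Prime]

/-- An endomorphism with `f^(p-1) = 1` of an `𝔽_p`-space has an eigenvector in each invariant nonzero subgroup. -/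
theorem eigen_one {V : Type*} [AddCommGroup V] [Module (ZMod p) V] (f : V →+ V) (hf : ∀ x, (⇑f)^[p - 1] x = x)
    (U : AddSubgroup V) (hU : ∀ x ∈ U, f x ∈ U) {v : V} (hv : v ∈ U) (hv0 : v ≠ 0) :
    ∃ (a : ℕ) (u : V), u ∈ U ∧ u ≠ 0 ∧ f u = a • u := by
  classical
  have hp : p.Prime := Fact.out
  let g : (ZMod p)ˣ → V := fun a => ∑ i ∈ Finset.range (p - 1), ((a : ZMod p) ^ i) • (⇑f)^[i] v
  have hit : ∀ i, (⇑f)^[i] v ∈ U := by
    intro i
    induction i with
    | zero => exact hv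
    | succ i ih => rw [Function.iterate_succ_apply']; exact hU _ ih
  have hg : ∀ a, g a ∈ U := fun a => U.sum_mem fun i _ => by
    rw [← ZMod.natCast_zmod_val ((a : ZMod p) ^ i), Nat.cast_smul_eq_nsmul]
    exact U.nsmul_mem (hit i) _
  have heig : ∀ a : (ZMod p)ˣ, (a : ZMod p) • f (g a) = g a := fun a => by
    simp only [g, map_sum, ZMod.map_smul, Finset.smul_sum, smul_smul, ← Function.iterate_succ_apply' (⇑f), ← pow_succ']
    have h1 := Finset.sum_range_succ' (fun i => ((a : ZMod p) ^ i) • (⇑f)^[i] v) (p - 1)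
    have h2 := Finset.sum_range_succ (fun i => ((a : ZMod p) ^ i) • (⇑f)^[i] v) (p - 1)
    rw [h2] at h1
    simp only [pow_zero, one_smul, Function.iterate_zero, id_eq, hf,
      ZMod.pow_card_sub_one_eq_one a.ne_zero] at h1
    exact (add_right_cancel h1).symm
  have hex : ∃ a, g a ≠ 0 := by
    by_contra! h
    have h1 : ∑ a : (ZMod p)ˣ, g a = 0 := Finset.sum_eq_zero fun a _ => h a
    simp only [g] at h1
    rw [Finset.sum_comm] at h1
    simp only [← Finset.sum_smul] at h1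
    rw [Finset.sum_eq_single_of_mem 0 (Finset.mem_range.2 (Nat.sub_pos_of_lt hp.one_lt)) fun i hi hi0 => by
      rw [FiniteField.sum_pow_units, ZMod.card, if_neg, zero_smul]
      intro hd
      have := Nat.le_of_dvd (Nat.pos_of_ne_zero hi0) hd
      rw [Finset.mem_range] at hi
      omega] at h1
    rw [FiniteField.sum_pow_units, ZMod.card, if_pos (dvd_zero _), neg_one_smul, Function.iterate_zero, id_eq,
      neg_eq_zero] at h1
    exact hv0 h1
  obtain ⟨a, ha⟩ := hex
  refine ⟨((a⁻¹ : (ZMod p)ˣ) : ZMod p).val, g a, hg a, ha, ?_⟩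
  rw [← Nat.cast_smul_eq_nsmul (ZMod p), ZMod.natCast_zmod_val]
  conv_rhs => rw [← heig a, smul_smul, Units.inv_mul, one_smul]

/-- Commuting endomorphisms with `f^(p-1) = 1` of an elementary abelian group have a common eigenvector. -/
theorem eigen_common {W : Type*} [CommGroup W] (hexp : ∀ x : W, x ^ p = 1) (hW : (⊤ : Subgroup W) ≠ ⊥)
    {ι : Type*} [Finite ι] (f : ι → W →* W) (hcomm : ∀ i j x, f i (f j x) = f j (f i x))
    (hper : ∀ i x, (⇑(f i))^[p - 1] x = x) :
    ∃ w : W, w ≠ 1 ∧ ∀ i, ∃ a : ℕ, f i w = w ^ a := by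
  classical
  haveI := Fintype.ofFinite ι
  letI : Module (ZMod p) (Additive W) :=
    AddCommGroup.zmodModule fun x => Additive.toMul.injective (hexp (Additive.toMul x))
  suffices h : ∀ s : Finset ι, ∃ U : Subgroup W, U ≠ ⊥ ∧ (∀ i, ∀ x ∈ U, f i x ∈ U) ∧
      ∀ i ∈ s, ∃ a : ℕ, ∀ x ∈ U, f i x = x ^ a by
    obtain ⟨U, hU, -, hs⟩ := h Finset.univ
    obtain ⟨w, hw, hw1⟩ : ∃ w ∈ U, w ≠ 1 := by
      by_contra! hall
      exact hU ((Subgroup.eq_bot_iff_forall U).2 hall)
    exact ⟨w, hw1, fun i => (hs i (Finset.mem_univ i)).imp fun a ha => ha w hw⟩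
  intro s
  induction s using Finset.induction with
  | empty => exact ⟨⊤, hW, fun _ _ _ => trivial, fun i hi => absurd hi (Finset.notMem_empty i)⟩
  | @insert j s _ ih =>
    obtain ⟨U, hU, hinv, hs⟩ := ih
    obtain ⟨v, hv, hv1⟩ : ∃ v ∈ U, v ≠ 1 := by
      by_contra! hall
      exact hU ((Subgroup.eq_bot_iff_forall U).2 hall)
    have hsemi : Function.Semiconj Additive.ofMul (f j) (f j).toAdditive := fun x => rfl
    obtain ⟨a, u, hu, hu0, hau⟩ := eigen_one (p := p) (f j).toAdditive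
      (fun x => by
        rw [show x = Additive.ofMul (Additive.toMul x) from rfl, ← (hsemi.iterate_right (p - 1)).eq, hper])
      (Subgroup.toAddSubgroup U) (fun x hx => hinv j _ hx) (v := Additive.ofMul v) hv
      (fun h => hv1 (Additive.ofMul.injective h))
    refine ⟨U ⊓ (f j).eqLocus (powMonoidHom a), ?_, fun i x hx => ⟨hinv i x hx.1, ?_⟩, fun i hi => ?_⟩
    · intro h
      have : Additive.toMul u ∈ U ⊓ (f j).eqLocus (powMonoidHom a) := ⟨hu, congrArg Additive.toMul hau⟩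
      rw [h, Subgroup.mem_bot] at this
      exact hu0 this
    · have h2 : f j x = x ^ a := hx.2
      show f j (f i x) = (f i x) ^ a
      rw [hcomm, h2, map_pow]
    · rcases Finset.mem_insert.1 hi with rfl | hi
      · exact ⟨a, fun x hx => hx.2⟩
      · exact (hs i hi).imp fun b hb x hx => hb x hx.1

/-- A series invariant under an abelian group of automorphisms of exponent dividing `p - 1`, with cyclic steps. -/
theorem exists_series {G : Type*} [Group G] [Finite G] (hG : IsPGroup p G) (H : Subgroup (MulAut G))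
    (hab : ∀ a ∈ H, ∀ b ∈ H, a * b = b * a) (hexp : ∀ h ∈ H, h ^ (p - 1) = 1) :
    ∀ C : Subgroup G, C.Normal → (∀ h ∈ H, ∀ x ∈ C, h x ∈ C) → ∃ (m : ℕ) (g : ℕ → Subgroup G), g 0 = C ∧
      g m = ⊤ ∧ (∀ i, (g i).Normal) ∧ (∀ i, ∀ h ∈ H, ∀ x ∈ g i, h x ∈ g i) ∧
      ∀ i < m, g i ≤ g (i + 1) ∧ ∃ x, g (i + 1) = g i ⊔ Subgroup.zpowers x := by
  classical
  suffices h : ∀ n, ∀ C : Subgroup G, C.index = n → C.Normal → (∀ h ∈ H, ∀ x ∈ C, h x ∈ C) →
      ∃ (m : ℕ) (g : ℕ → Subgroup G), g 0 = C ∧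
      g m = ⊤ ∧ (∀ i, (g i).Normal) ∧ (∀ i, ∀ h ∈ H, ∀ x ∈ g i, h x ∈ g i) ∧
      ∀ i < m, g i ≤ g (i + 1) ∧ ∃ x, g (i + 1) = g i ⊔ Subgroup.zpowers x from fun C => h _ C rfl
  intro n
  induction n using Nat.strong_induction_on with
  | _ n ih =>
  intro C hn hC hinv
  by_cases htop : C = ⊤
  · exact ⟨0, fun _ => C, rfl, htop, fun _ => hC, fun _ => hinv, fun i hi => absurd hi (Nat.not_lt_zero i)⟩
  let q := QuotientGroup.mk' C
  let act : H → (G ⧸ C →* G ⧸ C) := fun h =>
    QuotientGroup.map C C (h : MulAut G).toMonoidHom fun x hx => hinv h h.2 x hx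
  have hact : ∀ (h : H) (x : G), act h (q x) = q ((h : MulAut G) x) := fun h x => rfl
  letI : CommGroup (Subgroup.center (G ⧸ C)) := { (inferInstance : Group (Subgroup.center (G ⧸ C))) with
    mul_comm := fun a b => Subtype.ext (Subgroup.mem_center_iff.1 b.2 a) }
  let Wq : Subgroup (G ⧸ C) :=
    ((powMonoidHom p : Subgroup.center (G ⧸ C) →* Subgroup.center (G ⧸ C)).ker).map (Subgroup.center (G ⧸ C)).subtype
  have hWq : ∀ z, z ∈ Wq ↔ z ∈ Subgroup.center (G ⧸ C) ∧ z ^ p = 1 := fun z =>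
    ⟨fun ⟨w, hw, he⟩ => he ▸ ⟨w.2, congrArg Subtype.val (show w ^ p = 1 from hw)⟩,
      fun ⟨h1, h2⟩ => ⟨⟨z, h1⟩, (show (⟨z, h1⟩ : Subgroup.center (G ⧸ C)) ^ p = 1 from Subtype.ext h2), rfl⟩⟩
  have hWinv : ∀ (h : H), ∀ z ∈ Wq, act h z ∈ Wq := by
    intro h z hz
    obtain ⟨h1, h2⟩ := (hWq z).1 hz
    refine (hWq _).2 ⟨Subgroup.mem_center_iff.2 fun w => ?_, by rw [← map_pow, h2, map_one]⟩
    obtain ⟨y, rfl⟩ := QuotientGroup.mk_surjective w
    show q y * act h z = act h z * q y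
    rw [show q y = act h (q ((h : MulAut G)⁻¹ y)) by rw [hact, MulAut.apply_inv_self], ← map_mul, ← map_mul,
      Subgroup.mem_center_iff.1 h1]
  letI : CommGroup Wq := { (inferInstance : Group Wq) with
    mul_comm := fun a b => Subtype.ext (Subgroup.mem_center_iff.1 ((hWq b).1 b.2).1 a) }
  let f : H → (Wq →* Wq) := fun h => ((act h).comp Wq.subtype).codRestrict Wq fun z => hWinv h z z.2
  have hQ : IsPGroup p (G ⧸ C) := hG.to_quotient C
  haveI : Nontrivial (G ⧸ C) := by
    rw [← Finite.one_lt_card_iff_nontrivial, ← Subgroup.index_eq_card]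
    have h0 : C.index ≠ 0 := Subgroup.index_ne_zero_of_finite
    have h1 : C.index ≠ 1 := fun h => htop (Subgroup.index_eq_one.1 h)
    omega
  obtain ⟨w, hw1, hw⟩ := eigen_common (p := p) (W := Wq) (fun z => Subtype.ext ((hWq z).1 z.2).2)
    (by
      haveI := hQ.center_nontrivial
      obtain ⟨k, hk0, hk⟩ := (IsPGroup.nontrivial_iff_card (hQ.to_subgroup _)).1
        (inferInstance : Nontrivial (Subgroup.center (G ⧸ C)))
      obtain ⟨z, hz⟩ := exists_prime_orderOf_dvd_card' (G := Subgroup.center (G ⧸ C)) p (hk ▸ dvd_pow_self p hk0.ne')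
      intro h
      have hzW : (z : G ⧸ C) ∈ Wq :=
        (hWq _).2 ⟨z.2, congrArg Subtype.val (show z ^ p = 1 from hz ▸ pow_orderOf_eq_one z)⟩
      have : (⟨(z : G ⧸ C), hzW⟩ : Wq) = 1 := Subgroup.mem_bot.1 (h ▸ Subgroup.mem_top _)
      rw [show z = 1 from Subtype.ext (congrArg Subtype.val this : (z : G ⧸ C) = 1), orderOf_one] at hz
      exact (Fact.out : p.Prime).ne_one hz.symm)
    f (fun a b z => by
      obtain ⟨y, hy⟩ := QuotientGroup.mk_surjective (z : G ⧸ C)
      refine Subtype.ext ?_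
      show act a (act b z) = act b (act a z)
      rw [← hy]
      show q ((a : MulAut G) ((b : MulAut G) y)) = q ((b : MulAut G) ((a : MulAut G) y))
      rw [← MulAut.mul_apply, hab _ a.2 _ b.2, MulAut.mul_apply])
    (fun a z => by
      obtain ⟨y, hy⟩ := QuotientGroup.mk_surjective (z : G ⧸ C)
      have hit : ∀ k, (((⇑(f a))^[k] z : Wq) : G ⧸ C) = q (((a : MulAut G) ^ k) y) := by
        intro k
        induction k with
        | zero => exact hy.symm
        | succ k ih =>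
          rw [Function.iterate_succ_apply']
          show act a (((⇑(f a))^[k] z : Wq) : G ⧸ C) = _
          rw [ih, hact, pow_succ', MulAut.mul_apply]
      refine Subtype.ext ?_
      rw [hit, hexp _ a.2, MulAut.one_apply]
      exact hy)
  obtain ⟨x, hx⟩ := QuotientGroup.mk_surjective (w : G ⧸ C)
  set C' := (Subgroup.zpowers (w : G ⧸ C)).comap q with hC'
  haveI : (Subgroup.zpowers (w : G ⧸ C)).Normal := ⟨fun z hz g => by
    rw [Subgroup.mem_center_iff.1 (Subgroup.zpowers_le.2 ((hWq w).1 w.2).1 hz) g, mul_inv_cancel_right]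
    exact hz⟩
  have hle : C ≤ C' := fun y hy => by
    rw [hC', Subgroup.mem_comap, show q y = 1 from (QuotientGroup.eq_one_iff y).2 hy]
    exact one_mem _
  have hxC' : x ∈ C' := show q x ∈ Subgroup.zpowers (w : G ⧸ C) from hx.symm ▸ Subgroup.mem_zpowers _
  have hlt : C < C' := lt_of_le_not_ge hle fun h => hw1 (Subtype.ext
    ((hx.symm.trans ((QuotientGroup.eq_one_iff x).2 (h hxC'))) : (w : G ⧸ C) = 1))
  have hinv' : ∀ h ∈ H, ∀ y ∈ C', h y ∈ C' := by
    intro h hh y hy
    obtain ⟨a, ha⟩ := hw ⟨h, hh⟩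
    obtain ⟨k, hk⟩ := Subgroup.mem_zpowers_iff.1 (show q y ∈ Subgroup.zpowers (w : G ⧸ C) from hy)
    show q (h y) ∈ Subgroup.zpowers (w : G ⧸ C)
    rw [← hact ⟨h, hh⟩, ← hk, map_zpow, show act ⟨h, hh⟩ (w : G ⧸ C) = ((w ^ a : Wq) : G ⧸ C) from congrArg Subtype.val ha,
      SubmonoidClass.coe_pow]
    exact zpow_mem (pow_mem (Subgroup.mem_zpowers _) a) k
  obtain ⟨m, g, hg0, hgm, hgn, hgi, hgs⟩ := ih C'.index (hn ▸ Subgroup.index_strictAnti hlt) C' rfl
    (Subgroup.Normal.comap inferInstance q) hinv'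
  refine ⟨m + 1, fun i => if i = 0 then C else g (i - 1), if_pos rfl, by beta_reduce; rw [if_neg (by omega)]; simpa using hgm,
    fun i => ?_, fun i => ?_, fun i hi => ?_⟩
  · beta_reduce; split_ifs
    exacts [hC, hgn _]
  · beta_reduce; split_ifs
    exacts [hinv, hgi _]
  · beta_reduce
    rw [if_neg (show i + 1 ≠ 0 by omega), Nat.add_sub_cancel]
    rcases Nat.eq_zero_or_pos i with rfl | hi0
    · rw [if_pos rfl, hg0]
      refine ⟨hle, x, le_antisymm (fun y hy => ?_) (sup_le hle (Subgroup.zpowers_le.2 hxC'))⟩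
      obtain ⟨k, hk⟩ := Subgroup.mem_zpowers_iff.1 (show q y ∈ Subgroup.zpowers (w : G ⧸ C) from hy)
      have hu : y * (x ^ k)⁻¹ ∈ C := by
        rw [← QuotientGroup.eq_one_iff, QuotientGroup.mk_mul, QuotientGroup.mk_inv, QuotientGroup.mk_zpow, hx, hk]
        exact mul_inv_cancel _
      have := mul_mem (Subgroup.mem_sup_left (T := Subgroup.zpowers x) hu)
        (Subgroup.mem_sup_right (zpow_mem (Subgroup.mem_zpowers x) k))
      rwa [inv_mul_cancel_right] at this
    · rw [if_neg hi0.ne']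
      have := hgs (i - 1) (by omega)
      rwa [Nat.sub_add_cancel hi0] at this

/-- `h^(p-1)` is trivial on each cyclic step. -/
theorem pow_stabilizes {G : Type*} [Group G] [Finite G] (hG : IsPGroup p G) (C : ℕ → Subgroup G) (n : ℕ)
    (hnorm : ∀ i, (C i).Normal) (h : MulAut G) (hinv : ∀ i, ∀ x ∈ C i, h x ∈ C i)
    (hcop : (orderOf h).Coprime p)
    (hstep : ∀ i < n, ∃ x ∈ C (i + 1), ∀ y ∈ C (i + 1), ∃ k : ℤ, y * (x ^ k)⁻¹ ∈ C i) :
    ∀ i < n, ∀ y ∈ C (i + 1), y⁻¹ * (h ^ (p - 1)) y ∈ C i := by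
  intro i hi y hy
  haveI := hnorm i
  have hp : p.Prime := Fact.out
  obtain ⟨x, hx, hgen⟩ := hstep i hi
  obtain ⟨u, hu⟩ := hgen _ (hinv (i + 1) x hx)
  let q := QuotientGroup.mk' (C i)
  have hmem : ∀ a b : G, q a = q b ↔ a * b⁻¹ ∈ C i := fun a b => by
    rw [← mul_inv_eq_one, ← map_inv, ← map_mul]; exact QuotientGroup.eq_one_iff _
  have hres : ∀ a b : G, q a = q b → q (h a) = q (h b) := fun a b hab => by
    rw [hmem] at hab ⊢
    rw [← map_inv, ← map_mul]
    exact hinv i _ hab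
  have hit : ∀ k : ℕ, q ((h ^ k) x) = q x ^ (u ^ k) := by
    intro k
    induction k with
    | zero => simp
    | succ k ih =>
      rw [pow_succ', MulAut.mul_apply, hres _ (x ^ (u ^ k)) (by rw [map_zpow]; exact ih), map_zpow, map_zpow,
        (hmem _ _).2 hu, map_zpow, ← zpow_mul, ← pow_succ']
  obtain ⟨r, hr⟩ := IsPGroup.iff_orderOf.1 (hG.to_quotient (C i)) (q x)
  have hone : ((u : ZMod (p ^ r))) ^ orderOf h = 1 := by
    have h1 := hit (orderOf h)
    rw [pow_orderOf_eq_one, MulAut.one_apply] at h1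
    have h2 : q x ^ (1 : ℤ) = q x ^ (u ^ orderOf h) := by rw [zpow_one]; exact h1
    rw [zpow_eq_zpow_iff_modEq, hr] at h2
    have := (ZMod.intCast_eq_intCast_iff _ _ _).2 h2
    push_cast at this
    exact this.symm
  haveI : NeZero (p ^ r) := ⟨pow_ne_zero r hp.ne_zero⟩
  have hunit : IsUnit (u : ZMod (p ^ r)) := IsUnit.of_pow_eq_one hone (orderOf_pos h).ne'
  obtain ⟨U, hU⟩ := hunit
  have hU1 : U ^ (p - 1) = 1 := by
    have h1 : orderOf U ∣ orderOf h := orderOf_dvd_of_pow_eq_one (Units.ext (by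
      rw [Units.val_pow_eq_pow_val, hU]; exact hone))
    have h2 : orderOf U ∣ p ^ r * (p - 1) := by
      have := orderOf_dvd_card (x := U)
      rw [ZMod.card_units_eq_totient] at this
      refine this.trans ?_
      rcases r with _ | r
      · simp
      · rw [Nat.totient_prime_pow_succ hp]
        exact Nat.mul_dvd_mul_right (pow_dvd_pow p (Nat.le_succ r)) _
    have hcU : (orderOf U).Coprime (p ^ r) := (hcop.coprime_dvd_left h1).pow_right r
    exact orderOf_dvd_iff_pow_eq_one.1 (hcU.dvd_of_dvd_mul_left h2)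
  have hfin : q x ^ (u ^ (p - 1)) = q x := by
    conv_rhs => rw [← zpow_one (q x)]
    rw [zpow_eq_zpow_iff_modEq, hr, ← ZMod.intCast_eq_intCast_iff]
    push_cast
    rw [← hU, ← Units.val_pow_eq_pow_val, hU1, Units.val_one]
  obtain ⟨k, hk⟩ := hgen y hy
  have e : q ((h ^ (p - 1)) y) = q y := by
    have h1 : ∀ a b : G, q a = q b → q ((h ^ (p - 1)) a) = q ((h ^ (p - 1)) b) := by
      generalize p - 1 = j
      induction j with
      | zero => exact fun a b hab => hab
      | succ j ih =>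
        intro a b hab
        rw [pow_succ', MulAut.mul_apply, MulAut.mul_apply]
        exact hres _ _ (ih a b hab)
    rw [h1 y (x ^ k) ((hmem _ _).2 hk), map_zpow, map_zpow, hit, hfin, ← map_zpow, ← (hmem _ _).2 hk]
  exact QuotientGroup.eq.1 e.symm

end eigen

section chain

variable {Ω : Type*} [Group Ω] {S : Subgroup Ω} [Finite S] {p : ℕ} [Fact p.Prime] {F : FusionSystem S}

/-- The trace on `P` of a strongly closed chain with cyclic steps. -/
theorem trace_chain {m : ℕ} {c : Fin (m + 1) → Subgroup Ω} (hc0 : c 0 = ⊥) (hcm : c (Fin.last m) = S)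
    (hcl : ∀ i, F.StronglyClosed (c i))
    (hst : ∀ i : Fin m, c i.castSucc ≤ c i.succ ∧ ∃ x ∈ S, c i.succ = c i.castSucc ⊔ Subgroup.zpowers x)
    {P : Subgroup Ω} (hP : P ≤ S) :
    ∃ C : ℕ → Subgroup P, C 0 = ⊥ ∧ C m = ⊤ ∧ (∀ i, (C i).Normal) ∧
      (∀ i, ∀ α ∈ F.autGroup P, ∀ x ∈ C i, α x ∈ C i) ∧
      ∀ i < m, ∃ x ∈ C (i + 1), ∀ y ∈ C (i + 1), ∃ k : ℤ, y * (x ^ k)⁻¹ ∈ C i := by
  classical
  let d : ℕ → Subgroup Ω := fun i => if h : i ≤ m then c ⟨i, Nat.lt_succ_of_le h⟩ else S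
  have hd : ∀ i, F.StronglyClosed (d i) := fun i => by
    simp only [d]; split_ifs
    exacts [hcl _, stronglyClosed_self F]
  have hdn : ∀ i, S ≤ Subgroup.normalizer (d i : Set Ω) := fun i => stronglyClosed_le_normalizer (hd i)
  refine ⟨fun i => (d i).subgroupOf P, ?_, ?_, fun i => ?_, fun i α hα x hx => ?_, fun i hi => ?_⟩
  · show (d 0).subgroupOf P = ⊥
    rw [show d 0 = ⊥ by simp only [d, Nat.zero_le, dite_true]; exact hc0]
    exact Subgroup.bot_subgroupOf P
  · show (d m).subgroupOf P = ⊤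
    rw [show d m = S by simp only [d, le_refl, dite_true]; exact hcm]
    exact Subgroup.subgroupOf_eq_top.2 hP
  · exact ⟨fun x hx g => (Subgroup.mem_normalizer_iff.1 (hdn i (hP g.2)) x).1 hx⟩
  · exact stronglyClosed_autGroup_mem (hd i) hP hα x hx
  · haveI hN : ((d i).subgroupOf S).Normal :=
      ⟨fun x hx g => (Subgroup.mem_normalizer_iff.1 (hdn i g.2) x).1 hx⟩
    obtain ⟨hle, x₀, hx₀, hsup⟩ := hst ⟨i, hi⟩
    have e0 : d i = c (Fin.castSucc ⟨i, hi⟩) := by simp only [d, hi.le, dite_true]; rfl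
    have e1 : d (i + 1) = c (Fin.succ ⟨i, hi⟩) := by simp only [d, show i + 1 ≤ m by omega, dite_true]; rfl
    let ψ : (d (i + 1)).subgroupOf P →* S ⧸ (d i).subgroupOf S :=
      (QuotientGroup.mk' _).comp ((Subgroup.inclusion hP).comp ((d (i + 1)).subgroupOf P).subtype)
    have hr : ψ.range ≤ Subgroup.zpowers ((⟨x₀, hx₀⟩ : S) : S ⧸ (d i).subgroupOf S) := by
      rintro _ ⟨y, rfl⟩
      have hsup' : (((d i).subgroupOf S ⊔ Subgroup.zpowers (⟨x₀, hx₀⟩ : S))).map S.subtype = d (i + 1) := by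
        rw [Subgroup.map_sup, Subgroup.map_subgroupOf_eq_of_le (hd i).1, MonoidHom.map_zpowers, e1, hsup, e0]; rfl
      obtain ⟨z, hz, hze⟩ := hsup'.ge y.2
      obtain ⟨a, ha, b, hb, rfl⟩ := Subgroup.mem_sup_of_normal_left.1 hz
      obtain ⟨k, rfl⟩ := Subgroup.mem_zpowers_iff.1 hb
      refine Subgroup.mem_zpowers_iff.2 ⟨k, ?_⟩
      show _ = QuotientGroup.mk' _ (Subgroup.inclusion hP (y : P))
      rw [show Subgroup.inclusion hP (y : P) = a * (⟨x₀, hx₀⟩ : S) ^ k from Subtype.ext hze.symm, map_mul,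
        show QuotientGroup.mk' _ a = 1 from (QuotientGroup.eq_one_iff a).2 ha, one_mul, map_zpow]
      rfl
    haveI : IsCyclic ψ.range := isCyclic_of_injective (Subgroup.inclusion hr) (Subgroup.inclusion_injective hr)
    obtain ⟨⟨_, x, rfl⟩, hgen⟩ := IsCyclic.exists_generator (α := ψ.range)
    refine ⟨x, x.2, fun z hz => ?_⟩
    obtain ⟨k, hk⟩ := Subgroup.mem_zpowers_iff.1 (hgen ⟨ψ ⟨z, hz⟩, ⟨z, hz⟩, rfl⟩)
    refine ⟨k, ?_⟩
    have hk' : ψ x ^ k = ψ ⟨z, hz⟩ := congrArg Subtype.val hk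
    have h1 : ψ (⟨z, hz⟩ * (x ^ k)⁻¹) = 1 := by rw [map_mul, map_inv, map_zpow, hk', mul_inv_cancel]
    exact Subgroup.mem_subgroupOf.2 (Subgroup.mem_subgroupOf.1 ((QuotientGroup.eq_one_iff
      (N := (d i).subgroupOf S) (Subgroup.inclusion hP (z * ((x : P) ^ k)⁻¹))).1 h1))

end chain

/-- Call a saturated fusion system F over a finite p-group S supersoluble when S has a chain of subgroups 1 = S_0 ≤ S_1 ≤ … ≤ S_m = S, each strongly closed in F, with each S_{i+1} generated by S_i together with one further element (cyclic steps). Then every saturated fusion system over S is supersoluble if and only if S is normal in every saturated fusion system over S (S is resistant) and every subgroup of Aut(S) of order prime to p is abelian of exponent dividing p − 1. -/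
theorem result {Ω : Type*} [Group Ω] {S : Subgroup Ω} [Finite S] (p : ℕ) [Fact p.Prime] (hS : IsPGroup p ↥S) : (∀ F : Cfsg.FusionSystem S, F.IsSaturated p → (∃ (m : ℕ) (c : Fin (m + 1) → Subgroup Ω), c 0 = ⊥ ∧ c (Fin.last m) = S ∧ (∀ i : Fin (m + 1), F.StronglyClosed (c i)) ∧ ∀ i : Fin m, c i.castSucc ≤ c i.succ ∧ ∃ x ∈ S, c i.succ = c i.castSucc ⊔ Subgroup.zpowers x)) ↔ (∀ F : Cfsg.FusionSystem S, F.IsSaturated p → F.IsNormal S) ∧ ∀ H : Subgroup (MulAut ↥S), (Nat.card ↥H).Coprime p → IsMulCommutative ↥H ∧ ∀ h ∈ H, h ^ (p - 1) = 1 := by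
  classical
  have hp : p.Prime := Fact.out
  constructor
  · intro hall
    refine ⟨fun F hF => ?_, fun H hH => ?_⟩
    · obtain ⟨m, c, hc0, hcm, hcl, hst⟩ := hall F hF
      refine isNormal_of_le hS hF (stronglyClosed_self F) fun P hP => False.elim ?_
      obtain ⟨C, h0, hm, hn, hinv, hstep⟩ := trace_chain hc0 hcm hcl hst hP.1.1
      haveI := finite_of_le hP.1.1
      exact not_isPGroup_commutator_autGroup hS hF hP
        (isPGroup_commutator_of_invariant (hS.to_le hP.1.1) C m h0 hm _ hn hinv hstep)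
    · set A := Inn S ⊔ H
      haveI : ((Inn S).subgroupOf A).Normal := innSubgroupOfNormal S _
      have hidx : ((Inn S).relIndex A).Coprime p := by
        refine hH.coprime_dvd_left ?_
        let φ : H →* A ⧸ (Inn S).subgroupOf A := (QuotientGroup.mk' _).comp (Subgroup.inclusion le_sup_right)
        refine Nat.dvd_trans ?_ φ.ker.card_eq_card_quotient_mul_card_subgroup.symm.dvd |>.trans dvd_rfl
        have hs : Function.Surjective φ := by
          intro z
          obtain ⟨a, rfl⟩ := QuotientGroup.mk_surjective z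
          have hHN : H ≤ Subgroup.normalizer (Inn S : Set (MulAut S)) := fun g _ => by
            haveI : (Inn S).Normal := ⟨fun n hn g => by
              obtain ⟨s, rfl⟩ := hn
              exact ⟨g s, MulEquiv.ext fun t => by simp⟩⟩
            rw [Subgroup.normalizer_eq_top_iff.2 ‹(Inn S).Normal›]; trivial
          haveI : (Inn S).Normal := ⟨fun n hn g => by
            obtain ⟨s, rfl⟩ := hn
            exact ⟨g s, MulEquiv.ext fun t => by simp⟩⟩
          obtain ⟨i, hi, h, hh, he⟩ := Subgroup.mem_sup_of_normal_left.1 a.2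
          refine ⟨⟨h, hh⟩, QuotientGroup.eq.2 (Subgroup.mem_subgroupOf.2 ?_)⟩
          show h⁻¹ * (a : MulAut S) ∈ Inn S
          rw [← he]
          have := Subgroup.Normal.conj_mem (H := Inn S) inferInstance i hi h⁻¹
          rwa [inv_inv, mul_assoc] at this
        rw [Nat.card_congr (QuotientGroup.quotientKerEquivOfSurjective φ hs).toEquiv]
        exact Dvd.intro _ rfl
      obtain ⟨m, c, hc0, hcm, hcl, hst⟩ := hall _ (autSystem_saturated hS A le_sup_left hidx)
      obtain ⟨C, h0, hm, hn, hinv, hstep⟩ := trace_chain hc0 hcm hcl hst (le_refl S)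
      rw [autSystem_autGroup] at hinv
      have hcop : ∀ g ∈ H, (orderOf g).Coprime p := fun g hg => hH.coprime_dvd_left (by
        rw [← Subgroup.orderOf_mk g hg]; exact orderOf_dvd_natCard _)
      refine ⟨⟨⟨fun a b => Subtype.ext (commutatorElement_eq_one_iff_mul_comm.1 ?_)⟩⟩, fun g hg => ?_⟩
      · refine eq_one_of_stabilizes hS C m h0 hm (stabilizer_series_of_invariant C m A hn hinv hstep
          (Subgroup.mem_sup_right a.2) (Subgroup.mem_sup_right b.2)) (hcop _ ?_)
        exact (⁅a, b⁆ : H).2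
      · exact eq_one_of_stabilizes hS C m h0 hm (pow_stabilizes hS C m hn g
          (fun i => hinv i g (Subgroup.mem_sup_right hg)) (hcop g hg) hstep) (hcop _ (pow_mem hg _))
  · rintro ⟨hnorm, hH⟩ F hF
    have hFS := hnorm F hF
    set A := F.autGroup S
    set N := (Inn S).subgroupOf A with hN
    haveI : N.Normal := innSubgroupOfNormal S _
    obtain ⟨Q, hSQ, ⟨hQ, R, hR⟩, -⟩ := hF S le_rfl
    obtain rfl : Q = S := Subgroup.eq_of_le_of_card_ge hQ (isConj_card hSQ).le
    rw [← inn_eq_autInducedBy_self] at hR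
    have hidxN : (N.index).Coprime p := by
      rw [hN, ← hR]
      exact ((Nat.Prime.coprime_iff_not_dvd hp).2 R.not_dvd_index).symm
    obtain ⟨k, hk⟩ := IsPGroup.iff_card.1 (show IsPGroup p N by rw [hN, ← hR]; exact R.2)
    obtain ⟨K, hK⟩ := Subgroup.exists_right_complement'_of_coprime (N := N) (by
      rw [hk]; exact (hidxN.pow_right k).symm)
    set H := K.map A.subtype with hHdef
    have hHc : (Nat.card H).Coprime p := by
      rw [hHdef, Subgroup.card_map_of_injective A.subtype_injective, ← hK.symm.index_eq_card]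
      exact hidxN
    obtain ⟨hHab, hHexp⟩ := hH H hHc
    obtain ⟨m, g, hg0, hgm, hgn, hgi, hgs⟩ := exists_series hS H
      (fun a ha b hb => congrArg Subtype.val (hHab.is_comm.comm ⟨a, ha⟩ ⟨b, hb⟩)) hHexp ⊥ inferInstance
      (fun h _ x hx => by rw [Subgroup.mem_bot.1 hx, map_one]; exact one_mem _)
    have hinvA : ∀ i, ∀ α ∈ A, ∀ x ∈ g i, α x ∈ g i := by
      intro i α hα x hx
      obtain ⟨a, ha, b, hb, he⟩ := Subgroup.mem_sup_of_normal_left.1
        (hK.sup_eq_top.ge (Subgroup.mem_top (⟨α, hα⟩ : A)))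
      obtain ⟨s, hs⟩ := (Subgroup.mem_subgroupOf.1 ha : (a : MulAut Q) ∈ Inn Q)
      have he' : α = (a : MulAut Q) * (b : MulAut Q) := congrArg Subtype.val he.symm
      rw [he', MulAut.mul_apply, ← hs]
      exact (hgn i).conj_mem _ (hgi i _ (Subgroup.mem_map_of_mem A.subtype hb) x hx) s
    refine ⟨m, fun i => (g i.val).map Q.subtype, ?_, ?_, fun i => ⟨Subgroup.map_subtype_le _, fun R hR φ hφ x => ?_⟩,
      fun i => ?_⟩
    · show (g 0).map _ = ⊥
      rw [hg0, Subgroup.map_bot]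
    · show (g m).map _ = _
      rw [hgm, ← MonoidHom.range_eq_map, Subgroup.range_subtype]
    · obtain ⟨α, hα, hαe⟩ := exists_aut_of_isNormal hFS (hom_le F hφ) hφ
      obtain ⟨y, hy, hye⟩ := hR x.2
      refine ⟨α y, hinvA _ α hα y hy, ?_⟩
      rw [show y = Subgroup.inclusion (hom_le F hφ) x from Subtype.ext hye]
      exact hαe x
    · obtain ⟨hle, x, hx⟩ := hgs i.val i.2
      refine ⟨Subgroup.map_mono hle, x, x.2, ?_⟩
      show (g (i.val + 1)).map _ = _
      rw [hx, Subgroup.map_sup, MonoidHom.map_zpowers]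
      rfl

end Cfsg.Agent.S5283
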