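import Cfsg.Statements.S5284
import Cfsg.Agent.Lib.Fusion.AbelianSystem
import Mathlib.GroupTheory.FiniteAbelian.Basic
import Mathlib.LinearAlgebra.Matrix.NonsingularInverse
import Mathlib.LinearAlgebra.Matrix.CharP
import Mathlib.Algebra.CharP.Lemmas
open Cfsg.FusionSystem Cfsg.Agent.FusionSys
open scoped commutatorElement

set_option autoImplicit false
open Cfsg

namespace Cfsg.Agent.S5284

section group

variable {p : ℕ} [Fact p.Prime] {G : Type*} [CommGroup G] [Finite G]

/-- `℧_j(G) ∩ Ω₁(G)`. -/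
def wj (p j : ℕ) (G : Type*) [CommGroup G] : Subgroup G :=
  (powMonoidHom (p ^ j) : G →* G).range ⊓ (powMonoidHom p : G →* G).ker

theorem mem_wj {j : ℕ} {x : G} : x ∈ wj p j G ↔ (∃ z, z ^ p ^ j = x) ∧ x ^ p = 1 := Iff.rfl

theorem wj_char (j : ℕ) (φ : MulAut G) {x : G} (hx : x ∈ wj p j G) : φ x ∈ wj p j G := by
  obtain ⟨⟨z, rfl⟩, h⟩ := mem_wj.1 hx
  exact mem_wj.2 ⟨⟨φ z, (map_pow φ z _).symm⟩, by rw [← map_pow, h, map_one]⟩

theorem zmod_div (j e : ℕ) (hne : e ≠ j + 1) (a : ZMod (p ^ e)) (h : p ^ (j + 1) • a = 0) :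
    ∃ c : ZMod (p ^ e), p ^ j • a = p ^ (j + 1) • c := by
  have hp : p.Prime := Fact.out
  haveI : NeZero (p ^ e) := ⟨pow_ne_zero e hp.ne_zero⟩
  obtain ⟨A, rfl⟩ : ∃ A : ℕ, (A : ZMod (p ^ e)) = a := ⟨a.val, ZMod.natCast_zmod_val a⟩
  rcases le_or_gt e j with hle | hlt
  · refine ⟨0, ?_⟩
    rw [smul_zero, nsmul_eq_mul, show ((p ^ j : ℕ) : ZMod (p ^ e)) = 0 from
      (ZMod.natCast_eq_zero_iff _ _).2 (pow_dvd_pow p hle), zero_mul]
  · rw [nsmul_eq_mul, ← Nat.cast_mul, ZMod.natCast_eq_zero_iff] at h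
    have h' : p ^ (j + 1) * p ∣ p ^ (j + 1) * A := by
      rw [← pow_succ]
      exact (pow_dvd_pow p (show j + 1 + 1 ≤ e by omega)).trans h
    obtain ⟨C, rfl⟩ := Nat.dvd_of_mul_dvd_mul_left (pow_pos hp.pos _) h'
    exact ⟨(C : ZMod (p ^ e)), by rw [nsmul_eq_mul, nsmul_eq_mul, ← Nat.cast_mul, ← Nat.cast_mul, pow_succ, mul_assoc]⟩

theorem zmod_gen (j : ℕ) (a b : ZMod (p ^ (j + 1))) (hb : p ^ j • b ≠ 0) :
    ∃ k : ℕ, p ^ j • a = k • (p ^ j • b) := by
  have hp : p.Prime := Fact.out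
  haveI : NeZero (p ^ (j + 1)) := ⟨pow_ne_zero _ hp.ne_zero⟩
  have hu : IsUnit b := by
    rw [← ZMod.natCast_zmod_val b, ZMod.isUnit_iff_coprime]
    refine Nat.Coprime.pow_right _ (Nat.Coprime.symm (hp.coprime_iff_not_dvd.2 ?_))
    rintro ⟨c, hc⟩
    refine hb ?_
    rw [← ZMod.natCast_zmod_val b, hc, nsmul_eq_mul, ← Nat.cast_mul, ← mul_assoc, ← pow_succ, ZMod.natCast_eq_zero_iff]
    exact dvd_mul_right _ _
  obtain ⟨w, hw⟩ := hu.exists_left_inv
  refine ⟨(a * w).val, ?_⟩
  rw [smul_comm, nsmul_eq_mul (a * w).val, ZMod.natCast_zmod_val, mul_assoc, hw, mul_one]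

/-- In the product of cyclic `p`-groups of distinct orders every `℧_j ∩ Ω₁` is generated over the next by one element. -/
theorem pi_gen {ι : Type} [Fintype ι] (e : ι → ℕ) (he : Function.Injective e)
    (E : G ≃* ((i : ι) → Multiplicative (ZMod (p ^ e i)))) (j : ℕ) :
    ∃ y : G, ∀ x ∈ wj p j G, ∃ m : ℤ, x * (y ^ m)⁻¹ ∈ wj p (j + 1) G := by
  classical
  let crd : G → (i : ι) → ZMod (p ^ e i) := fun g i => Multiplicative.toAdd (E g i)
  have hpow : ∀ (g : G) (n : ℕ) i, crd (g ^ n) i = n • crd g i := fun g n i => by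
    simp only [crd, map_pow, Pi.pow_apply, toAdd_pow]
  have hmul : ∀ (g h : G) i, crd (g * h) i = crd g i + crd h i := fun g h i => by
    simp only [crd, map_mul, Pi.mul_apply, toAdd_mul]
  have hone : ∀ i, crd 1 i = 0 := fun i => by simp [crd]
  -- vanishing at the slot of exponent `j + 1` gives a deeper power
  have key : ∀ x ∈ wj p j G, (∀ i, e i = j + 1 → crd x i = 0) → x ∈ wj p (j + 1) G := by
    intro x hx h0
    obtain ⟨⟨z, rfl⟩, hxp⟩ := mem_wj.1 hx
    have hc : ∀ i, ∃ c : ZMod (p ^ e i), p ^ j • crd z i = p ^ (j + 1) • c := fun i => by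
      by_cases hi : e i = j + 1
      · exact ⟨0, by rw [smul_zero, ← hpow]; exact h0 i hi⟩
      · refine zmod_div j _ hi _ ?_
        rw [← hpow, pow_succ, pow_mul, hxp, hone]
    choose c hc using hc
    refine mem_wj.2 ⟨⟨E.symm fun i => Multiplicative.ofAdd (c i), E.injective (funext fun i =>
      Multiplicative.toAdd.injective ?_)⟩, hxp⟩
    show crd (_ ^ _) i = crd (_ ^ _) i
    rw [hpow, hpow, hc i]
    simp [crd]
  by_cases hex : ∃ y ∈ wj p j G, ∃ i, e i = j + 1 ∧ crd y i ≠ 0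
  · obtain ⟨y, hy, i₀, hi₀, hy0⟩ := hex
    refine ⟨y, fun x hx => ?_⟩
    obtain ⟨⟨z, hz⟩, -⟩ := mem_wj.1 hx
    obtain ⟨⟨w, hw⟩, -⟩ := mem_wj.1 hy
    have hk : ∃ k : ℕ, crd x i₀ = k • crd y i₀ := by
      have gen : ∀ (n : ℕ), n = j + 1 → ∀ a b : ZMod (p ^ n), p ^ j • b ≠ 0 → ∃ k : ℕ, p ^ j • a = k • (p ^ j • b) := by
        rintro n rfl; exact zmod_gen j
      rw [← hw, hpow] at hy0
      rw [← hz, ← hw, hpow, hpow]
      exact gen _ hi₀ _ _ hy0
    obtain ⟨k, hk⟩ := hk
    refine ⟨(k : ℤ), ?_⟩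
    rw [zpow_natCast]
    refine key _ (mul_mem hx (inv_mem (pow_mem hy k))) fun i hi => ?_
    obtain rfl : i = i₀ := he (hi.trans hi₀.symm)
    have h := hmul (x * (y ^ k)⁻¹) (y ^ k) i
    rw [inv_mul_cancel_right, hpow, ← hk] at h
    exact right_eq_add.1 h
  · push Not at hex
    exact ⟨1, fun x hx => ⟨0, by simpa using key x hx (hex x hx)⟩⟩

/-- A series of characteristic subgroups with cyclic steps. -/
theorem exists_char_series {ι : Type} [Fintype ι] (e : ι → ℕ) (he : Function.Injective e)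
    (E : G ≃* ((i : ι) → Multiplicative (ZMod (p ^ e i)))) :
    ∃ (m : ℕ) (C : Fin (m + 1) → Subgroup G), C 0 = ⊥ ∧ C (Fin.last m) = ⊤ ∧
      (∀ i, ∀ φ : MulAut G, ∀ x ∈ C i, φ x ∈ C i) ∧
      ∀ i : Fin m, C i.castSucc ≤ C i.succ ∧ ∃ x, C i.succ = C i.castSucc ⊔ Subgroup.zpowers x := by
  classical
  have hp : p.Prime := Fact.out
  obtain ⟨N, hN⟩ : ∃ N, ∀ g : G, g ^ p ^ N = 1 := by
    refine ⟨∑ i, e i, fun g => E.injective (funext fun i => Multiplicative.toAdd.injective ?_)⟩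
    simp only [map_pow, Pi.pow_apply, toAdd_pow, map_one, Pi.one_apply, toAdd_one, nsmul_eq_mul]
    rw [show ((p ^ ∑ i, e i : ℕ) : ZMod (p ^ e i)) = 0 from (ZMod.natCast_eq_zero_iff _ _).2
      (pow_dvd_pow p (Finset.single_le_sum (fun i _ => Nat.zero_le (e i)) (Finset.mem_univ i))), zero_mul]
  let D : ℕ → ℕ → Subgroup G := fun k j => (wj p j G).comap (powMonoidHom (p ^ k))
  have hD : ∀ k j x, x ∈ D k j ↔ x ^ p ^ k ∈ wj p j G := fun k j x => Iff.rfl
  have hW : ∀ j, wj p (j + 1) G ≤ wj p j G := fun j x hx => by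
    obtain ⟨⟨z, rfl⟩, h⟩ := mem_wj.1 hx
    exact mem_wj.2 ⟨⟨z ^ p, by rw [← pow_mul, ← pow_succ']⟩, h⟩
  have hstep : ∀ k j, D k (j + 1) ≤ D k j ∧ ∃ x, D k j = D k (j + 1) ⊔ Subgroup.zpowers x := by
    intro k j
    have hle : D k (j + 1) ≤ D k j := Subgroup.comap_mono (hW j)
    refine ⟨hle, ?_⟩
    obtain ⟨y, hy⟩ := pi_gen e he E j
    let ψ : D k j →* G ⧸ wj p (j + 1) G :=
      (QuotientGroup.mk' _).comp ((powMonoidHom (p ^ k)).comp (D k j).subtype)
    have hr : ψ.range ≤ Subgroup.zpowers (y : G ⧸ wj p (j + 1) G) := by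
      rintro _ ⟨x, rfl⟩
      obtain ⟨m, hm⟩ := hy _ ((hD k j x).1 x.2)
      refine Subgroup.mem_zpowers_iff.2 ⟨m, (mul_inv_eq_one.1 ?_).symm⟩
      rw [← QuotientGroup.mk_zpow]
      exact (QuotientGroup.eq_one_iff _).2 hm
    haveI : IsCyclic ψ.range := isCyclic_of_injective (Subgroup.inclusion hr) (Subgroup.inclusion_injective hr)
    obtain ⟨⟨_, x, rfl⟩, hgen⟩ := IsCyclic.exists_generator (α := ψ.range)
    refine ⟨x, le_antisymm (fun z hz => ?_) (sup_le hle (Subgroup.zpowers_le.2 x.2))⟩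
    obtain ⟨m, hm⟩ := Subgroup.mem_zpowers_iff.1 (hgen ⟨ψ ⟨z, hz⟩, ⟨z, hz⟩, rfl⟩)
    have hm' : ψ (x ^ m) = ψ ⟨z, hz⟩ := by rw [map_zpow]; exact congrArg Subtype.val hm
    have hu : z * ((x : G) ^ m)⁻¹ ∈ D k (j + 1) := by
      rw [hD, ← QuotientGroup.eq_one_iff]
      show ψ (⟨z, hz⟩ * (x ^ m)⁻¹) = 1
      rw [map_mul, map_inv, hm', mul_inv_cancel]
    have := mul_mem (Subgroup.mem_sup_left (T := Subgroup.zpowers (x : G)) hu)
      (Subgroup.mem_sup_right (zpow_mem (Subgroup.mem_zpowers (x : G)) m))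
    rwa [inv_mul_cancel_right] at this
  have hlink : ∀ k, D (k + 1) N = D k 0 := fun k => by
    ext x
    rw [hD, hD, mem_wj, mem_wj]
    constructor
    · rintro ⟨⟨z, hz⟩, -⟩
      rw [hN] at hz
      exact ⟨⟨x ^ p ^ k, by simp⟩, by rw [← pow_mul, ← pow_succ]; exact hz.symm⟩
    · rintro ⟨-, h⟩
      have h' : x ^ p ^ (k + 1) = 1 := by rw [pow_succ, pow_mul]; exact h
      exact ⟨⟨1, by rw [one_pow, h']⟩, by rw [h', one_pow]⟩
  let F : ℕ → Subgroup G := fun i => D (i / (N + 1)) (N - i % (N + 1))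
  refine ⟨N * (N + 1), fun i => F i.val, ?_, ?_, fun i φ x hx => ?_, fun i => ?_⟩
  · show F 0 = ⊥
    rw [eq_bot_iff]
    intro x hx
    simp only [F, Nat.zero_div, Nat.zero_mod, Nat.sub_zero, hD, pow_zero, pow_one, mem_wj] at hx
    obtain ⟨⟨z, hz⟩, -⟩ := hx
    rw [hN] at hz
    exact Subgroup.mem_bot.2 hz.symm
  · show F (N * (N + 1)) = ⊤
    rw [eq_top_iff]
    intro x _
    simp only [F, Nat.mul_div_cancel _ N.succ_pos, hD, hN]
    exact one_mem _
  · simp only [F, hD] at hx ⊢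
    rw [← map_pow]
    exact wj_char _ φ hx
  · show F i.val ≤ F (i.val + 1) ∧ ∃ x, F (i.val + 1) = F i.val ⊔ Subgroup.zpowers x
    have hd := Nat.div_add_mod i.val (N + 1)
    have hr := Nat.mod_lt i.val (show 0 < N + 1 by omega)
    rcases Nat.lt_or_ge (i.val % (N + 1)) N with hlt | hge
    · have e1 : (i.val + 1) / (N + 1) = i.val / (N + 1) ∧ (i.val + 1) % (N + 1) = i.val % (N + 1) + 1 :=
        (Nat.div_mod_unique (show 0 < N + 1 by omega)).2 ⟨by omega, by omega⟩
      simp only [F, e1.1, e1.2]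
      rw [show N - i.val % (N + 1) = N - (i.val % (N + 1) + 1) + 1 by omega]
      exact hstep _ _
    · have e1 : (i.val + 1) / (N + 1) = i.val / (N + 1) + 1 ∧ (i.val + 1) % (N + 1) = 0 :=
        (Nat.div_mod_unique (show 0 < N + 1 by omega)).2 ⟨by rw [mul_add, mul_one]; omega, N.succ_pos⟩
      simp only [F, e1.1, e1.2, Nat.sub_zero, hlink, show N - i.val % (N + 1) = 0 by omega]
      exact ⟨le_rfl, 1, by simp⟩

/-- Two equal invariants split off. -/
theorem split_pair {ι : Type} [Fintype ι] [DecidableEq ι] (e : ι → ℕ) {i j : ι} (hij : i ≠ j) (he : e i = e j) :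
    ∃ (H : Type) (_ : CommGroup H), Nonempty (((l : ι) → Multiplicative (ZMod (p ^ e l))) ≃*
      (Multiplicative (ZMod (p ^ e i)) × Multiplicative (ZMod (p ^ e i))) × H) := by
  let c : Multiplicative (ZMod (p ^ e j)) ≃* Multiplicative (ZMod (p ^ e i)) :=
    AddEquiv.toMultiplicative (ZMod.ringEquivCongr (by rw [he])).toAddEquiv
  refine ⟨(l : {l : ι // l ≠ i ∧ l ≠ j}) → Multiplicative (ZMod (p ^ e l.1)), inferInstance, ?_⟩
  let f : ((l : ι) → Multiplicative (ZMod (p ^ e l))) →*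
      (Multiplicative (ZMod (p ^ e i)) × Multiplicative (ZMod (p ^ e i))) ×
        ((l : {l : ι // l ≠ i ∧ l ≠ j}) → Multiplicative (ZMod (p ^ e l.1))) :=
    { toFun := fun v => ((v i, c (v j)), fun l => v l.1)
      map_one' := by simp; rfl
      map_mul' := fun v w => by simp [map_mul]; rfl }
  refine ⟨MulEquiv.ofBijective f ⟨fun v w h => funext fun l => ?_, fun ⟨⟨a, b⟩, r⟩ => ?_⟩⟩
  · simp only [f, MonoidHom.coe_mk, OneHom.coe_mk, Prod.mk.injEq] at h
    by_cases hli : l = i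
    · subst hli; exact h.1.1
    by_cases hlj : l = j
    · subst hlj; exact c.injective h.1.2
    exact congrFun h.2 ⟨l, hli, hlj⟩
  · let v : (l : ι) → Multiplicative (ZMod (p ^ e l)) := fun l =>
      if h : l ≠ i ∧ l ≠ j then r ⟨l, h⟩ else 1
    refine ⟨Function.update (Function.update v j (c.symm b)) i a, Prod.ext (Prod.ext ?_ ?_) (funext fun l => ?_)⟩
    · simp [f]
    · simp [f, Function.update_of_ne hij.symm]
    · show Function.update (Function.update v j (c.symm b)) i a l.1 = r l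
      rw [Function.update_of_ne l.2.1, Function.update_of_ne l.2.2]
      simp [v, l.2]

end group

section matrix

open Matrix

/-- A matrix over `𝔽_p` without eigenvectors, none of whose `p`-power powers has one. -/
theorem exists_matrix (p : ℕ) [Fact p.Prime] :
    ∃ s t : ZMod p, t ≠ 0 ∧ ∀ (q : ℕ) (l : Fin 2 → ZMod p) (c : ZMod p),
      ((!![0, -t; 1, s] : Matrix (Fin 2) (Fin 2) (ZMod p)) ^ p ^ q).mulVec l = c • l → l = 0 := by
  classical
  obtain ⟨⟨s, t⟩, hst⟩ : ∃ v : ZMod p × ZMod p, ∀ a b : ZMod p, (a + b, a * b) ≠ v := by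
    by_contra! h
    have hs : Function.Surjective fun w : ZMod p × ZMod p => (w.1 + w.2, w.1 * w.2) := fun v => by
      obtain ⟨a, b, hab⟩ := h v; exact ⟨(a, b), hab⟩
    have := Finite.injective_iff_surjective.2 hs (a₁ := (0, 1)) (a₂ := (1, 0)) (by simp)
    simp at this
  have hroot : ∀ r : ZMod p, r * r - s * r + t ≠ 0 := fun r h =>
    hst r (s - r) (Prod.ext (by ring) (by linear_combination -h))
  refine ⟨s, t, fun ht => hroot 0 (by rw [ht]; ring), fun q l c h => ?_⟩
  set M : Matrix (Fin 2) (Fin 2) (ZMod p) := !![0, -t; 1, s] with hM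
  by_contra hl
  set B := M ^ p ^ q
  have hcomm : B * M = M * B := (Commute.pow_self M _).eq
  -- `l`, `M l` are independent
  let N : Matrix (Fin 2) (Fin 2) (ZMod p) := !![l 0, -t * l 1; l 1, l 0 + s * l 1]
  have hdet : IsUnit N.det := by
    rw [isUnit_iff_ne_zero, Matrix.det_fin_two_of]
    intro h0
    by_cases h1 : l 1 = 0
    · rw [h1] at h0
      refine hl (funext fun i => ?_)
      have : l 0 = 0 := mul_self_eq_zero.1 (by linear_combination h0)
      fin_cases i <;> assumption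
    · refine hroot (-(l 0) / l 1) ?_
      field_simp
      linear_combination h0
  have hMl : M.mulVec l = ![-t * l 1, l 0 + s * l 1] := by
    funext i; fin_cases i <;> simp [M, Matrix.mulVec, dotProduct, Fin.sum_univ_two] <;> ring
  have h2 : B.mulVec (M.mulVec l) = c • M.mulVec l := by
    rw [Matrix.mulVec_mulVec, hcomm, ← Matrix.mulVec_mulVec, h, Matrix.mulVec_smul]
  have hBN : (B - c • (1 : Matrix (Fin 2) (Fin 2) (ZMod p))) * N = 0 := by
    have hz : ∀ v, B.mulVec v = c • v → (B - c • (1 : Matrix (Fin 2) (Fin 2) (ZMod p))).mulVec v = 0 := fun v hv => by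
      rw [Matrix.sub_mulVec, Matrix.smul_mulVec, Matrix.one_mulVec, hv, sub_self]
    have z1 := hz l h
    have z2 := hz _ (hMl ▸ h2)
    ext i k
    fin_cases k
    · have := congrFun z1 i
      simp [Matrix.mulVec, dotProduct, Fin.sum_univ_two, Matrix.mul_apply, N] at this ⊢
      linear_combination this
    · have := congrFun z2 i
      simp [Matrix.mulVec, dotProduct, Fin.sum_univ_two, Matrix.mul_apply, N] at this ⊢
      linear_combination this
  have hB : B = c • (1 : Matrix (Fin 2) (Fin 2) (ZMod p)) := by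
    rw [← sub_eq_zero]
    have := congrArg (· * N⁻¹) hBN
    simpa [Matrix.mul_assoc, Matrix.mul_nonsing_inv N hdet] using this
  have hnil : (M - c • (1 : Matrix (Fin 2) (Fin 2) (ZMod p))) ^ p ^ q = 0 := by
    rw [sub_pow_char_pow_of_commute p q ((Commute.one_right M).smul_right c), smul_pow, one_pow,
      ZMod.pow_card_pow, show M ^ p ^ q = B from rfl, hB, sub_self]
  have hd := congrArg Matrix.det hnil
  rw [Matrix.det_pow, Matrix.det_zero] at hd
  have hd' := eq_zero_of_pow_eq_zero hd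
  rw [hM, Matrix.det_fin_two] at hd'
  refine hroot c ?_
  simp at hd'
  linear_combination hd'

end matrix

/-- Let S be a finite abelian p-group. Every saturated fusion system over S is supersoluble (S has a chain of F-strongly closed subgroups from 1 to S with cyclic steps) if and only if the invariants of S are pairwise distinct, that is, S is not isomorphic to a direct product (Z/p^n × Z/p^n) × H with n ≥ 1. -/
theorem result {Ω : Type*} [Group Ω] {S : Subgroup Ω} [Finite S] (p : ℕ) [Fact p.Prime] (hS : IsPGroup p ↥S) (hab : IsMulCommutative ↥S) : (∀ F : Cfsg.FusionSystem S, F.IsSaturated p → (∃ (m : ℕ) (c : Fin (m + 1) → Subgroup Ω), c 0 = ⊥ ∧ c (Fin.last m) = S ∧ (∀ i : Fin (m + 1), F.StronglyClosed (c i)) ∧ ∀ i : Fin m, c i.castSucc ≤ c i.succ ∧ ∃ x ∈ S, c i.succ = c i.castSucc ⊔ Subgroup.zpowers x)) ↔ ¬ ∃ (n : ℕ) (H : Type) (_ : CommGroup H), 0 < n ∧ Nonempty (↥S ≃* (Multiplicative (ZMod (p ^ n)) × Multiplicative (ZMod (p ^ n))) × H) := by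
  classical
  have hp : p.Prime := Fact.out
  letI : CommGroup S := { (inferInstance : Group S) with mul_comm := hab.is_comm.comm }
  have habS : ∀ x ∈ S, ∀ y ∈ S, x * y = y * x := fun x hx y hy =>
    congrArg Subtype.val (mul_comm (⟨x, hx⟩ : S) ⟨y, hy⟩)
  obtain ⟨ι, _, n, hn1, ⟨E⟩⟩ := CommGroup.equiv_prod_multiplicative_zmod_of_finite S
  obtain ⟨N, hN⟩ := IsPGroup.iff_card.1 hS
  have hne : ∀ i, ∃ k, n i = p ^ k ∧ 0 < k := fun i => by
    have h : n i ∣ p ^ N := by
      have := Nat.card_congr E.toEquiv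
      rw [hN, Nat.card_pi] at this
      rw [this]
      refine dvd_trans (dvd_of_eq ?_) (Finset.dvd_prod_of_mem _ (Finset.mem_univ i))
      rw [Nat.card_congr Multiplicative.toAdd, Nat.card_zmod]
    obtain ⟨k, -, hk⟩ := (Nat.dvd_prime_pow hp).1 h
    refine ⟨k, hk, Nat.pos_of_ne_zero fun h0 => ?_⟩
    have := hn1 i
    rw [hk, h0, pow_zero] at this
    exact lt_irrefl _ this
  choose e he he0 using hne
  obtain rfl : n = fun i => p ^ e i := funext he
  constructor
  · rintro hall ⟨k, H, _, hk, ⟨D⟩⟩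
    obtain ⟨s, t, ht, hirr⟩ := exists_matrix p
    haveI : NeZero (p ^ k) := ⟨pow_ne_zero k hp.ne_zero⟩
    let π₁ : ZMod (p ^ k) →+* ZMod p := ZMod.castHom (dvd_pow_self p hk.ne') _
    let s' : ZMod (p ^ k) := (s.val : ZMod (p ^ k))
    let t' : ZMod (p ^ k) := (t.val : ZMod (p ^ k))
    have hs' : π₁ s' = s := by rw [map_natCast, ZMod.natCast_zmod_val]
    have ht' : π₁ t' = t := by rw [map_natCast, ZMod.natCast_zmod_val]
    have hu : IsUnit t' := by
      rw [ZMod.isUnit_iff_coprime]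
      refine Nat.Coprime.pow_right _ (Nat.Coprime.symm (hp.coprime_iff_not_dvd.2 fun h => ht ?_))
      exact (ZMod.val_eq_zero t).1 (Nat.eq_zero_of_dvd_of_lt h (ZMod.val_lt t))
    obtain ⟨w, hw⟩ := hu.exists_left_inv
    let α₁ : MulAut (Multiplicative (ZMod (p ^ k)) × Multiplicative (ZMod (p ^ k))) :=
      { toFun := fun v => (Multiplicative.ofAdd (-t' * Multiplicative.toAdd v.2),
          Multiplicative.ofAdd (Multiplicative.toAdd v.1 + s' * Multiplicative.toAdd v.2))
        invFun := fun v => (Multiplicative.ofAdd (Multiplicative.toAdd v.2 + s' * w * Multiplicative.toAdd v.1),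
          Multiplicative.ofAdd (-w * Multiplicative.toAdd v.1))
        left_inv := fun v => Prod.ext (Multiplicative.toAdd.injective (by
            simp only [toAdd_ofAdd]
            linear_combination -(s' * Multiplicative.toAdd v.2) * hw))
          (Multiplicative.toAdd.injective (by
            simp only [toAdd_ofAdd]
            linear_combination (Multiplicative.toAdd v.2) * hw))
        right_inv := fun v => Prod.ext (Multiplicative.toAdd.injective (by
            simp only [toAdd_ofAdd]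
            linear_combination (Multiplicative.toAdd v.1) * hw))
          (Multiplicative.toAdd.injective (by simp only [toAdd_ofAdd]; ring))
        map_mul' := fun v w => Prod.ext (Multiplicative.toAdd.injective (by simp [mul_add]))
          (Multiplicative.toAdd.injective (by simp [mul_add]; abel)) }
    let α₀ : MulAut S := (D.trans (MulEquiv.prodCongr α₁ (MulEquiv.refl H))).trans D.symm
    let vec : S →* Multiplicative (Fin 2 → ZMod p) :=
      { toFun := fun x => Multiplicative.ofAdd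
          ![π₁ (Multiplicative.toAdd (D x).1.1), π₁ (Multiplicative.toAdd (D x).1.2)]
        map_one' := by simp
        map_mul' := fun x y => by simp [map_mul, ← ofAdd_add] }
    set M : Matrix (Fin 2) (Fin 2) (ZMod p) := !![0, -t; 1, s]
    have hact : ∀ (j : ℕ) (x : S),
        Multiplicative.toAdd (vec ((α₀ ^ j) x)) = (M ^ j).mulVec (Multiplicative.toAdd (vec x)) := by
      intro j
      induction j with
      | zero => intro x; simp
      | succ j ih =>
        intro x
        rw [pow_succ', MulAut.mul_apply, pow_succ', ← Matrix.mulVec_mulVec, ← ih]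
        generalize (α₀ ^ j) x = y
        have hα : D (α₀ y) = (α₁ (D y).1, (D y).2) := D.apply_symm_apply _
        show ![π₁ (Multiplicative.toAdd (D (α₀ y)).1.1), π₁ (Multiplicative.toAdd (D (α₀ y)).1.2)] = _
        rw [hα]
        funext i
        fin_cases i <;> simp [vec, α₁, M, Matrix.mulVec, dotProduct, Fin.sum_univ_two, hs', ht']
    obtain ⟨q, m, hm, hqm⟩ := Nat.exists_eq_pow_mul_and_not_dvd (orderOf_pos α₀).ne' p hp.ne_one
    have hA : (Nat.card (Subgroup.zpowers (α₀ ^ p ^ q))).Coprime p := by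
      rw [Nat.card_zpowers]
      refine Nat.Coprime.coprime_dvd_left (k := m) (orderOf_dvd_of_pow_eq_one ?_)
        (hp.coprime_iff_not_dvd.2 hm).symm
      rw [← pow_mul, ← hqm, pow_orderOf_eq_one]
    obtain ⟨m', c, hc0, hc1, hcl, hstep⟩ := hall _ (abelianSystem_saturated hS habS _ hA)
    have hinv : ∀ i, ∀ x : S, (x : Ω) ∈ c i → (((α₀ ^ p ^ q) x : S) : Ω) ∈ c i := fun i x hx =>
      (hcl i).2 (c i) le_rfl (S.subtype.comp ((α₀ ^ p ^ q).toMonoidHom.comp (Subgroup.inclusion (hcl i).1)))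
        ⟨(hcl i).1, α₀ ^ p ^ q, Subgroup.mem_zpowers _, fun y hy => rfl⟩ ⟨x, hx⟩
    have hall0 : ∀ i, ∀ x : S, (x : Ω) ∈ c i → vec x = 1 := by
      intro i
      induction i using Fin.induction with
      | zero =>
        intro x hx
        rw [hc0, Subgroup.mem_bot] at hx
        rw [show x = 1 from Subtype.ext hx, map_one]
      | succ i ih =>
        obtain ⟨hle, x₀, hx₀S, hsup⟩ := hstep i
        have hspan : (c i.succ).subgroupOf S ≤ (Subgroup.zpowers (vec ⟨x₀, hx₀S⟩)).comap vec := by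
          intro y hy
          have h1 : ((c i.castSucc).subgroupOf S ⊔ Subgroup.zpowers (⟨x₀, hx₀S⟩ : S)).map S.subtype = c i.succ := by
            rw [Subgroup.map_sup, Subgroup.map_subgroupOf_eq_of_le (hcl _).1, MonoidHom.map_zpowers, hsup]; rfl
          obtain ⟨y', hy', hye⟩ := h1.ge hy
          rw [show y = y' from Subtype.ext hye.symm]
          obtain ⟨u, hu, v, hv, rfl⟩ := Subgroup.mem_sup.1 hy'
          obtain ⟨j, rfl⟩ := Subgroup.mem_zpowers_iff.1 hv
          rw [Subgroup.mem_comap, map_mul, ih u hu, one_mul, map_zpow]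
          exact zpow_mem (Subgroup.mem_zpowers _) j
        have hx₀c : x₀ ∈ c i.succ := hsup ▸ Subgroup.mem_sup_right (Subgroup.mem_zpowers x₀)
        obtain ⟨j, hj⟩ := Subgroup.mem_zpowers_iff.1 (hspan (hinv i.succ ⟨x₀, hx₀S⟩ hx₀c))
        have h0 : Multiplicative.toAdd (vec ⟨x₀, hx₀S⟩) = 0 := by
          refine hirr q _ (j : ZMod p) ?_
          rw [← hact, ← hj, toAdd_zpow, Int.cast_smul_eq_zsmul]
        intro y hy
        obtain ⟨l, hl⟩ := Subgroup.mem_zpowers_iff.1 (hspan hy)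
        rw [← hl, show vec ⟨x₀, hx₀S⟩ = 1 from h0, one_zpow]
    have h1 := hall0 (Fin.last m') (D.symm ((Multiplicative.ofAdd 1, 1), 1)) (hc1 ▸ (D.symm _).2)
    have h2 := congrFun (congrArg Multiplicative.toAdd h1) 0
    simp [vec] at h2
  · intro hno F hF
    have hinj : Function.Injective e := by
      intro i j hij
      by_contra hne
      obtain ⟨H, _, ⟨D⟩⟩ := split_pair (p := p) e hne hij
      exact hno ⟨e i, H, inferInstance, he0 i, ⟨E.trans D⟩⟩
    obtain ⟨m, C, h0, h1, hchar, hstep⟩ := exists_char_series e hinj E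
    refine ⟨m, fun i => (C i).map S.subtype, (by beta_reduce; rw [h0, Subgroup.map_bot]),
      (by beta_reduce; rw [h1, ← MonoidHom.range_eq_map, Subgroup.range_subtype]), fun i => ?_, fun i => ?_⟩
    · refine ⟨Subgroup.map_subtype_le _, fun R hR φ hφ x => ?_⟩
      obtain ⟨α, -, hα⟩ := exists_top_aut habS hS hF hφ
      obtain ⟨y, hy, hye⟩ := hR x.2
      exact ⟨α y, hchar i α y hy, (by
        rw [show y = ⟨(x : Ω), hom_le F hφ x.2⟩ from Subtype.ext hye]; exact hα x)⟩
    · obtain ⟨hle, x, hx⟩ := hstep i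
      refine ⟨Subgroup.map_mono hle, x, x.2, ?_⟩
      beta_reduce
      rw [hx, Subgroup.map_sup, MonoidHom.map_zpowers]; rfl

end Cfsg.Agent.S5284
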