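import Cfsg.Statements.S5286
import Cfsg.Agent.Lib.FusionRealize.Graph
-- import your own Cfsg.Agent.* helpers here

set_option autoImplicit false
universe u
open Cfsg

namespace Cfsg.Agent.S5286

/-- Every fusion system F over a finite p-group S, saturated or not, is realized by a possibly infinite group: there are a group G and an injective homomorphism ι of S into G such that the maps of F are exactly the conjugations by elements of G between subgroups of ι(S), every finite subgroup of G is conjugate to a subgroup of ι(S), and G has a free normal subgroup whose index divides (#S)!. -/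
theorem result {Ω : Type u} [Group Ω] {S : Subgroup Ω} [Finite S] (p : ℕ) [Fact p.Prime] (hS : IsPGroup p ↥S) (F : Cfsg.FusionSystem S) : ∃ (G : Type u) (_ : Group G) (ι : ↥S →* G), F.IsRealizedBy ι ∧ (∀ H : Subgroup G, Finite ↥H → ∃ g : G, ∀ h ∈ H, g * h * g⁻¹ ∈ ι.range) ∧ ∃ N : Subgroup G, N.Normal ∧ IsFreeGroup ↥N ∧ N.index ∣ (Nat.card ↥S).factorial := by
  classical
  let Γ := FusionRealize.graph F
  let W := Γ.W
  let G : Subgroup W := Γ.fund FusionRealize.base
  have hι : ∀ s : ↥S, (SemidirectProduct.inr (FusionRealize.reg S s) : W) ∈ G := fun s => by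
    show Γ.IsPath _ 1 _
    have h : Γ.actV (FusionRealize.reg S s) FusionRealize.base = FusionRealize.base := by
      rw [FusionRealize.graph_actV]
      exact QuotientGroup.eq.2 ⟨s⁻¹, by rw [map_inv, mul_one]⟩
    rw [SemidirectProduct.right_inr, h]
    exact Γ.isPath_one _
  let ι : ↥S →* G := ((SemidirectProduct.inr).comp (FusionRealize.reg S)).codRestrict G hι
  refine ⟨↥G, inferInstance, ι, ⟨fun s t h => FusionRealize.reg_injective
    (SemidirectProduct.inr_injective (congrArg Subtype.val h)), fun P hP φ hφ => ⟨fun hmem => ?_, ?_⟩⟩, ?_, ?_⟩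
  · -- the letter of the map
    let f : FusionRealize.Lab F := ⟨P, φ, hmem⟩
    let e₁ : FusionRealize.Edge F := ⟨f, QuotientGroup.mk 1⟩
    let t : W := ⟨FreeGroup.mk [(e₁, true)], FusionRealize.sigma F f⟩
    have ht : t ∈ G := by
      show Γ.IsPath _ (FreeGroup.mk [(e₁, true)]) _
      have h := Γ.isPath_letter (e₁, true)
      have e : Γ.en (e₁, true) = Γ.actV (FusionRealize.sigma F f) FusionRealize.base := by
        rw [FusionRealize.graph_actV]
        show (QuotientGroup.mk (1 * FusionRealize.sigma F f) : FusionRealize.Vert S) = _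
        rw [one_mul]
      exact e ▸ h
    refine ⟨⟨t, ht⟩, fun u => ?_⟩
    rw [eq_mul_inv_iff_mul_eq]
    refine Subtype.ext (SemidirectProduct.ext ?_ ?_)
    · show 1 * Γ.actF (FusionRealize.reg S ⟨φ u, hφ u⟩) (FreeGroup.mk [(e₁, true)]) =
        FreeGroup.mk [(e₁, true)] * Γ.actF t.right 1
      rw [one_mul, map_one, mul_one]
      show FreeGroup.map (Γ.actE _) (FreeGroup.mk [(e₁, true)]) = _
      rw [FreeGroup.map.mk]
      have h : Γ.actE (FusionRealize.reg S ⟨φ u, hφ u⟩) e₁ = e₁ := by
        rw [FusionRealize.actE_mk]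
        refine Sigma.ext rfl (heq_of_eq (QuotientGroup.eq.2 ?_))
        rw [mul_one, mul_one]
        exact inv_mem ⟨u, rfl⟩
      simp only [List.map_cons, List.map_nil, h]
    · exact (FusionRealize.sigma_spec F f u).symm
  · rintro ⟨g, hg⟩
    refine FusionRealize.hom_of_path F (g : W).left.toWord (g : W).right g.2 P hP φ hφ fun u => ?_
    have h := congrArg Subtype.val (eq_mul_inv_iff_mul_eq.1 (hg u))
    refine ⟨(congrArg SemidirectProduct.right h).symm, fun l hl => ?_⟩
    have hleft : 1 * Γ.actF (FusionRealize.reg S ⟨φ u, hφ u⟩) (g : W).left =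
        (g : W).left * Γ.actF (g : W).right 1 := congrArg SemidirectProduct.left h
    rw [one_mul, map_one, mul_one] at hleft
    have hw := congrArg FreeGroup.toWord hleft
    rw [Γ.toWord_act] at hw
    nth_rewrite 2 [← List.map_id (g : W).left.toWord] at hw
    exact congrArg Prod.fst (List.map_inj_left.1 hw l hl)
  · intro H _
    haveI : Finite ↥(H.map G.subtype) := Finite.of_surjective (fun h : H => (⟨G.subtype h, ⟨h, h.2, rfl⟩⟩ :
      ↥(H.map G.subtype))) fun ⟨_, h, hh, rfl⟩ => ⟨⟨h, hh⟩, rfl⟩
    obtain ⟨p, x, hp, hfix⟩ := Γ.exists_fixed FusionRealize.base (H.map G.subtype) (Subgroup.map_subtype_le H)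
    obtain ⟨q, rfl⟩ := QuotientGroup.mk_surjective x
    have hgG : (⟨p, q⟩ : W) ∈ G := by
      show Γ.IsPath _ p _
      rw [FusionRealize.graph_actV]
      exact hp
    refine ⟨(⟨⟨p, q⟩, hgG⟩ : G)⁻¹, fun h hh => ?_⟩
    obtain ⟨h1, h2⟩ := hfix h ⟨h, hh, rfl⟩
    obtain ⟨s, hs⟩ := QuotientGroup.eq.1
      (show (QuotientGroup.mk q : FusionRealize.Vert S) = QuotientGroup.mk ((h : W).right * q) from h2.symm)
    refine ⟨s, ?_⟩
    rw [inv_inv, eq_comm, mul_assoc, inv_mul_eq_iff_eq_mul]
    refine Subtype.ext (SemidirectProduct.ext ?_ ?_)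
    · show (h : W).left * Γ.actF (h : W).right p = p * Γ.actF q 1
      rw [map_one, mul_one]
      exact h1
    · show (h : W).right * q = q * FusionRealize.reg S s
      rw [hs, mul_inv_cancel_left]
  · let π : G →* FusionRealize.Sym S := SemidirectProduct.rightHom.comp G.subtype
    refine ⟨π.ker, inferInstance, ?_, ?_⟩
    · let κ : π.ker →* FreeGroup (FusionRealize.Edge F) := MonoidHom.mk' (fun z => ((z : G) : W).left) fun a b => by
        show (((a : G) : W) * ((b : G) : W)).left = _
        rw [SemidirectProduct.mul_left, show ((a : G) : W).right = 1 from a.2, map_one, MulAut.one_apply]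
      have hκ : Function.Injective κ := fun a b h => Subtype.ext (Subtype.ext (SemidirectProduct.ext h
        ((a.2 : ((a : G) : W).right = 1).trans (b.2 : ((b : G) : W).right = 1).symm)))
      exact IsFreeGroup.ofMulEquiv (MonoidHom.ofInjective hκ).symm
    · rw [Subgroup.index_ker]
      refine (Subgroup.card_subgroup_dvd_card _).trans ?_
      rw [Nat.card_perm]

end Cfsg.Agent.S5286
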