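import Cfsg.Statements.S5287
import Cfsg.Agent.Lib.Fusion.SupersolubleModels
import Cfsg.Agent.Lib.Fusion.MetacyclicOddAut
import Cfsg.Agent.Lib.Fusion.MetacyclicTwoAut
import Cfsg.Agent.S5234
import Cfsg.Agent.S5283
import Cfsg.Agent.S5284

set_option autoImplicit false
open Cfsg

namespace Cfsg.Agent.S5287

open Cfsg.Agent

theorem card_le_of_exp {p : ℕ} [Fact p.Prime] {C : Type*} [Group C] [Finite C] [IsCyclic C] (h : ∀ c : C, c ^ p = 1) :
    Nat.card C ≤ p := by
  obtain ⟨g, hg⟩ := IsCyclic.exists_generator (α := C)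
  rw [← orderOf_eq_card_of_forall_mem_zpowers hg]
  exact Nat.le_of_dvd (Fact.out : p.Prime).pos (orderOf_dvd_of_pow_eq_one (h g))

/-- Elementary subgroups of metacyclic groups have order at most `p ^ 2`. -/
theorem card_exp_le {p : ℕ} [Fact p.Prime] {G : Type*} [Group G] [Finite G] (hm : Cfsg.IsMetacyclic G)
    (K : Subgroup G) (h : ∀ x ∈ K, x ^ p = 1) : Nat.card K ≤ p * p := by
  obtain ⟨N, hNn, hNc, hQc⟩ := hm
  haveI := hNn; haveI := hNc; haveI := hQc
  let f : K →* G ⧸ N := (QuotientGroup.mk' N).comp K.subtype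
  have hker : Nat.card f.ker ≤ p := by
    let g : f.ker →* N := ((K.subtype).comp f.ker.subtype).codRestrict N fun x => (QuotientGroup.eq_one_iff _).1 x.2
    have hg : Function.Injective g := fun x y hxy => by
      have h0 := congrArg (fun z : N => (z : G)) hxy
      exact Subtype.ext (Subtype.ext h0)
    haveI : IsCyclic f.ker := isCyclic_of_injective g hg
    exact card_le_of_exp fun c => Subtype.ext (Subtype.ext (h _ c.1.2))
  have hr : Nat.card f.range ≤ p := card_le_of_exp fun c => by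
    obtain ⟨_, x, rfl⟩ := c
    refine Subtype.ext ?_
    show f x ^ p = 1
    rw [← map_pow, show x ^ p = 1 from Subtype.ext (h _ x.2), map_one]
  rw [← f.ker.index_mul_card, Subgroup.index_ker]
  exact Nat.mul_le_mul hr hker

/-- Let S be a finite metacyclic p-group (an extension of a cyclic group by a cyclic group). Every saturated fusion system over S is supersoluble (S has a chain of F-strongly closed subgroups from 1 to S with cyclic steps) if and only if S is not homocyclic of rank two (isomorphic to Z/p^n × Z/p^n with n ≥ 1) and, when p = 2, S is not dihedral of order at least 4, not quasi-dihedral (semidihedral) and not generalized quaternion of order at least 8. -/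
theorem result {Ω : Type*} [Group Ω] {S : Subgroup Ω} [Finite S] (p : ℕ) [Fact p.Prime] (hS : IsPGroup p ↥S) (hm : Cfsg.IsMetacyclic ↥S) : (∀ F : Cfsg.FusionSystem S, F.IsSaturated p → (∃ (m : ℕ) (c : Fin (m + 1) → Subgroup Ω), c 0 = ⊥ ∧ c (Fin.last m) = S ∧ (∀ i : Fin (m + 1), F.StronglyClosed (c i)) ∧ ∀ i : Fin m, c i.castSucc ≤ c i.succ ∧ ∃ x ∈ S, c i.succ = c i.castSucc ⊔ Subgroup.zpowers x)) ↔ ¬ ((∃ n : ℕ, 0 < n ∧ Nonempty (↥S ≃* Multiplicative (ZMod (p ^ n)) × Multiplicative (ZMod (p ^ n)))) ∨ (p = 2 ∧ ((∃ n : ℕ, 2 ≤ n ∧ Nonempty (↥S ≃* DihedralGroup n)) ∨ Cfsg.IsQuasiDihedral ↥S ∨ (∃ n : ℕ, 2 ≤ n ∧ Nonempty (↥S ≃* QuaternionGroup n))))) := by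
  classical
  have hp : p.Prime := Fact.out
  constructor
  · intro hall hbad
    rcases hbad with ⟨n, hn, ⟨D⟩⟩ | ⟨rfl, hbad⟩
    · have hab : IsMulCommutative ↥S := ⟨⟨fun a b => D.injective (by rw [map_mul, map_mul, mul_comm])⟩⟩
      refine (Cfsg.Agent.S5284.result p hS hab).1 hall ⟨n, Multiplicative (ZMod 1), inferInstance, hn, ⟨?_⟩⟩
      exact D.trans (MulEquiv.prodUnique).symm
    · have hb : Cfsg.Agent.SSModels.HasBadSystem S := by
        rcases hbad with ⟨n, hn, ⟨D⟩⟩ | hsd | ⟨n, hn, ⟨D⟩⟩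
        · exact Cfsg.Agent.SSModels.bad_dihedral hn hS D
        · exact Cfsg.Agent.SSModels.bad_quasiDihedral hsd
        · exact Cfsg.Agent.SSModels.bad_quaternion hn hS D
      obtain ⟨F, hF, hno⟩ := hb
      exact hno (hall F hF)
  intro hgood
  by_cases hab : ∀ u w : S, u * w = w * u
  · have habI : IsMulCommutative ↥S := ⟨⟨hab⟩⟩
    refine (Cfsg.Agent.S5284.result p hS habI).2 ?_
    rintro ⟨n, H, _, hn, ⟨D⟩⟩
    haveI : NeZero (p ^ n) := ⟨pow_ne_zero n hp.ne_zero⟩
    haveI : Finite ((Multiplicative (ZMod (p ^ n)) × Multiplicative (ZMod (p ^ n))) × H) := Finite.of_equiv _ D.toEquiv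
    haveI : Finite H := Finite.of_surjective (fun v : (Multiplicative (ZMod (p ^ n)) × Multiplicative (ZMod (p ^ n))) × H => v.2)
      fun h => ⟨((1, 1), h), rfl⟩
    by_cases hH : Subsingleton H
    · haveI := uniqueOfSubsingleton (1 : H)
      exact hgood (Or.inl ⟨n, hn, ⟨D.trans MulEquiv.prodUnique⟩⟩)
    haveI : Nontrivial H := not_subsingleton_iff_nontrivial.1 hH
    letI : CommGroup S := { (inferInstance : Group S) with mul_comm := hab }
    let P : Subgroup S := (powMonoidHom p : S →* S).ker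
    have hle := Cfsg.Agent.S5287.card_exp_le (p := p) hm P fun x hx => hx
    have hdiv : p ∣ Nat.card H := by
      obtain ⟨k, hk⟩ := IsPGroup.iff_card.1 (hS.of_surjective ((MonoidHom.snd _ H).comp D.toMonoidHom)
        (fun h => ⟨D.symm ((1, 1), h), by simp⟩))
      rcases k with _ | k
      · exact absurd hk (by have := Finite.one_lt_card (α := H); simp; omega)
      · exact ⟨p ^ k, by rw [hk, pow_succ']⟩
    obtain ⟨h, hh⟩ := exists_prime_orderOf_dvd_card' p hdiv
    let z : Multiplicative (ZMod (p ^ n)) := Multiplicative.ofAdd ((p ^ (n - 1) : ℕ) : ZMod (p ^ n))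
    have hz : orderOf z = p := by
      refine orderOf_eq_prime (Multiplicative.toAdd.injective ?_) fun h0 => ?_
      · rw [toAdd_pow, toAdd_one, toAdd_ofAdd, nsmul_eq_mul, ← Nat.cast_mul, ← pow_succ', show n - 1 + 1 = n by omega,
          ZMod.natCast_self]
      · have h1 : ((p ^ (n - 1) : ℕ) : ZMod (p ^ n)) = 0 := congrArg Multiplicative.toAdd h0
        rw [ZMod.natCast_eq_zero_iff, Nat.pow_dvd_pow_iff_le_right hp.one_lt] at h1
        omega
    let f : (Subgroup.zpowers z × Subgroup.zpowers z) × Subgroup.zpowers h → P := fun v =>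
      ⟨D.symm ((v.1.1, v.1.2), v.2), by
        rw [MonoidHom.mem_ker, powMonoidHom_apply, ← map_pow, MulEquiv.map_eq_one_iff]
        obtain ⟨⟨⟨_, i, rfl⟩, ⟨_, j, rfl⟩⟩, ⟨_, l, rfl⟩⟩ := v
        have e1 : ∀ i : ℤ, (z ^ i) ^ p = 1 := fun i => by
          rw [← zpow_natCast, ← zpow_mul, mul_comm, zpow_mul, zpow_natCast, orderOf_dvd_iff_pow_eq_one.1 hz.dvd, one_zpow]
        have e2 : (h ^ l) ^ p = 1 := by
          rw [← zpow_natCast, ← zpow_mul, mul_comm, zpow_mul, zpow_natCast, orderOf_dvd_iff_pow_eq_one.1 hh.dvd, one_zpow]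
        exact Prod.ext (Prod.ext (e1 i) (e1 j)) e2⟩
    have hf : Function.Injective f := fun v w he => by
      have h1 := D.symm.injective (congrArg Subtype.val he)
      simp only [Prod.mk.injEq] at h1
      exact Prod.ext (Prod.ext (Subtype.ext h1.1.1) (Subtype.ext h1.1.2)) (Subtype.ext h1.2)
    have h3 := Nat.card_le_card_of_injective f hf
    rw [Nat.card_prod, Nat.card_prod, Nat.card_zpowers, Nat.card_zpowers, hz, hh] at h3
    have h4 := h3.trans hle
    have h5 : p * p < p * p * p := by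
      have := hp.two_le
      nlinarith
    omega
  refine (Cfsg.Agent.S5283.result p hS).2 ?_
  rcases eq_or_ne p 2 with rfl | hp2
  · have hex : ¬ Cfsg.Agent.MetaTwo.Exceptional ↥S := by
      rintro (⟨m, ⟨D⟩⟩ | ⟨m, ⟨D⟩⟩ | h)
      · refine hgood (Or.inr ⟨rfl, Or.inl ⟨m, ?_, ⟨D⟩⟩⟩)
        by_contra hlt
        rcases (show m = 0 ∨ m = 1 by omega) with rfl | rfl
        · haveI : Finite (DihedralGroup 0) := Finite.of_equiv _ D.toEquiv
          exact not_finite (DihedralGroup 0)
        · exact hab fun u w => D.injective (by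
            rw [map_mul, map_mul]
            exact (show ∀ a b : DihedralGroup 1, a * b = b * a by decide) _ _)
      · refine hgood (Or.inr ⟨rfl, Or.inr (Or.inr ⟨m, ?_, ⟨D⟩⟩)⟩)
        by_contra hlt
        rcases (show m = 0 ∨ m = 1 by omega) with rfl | rfl
        · haveI : Finite (QuaternionGroup 0) := Finite.of_equiv _ D.toEquiv
          haveI : Finite ℤ := Finite.of_injective (fun i : ℤ => (QuaternionGroup.a i : QuaternionGroup 0))
            fun i j hij => by injection hij
          exact not_finite ℤ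
        · exact hab fun u w => D.injective (by
            rw [map_mul, map_mul]
            exact (show ∀ a b : QuaternionGroup 1, a * b = b * a by decide) _ _)
      · exact hgood (Or.inr ⟨rfl, Or.inr (Or.inl h)⟩)
    have hh : ¬ ∃ n k : ℕ, Nonempty (↥S ≃* Multiplicative (Fin k → ZMod (2 ^ n))) := fun ⟨n, k, ⟨D⟩⟩ =>
      hab fun u w => D.injective (by rw [map_mul, map_mul, mul_comm])
    refine ⟨fun F hF => Cfsg.Agent.FusionSys.metacyclic_two_normal hS hF (Cfsg.Agent.FusionSys.stronglyClosed_self F) hm hex,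
      fun H hH => ?_⟩
    have hH1 : Nat.card H = 1 := by
      obtain ⟨k, hk⟩ := IsPGroup.iff_card.1 ((Cfsg.Agent.MetaTwo.isPGroup_mulAut hS hm hex hh).to_subgroup H)
      rw [hk] at hH ⊢
      exact Nat.Coprime.eq_one_of_dvd hH (by
        rcases k with _ | k
        · simp
        · exact absurd hH (by rw [Nat.coprime_pow_left_iff (by omega)]; norm_num))
    haveI : Subsingleton H := (Nat.card_eq_one_iff_unique.1 hH1).1
    exact ⟨⟨⟨fun a b => Subsingleton.elim _ _⟩⟩, fun h hh => by
      rw [show h = 1 from congrArg Subtype.val (Subsingleton.elim (⟨h, hh⟩ : H) 1), one_pow]⟩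
  · exact ⟨fun F hF => Cfsg.Agent.S5234.result p hS F hF S (Cfsg.Agent.FusionSys.stronglyClosed_self F) hp2 hm,
      fun H hH => Cfsg.Agent.MetaOdd.coprime_aut hS hp2 hm hab H hH⟩

end Cfsg.Agent.S5287
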