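import Cfsg.Statements.S5289
import Cfsg.Agent.Lib.Fusion.RankTwoEssential
import Cfsg.Agent.Lib.Fusion.RankTwoStep
import Cfsg.Agent.Lib.Fusion.EssentialSmall
import Cfsg.Agent.Lib.Fusion.Normal
import Cfsg.Agent.S5187

set_option autoImplicit false
open Cfsg

open Cfsg.FusionSystem Cfsg.Agent.FusionSys
open scoped commutatorElement

namespace Cfsg.Agent.S5289Aux

open Cfsg.Agent.PlaneFrame Cfsg.Agent.RankTwoEss

variable {p : ℕ} [hp : Fact p.Prime] {Ω : Type*} [Group Ω] {S : Subgroup Ω} [Finite S] {F : FusionSystem S}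

theorem autS_isPGroup (hS : IsPGroup p S) (E : Subgroup Ω) : IsPGroup p (autInducedBy S E) :=
  autInducedBy_isPGroup hS

/-- An element of order `p` of the normalizer outside `E` that commutes with a non-abelian plane gives an
elementary abelian subgroup of order `p³`. -/
theorem no_plane (hr : Cfsg.PRankLE p 2 S) {E : Subgroup Ω} (hES : E ≤ S) [Finite E] {C W : Subgroup E}
    (hB : Base p C W) {l m : E} (hl : l ∈ W) (hlC : l ∉ C) (hne : ⁅l, m⁆ ≠ 1) {y : Ω} (hyS : y ∈ S)
    (hyE : y ∉ E) (hyp : y ^ p = 1) (hyl : y * (l : Ω) = (l : Ω) * y)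
    (hyC : ∀ c ∈ C, y * (c : Ω) = (c : Ω) * y) : False := by
  set z := ⁅l, m⁆ with hz
  have hzC : z ∈ C := hB.comm l m
  have hzp : z ^ p = 1 := hB.comm_pow_eq_one hl m
  set U : Subgroup E := Subgroup.zpowers l ⊔ Subgroup.zpowers z with hU
  have hlz : Commute l z := Subgroup.mem_center_iff.1 (hB.central hzC) l
  have hmem : ∀ u ∈ U, ∃ i j : ℤ, u = l ^ i * z ^ j := by
    intro u hu
    haveI : (Subgroup.zpowers z).Normal := ⟨fun a ha g => by
      rw [Subgroup.mem_center_iff.1 (hB.central ((Subgroup.zpowers_le).2 hzC ha)) g, mul_inv_cancel_right]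
      exact ha⟩
    rw [hU, ← SetLike.mem_coe, Subgroup.mul_normal] at hu
    obtain ⟨_, ⟨i, rfl⟩, _, ⟨j, rfl⟩, rfl⟩ := hu
    exact ⟨i, j, rfl⟩
  let f : E →* S := Subgroup.inclusion hES
  have hf : Function.Injective f := Subgroup.inclusion_injective hES
  have hUp : p ^ 2 ≤ Nat.card U := by
    have hlt : Subgroup.zpowers z < U := lt_of_le_of_ne le_sup_right fun e => hlC
      ((Subgroup.zpowers_le).2 hzC (e ▸ Subgroup.mem_sup_left (Subgroup.mem_zpowers l)))
    obtain ⟨i, hi⟩ := IsPGroup.iff_card.1 ((IsPGroup.of_card (p := p) (G := Subgroup.zpowers z) (n := 1) (by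
      rw [Nat.card_zpowers, orderOf_eq_prime hzp hne, pow_one])))
    have hzc : Nat.card (Subgroup.zpowers z) = p := by rw [Nat.card_zpowers, orderOf_eq_prime hzp hne]
    have hUP : IsPGroup p U := fun u => by
      obtain ⟨i, j, hij⟩ := hmem u u.2
      refine ⟨1, Subtype.ext ?_⟩
      rw [Subgroup.coe_pow, Subgroup.coe_one, pow_one, hij, (hlz.zpow_zpow i j).mul_pow, ← zpow_natCast,
        ← zpow_mul, mul_comm, zpow_mul, zpow_natCast, hB.wexp l hl, one_zpow, one_mul, ← zpow_natCast,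
        ← zpow_mul, mul_comm, zpow_mul, zpow_natCast, hzp, one_zpow]
    obtain ⟨j, hj⟩ := IsPGroup.iff_card.1 hUP
    have h1 := lt_of_le_of_ne (Subgroup.card_le_of_le hlt.le)
      fun e => hlt.ne (Subgroup.eq_of_le_of_card_ge hlt.le e.ge)
    rw [hzc, hj] at h1
    have h1' : p ^ 1 < p ^ j := by rwa [pow_one]
    rw [hj]
    exact Nat.pow_le_pow_right hp.out.pos ((Nat.pow_lt_pow_iff_right hp.out.one_lt).1 h1')
  have hy : (⟨y, hyS⟩ : S) ∈ U.map f := by
    refine QdRankTwo.rank_three hr ?_ ?_ (by rwa [Subgroup.card_map_of_injective hf]) (Subtype.ext hyp) ?_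
    · rintro _ ⟨u, hu, rfl⟩ _ ⟨v, hv, rfl⟩
      obtain ⟨i, j, rfl⟩ := hmem u hu
      obtain ⟨i', j', rfl⟩ := hmem v hv
      rw [← map_mul, ← map_mul]
      refine congrArg f (Commute.eq ?_)
      exact (((Commute.refl l).zpow_zpow i i').mul_right (hlz.zpow_zpow i j')).mul_left
        (((hlz.zpow_zpow i' j).symm).mul_right ((Commute.refl z).zpow_zpow j j'))
    · rintro _ ⟨u, hu, rfl⟩
      obtain ⟨i, j, rfl⟩ := hmem u hu
      rw [← map_pow, (hlz.zpow_zpow i j).mul_pow, ← zpow_natCast, ← zpow_mul, mul_comm, zpow_mul,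
        zpow_natCast, hB.wexp l hl, one_zpow, one_mul, ← zpow_natCast, ← zpow_mul, mul_comm, zpow_mul,
        zpow_natCast, hzp, one_zpow, map_one]
    · rintro _ ⟨u, hu, rfl⟩
      obtain ⟨i, j, rfl⟩ := hmem u hu
      refine Subtype.ext ?_
      show ((l ^ i * z ^ j : E) : Ω) * y = y * ((l ^ i * z ^ j : E) : Ω)
      simp only [Subgroup.coe_mul, Subgroup.coe_zpow]
      exact (((show Commute (l : Ω) y from hyl.symm).zpow_left i).mul_left
        ((show Commute (z : Ω) y from (hyC z hzC).symm).zpow_left j)).eq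
  obtain ⟨u, -, hu⟩ := hy
  have e : (u : Ω) = y := congrArg Subtype.val hu
  exact hyE (e ▸ u.2)

/-- The extraspecial overgroup of a pearl cannot have a proper normalizer. -/
theorem no_extraspecial (hS : IsPGroup p S) (hF : F.IsSaturated p) (h5 : 5 ≤ p) (hr : Cfsg.PRankLE p 2 S)
    {E T : Subgroup Ω} (hT : T = normalizerIn S E) (hE : F.IsEssential p E) (hEc : Nat.card E = p ^ 2) (hTS : T < S)
    (hTc : Nat.card (T) = p ^ 3) (hTp : ∀ g : T, g ^ p = 1)
    (hTna : ∃ a b : T, a * b ≠ b * a) {τ : MulAut (T)}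
    (hτ : τ ∈ F.autGroup (T)) {m : T} (hmE : (m : Ω) ∈ E)
    (hmZ : m ∉ Subgroup.center (T)) (hτm : τ m = m ^ (((p + 1) / 2 : ℕ) : ℤ)) : False := by
  classical
  have h2 : p ≠ 2 := by omega
  obtain ⟨T', hTT', hT'n⟩ := exists_fullyNormalized F hTS.le
  haveI : Finite T' := finite_of_le hT'n.1
  obtain ⟨φ, hφ, hr'⟩ := hTT'
  set e := mapEquiv F hφ hr' with he
  have he' : T'.subtype.comp e.toMonoidHom ∈ F.Hom T := hom_congr F hφ fun x => rfl
  have hes : T.subtype.comp e.symm.toMonoidHom ∈ F.Hom T' := mapEquiv_symm_mem F hφ hr'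
  have hT'c : Nat.card T' = p ^ 3 := by rw [← hTc]; exact (Nat.card_congr e.toEquiv).symm
  have hT'p : ∀ g : T', g ^ p = 1 := fun g => by
    obtain ⟨x, rfl⟩ := e.surjective g
    rw [← map_pow, hTp, map_one]
  obtain ⟨a, b, hab⟩ := hTna
  obtain ⟨hB, hZc, hne⟩ := base_extraspecial hT'c hT'p
    ⟨e a, e b, fun h => hab (e.injective (by rw [map_mul, map_mul]; exact h))⟩
  set C := Subgroup.center T' with hC
  -- the image of `E`
  have hET : E ≤ T := hT ▸ le_normalizerIn hE.1.1
  set E' := (φ.comp (Subgroup.inclusion hET)).range with hE'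
  have hEE' : F.IsConj E E' := ⟨_, restrict_mem F hφ hET, rfl⟩
  have hE'C : centralizerIn S E' ≤ E' := hE.1.2 E' hEE'
  have hE'N : Nat.card (normalizerIn S E') ≤ p ^ 3 := hTc ▸ hT ▸ hE.2.1.2 E' hEE'
  have hE'T : E' ≤ T' := by
    rintro _ ⟨x, rfl⟩
    exact hr' ▸ ⟨_, rfl⟩
  have hE'c : Nat.card E' = p ^ 2 := by rw [← hEc]; exact (isConj_card hEE').symm
  haveI : Finite E' := finite_of_le (hE'T.trans hT'n.1)
  have hcen : centralizerIn S T' ≤ T' := fun g hg =>
    hE'T (hE'C ⟨hg.1, Subgroup.centralizer_le hE'T hg.2⟩)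
  have hT'S : T' < S := lt_of_le_of_ne hT'n.1 fun h => by
    have h1 : Nat.card S = p ^ 3 := h ▸ hT'c
    exact hTS.ne (Subgroup.eq_of_le_of_card_ge hTS.le (by rw [h1, hTc]))
  obtain ⟨l, -, hlC, hR⟩ := exists_fixed_line hB _ (autS_isPGroup hS T')
  have hK : ∀ γ ∈ F.autGroup T', quot (C := C) γ = 1 → γ ∈ Inn T' := by
    intro γ _ hγ
    obtain ⟨w, -, hind⟩ := hB.exists_indep (Subgroup.mem_top l) hlC
    obtain ⟨x, -, h1, h2'⟩ := inner_of_quot hB (Subgroup.mem_top l) hlC (Subgroup.mem_top w) hind hγ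
    refine ⟨x, ?_⟩
    have hle : Subgroup.closure ({l, w} : Set T') ≤
        MonoidHom.eqLocus (MulAut.conj x).toMonoidHom γ.toMonoidHom := by
      rw [Subgroup.closure_le]
      rintro v (rfl | rfl)
      · exact h1.symm
      · exact h2'.symm
    exact MulEquiv.ext fun v =>
      hle (hB.gen l trivial w trivial hlC hind (Subgroup.mem_top v))
  obtain ⟨g₀, hg₀, hg₀T⟩ := SetLike.exists_of_lt (lt_normalizerIn hS hT'S)
  obtain ⟨u, huR, hue⟩ := exists_conjAut (P := T') hg₀.1 hg₀.2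
  have huA : u ∈ F.autGroup T' := autInducedBy_le_autGroup F hT'n.1 huR
  have hu1 : quot (C := C) u ≠ 1 := fun h =>
    hg₀T (mem_of_conj_mem_inn (F := F) hcen hg₀.1 hT'n.1 hue (hK u huA h))
  obtain ⟨k, hk⟩ := autS_isPGroup hS T' ⟨u, huR⟩
  haveI : NeZero p := ⟨hp.out.ne_zero⟩
  set h : ℤ := (((p + 1) / 2 : ℕ) : ℤ) with hh
  have h2h : (2 : ZMod p) * (h : ZMod p) = 1 := by
    obtain ⟨i, hi⟩ := hp.out.odd_of_ne_two h2
    have e : (2 * h : ℤ) = (p : ℤ) + 1 := by rw [hh]; omega
    have e' := congrArg (fun x : ℤ => (x : ZMod p)) e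
    push_cast at e'
    rwa [ZMod.natCast_self, zero_add] at e'
  have hsmall : ∀ n : ℕ, 0 < n → n < p → (n : ZMod p) ≠ 0 := fun n h0 hn h => by
    have := Nat.le_of_dvd h0 ((ZMod.natCast_eq_zero_iff _ _).1 h)
    omega
  have h0 : (h : ZMod p) ≠ 0 := fun e => one_ne_zero (α := ZMod p) (by rw [← h2h, e, mul_zero])
  have h1 : (h : ZMod p) ≠ 1 := fun e => hsmall 1 one_pos (by omega) (by
    rw [e, mul_one] at h2h; push_cast; linear_combination h2h)
  have h11 : (h : ZMod p) * h ≠ 1 := fun e => hsmall 3 (by omega) (by omega) (by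
    have : (4 : ZMod p) * (h * h) = 1 := by linear_combination (2 * (h : ZMod p) + 1) * h2h
    rw [e, mul_one] at this; push_cast; linear_combination this)
  have hCp : ∀ c ∈ C, c ^ p = 1 := fun c _ => hT'p c
  obtain ⟨m', hind, t, htA, b', htl, htm, hb'⟩ : ∃ m' : T', (∀ i : ℤ, (l ^ i)⁻¹ * m' ∉ C) ∧
      ∃ t ∈ F.autGroup T', ∃ b' : ℤ, quot t (l : T' ⧸ C) = (l : T' ⧸ C) ^ b' ∧
        ((m' : T' ⧸ C) ^ h)⁻¹ * quot t (m' : T' ⧸ C) ∈ Subgroup.zpowers (l : T' ⧸ C) ∧
        (b' : ZMod p) ≠ 0 := by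
    by_cases hst : ∀ α ∈ F.autGroup T', quot α (l : T' ⧸ C) ∈ Subgroup.zpowers (l : T' ⧸ C)
    · set m' := e m with hm'
      have hm'E : (m' : Ω) ∈ E' := ⟨⟨m, hmE⟩, rfl⟩
      have hm'C : m' ∉ C := fun h => hmZ (Subgroup.mem_center_iff.2 fun g => e.injective (by
        rw [map_mul, map_mul]; exact Subgroup.mem_center_iff.1 h (e g)))
      have hZE' : ∀ c ∈ C, (c : Ω) ∈ E' := fun c hc => hE'C ⟨hT'n.1 c.2,
        Subgroup.mem_centralizer_iff.2 fun v hv =>
          congrArg Subtype.val (Subgroup.mem_center_iff.1 hc ⟨v, hE'T hv⟩)⟩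
      have hlE : (l : Ω) ∉ E' := by
        intro hlE
        have hUE : E'.subgroupOf T' = Subgroup.zpowers l ⊔ C := by
          refine (Subgroup.eq_of_le_of_card_ge (sup_le ((Subgroup.zpowers_le).2 (show l ∈ E'.subgroupOf T' from hlE)) (show C ≤ E'.subgroupOf T' from fun c hc => hZE' c hc)) ?_).symm
          rw [Nat.card_congr (Subgroup.subgroupOfEquivOfLe hE'T).toEquiv, hE'c]
          have hlt : C < Subgroup.zpowers l ⊔ C := lt_of_le_of_ne le_sup_right fun e' =>
            hlC (e' ▸ Subgroup.mem_sup_left (Subgroup.mem_zpowers l))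
          obtain ⟨i, hi⟩ := IsPGroup.iff_card.1
            ((IsPGroup.of_card hT'c).to_subgroup (Subgroup.zpowers l ⊔ C))
          have h1 := lt_of_le_of_ne (Subgroup.card_le_of_le hlt.le)
            fun e => hlt.ne (Subgroup.eq_of_le_of_card_ge hlt.le e.ge)
          rw [hZc, hi] at h1
          have h1' : p ^ 1 < p ^ i := by rwa [pow_one]
          rw [hi]
          exact Nat.pow_le_pow_right hp.out.pos ((Nat.pow_lt_pow_iff_right hp.out.one_lt).1 h1')
        have hNle : normalizerIn S T' ≤ normalizerIn S E' := by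
          intro g hg
          refine ⟨hg.1, mem_normalizer_of_conj_mem_finite fun v hv => ?_⟩
          obtain ⟨γ, hγR, hγ⟩ := exists_conjAut (P := T') hg.1 hg.2
          have hle : Subgroup.zpowers l ⊔ C ≤ (E'.subgroupOf T').comap γ.toMonoidHom := by
            refine sup_le ((Subgroup.zpowers_le).2 ?_) ?_
            · show γ l ∈ E'.subgroupOf T'
              rw [hUE, ← mul_inv_cancel_left l (γ l)]
              exact mul_mem (Subgroup.mem_sup_left (Subgroup.mem_zpowers l))
                (Subgroup.mem_sup_right (QuotientGroup.eq.1 (hR γ hγR).symm))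
            · intro c hc
              exact hUE.symm ▸ Subgroup.mem_sup_right
                ((Subgroup.characteristic_iff_le_comap.1 (inferInstance : C.Characteristic) γ) hc)
          have h3 := hle (hUE.le (show (⟨v, hE'T hv⟩ : T') ∈ E'.subgroupOf T' from hv))
          have h4 : ((γ ⟨v, hE'T hv⟩ : T') : Ω) ∈ E' := h3
          rwa [hγ] at h4
        haveI : Finite (normalizerIn S T') := finite_of_le (normalizerIn_le S T')
        haveI : Finite (normalizerIn S E') := finite_of_le (normalizerIn_le S E')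
        have h5' := (Subgroup.card_le_of_le hNle).trans hE'N
        have h6 := lt_normalizerIn hS hT'S
        have : Nat.card T' < Nat.card (normalizerIn S T') := lt_of_le_of_ne (Subgroup.card_le_of_le h6.le)
          fun e => h6.ne (Subgroup.eq_of_le_of_card_ge h6.le e.ge)
        omega
      have hlq : (l : T' ⧸ C) ≠ 1 := by rwa [Ne, QuotientGroup.eq_one_iff]
      refine ⟨m', fun i hi => ?_, MulAut.congr e τ, congr_mem_autGroup F e he' hes hτ, ?_⟩
      · have hli : ((l : Ω)) ^ i ∈ E' := by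
          have h1 := mul_mem hm'E (inv_mem (hZE' _ hi))
          simpa using h1
        by_cases hi0 : (i : ZMod p) = 0
        · apply hm'C
          rwa [zpow_congr (hT'p l) (j := 0) (by simpa using hi0), zpow_zero, inv_one, one_mul] at hi
        · obtain ⟨u', hu'⟩ := ZMod.intCast_surjective (i : ZMod p)⁻¹
          apply hlE
          have h2 := zpow_mem hli u'
          rwa [← zpow_mul, ← Subgroup.coe_zpow, zpow_congr (hT'p l) (j := 1) (by
            push_cast; rw [hu', mul_inv_cancel₀ hi0]), zpow_one] at h2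
      · obtain ⟨b', hb'⟩ := Subgroup.mem_zpowers_iff.1 (hst _ (congr_mem_autGroup F e he' hes hτ))
        refine ⟨b', hb'.symm, ?_, fun h0 => hlq ?_⟩
        · have hfix : MulAut.congr e τ m' = m' ^ h := by
            rw [congr_apply, hm', MulEquiv.symm_apply_apply, hτm, map_zpow]
          rw [quot_apply, hfix, QuotientGroup.mk_zpow, inv_mul_cancel]
          exact one_mem _
        · apply (quot (MulAut.congr e τ)).injective
          rw [map_one, ← hb', zpow_congr (hB.quot_exp _) (j := 0) (by simpa using h0), zpow_zero]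
    · push Not at hst
      obtain ⟨α, hα, hmove⟩ := hst
      obtain ⟨m', -, hind, ⟨t, htA, htl, htm⟩, -⟩ := exists_torus_frame hB h5 (F.autGroup T') hlC huA
        (hR u huR) (k := k) (congrArg Subtype.val hk) hu1 hα hmove
      refine ⟨m', hind, t, htA, 2, htl, ?_, ?_⟩
      · rw [htm, inv_mul_cancel]; exact one_mem _
      · have := hsmall 2 (by omega) (by omega)
        exact_mod_cast this
  obtain ⟨-, y, hy, hyT, hyp, hyl, hyC, -⟩ := RankTwoStep.step hS hF h5 hT'n hcen hT'S hB hK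
    (Subgroup.mem_top l) hlC (Subgroup.mem_top m') hind hR htA htl htm h0 hb' h1 h11 (Or.inr hCp)
  exact no_plane hr hT'n.1 hB (Subgroup.mem_top l) hlC (hne l m' hlC hind) hy.1 hyT hyp hyl hyC

end Cfsg.Agent.S5289Aux

namespace Cfsg.Agent.S5289

/-- Let p ≥ 5 be a prime and S a finite p-group of p-rank two (it has an elementary abelian subgroup of order p² and none of order p³) which is not the extraspecial group of order p³ and exponent p. Then S is resistant: for every saturated fusion system F over S, S is normal in F, that is, every map of F extends to an F-automorphism of S. -/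
theorem result {Ω : Type*} [Group Ω] {S : Subgroup Ω} [Finite S] (p : ℕ) [Fact p.Prime] (hS : IsPGroup p S)
    (F : Cfsg.FusionSystem S) (hF : F.IsSaturated p)
    (hp : 5 ≤ p)
    (hrank2 : ∃ E : Subgroup Ω, E ≤ S ∧ Cfsg.IsElementaryAbelian p E ∧ Nat.card E = p ^ 2)
    (hrank3 : ∀ E : Subgroup Ω, E ≤ S → Cfsg.IsElementaryAbelian p E → Nat.card E ≤ p ^ 2)
    (hnotE : ¬ (Nat.card S = p ^ 3 ∧ Monoid.exponent ↥S = p)) : F.IsNormal S := by
  classical
  have hpp : p.Prime := Fact.out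
  have h2 : p ≠ 2 := by omega
  have hr : Cfsg.PRankLE p 2 S := fun A hA hAp => by
    rw [← Subgroup.card_map_of_injective (K := A) S.subtype_injective]
    refine hrank3 _ (Subgroup.map_subtype_le A) ⟨?_, ?_⟩
    · haveI := hA
      infer_instance
    · rintro _ ⟨a, ha, rfl⟩
      rw [← map_pow, hAp a ha, map_one]
  refine isNormal_of_le hS hF (stronglyClosed_self F) fun P hP => ?_
  exfalso
  have hPS := hP.1.1
  haveI : Finite P := finite_of_le hPS
  have hlt := essential_lt hS hF hP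
  have hcen := centralizerIn_le_of_centric hP.1
  have hPp : IsPGroup p P := hS.to_le hPS
  have hA := not_isPGroup_commutator_autGroup hS hF hP
  have hrP : Cfsg.PRankLE p 2 P := fun A hA' hAp => by
    rw [← Subgroup.card_map_of_injective (K := A) (Subgroup.inclusion_injective hPS)]
    haveI := hA'
    exact hr _ inferInstance (by rintro _ ⟨a, ha, rfl⟩; rw [← map_pow, hAp a ha, map_one])
  have hrad : ∀ R : Subgroup (F.autGroup P), R.Normal → IsPGroup p R → ∀ r ∈ R, (r : MulAut P) ∈ Inn P :=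
    fun R hRn hRp r hr' => (essential_radical hS hF hP).2.le ⟨r, Cfsg.Agent.PBasic.le_pCore hRn hRp hr', rfl⟩
  obtain ⟨g₀, hg₀, hg₀P⟩ := SetLike.exists_of_lt (lt_normalizerIn hS hlt)
  obtain ⟨u, huR, hue⟩ := exists_conjAut (P := P) hg₀.1 hg₀.2
  have huA : u ∈ F.autGroup P := autInducedBy_le_autGroup F hPS huR
  have huI : u ∉ Inn P := fun h => hg₀P (mem_of_conj_mem_inn (F := F) hcen hg₀.1 hPS hue h)
  obtain ⟨k, hk⟩ := S5289Aux.autS_isPGroup hS P ⟨u, huR⟩
  have hk' : u ^ p ^ k = 1 := congrArg Subtype.val hk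
  haveI : Finite (MulAut P) := Finite.of_injective (fun e => (e : P → P)) DFunLike.coe_injective
  -- the frame
  have key : ∀ (C W : Subgroup P) (_ : C.Characteristic) (hB : PlaneFrame.Base p C W), ∃ l ∈ W, ∃ m ∈ W,
      l ∉ C ∧ (∀ i : ℤ, (l ^ i)⁻¹ * m ∉ C) ∧ ∃ t ∈ F.autGroup P,
        PlaneFrame.quot t (m : P ⧸ C) = (m : P ⧸ C) ^ (((p + 1) / 2 : ℕ) : ℤ) ∧
      (∃ ψ ∈ F.Hom (normalizerIn S P), (∀ g, ψ g ∈ normalizerIn S P) ∧
        ∀ (x : P) (hx : (x : Ω) ∈ normalizerIn S P), ψ ⟨x, hx⟩ = ((t x : P) : Ω)) ∧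
      ∃ y ∈ normalizerIn S P, y ∉ P ∧ y ^ p = 1 ∧ y * (l : Ω) = (l : Ω) * y ∧
        (∀ c ∈ C, y * (c : Ω) = (c : Ω) * y) ∧ ∀ g ∈ normalizerIn S P, ∃ i : ℤ, g * (y ^ i)⁻¹ ∈ P := by
    intro C W _ hB
    obtain ⟨l, hl, hlC, hR⟩ := RankTwoEss.exists_fixed_line hB _ (S5289Aux.autS_isPGroup hS P)
    have hK : ∀ γ ∈ F.autGroup P, PlaneFrame.quot (C := C) γ = 1 → γ ∈ Inn P := by
      intro γ hγ hγ1
      refine hrad ((PlaneFrame.quot (C := C)).ker.subgroupOf _) (Subgroup.Normal.subgroupOf inferInstance _) ?_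
        ⟨γ, hγ⟩ (Subgroup.mem_subgroupOf.2 (MonoidHom.mem_ker.2 hγ1))
      intro x
      have hx : PlaneFrame.quot (C := C) ((x : F.autGroup P) : MulAut P) = 1 :=
        MonoidHom.mem_ker.1 (Subgroup.mem_subgroupOf.1 x.2)
      obtain ⟨k', hk'⟩ := hB.isPGroup_trans h2 hPp hl hlC
        ⟨((x : F.autGroup P) : MulAut P), PlaneFrame.mem_trans.2 ⟨by rw [hx]; rfl, fun v => by
          rw [hx, MulAut.one_apply, inv_mul_cancel]; exact one_mem _⟩⟩
      refine ⟨k', Subtype.ext (Subtype.ext ?_)⟩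
      simpa using congrArg Subtype.val hk'
    obtain ⟨α, hα, hmove⟩ : ∃ α ∈ F.autGroup P, PlaneFrame.quot α (l : P ⧸ C) ∉
        Subgroup.zpowers (l : P ⧸ C) := by
      by_contra hcon
      push Not at hcon
      exact hA (hB.isPGroup_commutator h2 hPp hl hlC _ hcon)
    obtain ⟨m, hm, hind, ⟨t, htA, htl, htm⟩, -⟩ := RankTwoEss.exists_torus_frame hB hp (F.autGroup P) hlC
      huA (hR u huR) (k := k) hk' (fun h => huI (hK u huA h)) hα hmove
    haveI : NeZero p := ⟨hpp.ne_zero⟩
    set h : ℤ := (((p + 1) / 2 : ℕ) : ℤ) with hh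
    have h2h : (2 : ZMod p) * (h : ZMod p) = 1 := by
      obtain ⟨i, hi⟩ := hpp.odd_of_ne_two h2
      have e : (2 * h : ℤ) = (p : ℤ) + 1 := by rw [hh]; omega
      have e' := congrArg (fun x : ℤ => (x : ZMod p)) e
      push_cast at e'
      rwa [ZMod.natCast_self, zero_add] at e'
    have hsmall : ∀ n : ℕ, 0 < n → n < p → (n : ZMod p) ≠ 0 := fun n h0 hn h => by
      have := Nat.le_of_dvd h0 ((ZMod.natCast_eq_zero_iff _ _).1 h)
      omega
    obtain ⟨hψ, hy⟩ := RankTwoStep.step hS hF hp hP.2.1 hcen hlt hB hK hl hlC hm hind hR htA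
      (a := h) (b := 2) htl (by rw [htm, inv_mul_cancel]; exact one_mem _)
      (fun e => one_ne_zero (α := ZMod p) (by rw [← h2h, e, mul_zero]))
      (fun e => hsmall 2 (by omega) (by omega) (by exact_mod_cast e))
      (fun e => hsmall 1 one_pos (by omega) (by rw [e, mul_one] at h2h; push_cast; linear_combination h2h))
      (fun e => hsmall 3 (by omega) (by omega) (by
        have : (4 : ZMod p) * (h * h) = 1 := by linear_combination (2 * (h : ZMod p) + 1) * h2h
        rw [e, mul_one] at this; push_cast; linear_combination this))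
      (Or.inl fun e => hsmall 3 (by omega) (by omega) (by
        push_cast at e; rw [e] at h2h; push_cast; linear_combination h2h))
    exact ⟨l, hl, m, hm, hlC, hind, t, htA, htm, hψ, hy⟩
  rcases RankTwoEss.structure_of_aut hp hPp hrP (F.autGroup P) hA (inn_le_autGroup F hPS) hrad
    ⟨u, huA, huI, k, hk'⟩ with ⟨hab, hfr⟩ | ⟨C, W, hchar, hB, hne⟩
  swap
  · obtain ⟨l, hl, m, hm, hlC, hind, -, -, -, -, y, hy, hyP, hyp, hyl, hyC, -⟩ := key C W hchar hB
    exact S5289Aux.no_plane hr hPS hB hl hlC (hne l hl m hm hlC hind) hy.1 hyP hyp hyl hyC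
  -- the pearl
  have hel : Cfsg.IsElementaryAbelian p P ∧ Nat.card P = p ^ 2 := by
    rcases Cfsg.Agent.S5187.result p hS F hF P hP ⟨⟨hab⟩⟩ hfr with h | ⟨h3, -⟩
    · exact h
    · omega
  obtain ⟨hel, hPc⟩ := hel
  have hPexp : ∀ x : P, x ^ p = 1 := fun x => Subtype.ext (hel.2 _ x.2)
  have hB := RankTwoEss.base_elementary hPc hPexp
  set T := normalizerIn S P with hT
  obtain ⟨l, -, m, -, hlC, hind, t, -, htm, ⟨ψ, hψ, hψN, hψe⟩, y, hy, hyP, hyp, hyl, -, hcov⟩ :=
    key ⊥ ⊤ inferInstance hB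
  have hPT : P ≤ T := le_normalizerIn hPS
  haveI : Finite T := finite_of_le (normalizerIn_le S P)
  set yT : T := ⟨y, hy⟩
  set lT : T := ⟨l, hPT l.2⟩
  set mT : T := ⟨m, hPT m.2⟩
  have hspan : ∀ x : P, ∃ i j : ℤ, x = l ^ i * m ^ j := by
    intro x
    letI := PlaneFrame.commGroupQuot hB
    obtain ⟨i, j, hij⟩ := PlaneFrame.span hB.quot_card ((PlaneFrame.indep_iff l m).2 ⟨hlC, hind⟩)
      (x : P ⧸ (⊥ : Subgroup P))
    rw [← QuotientGroup.mk_zpow, ← QuotientGroup.mk_zpow, ← QuotientGroup.mk_mul] at hij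
    exact ⟨i, j, inv_mul_eq_one.1 (Subgroup.mem_bot.1 (QuotientGroup.eq.1 hij))⟩
  have hlm : Commute lT mT := Subtype.ext (congrArg (fun x : P => (x : Ω)) (hab l m))
  have hyl' : Commute yT lT := Subtype.ext hyl
  have hym : yT * mT ≠ mT * yT := by
    intro h
    refine hyP (hcen ⟨hy.1, Subgroup.mem_centralizer_iff.2 fun v hv => ?_⟩)
    obtain ⟨i, j, hij⟩ := hspan ⟨v, hv⟩
    have h' : Commute (lT ^ i * mT ^ j) yT :=
      (hyl'.symm.zpow_left i).mul_left ((show Commute mT yT from h.symm).zpow_left j)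
    rw [show v = ((lT ^ i * mT ^ j : T) : Ω) by
      rw [show v = ((⟨v, hv⟩ : P) : Ω) from rfl, hij]; rfl]
    exact congrArg Subtype.val h'.eq
  have hTc : Nat.card T = p ^ 3 := by
    have hyo : Nat.card (Subgroup.zpowers y) = p := by
      rw [Nat.card_zpowers, orderOf_eq_prime hyp fun h => hyP (h ▸ one_mem P)]
    haveI : Finite (Subgroup.zpowers y) := Nat.finite_of_card_ne_zero (by rw [hyo]; exact hpp.ne_zero)
    have hle : Nat.card T ≤ p ^ 3 := by
      let f : P × Subgroup.zpowers y → T := fun x => ⟨(x.1 : Ω) * x.2,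
        mul_mem (hPT x.1.2) ((Subgroup.zpowers_le).2 hy x.2.2)⟩
      have hf : Function.Surjective f := fun g => by
        obtain ⟨i, hi⟩ := hcov g g.2
        exact ⟨(⟨_, hi⟩, ⟨y ^ i, i, rfl⟩), Subtype.ext (inv_mul_cancel_right _ _)⟩
      have := Nat.card_le_card_of_surjective f hf
      rwa [Nat.card_prod, hPc, hyo, ← pow_succ] at this
    obtain ⟨j, hj⟩ := IsPGroup.iff_card.1 (hS.to_le (normalizerIn_le S P))
    rw [← hT] at hj
    have hltT : P < T := lt_of_le_of_ne hPT fun e => hyP (e ▸ hy)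
    have h1 := lt_of_le_of_ne (Subgroup.card_le_of_le hltT.le)
      fun e => hltT.ne (Subgroup.eq_of_le_of_card_ge hltT.le e.ge)
    rw [hPc, hj] at h1
    have := (Nat.pow_lt_pow_iff_right hpp.one_lt).1 h1
    exact le_antisymm hle (hj ▸ Nat.pow_le_pow_right hpp.pos (by omega))
  have hTp : ∀ g : T, g ^ p = 1 := by
    intro g
    obtain ⟨i, hi⟩ := hcov g g.2
    obtain ⟨a, b, hab'⟩ := hspan ⟨_, hi⟩
    have hg : g = lT ^ a * (mT ^ b * yT ^ i) := by
      refine Subtype.ext ?_
      have h1 := congrArg (fun x : P => (x : Ω)) hab'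
      simp only [Subgroup.coe_mul, Subgroup.coe_zpow] at h1 ⊢
      rw [← mul_assoc, ← h1, inv_mul_cancel_right]
    have hyp' : yT ^ p = 1 := Subtype.ext hyp
    have hlp : lT ^ p = 1 := Subtype.ext (hel.2 _ l.2)
    have hmp : mT ^ p = 1 := Subtype.ext (hel.2 _ m.2)
    -- commutators are central
    have hidx : ∀ x y : T, ⁅x, y⁆ ∈ Subgroup.center T := by
      haveI : Nontrivial T := ⟨⟨yT * mT, mT * yT, hym⟩⟩
      have hTP : IsPGroup p T := IsPGroup.of_card hTc
      set Z := Subgroup.center T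
      have hlZ : lT ∈ Z := by
        refine Subgroup.mem_center_iff.2 fun w => ?_
        obtain ⟨i', hi'⟩ := hcov w w.2
        obtain ⟨a', b', hab''⟩ := hspan ⟨_, hi'⟩
        have hw : w = lT ^ a' * (mT ^ b' * yT ^ i') := by
          refine Subtype.ext ?_
          have h1 := congrArg (fun x : P => (x : Ω)) hab''
          simp only [Subgroup.coe_mul, Subgroup.coe_zpow] at h1 ⊢
          rw [← mul_assoc, ← h1, inv_mul_cancel_right]
        rw [hw]
        exact (((Commute.refl lT).zpow_left a').mul_left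
          ((hlm.symm.zpow_left b').mul_left (hyl'.zpow_left i'))).eq
      have hl1 : lT ≠ 1 := fun h => hlC (Subgroup.mem_bot.2 (Subtype.ext (congrArg Subtype.val h :)))
      have hZge : p ≤ Nat.card Z := by
        rw [← orderOf_eq_prime hlp hl1, ← Nat.card_zpowers]
        exact Subgroup.card_le_of_le ((Subgroup.zpowers_le).2 hlZ)
      obtain ⟨j, hj⟩ := hTP.index Z
      have hjle : j ≤ 2 := by
        have h1 := Z.card_mul_index
        rw [hj, hTc] at h1
        have h2' : p * p ^ j ≤ p * p ^ 2 := by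
          rw [← pow_succ' p 2, ← h1]
          exact Nat.mul_le_mul_right _ hZge
        exact (Nat.pow_le_pow_iff_right hpp.one_lt).1 (Nat.le_of_mul_le_mul_left h2' hpp.pos)
      intro x y'
      rw [← QuotientGroup.eq_one_iff, ← QuotientGroup.mk'_apply, map_commutatorElement,
        commutatorElement_eq_one_iff_mul_comm]
      have hQ : Nat.card (T ⧸ Z) = p ^ j := by rw [← Subgroup.index_eq_card, hj]
      interval_cases j
      · haveI := (Nat.card_eq_one_iff_unique.1 (hQ.trans (pow_zero p))).1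
        exact Subsingleton.elim _ _
      · haveI : IsCyclic (T ⧸ Z) := isCyclic_of_prime_card (hQ.trans (pow_one p))
        exact (IsCyclic.commutative (α := T ⧸ Z)).is_comm.comm _ _
      · letI := IsPGroup.commGroupOfCardEqPrimeSq hQ
        exact mul_comm _ _
    have hpow : ∀ a b : T, a ^ p = 1 → b ^ p = 1 → (a * b) ^ p = 1 := by
      intro a b ha hb
      set z := ⁅b⁻¹, a⁻¹⁆ with hz
      have hba : b * a = a * b * z := by rw [hz, commutatorElement_def]; group
      have hza : Commute z a := (Subgroup.mem_center_iff.1 (hidx _ _) a).symm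
      have hzb : Commute z b := (Subgroup.mem_center_iff.1 (hidx _ _) b).symm
      have hzp : z ^ p = 1 := by
        have h1 := LEOmega.pow_mul_swap hba hzb p
        rw [hb, one_mul, mul_one] at h1
        exact left_eq_mul.1 h1
      obtain ⟨q, hq⟩ : p ∣ p.choose 2 := hpp.dvd_choose_self two_ne_zero (by omega)
      rw [LEOmega.mul_pow_class_two hba hza hzb p, ha, hb, one_mul, one_mul, hq, pow_mul, hzp, one_pow]
    have hzp : ∀ (x : T) (e : ℤ), x ^ p = 1 → (x ^ e) ^ p = 1 := fun x e hx => by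
      rw [← zpow_natCast, ← zpow_mul, mul_comm, zpow_mul, zpow_natCast, hx, one_zpow]
    rw [hg]
    exact hpow _ _ (hzp _ a hlp) (hpow _ _ (hzp _ b hmp) (hzp _ i hyp'))
  by_cases hTS : T = S
  · refine hnotE ⟨hTS ▸ hTc, Nat.dvd_antisymm ?_ ?_⟩
    · exact Monoid.exponent_dvd_of_forall_pow_eq_one fun g =>
        Subtype.ext (by simpa using congrArg Subtype.val (hTp ⟨(g : Ω), hTS.symm.le g.2⟩))
    · have h1 : orderOf (⟨y, hy.1⟩ : S) = p :=
        orderOf_eq_prime (Subtype.ext hyp) fun h => hyP (by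
          have h' : y = 1 := congrArg Subtype.val h
          rw [h']; exact one_mem P)
      exact h1 ▸ Monoid.order_dvd_exponent _
  -- the extension of the torus element
  let ψT : T →* T := ψ.codRestrict T hψN
  have hbij : Function.Bijective ψT := Finite.injective_iff_bijective.1 fun a b h =>
    F.injective_of_mem hψ (congrArg Subtype.val h)
  set τ : MulAut T := MulEquiv.ofBijective ψT hbij with hτdef
  have hτ : τ ∈ F.autGroup T :=
    (mem_autGroup_iff F (normalizerIn_le S P) τ).2 (hom_congr F hψ fun x => rfl)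
  have htm' : t m = m ^ (((p + 1) / 2 : ℕ) : ℤ) := by
    rw [← QuotientGroup.mk_zpow, PlaneFrame.quot_apply] at htm
    exact inv_mul_eq_one.1 (Subgroup.mem_bot.1 (QuotientGroup.eq.1 htm))
  refine S5289Aux.no_extraspecial hS hF hp hr (T := T) rfl hP hPc (lt_of_le_of_ne (normalizerIn_le S P) hTS) hTc hTp
    ⟨yT, mT, hym⟩ hτ (m := mT) m.2 (fun h => hym (Subgroup.mem_center_iff.1 h yT)) (Subtype.ext ?_)
  show ψ mT = _
  rw [hψe m (hPT m.2), htm']
  rfl

end Cfsg.Agent.S5289
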