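import Cfsg.Statements.S5290
import Cfsg.Agent.Lib.Fusion.Normal
import Cfsg.Agent.Lib.Fusion.Abelian

set_option autoImplicit false
open Cfsg

namespace Cfsg.Agent.S5290

open Cfsg.Agent.FusionSys

/-- Let F be a saturated fusion system over a finite p-group S and Q a subgroup of S. Then Q is normal in F (F = N_F(Q)) if and only if the inner fusion system of Q, consisting of the conjugations by elements of Q on subgroups of Q, is a weakly normal subsystem of F (both saturated, Q strongly closed, invariant under F-conjugation, with the Frattini property). -/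
theorem result {Ω : Type*} [Group Ω] {S : Subgroup Ω} [Finite S] (p : ℕ) [Fact p.Prime] (hS : IsPGroup p S)
    (F : Cfsg.FusionSystem S) (hF : F.IsSaturated p)
    (Q : Subgroup Ω) (hQ : Q ≤ S) :
    F.IsNormal Q ↔ (Cfsg.innerFusionSystem Q).IsWeaklyNormalIn F p := by
  have := finite_of_le hQ
  constructor
  · intro h
    refine ⟨?_, hF, fun P φ hφ => ?_, isNormal_stronglyClosed h, fun P hPQ φ hφ α hα => ?_,
      fun P hPQ φ hφ => ?_⟩
    · exact innerFusionSystem_saturated (hS.to_le hQ)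
    · obtain ⟨hP, g, hg, he⟩ := hφ
      exact hom_congr F (F.conj_mem (hP.trans hQ) (hQ hg)) he
    · obtain ⟨hP', g, hg, he⟩ := hφ
      refine ⟨conjHom _ ((α ⟨g, hg⟩ : Q) : Ω), (Cfsg.innerFusionSystem Q).conj_mem ?_ (α _).2, fun x hφx hαx => ?_⟩
      · rintro _ ⟨y, -, rfl⟩; exact (α y).2
      · show ((α ⟨g, hg⟩ : Q) : Ω) * ((α ⟨x, hPQ x.2⟩ : Q) : Ω) * ((α ⟨g, hg⟩ : Q) : Ω)⁻¹ = _
        rw [← Subgroup.coe_inv, ← Subgroup.coe_mul, ← Subgroup.coe_mul, ← map_inv, ← map_mul, ← map_mul]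
        exact congrArg (fun z : Q => ((α z : Q) : Ω)) (Subtype.ext (he x).symm)
    · obtain ⟨α, hα, hae⟩ := exists_aut_of_isNormal h hPQ hφ
      refine ⟨α, hα, conjHom P 1, (Cfsg.innerFusionSystem Q).conj_mem hPQ Q.one_mem, fun x hx => ?_⟩
      rw [← hae x]
      exact congrArg (fun z : Q => ((α z : Q) : Ω)) (Subtype.ext (show (x : Ω) = 1 * x * 1⁻¹ by simp))
  · rintro ⟨-, -, -, -, -, hfr⟩
    refine (isNormal_iff_restrict hS hF hQ).2 fun P hPQ φ hφ => ?_
    obtain ⟨α, hα, φ₀, ⟨hP, g, hg, he⟩, hφe⟩ := hfr P hPQ φ hφ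
    obtain ⟨c, hc, hce⟩ := exists_conjAut (hQ hg) (Subgroup.le_normalizer hg : g ∈ Subgroup.normalizer (Q : Set Ω))
    refine ⟨α * c, Subgroup.mul_mem _ hα (autInducedBy_le_autGroup F hQ hc), fun x => ?_⟩
    rw [hφe x (he x ▸ Q.mul_mem (Q.mul_mem hg (hPQ x.2)) (Q.inv_mem hg)), MulAut.mul_apply]
    exact congrArg (fun z : Q => ((α z : Q) : Ω)) (Subtype.ext ((hce _).trans (he x).symm))

end Cfsg.Agent.S5290
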