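import Cfsg.Statements.S5291
import Cfsg.Agent.Lib.Fusion.Normal

set_option autoImplicit false
open Cfsg

namespace Cfsg.Agent.S5291

open Cfsg.Agent.FusionSys Cfsg.FusionSystem

variable {Ω : Type*} [Group Ω]

/-- The image of a subgroup of `T` under an automorphism of `T`. -/
abbrev img {T : Subgroup Ω} (α : MulAut T) (R : Subgroup Ω) : Subgroup Ω :=
  (R.subgroupOf T).map (T.subtype.comp α.toMonoidHom)

theorem mem_img {T : Subgroup Ω} {α : MulAut T} {R : Subgroup Ω} (hR : R ≤ T) {r : Ω} (hr : r ∈ R) :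
    ((α ⟨r, hR hr⟩ : T) : Ω) ∈ img α R :=
  ⟨⟨r, hR hr⟩, hr, rfl⟩


/-- Let F be a saturated fusion system over a finite p-group S and E a weakly normal subsystem of F over a subgroup T. Suppose a subgroup R of T is normal in E (E = N_E(R)), and let R* be the subgroup of T generated by the images of R under all maps of F with source R. Then R* is normal in F (F = N_F(R*)). -/
theorem result {Ω : Type*} [Group Ω] {S : Subgroup Ω} [Finite S] (p : ℕ) [Fact p.Prime] (hS : IsPGroup p S)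
    (F : Cfsg.FusionSystem S) (hF : F.IsSaturated p)
    {T : Subgroup Ω} (E : Cfsg.FusionSystem T) (hE : E.IsWeaklyNormalIn F p)
    (R : Subgroup Ω) (hR : E.IsNormal R) :
    F.IsNormal (Subgroup.closure {x : Ω | ∃ φ ∈ F.Hom R, ∃ r : R, x = φ r}) := by
  classical
  obtain ⟨hEs, -, hsub, hTc, hAI, hFr⟩ := hE
  have hTS := hTc.1
  haveI := finite_of_le hTS
  have hTp : IsPGroup p T := hS.to_le hTS
  have hRT := hR.1
  haveI := finite_of_le (hRT.trans hTS)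
  set Rs := Subgroup.closure {x : Ω | ∃ φ ∈ F.Hom R, ∃ r : R, x = φ r} with hRs
  -- images of `R` under automorphisms of `T` are normal in `E`
  have himg : ∀ α ∈ F.autGroup T, E.IsNormal (img α R) := by
    intro α hα
    have hle : img α R ≤ T := by rintro _ ⟨x, -, rfl⟩; exact (α x).2
    refine (isNormal_iff_restrict hTp hEs hle).2 fun P hP φ hφ => ?_
    have hPT := hP.trans hle
    obtain ⟨χ, hχ, hχe⟩ := hAI P hPT φ hφ α⁻¹ (Subgroup.inv_mem _ hα)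
    have hback : img α⁻¹ P ≤ R := by
      rintro _ ⟨⟨y, hy⟩, hyP, rfl⟩
      obtain ⟨r, hr, hry⟩ := hP hyP
      show ((α⁻¹ ⟨y, hy⟩ : T) : Ω) ∈ R
      rw [show (⟨y, hy⟩ : T) = α r from Subtype.ext hry.symm,
        show α⁻¹ (α r) = r from α.symm_apply_apply r]
      exact hr
    obtain ⟨β, hβ, hβe⟩ := exists_aut_of_isNormal hR hback hχ
    rw [mem_autGroup_iff E hRT] at hβ
    obtain ⟨γ, hγ, hγe⟩ := hAI R hRT _ hβ α hα
    have hrange : γ.range = img α R := by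
      haveI := finite_of_le (hle.trans hTS)
      refine Subgroup.eq_of_le_of_card_ge ?_ (isConj_card (⟨γ, hγ, rfl⟩ : E.IsConj _ _)).le
      rintro _ ⟨⟨_, ⟨x, hx, rfl⟩⟩, rfl⟩
      have h1 := hγe ⟨x, hx⟩ (hRT (β ⟨x, hx⟩).2) ⟨x, hx, rfl⟩
      exact h1 ▸ mem_img hRT (β ⟨x, hx⟩).2
    obtain ⟨δ, hδ, hδe⟩ := exists_autGroup_of_range E hγ hrange
    refine ⟨δ, hδ, fun x => ?_⟩
    rw [hδe]
    have hu : ((α⁻¹ ⟨x, hPT x.2⟩ : T) : Ω) ∈ img α⁻¹ P := mem_img hPT x.2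
    have e0 : α ⟨(α⁻¹ ⟨x, hPT x.2⟩ : T), hRT (hback hu)⟩ = ⟨x, hPT x.2⟩ :=
      α.apply_symm_apply ⟨x, hPT x.2⟩
    have h1 := hγe ⟨_, hback hu⟩ (hRT (β ⟨_, hback hu⟩).2) (e0.symm ▸ (hP x.2 : (x : Ω) ∈ img α R))
    refine Eq.trans (apply_congr γ (congrArg Subtype.val e0).symm _ _) (h1.trans ?_)
    have hφT : φ x ∈ T := hom_apply_mem E hφ x
    have h2 : ((β ⟨_, hback hu⟩ : R) : Ω) = ((α⁻¹ ⟨φ x, hφT⟩ : T) : Ω) :=
      (hβe ⟨_, hu⟩).trans (hχe x hφT hu)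
    refine (congrArg (fun z : T => ((α z : T) : Ω)) (Subtype.ext h2 : (⟨_, hRT (β ⟨_, hback hu⟩).2⟩ : T) = α⁻¹ ⟨φ x, hφT⟩)).trans ?_
    exact congrArg Subtype.val (α.apply_symm_apply ⟨φ x, hφT⟩)
  -- the closure is their join
  have hweak : ∀ φ₀ ∈ E.Hom R, φ₀.range = R :=
    (stronglyClosed_weaklyClosed (isNormal_stronglyClosed hR)).2
  have heq : Rs = sSup ((fun α => img α R) '' (F.autGroup T : Set (MulAut T))) := by
    refine le_antisymm ((Subgroup.closure_le _).2 ?_) (sSup_le ?_)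
    · rintro _ ⟨φ, hφ, r, rfl⟩
      obtain ⟨α, hα, φ₀, hφ₀, he⟩ := hFr R hRT φ hφ
      rw [he r (hom_apply_mem E hφ₀ r)]
      exact le_sSup (a := img α R) (Set.mem_image_of_mem (fun α => img α R) hα) (mem_img hRT ((hweak φ₀ hφ₀).le ⟨r, rfl⟩))
    · rintro _ ⟨α, hα, rfl⟩ _ ⟨⟨x, hx⟩, hxR, rfl⟩
      exact Subgroup.subset_closure ⟨_, restrict_mem F ((mem_autGroup_iff F hTS α).1 hα) hRT, ⟨x, hxR⟩, rfl⟩
  have hEn : E.IsNormal Rs := by
    rw [heq]
    exact sSup_induction_finite (p := fun Q => E.IsNormal Q) ((Set.toFinite _).image _) (isNormal_bot E)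
      (fun a b ha hb => isNormal_sup ha hb) (by rintro _ ⟨α, hα, rfl⟩; exact himg α hα)
  have hRsT := hEn.1
  haveI := finite_of_le (hRsT.trans hTS)
  have hinv : ∀ α ∈ F.autGroup T, ∀ (x : Ω) (hx : x ∈ Rs), ((α ⟨x, hRsT hx⟩ : T) : Ω) ∈ Rs := by
    intro α hα x hx
    have hle : Rs.subgroupOf T ≤ (Rs.subgroupOf T).comap α.toMonoidHom := by
      rw [← Subgroup.map_le_iff_le_comap]
      have : Rs.subgroupOf T = Subgroup.closure {y : T | ∃ φ ∈ F.Hom R, ∃ r : R, (y : Ω) = φ r} := by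
        apply Subgroup.map_injective T.subtype_injective
        rw [Subgroup.subgroupOf_map_subtype, inf_eq_left.2 hRsT, MonoidHom.map_closure, hRs]
        congr 1
        ext z
        constructor
        · rintro ⟨φ, hφ, r, rfl⟩
          exact ⟨⟨φ r, hTc.2 R hRT φ hφ r⟩, ⟨φ, hφ, r, rfl⟩, rfl⟩
        · rintro ⟨y, hy, rfl⟩; exact hy
      conv_lhs => rw [this, MonoidHom.map_closure]
      rw [Subgroup.closure_le]
      rintro _ ⟨y, ⟨φ, hφ, r, hy⟩, rfl⟩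
      have hφT : ∀ r : R, φ r ∈ T := hTc.2 R hRT φ hφ
      refine Subgroup.subset_closure ⟨_, F.comp_mem hφ ((mem_autGroup_iff F hTS α).1 hα) hφT, r, ?_⟩
      exact congrArg (fun z : T => ((α z : T) : Ω)) (Subtype.ext hy)
    exact hle (show (⟨x, hRsT hx⟩ : T) ∈ Rs.subgroupOf T from hx)
  refine (isNormal_iff_restrict hS hF (hRsT.trans hTS)).2 fun P hP φ hφ => ?_
  obtain ⟨α, hα, φ₀, hφ₀, he⟩ := hFr P (hP.trans hRsT) φ hφ
  obtain ⟨β, hβ, hβe⟩ := exists_aut_of_isNormal hEn hP hφ₀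
  have hb := hsub Rs ((mem_autGroup_iff E hRsT β).1 hβ)
  have hc := F.comp_mem hb (restrict_mem F ((mem_autGroup_iff F hTS α).1 hα) hRsT) fun x => (β x).2
  obtain ⟨γ, hγ, hγe⟩ := exists_autGroup_of_range F hc (Subgroup.eq_of_le_of_card_ge
    (by rintro _ ⟨x, rfl⟩; exact hinv α hα _ (β x).2) (isConj_card ⟨_, hc, rfl⟩).le)
  refine ⟨γ, hγ, fun x => ?_⟩
  rw [hγe, he x (hom_apply_mem E hφ₀ x)]
  exact congrArg (fun z : T => ((α z : T) : Ω)) (Subtype.ext (hβe x))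

end Cfsg.Agent.S5291
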