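import Cfsg.Statements.S5292
import Cfsg.Agent.Lib.Fusion.Model
import Cfsg.Agent.Lib.Fusion.ModelFacts
import Cfsg.Agent.Lib.Fusion.RealizerQuotient
import Cfsg.Agent.Lib.PLocal.PSolvable
import Cfsg.Agent.Lib.Solvable.HHThmB
open Cfsg Cfsg.FusionSystem Cfsg.Agent.FusionSys

set_option autoImplicit false
universe u
open Cfsg

namespace Cfsg.Agent.S5292

/-- In a model the largest normal subgroup of the system is the preimage of `O_p`. -/
theorem core_eq {Ω : Type u} [Group Ω] {S : Subgroup Ω} [Finite S] {p : ℕ} [Fact p.Prime] (hS : IsPGroup p S)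
    {F : FusionSystem S} {G : Type u} [Group G] {ι : S →* G} (hM : F.IsModel p G ι) :
    F.core = preim ι (Cfsg.pCore p G) := by
  haveI := hM.1
  refine le_antisymm (sSup_le fun Q hQ => ?_) (le_sSup (model_centricNormal hM).normal)
  intro q hq
  refine (mem_preim (x := ⟨q, hQ.1 hq⟩)).2 ?_
  have hn : ((Q.comap S.subtype).map ι).Normal := ⟨by
    rintro _ ⟨s, hs, rfl⟩ g
    obtain ⟨q', hq', hqe⟩ := model_conj_mem hM hQ g (q := s) hs
    exact ⟨q', hq', hqe⟩⟩
  exact Cfsg.Agent.AxB.le_pCore hn ((hS.to_subgroup _).map ι) ⟨⟨q, hQ.1 hq⟩, hq, rfl⟩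

/-- Let F be a saturated fusion system over a finite p-group S. Then F is the fusion system of some finite p-solvable group on a Sylow p-subgroup if and only if F is constrained (some subgroup normal in F is centric in F) and the group of automorphisms that F induces on its largest normal subgroup O_p(F) is p-solvable. -/
theorem result {Ω : Type u} [Group Ω] {S : Subgroup Ω} [Finite S] (p : ℕ) [Fact p.Prime] (hS : IsPGroup p S)
    (F : Cfsg.FusionSystem S) (hF : F.IsSaturated p) :
    (∃ (G : Type u) (_ : Group G) (_ : Finite G) (ι : S →* G), Cfsg.IsPSolvable p G ∧ F.IsRealizedBy ι ∧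
        ∃ T : Sylow p G, (T : Subgroup G) = ι.range) ↔
      (F.IsConstrained p ∧ Cfsg.IsPSolvable p ↥(F.autGroup F.core)) := by
  constructor
  · rintro ⟨G, _, _, ι, hsol, hι, T, hT⟩
    haveI : (pPrimeCore p G).Normal := Cfsg.Agent.FittingCores.pPrimeCore_normal p
    obtain ⟨hκ, hT'⟩ := realized_quotient_coprime hι T hT (pPrimeCore p G) (Cfsg.Agent.FittingCores.pPrimeCore_coprime p)
    have hsol' : Cfsg.IsPSolvable p (G ⧸ pPrimeCore p G) := Cfsg.Agent.PSolvable.quotient _ hsol
    have hO : pPrimeCore p (G ⧸ pPrimeCore p G) = ⊥ := by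
      set O := pPrimeCore p G with hOdef
      set B := pPrimeCore p (G ⧸ O) with hB
      haveI : B.Normal := Cfsg.Agent.FittingCores.pPrimeCore_normal p
      have hc : (Nat.card (B.comap (QuotientGroup.mk' O))).Coprime p := by
        refine Nat.Coprime.coprime_dvd_left ?_
          ((Cfsg.Agent.FittingCores.pPrimeCore_coprime (G := G) p).mul_left
            (Cfsg.Agent.FittingCores.pPrimeCore_coprime (G := G ⧸ O) p))
        set g := ((QuotientGroup.mk' O).comp (B.comap (QuotientGroup.mk' O)).subtype).codRestrict B fun x => x.2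
        rw [← g.ker.card_mul_index, Subgroup.index_ker]
        refine Nat.mul_dvd_mul ?_ (Subgroup.card_subgroup_dvd_card _)
        exact Subgroup.card_dvd_of_injective
          (f := ((B.comap (QuotientGroup.mk' O)).subtype.comp g.ker.subtype).codRestrict O fun d =>
            (QuotientGroup.eq_one_iff _).1 (congrArg Subtype.val (MonoidHom.mem_ker.1 d.2)))
          fun a b h => Subtype.ext (Subtype.ext (congrArg (fun t : O => (t : G)) h))
      have hle := Cfsg.Agent.FittingCores.le_pPrimeCore inferInstance hc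
      rw [eq_bot_iff]
      intro x hx
      obtain ⟨g, rfl⟩ := QuotientGroup.mk'_surjective O x
      exact Subgroup.mem_bot.2 ((QuotientGroup.eq_one_iff g).2 (hle hx))
    have hM : F.IsModel p (G ⧸ pPrimeCore p G) ((QuotientGroup.mk' _).comp ι) :=
      ⟨inferInstance, hκ, hT', Cfsg.Agent.PSolvable.centralizer_pCore_le hsol' hO⟩
    refine ⟨model_constrained hM, ?_⟩
    obtain ⟨π, hπ, -, -, -⟩ := exists_modelAction hM (model_centricNormal hM)
    rw [core_eq hS hM]
    exact Cfsg.Agent.PSolvable.of_surjective π hπ hsol'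
  · rintro ⟨⟨hFs, Q, hQn, hQc⟩, hsol⟩
    obtain ⟨G, _, ι, hM⟩ := exists_model hS hFs ⟨hQn, hQc⟩
    haveI := hM.1
    refine ⟨G, ‹_›, hM.1, ι, ?_, hM.2.1, hM.2.2.1⟩
    obtain ⟨π, hπ, -, hker, -⟩ := exists_modelAction hM (model_centricNormal hM)
    rw [core_eq hS hM] at hsol
    have hkp : IsPGroup p π.ker := by
      rw [hker]
      exact (hS.to_subgroup _).map ι
    exact Cfsg.Agent.PSolvable.of_quotient π.ker (Or.inl (IsPGroup.iff_card.1 hkp))
      ((Cfsg.Agent.PSolvable.congr (QuotientGroup.quotientKerEquivOfSurjective π hπ)).2 hsol)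

end Cfsg.Agent.S5292
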