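import Cfsg.Statements.S5295
import Cfsg.Agent.Lib.Fusion.FunctorCenterJ
import Cfsg.Agent.S5294
-- import your own Cfsg.Agent.* helpers here

set_option autoImplicit false
universe u
open Cfsg

namespace Cfsg.Agent.S5295

/-- Let F be a saturated fusion system over a finite p-group S with p odd. Then the centre Z(F) of F is a direct factor of Z(S): there is a subgroup K of Z(S) with Z(F) ∩ K = 1 and Z(F)K = Z(S). (At the prime 2 this can fail.) -/
theorem result {Ω : Type u} [Group Ω] {S : Subgroup Ω} [Finite S] (p : ℕ) [Fact p.Prime] (hp : p ≠ 2) (hS : IsPGroup p S)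
    (F : Cfsg.FusionSystem S) (hF : F.IsSaturated p) :
    ∃ K : Subgroup Ω, K ≤ (S ⊓ Subgroup.centralizer (S : Set Ω)) ∧ F.center ⊓ K = ⊥ ∧ F.center ⊔ K = (S ⊓ Subgroup.centralizer (S : Set Ω)) := by
  have hW := Cfsg.Agent.FusionSys.isCharPFunctor_thompsonA.{u} p
  set N := Cfsg.Agent.FusionSys.normSystem F (Cfsg.Agent.FusionSys.inducedFunctor_le
    (W := Cfsg.thompsonSubgroupA) S) with hNdef
  have hN := Cfsg.Agent.FusionSys.normSystem_spec F (Cfsg.Agent.FusionSys.inducedFunctor_le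
    (W := Cfsg.thompsonSubgroupA) S)
  have hTS := Cfsg.Agent.FusionSys.normalizerIn_inducedFunctor_self hS hW
  haveI : Finite (Cfsg.FusionSystem.normalizerIn S (Cfsg.inducedFunctor Cfsg.thompsonSubgroupA S)) :=
    Cfsg.Agent.FusionSys.finite_of_le (S := S) hTS.le
  have hNs := Cfsg.Agent.FusionSys.normalizerSystem_saturated hS hF
    (Cfsg.Agent.FusionSys.inducedFunctor_fullyNormalized hS hW) N hN
  have hcen : N.center = F.center := le_antisymm
    (fun z hz => Cfsg.Agent.FusionSys.mem_center_of_thompsonA hS hF hN hz (Or.inl hp))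
    (Cfsg.Agent.FusionSys.center_le_normalizer_center hS hF hW hN)
  have hnormal := Cfsg.Agent.FusionSys.normalizerSystem_isNormal
    (Cfsg.Agent.FusionSys.inducedFunctor_le (W := Cfsg.thompsonSubgroupA) S) hN
  obtain ⟨K, h1, h2, h3⟩ := Cfsg.Agent.S5294.result p (hS.to_le hTS.le) N hNs (by
    refine le_trans ?_ (Cfsg.Agent.FusionSys.isNormal_le_core hnormal)
    rw [hTS]
    exact fun x hx => ⟨⟨x, hx.1⟩, Cfsg.Agent.FusionSys.center_le_thompsonA (Subgroup.mem_center_iff.2 fun y =>
      Subtype.ext (Subgroup.mem_centralizer_iff.1 hx.2 y y.2)), rfl⟩)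
  rw [hcen] at h2 h3
  rw [hTS] at h1 h3
  exact ⟨K, h1, h2, h3⟩

end Cfsg.Agent.S5295
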