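import Cfsg.Statements.S5297
import Cfsg.Agent.Lib.Fusion.SmallElements

set_option autoImplicit false
universe u
open Cfsg

namespace Cfsg.Agent.S5297

open Cfsg.Agent.FusionSys Cfsg.FusionSystem

/-- Let F be a saturated fusion system over a finite p-group S. If every map of F between cyclic subgroups of the hyperfocal subgroup of F of order p or 4 is a map of the normalizer system of S (it extends to a map of F defined on all of S), then S is normal in F. -/
theorem result {Ω : Type u} [Group Ω] {S : Subgroup Ω} [Finite S] (p : ℕ) [Fact p.Prime] (hS : IsPGroup p S)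
    (F : Cfsg.FusionSystem S) (hF : F.IsSaturated p)
    (h : ∀ A B : Subgroup Ω, A ≤ (F.hyperfocalSubgroup p) → B ≤ (F.hyperfocalSubgroup p) → IsCyclic ↥A → (Nat.card ↥A = p ∨ Nat.card ↥A = 4) → IsCyclic ↥B → (Nat.card ↥B = p ∨ Nat.card ↥B = 4) →
      F.homSet A B ⊆ F.normalizerHom S A) :
    F.IsNormal S := by
  obtain ⟨n, hn⟩ := exists_ucs_top hS
  refine isNormal_top_of_chain hS hF (ucs S) n (by simp [ucs])
    (fun x hx _ => hn x (hyperfocal_le F hx)) ?_ fun i x _ _ hxi s hs => ucs_conj hxi hs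
  intro i P φ hφ x hxh hxs hxi
  by_cases hx1 : (x : Ω) = 1
  · rw [show x = 1 from Subtype.ext hx1, map_one]; exact (ucs S i).one_mem
  have hA : Subgroup.zpowers (x : Ω) ≤ P := Subgroup.zpowers_le.2 x.2
  have hAφ := restrict_mem F hφ hA
  have hyh : φ x ∈ F.hyperfocalSubgroup p :=
    (hyperfocal_stronglyClosed hS hF).2 _ (Subgroup.zpowers_le.2 hxh) _ hAφ ⟨x, Subgroup.mem_zpowers _⟩
  have hy1 : φ x ≠ 1 := fun e => hx1 (by
    rw [show x = 1 from F.injective_of_mem hφ (e.trans (map_one φ).symm)]; rfl)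
  have hmem := h (Subgroup.zpowers (x : Ω)) (Subgroup.zpowers (φ x))
    (Subgroup.zpowers_le.2 hxh) (Subgroup.zpowers_le.2 hyh) inferInstance
    (card_zpowers_small hxs hx1) inferInstance (card_zpowers_small (small_map φ (small_of_map P.subtype P.subtype_injective hxs)) hy1)
    (show φ.comp (Subgroup.inclusion hA) ∈ F.homSet _ _ from ⟨hAφ, fun ⟨z, k, hk⟩ => ⟨k, by
      show φ x ^ k = φ ⟨z, _⟩
      rw [← map_zpow]; exact congrArg φ (Subtype.ext hk)⟩⟩)
  obtain ⟨-, -, -, ψ, hψ, h1, h2⟩ := hmem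
  obtain ⟨β, -, hβe⟩ := exists_restrict_aut F le_sup_right hψ h2
  obtain ⟨z, hz, hzx⟩ := hxi
  refine ⟨β z, upperCentralSeries_apply_mem β i z hz, ?_⟩
  show ((β z : S) : Ω) = φ x
  rw [hβe, show Subgroup.inclusion le_sup_right z = Subgroup.inclusion le_sup_left
    (⟨x, Subgroup.mem_zpowers _⟩ : Subgroup.zpowers (x : Ω)) from Subtype.ext hzx, h1]
  rfl

end Cfsg.Agent.S5297
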