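import Cfsg.Statements.S5298
import Cfsg.Agent.Lib.Fusion.SmallElements

set_option autoImplicit false
universe u
open Cfsg

namespace Cfsg.Agent.S5298

open Cfsg.Agent.FusionSys Cfsg.FusionSystem

/-- Let F be a saturated fusion system over a finite p-group S. If every map of F between cyclic subgroups of the hyperfocal subgroup of F of order p or 4 is conjugation by an element of S, then F is the inner fusion system of S. -/
theorem result {Ω : Type u} [Group Ω] {S : Subgroup Ω} [Finite S] (p : ℕ) [Fact p.Prime] (hS : IsPGroup p S)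
    (F : Cfsg.FusionSystem S) (hF : F.IsSaturated p)
    (h : ∀ A B : Subgroup Ω, A ≤ (F.hyperfocalSubgroup p) → B ≤ (F.hyperfocalSubgroup p) → IsCyclic ↥A → (Nat.card ↥A = p ∨ Nat.card ↥A = 4) → IsCyclic ↥B → (Nat.card ↥B = p ∨ Nat.card ↥B = 4) →
      F.homSet A B ⊆ (Cfsg.innerFusionSystem S).Hom A) :
    ∀ P : Subgroup Ω, F.Hom P = (Cfsg.innerFusionSystem S).Hom P := by
  intro P
  rw [eq_inner_of_coprime hS hF fun Q hQ a ha hcop => ?_]
  haveI := finite_of_le hQ
  obtain ⟨W, hW, hWinv, hWd⟩ := exists_small_invariant hS hF hQ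
  obtain ⟨n, hn⟩ := exists_ucs_top hS
  refine hWd a ha hcop fun x hx => ?_
  refine fix_of_chain (hS.to_le hQ) hcop W (hWinv a ha) (fun i => (ucs S i).subgroupOf Q) (by simp [ucs])
    (fun i y hy hyi => ?_) n x hx (hn _ (hQ x.2))
  show ((y⁻¹ * a y : Q) : Ω) ∈ ucs S i
  rw [Subgroup.coe_mul, Subgroup.coe_inv]
  by_cases hy1 : (y : Ω) = 1
  · rw [show y = 1 from Subtype.ext hy1]; simp [(ucs S i).one_mem]
  have hay := hWinv a ha y hy
  have hay1 : ((a y : Q) : Ω) ≠ 1 := fun e => hy1 (by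
    rw [show y = 1 from a.injective ((Subtype.ext e : a y = 1).trans (map_one a).symm)]; rfl)
  have hA : Subgroup.zpowers (y : Ω) ≤ Q := Subgroup.zpowers_le.2 y.2
  have hmem := h (Subgroup.zpowers (y : Ω)) (Subgroup.zpowers ((a y : Q) : Ω))
    (Subgroup.zpowers_le.2 (hW y hy).1) (Subgroup.zpowers_le.2 (hW _ hay).1) inferInstance
    (card_zpowers_small (hW y hy).2 hy1) inferInstance (card_zpowers_small (hW _ hay).2 hay1)
    (show (Q.subtype.comp a.toMonoidHom).comp (Subgroup.inclusion hA) ∈ F.homSet _ _ from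
      ⟨restrict_mem F ((mem_autGroup_iff F hQ a).1 ha) hA, fun ⟨z, k, hk⟩ => ⟨k, by
        show _ = ((a ⟨z, _⟩ : Q) : Ω)
        rw [show (⟨z, _⟩ : Q) = y ^ k from Subtype.ext hk.symm, map_zpow]; rfl⟩⟩)
  obtain ⟨-, g, hg, hge⟩ := hmem
  have e : ((a y : Q) : Ω) = g * y * g⁻¹ := hge ⟨y, Subgroup.mem_zpowers _⟩
  rw [e]
  exact ucs_conj hyi hg

end Cfsg.Agent.S5298
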