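import Cfsg.Statements.S5299
import Cfsg.Agent.Lib.LocalEven.Involvement
import Cfsg.Agent.Lib.Fusion.Basic

set_option autoImplicit false
universe u
open Cfsg

namespace Cfsg.Agent.S5299

/-- Let F be a saturated fusion system over a finite p-group S, H a finite group and Q a p-subgroup of H. If Q is not involved in S (no section of S is isomorphic to Q), then F is H-free: H is involved in no model of the normalizer system of a fully normalized centric subgroup. -/
theorem result {Ω : Type u} [Group Ω] {S : Subgroup Ω} [Finite S] (p : ℕ) [Fact p.Prime] (hS : IsPGroup p S)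
    (F : Cfsg.FusionSystem S) (hF : F.IsSaturated p) (H : Type*) [Group H] [Finite H] (Q : Subgroup H) (hQ : IsPGroup p Q)
    (hfree : ¬ Cfsg.Involves (↥Q) (↥S)) : F.IsSectionFree p H := by
  intro Q' hQn hQc N hN L _ ι hL hinv
  obtain ⟨hfin, hreal, ⟨T, hT⟩, -⟩ := hL
  haveI := hfin
  obtain ⟨K, ψ, hψ⟩ := Cfsg.Agent.LEInvolve.exists_hom_of_involves hinv
  let K₁ : Subgroup K := Q.comap ψ
  have hsur : Function.Surjective (ψ.subgroupComap Q) := fun q => by
    obtain ⟨k, hk⟩ := hψ q.1
    exact ⟨⟨k, by rw [Subgroup.mem_comap, hk]; exact q.2⟩, Subtype.ext hk⟩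
  obtain ⟨P⟩ : Nonempty (Sylow p K₁) := inferInstance
  have htop : ((P : Subgroup K₁).map (ψ.subgroupComap Q)) = ⊤ := by
    rw [← Sylow.coe_mapSurjective hsur P]
    exact (P.mapSurjective hsur).3 (hQ.of_equiv Subgroup.topEquiv.symm) le_top |>.symm
  let a : P →* L := (K.subtype.comp K₁.subtype).comp (P : Subgroup K₁).subtype
  have ha : Function.Injective a :=
    (K.subtype_injective.comp K₁.subtype_injective).comp (P : Subgroup K₁).subtype_injective
  obtain ⟨U, hU⟩ := (P.isPGroup'.map (K.subtype.comp K₁.subtype)).exists_le_sylow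
  obtain ⟨g, hg⟩ := MulAction.exists_smul_eq L U T
  have hmem : ∀ x : P, MulAut.conj g (a x) ∈ ι.range := fun x => by
    rw [← hT, ← hg, Sylow.coe_subgroup_smul]
    exact ⟨a x, hU ⟨x.1, x.2, rfl⟩, rfl⟩
  have hι : Function.Injective ι := hreal.1
  let b : P →* Cfsg.FusionSystem.normalizerIn S Q' :=
    ((MonoidHom.ofInjective hι).symm.toMonoidHom).comp
      ((((MulAut.conj g).toMonoidHom).comp a).codRestrict ι.range hmem)
  have hb : Function.Injective b := (MonoidHom.ofInjective hι).symm.injective.comp fun x y h =>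
    ha ((MulAut.conj g).injective (congrArg Subtype.val h))
  let c : P →* S := (Subgroup.inclusion (Cfsg.Agent.FusionSys.normalizerIn_le S Q')).comp b
  have hc : Function.Injective c := (Subgroup.inclusion_injective (Cfsg.Agent.FusionSys.normalizerIn_le S Q')).comp hb
  refine hfree (Cfsg.Agent.LEInvolve.involves_of_hom c
    ((ψ.subgroupComap Q).comp (P : Subgroup K₁).subtype) (fun q => ?_) ?_)
  · obtain ⟨k, hk, rfl⟩ := (htop.symm ▸ Subgroup.mem_top q : q ∈ (P : Subgroup K₁).map _)
    exact ⟨⟨k, hk⟩, rfl⟩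
  · rw [(MonoidHom.ker_eq_bot_iff c).2 hc]
    exact bot_le

end Cfsg.Agent.S5299
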