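import Cfsg.Statements.S5300
import Cfsg.Agent.Lib.Fusion.SmallElements

set_option autoImplicit false
universe u
open Cfsg

namespace Cfsg.Agent.S5300

open Cfsg.Agent.FusionSys Cfsg.FusionSystem

/-- Let F be a saturated fusion system over a finite p-group S. If every cyclic subgroup of the focal subgroup of F of order p (of order 2 or 4 when p = 2) is normal in S, then S is normal in F. -/
theorem result {Ω : Type u} [Group Ω] {S : Subgroup Ω} [Finite S] (p : ℕ) [Fact p.Prime] (hS : IsPGroup p S)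
    (F : Cfsg.FusionSystem S) (hF : F.IsSaturated p)
    (hnorm : ∀ x ∈ F.focalSubgroup, (x ^ p = 1 ∨ (p = 2 ∧ x ^ 4 = 1)) → ∀ s ∈ S, s * x * s⁻¹ ∈ Subgroup.zpowers x) :
    F.IsNormal S := by
  have hp : p.Prime := Fact.out
  have hZ : ∀ z ∈ F.focalSubgroup, z ∈ S → z ^ p = 1 → ∀ s ∈ S, s * z = z * s := by
    intro z hz _ hzp s hs
    obtain ⟨k, hk⟩ := hnorm z hz (Or.inl hzp) s hs
    simp only at hk
    have hpow : ∀ n : ℕ, s ^ n * z * (s ^ n)⁻¹ = z ^ (k ^ n) := by
      intro n
      induction n with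
      | zero => simp
      | succ n ih =>
        rw [pow_succ' k, zpow_mul, hk, conj_zpow, ← ih, pow_succ']; group
    obtain ⟨m, hm⟩ := hS ⟨s, hs⟩
    have h1 := hpow (p ^ m)
    rw [show s ^ (p ^ m) = 1 from congrArg Subtype.val hm] at h1
    simp only [one_mul, inv_one, mul_one] at h1
    have h2 : ((k ^ (p ^ m) : ℤ) : ZMod p) = (k : ZMod p) := by
      push_cast; exact ZMod.pow_card_pow (n := m) (k : ZMod p)
    rw [ZMod.intCast_eq_intCast_iff_dvd_sub] at h2
    obtain ⟨r, hr⟩ := h2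
    have h3 : z ^ k = z := by
      rw [show k = k ^ (p ^ m) + (p : ℤ) * r by rw [← hr]; ring, zpow_add, ← h1, zpow_mul, zpow_natCast, hzp,
        one_zpow, mul_one]
    rw [hk] at h3
    exact mul_inv_eq_iff_eq_mul.1 h3
  let Z1 : Subgroup Ω :=
    { carrier := {z | z ∈ S ∧ z ^ p = 1 ∧ ∀ s ∈ S, s * z = z * s}
      one_mem' := ⟨S.one_mem, one_pow p, by simp⟩
      mul_mem' := fun {a b} ha hb => ⟨S.mul_mem ha.1 hb.1, by
        rw [(show Commute a b from hb.2.2 a ha.1).mul_pow, ha.2.1, hb.2.1, one_mul],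
        fun s hs => by rw [← mul_assoc, ha.2.2 s hs, mul_assoc, hb.2.2 s hs, mul_assoc]⟩
      inv_mem' := fun {a} ha => ⟨S.inv_mem ha.1, by rw [inv_pow, ha.2.1, inv_one],
        fun s hs => ((show Commute s a from ha.2.2 s hs).inv_right).eq⟩ }
  have hfoc := hyperfocal_le_focal (p := p) F
  refine isNormal_top_of_chain hS hF (fun i => if i = 0 then ⊥ else if i = 1 then Z1 else ⊤) 2 (by simp)
    (fun x _ _ => by simp) ?_ ?_
  · intro i P φ hφ x hxh hxs hxi
    rcases i with _ | _ | i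
    · simp only [if_true, Subgroup.mem_bot] at hxi ⊢
      rw [show x = 1 from Subtype.ext hxi, map_one]
    · simp only [Nat.one_ne_zero, if_false, if_true, zero_add] at hxi ⊢
      have hA : Subgroup.zpowers (x : Ω) ≤ P := Subgroup.zpowers_le.2 x.2
      have hyh : φ x ∈ F.hyperfocalSubgroup p :=
        (hyperfocal_stronglyClosed hS hF).2 _ (Subgroup.zpowers_le.2 hxh) _ (restrict_mem F hφ hA)
          ⟨x, Subgroup.mem_zpowers _⟩
      have hyp : φ x ^ p = 1 := by rw [← map_pow, show x ^ p = 1 from Subtype.ext hxi.2.1, map_one]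
      exact ⟨hom_apply_mem F hφ x, hyp, hZ _ (hfoc hyh) (hom_apply_mem F hφ x) hyp⟩
    · simp
  · intro i x hxh hxs hxi s hs
    rcases i with _ | _ | i
    · simp only [Nat.one_ne_zero, if_false, if_true, zero_add] at hxi ⊢
      rw [Subgroup.mem_bot, hxi.2.2 s hs, mul_inv_cancel_right, inv_mul_cancel]
    · simp only [Nat.one_ne_zero, if_false, if_true, zero_add]
      have hxS := hyperfocal_le F hxh
      by_cases hxp : x ^ p = 1
      · rw [hZ x (hfoc hxh) hxS hxp s hs, mul_inv_cancel_right, inv_mul_cancel]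
        exact Z1.one_mem
      obtain ⟨rfl, hx4⟩ := hxs.resolve_left hxp
      obtain ⟨k, hk⟩ := hnorm x (hfoc hxh) hxs s hs
      simp only at hk
      rcases Int.even_or_odd k with ⟨j, rfl⟩ | ⟨j, rfl⟩
      · exfalso
        apply hxp
        have : (s * x * s⁻¹) ^ 2 = 1 := by
          rw [← hk, ← zpow_natCast, ← zpow_mul, show (j + j) * ((2 : ℕ) : ℤ) = ((4 : ℕ) : ℤ) * j by push_cast; ring,
            zpow_mul, zpow_natCast, hx4, one_zpow]
        rw [conj_pow] at this
        simpa using this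
      · rw [← hk, zpow_add_one, ← mul_assoc, ← zpow_neg_one, ← zpow_add, ← zpow_add_one,
          show -1 + 2 * j + 1 = ((2 : ℕ) : ℤ) * j by push_cast; ring, zpow_mul, zpow_natCast]
        exact Z1.zpow_mem ⟨S.pow_mem hxS 2, by rw [← pow_mul]; exact hx4,
          hZ _ (hfoc (pow_mem hxh 2)) (S.pow_mem hxS 2) (by rw [← pow_mul]; exact hx4)⟩ j
    · simp

end Cfsg.Agent.S5300
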