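import Cfsg.Statements.S5301
import Cfsg.Agent.Lib.Fusion.Normal

set_option autoImplicit false
universe u
open Cfsg

namespace Cfsg.Agent.S5301

open Cfsg.Agent.FusionSys

/-- Let F be a saturated fusion system over a finite p-group S. If for every subgroup P of S that is fully normalized, centric and radical in F the automorphism group that F induces on P has a normal Sylow p-subgroup, then S is normal in F. -/
theorem result {Ω : Type u} [Group Ω] {S : Subgroup Ω} [Finite S] (p : ℕ) [Fact p.Prime] (hS : IsPGroup p S)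
    (F : Cfsg.FusionSystem S) (hF : F.IsSaturated p)
    (hcl : ∀ P : Subgroup Ω, F.IsFullyNormalized P → F.IsCentric P → F.IsRadical p P →
      ∃ R : Sylow p ↥(F.autGroup P), (R : Subgroup ↥(F.autGroup P)).Normal) :
    F.IsNormal S := by
  refine isNormal_of_le hS hF (stronglyClosed_self F) fun P hP => ?_
  have hPS := hP.1.1
  have := finite_of_le hPS
  have hr := essential_radical hS hF hP
  obtain ⟨R, hR⟩ := hcl P hP.2.1 hP.1 hr
  obtain ⟨-, R', hR'⟩ := (fullyNormalized_imp hS hF hP.2.1).2
  have hRR' : R = R' := by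
    obtain ⟨g, hg⟩ := MulAction.exists_smul_eq (F.autGroup P) R R'
    rw [← hg]
    exact (Sylow.ext (by rw [Sylow.coe_subgroup_smul]; exact (Subgroup.Normal.conjAct hR _).symm ▸ rfl))
  subst hRR'
  intro g hg
  by_contra hgP
  have hlt : P < S := lt_of_le_of_ne hPS fun e => hgP (e ▸ hg)
  obtain ⟨x, hxN, hxP⟩ := SetLike.exists_of_lt (lt_normalizerIn hS hlt)
  obtain ⟨a, ha, hae⟩ := exists_conjAut (P := P) hxN.1 hxN.2
  have hin : a ∈ Inn P := hr.2.le ⟨⟨a, autInducedBy_le_autGroup F hPS ha⟩,
    Cfsg.Agent.PBasic.le_pCore hR R.2 (hR'.ge ha), rfl⟩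
  exact hxP (mem_of_conj_mem_inn (F := F) (centralizerIn_le_of_centric hP.1) hxN.1 hPS hae hin)

end Cfsg.Agent.S5301
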