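import Cfsg.Statements.S5306
import Cfsg.Agent.Lib.PLocal.Thompson

set_option autoImplicit false
open Cfsg

namespace Cfsg.Agent.S5306

/-- Let P be a Sylow p-subgroup of the finite group X and J = J(P) its Thompson subgroup (generated by the elementary abelian subgroups of P of largest order). If x and y lie in the centre of J and y = g x g⁻¹ for some g in X, then y = n x n⁻¹ for some n in the normalizer N_X(J). -/
theorem result {X : Type*} [Group X] [Finite X] (p : ℕ) [Fact p.Prime] (P : Sylow p X) (J : Subgroup X) (hJ : J = Cfsg.thompsonSubgroupOf p (P : Subgroup X))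
    (x y : X) (hx : x ∈ J ∧ ∀ j ∈ J, Commute j x) (hy : y ∈ J ∧ ∀ j ∈ J, Commute j y) (g : X) (hg : g * x * g⁻¹ = y) :
    ∃ n ∈ Subgroup.normalizer (J : Set X), n * x * n⁻¹ = y := by
  obtain rfl := hJ
  obtain ⟨hxJ, hxc⟩ := hx
  obtain ⟨hyJ, hyc⟩ := hy
  set J := Cfsg.thompsonSubgroupOf p (P : Subgroup X) with hJdef
  have hP : J ≤ P := Cfsg.Agent.Thompson.thompsonSubgroupOf_le p _
  have hwc : ∀ k : X, J.map (MulAut.conj k).toMonoidHom ≤ P →
      J.map (MulAut.conj k).toMonoidHom = J := by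
    intro k hk
    set f := (MulAut.conj k).toMonoidHom with hf
    have hinj : Function.Injective f := (MulAut.conj k).injective
    refine Subgroup.eq_of_le_of_card_ge ?_ (le_of_eq ?_)
    · rw [← Cfsg.Agent.Thompson.thompsonSubgroupOf_map_of_injective _ f hinj] at hk ⊢
      rw [Cfsg.Agent.Thompson.thompsonSubgroupOf_eq]
      refine sSup_le fun A hA => Cfsg.Agent.Thompson.le_thompsonSubgroupOf
        ⟨(Cfsg.Agent.Thompson.le_thompsonSubgroupOf hA).trans hk, hA.2.1, fun C hC hCe => ?_⟩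
      have h2 := hA.2.2 (C.map f) (Subgroup.map_mono hC)
        (Cfsg.Agent.Thompson.isElementaryAbelian_map f hCe)
      rwa [Subgroup.card_map_of_injective hinj] at h2
    · rw [Subgroup.card_map_of_injective hinj]
  set C := Subgroup.centralizer ({y} : Set X) with hC
  set J' := J.map (MulAut.conj g).toMonoidHom with hJ'
  have hJC : J ≤ C := fun j hj => Subgroup.mem_centralizer_singleton_iff.2 (hyc j hj).eq
  have hJ'C : J' ≤ C := by
    rintro _ ⟨j, hj, rfl⟩
    refine Subgroup.mem_centralizer_singleton_iff.2 ?_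
    rw [← hg]
    show MulAut.conj g j * MulAut.conj g x = MulAut.conj g x * MulAut.conj g j
    rw [← map_mul, ← map_mul, (hxc j hj).eq]
  have hJp : IsPGroup p J := P.isPGroup'.to_le hP
  obtain ⟨R, hR⟩ := (IsPGroup.of_equiv hJp (Subgroup.subgroupOfEquivOfLe hJC).symm).exists_le_sylow
  obtain ⟨R', hR'⟩ := (IsPGroup.of_equiv (hJp.map (MulAut.conj g).toMonoidHom)
    (Subgroup.subgroupOfEquivOfLe hJ'C).symm).exists_le_sylow
  obtain ⟨c, hc⟩ := MulAction.exists_smul_eq C R' R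
  obtain ⟨T, hT⟩ := (R.isPGroup'.map C.subtype).exists_le_sylow
  obtain ⟨h, hh⟩ := MulAction.exists_smul_eq X T P
  have hmem : ∀ z ∈ (T : Subgroup X), h * z * h⁻¹ ∈ (P : Subgroup X) := fun z hz => by
    rw [← hh, Sylow.coe_subgroup_smul]
    exact ⟨z, hz, rfl⟩
  have h1 : J.map (MulAut.conj h).toMonoidHom = J := hwc h (by
    rintro _ ⟨z, hz, rfl⟩
    refine hmem z (hT ⟨⟨z, hJC hz⟩, hR ?_, rfl⟩)
    exact hz)
  have h2 : J.map (MulAut.conj (h * (c : X) * g)).toMonoidHom = J := hwc _ (by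
    rintro _ ⟨z, hz, rfl⟩
    have hz' : (⟨g * z * g⁻¹, hJ'C ⟨z, hz, rfl⟩⟩ : C) ∈ (R' : Subgroup C) :=
      hR' (Subgroup.mem_subgroupOf.2 ⟨z, hz, rfl⟩)
    have : c * ⟨g * z * g⁻¹, hJ'C ⟨z, hz, rfl⟩⟩ * c⁻¹ ∈ (R : Subgroup C) := by
      rw [← hc, Sylow.coe_subgroup_smul]
      exact ⟨_, hz', rfl⟩
    have h3 := hmem _ (hT ⟨_, this, rfl⟩)
    simpa [MulAut.conj_apply, mul_assoc] using h3)
  refine ⟨(c : X) * g, ?_, ?_⟩
  · have e1 : h ∈ Subgroup.normalizer (J : Set X) :=
      Subgroup.mem_normalizer_iff_map_conj_eq.2 h1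
    have e2 : h * (c : X) * g ∈ Subgroup.normalizer (J : Set X) :=
      Subgroup.mem_normalizer_iff_map_conj_eq.2 h2
    have := mul_mem (inv_mem e1) e2
    rwa [mul_assoc h, inv_mul_cancel_left] at this
  · have hcy : (c : X) * y = y * c := Subgroup.mem_centralizer_singleton_iff.1 c.2
    calc (c : X) * g * x * ((c : X) * g)⁻¹ = c * (g * x * g⁻¹) * (c : X)⁻¹ := by group
      _ = y := by rw [hg, hcy, mul_inv_cancel_right]

end Cfsg.Agent.S5306
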