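import Cfsg.Statements.S5321
import Cfsg.Agent.Lib.J2.Fusion
import Cfsg.Agent.Lib.J2.Group
-- import your own Cfsg.Agent.* helpers here

set_option autoImplicit false
open Cfsg

namespace Cfsg.Agent.S5321

/-- For a finite group G isomorphic to the Hall–Janko group J₂ (as constructed in the problem's definitions), the 2-fusion system of G on a Sylow 2-subgroup is simple: saturated, over a nontrivial 2-group, with no normal subsystem other than the trivial one and itself. -/
theorem result {G : Type*} [Group G] [Finite G] (hG : Cfsg.Spor.IsoJ2 G) (S : Sylow 2 G) : (Cfsg.groupFusionSystem (S : Subgroup G)).IsSimple 2 := by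
  obtain ⟨ψ⟩ := hG
  haveI : Fact (Nat.Prime 2) := ⟨Nat.prime_two⟩
  let e : G ≃* J2.G100 := ψ.trans J2.j2Equiv
  let f0 : G →* Equiv.Perm (Fin 100) := J2.G100.subtype.comp e.toMonoidHom
  have hinj0 : Function.Injective f0 := fun a b h => e.injective (Subtype.ext h)
  have hrange0 : f0.range = J2.P100 := by
    refine le_antisymm ?_ fun x hx => ⟨e.symm ⟨x, hx⟩, congrArg Subtype.val (e.apply_symm_apply _)⟩
    rintro _ ⟨g, rfl⟩
    exact (e g).2
  have hcard : Nat.card (J2.S100.comap f0) = 2 ^ (Nat.card G).factorization 2 := by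
    rw [Nat.card_congr e.toEquiv, J2.card_G100,
      show Nat.card (J2.S100.comap f0) = 128 from
        (Nat.card_congr (Subgroup.equivMapOfInjective _ f0 hinj0).toEquiv).trans (by
          rw [Subgroup.map_comap_eq_self (hrange0 ▸ J2.S100_le_P100), J2.card_S100])]
    have h : (604800 : ℕ).factorization 2 = 7 := by
      rw [show (604800 : ℕ) = 2 ^ 7 * 4725 by norm_num,
        Nat.factorization_mul (by norm_num) (by norm_num), Finsupp.add_apply,
        Nat.Prime.factorization_pow Nat.prime_two, Finsupp.single_eq_same,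
        Nat.factorization_eq_zero_of_not_dvd (by norm_num)]
    rw [h]
    norm_num
  obtain ⟨g, hg⟩ := MulAction.exists_smul_eq G S (Sylow.ofCard _ hcard)
  refine J2.fus_simple (f0.comp (MulAut.conj g).toMonoidHom) (hinj0.comp (MulAut.conj g).injective)
    ?_ S fun x => ?_
  · rw [MonoidHom.range_comp, MonoidHom.range_eq_top.2 (MulAut.conj g).surjective,
      ← MonoidHom.range_eq_map, hrange0]
  · have h1 : ((g • S : Sylow 2 G) : Subgroup G) = J2.S100.comap f0 := by rw [hg]; rfl
    change x ∈ (S : Subgroup G) ↔ g * x * g⁻¹ ∈ J2.S100.comap f0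
    rw [← h1, Sylow.coe_subgroup_smul]
    exact (Subgroup.smul_mem_pointwise_smul_iff (a := MulAut.conj g) (S := (S : Subgroup G)) (x := x)).symm

end Cfsg.Agent.S5321
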