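import Cfsg.Statements.S5328
import Cfsg.Agent.Lib.Fusion.Biset
open Cfsg.FusionSystem Cfsg.Agent.FusionSys MulAction

set_option autoImplicit false
universe u
open Cfsg

namespace Cfsg.Agent.S5328

/-- Multiplicities with constant counts on classes, for an arbitrary system on a finite group. -/
theorem exists_stable_any {Ω : Type u} [Group Ω] {S : Subgroup Ω} [Finite S] (F : Cfsg.FusionSystem S) :
    ∃ m : Cls S → ℕ, (∀ q, m q ≠ 0 → FDiag F q.out) ∧
      (∃ Δ : Subgroup (S × S), (∀ z : S × S, z ∈ Δ ↔ z.1 = z.2) ∧ m (Quotient.mk (conjSetoid S) Δ) ≠ 0) ∧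
      ∀ E E', FDiag F E → FDiag F E' → F.IsConj (diagDom E) (diagDom E') →
        fixCount (Orbits m) E = fixCount (Orbits m) E' := by
  classical
  letI := Fintype.ofFinite (Cls S)
  letI := Fintype.ofFinite (Subgroup (S × S))
  obtain ⟨Δ, hΔd, -, hΔ⟩ := exists_diagonal F (le_refl S)
  have hΔ' : ∀ z : S × S, z ∈ Δ ↔ z.1 = z.2 := fun z =>
    (hΔ z).trans ⟨fun h => Subtype.ext h.2, fun h => ⟨z.1.2, by rw [h]⟩⟩
  suffices h : ∀ j, ∃ m : Cls S → ℕ, (∀ q, m q ≠ 0 → FDiag F q.out) ∧
      m (Quotient.mk (conjSetoid S) Δ) ≠ 0 ∧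
      ∀ E E', FDiag F E → FDiag F E' → F.IsConj (diagDom E) (diagDom E') → Nat.card S < Nat.card E + j →
        fixCount (Orbits m) E = fixCount (Orbits m) E' by
    obtain ⟨m, h1, h2, h3⟩ := h (Nat.card S + 1)
    exact ⟨m, h1, ⟨Δ, hΔ', h2⟩, fun E E' hE hE' hc => h3 E E' hE hE' hc (by omega)⟩
  intro j
  induction j with
  | zero =>
    refine ⟨fun q => if q = Quotient.mk (conjSetoid S) Δ then 1 else 0, fun q hq => ?_, by simp, ?_⟩
    · by_contra hn
      refine hq (if_neg fun h => hn ?_)
      rw [h]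
      exact (fdiag_out_iff (F := F) Δ).1.2 hΔd
    · intro E E' hE _ _ hlt
      exact absurd (fdiag_card_le hE) (by omega)
  | succ j ih =>
    obtain ⟨m, hsupp, hm0, hst⟩ := ih
    have hcard : ∀ E E' : Subgroup (S × S), FDiag F E → FDiag F E' → F.IsConj (diagDom E) (diagDom E') →
        Nat.card E = Nat.card E' := fun E E' hE hE' hc => by
      rw [fdiag_card hE, fdiag_card hE', isConj_card hc]
    set M := Nat.card (S × S) with hM
    let f : Subgroup (S × S) → ℕ := fun D => fixCount (Orbits m) D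
    let W : Subgroup (S × S) → ℕ := fun D => fixCount ((S × S) ⧸ D) D
    have hW : ∀ D, W D ∣ M := fun D => by
      show fixCount ((S × S) ⧸ D) D ∣ M
      rw [fixCount_self]
      exact (Subgroup.index_dvd_card _).trans (Subgroup.card_subgroup_dvd_card _)
    let v : Subgroup Ω → ℕ := fun P =>
      (Finset.univ.filter fun D => FDiag F D ∧ F.IsConj (diagDom D) P).sup fun D => M * f D
    have hvdvd : ∀ P, M ∣ v P := fun P =>
      Finset.sup_induction (p := fun n => M ∣ n) (dvd_zero M)
        (fun a ha b hb => by rcases max_choice a b with h | h <;> simpa [h]) fun D _ => dvd_mul_right _ _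
    let d : Cls S → ℕ := fun q =>
      if FDiag F q.out ∧ Nat.card q.out + j = Nat.card S then (v (diagDom q.out) - M * f q.out) / W q.out else 0
    refine ⟨fun q => M * m q + d q, fun q hq => ?_, ?_, ?_⟩
    · by_cases hm : m q = 0
      · by_contra hn
        simp [hm, d, hn] at hq
      · exact hsupp q hm
    · have hpos : 0 < M * m (Quotient.mk (conjSetoid S) Δ) :=
        Nat.mul_pos (hM ▸ Nat.card_pos) (Nat.pos_of_ne_zero hm0)
      show M * m (Quotient.mk (conjSetoid S) Δ) + d (Quotient.mk (conjSetoid S) Δ) ≠ 0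
      omega
    have hadd : ∀ E, fixCount (Orbits (fun q => M * m q + d q)) E =
        M * f E + ∑ q, d q * fixCount ((S × S) ⧸ q.out) E := by
      intro E
      show _ = M * fixCount (Orbits m) E + _
      rw [fixCount_orbits, fixCount_orbits, Finset.mul_sum, ← Finset.sum_add_distrib]
      simp only [add_mul, mul_assoc]
    have hzero : ∀ (E : Subgroup (S × S)) (q : Cls S), Nat.card S ≤ Nat.card E + j →
        Quotient.mk (conjSetoid S) E ≠ q ∨ Nat.card S < Nat.card E + j →
        d q * fixCount ((S × S) ⧸ q.out) E = 0 := by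
      intro E q hle hor
      by_contra hne
      obtain ⟨h1, h2⟩ := Nat.mul_ne_zero_iff.1 hne
      have hq : FDiag F q.out ∧ Nat.card q.out + j = Nat.card S := by
        by_contra hn
        exact h1 (if_neg hn)
      have he := eq_out_of_fixCount_ne h2 (by omega)
      rcases hor with hne' | hlt
      · exact hne' he
      · rw [← he, card_out] at hq
        omega
    intro E E' hE hE' hc hlt
    have hcE := hcard E E' hE hE' hc
    rcases Nat.lt_or_ge (Nat.card S) (Nat.card E + j) with hj | hj
    · rw [hadd, hadd, Finset.sum_eq_zero fun q _ => hzero E q (by omega) (Or.inr hj),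
        Finset.sum_eq_zero fun q _ => hzero E' q (by omega) (Or.inr (by omega))]
      exact congrArg (fun n => M * n + 0) (hst E E' hE hE' hc hj)
    have key : ∀ D, FDiag F D → Nat.card D + j = Nat.card S →
        fixCount (Orbits (fun q => M * m q + d q)) D = v (diagDom D) := by
      intro D hD hDc
      set q := Quotient.mk (conjSetoid S) D with hq
      have hqd : FDiag F q.out := (fdiag_out_iff (F := F) D).1.2 hD
      have hqc : Nat.card q.out + j = Nat.card S := by rw [hq, card_out]; exact hDc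
      have hveq : v (diagDom D) = v (diagDom q.out) := by
        have h := (fdiag_out_iff (F := F) D).2 hD
        refine congrArg (fun s : Finset (Subgroup (S × S)) => s.sup fun D => M * f D) (Finset.filter_congr fun A _ => ?_)
        exact and_congr_right fun _ => ⟨fun hA => isConj_trans hA h, fun hA => isConj_trans hA (isConj_symm h)⟩
      have hfD : f D = f q.out := (fixCount_out D).symm
      have hle : M * f q.out ≤ v (diagDom q.out) :=
        Finset.le_sup (f := fun D => M * f D)
          (Finset.mem_filter.2 ⟨Finset.mem_univ _, hqd, isConj_refl F (fdiag_le hqd)⟩)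
      rw [hadd, Finset.sum_eq_single q (fun b _ hb => hzero D b (by omega) (Or.inl (Ne.symm hb))) (by simp), hveq,
        hfD, ← fixCount_out D]
      show _ + d q * W q.out = _
      simp only [d, if_pos (And.intro hqd hqc)]
      rw [Nat.div_mul_cancel (Nat.dvd_sub ((hW _).trans (hvdvd _)) ((hW _).trans (dvd_mul_right _ _))),
        Nat.add_sub_cancel' hle]
    rw [key E hE (by omega), key E' hE' (by omega)]
    refine congrArg (fun s : Finset (Subgroup (S × S)) => s.sup fun D => M * f D) (Finset.filter_congr fun A _ => ?_)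
    exact and_congr_right fun _ => ⟨fun hA => isConj_trans hA hc, fun hA => isConj_trans hA (isConj_symm hc)⟩


/-- Every fusion system over a finite p-group S, saturated or not, is realized inside some finite group: there is a finite group G and an injective homomorphism ι of S into G such that the maps of the system are exactly the homomorphisms between subgroups of S that become conjugations by elements of G (the image of S need not be a Sylow p-subgroup of G). -/
theorem result {Ω : Type u} [Group Ω] {S : Subgroup Ω} [Finite S] (p : ℕ) [Fact p.Prime] (hS : IsPGroup p S) (F : Cfsg.FusionSystem S) : ∃ (G : Type u) (_ : Group G) (_ : Finite G) (ι : ↥S →* G), F.IsRealizedBy ι := by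
  classical
  obtain ⟨m, hsupp, ⟨Δ, hΔ, hm0⟩, hst⟩ := exists_stable_any F
  letI := Fintype.ofFinite (Cls S)
  have hX : ∀ x : Orbits m, FDiag F (stabilizer (S × S) x) := fun x =>
    fdiag_of_fixCount_ne hsupp _ (Nat.card_ne_zero.2 ⟨⟨⟨x, le_rfl⟩⟩, inferInstance⟩)
  -- the base point
  obtain ⟨g₀, hg₀⟩ := out_conj (S := S) Δ
  let x₀ : Orbits m := ⟨⟨Quotient.mk (conjSetoid S) Δ, ⟨0, Nat.pos_of_ne_zero hm0⟩⟩, QuotientGroup.mk g₀⟩
  have hx₀ : ∀ z : S × S, z • x₀ = x₀ ↔ z.1 = z.2 := by
    intro z
    rw [← hΔ, ← hg₀, Subgroup.mem_map_equiv, MulAut.conj_symm_apply]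
    constructor
    · intro h
      have h2 : (QuotientGroup.mk (z * g₀) : (S × S) ⧸ _) = QuotientGroup.mk g₀ := eq_of_heq (Sigma.mk.inj h).2
      rw [QuotientGroup.eq] at h2
      simpa [mul_assoc] using inv_mem h2
    · intro h
      refine congrArg (Sigma.mk _) (QuotientGroup.eq.2 ?_)
      simpa [mul_assoc] using inv_mem h
  let K : Subgroup (Equiv.Perm (Orbits m)) :=
    Subgroup.centralizer (Set.range fun s : S => MulAction.toPermHom (S × S) (Orbits m) (1, s))
  let ι : S →* K := ((MulAction.toPermHom (S × S) (Orbits m)).comp (MonoidHom.inl S S)).codRestrict K fun a =>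
    Subgroup.mem_centralizer_iff.2 (by
      rintro _ ⟨s, rfl⟩
      rw [MonoidHom.comp_apply, ← map_mul, ← map_mul]
      exact congrArg _ (Prod.ext (by simp) (by simp)))
  have hι : ∀ (a : S) (y : Orbits m), ((ι a : K) : Equiv.Perm (Orbits m)) y = ((a, 1) : S × S) • y :=
    fun a y => rfl
  have hcomm : ∀ (g : K) (s : S) (y : Orbits m),
      (g : Equiv.Perm (Orbits m)) (((1, s) : S × S) • y) = ((1, s) : S × S) • (g : Equiv.Perm (Orbits m)) y :=
    fun g s y => (Equiv.congr_fun (Subgroup.mem_centralizer_iff.1 g.2 _ ⟨s, rfl⟩) y).symm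
  refine ⟨K, inferInstance, inferInstance, ι, (injective_iff_map_eq_one ι).2 fun a ha => ?_,
    fun P hP φ hφS => ⟨fun hφ => ?_, ?_⟩⟩
  · have h := (hι a x₀).symm.trans (by rw [ha]; try rfl)
    exact (hx₀ (a, 1)).1 h
  · obtain ⟨e, he⟩ := exists_equiv_of_hom hX hst hφ
    have he1 : ∀ (s : S) (y : Orbits m), e (((1, s) : S × S) • y) = ((1, s) : S × S) • e y := by
      intro s y
      have := he 1 P.one_mem s y
      convert this using 3
      exact Subtype.ext (map_one φ).symm
    refine ⟨⟨e, Subgroup.mem_centralizer_iff.2 ?_⟩, fun x => ?_⟩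
    · rintro _ ⟨s, rfl⟩
      exact Equiv.ext fun y => (he1 s y).symm
    · refine eq_mul_inv_of_mul_eq (Subtype.ext (Equiv.ext fun y => ?_))
      exact (he ⟨x, hP x.2⟩ x.2 1 y).symm
  · rintro ⟨g, hg⟩
    set y := ((g⁻¹ : K) : Equiv.Perm (Orbits m)) x₀
    obtain ⟨P', ψ, hψ, hD⟩ := hX y
    have hfix : ∀ x : P, ((⟨x, hP x.2⟩, ⟨φ x, hφS x⟩) : S × S) ∈ stabilizer (S × S) y := by
      intro x
      have h1 : ι ⟨x, hP x.2⟩ * g⁻¹ = g⁻¹ * ι ⟨φ x, hφS x⟩ := by rw [hg x]; group
      have h2 : ((⟨x, hP x.2⟩, 1) : S × S) • y =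
          ((g⁻¹ : K) : Equiv.Perm (Orbits m)) (((⟨φ x, hφS x⟩, 1) : S × S) • x₀) :=
        congrArg (fun k : K => (k : Equiv.Perm (Orbits m)) x₀) h1
      rw [mem_stabilizer_iff]
      calc ((⟨x, hP x.2⟩, ⟨φ x, hφS x⟩) : S × S) • y
          = ((1, ⟨φ x, hφS x⟩) : S × S) • ((⟨x, hP x.2⟩, 1) : S × S) • y := by rw [smul_smul]; simp
        _ = ((g⁻¹ : K) : Equiv.Perm (Orbits m)) (((1, ⟨φ x, hφS x⟩) : S × S) • ((⟨φ x, hφS x⟩, 1) : S × S) • x₀) := by
          rw [h2, hcomm]
        _ = y := by
          rw [smul_smul, (hx₀ _).2 (by simp)]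
    have hle : P ≤ P' := fun a ha => ((hD _).1 (hfix ⟨a, ha⟩)).1
    convert restrict_mem F hψ hle using 1
    ext x
    exact ((hD _).1 (hfix x)).2.symm

end Cfsg.Agent.S5328
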