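import Cfsg.Statements.S5331
import Cfsg.Agent.Lib.Fusion.Abelian

set_option autoImplicit false
open Cfsg

namespace Cfsg.Agent.S5331

open Cfsg.Agent.FusionSys

/-- Let S be a finite abelian 2-group that is a direct product of cyclic groups of pairwise distinct orders 2^{a_1} < 2^{a_2} < ⋯ < 2^{a_n} (all a_i ≥ 1). Then every saturated fusion system over S is the inner one: its maps are exactly the conjugations by elements of S. -/
theorem result {Ω : Type*} [Group Ω] {S : Subgroup Ω} [Finite S] (n : ℕ) (a : Fin n → ℕ) (ha : StrictMono a) (ha1 : ∀ i, 1 ≤ a i) (e : ↥S ≃* Multiplicative ((i : Fin n) → ZMod (2 ^ a i))) (F : Cfsg.FusionSystem S) (hF : F.IsSaturated 2) (P : Subgroup Ω) : F.Hom P = (Cfsg.innerFusionSystem S).Hom P := by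
  haveI : Fact (Nat.Prime 2) := ⟨Nat.prime_two⟩
  have hab : ∀ x ∈ S, ∀ y ∈ S, x * y = y * x := fun x hx y hy =>
    congrArg Subtype.val (e.injective (by rw [map_mul, map_mul, mul_comm]) :
      (⟨x, hx⟩ : S) * ⟨y, hy⟩ = ⟨y, hy⟩ * ⟨x, hx⟩)
  haveI : ∀ i, NeZero (2 ^ a i) := fun i => ⟨by positivity⟩
  have hS : IsPGroup 2 S := by
    refine IsPGroup.of_card (n := ∑ i, a i) ?_
    rw [Nat.card_congr (e.toEquiv.trans Multiplicative.toAdd), Nat.card_pi, ← Finset.prod_pow_eq_pow_sum]
    simp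
  refine eq_inner_of_autGroup_eq_bot hab hS hF ?_ P
  rw [eq_bot_iff]
  intro α hα
  have hodd : Odd (orderOf (MulAut.congr e α)) := by
    rw [MulEquiv.orderOf_eq]
    have h := (coprime_card_autGroup hab hS hF).coprime_dvd_left
      (orderOf_dvd_natCard (⟨α, hα⟩ : F.autGroup S))
    rw [Subgroup.orderOf_mk] at h
    exact Nat.coprime_two_right.1 h
  have h1 := aut_odd_trivial a ha.injective ha1 _ hodd
  rw [← map_one (MulAut.congr e)] at h1
  exact Subgroup.mem_bot.2 ((MulAut.congr e).injective h1)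

end Cfsg.Agent.S5331
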