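import Cfsg.Statements.S5333
import Cfsg.Agent.Lib.Fusion.Alperin
import Cfsg.Agent.Lib.Fusion.Local

set_option autoImplicit false
open Cfsg

namespace Cfsg.Agent.S5333

open Cfsg.Agent.FusionSys Cfsg.FusionSystem

/-- Let F′ ≤ F be saturated fusion systems over the same finite p-group S. Suppose that for every subgroup Z ≤ S of order p that is fully centralized in F′, the maps of F and of F′ with source Z coincide and the centralizer systems C_F(Z) and C_{F′}(Z) coincide. Then F = F′. -/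
theorem result {Ω : Type*} [Group Ω] {S : Subgroup Ω} [Finite S] (p : ℕ) [Fact p.Prime] (hS : IsPGroup p S) (F : Cfsg.FusionSystem S) (hF : F.IsSaturated p) (F' : Cfsg.FusionSystem S) (hF' : F'.IsSaturated p) (hle : F' ≤ F) (hZ : ∀ Z : Subgroup Ω, Z ≤ S → Nat.card Z = p → F'.IsFullyCentralized Z → F.Hom Z = F'.Hom Z ∧ ∀ (C C' : Cfsg.FusionSystem (Cfsg.FusionSystem.centralizerIn S Z)), F.IsCentralizerSystem Z C → F'.IsCentralizerSystem Z C' → ∀ P : Subgroup Ω, C.Hom P = C'.Hom P) (P : Subgroup Ω) : F.Hom P = F'.Hom P := by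
  classical
  suffices h : F ≤ F' from Set.Subset.antisymm (h P) (hle P)
  refine alperin hS hF fun R hR => ?_
  have hRc : F.IsCentric R := by
    rcases hR with rfl | hR
    · refine ⟨le_rfl, fun Q hQ => ?_⟩
      rw [Subgroup.eq_of_le_of_card_ge (isConj_le_right hQ) (isConj_card hQ).le]
      exact inf_le_left
    · exact hR.1
  have hRS := hRc.1
  haveI := finite_of_le hRS
  by_cases hS1 : S = ⊥
  · intro α _
    haveI : Subsingleton R := ⟨fun a b => Subtype.ext ((Subgroup.mem_bot.1 (hS1 ▸ hRS a.2)).trans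
      (Subgroup.mem_bot.1 (hS1 ▸ hRS b.2)).symm)⟩
    rw [show α = 1 from MulEquiv.ext fun x => Subsingleton.elim _ _]
    exact Subgroup.one_mem _
  haveI : Nontrivial S := (Subgroup.nontrivial_iff_ne_bot S).2 hS1
  haveI := hS.center_nontrivial
  obtain ⟨z₀, hz₀⟩ := exists_prime_orderOf_dvd_card' (G := Subgroup.center S) p
    (by
      obtain ⟨k, hk⟩ := (hS.to_subgroup (Subgroup.center S)).exists_card_eq
      have : 1 < Nat.card (Subgroup.center S) := Finite.one_lt_card
      rw [hk] at this ⊢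
      exact dvd_pow_self p (by rintro rfl; simp at this))
  set z : Ω := ((z₀ : S) : Ω) with hz
  have hzS : z ∈ S := (z₀ : S).2
  have hzc : ∀ s ∈ S, s * z = z * s := fun s hs =>
    congrArg Subtype.val (Subgroup.mem_center_iff.1 z₀.2 ⟨s, hs⟩)
  have hzR : z ∈ R := centralizerIn_le_of_centric hRc
    ⟨hzS, Subgroup.mem_centralizer_iff.2 fun r hr => hzc r (hRS hr)⟩
  set Z := Subgroup.zpowers z with hZdef
  have hZS : Z ≤ S := Subgroup.zpowers_le.2 hzS
  have hZR : Z ≤ R := Subgroup.zpowers_le.2 hzR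
  have hZc : Nat.card Z = p := by
    rw [hZdef, Nat.card_zpowers, hz, Subgroup.orderOf_coe, Subgroup.orderOf_coe, hz₀]
  have hZall : ∀ s ∈ S, ∀ y ∈ Z, y * s = s * y := by
    rintro s hs _ ⟨k, rfl⟩
    exact ((show Commute s z from hzc s hs).zpow_right k).eq.symm
  have hcent : centralizerIn S Z = S := le_antisymm inf_le_left fun s hs =>
    ⟨hs, Subgroup.mem_centralizer_iff.2 fun y hy => hZall s hs y hy⟩
  have hfc : F'.IsFullyCentralized Z := ⟨hZS, fun Q _ => by
    rw [hcent]; exact Subgroup.card_le_of_le inf_le_left⟩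
  obtain ⟨hHom, hC⟩ := hZ Z hZS hZc hfc
  intro α hα
  rw [mem_autGroup_iff F hRS] at hα
  rw [mem_autGroup_iff F' hRS]
  set φ := R.subtype.comp α.toMonoidHom with hφ
  have h1 : φ.comp (Subgroup.inclusion hZR) ∈ F'.Hom Z := hHom ▸ restrict_mem F hα hZR
  obtain ⟨θ₀, hθ₀, hθr, hθ1, -⟩ := exists_inv F' h1
  obtain ⟨θ, hθ, hθe⟩ := (fullyCentralized_receptive hS hF' hfc).2 _ θ₀ hθ₀ hθr
  have hW : ∀ y ∈ (φ.comp (Subgroup.inclusion hZR)).range, ∀ r ∈ R, y * r = r * y := by
    rintro _ ⟨x, rfl⟩ r hr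
    obtain ⟨r', hr'⟩ := α.surjective ⟨r, hr⟩
    have hc : Subgroup.inclusion hZR x * r' = r' * Subgroup.inclusion hZR x :=
      Subtype.ext (hZall r' (hRS r'.2) x x.2)
    have := congrArg (fun w => ((α w : R) : Ω)) hc
    show φ (Subgroup.inclusion hZR x) * r = r * φ (Subgroup.inclusion hZR x)
    simpa [hφ, hr'] using this
  have hRe : R ≤ extender S (φ.comp (Subgroup.inclusion hZR)).range θ₀ := fun r hr =>
    centralizerIn_le_extender θ₀ ⟨hRS hr, Subgroup.mem_centralizer_iff.2 fun y hy => hW y hy r hr⟩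
  have hθR := restrict_mem F' hθ hRe
  set χ := (θ.comp (Subgroup.inclusion hRe)).comp (φ.codRestrict R fun x => (α x).2) with hχ
  have hχF : χ ∈ F.Hom R := F.comp_mem hα (hle R hθR) _
  have hfix : ∀ x : Z, χ (Subgroup.inclusion hZR x) = x := by
    intro x
    refine Eq.trans ?_ (hθ1 x ⟨x, rfl⟩)
    exact hθe _ ⟨x, rfl⟩ _
  have hle2 : R ⊔ Z ≤ R := sup_le le_rfl hZR
  have hmem : χ ∈ F.centralizerHom Z R := by
    refine ⟨hχF, le_of_le_of_eq hRS hcent.symm, fun x => hcent.symm ▸ hom_apply_mem F hχF x,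
      χ.comp (Subgroup.inclusion hle2), restrict_mem F hχF hle2, fun x => rfl, fun x => ?_⟩
    exact hfix x
  have heq := hC (centSystem F hZS) (centSystem F' hZS) (centSystem_spec F hZS) (centSystem_spec F' hZS) R
  rw [centSystem_spec F hZS R, centSystem_spec F' hZS R] at heq
  have hχF' : χ ∈ F'.Hom R := (heq ▸ hmem : χ ∈ F'.centralizerHom Z R).1
  obtain ⟨η, hη, -, hη1, -⟩ := exists_inv F' hθR
  have hmem' : ∀ x, χ x ∈ (θ.comp (Subgroup.inclusion hRe)).range := fun x => ⟨_, rfl⟩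
  exact hom_congr F' (F'.comp_mem hχF' hη hmem') fun x => (hη1 ⟨φ x, (α x).2⟩ (hmem' x)).symm

end Cfsg.Agent.S5333
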