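import Cfsg.Statements.S5334
import Cfsg.Agent.Lib.Fusion.CentricRestrict

set_option autoImplicit false
open Cfsg

namespace Cfsg.Agent.S5334

open Cfsg.Agent.FusionSys Cfsg.FusionSystem

/-- Let F′ ≤ F be saturated fusion systems over the same finite p-group S, let Q and R be F-centric subgroups, φ a map of F with source Q and values in R, and ψ a map of F with source R. If two of φ, ψ and the composite ψ ∘ φ are maps of F′ then so is the third. -/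
theorem result {Ω : Type*} [Group Ω] {S : Subgroup Ω} [Finite S] (p : ℕ) [Fact p.Prime] (hS : IsPGroup p S) (F : Cfsg.FusionSystem S) (hF : F.IsSaturated p) (F' : Cfsg.FusionSystem S) (hF' : F'.IsSaturated p) (hle : F' ≤ F) (Q R : Subgroup Ω) (hQ : F.IsCentric Q) (hR : F.IsCentric R) (φ : ↥Q →* Ω) (hφ : φ ∈ F.Hom Q) (hφR : ∀ x : Q, φ x ∈ R) (ψ : ↥R →* Ω) (hψ : ψ ∈ F.Hom R) : (φ ∈ F'.Hom Q → ψ ∈ F'.Hom R → ψ.comp (φ.codRestrict R hφR) ∈ F'.Hom Q) ∧ (ψ ∈ F'.Hom R → ψ.comp (φ.codRestrict R hφR) ∈ F'.Hom Q → φ ∈ F'.Hom Q) ∧ (φ ∈ F'.Hom Q → ψ.comp (φ.codRestrict R hφR) ∈ F'.Hom Q → ψ ∈ F'.Hom R) := by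
  refine ⟨fun h1 h2 => F'.comp_mem h1 h2 hφR, fun h2 h3 => ?_, fun h1 h3 => ?_⟩
  · obtain ⟨θ, hθ, -, hθ1, -⟩ := exists_inv F' h2
    have hmem : ∀ x, ψ.comp (φ.codRestrict R hφR) x ∈ ψ.range := fun x => ⟨_, rfl⟩
    exact hom_congr F' (F'.comp_mem h3 hθ hmem) fun x => (hθ1 ⟨φ x, hφR x⟩ (hmem x)).symm
  · obtain ⟨θ, hθ, hθr, -, hθ2⟩ := exists_inv F' h1
    have hle' : φ.range ≤ R := by rintro _ ⟨x, rfl⟩; exact hφR x
    have hmem : ∀ y, θ y ∈ Q := fun y => hθr.le ⟨y, rfl⟩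
    refine mem_of_restrict_centric hS hF hF' hle hψ hle' (isCentric_isConj hQ ⟨φ, hφ, rfl⟩) ?_
    refine hom_congr F' (F'.comp_mem hθ h3 hmem) fun y => ?_
    exact congrArg ψ (Subtype.ext (hθ2 y (hmem y)).symm)

end Cfsg.Agent.S5334
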