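import Cfsg.Statements.S5335
import Cfsg.Agent.Lib.Fusion.CentricRestrict

set_option autoImplicit false
open Cfsg

namespace Cfsg.Agent.S5335

open Cfsg.Agent.FusionSys Cfsg.FusionSystem

/-- Let F′ ≤ F be saturated fusion systems over the same finite p-group S. If the maps of F and of F′ with source Q coincide for every F-centric subgroup Q that is minimal among F-centric subgroups, then F = F′. -/
theorem result {Ω : Type*} [Group Ω] {S : Subgroup Ω} [Finite S] (p : ℕ) [Fact p.Prime] (hS : IsPGroup p S) (F : Cfsg.FusionSystem S) (hF : F.IsSaturated p) (F' : Cfsg.FusionSystem S) (hF' : F'.IsSaturated p) (hle : F' ≤ F) (hmin : ∀ Q : Subgroup Ω, F.IsCentric Q → (∀ R : Subgroup Ω, R < Q → ¬ F.IsCentric R) → F.Hom Q = F'.Hom Q) (P : Subgroup Ω) : F.Hom P = F'.Hom P := by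
  classical
  suffices h : F ≤ F' from Set.Subset.antisymm (h P) (hle P)
  refine alperin hS hF fun R hR => ?_
  have hRc : F.IsCentric R := by
    rcases hR with rfl | hR
    · refine ⟨le_rfl, fun Q hQ => ?_⟩
      rw [Subgroup.eq_of_le_of_card_ge (isConj_le_right hQ) (isConj_card hQ).le]
      exact inf_le_left
    · exact hR.1
  have hfin : {Q : Subgroup Ω | Q ≤ R ∧ F.IsCentric Q}.Finite :=
    (setOf_le_finite (S := S)).subset fun Q hQ => hQ.1.trans hRc.1
  obtain ⟨Q, ⟨hQR, hQc⟩, hQmin⟩ := Set.exists_min_image _ (fun Q : Subgroup Ω => Nat.card Q) hfin ⟨R, le_rfl, hRc⟩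
  have hQfin := finite_of_le hQc.1
  have hmin' := hmin Q hQc fun T hT hTc => by
    have := hQmin T ⟨hT.le.trans hQR, hTc⟩
    exact hT.ne (Subgroup.eq_of_le_of_card_ge hT.le this)
  intro α hα
  rw [mem_autGroup_iff F hRc.1] at hα
  rw [mem_autGroup_iff F' hRc.1]
  exact mem_of_restrict_centric hS hF hF' hle hα hQR hQc (hmin' ▸ restrict_mem F hα hQR)

end Cfsg.Agent.S5335
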