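import Cfsg.Statements.S5336
import Cfsg.Agent.Lib.Fusion.Subsystem
open Cfsg Cfsg.Agent.FusionSys

set_option autoImplicit false
open Cfsg

namespace Cfsg.Agent.S5336

theorem hom_congr_base {G : Type*} [Group G] {H T U : Subgroup G} (hTH : T ≤ H) (hUH : U ≤ H) (h : T = U)
    (P : Subgroup G) : (fusionSystemOfSubgroup H T hTH).Hom P = (fusionSystemOfSubgroup H U hUH).Hom P := by
  subst h; rfl

/-- Let G be a finite group with Sylow p-subgroup S whose fusion system F_S(G) is simple. If G has no nontrivial normal subgroup of order prime to p and no proper subgroup H containing S induces the same fusion system on S as G does, then G is a simple group. -/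
theorem result {G : Type*} [Group G] [Finite G] (p : ℕ) [Fact p.Prime] (S : Sylow p G) (hsimple : (Cfsg.groupFusionSystem (S : Subgroup G)).IsSimple p) (hcore : Cfsg.pPrimeCore p G = ⊥) (hmin : ∀ (H : Subgroup G) (hSH : (S : Subgroup G) ≤ H), H ≠ ⊤ → ∃ P : Subgroup G, (Cfsg.fusionSystemOfSubgroup H (S : Subgroup G) hSH).Hom P ≠ (Cfsg.groupFusionSystem (S : Subgroup G)).Hom P) : IsSimpleGroup G := by
  have hS1 : (S : Subgroup G) ≠ ⊥ := hsimple.2.1
  haveI : Nontrivial G := by
    by_contra h
    rw [not_nontrivial_iff_subsingleton] at h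
    exact hS1 (Subsingleton.elim _ _)
  refine ⟨fun H hH => ?_⟩
  rcases hsimple.2.2 _ _ (isNormalIn_of_normal S H) with h | ⟨hT, hhom⟩
  · left
    refine le_bot_iff.1 (le_of_le_of_eq (le_sSup (a := H) (show H ∈ {N : Subgroup G | N.Normal ∧ (Nat.card N).Coprime p} from ⟨hH, ?_⟩)) hcore)
    refine Nat.Coprime.symm ((Fact.out : p.Prime).coprime_iff_not_dvd.2 fun hd => ?_)
    obtain ⟨x, hx⟩ := exists_prime_orderOf_dvd_card' p hd
    have hxo : orderOf (x : G) = p := (Subgroup.orderOf_coe x).trans hx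
    have hxp : IsPGroup p (Subgroup.zpowers (x : G)) :=
      IsPGroup.of_card (n := 1) (by rw [Nat.card_zpowers, hxo, pow_one])
    obtain ⟨Q, hQ⟩ := hxp.exists_le_sylow
    obtain ⟨g, hg⟩ := MulAction.exists_smul_eq G Q S
    have h1 : g * (x : G) * g⁻¹ ∈ (S : Subgroup G) ⊓ H := by
      refine ⟨?_, hH.conj_mem _ x.2 g⟩
      rw [← hg]
      exact ⟨x, hQ (Subgroup.mem_zpowers _), rfl⟩
    rw [h, Subgroup.mem_bot] at h1
    have : (x : G) = 1 := conj_eq_one_iff.1 h1
    rw [this, orderOf_one] at hxo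
    exact (Fact.out : p.Prime).ne_one hxo.symm
  · right
    by_contra hne
    obtain ⟨P, hP⟩ := hmin H (inf_eq_left.1 hT) hne
    exact hP ((hom_congr_base _ _ hT P).symm.trans (hhom P))

end Cfsg.Agent.S5336
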