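import Cfsg.Statements.S5338
import Cfsg.Agent.Lib.Fusion.CentricRestrict
import Cfsg.Agent.Lib.Fusion.AlperinStep

set_option autoImplicit false
open Cfsg

namespace Cfsg.Agent.S5338

open Cfsg.Agent.FusionSys Cfsg.FusionSystem

/-- Let F be a saturated fusion system over a finite p-group S and F′ ≤ F a saturated subsystem over all of S that is invariant under F in the conjugation sense: for every map φ of F with source Q and every map ψ of F′ between subgroups R ≤ Q (with values in Q), the transported map φψφ⁻¹ defined on φ(R) is again a map of F′. If moreover Aut_{F′}(S) = Aut_F(S), then F′ = F. -/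
theorem result {Ω : Type*} [Group Ω] {S : Subgroup Ω} [Finite S] (p : ℕ) [Fact p.Prime] (hS : IsPGroup p S) (F : Cfsg.FusionSystem S) (hF : F.IsSaturated p) (F' : Cfsg.FusionSystem S) (hF' : F'.IsSaturated p) (hle : F' ≤ F) (hinv : ∀ (Q : Subgroup Ω) (φ : ↥Q →* Ω), φ ∈ F.Hom Q → ∀ (R : Subgroup Ω) (hRQ : R ≤ Q) (ψ : ↥R →* Ω), ψ ∈ F'.Hom R → ∀ (hψQ : ∀ x : R, ψ x ∈ Q), ∃ χ ∈ F'.Hom ((R.subgroupOf Q).map φ), ∀ (x : R) (hx : φ ⟨(x : Ω), hRQ x.2⟩ ∈ (R.subgroupOf Q).map φ), χ ⟨φ ⟨(x : Ω), hRQ x.2⟩, hx⟩ = φ ⟨ψ x, hψQ x⟩) (htop : F'.autGroup S = F.autGroup S) (P : Subgroup Ω) : F'.Hom P = F.Hom P := by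
  classical
  suffices h : F ≤ F' from Set.Subset.antisymm (hle P) (h P)
  refine alperin_step hS hF fun R hR hbig => ?_
  rcases hR with rfl | hR
  · exact htop.ge
  have hRS := hR.1.1
  have := finite_of_le hRS
  rcases eq_or_lt_of_le hRS with rfl | hlt
  · exact htop.ge
  have hBA : F'.autGroup R ≤ F.autGroup R := fun α hα => by
    rw [mem_autGroup_iff F' hRS] at hα
    exact (mem_autGroup_iff F hRS α).2 (hle R hα)
  have hfn' : F'.IsFullyNormalized R := ⟨hRS, fun Q hQ => hR.2.1.2 Q (by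
    obtain ⟨θ, hθ, hr⟩ := hQ; exact ⟨θ, hle R hθ, hr⟩)⟩
  have hnorm : ∀ a ∈ F.autGroup R, ∀ b ∈ F'.autGroup R, a * b * a⁻¹ ∈ F'.autGroup R := by
    intro a ha b hb
    rw [mem_autGroup_iff F hRS] at ha
    rw [mem_autGroup_iff F' hRS] at hb ⊢
    obtain ⟨χ, hχ, hχe⟩ := hinv R _ ha R le_rfl _ hb fun x => (b x).2
    have hm : ∀ y : R, (y : Ω) ∈ (R.subgroupOf R).map (R.subtype.comp a.toMonoidHom) := fun y =>
      ⟨a.symm y, (a.symm y).2, congrArg Subtype.val (a.apply_symm_apply y)⟩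
    refine hom_congr F' (restrict_mem F' hχ fun y hy => hm ⟨y, hy⟩) fun y => ?_
    have h1 := hχe (a.symm y) (hm (a (a.symm y)))
    show ((a (b (a.symm y)) : R) : Ω) = χ ⟨y, hm y⟩
    refine Eq.trans ?_ (h1.symm.trans (apply_congr χ (congrArg Subtype.val (a.apply_symm_apply y)) _ _))
    rfl
  haveI : ((F'.autGroup R).subgroupOf (F.autGroup R)).Normal := ⟨fun b hb a => hnorm a a.2 b hb⟩
  have hsyl := isSyl_of_fullyAutomized (fullyNormalized_imp hS hF' hfn').2
  have hsyl' : IsSyl p ((autInducedBy S R).subgroupOf (F.autGroup R)) ((F'.autGroup R).subgroupOf (F.autGroup R)) :=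
    ⟨fun x hx => hsyl.1 hx, isPGroup_subgroupOf hsyl.2.1, by
      rw [Subgroup.relIndex_subgroupOf hBA]; exact hsyl.2.2⟩
  obtain ⟨T, hT⟩ := hsyl'.toSylow
  intro α hα
  have htopA := Sylow.normalizer_sup_eq_top T
  have hTmap : (T : Subgroup ↥((F'.autGroup R).subgroupOf (F.autGroup R))).map
      ((F'.autGroup R).subgroupOf (F.autGroup R)).subtype = (autInducedBy S R).subgroupOf (F.autGroup R) := by
    rw [hT, Subgroup.subgroupOf_map_subtype, inf_eq_left.2 hsyl'.1]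
  obtain ⟨n, hn, b, hb, hnb⟩ := Subgroup.mem_sup_of_normal_right.1 (htopA.ge (Subgroup.mem_top ⟨α, hα⟩))
  replace hn : n ∈ Subgroup.normalizer (((autInducedBy S R).subgroupOf (F.autGroup R) : Subgroup _) : Set ↥(F.autGroup R)) := by
    rw [← hTmap]; exact hn
  have hα' : α = (n : MulAut R) * (b : MulAut R) := (congrArg Subtype.val hnb).symm
  rw [hα']
  refine mul_mem ?_ hb
  have hne := (mem_autGroup_iff F hRS _).1 n.2
  have hr : (R.subtype.comp (n : MulAut R).toMonoidHom).range = R := by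
    ext y
    exact ⟨fun ⟨x, hx⟩ => hx ▸ ((n : MulAut R) x).2, fun hy => ⟨(n : MulAut R).symm ⟨y, hy⟩,
      congrArg Subtype.val ((n : MulAut R).apply_symm_apply ⟨y, hy⟩)⟩⟩
  obtain ⟨ψ, hψ, hψe⟩ := (fullyNormalized_receptive hS hF hR.2.1).2 R _ hne hr
  have hN : normalizerIn S R ≤ extender S R (R.subtype.comp (n : MulAut R).toMonoidHom) := by
    intro g hg
    obtain ⟨c, hc, hce⟩ := exists_conjAut (P := R) hg.1 hg.2
    have h1 := (Subgroup.mem_normalizer_iff.1 hn ⟨c, autInducedBy_le_autGroup F hRS hc⟩).1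
      (Subgroup.mem_subgroupOf.2 hc)
    obtain ⟨h, hh, hhe⟩ := (mem_autInducedBy_iff _).1 (Subgroup.mem_subgroupOf.1 h1)
    refine Subgroup.subset_closure ⟨hg.1, hg.2, h, hh, fun x hx => ?_⟩
    have h2 := hhe ((n : MulAut R) x)
    simp only [Subgroup.coe_mul, Subgroup.coe_inv, MulAut.mul_apply] at h2
    rw [show ((n : MulAut R))⁻¹ ((n : MulAut R) x) = x from (n : MulAut R).symm_apply_apply x] at h2
    refine Eq.trans ?_ h2
    show (((n : MulAut R) ⟨_, hx⟩ : R) : Ω) = _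
    rw [show (⟨g * (x : Ω) * g⁻¹, hx⟩ : R) = c x from Subtype.ext (hce x).symm]
  have hRN := le_normalizerIn hRS
  have h2 := hbig _ _ (restrict_mem F hψ hN) (by
    haveI := finite_of_le (normalizerIn_le S R)
    exact lt_of_le_of_ne (Subgroup.card_le_of_le hRN)
      fun he => (lt_normalizerIn hS hlt).ne (Subgroup.eq_of_le_of_card_ge hRN he.ge))
  exact (mem_autGroup_iff F' hRS _).2
    (hom_congr F' (restrict_mem F' h2 hRN) fun x => (hψe x x.2 (hN (hRN x.2))).symm)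

end Cfsg.Agent.S5338
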