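import Cfsg.Statements.S5343
import Cfsg.Agent.S5336
import Cfsg.Agent.Lib.Fusion.Subsystem
import Cfsg.Agent.Lib.Fusion.SimpleTransport
import Cfsg.Agent.Lib.CharP.AxB
open Cfsg Cfsg.Agent.FusionSys Cfsg.FusionSystem

set_option autoImplicit false
universe u
open Cfsg

namespace Cfsg.Agent.S5343

/-- A realizer of least order is simple. -/
theorem simple_of_minimal {Ω : Type u} [Group Ω] {S : Subgroup Ω} [Finite S] {p : ℕ} [Fact p.Prime]
    {F : FusionSystem S} (hsimple : F.IsSimple p) {G : Type u} [Group G] [Finite G] {ι : S →* G}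
    (hι : F.IsRealizedBy ι) (T : Sylow p G) (hT : (T : Subgroup G) = ι.range)
    (hmin : ∀ (H : Type u) [Group H] [Finite H] (κ : S →* H), F.IsRealizedBy κ →
      (∃ U : Sylow p H, (U : Subgroup H) = κ.range) → Nat.card G ≤ Nat.card H) : IsSimpleGroup G := by
  have hiso : IsFusIso F (groupFusionSystem (T : Subgroup G)) ι := by
    rw [hT]; exact isFusIso_of_realized hι
  have hTs : (groupFusionSystem (T : Subgroup G)).IsSimple p :=
    hiso.simple_push hsimple (groupFusionSystem_saturated T)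
  have hιT : ∀ x : S, ι x ∈ (T : Subgroup G) := fun x => hT ▸ ⟨x, rfl⟩
  refine Cfsg.Agent.S5336.result p T hTs ?_ fun H hTH hH => ?_
  · by_contra hne
    set H := pPrimeCore p G with hH
    haveI hn : H.Normal := Subgroup.sSup_normal _ fun N hN => hN.1
    have hcop : (Nat.card H).Coprime p := AxB.coprime_card_pPrimeCore p
    have hTH : ∀ x : G, x ∈ (T : Subgroup G) → x ∈ H → x = 1 := by
      intro x hxT hxH
      obtain ⟨k, hk⟩ := IsPGroup.iff_orderOf.1 T.2 ⟨x, hxT⟩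
      rw [Subgroup.orderOf_mk] at hk
      rcases k with _ | k
      · exact orderOf_eq_one_iff.1 (by rw [hk, pow_zero])
      · exfalso
        have hd : p ∣ Nat.card H := (dvd_pow_self p k.succ_ne_zero).trans (by
          rw [← hk, ← Subgroup.orderOf_mk x hxH]; exact orderOf_dvd_natCard _)
        exact (Fact.out : p.Prime).ne_one (Nat.eq_one_of_dvd_coprimes hcop hd dvd_rfl)
    set κ : S →* G ⧸ H := (QuotientGroup.mk' H).comp ι
    have hκinj : Function.Injective κ := (injective_iff_map_eq_one κ).2 fun x hx =>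
      hι.1 (((hTH _ (hιT x) ((QuotientGroup.eq_one_iff _).1 hx))).trans (map_one ι).symm)
    have hκ : F.IsRealizedBy κ := by
      refine ⟨hκinj, fun P hP φ hφ => (hι.2 P hP φ hφ).trans ⟨fun ⟨g, hg⟩ => ⟨g, fun x => ?_⟩,
        fun ⟨γ, hγ⟩ => ?_⟩⟩
      · show QuotientGroup.mk' H (ι _) = _
        rw [hg x, map_mul, map_mul, map_inv]
        rfl
      · obtain ⟨g, hg, hgS⟩ := exists_lift_conj T H (P := imageAlong ι P)
          (by rw [hT]; exact Subgroup.map_le_range ι _) γ (by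
            rintro _ ⟨x, hx, rfl⟩
            exact ⟨_, hιT ⟨φ ⟨x, hx⟩, hφ _⟩, hγ ⟨x, hx⟩⟩)
        refine ⟨g, fun x => ?_⟩
        have h1 := (T : Subgroup G).mul_mem ((T : Subgroup G).inv_mem (hιT ⟨φ x, hφ x⟩))
          (hgS _ (imageAlong_mem (ι := ι) (P := P) (x := ⟨x, hP x.2⟩) x.2))
        refine eq_of_inv_mul_eq_one (hTH _ h1 ((QuotientGroup.eq).1 ?_))
        show QuotientGroup.mk (ι ⟨φ x, hφ x⟩) = QuotientGroup.mk (g * ι ⟨x, hP x.2⟩ * g⁻¹)
        rw [QuotientGroup.mk_mul, QuotientGroup.mk_mul, QuotientGroup.mk_inv, hg]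
        exact hγ x
    have h2 := hmin (G ⧸ H) κ hκ ⟨T.mapSurjective (QuotientGroup.mk'_surjective H), by
      rw [Sylow.coe_mapSurjective, hT, MonoidHom.range_comp]⟩
    have h3 := Subgroup.card_eq_card_quotient_mul_card_subgroup H
    have h4 : 1 < Nat.card H := (Subgroup.one_lt_card_iff_ne_bot H).2 hne
    have h5 : 0 < Nat.card (G ⧸ H) := Nat.card_pos
    nlinarith
  · by_contra h
    push Not at h
    set κ : S →* H := ι.codRestrict H fun x => hTH (hιT x)
    have hκ : F.IsRealizedBy κ := by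
      refine ⟨fun a b hab => hι.1 (congrArg Subtype.val hab), fun P hP φ hφ =>
        (hι.2 P hP φ hφ).trans ⟨fun ⟨g, hg⟩ => ?_, fun ⟨g, hg⟩ => ⟨g, fun x => congrArg Subtype.val (hg x)⟩⟩⟩
      have hle : imageAlong ι P ≤ (T : Subgroup G) := hT ▸ Subgroup.map_le_range ι _
      have hm : conjHom (imageAlong ι P) g ∈ (groupFusionSystem (T : Subgroup G)).Hom (imageAlong ι P) := by
        refine ⟨hle, ?_, g, fun _ => rfl⟩
        rintro ⟨_, x, hx, rfl⟩
        show g * ι x * g⁻¹ ∈ _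
        rw [show g * ι x * g⁻¹ = ι ⟨φ ⟨x, hx⟩, hφ _⟩ from (hg ⟨x, hx⟩).symm]
        exact hιT _
      rw [← h] at hm
      obtain ⟨-, -, g', hg', he⟩ := hm
      refine ⟨⟨g', hg'⟩, fun x => Subtype.ext ?_⟩
      show ι _ = g' * ι _ * g'⁻¹
      rw [hg x]
      exact he ⟨_, imageAlong_mem (ι := ι) (P := P) (x := ⟨x, hP x.2⟩) x.2⟩
    refine absurd (hmin H κ hκ ⟨T.subtype hTH, ?_⟩) (not_le.2 ?_)
    · rw [Sylow.coe_subtype, hT]
      ext z
      exact ⟨fun ⟨x, hx⟩ => ⟨x, Subtype.ext hx⟩, fun ⟨x, hx⟩ => ⟨x, congrArg Subtype.val hx⟩⟩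
    · exact lt_of_le_of_ne (Subgroup.card_le_card_group H) fun e => hH (Subgroup.card_eq_iff_eq_top H |>.1 e)

/-- Let F be a simple saturated fusion system over a finite p-group S that is realized by some finite group on a Sylow p-subgroup. Then F is realized by a finite simple group on a Sylow p-subgroup. -/
theorem result {Ω : Type u} [Group Ω] {S : Subgroup Ω} [Finite S] (p : ℕ) [Fact p.Prime] (hS : IsPGroup p S) (F : Cfsg.FusionSystem S) (hsimple : F.IsSimple p) (hreal : F.IsRealizable p) : ∃ (G : Type u) (_ : Group G) (_ : Finite G) (_ : IsSimpleGroup G) (ι : ↥S →* G), F.IsRealizedBy ι ∧ ∃ T : Sylow p G, (T : Subgroup G) = ι.range := by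
  classical
  obtain ⟨G₀, hg₀, hf₀, ι₀, hι₀, hT₀⟩ := hreal
  have hex : ∃ n, ∃ (G : Type u) (_ : Group G) (_ : Finite G) (ι : S →* G),
      F.IsRealizedBy ι ∧ (∃ T : Sylow p G, (T : Subgroup G) = ι.range) ∧ Nat.card G = n :=
    ⟨_, G₀, hg₀, hf₀, ι₀, hι₀, hT₀, rfl⟩
  obtain ⟨G, hg, hf, ι, hι, ⟨T, hT⟩, hn⟩ := Nat.find_spec hex
  refine ⟨G, hg, hf, simple_of_minimal hsimple hι T hT fun H hgH hfH κ hκ hU => ?_, ι, hι, T, hT⟩
  rw [hn]
  exact Nat.find_min' hex ⟨H, hgH, hfH, κ, hκ, hU, rfl⟩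

end Cfsg.Agent.S5343
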