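import Cfsg.Statements.S5345
import Cfsg.Agent.Lib.Fischer.Basic

set_option autoImplicit false
open Cfsg

namespace Cfsg.Agent.S5345

open Cfsg.Agent.Fischer


/-- Let D be a conjugation-invariant generating set of 3-transpositions of a finite group G and T a Sylow 2-subgroup of G. Then the members of D lying in T generate an abelian subgroup, and their number is the width of D (the largest number of pairwise commuting members of D). -/
theorem result {G : Type*} [Group G] [Finite G] {D : Set G} (hD : Cfsg.IsThreeTranspositionGroup D) (T : Sylow 2 G) : IsMulCommutative (Subgroup.closure {d : G | d ∈ D ∧ d ∈ T}) ∧ {d : G | d ∈ D ∧ d ∈ T}.ncard = Cfsg.commutingWidth D := by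
  have hS := hD.1
  have hcomm : ∀ a ∈ {d : G | d ∈ D ∧ d ∈ T}, ∀ b ∈ {d : G | d ∈ D ∧ d ∈ T}, Commute a b :=
    fun a ha b hb => TSet.commute_of_mem_twoGroup hS T.isPGroup' ha.1 hb.1 ha.2 hb.2
  refine ⟨Subgroup.isMulCommutative_closure fun a ha b hb => hcomm a ha b hb, ?_⟩
  refine le_antisymm ?_ ?_
  · refine le_csSup ?_ ⟨_, fun a ha => ha.1, Set.toFinite _, hcomm, rfl⟩
    exact ⟨Nat.card G, by
      rintro n ⟨E, -, -, -, rfl⟩
      rw [← Set.ncard_univ]
      exact Set.ncard_le_ncard (Set.subset_univ _) Set.finite_univ⟩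
  · refine csSup_le ⟨0, ∅, Set.empty_subset _, Set.finite_empty, by simp, Set.ncard_empty _⟩ ?_
    rintro n ⟨E, hED, -, hEc, rfl⟩
    obtain ⟨P, hP⟩ := (isPGroup_closure_of_commute (fun a ha => TSet.sq hS (hED ha))
      hEc).exists_le_sylow
    obtain ⟨g, hg⟩ := MulAction.exists_smul_eq G P T
    refine Set.ncard_le_ncard_of_injOn (fun a => g * a * g⁻¹) (fun a ha => ⟨hD.2.1 g a (hED ha), ?_⟩)
      (fun a _ b _ h => by simpa using h) (Set.toFinite _)
    have : a ∈ P := hP (Subgroup.subset_closure ha)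
    rw [← hg]
    exact ⟨a, this, rfl⟩

end Cfsg.Agent.S5345
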