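import Cfsg.Statements.S5346
import Cfsg.Agent.Lib.Fischer.WidthOne
import Cfsg.Agent.Lib.Transfer.Basic

set_option autoImplicit false
open Cfsg

namespace Cfsg.Agent.S5346

open Cfsg.Agent.Fischer Cfsg.Agent


/-- Let D be a conjugation-invariant generating set of 3-transpositions of a finite group G and d a member of D. Then D has width 1 (no two different members of D commute) if and only if G is the product of the subgroup generated by d with the largest normal 3-subgroup of G. -/
theorem result {G : Type*} [Group G] [Finite G] {D : Set G} (hD : Cfsg.IsThreeTranspositionGroup D) {d : G} (hd : d ∈ D) : Cfsg.commutingWidth D = 1 ↔ Subgroup.zpowers d ⊔ Cfsg.pCore 3 G = ⊤ := by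
  haveI : Fact (Nat.Prime 3) := ⟨Nat.prime_three⟩
  have hS := hD.1
  have hbdd : BddAbove {n : ℕ | ∃ E : Set G, E ⊆ D ∧ E.Finite ∧
      (∀ a ∈ E, ∀ b ∈ E, Commute a b) ∧ E.ncard = n} := ⟨Nat.card G, by
    rintro n ⟨E, -, -, -, rfl⟩
    rw [← Set.ncard_univ]
    exact Set.ncard_le_ncard (Set.subset_univ _) Set.finite_univ⟩
  constructor
  · intro hw
    have hone : ∀ a ∈ D, ∀ b ∈ D, Commute a b → a = b := by
      intro a ha b hb hab
      by_contra hne
      have h2 : 2 ≤ commutingWidth D := by
        refine le_csSup hbdd ⟨{a, b}, Set.insert_subset ha (Set.singleton_subset_iff.2 hb),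
          Set.toFinite _, ?_, Set.ncard_pair hne⟩
        rintro x (rfl | rfl) y (rfl | rfl)
        exacts [Commute.refl _, hab, hab.symm, Commute.refl _]
      omega
    have hbr : ∀ a ∈ D, ∀ b ∈ D, a * b * a = b * a * b := by
      intro a ha b hb
      by_cases h : Commute a b
      · rw [hone a ha b hb h]
      · exact TSet.braid hS ha hb h
    rw [eq_top_iff, ← hD.2.2, Subgroup.closure_le]
    intro e he
    obtain ⟨N, hN, hN3, hmem⟩ :=
      braidSet.mul_mem_normal_three_group (fun x hx => TSet.sq hS hx) hbr hD.2.1 hd he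
    have h1 : d * e ∈ Subgroup.zpowers d ⊔ pCore 3 G :=
      Subgroup.mem_sup_right (PBasic.le_pCore hN hN3 hmem)
    have h2 : d ∈ Subgroup.zpowers d ⊔ pCore 3 G :=
      Subgroup.mem_sup_left (Subgroup.mem_zpowers d)
    have := mul_mem h2 h1
    rwa [← mul_assoc, TSet.sq hS hd, one_mul] at this
  · intro htop
    have h3 : IsPGroup 3 (pCore 3 G) := PBasic.pCore_isPGroup 3 G
    have hN : (pCore 3 G).Normal := Cfsg.pCore_normal 3 G
    have hnot : ∀ x ∈ pCore 3 G, orderOf x ≠ 2 := by
      intro x hx h2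
      obtain ⟨k, hk⟩ := IsPGroup.iff_orderOf.1 h3 ⟨x, hx⟩
      rw [Subgroup.orderOf_mk, h2] at hk
      rcases Nat.eq_zero_or_pos k with rfl | hk0
      · simp at hk
      · have : 3 ∣ 2 := hk ▸ dvd_pow_self 3 hk0.ne'
        omega
    have hdec : ∀ e ∈ D, d * e ∈ pCore 3 G := by
      intro e he
      have hmem : e ∈ Subgroup.zpowers d ⊔ pCore 3 G := by rw [htop]; trivial
      obtain ⟨y, ⟨k, rfl⟩, z, hz, hyz⟩ := Subgroup.mem_sup_of_normal_right.1 hmem
      simp only at hyz
      rcases Int.even_or_odd' k with ⟨j, rfl | rfl⟩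
      · have : (d : G) ^ (2 * j) = 1 := by
          rw [zpow_mul, zpow_two, TSet.sq hS hd, one_zpow]
        rw [this, one_mul] at hyz
        exact absurd (hS.1 e he) (hnot e (hyz ▸ hz))
      · have : (d : G) ^ (2 * j + 1) = d := by
          rw [zpow_add, zpow_mul, zpow_two, TSet.sq hS hd, one_zpow, one_mul, zpow_one]
        rw [this] at hyz
        rw [← hyz, ← mul_assoc, TSet.sq hS hd, one_mul]
        exact hz
    have hone : ∀ a ∈ D, ∀ b ∈ D, Commute a b → a = b := by
      intro a ha b hb hab
      by_contra hne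
      have hmem : a * b ∈ pCore 3 G := by
        have := mul_mem (inv_mem (hdec a ha)) (hdec b hb)
        rwa [mul_inv_rev, TSet.inv hS ha, TSet.inv hS hd, mul_assoc, ← mul_assoc d d,
          TSet.sq hS hd, one_mul] at this
      refine hnot _ hmem (orderOf_eq_prime ?_ fun h => hne ?_)
      · exact (commute_iff_sq_eq_one (TSet.sq hS ha) (TSet.sq hS hb)).1 hab
      · exact (mul_eq_one_iff_eq_inv.1 h).trans (TSet.inv hS hb)
    refine le_antisymm (csSup_le ⟨0, ∅, Set.empty_subset _, Set.finite_empty, by simp,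
      Set.ncard_empty _⟩ ?_) (le_csSup hbdd ⟨{d}, Set.singleton_subset_iff.2 hd,
        Set.finite_singleton d, by simp, Set.ncard_singleton d⟩)
    rintro n ⟨E, hE, hfin, hc, rfl⟩
    rw [Set.ncard_le_one_iff hfin]
    intro a b ha hb
    exact hone a (hE ha) b (hE hb) (hc a ha b hb)

end Cfsg.Agent.S5346
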