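import Cfsg.Statements.S5350
import Cfsg.Agent.Lib.Fischer.Cores

set_option autoImplicit false
open Cfsg

namespace Cfsg.Agent.S5350

open Cfsg.Agent.Fischer Cfsg.Agent


/-- Let D be a conjugacy class of 3-transpositions generating the finite group G, with at least two members, and d a member of D. Then the set of members w of D whose commuting partners in D (other than w) are exactly those of d (other than d) coincides with the set of members of D lying in the coset of d modulo the largest normal 3-subgroup of G, and also with the orbit of d under conjugation by that normal 3-subgroup. -/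
theorem result {G : Type*} [Group G] [Finite G] {D : Set G} (hD : Cfsg.IsThreeTranspositionClass D) (hD2 : ∃ a ∈ D, ∃ b ∈ D, a ≠ b) {d : G} (hd : d ∈ D) : {w : G | w ∈ D ∧ {y : G | y ∈ D ∧ y ≠ d ∧ Commute d y} = {y : G | y ∈ D ∧ y ≠ w ∧ Commute w y}} = {w : G | w ∈ D ∧ d⁻¹ * w ∈ Cfsg.pCore 3 G} ∧ {w : G | w ∈ D ∧ {y : G | y ∈ D ∧ y ≠ d ∧ Commute d y} = {y : G | y ∈ D ∧ y ≠ w ∧ Commute w y}} = {w : G | ∃ g ∈ Cfsg.pCore 3 G, w = g * d * g⁻¹} := by
  have hT := TClass.toGroup hD
  haveI : (pCore 3 G).Normal := Cfsg.pCore_normal 3 G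
  have key : ∀ w : G, w ∈ {w : G | w ∈ D ∧ {y : G | y ∈ D ∧ y ≠ d ∧ Commute d y} =
      {y : G | y ∈ D ∧ y ≠ w ∧ Commute w y}} ↔ (w ∈ D ∧ d * w ∈ pCore 3 G) := by
    intro w
    rw [← sameNbr_iff hT hd]
    refine and_congr_right fun _ => ⟨fun h y hy => ?_, fun h => Set.ext fun y => ?_⟩
    · simpa [hy] using Set.ext_iff.1 h y
    · exact and_congr_right fun hy => h y hy
  refine ⟨Set.ext fun v => by rw [key v, Set.mem_setOf_eq, TSet.inv hD.1 hd],
    Set.ext fun v => ⟨fun h => ?_, ?_⟩⟩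
  · exact SameNbr.eq_conj hT hd ((sameNbr_iff hT hd).2 ((key v).1 h))
  · rintro ⟨g, hg, rfl⟩
    refine (key _).2 ⟨hT.2.1 g d hd, ?_⟩
    have := mul_conj_mem (d := d) hg
    rwa [TSet.inv hD.1 hd] at this

end Cfsg.Agent.S5350
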