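import Cfsg.Statements.S5355
import Cfsg.Agent.Lib.Fischer.Cores
import Cfsg.Agent.S5344

set_option autoImplicit false
open Cfsg

namespace Cfsg.Agent.S5355

open Cfsg.Agent.Fischer Cfsg.Agent


/-- Let D be a conjugacy class of 3-transpositions generating the finite group G, with at least two members, and d a member of D. Suppose that every member of D commuting with d commutes with exactly the same members of D as d does, and that exactly one member of D other than d commutes with d. Then G is isomorphic to the symmetric group of degree 4. -/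
theorem result {G : Type*} [Group G] [Finite G] {D : Set G} (hD : Cfsg.IsThreeTranspositionClass D) (hD2 : ∃ a ∈ D, ∃ b ∈ D, a ≠ b) {d : G} (hd : d ∈ D) (hV : {y : G | y ∈ D ∧ Commute d y} = {v : G | v ∈ D ∧ ∀ e ∈ D, Commute v e ↔ Commute d e}) (hm : {y : G | y ∈ D ∧ Commute d y}.ncard = 2) : Nonempty (G ≃* Equiv.Perm (Fin 4)) := by
  have hT := TClass.toGroup hD
  have hVa : ∀ a ∈ D, ∀ y ∈ D, Commute a y → SameComm D a y := by
    intro a ha y hy hay
    obtain ⟨g, rfl⟩ := TClass.transitive hD d hd a ha
    have hh : g * (g⁻¹ * y * g) * g⁻¹ = y := by group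
    have hdy : Commute d (g⁻¹ * y * g) := by
      rw [← commute_conj_iff g, hh]; exact hay
    have h1 : g⁻¹ * y * g ∈ {v : G | v ∈ D ∧ ∀ e ∈ D, Commute v e ↔ Commute d e} :=
      hV.subset ⟨conj_inv_mem hT.2.1 g hy, hdy⟩
    have h2 := SameComm.conj hT.2.1 g (show SameComm D d _ from h1)
    rwa [hh] at h2
  have hpart : ∀ a ∈ D, ∃ a', (a' ∈ D ∧ a' ≠ a ∧ Commute a a') ∧
      ∀ y ∈ D, Commute a y → y = a ∨ y = a' := by
    intro a ha
    obtain ⟨x, y, hxy, hset⟩ := Set.ncard_eq_two.1 hm
    obtain ⟨v, hv, hvd, hdv, hall⟩ : ∃ v, v ∈ D ∧ v ≠ d ∧ Commute d v ∧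
        ∀ w ∈ D, Commute d w → w = d ∨ w = v := by
      have hdm : d ∈ ({x, y} : Set G) := hset ▸ ⟨hd, Commute.refl d⟩
      rcases hdm with rfl | hdy
      · have := hset.ge (Set.mem_insert_of_mem d rfl)
        exact ⟨y, this.1, hxy.symm, this.2, fun w hw hc => hset.le ⟨hw, hc⟩⟩
      · have := hset.ge (Set.mem_insert x {y})
        refine ⟨x, this.1, fun h => hxy (h.trans (Set.mem_singleton_iff.1 hdy)), this.2,
          fun w hw hc => ?_⟩
        rcases hset.le ⟨hw, hc⟩ with h | h
        · exact Or.inr h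
        · exact Or.inl (h.trans (Set.mem_singleton_iff.1 hdy).symm)
    obtain ⟨g, rfl⟩ := TClass.transitive hD d hd a ha
    refine ⟨g * v * g⁻¹, ⟨hT.2.1 g v hv, fun h => hvd (by simpa using h),
      (commute_conj_iff g d v).2 hdv⟩, fun w hw hc => ?_⟩
    have hh : g * (g⁻¹ * w * g) * g⁻¹ = w := by group
    rcases hall _ (conj_inv_mem hT.2.1 g hw) (by rw [← commute_conj_iff g, hh]; exact hc) with h | h
    · left; rw [← h, hh]
    · right; rw [← h, hh]
  choose! P hP hPall using hpart
  have hsame : ∀ a ∈ D, SameComm D a (P a) := fun a ha => hVa a ha _ (hP a ha).1 (hP a ha).2.2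
  have hu2 : ∀ a ∈ D, (a * P a) * (a * P a) = 1 := fun a ha => by
    rw [← pow_two, (hP a ha).2.2.mul_pow, pow_two, pow_two, TSet.sq hD.1 ha,
      TSet.sq hD.1 (hP a ha).1, one_mul]
  have hstar : ∀ a ∈ D, ∀ b ∈ D, ¬ Commute a b →
      b * (a * P a) * b = (b * P b) * (a * P a) ∧ P b = (a * P a) * b * (a * P a) := by
    intro a ha b hb hab
    have hi : (a * P a)⁻¹ = a * P a := inv_eq_of_mul_eq_one_right (hu2 a ha)
    have h1 := SameComm.transport hT ha (hsame a ha) hb
    rw [hi] at h1
    have hne : (a * P a) * b * (a * P a) ≠ b := by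
      intro h
      have hc : Commute b (a * P a) := by
        show b * (a * P a) = (a * P a) * b
        conv_lhs => rw [← h]
        rw [mul_assoc, hu2 a ha, mul_one]
      exact hab ((TSet.commute_mul_iff hD.1 ha (hP a ha).1 hb (hP a ha).2.1.symm
        (hP a ha).2.2).1 hc).1.symm
    have hPb : P b = (a * P a) * b * (a * P a) :=
      ((hPall b hb _ h1.1 h1.commute).resolve_left hne).symm
    refine ⟨?_, hPb⟩
    conv_rhs => rw [hPb]
    simp only [mul_assoc]
    have := hu2 a ha
    simp only [mul_assoc] at this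
    rw [this, mul_one]
  obtain ⟨c, hc, hdc⟩ := TClass.exists_not_commute hD hD2 hd
  have hDc : ∀ x ∈ D, x * c * x ∈ D := fun x hx => by
    have := hT.2.1 x c hc; rwa [TSet.inv hD.1 hx] at this
  -- every member commutes with one of `d`, `c`, `d * c * d`
  have hthree : ∀ f ∈ D, Commute d f ∨ Commute c f ∨ Commute (d * c * d) f := by
    intro f hf
    by_contra h
    push Not at h
    obtain ⟨hdf, hcf, hef⟩ := h
    have e1 := (hstar d hd c hc hdc).1
    have e2 := (hstar f hf c hc (fun h => hcf h.symm)).1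
    have e3 := (hstar f hf d hd (fun h => hdf h.symm)).1
    have hg : d * f * d ∈ D := by
      have := hT.2.1 d f hf; rwa [TSet.inv hD.1 hd] at this
    have hgc : ¬ Commute (d * f * d) c := fun h => hef (by
      rw [← commute_conj_iff d, TSet.inv hD.1 hd,
        show d * (d * c * d) * d = (d * d) * c * (d * d) by simp only [mul_assoc],
        TSet.sq hD.1 hd, one_mul, mul_one]
      exact h.symm)
    have e4 := (hstar _ hg c hc hgc).1
    have hgu : d * f * d * P (d * f * d) = (d * P d) * (f * P f) := by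
      have hPg : P (d * f * d) = d * P f * d := by
        have hne : d * P f * d ≠ d * f * d := fun h => (hP f hf).2.1 (by simpa using h)
        have hcm : Commute (d * f * d) (d * P f * d) := by
          have := (commute_conj_iff d f (P f)).2 (hP f hf).2.2
          rwa [TSet.inv hD.1 hd] at this
        have hm' : d * P f * d ∈ D := by
          have := hT.2.1 d _ (hP f hf).1; rwa [TSet.inv hD.1 hd] at this
        exact ((hPall _ hg _ hm' hcm).resolve_left hne).symm
      rw [hPg, ← e3]
      calc d * f * d * (d * P f * d) = d * f * (d * d) * P f * d := by simp only [mul_assoc]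
        _ = _ := by rw [TSet.sq hD.1 hd, mul_one]; simp only [mul_assoc]
    rw [hgu] at e4
    have sc := TSet.sq hD.1 hc
    have e5 : c * ((d * P d) * (f * P f)) * c =
        (c * (d * P d) * c) * (c * (f * P f) * c) := by
      calc c * ((d * P d) * (f * P f)) * c = c * (d * P d) * 1 * (f * P f) * c := by
            simp only [mul_one, mul_assoc]
        _ = c * (d * P d) * (c * c) * (f * P f) * c := by rw [sc]
        _ = _ := by simp only [mul_assoc]
    rw [e5, e1, e2, mul_assoc (c * P c), mul_right_inj, mul_right_inj] at e4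
    have h1 : c * P c = 1 := mul_eq_right.1 e4
    rw [mul_eq_one_iff_eq_inv, TSet.inv hD.1 (hP c hc).1] at h1
    exact (hP c hc).2.1 h1.symm
  set v := P d
  have hv := (hP d hd).1
  have hcv : ¬ Commute c v := fun h => hdc (((hsame d hd).2 c hc).1 h.symm)
  obtain ⟨φ, hφ, e1, e2, e3⟩ := S5344.result hD.1 hd hc hv (hP d hd).2.1.symm (hP d hd).2.2 hdc hcv
  refine ⟨(MulEquiv.ofBijective φ ⟨hφ, ?_⟩).symm⟩
  rw [← MonoidHom.range_eq_top, eq_top_iff, ← hD.2.2, Subgroup.closure_le]
  have md : d ∈ φ.range := ⟨_, e1⟩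
  have mc : c ∈ φ.range := ⟨_, e2⟩
  have mv : v ∈ φ.range := ⟨_, e3⟩
  have mu : d * v ∈ φ.range := mul_mem md mv
  have me : d * c * d ∈ φ.range := mul_mem (mul_mem md mc) md
  intro f hf
  have he : d * c * d ∈ D := hDc d hd
  rcases hthree f hf with h | h | h
  · rcases hPall d hd f hf h with rfl | rfl
    · exact md
    · exact mv
  · rcases hPall c hc f hf h with rfl | rfl
    · exact mc
    · rw [(hstar d hd c hc hdc).2]
      exact mul_mem (mul_mem mu mc) mu
  · rcases hPall _ he f hf h with rfl | rfl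
    · exact me
    · have hde : ¬ Commute d (d * c * d) := fun h => hdc (by
        rw [← commute_conj_iff d, TSet.inv hD.1 hd, TSet.sq hD.1 hd, one_mul]; exact h)
      rw [(hstar d hd _ he hde).2]
      exact mul_mem (mul_mem mu me) mu

end Cfsg.Agent.S5355
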