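import Cfsg.Statements.S5356
import Cfsg.Agent.Lib.Fischer.SylowFix

set_option autoImplicit false
open Cfsg

namespace Cfsg.Agent.S5356

open Cfsg.Agent.Fischer Cfsg.Agent
open scoped commutatorElement Pointwise


/-- Let D be a conjugacy class of 3-transpositions generating the finite group G, with at least two members, and d a member of D such that every member of D commuting with d commutes with exactly the same members of D as d. Then there is a Sylow 3-subgroup P of G normalized by d such that G is generated by d, P and the largest normal 2-subgroup of G. -/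
theorem result {G : Type*} [Group G] [Finite G] {D : Set G} (hD : Cfsg.IsThreeTranspositionClass D) (hD2 : ∃ a ∈ D, ∃ b ∈ D, a ≠ b) {d : G} (hd : d ∈ D) (hV : {y : G | y ∈ D ∧ Commute d y} = {v : G | v ∈ D ∧ ∀ e ∈ D, Commute v e ↔ Commute d e}) : ∃ P : Sylow 3 G, d ∈ Subgroup.normalizer (P : Set G) ∧ Subgroup.zpowers d ⊔ (P : Subgroup G) ⊔ Cfsg.pCore 2 G = ⊤ := by
  haveI : Fact (Nat.Prime 3) := ⟨Nat.prime_three⟩
  have hT := TClass.toGroup hD
  haveI : (pCore 2 G).Normal := Cfsg.pCore_normal 2 G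
  set O := pCore 2 G with hO
  have hO2 : IsPGroup 2 O := PBasic.pCore_isPGroup 2 G
  have hVa : ∀ a ∈ D, ∀ y ∈ D, Commute a y → SameComm D a y := by
    intro a ha y hy hay
    obtain ⟨g, rfl⟩ := TClass.transitive hD d hd a ha
    have hh : g * (g⁻¹ * y * g) * g⁻¹ = y := by group
    have h1 : g⁻¹ * y * g ∈ {v : G | v ∈ D ∧ ∀ e ∈ D, Commute v e ↔ Commute d e} :=
      hV.subset ⟨conj_inv_mem hT.2.1 g hy, by rw [← commute_conj_iff g, hh]; exact hay⟩
    have h2 := SameComm.conj hT.2.1 g (show SameComm D d _ from h1)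
    rwa [hh] at h2
  set π := QuotientGroup.mk' O with hπ
  have hsurj : Function.Surjective π := QuotientGroup.mk'_surjective O
  have hbr : ∀ x ∈ π '' D, ∀ y ∈ π '' D, x * y * x = y * x * y := by
    rintro _ ⟨a, ha, rfl⟩ _ ⟨b, hb, rfl⟩
    by_cases hab : Commute a b
    · have h1 : π (a * b) = 1 :=
        (QuotientGroup.eq_one_iff _).2 ((sameComm_iff hT ha).1 (hVa a ha b hb hab)).2
      rw [map_mul, mul_eq_one_iff_eq_inv, ← map_inv, TSet.inv hD.1 hb] at h1
      rw [h1]
    · simpa [map_mul] using congrArg π (TSet.braid hD.1 ha hb hab)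
  set N := (pCore 3 (G ⧸ O)).comap π with hN
  haveI : (pCore 3 (G ⧸ O)).Normal := Cfsg.pCore_normal 3 _
  have hdN : ∀ b ∈ D, d * b ∈ N := by
    intro b hb
    obtain ⟨M, hM, hM3, hMm⟩ := braidSet.mul_mem_normal_three_group
      (D := π '' D) (by rintro _ ⟨x, hx, rfl⟩; rw [← map_mul, TSet.sq hD.1 hx, map_one]) hbr
      (by
        rintro g _ ⟨x, hx, rfl⟩
        obtain ⟨g, rfl⟩ := hsurj g
        exact ⟨g * x * g⁻¹, hT.2.1 g x hx, by simp⟩)
      ⟨d, hd, rfl⟩ ⟨b, hb, rfl⟩
    rw [hN, Subgroup.mem_comap, map_mul]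
    exact PBasic.le_pCore hM hM3 hMm
  have hgenN : Subgroup.zpowers d ⊔ N = ⊤ := by
    rw [eq_top_iff, ← hD.2.2, Subgroup.closure_le]
    intro b hb
    have := mul_mem (Subgroup.mem_sup_left (T := N) (Subgroup.mem_zpowers d))
      (Subgroup.mem_sup_right (S := Subgroup.zpowers d) (hdN b hb))
    rwa [← mul_assoc, TSet.sq hD.1 hd, one_mul] at this
  obtain ⟨P⟩ : Nonempty (Sylow 3 G) := inferInstance
  have hPN : (P : Subgroup G) ≤ N := by
    intro x hx
    have hmem : x ∈ Subgroup.zpowers d ⊔ N := by rw [hgenN]; trivial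
    obtain ⟨y, ⟨k, rfl⟩, z, hz, hxz⟩ := Subgroup.mem_sup_of_normal_right.1 hmem
    simp only at hxz
    rcases Int.even_or_odd' k with ⟨j, rfl | rfl⟩
    · rw [zpow_mul, zpow_two, TSet.sq hD.1 hd, one_zpow, one_mul] at hxz
      exact hxz ▸ hz
    · exfalso
      rw [zpow_add, zpow_mul, zpow_two, TSet.sq hD.1 hd, one_zpow, one_mul, zpow_one] at hxz
      obtain ⟨k, hk⟩ := P.2 ⟨x, hx⟩
      have hx1 : (QuotientGroup.mk' N x) ^ 3 ^ k = 1 := by
        rw [← map_pow, show x ^ 3 ^ k = 1 from congrArg Subtype.val hk, map_one]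
      have hx2 : (QuotientGroup.mk' N x) ^ 2 = 1 := by
        rw [← hxz, map_mul, show (QuotientGroup.mk' N z) = 1 from (QuotientGroup.eq_one_iff z).2 hz,
          mul_one, ← map_pow, pow_two, TSet.sq hD.1 hd, map_one]
      have h1 : QuotientGroup.mk' N x = 1 := orderOf_eq_one_iff.1
        (Nat.eq_one_of_dvd_coprimes (Nat.Coprime.pow_left k (by decide : Nat.Coprime 3 2))
          (orderOf_dvd_of_pow_eq_one hx1) (orderOf_dvd_of_pow_eq_one hx2))
      have hdmem : d ∈ N := by
        have := mul_mem ((QuotientGroup.eq_one_iff x).1 h1) (inv_mem hz)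
        rwa [← hxz, mul_inv_cancel_right] at this
      have h3 : π d = 1 := by
        obtain ⟨l, hl⟩ := PBasic.pCore_isPGroup 3 (G ⧸ O) ⟨π d, Subgroup.mem_comap.1 hdmem⟩
        refine orderOf_eq_one_iff.1 (Nat.eq_one_of_dvd_coprimes
          (Nat.Coprime.pow_left l (by decide : Nat.Coprime 3 2))
          (orderOf_dvd_of_pow_eq_one (congrArg Subtype.val hl))
          (orderOf_dvd_of_pow_eq_one ?_))
        rw [pow_two, ← map_mul, TSet.sq hD.1 hd, map_one]
      obtain ⟨c, hc, hdc⟩ := TClass.exists_not_commute hD hD2 hd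
      have hdO : d ∈ O := (QuotientGroup.eq_one_iff d).1 h3
      have hcO : c ∈ O := by
        obtain ⟨g, rfl⟩ := TClass.transitive hD d hd c hc
        exact Subgroup.Normal.conj_mem inferInstance d hdO g
      exact hdc (TSet.commute_of_mem_twoGroup hD.1 hO2 hd hc hdO hcO)
  have hNP : N ≤ (P : Subgroup G) ⊔ O := by
    intro x hx
    have h1 := PBasic.pCore_le_sylow (P.mapSurjective hsurj) hx
    rw [Sylow.coe_mapSurjective] at h1
    obtain ⟨y, hy, hyx⟩ := h1
    have h2 : y⁻¹ * x ∈ O := (QuotientGroup.eq (s := O)).1 hyx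
    have := mul_mem (Subgroup.mem_sup_left (T := O) hy)
      (Subgroup.mem_sup_right (S := (P : Subgroup G)) h2)
    rwa [mul_inv_cancel_left] at this
  have hON : O ≤ N := fun x hx => by
    rw [hN, Subgroup.mem_comap, show π x = 1 from (QuotientGroup.eq_one_iff x).2 hx]
    exact one_mem _
  -- main induction
  have main : ∀ n, ∀ (A : Subgroup G), A.Normal → A ≤ O → Nat.card A = n → ∀ Q : Sylow 3 G,
      (∀ p ∈ (Q : Subgroup G), d * p * d⁻¹ ∈ (Q : Subgroup G) ⊔ A) →
      ∃ R : Sylow 3 G, (R : Subgroup G) ⊔ A = (Q : Subgroup G) ⊔ A ∧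
        ∀ p ∈ (R : Subgroup G), d * p * d⁻¹ ∈ (R : Subgroup G) := by
    intro n
    induction n using Nat.strong_induction_on with
    | _ n ih =>
      intro A hAn hAO hAc Q hQ
      haveI := hAn
      by_cases hbot : A = ⊥
      · subst hbot
        exact ⟨Q, rfl, fun p hp => by simpa using hQ p hp⟩
      haveI : Nontrivial A := (Subgroup.nontrivial_iff_ne_bot A).2 hbot
      set A2 := ⁅A, A⁆ with hA2
      have hlt : A2 < A := by
        refine lt_of_le_of_ne (Subgroup.commutator_le_self A) fun h => ?_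
        haveI : Group.IsPerfect A := Subgroup.isPerfect_iff.2 h
        haveI : Group.IsNilpotent A := (hO2.to_le hAO).isNilpotent
        exact Group.IsPerfect.not_isSolvable A inferInstance
      set ρ := QuotientGroup.mk' A2 with hρ
      have hρs : Function.Surjective ρ := QuotientGroup.mk'_surjective A2
      haveI : (A.map ρ).Normal := hAn.map ρ hρs
      haveI : IsMulCommutative (A.map ρ) := by
        refine ⟨⟨?_⟩⟩
        rintro ⟨_, x, hx, rfl⟩ ⟨_, y, hy, rfl⟩
        refine Subtype.ext ?_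
        show ρ x * ρ y = ρ y * ρ x
        rw [← map_mul, ← map_mul]
        refine (QuotientGroup.eq (s := A2)).2 ?_
        have := Subgroup.commutator_mem_commutator (inv_mem hy) (inv_mem hx)
        rw [commutatorElement_def, inv_inv, inv_inv] at this
        simpa [mul_assoc] using this
      -- the Sylow conjugacy inside `Q ⊔ A`
      set K := (Q : Subgroup G) ⊔ A with hK
      have hdK : ∀ p ∈ K, d * p * d⁻¹ ∈ K := by
        intro p hp
        rw [hK] at hp
        obtain ⟨u, hu, v, hv, rfl⟩ := Subgroup.mem_sup_of_normal_right.1 hp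
        have := mul_mem (hQ u hu) (Subgroup.mem_sup_right (S := (Q : Subgroup G))
          (hAn.conj_mem v hv d))
        rwa [show d * u * d⁻¹ * (d * v * d⁻¹) = d * (u * v) * d⁻¹ by group] at this
      have hQd : ((MulAut.conj d • Q : Sylow 3 G) : Subgroup G) ≤ K := by
        rintro _ ⟨p, hp, rfl⟩
        exact hQ p hp
      obtain ⟨k, hk⟩ := MulAction.exists_smul_eq K (Q.subtype (le_sup_left : (Q : Subgroup G) ≤ K))
        ((MulAut.conj d • Q : Sylow 3 G).subtype hQd)
      obtain ⟨a, ha, hka⟩ : ∃ a ∈ A, ∀ p ∈ (Q : Subgroup G), a⁻¹ * (d * p * d⁻¹) * a ∈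
          (Q : Subgroup G) := by
        obtain ⟨u, hu, v, hv, hkv⟩ := Subgroup.mem_sup_of_normal_left.1
          ((sup_comm (Q : Subgroup G) A) ▸ k.2 : (k : G) ∈ A ⊔ (Q : Subgroup G))
        refine ⟨u, hu, fun p hp => ?_⟩
        have h1 : (⟨d * p * d⁻¹, hQ p hp⟩ : K) ∈
            ((MulAut.conj d • Q : Sylow 3 G).subtype hQd : Subgroup K) := ⟨p, hp, rfl⟩
        rw [← hk] at h1
        obtain ⟨q, hq, hqk⟩ := h1
        have h2 := congrArg Subtype.val hqk
        change (k : G) * (q : G) * (k : G)⁻¹ = d * p * d⁻¹ at h2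
        rw [← h2, ← hkv, show u⁻¹ * (u * v * (q : G) * (u * v)⁻¹) * u = v * q * v⁻¹ by group]
        exact mul_mem (mul_mem hv hq) (inv_mem hv)
      obtain ⟨x, hx, hxn⟩ := exists_conj_normalizes (A := A.map ρ) (P := (Q : Subgroup G).map ρ)
        ((hO2.to_le hAO).map ρ) (Q.2.map ρ) (d := ρ d)
        (by rw [← map_mul, TSet.sq hD.1 hd, map_one])
        ⟨ρ a, ⟨a, ha, rfl⟩, by
          rintro _ ⟨p, hp, rfl⟩
          refine ⟨_, hka p hp, ?_⟩
          simp only [map_mul, map_inv]; group⟩
        (by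
          intro g hg
          obtain ⟨g, rfl⟩ := hρs g
          rw [← map_inv, ← map_mul, ← map_mul, ← map_mul] at hg
          obtain ⟨y, hy, hyd⟩ := hg
          have hmem : d * (g * d * g⁻¹) ∈ A := by
            have h1 : y⁻¹ * (d * (g * d * g⁻¹)) ∈ A2 := (QuotientGroup.eq (s := A2)).1 hyd
            have := mul_mem hy (hlt.le h1)
            rwa [mul_inv_cancel_left] at this
          have hv : g * d * g⁻¹ ∈ D := hT.2.1 g d hd
          have hS := (sameComm_iff hT hd).2 ⟨hv, hAO hmem⟩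
          obtain ⟨c, hc, hdc⟩ := TClass.exists_not_commute hD hD2 hd
          set v := g * d * g⁻¹
          have hy2 : c * (d * v * c * (d * v)⁻¹) ∈ A := by
            have h1 := hAn.conj_mem _ hmem c
            have h2 := mul_mem h1 (inv_mem hmem)
            rw [TSet.inv hD.1 hc] at h2
            simpa only [mul_assoc] using h2
          refine ⟨ρ (c * (d * v * c * (d * v)⁻¹)), ⟨_, hy2, rfl⟩, ?_⟩
          simp only [← map_inv, ← map_mul]
          congr 1
          have hvc : ¬ Commute v c := fun hh => hdc ((hS.2 c hc).1 hh)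
          have hu : Commute (d * v) d := (Commute.refl d).mul_left hS.commute.symm
          have hud : (d * v)⁻¹ * d * (d * v) = d := by
            rw [mul_assoc, ← hu.eq, inv_mul_cancel_left]
          symm
          calc c * (d * v * c * (d * v)⁻¹) * d * (c * (d * v * c * (d * v)⁻¹))⁻¹
              = c * (d * v) * (c * ((d * v)⁻¹ * d * (d * v)) * c⁻¹) * (d * v)⁻¹ * c⁻¹ := by group
            _ = c * (d * v) * (c * d * c) * (d * v)⁻¹ * c := by rw [hud, TSet.inv hD.1 hc]
            _ = c * (d * v) * (d * c * d) * (d * v)⁻¹ * c := by rw [TSet.braid hD.1 hd hc hdc]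
            _ = c * (v * c * v) * c := by
              rw [mul_inv_rev, TSet.inv hD.1 hd, TSet.inv hD.1 hv]
              calc c * (d * v) * (d * c * d) * (v * d) * c
                  = c * (d * v * d) * c * (d * v * d) * c := by simp only [mul_assoc]
                _ = _ := by
                  rw [hS.commute.eq, mul_assoc v d d, TSet.sq hD.1 hd, mul_one]
                  simp only [mul_assoc]
            _ = v := by
              rw [TSet.braid hD.1 hv hc hvc]
              simp only [mul_assoc, TSet.sq hD.1 hc, mul_one]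
              rw [← mul_assoc c c, TSet.sq hD.1 hc, one_mul])
      obtain ⟨x, hxA, rfl⟩ := hx
      set Q' : Sylow 3 G := MulAut.conj x⁻¹ • Q with hQ'
      have hQ'2 : ∀ p ∈ (Q' : Subgroup G), d * p * d⁻¹ ∈ (Q' : Subgroup G) ⊔ A2 := by
        rintro _ ⟨q, hq, rfl⟩
        obtain ⟨r, hr, hrq⟩ := hxn _ ⟨q, hq, rfl⟩
        rw [← map_inv, ← map_mul, ← map_mul, ← map_mul, ← map_inv, ← map_mul] at hrq
        have h1 := (QuotientGroup.eq (s := A2)).1 hrq
        have h3 : x⁻¹ * (r⁻¹ * (x * d * x⁻¹ * q * (x * d * x⁻¹)⁻¹)) * x ∈ A2 := by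
          have := (inferInstance : A2.Normal).conj_mem _ h1 x⁻¹
          rwa [inv_inv] at this
        have := mul_mem (Subgroup.mem_sup_left (T := A2)
            (show x⁻¹ * r * x ∈ (Q' : Subgroup G) from ⟨r, hr, by simp⟩))
          (Subgroup.mem_sup_right (S := (Q' : Subgroup G)) h3)
        have e : x⁻¹ * r * x * (x⁻¹ * (r⁻¹ * (x * d * x⁻¹ * q * (x * d * x⁻¹)⁻¹)) * x) =
            d * (x⁻¹ * q * x) * d⁻¹ := by group
        rw [e] at this
        simpa using this
      have hcard : Nat.card A2 < n := by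
        rw [← hAc]
        have := Set.ncard_lt_ncard (SetLike.coe_ssubset_coe.2 hlt) (Set.toFinite _)
        rwa [← Nat.card_coe_set_eq, ← Nat.card_coe_set_eq] at this
      obtain ⟨R, hR, hRd⟩ := ih _ hcard A2 inferInstance (hlt.le.trans hAO) rfl Q' hQ'2
      refine ⟨R, ?_, hRd⟩
      have e1 : A2 ⊔ A = A := sup_eq_right.2 hlt.le
      calc (R : Subgroup G) ⊔ A = (R : Subgroup G) ⊔ A2 ⊔ A := by rw [sup_assoc, e1]
        _ = (Q' : Subgroup G) ⊔ A := by rw [hR, sup_assoc, e1]
        _ = (Q : Subgroup G) ⊔ A := by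
          refine le_antisymm (sup_le ?_ le_sup_right) (sup_le ?_ le_sup_right)
          · rintro _ ⟨q, hq, rfl⟩
            have hxs := Subgroup.mem_sup_right (S := (Q : Subgroup G)) hxA
            show x⁻¹ * q * x⁻¹⁻¹ ∈ _
            rw [inv_inv]
            exact mul_mem (mul_mem (inv_mem hxs) (Subgroup.mem_sup_left hq)) hxs
          · intro q hq
            have h1 : x⁻¹ * q * x ∈ (Q' : Subgroup G) := ⟨q, hq, by simp⟩
            have hxs := Subgroup.mem_sup_right (S := (Q' : Subgroup G)) hxA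
            have := mul_mem (mul_mem hxs (Subgroup.mem_sup_left (T := A) h1)) (inv_mem hxs)
            rwa [show x * (x⁻¹ * q * x) * x⁻¹ = q by group] at this
  have hNeq : N = (P : Subgroup G) ⊔ O := le_antisymm hNP (sup_le hPN hON)
  obtain ⟨R, hR, hRd⟩ := main _ O inferInstance le_rfl rfl P fun p hp => by
    rw [← hNeq]
    exact (inferInstance : N.Normal).conj_mem p (hPN hp) d
  refine ⟨R, Subgroup.mem_normalizer_iff.2 fun y => ⟨hRd y, fun h => ?_⟩, ?_⟩
  · have := hRd _ h
    rwa [TSet.inv hD.1 hd, ← mul_assoc, ← mul_assoc, TSet.sq hD.1 hd, one_mul, mul_assoc,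
      TSet.sq hD.1 hd, mul_one] at this
  · rw [sup_assoc, hR, ← hNeq, hgenN]

end Cfsg.Agent.S5356
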