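import Cfsg.Statements.S5363
import Cfsg.Agent.Lib.Fischer.Basic
import Cfsg.Agent.Lib.Involutions.Dihedral

set_option autoImplicit false
open Cfsg

namespace Cfsg.Agent.S5363

open Cfsg.Agent.Fischer Cfsg.Agent


/-- Let D be a conjugation-invariant set of involutions of a finite group G. Then every product of two members of D has odd order or order 2 if and only if, for every a in D and every b in D different from a and commuting with a, the members of D commuting with a b are exactly those commuting with both a and b. -/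
theorem result {G : Type*} [Group G] [Finite G] {D : Set G} (hinv : ∀ d ∈ D, orderOf d = 2) (hconj : ∀ g : G, ∀ d ∈ D, g * d * g⁻¹ ∈ D) : (∀ a ∈ D, ∀ b ∈ D, Odd (orderOf (a * b)) ∨ orderOf (a * b) = 2) ↔ ∀ a ∈ D, ∀ b ∈ D, b ≠ a → Commute a b → {y : G | y ∈ D ∧ Commute (a * b) y} = {y : G | y ∈ D ∧ Commute a y} ∩ {y : G | y ∈ D ∧ Commute b y} := by
  constructor
  · intro hodd a ha b hb hne hab
    ext y
    simp only [Set.mem_setOf_eq, Set.mem_inter_iff]
    refine ⟨fun ⟨hy, hyc⟩ => ?_, fun ⟨⟨hy, h1⟩, ⟨_, h2⟩⟩ => ⟨hy, h1.mul_left h2⟩⟩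
    have sa := Invol.mul_self (hinv a ha)
    have sb := Invol.mul_self (hinv b hb)
    have sy := Invol.mul_self (hinv y hy)
    have key : Commute a y := by
      by_contra hay
      have hne2 : orderOf (a * y) ≠ 2 := fun h2 =>
        hay ((commute_iff_sq_eq_one sa sy).2 (by rw [← h2]; exact pow_orderOf_eq_one _))
      have hne1 : orderOf (a * y) ≠ 1 := fun h1 => hay (by
        rw [orderOf_eq_one_iff] at h1
        exact (commute_iff_sq_eq_one sa sy).2 (by rw [h1, one_pow]))
      have ho : Odd (orderOf (a * y)) := (hodd a ha y hy).resolve_right hne2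
      obtain ⟨g, hg, hga⟩ := Invol.conj_of_odd (hinv a ha) (hinv y hy) ho
      have hza : Commute (a * b) a := (Commute.refl a).mul_left hab.symm
      have hle : Subgroup.closure ({a, y} : Set G) ≤ Subgroup.centralizer ({a * b} : Set G) := by
        rw [Subgroup.closure_le]
        rintro w (rfl | rfl)
        · exact Subgroup.mem_centralizer_singleton_iff.2 hza.eq.symm
        · exact Subgroup.mem_centralizer_singleton_iff.2 hyc.eq.symm
      have hgz : Commute g (a * b) := Subgroup.mem_centralizer_singleton_iff.1 (hle hg)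
      have hb' : g * b * g⁻¹ = y * (a * b) := by
        have h1 : (g * a * g⁻¹) * (g * b * g⁻¹) = a * b := by
          calc (g * a * g⁻¹) * (g * b * g⁻¹) = g * (a * b) * g⁻¹ := by group
            _ = a * b := by rw [hgz.eq, mul_inv_cancel_right]
        rw [hga] at h1
        calc g * b * g⁻¹ = y * (y * (g * b * g⁻¹)) := by rw [← mul_assoc y y, sy, one_mul]
          _ = _ := by rw [h1]
      have hoz : orderOf (a * b) = 2 := by
        refine orderOf_eq_prime ?_ fun h1 => hne ?_
        · rw [hab.mul_pow, pow_two, pow_two, sa, sb, one_mul]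
        · exact ((mul_eq_one_iff_eq_inv.1 h1).trans (Invol.inv_self (hinv b hb))).symm
      have hcop : (orderOf (a * y)).Coprime (orderOf (a * b)) := by
        rw [hoz]; exact Nat.coprime_two_right.2 ho
      have hor := (hza.mul_right hyc).symm.orderOf_mul_eq_mul_orderOf_of_coprime hcop
      rw [hoz, mul_assoc, ← hb'] at hor
      rcases hodd a ha _ (hconj g b hb) with h | h <;> rw [hor] at h
      · exact Nat.not_even_iff_odd.2 h (even_two.mul_left _)
      · omega
    exact ⟨⟨hy, key⟩, hy, by
      have := key.mul_left hyc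
      rwa [← mul_assoc, sa, one_mul] at this⟩
  · intro hset a ha b hb
    refine (Nat.even_or_odd (orderOf (a * b))).symm.imp_right fun heven => ?_
    have hx := hinv a ha
    have hy := hinv b hb
    have h0 : 0 < orderOf (a * b) := orderOf_pos _
    obtain ⟨hz1, hz2⟩ := Invol.mul_half_spec hx hy heven h0
    have hmem : a * (a * b) ^ (orderOf (a * b) / 2) ∈ D := by
      by_cases h4 : 4 ∣ orderOf (a * b)
      · obtain ⟨g, _, hg⟩ := Invol.conj_mul_half_of_four_dvd hx hy h4
        exact hg ▸ hconj g a ha
      · obtain ⟨g, _, hg⟩ := Invol.conj_y_mul_half hx hy heven h4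
        exact hg ▸ hconj g b hb
    have hs := hset a ha _ hmem hz2 hz1
    have hb' : b ∈ {y : G | y ∈ D ∧ Commute (a * (a * (a * b) ^ (orderOf (a * b) / 2))) y} := by
      refine ⟨hb, ?_⟩
      rw [← mul_assoc, Invol.mul_self hx, one_mul]
      exact (Invol.half_commute hx hy heven).2
    rw [hs] at hb'
    have hc : Commute a b := hb'.1.2
    have hd : orderOf (a * b) ∣ 2 := orderOf_dvd_of_pow_eq_one (by
      rw [hc.mul_pow, pow_two, pow_two, Invol.mul_self hx, Invol.mul_self hy, one_mul])
    rcases (Nat.dvd_prime Nat.prime_two).1 hd with h1 | h1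
    · rw [h1] at heven; exact absurd heven (by decide)
    · exact h1

end Cfsg.Agent.S5363
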