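import Cfsg.Statements.S5364
import Cfsg.Agent.Lib.Fischer.Basic

set_option autoImplicit false
open Cfsg

namespace Cfsg.Agent.S5364

open Cfsg.Agent.Fischer


/-- Let D be a conjugation-invariant set of involutions of a finite group G and t an involution in the centre of G such that d t does not lie in D for any d in D. If the images of the members of D in G modulo the subgroup generated by t satisfy the 3-transposition order conditions (each has order 2 and any two have product of order at most 3), then so do the members of D. -/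
theorem result {G : Type*} [Group G] [Finite G] {D : Set G} (hinv : ∀ d ∈ D, orderOf d = 2) (hconj : ∀ g : G, ∀ d ∈ D, g * d * g⁻¹ ∈ D) (t : G) (ht : orderOf t = 2) (htZ : t ∈ Subgroup.center G) (hDt : ∀ d ∈ D, d * t ∉ D) [(Subgroup.zpowers t).Normal] (himg : Cfsg.IsThreeTranspositionSet ((QuotientGroup.mk : G → G ⧸ Subgroup.zpowers t) '' D)) : Cfsg.IsThreeTranspositionSet D := by
  refine ⟨hinv, fun d hd e he => ?_⟩
  have htt : t * t = 1 := mul_self_of_orderOf_two ht
  have hdd := mul_self_of_orderOf_two (hinv d hd)
  have hee := mul_self_of_orderOf_two (hinv e he)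
  have hct : ∀ g : G, g * t = t * g := fun g => Subgroup.mem_center_iff.1 htZ g
  have hz : ∀ y : G, y ∈ Subgroup.zpowers t → y = 1 ∨ y = t := by
    intro y hy
    obtain ⟨k, rfl⟩ := Subgroup.mem_zpowers_iff.1 hy
    rcases Int.even_or_odd' k with ⟨j, rfl | rfl⟩
    · left; rw [zpow_mul, zpow_two, htt, one_zpow]
    · right; rw [zpow_add, zpow_mul, zpow_two, htt, one_zpow, one_mul, zpow_one]
  rcases himg.2 _ ⟨d, hd, rfl⟩ _ ⟨e, he, rfl⟩ with h | h
  · rw [← QuotientGroup.mk_mul, ← QuotientGroup.mk_pow, QuotientGroup.eq_one_iff] at h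
    rcases hz _ h with h1 | h1
    · exact Or.inl h1
    · exfalso
      refine hDt d hd ?_
      have h2 : e * d * e⁻¹ = d * t := by
        rw [inv_eq_self_of_orderOf_two (hinv e he), ← h1, pow_two]
        simp only [← mul_assoc, hdd, one_mul]
      rw [← h2]; exact hconj e d hd
  · rw [← QuotientGroup.mk_mul, ← QuotientGroup.mk_pow, QuotientGroup.eq_one_iff] at h
    rcases hz _ h with h1 | h1
    · exact Or.inr h1
    · exfalso
      refine hDt d hd ?_
      have h2 : (e * d) * e * (e * d)⁻¹ = d * t := by
        rw [mul_inv_rev, inv_eq_self_of_orderOf_two (hinv d hd),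
          inv_eq_self_of_orderOf_two (hinv e he), ← h1]
        simp only [pow_succ, pow_zero, one_mul, mul_assoc]
        rw [← mul_assoc d d, hdd, one_mul]
      rw [← h2]; exact hconj _ e he

end Cfsg.Agent.S5364
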