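import Cfsg.Statements.S5366
import Cfsg.Agent.Lib.Fischer.Planes

set_option autoImplicit false
open Cfsg

namespace Cfsg.Agent.S5366

open Cfsg.Agent.Fischer Cfsg.Agent


/-- Let L be a nondegenerate Fischer space on the point type X (every point on a line). Then for every point x the map t(x) — sending a point collinear with x to the third point of their common line and fixing every other point — is a permutation of X of order 2 and an automorphism of the line system; and the set of all t(x) satisfies the 3-transposition order conditions in the permutation group of X (any two have product of order at most 3). -/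
theorem result {X : Type*} (L : Set (Set X)) (hL : Cfsg.IsFischerSpace L) (hnd : Cfsg.LineSystem.IsNondegenerate L) : (∀ x : X, ∃ σ : Equiv.Perm X, ⇑σ = Cfsg.LineSystem.lineMap L x ∧ orderOf σ = 2 ∧ Cfsg.LineSystem.IsIso L L σ) ∧ Cfsg.IsThreeTranspositionSet {σ : Equiv.Perm X | ∃ x : X, ⇑σ = Cfsg.LineSystem.lineMap L x} := by
  classical
  obtain ⟨hpl, h3, hpl2⟩ := hL
  -- third points
  have hline : ∀ l ∈ L, ∀ x y : X, x ∈ l → y ∈ l → x ≠ y →
      ∃ z, z ≠ x ∧ z ≠ y ∧ l = {x, y, z} := by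
    intro l hl x y hx hy hxy
    obtain ⟨a, b, c, hab, hac, hbc, rfl⟩ := Set.ncard_eq_three.1 (h3 l hl)
    rcases hx with rfl | rfl | rfl <;> rcases hy with rfl | rfl | rfl
    · exact absurd rfl hxy
    · exact ⟨c, hac.symm, hbc.symm, rfl⟩
    · exact ⟨b, hab.symm, hbc, by ext w; simp; tauto⟩
    · exact ⟨c, hbc.symm, hac.symm, by ext w; simp; tauto⟩
    · exact absurd rfl hxy
    · exact ⟨a, hab, hac, by ext w; simp; tauto⟩
    · exact ⟨b, hbc, hab.symm, by ext w; simp; tauto⟩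
    · exact ⟨a, hac, hab, by ext w; simp; tauto⟩
    · exact absurd rfl hxy
  have lm : ∀ {x y z : X}, x ≠ y → z ≠ x → z ≠ y → ({x, y, z} : Set X) ∈ L →
      LineSystem.lineMap L x y = z := by
    intro x y z hxy hzx hzy hmem
    have hex : ∃ z : X, z ≠ x ∧ z ≠ y ∧ x ≠ y ∧ ({x, y, z} : Set X) ∈ L :=
      ⟨z, hzx, hzy, hxy, hmem⟩
    rw [LineSystem.lineMap, dif_pos hex]
    obtain ⟨h1, h2, -, h4⟩ := hex.choose_spec
    have := hpl _ h4 _ hmem x y hxy (by simp) (by simp) (by simp) (by simp)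
    have hz : hex.choose ∈ ({x, y, z} : Set X) := this ▸ (by simp)
    rcases hz with h | h | h
    exacts [absurd h h1, absurd h h2, h]
  have lmfix : ∀ {x y : X}, ¬ (∃ z : X, z ≠ x ∧ z ≠ y ∧ x ≠ y ∧ ({x, y, z} : Set X) ∈ L) →
      LineSystem.lineMap L x y = y := by
    intro x y h
    rw [LineSystem.lineMap, dif_neg h]
  have lmmem : ∀ {l : Set X} {x y : X}, l ∈ L → x ∈ l → y ∈ l → LineSystem.lineMap L x y ∈ l := by
    intro l x y hl hx hy
    by_cases hxy : x = y
    · rw [lmfix (fun ⟨_, _, _, h, _⟩ => h hxy)]; exact hy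
    obtain ⟨z, hzx, hzy, rfl⟩ := hline l hl x y hx hy hxy
    rw [lm hxy hzx hzy hl]
    simp
  have linv : ∀ x, Function.Involutive (LineSystem.lineMap L x) := by
    intro x y
    by_cases h : ∃ z : X, z ≠ x ∧ z ≠ y ∧ x ≠ y ∧ ({x, y, z} : Set X) ∈ L
    · obtain ⟨z, hzx, hzy, hxy, hl⟩ := h
      rw [lm hxy hzx hzy hl]
      refine lm hzx.symm hxy.symm hzy.symm ?_
      rwa [show ({x, z, y} : Set X) = {x, y, z} by ext w; simp; tauto]
    · rw [lmfix h, lmfix h]
  -- images of lines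
  have aut : ∀ (x : X) (l : Set X), l ∈ L → LineSystem.lineMap L x '' l ∈ L := by
    intro x l hl
    by_cases hxl : x ∈ l
    · have hsub : LineSystem.lineMap L x '' l ⊆ l := by
        rintro _ ⟨y, hy, rfl⟩
        exact lmmem hl hxl hy
      have hfin : l.Finite := Set.finite_of_ncard_pos (by rw [h3 l hl]; omega)
      rwa [Set.eq_of_subset_of_ncard_le hsub
        (le_of_eq (Set.ncard_image_of_injective _ (linv x).injective).symm) hfin]
    by_cases hnc : ∀ y ∈ l, ¬ ∃ z : X, z ≠ x ∧ z ≠ y ∧ x ≠ y ∧ ({x, y, z} : Set X) ∈ L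
    · rwa [show LineSystem.lineMap L x '' l = l from by
        refine Set.ext fun w => ⟨?_, fun hw => ⟨w, hw, lmfix (hnc w hw)⟩⟩
        rintro ⟨y, hy, rfl⟩
        rwa [lmfix (hnc y hy)]]
    push Not at hnc
    obtain ⟨y, hyl, z, hzx, hzy, hxy, hm⟩ := hnc
    set m : Set X := {x, y, z}
    have hlm : l ≠ m := fun h => hxl (h ▸ (by simp [m]))
    set S := LineSystem.span L (l ∪ m) with hS
    have hxS : x ∈ S := subset_span L _ (Or.inr (by simp [m]))
    have hlS : l ⊆ S := fun w hw => subset_span L _ (Or.inl hw)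
    have hsub : LineSystem.IsSubspace L S := isSubspace_span L _
    suffices key : ∀ {X₀ : Type} {M : Set (Set X₀)} {op : X₀ → X₀ → X₀}, PlaneOp M op →
        LineSystem.Isomorphic (LineSystem.restrict L S) M → LineSystem.lineMap L x '' l ∈ L by
      rcases hpl2 l hl m hm hlm ⟨y, hyl, by simp [m]⟩ with h | h
      · exact key planeOp_dual h
      · exact key planeOp_affine h
    intro X₀ M op hop hiso
    obtain ⟨e, he⟩ := hiso
    -- transport of lines
    have toM : ∀ n ∈ L, n ⊆ S → e '' {w : S | (w : X) ∈ n} ∈ M := fun n hn hnS =>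
      (he _).1 ⟨n, hn, hnS, rfl⟩
    have ofM : ∀ k ∈ M, ∃ n ∈ L, n ⊆ S ∧ ∀ w : S, e w ∈ k ↔ (w : X) ∈ n := by
      intro k hk
      obtain ⟨n, hn, hnS, heq⟩ := (he (e ⁻¹' k)).2 (by rwa [Equiv.image_preimage])
      exact ⟨n, hn, hnS, fun w => Set.ext_iff.1 heq w⟩
    have lineop : ∀ k ∈ M, ∀ p q r : X₀, p ∈ k → q ∈ k → r ∈ k → p ≠ q → r ≠ p → r ≠ q →
        op p q = r := by
      intro k hk p q r hp hq hr hpq hrp hrq
      obtain ⟨u, v, huv, rfl⟩ := (hop.lines k).1 hk
      obtain ⟨g1, g2, g3⟩ := hop.third u v huv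
      have huvne : u ≠ v := fun h => huv (h ▸ hop.idem u)
      have g4 : op v u ≠ u := by rw [g2]; exact g1
      obtain ⟨-, g5, g6⟩ := hop.third v u g4
      rw [g2] at g6
      have g7 : op u (op u v) ≠ op u v := by rw [g3]; exact huv.symm
      obtain ⟨-, g8, -⟩ := hop.third u (op u v) g7
      rw [g3] at g8
      have g9 : op v (op u v) ≠ op u v := by rw [g6]; exact g1.symm
      obtain ⟨-, g10, -⟩ := hop.third v (op u v) g9
      rw [g6] at g10
      rcases hp with rfl | rfl | rfl <;> rcases hq with rfl | rfl | rfl <;>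
        rcases hr with rfl | rfl | rfl <;>
        first
          | rfl | exact absurd rfl hpq | exact absurd rfl hrp | exact absurd rfl hrq
          | exact g2 | exact g3 | exact g6 | exact g8 | exact g10
    have step : ∀ w (hw : w ∈ S), ∃ hw' : LineSystem.lineMap L x w ∈ S,
        e ⟨_, hw'⟩ = op (e ⟨x, hxS⟩) (e ⟨w, hw⟩) := by
      intro w hw
      by_cases h : ∃ z : X, z ≠ x ∧ z ≠ w ∧ x ≠ w ∧ ({x, w, z} : Set X) ∈ L
      · obtain ⟨u, hux, huw, hxw, hn⟩ := h
        have hnS : ({x, w, u} : Set X) ⊆ S :=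
          hsub _ hn x hxS w hw hxw (by simp) (by simp)
        have huS : u ∈ S := hnS (by simp)
        refine ⟨by rwa [lm hxw hux huw hn], ?_⟩
        rw [show (⟨LineSystem.lineMap L x w, _⟩ : S) = ⟨u, huS⟩ from Subtype.ext (lm hxw hux huw hn)]
        refine (lineop _ (toM _ hn hnS) _ _ _ ⟨⟨x, hxS⟩, by simp, rfl⟩ ⟨⟨w, hw⟩, by simp, rfl⟩
          ⟨⟨u, huS⟩, by simp, rfl⟩ ?_ ?_ ?_).symm
        · exact fun h => hxw (congrArg Subtype.val (e.injective h))
        · exact fun h => hux (congrArg Subtype.val (e.injective h))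
        · exact fun h => huw (congrArg Subtype.val (e.injective h))
      · refine ⟨by rwa [lmfix h], ?_⟩
        rw [show (⟨LineSystem.lineMap L x w, _⟩ : S) = ⟨w, hw⟩ from Subtype.ext (lmfix h)]
        by_contra hne
        obtain ⟨n, hn, hnS, hk⟩ := ofM {e ⟨x, hxS⟩, e ⟨w, hw⟩, op (e ⟨x, hxS⟩) (e ⟨w, hw⟩)}
          ((hop.lines _).2 ⟨_, _, Ne.symm hne, rfl⟩)
        have hxw : x ≠ w := by
          rintro rfl
          exact hne (hop.idem _).symm
        obtain ⟨u, hu1, hu2, rfl⟩ := hline n hn x w ((hk ⟨x, hxS⟩).1 (by simp))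
          ((hk ⟨w, hw⟩).1 (by simp)) hxw
        exact h ⟨u, hu1, hu2, hxw, hn⟩
    obtain ⟨a, b, hab, hlab⟩ := (hop.lines _).1 (toM l hl hlS)
    set X0 := e ⟨x, hxS⟩
    have hinj : ∀ p q, op X0 p = op X0 q → p = q := by
      intro p q hpq
      obtain ⟨h1, e1⟩ := step _ (e.symm p).2
      obtain ⟨h2, e2⟩ := step _ (e.symm q).2
      rw [Subtype.coe_eta, Equiv.apply_symm_apply] at e1 e2
      have := linv x |>.injective (congrArg Subtype.val (e.injective (e1.trans (hpq.trans e2.symm))))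
      exact e.symm.injective (Subtype.ext this)
    obtain ⟨n, hn, hnS, hk⟩ := ofM {op X0 a, op X0 b, op X0 (op a b)}
      ((hop.lines _).2 ⟨op X0 a, op X0 b, fun h => hab (hinj _ _ (by rw [hop.distrib, h])),
        by rw [hop.distrib]⟩)
    convert hn using 1
    refine Set.ext fun w => ⟨?_, fun hw => ?_⟩
    · rintro ⟨p, hp, rfl⟩
      obtain ⟨hp', ep⟩ := step p (hlS hp)
      refine (hk ⟨_, hp'⟩).1 ?_
      rw [ep]
      have : e ⟨p, hlS hp⟩ ∈ ({a, b, op a b} : Set X₀) := hlab ▸ ⟨⟨p, hlS hp⟩, hp, rfl⟩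
      rcases this with h | h | h <;> rw [h] <;> simp [X0]
    · have hm : e ⟨w, hnS hw⟩ ∈ ({op X0 a, op X0 b, op X0 (op a b)} : Set X₀) :=
        (hk ⟨w, hnS hw⟩).2 hw
      obtain ⟨p, hp, hpe⟩ : ∃ p ∈ ({a, b, op a b} : Set X₀), e ⟨w, hnS hw⟩ = op X0 p := by
        rcases hm with h | h | h <;> exact ⟨_, by simp, h⟩
      rw [← hlab] at hp
      obtain ⟨⟨q, hqS⟩, hq, rfl⟩ := hp
      obtain ⟨hq', eq'⟩ := step q hqS
      exact ⟨q, hq, congrArg Subtype.val (e.injective (eq'.trans hpe.symm))⟩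
  have main : ∀ x : X, ∃ σ : Equiv.Perm X, ⇑σ = LineSystem.lineMap L x ∧ orderOf σ = 2 ∧
      LineSystem.IsIso L L σ := by
    intro x
    refine ⟨(linv x).toPerm _, rfl, ?_, fun l => ⟨aut x l, fun h => ?_⟩⟩
    · refine orderOf_eq_prime (Equiv.ext fun y => ?_) fun h => ?_
      · rw [pow_two, Equiv.Perm.mul_apply]; exact linv x y
      · obtain ⟨l, hl, hxl⟩ := hnd x
        obtain ⟨a, b, c, hab, hac, hbc, rfl⟩ := Set.ncard_eq_three.1 (h3 l hl)
        obtain ⟨y, hy, hyx⟩ : ∃ y ∈ ({a, b, c} : Set X), y ≠ x := by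
          by_cases hax : a = x
          · exact ⟨b, by simp, fun h => hab (hax.trans h.symm)⟩
          · exact ⟨a, by simp, hax⟩
        obtain ⟨z, hzx, hzy, heq⟩ := hline _ hl x y hxl hy hyx.symm
        have h1 := congrArg (fun f : Equiv.Perm X => f y) h
        simp only [Function.Involutive.coe_toPerm, Equiv.Perm.one_apply] at h1
        rw [lm hyx.symm hzx hzy (heq ▸ hl)] at h1
        exact hzy h1
    · have := aut x _ h
      rw [← Set.image_comp] at this
      simpa [Function.comp_def, linv x _] using this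
  refine ⟨main, ?_, ?_⟩
  · rintro σ ⟨x, hx⟩
    obtain ⟨τ, hτ, ho, -⟩ := main x
    rwa [Equiv.coe_fn_injective (hx.trans hτ.symm)]
  rintro σ ⟨x, hx⟩ τ ⟨y, hy⟩
  have haut : ∀ (f : Equiv.Perm X), (∀ l ∈ L, f '' l ∈ L) → (∀ l ∈ L, f.symm '' l ∈ L) → ∀ u w,
      f (LineSystem.lineMap L u w) = LineSystem.lineMap L (f u) (f w) := by
    intro f hf hf' u w
    by_cases h : ∃ z : X, z ≠ u ∧ z ≠ w ∧ u ≠ w ∧ ({u, w, z} : Set X) ∈ L
    · obtain ⟨z, hzu, hzw, huw, hn⟩ := h
      rw [lm huw hzu hzw hn]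
      refine (lm (f.injective.ne huw) (f.injective.ne hzu) (f.injective.ne hzw) ?_).symm
      have := hf _ hn
      rwa [Set.image_insert_eq, Set.image_insert_eq, Set.image_singleton] at this
    · rw [lmfix h, lmfix]
      rintro ⟨z, hzu, hzw, huw, hn⟩
      refine h ⟨f.symm z, fun e => hzu (by simp [← e]), fun e => hzw (by simp [← e]),
        fun e => huw (by rw [e]), ?_⟩
      have := hf' _ hn
      simpa [Set.image_insert_eq] using this
  have hfix : ∀ (u : X) (f : Equiv.Perm X), ⇑f = LineSystem.lineMap L u →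
      (∀ l ∈ L, f '' l ∈ L) ∧ (∀ l ∈ L, f.symm '' l ∈ L) ∧ f * f = 1 := by
    intro u f hf
    have hsymm : ⇑f.symm = LineSystem.lineMap L u := funext fun w => f.injective (by
      rw [Equiv.apply_symm_apply, hf, linv u w])
    refine ⟨fun l hl => hf ▸ aut u l hl, fun l hl => hsymm ▸ aut u l hl, Equiv.ext fun w => ?_⟩
    rw [Equiv.Perm.mul_apply, hf, Equiv.Perm.one_apply]
    exact linv u w
  obtain ⟨h1, h2, hσ⟩ := hfix x σ hx
  obtain ⟨k1, k2, hτ⟩ := hfix y τ hy
  have c1 : ∀ w, σ (τ (σ w)) = LineSystem.lineMap L (LineSystem.lineMap L x y) w := by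
    intro w
    rw [hy, haut σ h1 h2, hx, linv x w]
  have c2 : ∀ w, τ (σ (τ w)) = LineSystem.lineMap L (LineSystem.lineMap L y x) w := by
    intro w
    rw [hx, haut τ k1 k2, hy, linv y w]
  by_cases h : ∃ z : X, z ≠ x ∧ z ≠ y ∧ x ≠ y ∧ ({x, y, z} : Set X) ∈ L
  · right
    obtain ⟨z, hzx, hzy, hxy, hn⟩ := h
    have hbr : σ * τ * σ = τ * σ * τ := by
      refine Equiv.ext fun w => ?_
      rw [Equiv.Perm.mul_apply, Equiv.Perm.mul_apply, Equiv.Perm.mul_apply, Equiv.Perm.mul_apply,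
        c1, c2, lm hxy hzx hzy hn,
        lm hxy.symm hzy hzx (show ({y, x, z} : Set X) ∈ L by rwa [Set.insert_comm])]
    calc (σ * τ) ^ 3 = (σ * τ * σ) * (τ * σ * τ) := by
          simp only [pow_succ, pow_zero, one_mul, mul_assoc]
      _ = (σ * τ * σ) * (σ * τ * σ) := by rw [hbr]
      _ = σ * (τ * (σ * σ) * τ) * σ := by simp only [mul_assoc]
      _ = 1 := by rw [hσ, mul_one, hτ, mul_one, hσ]
  · left
    have hfx : σ * τ * σ = τ := by
      refine Equiv.ext fun w => ?_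
      rw [Equiv.Perm.mul_apply, Equiv.Perm.mul_apply, c1, lmfix h, hy]
    calc (σ * τ) ^ 2 = (σ * τ * σ) * τ := by simp only [pow_succ, pow_zero, one_mul, mul_assoc]
      _ = 1 := by rw [hfx, hτ]

end Cfsg.Agent.S5366
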