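import Cfsg.Statements.S5367
import Cfsg.Agent.Lib.Fischer.PlaneOfTriple

set_option autoImplicit false
open Cfsg

namespace Cfsg.Agent.S5367

open Cfsg.Agent.Fischer Cfsg.Agent


/-- Let D be a conjugation-invariant generating set of 3-transpositions of a finite group G. Then the line system on D whose lines are the triples {x, y, y x y⁻¹} for non-commuting members x, y of D is a Fischer space: two points lie on at most one line, lines have three points, and two different meeting lines generate a subspace isomorphic to the dual affine plane of order two or to the affine plane of order three. -/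
theorem result {G : Type*} [Group G] [Finite G] {D : Set G} (hD : Cfsg.IsThreeTranspositionGroup D) : Cfsg.IsFischerSpace (Cfsg.threeTranspositionLines D) := by
  refine ⟨?_, ?_, ?_⟩
  · rintro l ⟨x, y, hxy, rfl⟩ m ⟨x', y', hxy', rfl⟩ p q hpq hp hq hp' hq'
    exact (third_of_line hD hxy hp hq hpq).2.trans (third_of_line hD hxy' hp' hq' hpq).2.symm
  · rintro l ⟨x, y, hxy, rfl⟩
    have hne : x ≠ y := fun h => hxy (h ▸ Commute.refl _)
    have hz : (y : G) * x * (y : G)⁻¹ ∈ D := hD.2.1 _ _ x.2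
    have hzy : (⟨_, hz⟩ : D) ≠ y := fun h => hne (Subtype.ext (by
      have := congrArg Subtype.val h
      simpa [mul_inv_eq_iff_eq_mul] using this))
    have hzx : (⟨_, hz⟩ : D) ≠ x := fun h => hxy (by
      have := mul_inv_eq_iff_eq_mul.1 (congrArg Subtype.val h)
      exact this.symm)
    rw [show {z : D | (z : G) = x ∨ (z : G) = y ∨ (z : G) = (y : G) * (x : G) * (y : G)⁻¹} =
      {x, y, ⟨_, hz⟩} from Set.ext fun z => by
        simp only [Set.mem_setOf_eq, Set.mem_insert_iff, Set.mem_singleton_iff, Subtype.ext_iff]]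
    rw [Set.ncard_eq_three]
    exact ⟨x, y, ⟨_, hz⟩, hne, hzx.symm, hzy.symm, rfl⟩
  rintro l ⟨x, y, hxy, rfl⟩ m ⟨x', y', hxy', rfl⟩ hlm ⟨w, hwl, hwm⟩
  change w ∈ tLine D x y at hwl
  change w ∈ tLine D x' y' at hwm
  change tLine D x y ≠ tLine D x' y' at hlm
  obtain ⟨u, hul, huw⟩ : ∃ u ∈ tLine D x y, u ≠ w := by
    by_cases h : x = w
    · exact ⟨y, Or.inr (Or.inl rfl), fun h' => hxy (by rw [h, h'])⟩
    · exact ⟨x, Or.inl rfl, h⟩
  obtain ⟨v, hvm, hvw⟩ : ∃ v ∈ tLine D x' y', v ≠ w := by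
    by_cases h : x' = w
    · exact ⟨y', Or.inr (Or.inl rfl), fun h' => hxy' (by rw [h, h'])⟩
    · exact ⟨x', Or.inl rfl, h⟩
  obtain ⟨hwu, hl⟩ := third_of_line hD hxy hwl hul huw.symm
  obtain ⟨hwv, hm⟩ := third_of_line hD hxy' hwm hvm hvw.symm
  show LineSystem.Isomorphic (LineSystem.restrict _
      (LineSystem.span _ (tLine D x y ∪ tLine D x' y'))) _ ∨
    LineSystem.Isomorphic (LineSystem.restrict _
      (LineSystem.span _ (tLine D x y ∪ tLine D x' y'))) _
  rw [hl, hm] at hlm ⊢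
  have hvl : v ∉ tLine D w u := fun h =>
    hlm (third_of_line hD hwu (Or.inl rfl) h hvw.symm).2
  have huv : u ≠ v := fun h => hlm (by rw [h])
  have hA : ∀ {X₀ : Type} {op : X₀ → X₀ → X₀} {P : X₀ → D}, Realises op P → ∀ i j k : X₀,
      P i = w → P j = u → P k = v → op i j ≠ j → op i k ≠ k →
      tLine D w u ∪ tLine D w v ⊆ Set.range P := by
    intro X₀ op P hP i j k hi hj hk h1 h2
    rw [← hi, ← hj, ← hk, tLine_image hD hP h1, tLine_image hD hP h2]
    exact Set.union_subset (Set.image_subset_range _ _) (Set.image_subset_range _ _)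
  by_cases hcuv : Commute (u : G) v
  · left
    obtain ⟨P, hP, e1, e2, e3⟩ := plane_of_string hD huv hcuv (fun h => hwu h.symm) hwv
    refine realised_plane hD planeOp_dual hP ?_ ?_
    · exact hA hP q12 q01 q23 e2 e1 e3 (fun h => hwu (by
        have := (hP.comm _ _).1 h; rwa [e2, e1] at this)) dual_gen_ne.2.1
    · intro T hT hcl s
      have t1 : q01 ∈ T := hT _ (by rw [e1]; exact Or.inl (Or.inr (Or.inl rfl)))
      have t2 : q12 ∈ T := hT _ (by rw [e2]; exact Or.inl (Or.inl rfl))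
      have t3 : q23 ∈ T := hT _ (by rw [e3]; exact Or.inr (Or.inr (Or.inl rfl)))
      have t4 := hcl _ t1 _ t2 dual_gen_ne.1
      rcases dual_gen s with rfl | rfl | rfl | rfl | rfl | rfl
      exacts [t1, t2, t3, t4, hcl _ t2 _ t3 dual_gen_ne.2.1, hcl _ t4 _ t3 dual_gen_ne.2.2]
  have hv' : (u : G) * v * u ∈ D := by
    have := hD.2.1 (u : G) _ v.2; rwa [TSet.inv hD.1 u.2] at this
  by_cases hw4 : Commute (w : G) ((u : G) * v * u)
  · left
    have hne : w ≠ ⟨_, hv'⟩ := fun h => hvl (Or.inr (Or.inr (by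
      rw [congrArg Subtype.val h, TSet.inv hD.1 u.2]
      simp only [mul_assoc, TSet.sq hD.1 u.2, mul_one]
      rw [← mul_assoc, TSet.sq hD.1 u.2, one_mul])))
    have hnc : ¬ Commute (u : G) (⟨_, hv'⟩ : D) := fun h => hcuv (by
      have h' : Commute ((u : G) * u * (u : G)⁻¹) ((u : G) * v * (u : G)⁻¹) := by
        rwa [mul_inv_cancel_right, TSet.inv hD.1 u.2]
      exact (commute_conj_iff (u : G) u v).1 h')
    obtain ⟨P, hP, e1, e2, e3⟩ := plane_of_string hD hne hw4 hwu hnc
    have e4 : P (dualOp q12 q23) = v := Subtype.ext (by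
      rw [hP.mul, e2, e3]
      show (u : G) * ((u : G) * v * u) * u = v
      simp only [mul_assoc, TSet.sq hD.1 u.2, mul_one]
      rw [← mul_assoc, TSet.sq hD.1 u.2, one_mul])
    refine realised_plane hD planeOp_dual hP ?_ ?_
    · exact hA hP q01 q12 (dualOp q12 q23) e1 e2 e4 dual_gen_ne.1 (fun h => hwv (by
        have := (hP.comm _ _).1 h; rwa [e1, e4] at this))
    · intro T hT hcl s
      have t1 : q01 ∈ T := hT _ (by rw [e1]; exact Or.inl (Or.inl rfl))
      have t2 : q12 ∈ T := hT _ (by rw [e2]; exact Or.inl (Or.inr (Or.inl rfl)))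
      have t5 : dualOp q12 q23 ∈ T := hT _ (by rw [e4]; exact Or.inr (Or.inr (Or.inl rfl)))
      have h23 : dualOp q12 (dualOp q12 q23) = q23 := (planeOp_dual.third _ _ dual_gen_ne.2.1).2.2
      have t3 : q23 ∈ T := by
        rw [← h23]
        exact hcl _ t2 _ t5 (by rw [h23]; exact dual_gen_ne.2.1.symm)
      have t4 := hcl _ t1 _ t2 dual_gen_ne.1
      rcases dual_gen s with rfl | rfl | rfl | rfl | rfl | rfl
      exacts [t1, t2, t3, t4, t5, hcl _ t4 _ t3 dual_gen_ne.2.2]
  right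
  obtain ⟨P, hP, e1, e2, e3⟩ := plane_of_triangle hD hwu hwv hcuv hw4
  refine realised_plane hD planeOp_affine hP ?_ ?_
  · exact hA hP p00 p10 p01 e1 e2 e3 (fun h => hwu (by
      have := (hP.comm _ _).1 h; rwa [e1, e2] at this)) (fun h => hwv (by
      have := (hP.comm _ _).1 h; rwa [e1, e3] at this))
  · intro T hT hcl s
    have t1 : p00 ∈ T := hT _ (by rw [e1]; exact Or.inl (Or.inl rfl))
    have t2 : p10 ∈ T := hT _ (by rw [e2]; exact Or.inl (Or.inr (Or.inl rfl)))
    have t3 : p01 ∈ T := hT _ (by rw [e3]; exact Or.inr (Or.inr (Or.inl rfl)))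
    have cl' : ∀ i ∈ T, ∀ j ∈ T, affineOp i j ∈ T := by
      intro i hi j hj
      by_cases h : affineOp i j = j
      · rwa [h]
      · exact hcl i hi j hj h
    rcases affine_gen s with rfl | rfl | rfl | rfl | rfl | rfl | rfl | rfl | rfl
    exacts [t1, t2, t3, cl' _ t1 _ t2, cl' _ t1 _ t3, cl' _ t2 _ t3,
      cl' _ t1 _ (cl' _ t2 _ t3), cl' _ t2 _ (cl' _ t1 _ t3), cl' _ t3 _ (cl' _ t1 _ t2)]

end Cfsg.Agent.S5367
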