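import Cfsg.Statements.S5377
import Cfsg.Agent.Lib.FischerM22Recog.Main

set_option autoImplicit false
open Cfsg

namespace Cfsg.Agent.S5377

/-- Let G be a finite group with an involution d whose centralizer C is quasisimple with C modulo the subgroup generated by d isomorphic to the projective special unitary group of dimension 6 over the field with four elements, and suppose some conjugate of d other than d commutes with d. Then the conjugacy class of d is a class of 3-transpositions generating G, and G with this class is of type M(22). -/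
theorem result {G : Type*} [Group G] [Finite G] (d : G) (hd : orderOf d = 2) (hq : Cfsg.IsQuasisimple (Subgroup.centralizer ({d} : Set G))) [((Subgroup.zpowers d).subgroupOf (Subgroup.centralizer ({d} : Set G))).Normal] (K : Type) [Field K] [Fintype K] (hK : Fintype.card K = 4) (e : (Subgroup.centralizer ({d} : Set G)) ⧸ (Subgroup.zpowers d).subgroupOf (Subgroup.centralizer ({d} : Set G)) ≃* Cfsg.PSU 6 K 2) (hnwc : ∃ g : G, g * d * g⁻¹ ∈ Subgroup.centralizer ({d} : Set G) ∧ g * d * g⁻¹ ≠ d) : Cfsg.IsThreeTranspositionClass (conjugatesOf d) ∧ Cfsg.IsOfTypeM22 G (conjugatesOf d) := by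
  have hd2 : d * d = 1 := by rw [← sq, ← hd, pow_orderOf_eq_one]
  have hd1 : d ≠ 1 := fun h => by rw [h, orderOf_one] at hd; norm_num at hd
  set C := Subgroup.centralizer ({d} : Set G)
  set N := (Subgroup.zpowers d).subgroupOf C
  have hmem : ∀ x : ↥C, x ∈ N → (x : G) = 1 ∨ (x : G) = d := by
    intro x hx
    obtain ⟨k, hk⟩ := Subgroup.mem_zpowers_iff.1 (Subgroup.mem_subgroupOf.1 hx)
    rw [← hk]
    rcases Int.even_or_odd' k with ⟨m, rfl | rfl⟩
    · left; rw [zpow_mul, zpow_two, hd2, one_zpow]
    · right; rw [zpow_add_one, zpow_mul, zpow_two, hd2, one_zpow, one_mul]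
  obtain ⟨ι⟩ := FischerPresented.U62.nonempty_psu_six_model hK
  let Φ := e.trans ι
  have hσ : ∀ x : ↥C, Φ.toMonoidHom.comp (QuotientGroup.mk' N) x = 1 ↔ x ∈ N := fun x => by
    rw [← QuotientGroup.eq_one_iff (N := N)]
    exact ⟨fun h => Φ.injective (h.trans (map_one _).symm), fun h => (congrArg Φ h).trans (map_one _)⟩
  obtain ⟨φ, hφ⟩ := FischerM22Recog.exists_centred (Φ.toMonoidHom.comp (QuotientGroup.mk' N))
    (Φ.surjective.comp (QuotientGroup.mk'_surjective N)) hd
    (fun x hx => (hσ x).2 (Subgroup.mem_subgroupOf.2 (hx ▸ Subgroup.mem_zpowers d)))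
    (fun x hx => hmem x ((hσ x).1 hx)) (by haveI := hq.1; exact Group.IsPerfect.commutator_eq_top)
  obtain ⟨f, hf⟩ := FischerM22Recog.exists_mulEquiv φ hφ hd2 hd1 hnwc
  exact ⟨Fi22Type.isClass_map f hf, Fi22Type.type_m22 f hf⟩

end Cfsg.Agent.S5377
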