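import Cfsg.Statements.S5385
import Cfsg.Agent.Lib.CoFive.Quot
import Cfsg.Agent.Lib.CoT.Wrap
-- import your own Cfsg.Agent.* helpers here

set_option autoImplicit false
open Cfsg

namespace Cfsg.Agent.S5385

/-- Let G be a finite group of Conway type (involution z with generalized Fitting subgroup Q of its centralizer C extraspecial of order 2^9, C/Q the commutator subgroup of the isometry group of the hyperbolic quadratic form in dimension 8 over the field with two elements, z not weakly closed in Q), and let B be a subgroup of C of order 5 such that the centralizer of B in Q is extraspecial of order 32 containing no elementary abelian subgroup of order 8 (the quaternion-times-dihedral type). Then the layer L of the centralizer of B in G is isomorphic to the Hall–Janko group and the centralizer of L is isomorphic to the alternating group of degree 5. -/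
theorem result {G : Type*} [Group G] [Finite G] (z : G) (hz : orderOf z = 2) (Q : Subgroup (Subgroup.centralizer ({z} : Set G))) [Q.Normal] (hF : Cfsg.generalizedFittingSubgroup (Subgroup.centralizer ({z} : Set G)) = Q) (hQ : Cfsg.IsExtraspecial 2 Q) (hcard : Nat.card Q = 2 ^ 9) (e : (Subgroup.centralizer ({z} : Set G)) ⧸ Q ≃* Cfsg.Omega (ZMod 2) (Cfsg.quadFormPlus 4 (ZMod 2))) (hnwc : ∃ g : G, (∃ hq : g * z * g⁻¹ ∈ Subgroup.centralizer ({z} : Set G), (⟨g * z * g⁻¹, hq⟩ : Subgroup.centralizer ({z} : Set G)) ∈ Q) ∧ g * z * g⁻¹ ≠ z) (B : Subgroup (Subgroup.centralizer ({z} : Set G))) (hB : Nat.card B = 5) (hCQ : Cfsg.IsExtraspecial 2 ↥(Q ⊓ Subgroup.centralizer (B : Set (Subgroup.centralizer ({z} : Set G))))) (hCQcard : Nat.card ↥(Q ⊓ Subgroup.centralizer (B : Set (Subgroup.centralizer ({z} : Set G)))) = 32) (hminus : ∀ A : Subgroup (Subgroup.centralizer ({z} : Set G)), A ≤ Q ⊓ Subgroup.centralizer (B : Set (Subgroup.centralizer ({z} : Set G))) → Cfsg.IsElementaryAbelian 2 A → Nat.card A ≤ 4) : Cfsg.Spor.IsoJ2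 ↥(Cfsg.layer ↥(Subgroup.centralizer ((B.map (Subgroup.subtype (Subgroup.centralizer ({z} : Set G)))) : Set G))) ∧ Nonempty (↥(Subgroup.centralizer (((Cfsg.layer ↥(Subgroup.centralizer ((B.map (Subgroup.subtype (Subgroup.centralizer ({z} : Set G)))) : Set G))).map (Subgroup.subtype _)) : Set G)) ≃* alternatingGroup (Fin 5)) := by
  classical
  haveI : Fact (Nat.Prime 5) := ⟨by norm_num⟩
  haveI : IsCyclic B := isCyclic_of_prime_card hB
  obtain ⟨b, hbgen⟩ := IsCyclic.exists_generator (α := B)
  have hb5 : orderOf ((b : (Subgroup.centralizer ({z} : Set G))) : G) = 5 := by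
    rw [Subgroup.orderOf_coe, Subgroup.orderOf_coe, orderOf_eq_card_of_forall_mem_zpowers hbgen, hB]
  have hBz : B = Subgroup.zpowers (b : (Subgroup.centralizer ({z} : Set G))) := by
    refine le_antisymm (fun x hx => ?_) (Subgroup.zpowers_le.2 b.2)
    obtain ⟨i, hi⟩ := Subgroup.mem_zpowers_iff.1 (hbgen ⟨x, hx⟩)
    exact Subgroup.mem_zpowers_iff.2 ⟨i, by simpa using congrArg Subtype.val hi⟩
  set β : G := ((b : (Subgroup.centralizer ({z} : Set G))) : G) with hβ
  have hcB : Subgroup.centralizer (B : Set (Subgroup.centralizer ({z} : Set G))) =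
      Subgroup.centralizer ({(b : (Subgroup.centralizer ({z} : Set G)))} : Set (Subgroup.centralizer ({z} : Set G))) :=
    (congrArg (fun H : Subgroup (Subgroup.centralizer ({z} : Set G)) =>
      Subgroup.centralizer (H : Set (Subgroup.centralizer ({z} : Set G)))) hBz).trans
      (by rw [Subgroup.zpowers_eq_closure, Subgroup.centralizer_closure])
  have hBC : Subgroup.centralizer ((B.map (Subgroup.centralizer ({z} : Set G)).subtype : Subgroup G) : Set G) =
      Subgroup.centralizer ({β} : Set G) :=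
    (congrArg (fun H : Subgroup (Subgroup.centralizer ({z} : Set G)) =>
      Subgroup.centralizer ((H.map (Subgroup.centralizer ({z} : Set G)).subtype : Subgroup G) : Set G)) hBz).trans
      (by rw [MonoidHom.map_zpowers, Subgroup.zpowers_eq_closure, Subgroup.centralizer_closure]; rfl)
  obtain ⟨π₀, ρ₀, S⟩ := CoT.exists_su hz Q hF hQ hcard e
  set Q0 := Q ⊓ Subgroup.centralizer (B : Set (Subgroup.centralizer ({z} : Set G))) with hQ0
  have hmap : Q0.map (Subgroup.centralizer ({z} : Set G)).subtype = Q.map (Subgroup.centralizer ({z} : Set G)).subtype ⊓ Subgroup.centralizer ({β} : Set G) := by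
    ext x
    rw [hQ0, hcB]
    constructor
    · rintro ⟨y, ⟨hy, hyb⟩, rfl⟩
      exact ⟨⟨y, hy, rfl⟩, Subgroup.mem_centralizer_singleton_iff.2
        (congrArg Subtype.val (Subgroup.mem_centralizer_singleton_iff.1 hyb))⟩
    · rintro ⟨⟨y, hy, rfl⟩, hyb⟩
      exact ⟨y, ⟨hy, Subgroup.mem_centralizer_singleton_iff.2
        (Subtype.ext (Subgroup.mem_centralizer_singleton_iff.1 hyb))⟩, rfl⟩
  have hbz : β * z = z * β := Subgroup.mem_centralizer_singleton_iff.1 (b : (Subgroup.centralizer ({z} : Set G))).2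
  obtain ⟨π, ρ, Z⟩ := CoFive.exists_fv S hb5 hbz
    (by rw [← hmap, ← Nat.card_congr (Q0.equivMapOfInjective _ (Subgroup.centralizer ({z} : Set G)).subtype_injective).toEquiv]; exact hCQcard)
    (by
      intro x hx hall
      have hzQ : z ∈ Q.map (Subgroup.centralizer ({z} : Set G)).subtype ⊓ Subgroup.centralizer ({β} : Set G) :=
        ⟨S.loc.mem, Subgroup.mem_centralizer_singleton_iff.2 hbz.symm⟩
      rw [← hmap] at hx hzQ hall
      obtain ⟨y, hy, rfl⟩ := hx
      obtain ⟨zc, hzc, hze⟩ := hzQ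
      have hcen : ∀ w : Q0, (∀ u : Q0, u * w = w * u) → w ∈ Subgroup.center Q0 :=
        fun w hw => Subgroup.mem_center_iff.2 hw
      obtain ⟨w₀, hw₀, huniq⟩ := (Nat.card_eq_two_iff' (1 : Subgroup.center Q0)).1 hCQ.2
      by_cases hy1 : ((Subgroup.centralizer ({z} : Set G)).subtype y : G) = 1
      · exact Or.inl hy1
      right
      have h1 : (⟨⟨y, hy⟩, hcen _ fun u => Subtype.ext ((Subgroup.centralizer ({z} : Set G)).subtype_injective (by
          simpa [map_mul] using (hall _ ⟨u, u.2, rfl⟩).symm))⟩ : Subgroup.center Q0) = w₀ :=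
        huniq _ fun h => hy1 (by
          have h' : y = 1 := congrArg (fun t : Subgroup.center Q0 => ((t : Q0) : (Subgroup.centralizer ({z} : Set G)))) h
          rw [h', map_one])
      have h2 : (⟨⟨zc, hzc⟩, hcen _ fun u => Subtype.ext ((Subgroup.centralizer ({z} : Set G)).subtype_injective (by
          rw [Subgroup.coe_mul, Subgroup.coe_mul, map_mul, map_mul, hze]
          exact Subgroup.mem_centralizer_singleton_iff.1 (u : (Subgroup.centralizer ({z} : Set G))).2))⟩ : Subgroup.center Q0) = w₀ :=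
        huniq _ fun h => S.loc.ne_one (by
          have h' : zc = 1 := congrArg (fun t : Subgroup.center Q0 => ((t : Q0) : (Subgroup.centralizer ({z} : Set G)))) h
          rw [← hze, h', map_one])
      have h3 : y = zc := congrArg (fun t : Subgroup.center Q0 => ((t : Q0) : (Subgroup.centralizer ({z} : Set G)))) (h1.trans h2.symm)
      rw [h3, hze])
    (by
      intro A hA hAe
      rw [← hmap] at hA
      have hAC : A ≤ (Subgroup.centralizer ({z} : Set G)) := fun x hx => by
        obtain ⟨y, -, rfl⟩ := hA hx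
        exact y.2
      rw [← Nat.card_congr (Subgroup.subgroupOfEquivOfLe hAC).toEquiv]
      refine hminus _ (fun x hx => ?_) ⟨⟨⟨fun p q => ?_⟩⟩, fun p hp => ?_⟩
      · obtain ⟨y, hy, hyx⟩ := hA hx
        rwa [← (Subgroup.centralizer ({z} : Set G)).subtype_injective hyx]
      · exact Subtype.ext (Subtype.ext (by
          simpa using congrArg Subtype.val (hAe.1.is_comm.comm (⟨_, p.2⟩ : A) ⟨_, q.2⟩)))
      · exact Subtype.ext (by simpa using hAe.2 _ hp))
  obtain ⟨g, ⟨hq, hgQ⟩, hne⟩ := hnwc
  obtain ⟨s₀, g₀, X₀⟩ := CoT.exists_frame Z.S ⟨g, ⟨_, hgQ, rfl⟩, hne⟩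
  obtain ⟨s, g', X, hs⟩ := X₀.exists_vec (CoFive.pent_sv.qz 0) (CoFive.pent_sv.ne_zero 0)
  obtain ⟨n, hnb, hnz, hns⟩ := Z.exists_n X hs
  have h := (⟨Z, X, hs, hnb, hnz, hns⟩ : CoFive.Cfg z _ π ρ β s g' n).layer_data
  rw [hBC]
  exact h

end Cfsg.Agent.S5385
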