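import Cfsg.Statements.S5387
import Cfsg.Agent.Lib.Cover.PSL34
-- import your own Cfsg.Agent.* helpers here

set_option autoImplicit false
open Cfsg

namespace Cfsg.Agent.S5387

/-- Up to isomorphism there is at most one quasisimple group whose centre is elementary abelian of order 4 and whose central quotient is isomorphic to the projective special linear group of dimension 3 over the field with four elements: any two such groups are isomorphic. -/
theorem result {L₁ L₂ : Type*} [Group L₁] [Finite L₁] [Group L₂] [Finite L₂] (F : Type) [Field F] [Fintype F] (hF : Fintype.card F = 4) (h₁ : Cfsg.IsQuasisimple L₁) (h₂ : Cfsg.IsQuasisimple L₂) (hc₁ : Nat.card (Subgroup.center L₁) = 4) (hc₂ : Nat.card (Subgroup.center L₂) = 4) (he₁ : ∀ x ∈ Subgroup.center L₁, x * x = 1) (he₂ : ∀ x ∈ Subgroup.center L₂, x * x = 1) (e₁ : L₁ ⧸ Subgroup.center L₁ ≃* Matrix.ProjectiveSpecialLinearGroup (Fin 3) F) (e₂ : L₂ ⧸ Subgroup.center L₂ ≃* Matrix.ProjectiveSpecialLinearGroup (Fin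 3) F) : Nonempty (L₁ ≃* L₂) := by
  classical
  set π₁ := e₁.toMonoidHom.comp (QuotientGroup.mk' (Subgroup.center L₁)) with hπ₁def
  set π₂ := e₂.toMonoidHom.comp (QuotientGroup.mk' (Subgroup.center L₂)) with hπ₂def
  have hs₁ : Function.Surjective π₁ := e₁.surjective.comp (QuotientGroup.mk'_surjective _)
  have hs₂ : Function.Surjective π₂ := e₂.surjective.comp (QuotientGroup.mk'_surjective _)
  have hk₁ : π₁.ker = Subgroup.center L₁ := by
    ext x
    simp [hπ₁def]
  have hk₂ : π₂.ker = Subgroup.center L₂ := by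
    ext x
    simp [hπ₂def]
  have p₁ : commutator L₁ = ⊤ := h₁.1.1
  have p₂ : commutator L₂ = ⊤ := h₂.1.1
  obtain ⟨K, hKeq, hK1, hK2, hKperf⟩ :=
    Cfsg.Agent.ElementaryCover.exists_perfect_fibre π₁ π₂ hs₁ hs₂ hk₂.le p₁ p₂
  set f₁ : ↥K →* L₁ := (MonoidHom.fst L₁ L₂).comp K.subtype with hf₁
  set f₂ : ↥K →* L₂ := (MonoidHom.snd L₁ L₂).comp K.subtype with hf₂
  have sf₁ : Function.Surjective f₁ := by
    intro a
    have : a ∈ K.map (MonoidHom.fst L₁ L₂) := by rw [hK1]; exact Subgroup.mem_top a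
    obtain ⟨x, hx, rfl⟩ := this
    exact ⟨⟨x, hx⟩, rfl⟩
  have sf₂ : Function.Surjective f₂ := by
    intro a
    have : a ∈ K.map (MonoidHom.snd L₁ L₂) := by rw [hK2]; exact Subgroup.mem_top a
    obtain ⟨x, hx, rfl⟩ := this
    exact ⟨⟨x, hx⟩, rfl⟩
  set π : ↥K →* Matrix.ProjectiveSpecialLinearGroup (Fin 3) F := π₁.comp f₁ with hπdef
  have hs : Function.Surjective π := hs₁.comp sf₁
  have hperf : commutator ↥K = ⊤ := by
    apply Subgroup.map_injective K.subtype_injective
    rw [Subgroup.map_subtype_commutator, hKperf, ← MonoidHom.range_eq_map, Subgroup.range_subtype]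
  have hker : ∀ x : ↥K, π x = 1 → x.1.1 ∈ Subgroup.center L₁ ∧ x.1.2 ∈ Subgroup.center L₂ := by
    intro x hx
    refine ⟨hk₁ ▸ (hx : π₁ x.1.1 = 1), hk₂ ▸ ?_⟩
    show π₂ x.1.2 = 1
    rw [← hKeq x.1 x.2]
    exact hx
  have hZc : π.ker ≤ Subgroup.center ↥K := by
    intro x hx
    obtain ⟨c1, c2⟩ := hker x hx
    rw [Subgroup.mem_center_iff]
    intro y
    exact Subtype.ext (Prod.ext (Subgroup.mem_center_iff.1 c1 y.1.1)
      (Subgroup.mem_center_iff.1 c2 y.1.2))
  have hZ2 : ∀ x ∈ π.ker, x * x = 1 := by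
    intro x hx
    obtain ⟨c1, c2⟩ := hker x hx
    exact Subtype.ext (Prod.ext (he₁ _ c1) (he₂ _ c2))
  have hle := Cfsg.Agent.PSL34Cover.card_ker_le hF π hs hperf hZc hZ2
  have cardOf : ∀ {H : Type _} [Group H] (g : H →* Matrix.ProjectiveSpecialLinearGroup (Fin 3) F),
      Function.Surjective g →
      Nat.card H = Nat.card ↥g.ker * Nat.card (Matrix.ProjectiveSpecialLinearGroup (Fin 3) F) := by
    intro H _ g hg
    have h := Subgroup.card_mul_index g.ker
    rw [Subgroup.index_ker, MonoidHom.range_eq_top.2 hg, Subgroup.card_top] at h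
    exact h.symm
  have hcK := cardOf π hs
  have hcard₁ : Nat.card ↥K ≤ Nat.card L₁ := by
    have h := Subgroup.card_mul_index π₁.ker
    rw [Subgroup.index_ker, MonoidHom.range_eq_top.2 hs₁, Subgroup.card_top, hk₁, hc₁] at h
    rw [← h, hcK]
    exact Nat.mul_le_mul_right _ hle
  have hcard₂ : Nat.card ↥K ≤ Nat.card L₂ := by
    have h := Subgroup.card_mul_index π₂.ker
    rw [Subgroup.index_ker, MonoidHom.range_eq_top.2 hs₂, Subgroup.card_top, hk₂, hc₂] at h
    rw [← h, hcK]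
    exact Nat.mul_le_mul_right _ hle
  have b₁ : Function.Bijective f₁ := sf₁.bijective_of_nat_card_le hcard₁
  have b₂ : Function.Bijective f₂ := sf₂.bijective_of_nat_card_le hcard₂
  exact ⟨(MulEquiv.ofBijective f₁ b₁).symm.trans (MulEquiv.ofBijective f₂ b₂)⟩

end Cfsg.Agent.S5387
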