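import Cfsg.Statements.S5389
import Cfsg.Agent.Lib.E8Cent.Co1
import Cfsg.Agent.Lib.CoT.Wrap
import Cfsg.Agent.Lib.CoT.Frame
import Cfsg.Agent.Lib.CoThree.Quot

set_option autoImplicit false
set_option maxRecDepth 20000
set_option synthInstance.maxSize 4000
set_option synthInstance.maxHeartbeats 400000
open Cfsg

namespace Cfsg.Agent.S5389

open Subgroup in
/-- An element of order three of `Co₁` lifted to `Co₀`, with the centraliser. -/
theorem lift_three {x : Cfsg.Spor.Co1} (hx : orderOf x = 3) :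
    ∃ a : ↥Cfsg.Co0, orderOf a = 3 ∧
      ∃ φ : ↥(centralizer ((zpowers a : Subgroup ↥Cfsg.Co0) : Set ↥Cfsg.Co0)) →*
          ↥(centralizer ({x} : Set Cfsg.Spor.Co1)) ⧸ (zpowers x).subgroupOf (centralizer ({x} : Set Cfsg.Spor.Co1)),
        Function.Surjective φ ∧
        φ.ker = (zpowers a ⊔ center ↥Cfsg.Co0).subgroupOf (centralizer ((zpowers a : Subgroup ↥Cfsg.Co0) : Set ↥Cfsg.Co0)) := by
  classical
  let m : ↥Cfsg.Co0 →* Cfsg.Spor.Co1 := QuotientGroup.mk' (center ↥Cfsg.Co0)
  have hm : ∀ g, m g = 1 ↔ g = 1 ∨ g = Leech.negCo0 := fun g => by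
    rw [← Leech.mem_center_iff]; exact QuotientGroup.eq_one_iff g
  have hnc : Leech.negCo0 ∈ center ↥Cfsg.Co0 := Leech.mem_center_iff.2 (Or.inr rfl)
  have hnm : m Leech.negCo0 = 1 := (hm _).2 (Or.inr rfl)
  have hn2 : Leech.negCo0 * Leech.negCo0 = (1 : ↥Cfsg.Co0) := by
    rcases Leech.mem_center_iff.1 (mul_mem hnc hnc) with h | h
    · exact h
    · exact absurd (mul_eq_left.1 h) Leech.negCo0_ne_one
  have hn3 : ∀ g, (g * Leech.negCo0) ^ 3 = g ^ 3 * Leech.negCo0 := fun g => by
    rw [(show Commute g Leech.negCo0 from mem_center_iff.1 hnc g).mul_pow]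
    congr 1
    rw [pow_succ, pow_two, hn2, one_mul]
  obtain ⟨a₀, rfl⟩ := QuotientGroup.mk'_surjective _ x
  obtain ⟨a, ha, hax⟩ : ∃ a, a ^ 3 = 1 ∧ m a = m a₀ := by
    have h3 : m (a₀ ^ 3) = 1 := by rw [map_pow, ← hx]; exact pow_orderOf_eq_one _
    rcases (hm _).1 h3 with h | h
    · exact ⟨a₀, h, rfl⟩
    · exact ⟨a₀ * Leech.negCo0, by rw [hn3, h, hn2], by rw [map_mul, hnm, mul_one]⟩
  have hx' : orderOf (m a) = 3 := by rw [hax]; exact hx
  haveI : Fact (Nat.Prime 3) := ⟨Nat.prime_three⟩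
  have ha3 : orderOf a = 3 := orderOf_eq_prime ha fun e => by
    rw [e, map_one, orderOf_one] at hx'; norm_num at hx'
  refine ⟨a, ha3, ?_⟩
  have e : QuotientGroup.mk' (center ↥Cfsg.Co0) a₀ = m a := hax.symm
  rw [e]
  set CA := centralizer ((zpowers a : Subgroup ↥Cfsg.Co0) : Set ↥Cfsg.Co0)
  have hCA : ∀ g, g ∈ CA ↔ g * a = a * g := fun g => by
    rw [mem_centralizer_iff]
    refine ⟨fun h => (h a (mem_zpowers a)).symm, fun h y hy => ?_⟩
    obtain ⟨i, rfl⟩ := mem_zpowers_iff.1 hy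
    exact ((show Commute g a from h).zpow_right i).eq.symm
  let r : ↥CA →* ↥(centralizer ({m a} : Set Cfsg.Spor.Co1)) := (m.comp CA.subtype).codRestrict _ fun g =>
    mem_centralizer_singleton_iff.2 (by
      show m (g : ↥Cfsg.Co0) * m a = m a * m (g : ↥Cfsg.Co0)
      rw [← map_mul, ← map_mul, (hCA _).1 g.2])
  refine ⟨(QuotientGroup.mk' _).comp r, fun y => ?_, ?_⟩
  · obtain ⟨⟨y, hy⟩, rfl⟩ := QuotientGroup.mk'_surjective _ y
    obtain ⟨g, rfl⟩ := QuotientGroup.mk'_surjective _ y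
    have hg : g * a = a * g := by
      have h1 : m (g * a * g⁻¹ * a⁻¹) = 1 := by
        rw [map_mul, map_mul, map_mul, map_inv, map_inv,
          show m g * m a = m a * m g from mem_centralizer_singleton_iff.1 hy, mul_inv_cancel_right, mul_inv_cancel]
      rcases (hm _).1 h1 with h | h
      · exact mul_inv_eq_iff_eq_mul.1 (mul_inv_eq_one.1 h)
      · exfalso
        have h' : g * a * g⁻¹ = a * Leech.negCo0 := by
          rw [mem_center_iff.1 hnc a]; exact mul_inv_eq_iff_eq_mul.1 h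
        have := congrArg (fun u => u ^ 3) h'
        simp only [conj_pow, ha, mul_one, mul_inv_cancel, hn3, one_mul] at this
        exact Leech.negCo0_ne_one this.symm
    exact ⟨⟨g, (hCA g).2 hg⟩, rfl⟩
  · ext g
    rw [MonoidHom.mem_ker, MonoidHom.comp_apply]
    refine (QuotientGroup.eq_one_iff (r g)).trans ?_
    rw [mem_subgroupOf, mem_subgroupOf]
    constructor
    · intro h
      obtain ⟨i, hi⟩ := mem_zpowers_iff.1 h
      have h1 : m ((a ^ i)⁻¹ * g) = 1 := by
        rw [map_mul, map_inv, map_zpow, hi]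
        exact inv_mul_cancel _
      rw [show (g : ↥Cfsg.Co0) = a ^ i * ((a ^ i)⁻¹ * g) by rw [mul_inv_cancel_left]]
      exact mul_mem (mem_sup_left (zpow_mem_zpowers a i)) (mem_sup_right ((QuotientGroup.eq_one_iff _).1 h1))
    · intro h
      have hle : zpowers a ⊔ center ↥Cfsg.Co0 ≤ (zpowers (m a)).comap m :=
        sup_le (zpowers_le.2 (mem_zpowers (m a))) fun c hc => by
          rw [mem_comap, show m c = 1 from (QuotientGroup.eq_one_iff c).2 hc]; exact one_mem _
      exact hle h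


/-- A simple section of the automorphism group of the Leech lattice satisfying the Suzuki-sporadic-type hypothesis (the group so obtained is the sporadic Suzuki group; that identification is not part of this statement): there is a subgroup A of order 3 of that automorphism group such that the centralizer of A modulo the subgroup generated by A and the centre of the automorphism group is a non-abelian simple group satisfying the large extraspecial hypothesis of minus type in dimension 6 — an involution whose centralizer has extraspecial generalized Fitting subgroup of order 2^7 with quotient the commutator subgroup of the isometry group of the elliptic quadratic form in dimension 6 over the field with two elements, the involution not weakly closed in that extraspecial group. -/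
theorem result : ∃ A : Subgroup ↥Cfsg.Co0, Nat.card A = 3 ∧ ∃ (hn : ((A ⊔ Subgroup.center ↥Cfsg.Co0).subgroupOf (Subgroup.centralizer (A : Set ↥Cfsg.Co0))).Normal), ∃ (S : Type) (_ : Group S) (_ : Finite S), Nonempty (S ≃* ↥(Subgroup.centralizer (A : Set ↥Cfsg.Co0)) ⧸ (A ⊔ Subgroup.center ↥Cfsg.Co0).subgroupOf (Subgroup.centralizer (A : Set ↥Cfsg.Co0))) ∧ IsSimpleGroup S ∧ ¬ IsMulCommutative S ∧ ∃ z : S, orderOf z = 2 ∧ ∃ (Q : Subgroup (Subgroup.centralizer ({z} : Set S))) (_ : Q.Normal), Cfsg.generalizedFittingSubgroup (Subgroup.centralizer ({z} : Set S)) = Q ∧ Cfsg.IsExtraspecial 2 Q ∧ Nat.card Q = 2 ^ 7 ∧ Nonempty ((Subgroup.centralizer ({z} : Set S)) ⧸ Q ≃* Cfsg.Omega (ZMod 2) (Cfsg.quadFormMinus 2 (ZMod 2) 1 1)) ∧ ∃ g : S, (∃ hq : g * z * g⁻¹ ∈ Subgroup.centralizer ({z} : Set S), (⟨g * z * g⁻¹, hq⟩ : Subgroup.centralizer ({z} : Set S)) ∈ Q) ∧ g * z * g⁻¹ ≠ z := by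
  obtain ⟨z, hz, Q, hQn, hF, hQ, hcard, ⟨e⟩, g, ⟨hq, hgQ⟩, hgne⟩ := E8Cent.co1_main
  haveI := hQn
  obtain ⟨π, ρ, Su⟩ := CoT.exists_su hz Q hF hQ hcard e
  obtain ⟨s, g', X⟩ := CoT.exists_frame Su ⟨g, Subgroup.mem_map_of_mem _ hgQ, hgne⟩
  obtain ⟨x, hx, hsimp, hna, htype⟩ := CoThree.exists_suzLike Su X
  obtain ⟨a, ha, φ, hφ, hker⟩ := lift_three hx
  haveI hn : ((Subgroup.zpowers a ⊔ Subgroup.center ↥Cfsg.Co0).subgroupOf
      (Subgroup.centralizer ((Subgroup.zpowers a : Subgroup ↥Cfsg.Co0) : Set ↥Cfsg.Co0))).Normal :=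
    hker ▸ φ.normal_ker
  refine ⟨Subgroup.zpowers a, by rw [Nat.card_zpowers, ha], hn, _, inferInstance, inferInstance,
    ⟨((QuotientGroup.quotientMulEquivOfEq hker.symm).trans
      (QuotientGroup.quotientKerEquivOfSurjective φ hφ)).symm⟩, hsimp, hna, htype⟩

end Cfsg.Agent.S5389
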