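import Cfsg.Statements.S5396
import Cfsg.Agent.Lib.LargeExtra.Models

set_option autoImplicit false
open Cfsg

namespace Cfsg.Agent.S5396
open Cfsg.Agent Cfsg.Agent.LargeExtra.Models

/-- For every n ≥ 1 there exist finite extraspecial 2-groups of order 2^(2n+1) whose 2-rank (the largest rank of an elementary abelian subgroup) is n, and ones whose 2-rank is n + 1 (so for each such order there are two non-isomorphic extraspecial 2-groups, told apart by their 2-rank). -/
theorem result (n : ℕ) (hn : 1 ≤ n) : ∀ r ∈ ({n, n + 1} : Set ℕ), ∃ (E : Type) (_ : Group E) (_ : Finite E), Cfsg.IsExtraspecial 2 E ∧ Nat.card E = 2 ^ (2 * n + 1) ∧ sSup {k : ℕ | ∃ A : Subgroup E, Cfsg.IsElementaryAbelian 2 A ∧ Nat.card A = 2 ^ k} = r := by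
  haveI : Fact (Nat.Prime 2) := ⟨Nat.prime_two⟩
  obtain ⟨m, rfl⟩ : ∃ m, n = m + 1 := ⟨n - 1, by omega⟩
  intro r hr
  have key : ∀ (e : ZMod 2) (k : ℕ), Nat.card (sing e m) = 2 ^ k →
      (∀ A : Subgroup (E e m), Cfsg.IsElementaryAbelian 2 A → Nat.card A ≤ 2 ^ k) →
      ∃ (X : Type) (_ : Group X) (_ : Finite X), Cfsg.IsExtraspecial 2 X ∧ Nat.card X = 2 ^ (2 * (m + 1) + 1) ∧
        sSup {j : ℕ | ∃ A : Subgroup X, Cfsg.IsElementaryAbelian 2 A ∧ Nat.card A = 2 ^ j} = k := by
    intro e k hk hle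
    refine ⟨E e m, inferInstance, inferInstance, isExtraspecial, natCard, IsGreatest.csSup_eq ⟨?_, ?_⟩⟩
    · exact ⟨sing e m, sing_elementary, hk⟩
    · rintro j ⟨A, hA, hj⟩
      exact (Nat.pow_le_pow_iff_right (by norm_num)).1 (hj ▸ hle A hA)
  rcases hr with h | h
  · subst h
    exact key 1 (m + 1) card_sing_one fun A hA => card_le_minus A hA
  · rw [Set.mem_singleton_iff] at h
    subst h
    refine key 0 (m + 2) card_sing_zero fun A hA => ?_
    have h1 := FGBasics.XS.card_abelian_sq_le (isExtraspecial (e := (0 : ZMod 2)) (m := m)) A hA.1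
    rw [natCard] at h1
    refine Nat.mul_self_le_mul_self_iff.1 (h1.trans (le_of_eq ?_))
    ring

end Cfsg.Agent.S5396
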