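import Cfsg.Statements.S5397
import Cfsg.Agent.Lib.CoM24.Octads
import Cfsg.Agent.Lib.CoM24.Split

set_option autoImplicit false
set_option maxRecDepth 20000
set_option synthInstance.maxSize 4000
set_option synthInstance.maxHeartbeats 400000
open Cfsg

namespace Cfsg.Agent.S5397

open Cfsg.Agent.CoT Cfsg.Agent.CoM24 Subgroup in
/-- The normaliser of the abelian subgroup: the group of the code, two orbits. -/
theorem of_four {G : Type*} [Group G] [Finite G] {z : G} {Q : Subgroup G} {π : G → V} {ρ : G → V → V}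
    {s g : Fin 4 → G} (X : Four z Q π ρ s g) :
    ∃ A : Subgroup G, Cfsg.IsElementaryAbelian 2 A ∧ Nat.card A = 2 ^ 11 ∧ z ∈ A ∧ ∃ _ : (A.subgroupOf (Subgroup.normalizer (A : Set G))).Normal, Nonempty (↥(Subgroup.normalizer (A : Set G)) ⧸ A.subgroupOf (Subgroup.normalizer (A : Set G)) ≃* ↥Cfsg.M24) ∧ (∃ K : Subgroup ↥(Subgroup.normalizer (A : Set G)), (A.subgroupOf (Subgroup.normalizer (A : Set G))).IsComplement' K) ∧ ∃ a ∈ A, ∃ b ∈ A, a ≠ 1 ∧ b ≠ 1 ∧ (∀ n ∈ Subgroup.normalizer (A : Set G), n * a * n⁻¹ ≠ b) ∧ ∀ c ∈ A, c ≠ 1 → ∃ n ∈ Subgroup.normalizer (A : Set G), n * c * n⁻¹ = a ∨ n * c * n⁻¹ = b := by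
  classical
  obtain ⟨r, hr⟩ := X.base.exists_rsys
  obtain ⟨ta, hta⟩ := X.exists_tsys hr
  obtain ⟨e, he, hreach⟩ := exists_octCoords X
  set A := AA z s with hA
  set N := normalizer (A : Set G) with hN
  have e0 : e 0 = 1 := by
    have := he.xor 0 0 (by norm_num) (by norm_num)
    rw [Nat.xor_self] at this
    exact left_eq_mul.1 this
  have hne : ∀ y, y < 2048 → y ≠ 0 → e y ≠ 1 := fun y hy h0 h =>
    h0 (he.inj y 0 hy (by norm_num) (h.trans e0.symm))
  have hconj : ∀ (n : ↥N) (y : ℕ), ∃ y' < 2048, e y' = (n : G) * e y * (n : G)⁻¹ := fun n y =>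
    he.surj _ ((mem_normalizer_iff.1 n.2 _).1 (he.mem y))
  choose f hflt hfe using hconj
  have huniq : ∀ (n : ↥N) (y y' : ℕ), y' < 2048 → e y' = (n : G) * e y * (n : G)⁻¹ → f n y = y' :=
    fun n y y' hy' h => he.inj _ _ (hflt n y) hy' ((hfe n y).trans h.symm)
  have hact : Act f :=
    { lt := fun n y _ => hflt n y
      mul := fun n m y _ => huniq _ _ _ (hflt _ _) (by
        rw [hfe, hfe, Subgroup.coe_mul]; group)
      one := fun y hy => huniq _ _ _ hy (by rw [Subgroup.coe_one]; group)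
      xor := fun n x y hx hy => huniq _ _ _ (lt11 (hflt n x) (hflt n y)) (by
        rw [he.xor _ _ (hflt n x) (hflt n y), hfe, hfe, he.xor x y hx hy]; group)
      oct := fun n y h0 hy => by
        have h0' : f n y ≠ 0 := fun h => hne y hy h0 (conj_eq_one_iff.1
          (show (n : G) * e y * (n : G)⁻¹ = 1 by rw [← hfe, h, e0]))
        rw [Bool.eq_iff_iff, ← he.oct _ h0' (hflt n y), ← he.oct y h0 hy]
        exact (conj_iff_conj _ _ _ (hfe n y).symm).symm }
  obtain ⟨Φ, hker, hΦ⟩ := octad_hom hact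
  have htriv : ∀ n : ↥N, (∀ y < 2048, f n y = y) ↔ (n : G) ∈ A := by
    intro n
    constructor
    · intro h
      refine X.cent_AA hr fun u hu => ?_
      obtain ⟨y, hy, rfl⟩ := he.surj u hu
      have := hfe n y
      rw [h y hy] at this
      exact mul_inv_eq_iff_eq_mul.1 this.symm
    · intro h y hy
      exact huniq n y y hy (by rw [X.AA_comm hr h (he.mem y), mul_inv_cancel_right])
  have hAN : A ≤ N := le_normalizer
  have hk : Φ.ker = A.subgroupOf N := by
    ext n
    rw [MonoidHom.mem_ker, hker, htriv]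
    exact Iff.rfl
  have hcardA : Nat.card A = 2048 := X.card_AA hr
  have hsurj : Function.Surjective Φ := by
    have hHN : HH z s ≤ N := inf_le_right
    refine octad_surjective hact hΦ ((HH z s).subgroupOf N) (fun n hn => huniq _ _ _ (by norm_num) ?_)
      (card_map_ge hker _ ?_) fun k hk => ?_
    · rw [he.one]
      exact (mul_inv_eq_iff_eq_mul.2 (mem_centralizer_singleton_iff.1 hn.1)).symm
    · rw [Nat.card_congr (subgroupOfEquivOfLe hHN).toEquiv]
      refine le_trans (Nat.mul_le_mul_left _ ?_) (X.card_HH hr hta)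
      have hle : Nat.card {n : ↥N // n ∈ (HH z s).subgroupOf N ∧ ∀ y < 2048, f n y = y} ≤ Nat.card A :=
        Nat.card_le_card_of_injective (fun n => (⟨((n.1 : ↥N) : G), (htriv n.1).1 n.2.2⟩ : A))
          fun a b h => Subtype.ext (Subtype.ext (congrArg (fun u : A => (u : G)) h))
      exact hle.trans hcardA.le
    · obtain ⟨m, hm, y, hy, hmy, hyk⟩ := hreach k hk
      refine ⟨⟨m, hm⟩, ?_⟩
      rw [huniq ⟨m, hm⟩ 1 y hy (by rw [he.one, hmy])]
      exact hyk
  have hnorm : (A.subgroupOf N).Normal := hk ▸ inferInstance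
  have hcardN : Nat.card ↥N = 2048 * 244823040 := by
    have h := Φ.ker.card_mul_index
    rw [index_ker, MonoidHom.range_eq_top.2 hsurj, card_top, Golay.card_M24, hk,
      Nat.card_congr (subgroupOfEquivOfLe hAN).toEquiv, hcardA] at h
    exact h.symm
  refine ⟨A, X.elementary hr, by rw [hcardA]; norm_num, X.base.z_mem, hnorm,
    ⟨(QuotientGroup.quotientMulEquivOfEq hk.symm).trans (QuotientGroup.quotientKerEquivOfSurjective Φ hsurj)⟩,
    exists_complement X hcardN, ?_⟩
  obtain ⟨a, b, ha0, hb0, ha, hb, hsep, hcov⟩ := octad_orbits hact hΦ hsurj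
  refine ⟨e a, he.mem a, e b, he.mem b, hne a ha ha0, hne b hb hb0, fun n hn h => hsep ⟨n, hn⟩
    (huniq ⟨n, hn⟩ a b hb h.symm), fun c hc hc1 => ?_⟩
  obtain ⟨y, hy, rfl⟩ := he.surj c hc
  have hy0 : y ≠ 0 := fun h => hc1 (by rw [h, e0])
  obtain ⟨n, hn⟩ := hcov y hy0 hy
  refine ⟨n, n.2, ?_⟩
  rcases hn with h | h
  · exact Or.inl (by rw [← hfe, h])
  · exact Or.inr (by rw [← hfe, h])

/-- Let G be a finite group of Conway type (involution z with generalized Fitting subgroup Q of its centralizer C extraspecial of order 2^9, C/Q the commutator subgroup of the isometry group of the hyperbolic quadratic form in dimension 8 over the field with two elements, z not weakly closed in Q). Then G has an elementary abelian subgroup A of order 2^11 containing z whose normalizer N is a split extension of A with N/A isomorphic to the automorphism group of the length-24 code built from the squares modulo 23, and N has exactly two orbits on the non-identity elements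 of A. -/
theorem result {G : Type*} [Group G] [Finite G] (z : G) (hz : orderOf z = 2) (Q : Subgroup (Subgroup.centralizer ({z} : Set G))) [Q.Normal] (hF : Cfsg.generalizedFittingSubgroup (Subgroup.centralizer ({z} : Set G)) = Q) (hQ : Cfsg.IsExtraspecial 2 Q) (hcard : Nat.card Q = 2 ^ 9) (e : (Subgroup.centralizer ({z} : Set G)) ⧸ Q ≃* Cfsg.Omega (ZMod 2) (Cfsg.quadFormPlus 4 (ZMod 2))) (hnwc : ∃ g : G, (∃ hq : g * z * g⁻¹ ∈ Subgroup.centralizer ({z} : Set G), (⟨g * z * g⁻¹, hq⟩ : Subgroup.centralizer ({z} : Set G)) ∈ Q) ∧ g * z * g⁻¹ ≠ z) : ∃ A : Subgroup G, Cfsg.IsElementaryAbelian 2 A ∧ Nat.card A = 2 ^ 11 ∧ z ∈ A ∧ ∃ _ : (A.subgroupOf (Subgroup.normalizer (A : Set G))).Normal, Nonempty (↥(Subgroup.normalizer (A : Set G)) ⧸ A.subgroupOf (Subgroup.normalizer (A : Set G)) ≃* ↥Cfsg.M24) ∧ (∃ K : Subgroup ↥(Subgroup.normalizer (A : Set G)), (A.subgroupOf (Subgroup.normalizer (A : Set G))).IsComplement' K) ∧ ∃ a ∈ A, ∃ b ∈ A, a ≠ 1 ∧ b ≠ 1 ∧ (∀ n ∈ Subgroup.normalizer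 (A : Set G), n * a * n⁻¹ ≠ b) ∧ ∀ c ∈ A, c ≠ 1 → ∃ n ∈ Subgroup.normalizer (A : Set G), n * c * n⁻¹ = a ∨ n * c * n⁻¹ = b := by
  obtain ⟨π, ρ, S⟩ := Cfsg.Agent.CoT.exists_su hz Q hF hQ hcard e
  obtain ⟨g₀, ⟨hq, hmem⟩, hne⟩ := hnwc
  obtain ⟨s₀, g', F⟩ := Cfsg.Agent.CoT.exists_frame S ⟨g₀, ⟨_, hmem, rfl⟩, hne⟩
  obtain ⟨π', ρ', s, g, X⟩ := Cfsg.Agent.CoM24.exists_four F
  exact of_four X

end Cfsg.Agent.S5397
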