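import Cfsg.Statements.S5402
import Cfsg.Agent.Lib.FischerM23Recog.Main
import Cfsg.Agent.Lib.FischerM22Recog.Main

set_option autoImplicit false
open Cfsg

namespace Cfsg.Agent.S5402

/-- Let G be a finite group with an involution d whose centralizer C is quasisimple, such that C modulo the subgroup generated by d is of type M(22) with respect to some conjugacy class of 3-transpositions generating it, and also has an involution whose own centralizer is quasisimple with quotient by it isomorphic to the projective special unitary group of dimension 6 over the field with four elements and which is not weakly closed in its centralizer; and suppose some conjugate of d other than d commutes with d. Then the conjugacy class of d is a class of 3-transpositions generating G, and G with this class is of type M(23). -/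
theorem result {G : Type*} [Group G] [Finite G] (d : G) (hd : orderOf d = 2) (hq : Cfsg.IsQuasisimple (Subgroup.centralizer ({d} : Set G))) [((Subgroup.zpowers d).subgroupOf (Subgroup.centralizer ({d} : Set G))).Normal] (htype : ∃ E : Set ((Subgroup.centralizer ({d} : Set G)) ⧸ (Subgroup.zpowers d).subgroupOf (Subgroup.centralizer ({d} : Set G))), Cfsg.IsThreeTranspositionClass E ∧ Cfsg.IsOfTypeM22 _ E) (hinvol : ∃ d' : (Subgroup.centralizer ({d} : Set G)) ⧸ (Subgroup.zpowers d).subgroupOf (Subgroup.centralizer ({d} : Set G)), orderOf d' = 2 ∧ Cfsg.IsQuasisimple (Subgroup.centralizer ({d'} : Set _)) ∧ (∃ (K : Type) (_ : Field K) (_ : Fintype K), Fintype.card K = 4 ∧ ∃ _ : ((Subgroup.zpowers d').subgroupOf (Subgroup.centralizer ({d'} : Set _))).Normal, Nonempty ((Subgroup.centralizer ({d'} : Set _)) ⧸ (Subgroup.zpowers d').subgroupOf (Subgroup.centralizer ({d'} : Set _)) ≃* Cfsg.PSU 6 K 2)) ∧ ∃ g, g * d' * g⁻¹ ∈ Subgroup.centralizer ({d'} : Set _) ∧ g * d' * g⁻¹ ≠ d') (hnwc : ∃ g : G, g * d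 * g⁻¹ ∈ Subgroup.centralizer ({d} : Set G) ∧ g * d * g⁻¹ ≠ d) : Cfsg.IsThreeTranspositionClass (conjugatesOf d) ∧ Cfsg.IsOfTypeM23 G (conjugatesOf d) := by
  clear htype
  have zfacts : ∀ {X : Type _} [Group X] {t : X}, orderOf t = 2 → ∀ x ∈ Subgroup.zpowers t, x = 1 ∨ x = t := by
    intro X _ t ht x hx
    have ht2 : t * t = 1 := by rw [← sq, ← ht, pow_orderOf_eq_one]
    obtain ⟨k, rfl⟩ := Subgroup.mem_zpowers_iff.1 hx
    rcases Int.even_or_odd' k with ⟨m, rfl | rfl⟩
    · left; rw [zpow_mul, zpow_two, ht2, one_zpow]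
    · right; rw [zpow_add_one, zpow_mul, zpow_two, ht2, one_zpow, one_mul]
  revert hinvol
  set C := Subgroup.centralizer ({d} : Set G)
  set N := (Subgroup.zpowers d).subgroupOf C
  rintro ⟨d', hd', hq', ⟨K, iK, iKf, hK, hn', ⟨e⟩⟩, hnwc'⟩
  obtain ⟨ι⟩ := FischerPresented.U62.nonempty_psu_six_model hK
  set C' := Subgroup.centralizer ({d'} : Set (↥C ⧸ N))
  set N' := (Subgroup.zpowers d').subgroupOf C'
  haveI : N'.Normal := hn'
  let Φ := e.trans ι
  have hσ : ∀ x : ↥C', Φ.toMonoidHom.comp (QuotientGroup.mk' N') x = 1 ↔ x ∈ N' := fun x => by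
    rw [← QuotientGroup.eq_one_iff (N := N')]
    exact ⟨fun h => Φ.injective (h.trans (map_one _).symm), fun h => (congrArg Φ h).trans (map_one _)⟩
  have hd2' : d' * d' = 1 := by rw [← sq, ← hd', pow_orderOf_eq_one]
  have hd1' : d' ≠ 1 := fun h => by rw [h, orderOf_one] at hd'; norm_num at hd'
  obtain ⟨φ, hφ⟩ := FischerM22Recog.exists_centred (Φ.toMonoidHom.comp (QuotientGroup.mk' N'))
    (Φ.surjective.comp (QuotientGroup.mk'_surjective N')) hd'
    (fun x hx => (hσ x).2 (Subgroup.mem_subgroupOf.2 (hx ▸ Subgroup.mem_zpowers d')))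
    (fun x hx => zfacts hd' _ (Subgroup.mem_subgroupOf.1 ((hσ x).1 hx)))
    (by haveI := hq'.1; exact Group.IsPerfect.commutator_eq_top)
  obtain ⟨f, -⟩ := FischerM22Recog.exists_mulEquiv φ hφ hd2' hd1' hnwc'
  let σ := f.symm.toMonoidHom.comp (QuotientGroup.mk' N)
  have hσ' : ∀ x : ↥C, σ x = 1 ↔ x ∈ N := fun x => by
    rw [← QuotientGroup.eq_one_iff (N := N)]
    exact ⟨fun h => f.symm.injective (h.trans (map_one _).symm), fun h => (congrArg f.symm h).trans (map_one _)⟩
  obtain ⟨Ψ, hΨ⟩ := FischerM23Recog.exists_mulEquiv σ (f.symm.surjective.comp (QuotientGroup.mk'_surjective N)) hd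
    (fun x hx => (hσ' x).2 (Subgroup.mem_subgroupOf.2 (hx ▸ Subgroup.mem_zpowers d)))
    (fun x hx => zfacts hd _ (Subgroup.mem_subgroupOf.1 ((hσ' x).1 hx)))
    (by haveI := hq.1; exact Group.IsPerfect.commutator_eq_top) hnwc
  exact ⟨Fi23Type.isClass_map Ψ hΨ, Fi23Type.type_m23 Ψ hΨ⟩

end Cfsg.Agent.S5402
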