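import Cfsg.Statements.S5408
import Cfsg.Agent.Lib.Leech.PlusSub

set_option autoImplicit false
open Cfsg

namespace Cfsg.Agent.S5408
open Cfsg.Agent

/-- Let G be a finite group of Monster type at the involution z with Q the extraspecial normal subgroup of order 2^25 of C = C_G(z) (so C/Q is identified with the first Conway group with Q modulo its centre the Leech lattice modulo 2, and z is not weakly closed in Q). Then Q is of plus type: it contains an elementary abelian subgroup of order 2^13. -/
theorem result {G : Type*} [Group G] [Finite G] (z : G) (Q : Subgroup (Subgroup.centralizer ({z} : Set G))) [Q.Normal] (hM : Cfsg.IsOfMonsterType z Q) : ∃ E : Subgroup Q, Cfsg.IsElementaryAbelian 2 E ∧ Nat.card E = 2 ^ 13 := by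
  classical
  obtain ⟨⟨hz, -, ⟨hsp, hcen⟩, hcard, -⟩, e, ψ, hψadd, hψsurj, hψker, hψeq⟩ := hM
  have hψ0 : ψ 0 = 1 := by
    have h := hψadd 0 0
    rw [add_zero] at h
    exact mul_eq_left.1 h.symm
  have hψtwo : ∀ w, ψ (w + w) = 1 := fun w => (hψker _).2 ⟨w, rfl⟩
  -- representatives
  let r : Cfsg.leechLattice → Q := fun v => Function.surjInv QuotientGroup.mk_surjective (ψ v)
  have hr : ∀ v, (QuotientGroup.mk (r v) : Q ⧸ (Subgroup.center Q)) = ψ v := fun v =>
    Function.surjInv_eq QuotientGroup.mk_surjective _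
  have hcomm : ∀ x y : Q, (x * y)⁻¹ * (y * x) ∈ (Subgroup.center Q) := by
    intro x y
    obtain ⟨u, hu⟩ := hψsurj (QuotientGroup.mk x)
    obtain ⟨v, hv⟩ := hψsurj (QuotientGroup.mk y)
    rw [← QuotientGroup.eq, QuotientGroup.mk_mul, QuotientGroup.mk_mul, ← hu, ← hv, ← hψadd, ← hψadd,
      add_comm]
  have hsq : ∀ x : Q, x * x ∈ (Subgroup.center Q) := by
    intro x
    obtain ⟨u, hu⟩ := hψsurj (QuotientGroup.mk x)
    rw [← QuotientGroup.eq_one_iff, QuotientGroup.mk_mul, ← hu, ← hψadd]
    exact hψtwo u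
  have hcentral : ∀ c ∈ (Subgroup.center Q), ∀ x : Q, x * c = c * x := fun c hc x => Subgroup.mem_center_iff.1 hc x
  have hc2 : ∀ c ∈ (Subgroup.center Q), c * c = 1 := by
    intro c hc
    have h : (⟨c, hc⟩ : (Subgroup.center Q)) ^ Nat.card (Subgroup.center Q) = 1 := pow_card_eq_one'
    rw [hcen, pow_two] at h
    exact congrArg Subtype.val h
  -- the parity of an element of the centre
  let χ : Q → ZMod 2 := fun c => if c = 1 then 0 else 1
  have hχ : ∀ a ∈ (Subgroup.center Q), ∀ b ∈ (Subgroup.center Q), χ (a * b) = χ a + χ b := by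
    intro a ha b hb
    by_cases h1 : a = 1
    · simp [χ, h1]
    by_cases h2 : b = 1
    · simp [χ, h2]
    have hab : a = b := by
      obtain ⟨p, q, hpq, huniv⟩ := Nat.card_eq_two_iff.1 hcen
      have mem : ∀ w : (Subgroup.center Q), w = p ∨ w = q := fun w => by
        have : w ∈ ({p, q} : Set (Subgroup.center Q)) := huniv ▸ Set.mem_univ w
        exact this
      rcases mem ⟨a, ha⟩ with e1 | e1 <;> rcases mem ⟨b, hb⟩ with e2 | e2
      · exact congrArg Subtype.val (e1.trans e2.symm)
      · exfalso
        rcases mem 1 with e3 | e3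
        · exact h1 (congrArg Subtype.val (e1.trans e3.symm))
        · exact h2 (congrArg Subtype.val (e2.trans e3.symm))
      · exfalso
        rcases mem 1 with e3 | e3
        · exact h2 (congrArg Subtype.val (e2.trans e3.symm))
        · exact h1 (congrArg Subtype.val (e1.trans e3.symm))
      · exact congrArg Subtype.val (e1.trans e2.symm)
    subst hab
    simp [χ, h1, hc2 a ha]
    rfl
  let D : Q → Q → Q := fun x y => (x * y)⁻¹ * (y * x)
  have hD : ∀ x y, y * x = x * y * D x y := fun x y => by simp [D, mul_assoc]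
  have hDmul : ∀ x y w, D (x * y) w = D x w * D y w := by
    intro x y w
    have e1 : w * (x * y) = x * y * w * (D x w * D y w) := by
      calc w * (x * y) = (w * x) * y := (mul_assoc _ _ _).symm
        _ = x * w * D x w * y := by rw [hD x w]
        _ = x * (w * y) * D x w := by
          rw [mul_assoc (x * w), ← hcentral _ (hcomm x w) y]; simp [D, mul_assoc]
        _ = x * (y * w * D y w) * D x w := by rw [hD y w]
        _ = x * y * w * (D x w * D y w) := by
          rw [← hcentral _ (hcomm x w) (D y w)]; simp [D, mul_assoc]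
    show (x * y * w)⁻¹ * (w * (x * y)) = _
    rw [e1, inv_mul_cancel_left]
  have hprod : ∀ x y, χ (x * y * (x * y)) = χ (x * x) + χ (y * y) + χ (D x y) := by
    intro x y
    have : x * y * (x * y) = x * x * (y * y) * D x y := by
      calc x * y * (x * y) = x * (y * x) * y := by simp [mul_assoc]
        _ = x * (x * y * D x y) * y := by rw [hD x y]
        _ = x * x * (y * y) * D x y := by
          simp only [mul_assoc]
          rw [← hcentral _ (hcomm x y) y]
    rw [this, hχ _ (mul_mem (hsq x) (hsq y)) _ (hcomm x y), hχ _ (hsq x) _ (hsq y)]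
  let q : Cfsg.leechLattice → ZMod 2 := fun v => χ (r v * r v)
  have hq : ∀ v (x : Q), (QuotientGroup.mk x : Q ⧸ (Subgroup.center Q)) = ψ v → q v = χ (x * x) := by
    intro v x hx
    have hc : x⁻¹ * r v ∈ (Subgroup.center Q) := QuotientGroup.eq.1 (hx.trans (hr v).symm)
    have : r v * r v = x * x * (x⁻¹ * r v * (x⁻¹ * r v)) := by
      have e1 : r v = x * (x⁻¹ * r v) := by simp
      conv_lhs => rw [e1]
      rw [mul_assoc x (x⁻¹ * r v), ← mul_assoc (x⁻¹ * r v) x, ← hcentral _ hc x]
      simp only [mul_assoc]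
    show χ (r v * r v) = _
    rw [this, hc2 _ hc, mul_one]
  have hcos : ∀ v w, q (v + (w + w)) = q v := fun v w =>
    hq _ (r v) (by rw [hψadd, hψtwo, mul_one, hr])
  have hquad : ∀ u v w, q (u + v + w) + q u + q v + q w = q (u + v) + q (u + w) + q (v + w) := by
    intro u v w
    rw [hq (u + v + w) (r u * r v * r w) (by rw [hψadd, hψadd, QuotientGroup.mk_mul, QuotientGroup.mk_mul, hr, hr, hr]),
      hq (u + v) (r u * r v) (by rw [hψadd, QuotientGroup.mk_mul, hr, hr]),
      hq (u + w) (r u * r w) (by rw [hψadd, QuotientGroup.mk_mul, hr, hr]),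
      hq (v + w) (r v * r w) (by rw [hψadd, QuotientGroup.mk_mul, hr, hr]),
      hprod (r u * r v), hprod, hprod, hprod, hDmul, hχ _ (hcomm _ _) _ (hcomm _ _)]
    simp only [q]
    have two : ∀ a : ZMod 2, a + a = 0 := CharTwo.add_self_eq_zero
    generalize χ (r u * r u) = a, χ (r v * r v) = b, χ (r w * r w) = c, χ (D (r u) (r v)) = d,
      χ (D (r u) (r w)) = f, χ (D (r v) (r w)) = g
    revert a b c d f g
    decide
  have hinv : ∀ (g : Cfsg.Co0) (v : Cfsg.leechLattice), q (g • v) = q v := by
    intro g v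
    obtain ⟨h', hh⟩ := e.surjective (QuotientGroup.mk g)
    obtain ⟨h, rfl⟩ := QuotientGroup.mk_surjective h'
    have key := hψeq h g hh.symm v (r v) (hr v).symm
    rw [hq (g • v) _ key.symm]
    show (if _ = 1 then (0 : ZMod 2) else 1) = if r v * r v = 1 then 0 else 1
    refine if_congr ?_ rfl rfl
    rw [@Subtype.ext_iff _ _ (_ * _ : Q) 1, @Subtype.ext_iff _ _ (r v * r v) 1]
    simp only [Subgroup.coe_mul, Subgroup.coe_one]
    constructor
    · intro hh'
      have := congrArg (fun y => h⁻¹ * y * h) hh'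
      simpa [mul_assoc] using this
    · intro hh'
      calc _ = h * ((r v : Subgroup.centralizer ({z} : Set G)) * (r v : Subgroup.centralizer ({z} : Set G))) * h⁻¹ := by
            simp [mul_assoc]
        _ = 1 := by rw [hh']; simp
  have hvan := Leech.vanish_plusSub q hcos hquad hinv
  -- the subgroup
  let ψ' : Multiplicative Cfsg.leechLattice →* Q ⧸ (Subgroup.center Q) :=
    { toFun := fun v => ψ v.toAdd
      map_one' := hψ0
      map_mul' := fun a b => hψadd _ _ }
  let A := AddSubgroup.toSubgroup (Leech.plusSub.addSubgroupOf Cfsg.leechLattice)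
  let E : Subgroup Q := (A.map ψ').comap (QuotientGroup.mk' (Subgroup.center Q))
  have hE : ∀ x ∈ E, x * x = 1 := by
    intro x hx
    obtain ⟨v, hv, hvx⟩ := hx
    have h0 := hvan v.toAdd hv
    rw [hq v.toAdd x hvx.symm] at h0
    by_contra hne
    simp [χ, hne] at h0
  refine ⟨E, ⟨⟨⟨fun a b => Subtype.ext ?_⟩⟩, fun x hx => by rw [pow_two]; exact hE x hx⟩, ?_⟩
  · have ha := hE a a.2
    have hb := hE b b.2
    have hab := hE _ (E.mul_mem a.2 b.2)
    show (a : Q) * b = b * a
    calc (a : Q) * b = ((a : Q) * b)⁻¹ := (inv_eq_of_mul_eq_one_right hab).symm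
      _ = b * a := by rw [mul_inv_rev, inv_eq_of_mul_eq_one_right ha, inv_eq_of_mul_eq_one_right hb]
  · have hidx : E.index = 2 ^ 12 := by
      rw [Subgroup.index_comap_of_surjective _ (QuotientGroup.mk'_surjective (Subgroup.center Q)),
        Subgroup.index_map_eq _ (fun y => let ⟨v, hv⟩ := hψsurj y; ⟨Multiplicative.ofAdd v, hv⟩)]
      · exact Leech.index_plusSub
      · intro v hv
        obtain ⟨w, hw⟩ := (hψker v.toAdd).1 hv
        show ((v.toAdd : Cfsg.leechLattice) : Cfsg.GolayPt → ℤ) ∈ Leech.plusSub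
        rw [hw, AddSubgroup.coe_add, ← two_zsmul]
        exact Leech.two_smul_mem_plusSub w.2
    have h := E.card_mul_index
    rw [hidx, hcard] at h
    omega

end Cfsg.Agent.S5408
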