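import Cfsg.Statements.S5415
import Cfsg.Agent.Lib.MonsterT.ThreeAModel
import Cfsg.Agent.Lib.MonsterT.ThreeCentralA

set_option autoImplicit false
open Cfsg

namespace Cfsg.Agent.S5415

/-- Let G be a finite group of Monster type at the involution z with Q the extraspecial normal subgroup of order 2^25 of C = C_G(z) (so C/Q is identified with the first Conway group with Q modulo its centre the Leech lattice modulo 2, and z is not weakly closed in Q). Let s be a conjugate of z in Q other than z and let Y be a subgroup of order 3 of the joint centralizer L of z and s that is 3-central in L (Y lies in the centre of some Sylow 3-subgroup of L). Then the centralizer of Y modulo Y is a group of large Fischer type (an involution whose centralizer D has generalized Fitting subgroup R extraspecial of order 2^13 and normal subgroups R ≤ N ≤ M with N/R of order 3, M/N the projective special unitary group of dimension 4 over the field with nine elements and M of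 index 2 in D; the involution not weakly closed in R). -/
theorem result {G : Type*} [Group G] [Finite G] (z : G) (Q : Subgroup (Subgroup.centralizer ({z} : Set G))) [Q.Normal] (hM : Cfsg.IsOfMonsterType z Q) (s : G) (hsQ : ∃ hsc : s ∈ Subgroup.centralizer ({z} : Set G), (⟨s, hsc⟩ : Subgroup.centralizer ({z} : Set G)) ∈ Q) (hs : IsConj z s) (hs1 : s ≠ z) (Y : Subgroup G) (hY : Y ≤ Subgroup.centralizer ({z, s} : Set G)) (hY3 : Nat.card Y = 3) (hc : ∃ P : Sylow 3 ↥(Subgroup.centralizer ({z, s} : Set G)), Y.subgroupOf (Subgroup.centralizer ({z, s} : Set G)) ≤ (Subgroup.center ↥(P : Subgroup ↥(Subgroup.centralizer ({z, s} : Set G)))).map (P : Subgroup ↥(Subgroup.centralizer ({z, s} : Set G))).subtype) [hn : (Y.subgroupOf (Subgroup.centralizer (Y : Set G))).Normal] : Cfsg.IsOfLargeFischerType (↥(Subgroup.centralizer (Y : Set G)) ⧸ Y.subgroupOf (Subgroup.centralizer (Y : Set G))) := by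
  obtain ⟨hsetting, e, ψ, hiso⟩ := hM
  have H : Cfsg.Agent.MonsterT.MT z Q e ψ := ⟨hsetting, hiso⟩
  obtain ⟨hsc, hsq⟩ := hsQ
  obtain ⟨q, rfl⟩ : ∃ q : Q, Cfsg.Agent.MonsterT.toG q = s := ⟨⟨⟨s, hsc⟩, hsq⟩, rfl⟩
  haveI : Fact (Nat.Prime 3) := ⟨Nat.prime_three⟩
  have hne : Y ≠ ⊥ := fun h => by rw [h, Subgroup.card_bot] at hY3; omega
  obtain ⟨y, hy, hy1⟩ : ∃ y, y ∈ Y ∧ y ≠ 1 := by
    by_contra hcon
    push Not at hcon
    exact hne ((Subgroup.eq_bot_iff_forall _).2 hcon)
  have hyo : orderOf y = 3 := by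
    have hd := orderOf_dvd_natCard (⟨y, hy⟩ : Y)
    rw [hY3, Subgroup.orderOf_mk] at hd
    exact ((Nat.dvd_prime Nat.prime_three).1 hd).resolve_left fun h => hy1 (orderOf_eq_one_iff.1 h)
  have hB : Y = Subgroup.zpowers y :=
    (Subgroup.eq_of_le_of_card_ge (Subgroup.zpowers_le.2 hy) (by rw [Nat.card_zpowers, hyo, hY3])).symm
  let x : Cfsg.Agent.MonsterT.Three.Lsub z (Cfsg.Agent.MonsterT.toG q) := ⟨y, hY hy⟩
  have hx : orderOf x = 3 := (Subgroup.orderOf_mk _ _).trans hyo
  have hcx : Cfsg.Agent.MonsterT.Three.Central x := by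
    obtain ⟨P, hP⟩ := hc
    obtain ⟨e', ψ', g, H', hv, -⟩ := H.standard hs hs1 (p := 3) rfl
      (β := Cfsg.Agent.MonsterT.Three.toC z q x) (by rw [← map_pow, ← hx, pow_orderOf_eq_one, map_one])
      (fun h => hy1 (congrArg Subtype.val h)) (Cfsg.Agent.MonsterT.Three.toC_comm x)
    obtain ⟨n, -, hn'⟩ := Cfsg.Agent.MonsterT.Three.exists_card_L H' hv
    obtain ⟨u, hu, hux⟩ := hP (show x ∈ Y.subgroupOf _ from hy)
    refine ⟨P, ?_, hux ▸ u.2, fun v hv' => ?_⟩
    · rw [P.card_eq_multiplicity, Cfsg.Agent.MonsterT.Three.fact_three H' hv hn']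
      norm_num
    · rw [← hux]
      exact (congrArg Subtype.val (Subgroup.mem_center_iff.1 hu ⟨v, hv'⟩)).symm
  obtain ⟨e', ψ', H', hv', himg, hlam⟩ := Cfsg.Agent.MonsterT.Three.standard_of_central H hs hs1 hx hcx
  have hβo : orderOf (Cfsg.Agent.MonsterT.Three.toC z q x) = 3 := by
    rw [← Subgroup.orderOf_coe]; exact hyo
  have D : Cfsg.Agent.MonsterT.Loc z Q e' ψ' Cfsg.Agent.MonsterT.ThreeA.bA 3
      (Cfsg.Agent.MonsterT.Three.toC z q x) q :=
    ⟨H', Nat.prime_three, rfl, Cfsg.Agent.MonsterT.ThreeA.bA_pow,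
      himg.trans (congrArg _ Cfsg.Agent.MonsterT.ThreeA.bA_sec.symm), hβo, hv',
      Cfsg.Agent.MonsterT.Three.toC_comm x⟩
  have hq2 : Cfsg.Agent.MonsterT.toG q * Cfsg.Agent.MonsterT.toG q = 1 :=
    congrArg Cfsg.Agent.MonsterT.toG (H'.sq_eq_one hs)
  have hsquare : ∀ a : ℕ, y ^ a ≠ 1 → ∃ n : Subgroup.centralizer ({z} : Set G), Cfsg.Agent.MonsterT.cq n q = q ∧
      n * Cfsg.Agent.MonsterT.Three.toC z q x * n⁻¹ = Cfsg.Agent.MonsterT.Three.toC z q x ^ (a ^ 4) := by
    intro a ha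
    refine ⟨1, Subtype.ext (by simp [Cfsg.Agent.MonsterT.cq]), ?_⟩
    have h3 : a % 3 ≠ 0 := fun h => ha (by rw [← pow_mod_orderOf, hyo, h, pow_zero])
    have h4 : a ^ 4 % 3 = 1 := by
      rw [Nat.pow_mod]
      have : a % 3 = 1 ∨ a % 3 = 2 := by omega
      rcases this with h | h <;> rw [h] <;> rfl
    rw [one_mul, inv_one, mul_one, ← pow_mod_orderOf _ (a ^ 4), hβo, h4, pow_one]
  obtain ⟨h, hh1, hh2⟩ := D.fused
    (fun h hz hq' => Cfsg.Agent.MonsterT.Three.conj_of_central H' hv' hx hlam hcx hq2 h hz hq') hsquare hs hs1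
  obtain ⟨zb, R, hR, hset, ⟨hiso'⟩, -⟩ := D.setting_of Cfsg.Agent.MonsterT.ThreeA.centModel (w := 6) rfl (by norm_num)
    (B := Y) hB ⟨h, hh1, hh2, hs1⟩
  exact ⟨zb, R, hR, Cfsg.Agent.MonsterT.ThreeA.isOfLargeFischerTypeAt hset hiso'⟩

end Cfsg.Agent.S5415
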