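import Cfsg.Statements.S5420
import Cfsg.Agent.Lib.FiniteGroup.FittingPow

set_option autoImplicit false
open Cfsg

namespace Cfsg.Agent.S5420

open Cfsg.Agent


/-- Let Q be an extraspecial 2-subgroup of the finite group G whose centralizer in G is its centre Z and which is normal in the centralizer of Z. If Z lies in the largest normal 2-subgroup of G, then Q is a large extraspecial 2-subgroup of G: it normalizes no non-trivial subgroup of G of odd order. -/
theorem result {G : Type*} [Group G] [Finite G] (Q : Subgroup G) (hL1 : Cfsg.IsExtraspecial 2 ↥Q) (hL2 : Subgroup.centralizer (Q : Set G) = ((Subgroup.center ↥Q).map Q.subtype)) (hL3 : Subgroup.centralizer (((Subgroup.center ↥Q).map Q.subtype) : Set G) ≤ Subgroup.normalizer (Q : Set G)) (hZ : ((Subgroup.center ↥Q).map Q.subtype) ≤ Cfsg.pCore 2 G) : Cfsg.IsLargeExtraspecial Q := by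
  refine ⟨hL1, hL2, hL3, fun K hK hQK => ?_⟩
  haveI : Fact (Nat.Prime 2) := ⟨Nat.prime_two⟩
  have hp := FiniteGroup.pCore_isPGroup (G := G) 2
  haveI := Cfsg.pCore_normal 2 G
  have h0 : ∀ x, x ∈ K → x ∈ Cfsg.pCore 2 G → x = 1 := by
    intro x hxK hxP
    rw [← orderOf_eq_one_iff]
    obtain ⟨k, hk⟩ := hp ⟨x, hxP⟩
    replace hk := orderOf_dvd_of_pow_eq_one (by simpa [Subtype.ext_iff] using hk : x ^ 2 ^ k = 1)
    have h2 : orderOf x ∣ Nat.card ↥K := Subgroup.orderOf_dvd_natCard K hxK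
    exact Nat.eq_one_of_dvd_coprimes ((Nat.coprime_two_left.2 hK).pow_left k) hk h2
  have hKZ : K ≤ Subgroup.centralizer (((Subgroup.center ↥Q).map Q.subtype) : Set G) := by
    intro k hk z hz
    have hzQ : z ∈ Q := Subgroup.map_subtype_le _ hz
    have h1 : k * z * k⁻¹ * z⁻¹ = 1 := by
      refine h0 _ ?_ (mul_mem (Subgroup.Normal.conj_mem inferInstance _ (hZ hz) k)
        (inv_mem (hZ hz)))
      rw [show k * z * k⁻¹ * z⁻¹ = k * (z * k⁻¹ * z⁻¹) by group]
      exact mul_mem hk ((Subgroup.mem_normalizer_iff.1 (hQK hzQ) _).1 (inv_mem hk))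
    rw [mul_inv_eq_one, mul_inv_eq_iff_eq_mul] at h1
    exact h1.symm
  rw [Subgroup.eq_bot_iff_forall]
  intro k hk
  have hkC : k ∈ Subgroup.centralizer (Q : Set G) := by
    intro q hq
    have hx1 : q * k * q⁻¹ * k⁻¹ ∈ K :=
      mul_mem ((Subgroup.mem_normalizer_iff.1 (hQK hq) _).1 hk) (inv_mem hk)
    have hx2 : q * k * q⁻¹ * k⁻¹ ∈ Q := by
      rw [show q * k * q⁻¹ * k⁻¹ = q * (k * q⁻¹ * k⁻¹) by group]
      exact mul_mem hq ((Subgroup.mem_normalizer_iff.1 (hL3 (hKZ hk)) _).1 (inv_mem hq))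
    obtain ⟨n, hn⟩ := hL1.1.1 ⟨_, hx2⟩
    have h1 : q * k * q⁻¹ * k⁻¹ = 1 := by
      rw [← orderOf_eq_one_iff]
      refine Nat.eq_one_of_dvd_coprimes ((Nat.coprime_two_left.2 hK).pow_left n)
        (orderOf_dvd_of_pow_eq_one (by simpa [Subtype.ext_iff] using hn))
        (Subgroup.orderOf_dvd_natCard K hx1)
    rwa [mul_inv_eq_one, mul_inv_eq_iff_eq_mul] at h1
  rw [hL2] at hkC
  exact h0 k hk (hZ hkC)

end Cfsg.Agent.S5420
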