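import Cfsg.Statements.S5426
import Cfsg.Agent.Lib.LargeExtra.MinNormal
import Cfsg.Agent.Lib.LocalEven.Frattini

set_option autoImplicit false
open Cfsg

namespace Cfsg.Agent.S5426
open Cfsg.Agent Cfsg.Agent.LargeExtra Cfsg.Agent.MinFactors Subgroup
open scoped commutatorElement

/-- Let Q be a large extraspecial 2-subgroup of the finite group G (extraspecial; centralizer equal to its centre; normal in the centralizer of its centre; normalizing no non-trivial subgroup of odd order) with centre generated by z, and let M be the normal closure of z in G. Then one of the following holds: Q is normal in G; or M is abelian and the generalized Fitting subgroup of G is its largest normal 2-subgroup; or M is the generalized Fitting subgroup of G and is a non-abelian simple group; or M is the generalized Fitting subgroup of G and is the direct product of a non-abelian simple subgroup L and its conjugate u L u⁻¹ by some u in Q (the two meet trivially and commute elementwise), with z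 = z₁ (u z₁ u⁻¹) for some z₁ in L whose centralizer in L is a Sylow 2-subgroup of L with Frattini subgroup inside the subgroup generated by z₁, and Q is not the largest normal 2-subgroup of the centralizer of z. -/
theorem result {G : Type*} [Group G] [Finite G] (Q : Subgroup G) (hQ : Cfsg.IsLargeExtraspecial Q) (z : G) (hz : ((Subgroup.center ↥Q).map Q.subtype) = Subgroup.zpowers z) (M : Subgroup G) (hM : M = Subgroup.normalClosure ({z} : Set G)) : Q.Normal ∨ (IsMulCommutative ↥M ∧ Cfsg.generalizedFittingSubgroup G = Cfsg.pCore 2 G) ∨ (M = Cfsg.generalizedFittingSubgroup G ∧ IsSimpleGroup ↥M ∧ ¬ IsMulCommutative ↥M) ∨ (M = Cfsg.generalizedFittingSubgroup G ∧ ∃ (L : Subgroup G) (u : G), u ∈ Q ∧ IsSimpleGroup ↥L ∧ ¬ IsMulCommutative ↥L ∧ L ⊓ (L).map (MulAut.conj u).toMonoidHom = ⊥ ∧ (∀ x ∈ L, ∀ y ∈ (L).map (MulAut.conj u).toMonoidHom, x * y = y * x) ∧ L ⊔ (L).map (MulAut.conj u).toMonoidHom = M ∧ ∃ z₁ ∈ L, z = z₁ * (u * z₁ * u⁻¹) ∧ (∃ R : Sylow 2 ↥L, (R : Subgroup ↥L) = (Subgroup.centralizer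 ({z₁} : Set G)).subgroupOf L ∧ (frattini ↥(R : Subgroup ↥L)).map ((L.subtype).comp (R : Subgroup ↥L).subtype) ≤ Subgroup.zpowers z₁) ∧ Q ≠ (Cfsg.pCore 2 ↥(Subgroup.centralizer ({z} : Set G))).map (Subgroup.centralizer ({z} : Set G)).subtype) := by
  have h : XSLocal Q z := XSLocal.of_large hQ hz
  haveI : Fact (Nat.Prime 2) := ⟨Nat.prime_two⟩
  subst hM
  by_cases hab : IsMulCommutative ↥(normalClosure ({z} : Set G))
  · exact Or.inr (Or.inl ⟨hab, h.fstar_of_abelian hQ hab⟩)
  have hF := h.fstar_of_nonabelian hQ hab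
  have hMne : normalClosure ({z} : Set G) ≠ ⊥ :=
    fun e => h.ne_one (mem_bot.1 (e ▸ subset_normalClosure (Set.mem_singleton z)))
  obtain ⟨S, hS⟩ := exists_naMin (normalClosure ({z} : Set G)) normalClosure_normal hMne
    (fun N hN hle => (eq_or_ne N ⊥).imp id fun hne => le_antisymm hle (h.closure_le_normal hQ hN hne)) hab
  have hzN : z ∈ S.N := hS ▸ subset_normalClosure (Set.mem_singleton z)
  obtain ⟨U⟩ : Nonempty S.Fac := ⟨⟨S.T, 1, conjS_one _⟩⟩
  haveI := S.fac_simple U
  by_cases hone : ∀ W : S.Fac, W = U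
  · refine Or.inr (Or.inr (Or.inl ⟨hF, ?_, hab⟩))
    have : U.1 = S.N := le_antisymm (S.fac_stable U).2.1 (by
      rw [← S.iSup_fac]
      exact iSup_le fun W => (hone W).symm ▸ le_rfl)
    rw [← hS, ← this]
    infer_instance
  push Not at hone
  obtain ⟨V, hUV⟩ := hone
  refine Or.inr (Or.inr (Or.inr ⟨hF, U.1, ?_⟩))
  obtain ⟨u, hu, hue⟩ := transitive h hQ hzN U V
  have hcov : ∀ W : S.Fac, W = U ∨ W = V := at_most_two h hQ hzN hUV
  have hV : U.1.map (MulAut.conj u).toMonoidHom = V.1 := congrArg Subtype.val hue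
  have hUna : ¬ IsMulCommutative ↥U.1 := fun hc => by
    obtain ⟨a, ha, b, hb, hne⟩ := S.fac_nonabelian U
    exact hne (congrArg Subtype.val (hc.is_comm.comm (⟨a, ha⟩ : U.1) ⟨b, hb⟩))
  refine ⟨u, hu, inferInstance, hUna, by rw [hV]; exact S.fac_inf hUV.symm,
    fun a ha b hb => S.fac_comm hUV.symm ha (hV ▸ hb), ?_, ?_⟩
  · rw [hV, ← hS, ← S.iSup_fac]
    refine le_antisymm (sup_le (le_iSup (fun W : S.Fac => W.1) U) (le_iSup (fun W : S.Fac => W.1) V)) ?_
    refine iSup_le fun W => ?_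
    rcases hcov W with rfl | rfl
    exacts [le_sup_left, le_sup_right]
  set z₁ := comp S U ⟨z, hzN⟩ with hz₁
  have hz1U : z₁ ∈ U.1 := comp_mem S U _
  have hsplit : z = z₁ * (u * z₁ * u⁻¹) := by
    have hbV : u * z₁ * u⁻¹ ∈ V.1 := hV ▸ ⟨z₁, hz1U, rfl⟩
    have e : (⟨z, hzN⟩ : S.N) = ⟨z₁, (S.fac_stable U).2.1 hz1U⟩ * ⟨u * z₁ * u⁻¹, (S.fac_stable V).2.1 hbV⟩ := by
      refine ext_comp S fun W => ?_
      rw [comp_mul]
      rcases hcov W with rfl | rfl
      · rw [comp_self S _ hz1U, comp_other S hUV hbV, mul_one]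
      · rw [comp_other S hUV.symm hz1U, comp_self S _ hbV, one_mul, ← hue, comp_z_fixed h hQ hzN hu]
    exact congrArg Subtype.val e
  -- the centralizer of z₁ in U
  set C2 := (centralizer ({z₁} : Set G)).subgroupOf U.1 with hC2
  have hC2mem : ∀ c : U.1, c ∈ C2 ↔ (c : G) * z₁ = z₁ * (c : G) := fun c =>
    mem_subgroupOf.trans mem_centralizer_one
  have hC2p : IsPGroup 2 C2 := fun c => ⟨2, Subtype.ext (Subtype.ext (by
    simpa using pow_four h hQ hzN hUV c.1.2 ((hC2mem c.1).1 c.2)))⟩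
  -- a Sylow subgroup centralizing z
  obtain ⟨S0, hS0⟩ := h.xs.1.1.exists_le_sylow
  have hzS : ∀ s ∈ (S0 : Subgroup G), s * z = z * s := by
    haveI : Nontrivial (S0 : Subgroup G) := ⟨⟨⟨z, hS0 h.mem⟩, 1, fun e => h.ne_one (congrArg Subtype.val e)⟩⟩
    haveI := S0.isPGroup'.center_nontrivial
    obtain ⟨⟨y, hy⟩, hy1⟩ := exists_ne (1 : center (S0 : Subgroup G))
    have hyz : (y : G) = z := by
      rcases h.mem_zpowers_iff.1 (h.cent (fun q hq => congrArg Subtype.val
        (mem_center_iff.1 hy ⟨q, hS0 hq⟩))) with e | e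
      · exact absurd (Subtype.ext (Subtype.ext e)) hy1
      · exact e
    intro s hs
    have := congrArg Subtype.val (mem_center_iff.1 hy ⟨s, hs⟩)
    simpa [hyz] using this
  haveI := S.normal
  obtain ⟨R0, hR0⟩ : ∃ R0 : Sylow 2 S.N, ∀ r ∈ (R0 : Subgroup S.N), (r : G) * z = z * r := by
    obtain ⟨T⟩ := (inferInstance : Nonempty (Sylow 2 S.N))
    obtain ⟨S1, hS1⟩ := ((T.isPGroup').map S.N.subtype).exists_le_sylow
    obtain ⟨g, hg⟩ := MulAction.exists_smul_eq G S1 S0
    refine ⟨(MulAut.conjNormal (H := S.N) g) • T, fun r hr => hzS r ?_⟩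
    obtain ⟨t, ht, rfl⟩ := hr
    rw [← hg]
    exact ⟨(t : G), hS1 ⟨t, ht, rfl⟩, rfl⟩
  have hproj : Function.Surjective (S.proj U) := fun a =>
    ⟨⟨a, (S.fac_stable U).2.1 a.2⟩, S.proj_self U _ a.2⟩
  let R := R0.mapSurjective hproj
  have hRle : (R : Subgroup U.1) ≤ C2 := by
    rintro _ ⟨r, hr, rfl⟩
    refine (hC2mem _).2 ?_
    show comp S U r * z₁ = z₁ * comp S U r
    rw [hz₁, ← comp_mul, ← comp_mul]
    exact congrArg (comp S U) (Subtype.ext (hR0 r hr))
  have hReq : (R : Subgroup U.1) = C2 := (R.is_maximal' hC2p hRle).symm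
  refine ⟨z₁, hz1U, hsplit, ⟨R, hReq, ?_⟩, fun hQeq => ?_⟩
  · obtain ⟨hsq, hcm⟩ := centralizer_props h hQ hzN hUV
    have hle : frattini ↥(R : Subgroup U.1) ≤
        (zpowers z₁).comap (U.1.subtype.comp (R : Subgroup U.1).subtype) := by
      refine LEFrattini.frattini_le (p := 2) (fun a b => ?_) (fun a => ?_)
      · rcases hcm _ a.1.2 _ b.1.2 ((hC2mem a.1).1 (hRle a.2)) ((hC2mem b.1).1 (hRle b.2)) with e | e <;>
          rw [mem_comap, map_commutatorElement]
        · exact (show ⁅(a.1 : G), (b.1 : G)⁆ ∈ zpowers z₁ from e ▸ one_mem _)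
        · exact (show ⁅(a.1 : G), (b.1 : G)⁆ ∈ zpowers z₁ from e ▸ mem_zpowers _)
      · rw [mem_comap, map_pow, pow_two]
        rcases hsq _ a.1.2 ((hC2mem a.1).1 (hRle a.2)) with e | e
        · exact (show (a.1 : G) * (a.1 : G) ∈ zpowers z₁ from e ▸ one_mem _)
        · exact (show (a.1 : G) * (a.1 : G) ∈ zpowers z₁ from e ▸ mem_zpowers _)
    exact map_le_iff_le_comap.2 hle
  · -- if Q were the core, it would contain the centralizer in M
    have hDle : S.N ⊓ centralizer ({z} : Set G) ≤ Q := by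
      rw [hQeq]
      refine le_coreAt (fun x => ⟨2, Subtype.ext ?_⟩) inf_le_right ?_
      · have hx : ∀ W, comp S W (⟨x, x.2.1⟩ : S.N) ^ 4 = 1 := by
          intro W
          obtain ⟨W', hW'⟩ : ∃ W' : S.Fac, W' ≠ W := by
            rcases hcov W with rfl | rfl
            exacts [⟨_, hUV⟩, ⟨_, hUV.symm⟩]
          refine pow_four h hQ hzN hW' (comp_mem S W _) ?_
          rw [← comp_mul, ← comp_mul]
          exact congrArg (comp S W) (Subtype.ext (mem_centralizer_one.1 x.2.2))
        have h4 : ((⟨x, x.2.1⟩ : S.N)) ^ 4 = 1 := by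
          refine ext_comp S fun W => ?_
          rw [comp_one]
          rw [← hx W, comp, comp, map_pow]
          rfl
        simpa using congrArg Subtype.val h4
      · intro c hc
        refine mem_normalizer_iff.2 fun a => and_congr
          ⟨fun ha => S.normal.conj_mem a ha c, fun ha => ?_⟩ (mem_normalizer_iff.1 (le_normalizer hc) a)
        simpa [mul_assoc] using S.normal.conj_mem _ ha c⁻¹
    refine not_two h hQ hzN U fun c hc hcz => ?_
    have hcC : c * z = z * c := commute_of_comp S hc hcz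
    have hcQ : c ∈ Q := hDle ⟨(S.fac_stable U).2.1 hc, mem_centralizer_one.2 hcC⟩
    have hcV : u * c * u⁻¹ ∈ V.1 := hV ▸ ⟨c, hc, rfl⟩
    have hz2 := comp_z_sq h hQ hzN U
    rcases h.conj_cases hu hcQ with e | e
    · left
      have h2 := comp_other S hUV hcV
      simp only [e] at h2
      rw [comp_self S U hc] at h2
      exact h2
    · right
      have h2 := comp_other S hUV hcV
      have h3 : comp S U (⟨c, (S.fac_stable U).2.1 hc⟩ * ⟨z, hzN⟩) = 1 := by
        rw [← h2]
        exact congrArg (comp S U) (Subtype.ext e.symm)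
      rw [comp_mul, comp_self S U hc] at h3
      exact (eq_inv_of_mul_eq_one_left h3).trans (inv_eq_of_mul_eq_one_right hz2)

end Cfsg.Agent.S5426
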