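import Cfsg.Statements.S5427
import Cfsg.Agent.Lib.LargeExtra.Pair
import Cfsg.Agent.S5433

set_option autoImplicit false
open Cfsg

namespace Cfsg.Agent.S5427
open Cfsg.Agent.LargeExtra Subgroup

/-- Let z be an involution of the finite group G whose centralizer C has generalized Fitting subgroup Q, an extraspecial 2-group of width at least 2 (order 2^(2w+1), w ≥ 2). Let K be a subgroup of G such that the subgroup U generated by the K-conjugates of z is abelian and C is generated by the C-conjugates of U. Suppose that either some K-conjugate of z other than z lies in Q, or some element u of U ∩ Q outside the subgroup generated by z has z in the largest normal 2-subgroup of its centralizer. Then G is simple and Q is a large extraspecial 2-subgroup of G. -/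
theorem result {G : Type*} [Group G] [Finite G] (z : G) (hz : orderOf z = 2) (Q : Subgroup G) (hQC : Q ≤ Subgroup.centralizer ({z} : Set G)) (hF : (Cfsg.generalizedFittingSubgroup ↥(Subgroup.centralizer ({z} : Set G))).map (Subgroup.centralizer ({z} : Set G)).subtype = Q) (hQ : Cfsg.IsExtraspecial 2 ↥Q) (w : ℕ) (hw : 2 ≤ w) (hcard : Nat.card ↥Q = 2 ^ (2 * w + 1)) (K U : Subgroup G) (hU : U = Subgroup.closure {x : G | ∃ k ∈ K, x = k * z * k⁻¹}) (hUab : IsMulCommutative ↥U) (hgen : Subgroup.closure {x : G | ∃ c ∈ Subgroup.centralizer ({z} : Set G), ∃ u ∈ U, x = c * u * c⁻¹} = Subgroup.centralizer ({z} : Set G)) (h3 : (∃ k ∈ K, k * z * k⁻¹ ∈ Q ∧ k * z * k⁻¹ ≠ z) ∨ ∃ u ∈ U ⊓ Q, u ∉ Subgroup.zpowers z ∧ (∃ hz' : z ∈ Subgroup.centralizer ({u} : Set G), (⟨z, hz'⟩ : ↥(Subgroup.centralizer ({u} : Set G))) ∈ Cfsg.pCore 2 ↥(Subgroup.centralizer ({u} : Set G)))) : IsSimpleGroup G ∧ Cfsg.IsLargeExtraspecial Q := by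
  have h : XSLocal Q z := XSLocal.of_fstar hz hF hQ
  have h32 : 32 ≤ Nat.card Q := by
    rw [hcard]
    exact le_trans (by norm_num) (Nat.pow_le_pow_right two_pos (show 5 ≤ 2 * w + 1 by omega))
  have hL : IsLargeExtraspecial Q := by
    rcases h3 with ⟨k, -, hkQ, hne⟩ | ⟨u, ⟨huU, huQ⟩, huz, hzu, hcore⟩
    · exact Pair.large ⟨h, h32, hkQ, hne⟩
    · have hu2 : u * u = 1 := by
        have key : ∀ v ∈ U, v * v = 1 := by
          intro v hv
          have hv' := hv
          rw [hU] at hv
          induction hv using Subgroup.closure_induction with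
          | mem a ha =>
            obtain ⟨k, -, rfl⟩ := ha
            rw [show k * z * k⁻¹ * (k * z * k⁻¹) = k * (z * z) * k⁻¹ by group, h.sq]
            group
          | one => exact one_mul 1
          | mul a b ha hb iha ihb =>
            have hc : b * a = a * b := congrArg Subtype.val
              (hUab.is_comm.comm (⟨b, hU ▸ hb⟩ : U) ⟨a, hU ▸ ha⟩)
            rw [show a * b * (a * b) = a * (b * a) * b by group, hc,
              show a * (a * b) * b = a * a * (b * b) by group, iha (hU ▸ ha), ihb (hU ▸ hb), one_mul]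
          | inv a ha iha =>
            rw [← mul_inv_rev, iha (hU ▸ ha), inv_one]
        exact key u huU
      rw [h.mem_zpowers_iff, not_or] at huz
      exact h.large_of_core huQ hu2 huz.1 huz.2 (coreAt u) (coreAt_isPGroup u) ⟨_, hcore, rfl⟩ (coreAt_normal u)
  refine ⟨?_, hL⟩
  haveI : Nontrivial G := ⟨⟨z, 1, h.ne_one⟩⟩
  refine ⟨fun N hN => ?_⟩
  rw [or_iff_not_imp_left]
  intro hbot
  have hzN : z ∈ N := h.mem_of_normal hL le_normalizer_of_normal hbot
  have hCN : centralizer ({z} : Set G) ≤ N := by
    rw [← hgen, closure_le]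
    rintro _ ⟨c, -, u, hu, rfl⟩
    refine hN.conj_mem u ?_ c
    rw [hU] at hu
    exact (closure_le N).2 (by rintro _ ⟨k, -, rfl⟩; exact hN.conj_mem z hzN k) hu
  have hfr := Cfsg.Agent.S5433.result Q hL N (hQC.trans hCN)
  rwa [sup_eq_left.2 (h.normalizer_le.trans hCN)] at hfr

end Cfsg.Agent.S5427
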