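import Cfsg.Statements.S5428
import Cfsg.Agent.Lib.LargeExtra.Coprime

set_option autoImplicit false
open Cfsg

namespace Cfsg.Agent.S5428
open Cfsg.Agent.LargeExtra Subgroup
open scoped commutatorElement Pointwise

/-- Let z be an involution of the finite group G whose centralizer C has generalized Fitting subgroup Q extraspecial (as a 2-group), let A be a subgroup of C of odd order, and let R be the centralizer of A in Q; suppose R has order at least 32, the largest normal subgroup of odd order of the centralizer of the subgroup generated by A and R lies in A, the order of that centralizer is not divisible by 4, and g is an element of G with g z g⁻¹ in R but outside the centre Z of Q. Let M be the subgroup generated by A and the centralizer of A (A is normal in it). Then: the centralizer in M of the subgroup generated by R and A, joined with A, equals the subgroup generated by A and Z; the image of R in M/A is a large extraspecial 2-subgroup of M/A; and g z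 g⁻¹ is conjugate to z inside the subgroup generated by R and the centralizer of A in g Q g⁻¹. -/
theorem result {G : Type*} [Group G] [Finite G] (z : G) (hz : orderOf z = 2) (Q : Subgroup G) (hQC : Q ≤ Subgroup.centralizer ({z} : Set G)) (hF : (Cfsg.generalizedFittingSubgroup ↥(Subgroup.centralizer ({z} : Set G))).map (Subgroup.centralizer ({z} : Set G)).subtype = Q) (hQ : Cfsg.IsExtraspecial 2 ↥Q) (A : Subgroup G) (hA : A ≤ Subgroup.centralizer ({z} : Set G)) (hAodd : Odd (Nat.card ↥A)) (R : Subgroup G) (hR : R = Q ⊓ Subgroup.centralizer (A : Set G)) (hR32 : 32 ≤ Nat.card ↥R) (hO : (Cfsg.oddCore ↥(Subgroup.centralizer ((A ⊔ R : Subgroup G) : Set G))).map (Subgroup.centralizer ((A ⊔ R : Subgroup G) : Set G)).subtype ≤ A) (h4 : ¬ 4 ∣ Nat.card ↥(Subgroup.centralizer ((A ⊔ R : Subgroup G) : Set G))) (g : G) (hgR : g * z * g⁻¹ ∈ R) (hgZ : g * z * g⁻¹ ∉ ((Subgroup.center ↥Q).map Q.subtype)) (M : Subgroup G) (hM : M = Subgroup.centralizer (A : Set G) ⊔ A) [hn : (A.subgroupOf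 M).Normal] : (M ⊓ Subgroup.centralizer ((R ⊔ A : Subgroup G) : Set G)) ⊔ A = A ⊔ ((Subgroup.center ↥Q).map Q.subtype) ∧ Cfsg.IsLargeExtraspecial ((R.subgroupOf M).map (QuotientGroup.mk' (A.subgroupOf M))) ∧ ∃ x ∈ R ⊔ ((Q).map (MulAut.conj g).toMonoidHom ⊓ Subgroup.centralizer (A : Set G)), x * (g * z * g⁻¹) * x⁻¹ = z := by
  have h : XSLocal Q z := XSLocal.of_fstar hz hF hQ
  haveI : Fact (Nat.Prime 2) := ⟨Nat.prime_two⟩
  have hAQ : A ≤ normalizer (Q : Set G) := hA.trans h.norm
  have hzA : z ∈ centralizer (A : Set G) := h.z_mem_centralizer hAQ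
  have hzR : z ∈ R := hR ▸ ⟨h.mem, hzA⟩
  have hRQ : R ≤ Q := hR ▸ inf_le_left
  have hRA : R ≤ centralizer (A : Set G) := hR ▸ inf_le_right
  rw [h.centre, h.mem_zpowers_iff, not_or] at hgZ
  set x := g * z * g⁻¹ with hxdef
  have P : Pair Q z g := ⟨h, hR32.trans (card_le_of_le hRQ), hRQ hgR, hgZ.2⟩
  set Q' := Q.map (MulAut.conj g).toMonoidHom with hQ'
  -- R is extraspecial
  have hRxs : XSub R z := by
    rcases h.centralizer_cases hAodd hAQ with e | e
    · exfalso
      rw [hR, e, Nat.card_zpowers, h.orderOf_eq] at hR32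
      omega
    · exact hR ▸ e
  have hAR : ∀ a ∈ A, a ∈ R → a = 1 := fun a ha haR => eq_one_of_mem hAodd h.xs.1.1 ha (hRQ haR)
  set D := centralizer ((A ⊔ R : Subgroup G) : Set G) with hD
  have hDA : D ≤ centralizer (A : Set G) := centralizer_le (SetLike.coe_subset_coe.2 le_sup_left)
  have hzD : z ∈ D := by
    rw [hD, mem_centralizer_iff]
    intro u hu
    have hle : A ⊔ R ≤ centralizer ({z} : Set G) := sup_le hA fun r hr => h.le_centralizer (hRQ hr)
    exact mem_centralizer_one.1 (hle hu)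
  have hDz : ∀ d ∈ D, d * z = z * d := fun d hd =>
    (mem_centralizer_iff.1 hd z (mem_sup_right hzR)).symm
  -- the structure of D
  have hDdec : D ≤ A ⊔ zpowers z := by
    set N := zpowers (⟨z, hzD⟩ : D) with hN
    have hNn : N.Normal := ⟨fun n hn d => by
      obtain ⟨k, rfl⟩ := hn
      have hc : Commute d (⟨z, hzD⟩ : D) := Subtype.ext (hDz d d.2)
      show d * (⟨z, hzD⟩ : D) ^ k * d⁻¹ ∈ N
      rw [(hc.zpow_right k).eq, mul_inv_cancel_right]
      exact zpow_mem (mem_zpowers _) k⟩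
    have hNc : Nat.card N = 2 := by rw [hN, Nat.card_zpowers, ← orderOf_coe, h.orderOf_eq]
    have hidx : Odd N.index := by
      rw [← Nat.not_even_iff_odd]
      rintro ⟨m, hm⟩
      exact h4 ⟨m, by rw [← N.card_mul_index, hNc, hm]; ring⟩
    obtain ⟨H, hH⟩ := exists_right_complement'_of_coprime (N := N) (by
      rw [hNc]; exact Nat.coprime_two_left.2 hidx)
    have hHn : H.Normal := ⟨fun b hb d => by
      obtain ⟨⟨n, e⟩, rfl⟩ := hH.2 d
      obtain ⟨k, hk⟩ := n.2
      have hc : Commute ((e : D) * b * (e : D)⁻¹) (n : D) := by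
        rw [← hk]
        refine Commute.zpow_right (Subtype.ext ?_) k
        exact hDz _ (SetLike.coe_mem _)
      show (n : D) * e * b * ((n : D) * e)⁻¹ ∈ H
      rw [show (n : D) * e * b * ((n : D) * e)⁻¹ = (n : D) * ((e : D) * b * (e : D)⁻¹) * (n : D)⁻¹ by group, ← hc.eq,
        mul_inv_cancel_right]
      exact mul_mem (mul_mem e.2 hb) (inv_mem e.2)⟩
    have hHc : Nat.card H = N.index := by
      have := hH.card_mul
      rw [← N.card_mul_index] at this
      exact Nat.eq_of_mul_eq_mul_left Nat.card_pos this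
    have hHO : H ≤ Cfsg.oddCore ↥D := le_sSup ⟨hHn, by
      rw [hHc]; exact (Nat.coprime_two_left.2 hidx).symm⟩
    intro d hd
    obtain ⟨⟨n, e⟩, hne⟩ := hH.2 ⟨d, hd⟩
    obtain ⟨k, hk⟩ := n.2
    rw [show d = ((n : D) : G) * ((e : D) : G) from (congrArg Subtype.val hne).symm, ← hk]
    exact mul_mem (mem_sup_right (by rw [coe_zpow]; exact zpow_mem (mem_zpowers z) k))
      (mem_sup_left (hO ⟨e, hHO e.2, rfl⟩))
  have hCM : centralizer (A : Set G) ≤ M := hM ▸ le_sup_left
  have hAM : A ≤ M := hM ▸ le_sup_right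
  -- the quotient
  let π := QuotientGroup.mk' (A.subgroupOf M)
  have hker : ∀ w : M, π w = 1 ↔ (w : G) ∈ A := fun w => (QuotientGroup.eq_one_iff w).trans mem_subgroupOf
  have hCN : centralizer (A : Set G) ≤ normalizer (A : Set G) :=
    centralizer_le_normalizer _
  have hsplit : ∀ w : M, ∃ c, ∃ hc : c ∈ centralizer (A : Set G), π w = π ⟨c, hCM hc⟩ := by
    intro w
    have h1 := coe_mul_of_left_le_normalizer_right _ _ hCN
    have h2 : (w : G) ∈ (centralizer (A : Set G) : Set G) * (A : Set G) := by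
      rw [← h1, ← hM]; exact w.2
    obtain ⟨c, hc, a, ha, e⟩ := h2
    refine ⟨c, hc, ?_⟩
    symm
    rw [← inv_mul_eq_one, ← map_inv, ← map_mul, hker]
    show c⁻¹ * (w : G) ∈ A
    rw [← e, inv_mul_cancel_left]
    exact ha
  have hcomm : ∀ c r : M, π c * π r = π r * π c → (r : G) ∈ centralizer (A : Set G) → (r : G) ∈ Q →
      (c : G) * r = r * c := by
    intro c r e hrA hrQ
    obtain ⟨k, hk⟩ := h.xs.1.1 ⟨r, hrQ⟩
    refine eq_one_of_conj hAodd (k := k) (by simpa [Subtype.ext_iff] using hk) hrA ?_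
    have h1 : π (c * r * c⁻¹ * r⁻¹) = 1 := by
      rw [map_mul, map_mul, map_mul, e, map_inv, map_inv]; group
    exact (hker _).1 h1
  have hRM : R ≤ M := hRA.trans hCM
  set R' := (R.subgroupOf M).map π with hR'
  have hmemR : ∀ r, ∀ hr : r ∈ R, π ⟨r, hRM hr⟩ ∈ R' := fun r hr => mem_map_of_mem _ hr
  have hloc : XSLocal R' (π ⟨z, hRM hzR⟩) := by
    have hxs : XSub (R.subgroupOf M) (⟨z, hRM hzR⟩ : M) := by
      refine ⟨Qd.isExtraspecial_congr (subgroupOfEquivOfLe hRM) hRxs.xs, ?_⟩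
      refine le_antisymm ?_ (zpowers_le.2 ⟨⟨⟨z, hRM hzR⟩, hzR⟩, mem_center_iff.2 fun r => ?_, rfl⟩)
      · rintro _ ⟨c, hc, rfl⟩
        rcases hRxs.eq_of_central (q := ((c : M) : G)) c.2 (fun r hr => congrArg (fun w : R.subgroupOf M => ((w : M) : G))
          (mem_center_iff.1 hc ⟨⟨r, hRM hr⟩, hr⟩).symm) with e | e
        · rw [show (R.subgroupOf M).subtype c = 1 from Subtype.ext e]; exact one_mem _
        · rw [show (R.subgroupOf M).subtype c = ⟨z, hRM hzR⟩ from Subtype.ext e]; exact mem_zpowers _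
      · exact Subtype.ext (Subtype.ext (hRxs.comm r.2))
    refine ⟨hxs.map_injOn π fun r hr e => Subtype.ext (hAR _ ((hker r).1 e) hr), ?_, ?_⟩
    · intro w hw
      obtain ⟨m, rfl⟩ := QuotientGroup.mk'_surjective (A.subgroupOf M) w
      obtain ⟨c, hc, e⟩ := hsplit m
      rw [show QuotientGroup.mk' (A.subgroupOf M) m = π ⟨c, hCM hc⟩ from e] at hw ⊢
      have hcD : c ∈ D := by
        rw [hD, mem_centralizer_iff]
        have hle : A ⊔ R ≤ centralizer ({c} : Set G) :=
          sup_le (fun a ha => mem_centralizer_one.2 (mem_centralizer_iff.1 hc a ha)) fun r hr =>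
            mem_centralizer_one.2 (hcomm ⟨c, hCM hc⟩ ⟨r, hRM hr⟩
              (mem_centralizer_iff.1 hw _ (hmemR r hr)).symm (hRA hr) (hRQ hr)).symm
        exact fun u hu => mem_centralizer_one.1 (hle hu)
      have hle2 : A ⊔ zpowers z ≤ ((zpowers (π ⟨z, hRM hzR⟩)).comap π).map M.subtype :=
        sup_le (fun a ha => ⟨⟨a, hAM ha⟩, by
          show π ⟨a, hAM ha⟩ ∈ zpowers (π ⟨z, hRM hzR⟩)
          rw [(hker ⟨a, hAM ha⟩).2 ha]; exact one_mem _, rfl⟩)
          (zpowers_le.2 ⟨⟨z, hRM hzR⟩, mem_zpowers _, rfl⟩)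
      obtain ⟨c', hc', e'⟩ := hle2 (hDdec hcD)
      rwa [show c' = ⟨c, hCM hc⟩ from Subtype.ext e'] at hc'
    · intro w hw
      obtain ⟨m, rfl⟩ := QuotientGroup.mk'_surjective (A.subgroupOf M) w
      obtain ⟨c, hc, e⟩ := hsplit m
      rw [show QuotientGroup.mk' (A.subgroupOf M) m = π ⟨c, hCM hc⟩ from e] at hw ⊢
      have hcz := hcomm ⟨c, hCM hc⟩ ⟨z, hRM hzR⟩ (mem_centralizer_one.1 hw) hzA h.mem
      have hcN := h.norm (mem_centralizer_one.2 hcz)
      refine Subgroup.le_normalizer_map _ ⟨⟨c, hCM hc⟩, ?_, rfl⟩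
      refine mem_normalizer_iff.2 fun r => ?_
      simp only [mem_subgroupOf, coe_mul, coe_inv, hR, mem_inf]
      refine and_congr (mem_normalizer_iff.1 hcN _) ?_
      exact ⟨fun hr => mul_mem (mul_mem hc hr) (inv_mem hc), fun hr => by
        have h9 := mul_mem (mul_mem (inv_mem hc) hr) hc
        rwa [show c⁻¹ * (c * (r : G) * c⁻¹) * c = r by group] at h9⟩
  have hxA : x ∈ centralizer (A : Set G) := hRA hgR
  have hAQ' : A ≤ normalizer (Q' : Set G) := fun a ha =>
    P.h'.norm (mem_centralizer_one.2 (mem_centralizer_iff.1 hxA a ha))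
  have hzQ' : z ∈ Q' ⊓ centralizer (A : Set G) := ⟨P.z_mem', hzA⟩
  refine ⟨?_, ?_, ?_⟩
  · rw [h.centre, sup_comm R A]
    refine le_antisymm (sup_le (inf_le_right.trans hDdec) le_sup_left)
      (sup_le le_sup_right (zpowers_le.2 (mem_sup_left ⟨hRM hzR, hzD⟩)))
  · have hx' : π ⟨x, hRM hgR⟩ ∈ R' := hmemR x hgR
    refine hloc.large_of_core hx' ?_ ?_ ?_ (((Q' ⊓ centralizer (A : Set G)).subgroupOf M).map π) ?_
      (mem_map_of_mem π (x := ⟨z, hRM hzR⟩) hzQ') ?_
    · rw [← map_mul, hker]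
      show x * x ∈ A
      rw [P.h'.sq]; exact one_mem _
    · rw [Ne, hker]
      exact fun e => hgZ.1 (hAR x e hgR)
    · intro e
      rw [← mul_inv_eq_one, ← map_inv, ← map_mul, hker] at e
      exact hgZ.2 (mul_inv_eq_one.1 (hAR _ e (mul_mem hgR (inv_mem hzR))))
    · exact ((P.h'.xs.1.1.to_le inf_le_left).of_equiv (subgroupOfEquivOfLe (inf_le_right.trans hCM)).symm).map π
    · intro w hw
      obtain ⟨m, rfl⟩ := QuotientGroup.mk'_surjective (A.subgroupOf M) w
      obtain ⟨c, hc, e⟩ := hsplit m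
      rw [show QuotientGroup.mk' (A.subgroupOf M) m = π ⟨c, hCM hc⟩ from e] at hw ⊢
      have hcx := hcomm ⟨c, hCM hc⟩ ⟨x, hRM hgR⟩ (mem_centralizer_one.1 hw) hxA (hRQ hgR)
      have hcN := P.h'.norm (mem_centralizer_one.2 hcx)
      refine Subgroup.le_normalizer_map _ ⟨⟨c, hCM hc⟩, ?_, rfl⟩
      refine mem_normalizer_iff.2 fun r => ?_
      simp only [mem_subgroupOf, coe_mul, coe_inv, mem_inf]
      refine and_congr (mem_normalizer_iff.1 hcN _) ?_
      exact ⟨fun hr => mul_mem (mul_mem hc hr) (inv_mem hc), fun hr => by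
        have h9 := mul_mem (mul_mem (inv_mem hc) hr) hc
        rwa [show c⁻¹ * (c * (r : G) * c⁻¹) * c = r by group] at h9⟩
  · obtain ⟨q, hq, eq⟩ := hRxs.exists_conj hgR hgZ.1 hgZ.2
    obtain ⟨y, hy, ey⟩ := P.h'.exists_conj_centralizer hAodd hAQ' P.z_mem' hzA h.ne_one (Ne.symm hgZ.2)
    refine ⟨y * q, mul_mem (mem_sup_right hy) (mem_sup_left hq), ?_⟩
    have hyx : y * x * y⁻¹ = x := by rw [P.h'.comm hy.1, mul_inv_cancel_right]
    rw [show y * q * x * (y * q)⁻¹ = y * (q * x * q⁻¹) * y⁻¹ by group, eq,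
      show y * (x * z) * y⁻¹ = y * x * y⁻¹ * (y * z * y⁻¹) by group, hyx, ey, ← hxdef,
      ← mul_assoc, ← P.comm, mul_assoc, P.h'.sq, mul_one]

end Cfsg.Agent.S5428
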