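import Cfsg.Statements.S5429
import Cfsg.Agent.Lib.LargeExtra.Coprime

set_option autoImplicit false
open Cfsg

namespace Cfsg.Agent.S5429
open Cfsg.Agent.LargeExtra Subgroup
open scoped commutatorElement Pointwise

/-- Let z be an involution of the finite group G with centralizer C whose generalized Fitting subgroup Q is extraspecial of width at least 3 (order 2^(2w+1), w ≥ 3); let g be an element of G with g z g⁻¹ in Q but outside the centre Z of Q, and t an involution lying in both Q and g Q g⁻¹ that is not conjugate to z; write P for the centralizer of t in Q and suppose that the elements of C acting trivially by conjugation on P modulo the subgroup generated by t and z are exactly the elements of Q. Then the image of P in the centralizer of t modulo the subgroup generated by t is a large extraspecial 2-subgroup there, and g z g⁻¹ is conjugate to z inside the subgroup generated by P and the centralizer of t in g Q g⁻¹. -/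
theorem result {G : Type*} [Group G] [Finite G] (z : G) (hz : orderOf z = 2) (Q : Subgroup G) (hQC : Q ≤ Subgroup.centralizer ({z} : Set G)) (hF : (Cfsg.generalizedFittingSubgroup ↥(Subgroup.centralizer ({z} : Set G))).map (Subgroup.centralizer ({z} : Set G)).subtype = Q) (hQ : Cfsg.IsExtraspecial 2 ↥Q) (w : ℕ) (hw : 3 ≤ w) (hcard : Nat.card ↥Q = 2 ^ (2 * w + 1)) (g : G) (hgQ : g * z * g⁻¹ ∈ Q) (hgZ : g * z * g⁻¹ ∉ ((Subgroup.center ↥Q).map Q.subtype)) (t : G) (ht : orderOf t = 2) (htQ : t ∈ Q ⊓ (Q).map (MulAut.conj g).toMonoidHom) (htz : ¬ IsConj z t) (P : Subgroup G) (hP : P = Q ⊓ Subgroup.centralizer ({t} : Set G)) (hCP : ∀ c ∈ Subgroup.centralizer ({z} : Set G), (∀ x ∈ P, ∃ y ∈ Subgroup.closure ({t, z} : Set G), c * x * c⁻¹ = x * y) ↔ c ∈ Q) [hn : ((Subgroup.zpowers t).subgroupOf (Subgroup.centralizer ({t} : Set G))).Normal] : Cfsg.IsLargeExtraspecial ((P.subgroupOf (Subgroup.centralizer ({t} : Set G))).map (QuotientGroup.mk' ((Subgroup.zpowers t).subgroupOf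 (Subgroup.centralizer ({t} : Set G))))) ∧ ∃ x ∈ P ⊔ ((Q).map (MulAut.conj g).toMonoidHom ⊓ Subgroup.centralizer ({t} : Set G)), x * (g * z * g⁻¹) * x⁻¹ = z := by
  have h : XSLocal Q z := XSLocal.of_fstar hz hF hQ
  haveI : Fact (Nat.Prime 2) := ⟨Nat.prime_two⟩
  rw [h.centre, h.mem_zpowers_iff, not_or] at hgZ
  set x := g * z * g⁻¹ with hxdef
  have Pr : Pair Q z g := ⟨h, by
    rw [hcard]
    exact le_trans (by norm_num) (Nat.pow_le_pow_right two_pos (show 5 ≤ 2 * w + 1 by omega)), hgQ, hgZ.2⟩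
  set Q' := Q.map (MulAut.conj g).toMonoidHom with hQ'
  set C := centralizer ({t} : Set G) with hC
  obtain ⟨htQ, htQ'⟩ := htQ
  have ht2 : t * t = 1 := by rw [← pow_two, ← ht, pow_orderOf_eq_one]
  have ht1 : t ≠ 1 := fun e => by rw [e, orderOf_one] at ht; omega
  have htne : t ≠ z := fun e => htz (e ▸ IsConj.refl z)
  have hxz : IsConj z x := isConj_iff.2 ⟨g, rfl⟩
  have htx : t ≠ x := fun e => htz (e ▸ hxz)
  have htzc : t * z = z * t := h.comm htQ
  have htxc : t * x = x * t := Pr.h'.comm htQ'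
  have hzt : ¬ IsConj z (t * z) := fun e => by
    obtain ⟨q, -, eq⟩ := h.exists_conj htQ ht1 htne
    exact htz (e.trans (eq ▸ isConj_iff.2 ⟨q⁻¹, by group⟩))
  have hxt : ¬ IsConj z (t * x) := fun e => by
    obtain ⟨q, -, eq⟩ := Pr.h'.exists_conj htQ' ht1 htx
    exact htz (e.trans (eq ▸ isConj_iff.2 ⟨q⁻¹, by group⟩))
  have hT : ∀ a, a ∈ zpowers t ↔ a = 1 ∨ a = t := by
    intro a
    classical
    rw [mem_zpowers_iff_mem_range_orderOf, ht, show Finset.range 2 = {0, 1} from rfl]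
    simp [eq_comm]
  have hzP : z ∈ P := hP ▸ ⟨h.mem, mem_centralizer_one.2 htzc.symm⟩
  have hxP : x ∈ P := hP ▸ ⟨hgQ, mem_centralizer_one.2 htxc.symm⟩
  have hPQ : P ≤ Q := hP ▸ inf_le_left
  have hPC : P ≤ C := hP ▸ inf_le_right
  let π := QuotientGroup.mk' ((zpowers t).subgroupOf C)
  have hker : ∀ a : C, π a = 1 ↔ (a : G) = 1 ∨ (a : G) = t := fun a =>
    ((QuotientGroup.eq_one_iff a).trans mem_subgroupOf).trans (hT _)
  -- elements commuting with an element that is conjugate to z modulo t commute with it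
  have hlift : ∀ c v : C, π c * π v = π v * π c → IsConj z (v : G) → ¬ IsConj z (t * v) →
      (c : G) * v = v * c := by
    intro c v e hv hv'
    have h1 : π (c * v * c⁻¹ * v⁻¹) = 1 := by
      rw [map_mul, map_mul, map_mul, e, map_inv, map_inv]; group
    rcases (hker _).1 h1 with e1 | e1 <;> simp only [coe_mul, coe_inv] at e1
    · rwa [mul_inv_eq_one, mul_inv_eq_iff_eq_mul] at e1
    · refine absurd (hv.trans ?_) hv'
      rw [mul_inv_eq_iff_eq_mul] at e1
      exact isConj_iff.2 ⟨c, e1⟩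
  set P' := (P.subgroupOf C).map π with hP'
  have hzero : ∀ a b : C, (a : G) ∈ P → (b : G) ∈ P → π a * π b = π b * π a → (a : G) * b = b * a := by
    intro a b ha hb e
    have h1 : π (a * b * a⁻¹ * b⁻¹) = 1 := by
      rw [map_mul, map_mul, map_mul, e, map_inv, map_inv]; group
    rcases h.comm_cases (hPQ ha) (hPQ hb) with e1 | e1
    · exact commutatorElement_eq_one_iff_mul_comm.1 e1
    · rcases (hker _).1 h1 with e2 | e2 <;> simp only [coe_mul, coe_inv] at e2 <;>
        rw [← commutatorElement_def, e1] at e2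
      · exact absurd e2 h.ne_one
      · exact absurd e2.symm htne
  have hPeq : ∀ a, a ∈ P ↔ a ∈ Q ∧ a * t = t * a := fun a => by
    rw [hP, mem_inf, mem_centralizer_one]
  have hpcomm : ∀ a ∈ P, (∀ b ∈ P, a * b = b * a) → a = 1 ∨ a = z ∨ a = t ∨ a = z * t := fun a ha hc =>
    h.mem_pair_of_commute htQ ht2 (hPQ ha) fun p hp hpt => (hc p ((hPeq p).2 ⟨hp, hpt⟩)).symm
  have hzC : z ∈ C := hPC hzP
  set ζ := π ⟨z, hzC⟩ with hζ
  have hζ2 : ζ * ζ = 1 := by
    rw [hζ, ← map_mul, hker]; exact Or.inl h.sq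
  have hζ1 : ζ ≠ 1 := by
    rw [hζ, Ne, hker]
    rintro (e | e)
    exacts [h.ne_one e, htne e.symm]
  have hclass : ∀ a : C, ((a : G) = 1 ∨ (a : G) = z ∨ (a : G) = t ∨ (a : G) = z * t) → π a ∈ zpowers ζ := by
    rintro a (e | e | e | e)
    · rw [(hker a).2 (Or.inl e)]; exact one_mem _
    · rw [show a = ⟨z, hzC⟩ from Subtype.ext e]; exact mem_zpowers _
    · rw [(hker a).2 (Or.inr e)]; exact one_mem _
    · have htC : t ∈ C := mem_centralizer_one.2 rfl
      rw [show a = (⟨z, hzC⟩ : C) * ⟨t, htC⟩ from Subtype.ext e, map_mul, (hker ⟨t, htC⟩).2 (Or.inr rfl), mul_one]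
      exact mem_zpowers _
  have hloc : XSLocal P' ζ := by
    have hζP : ζ ∈ P' := mem_map_of_mem π (x := ⟨z, hzC⟩) hzP
    have hord : orderOf ζ = 2 := orderOf_eq_prime (by rw [pow_two, hζ2]) hζ1
    refine XSLocal.of_core hord ?_ hζP ?_ ?_ ?_
    · refine isExtraspecial_of (((h.xs.1.1.to_le hPQ).of_equiv (subgroupOfEquivOfLe hPC).symm).map π)
        (z := ⟨ζ, hζP⟩) (by rw [← orderOf_coe, hord]) ?_ ?_ ?_ ?_
      · rintro ⟨_, ⟨a, ha, rfl⟩⟩
        constructor
        · intro hc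
          have hmem := hclass a (hpcomm a ha fun b hb => hzero a ⟨b, hPC hb⟩ ha hb
            (congrArg Subtype.val (hc ⟨_, mem_map_of_mem π (x := ⟨b, hPC hb⟩) hb⟩)))
          obtain ⟨k, hk⟩ := hmem
          exact ⟨k, Subtype.ext (by simpa using hk)⟩
        · rintro ⟨k, hk⟩ ⟨_, ⟨b, hb, rfl⟩⟩
          rw [← hk]
          have hc : Commute (⟨ζ, hζP⟩ : P') ⟨π b, ⟨b, hb, rfl⟩⟩ := Subtype.ext (by
            show ζ * π b = π b * ζ
            rw [hζ, ← map_mul, ← map_mul]
            exact congrArg π (Subtype.ext (h.comm (hPQ hb)).symm))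
          exact (hc.zpow_left k).eq
      · rintro ⟨_, ⟨a, ha, rfl⟩⟩ ⟨_, ⟨b, hb, rfl⟩⟩
        have h2 : π ⁅a, b⁆ ∈ zpowers ζ := hclass _ (by
          rcases h.comm_cases (hPQ ha) (hPQ hb) with e | e
          exacts [Or.inl (by simpa [commutatorElement_def] using e), Or.inr (Or.inl (by simpa [commutatorElement_def] using e))])
        obtain ⟨k, hk⟩ := h2
        exact ⟨k, Subtype.ext (by simpa [commutatorElement_def] using hk)⟩
      · rintro ⟨_, ⟨a, ha, rfl⟩⟩
        have h2 : π (a * a) ∈ zpowers ζ := hclass _ (by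
          rcases h.sq_cases (hPQ ha) with e | e
          exacts [Or.inl e, Or.inr (Or.inl e)])
        obtain ⟨k, hk⟩ := h2
        exact ⟨k, Subtype.ext (by simpa [pow_two] using hk)⟩
      · obtain ⟨a, ha, b, hb, hat, hbt, hab⟩ := h.exists_noncomm Pr.card htQ
        have ha' := (hPeq a).2 ⟨ha, hat⟩
        have hb' := (hPeq b).2 ⟨hb, hbt⟩
        refine ⟨⟨_, mem_map_of_mem π (x := ⟨a, hPC ha'⟩) ha'⟩, ⟨_, mem_map_of_mem π (x := ⟨b, hPC hb'⟩) hb'⟩,
          fun e => h.ne_mul_z b ?_⟩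
        have e2 : a * b = b * a :=
          hzero ⟨a, hPC ha'⟩ ⟨b, hPC hb'⟩ ha' hb' (congrArg Subtype.val e)
        rwa [XSub.conj_eq_self_iff.2 e2] at hab
    · rintro _ ⟨a, ha, rfl⟩
      refine mem_centralizer_one.2 ?_
      rw [hζ, ← map_mul, ← map_mul]
      exact congrArg π (Subtype.ext (h.comm (hPQ ha)))
    · intro v hv
      obtain ⟨c, rfl⟩ := QuotientGroup.mk'_surjective _ v
      have hcz := hlift c ⟨z, hzC⟩ (mem_centralizer_iff.1 hv _ (mem_map_of_mem π (x := ⟨z, hzC⟩) hzP)).symm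
        (IsConj.refl z) hzt
      have hcP : (c : G) ∈ P := by
        refine (hPeq _).2 ⟨(hCP c (mem_centralizer_one.2 hcz)).1 fun p hp => ?_, mem_centralizer_one.1 c.2⟩
        have h2 := mem_centralizer_iff.1 hv _ (mem_map_of_mem π (x := ⟨p, hPC hp⟩) hp)
        have h3 : π (⟨p, hPC hp⟩⁻¹ * (c * ⟨p, hPC hp⟩ * c⁻¹)) = 1 := by
          rw [map_mul, map_mul, map_mul, map_inv, map_inv,
            show QuotientGroup.mk' ((zpowers t).subgroupOf C) c = π c from rfl] at *
          rw [← h2]; group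
        refine ⟨p⁻¹ * ((c : G) * p * (c : G)⁻¹), ?_, (mul_inv_cancel_left p _).symm⟩
        rcases (hker _).1 h3 with e | e <;> simp only [coe_mul, coe_inv] at e <;> rw [e]
        exacts [one_mem _, subset_closure (by simp)]
      exact ⟨c, hcP, rfl⟩
    · intro v hv
      obtain ⟨c, rfl⟩ := QuotientGroup.mk'_surjective _ v
      have hcz := hlift c ⟨z, hzC⟩ (mem_centralizer_one.1 hv) (IsConj.refl z) hzt
      have hcN := h.norm (mem_centralizer_one.2 hcz)
      refine Subgroup.le_normalizer_map _ ⟨c, ?_, rfl⟩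
      refine mem_normalizer_iff.2 fun r => ?_
      simp only [mem_subgroupOf, coe_mul, coe_inv, hP, mem_inf]
      exact and_congr (mem_normalizer_iff.1 hcN _) ⟨fun _ => (c * r * c⁻¹).2, fun _ => r.2⟩
  refine ⟨?_, ?_⟩
  · have hxC : x ∈ C := hPC hxP
    have hzQ' : z ∈ Q' ⊓ C := ⟨Pr.z_mem', hzC⟩
    refine hloc.large_of_core (b := π ⟨x, hxC⟩) (mem_map_of_mem π (x := ⟨x, hxC⟩) hxP) ?_ ?_ ?_
      (((Q' ⊓ C).subgroupOf C).map π)
      (((Pr.h'.xs.1.1.to_le inf_le_left).of_equiv (subgroupOfEquivOfLe inf_le_right).symm).map π)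
      (mem_map_of_mem π (x := ⟨z, hzC⟩) hzQ') ?_
    · rw [← map_mul, hker]; exact Or.inl Pr.h'.sq
    · rw [Ne, hker]
      rintro (e | e)
      exacts [hgZ.1 e, htx e.symm]
    · rw [hζ, Ne, ← mul_inv_eq_one, ← map_inv, ← map_mul, hker]
      rintro (e | e)
      · exact hgZ.2 (mul_inv_eq_one.1 e)
      · refine hzt (hxz.trans ?_)
        rw [show t * z = x from (mul_inv_eq_iff_eq_mul.1 e).symm]
    · intro v hv
      obtain ⟨c, rfl⟩ := QuotientGroup.mk'_surjective _ v
      have hcx := hlift c ⟨x, hxC⟩ (mem_centralizer_one.1 hv) hxz hxt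
      have hcN := Pr.h'.norm (mem_centralizer_one.2 hcx)
      refine Subgroup.le_normalizer_map _ ⟨c, ?_, rfl⟩
      refine mem_normalizer_iff.2 fun r => ?_
      simp only [mem_subgroupOf, coe_mul, coe_inv, mem_inf]
      exact and_congr (mem_normalizer_iff.1 hcN _) ⟨fun _ => (c * r * c⁻¹).2, fun _ => r.2⟩
  · obtain ⟨q, hq, hqc, eq⟩ := h.exists_conj_mul (H := closure ({z, t} : Set G)) (subset_closure (by simp))
      ((closure_le _).2 (by rintro a (rfl | rfl); exacts [h.mem, htQ])) hgQ (fun hh => by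
        rcases (mem_closure_pair h.sq ht2 htzc.symm).1 hh with e | e | e | e
        exacts [hgZ.1 e, hgZ.2 e, htx e.symm, hzt (htzc ▸ e ▸ hxz)])
    obtain ⟨y, hy, hyc, ey⟩ := Pr.h'.exists_conj_mul (H := closure ({x, t} : Set G)) (subset_closure (Or.inl rfl))
      ((closure_le _).2 (by rintro a (rfl | rfl); exacts [Pr.h'.mem, htQ'])) Pr.z_mem' (fun hh => by
        rcases (mem_closure_pair Pr.h'.sq ht2 htxc.symm).1 hh with e | e | e | e
        exacts [h.ne_one e, hgZ.2 e.symm, htne e.symm, hxt (htxc ▸ e ▸ IsConj.refl z)])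
    refine ⟨y * q, mul_mem (mem_sup_right ⟨hy, mem_centralizer_one.2 (hyc t (subset_closure (by simp)))⟩)
      (mem_sup_left ((hPeq q).2 ⟨hq, hqc t (subset_closure (by simp))⟩)), ?_⟩
    have hyx : y * x * y⁻¹ = x := by rw [Pr.h'.comm hy, mul_inv_cancel_right]
    rw [show y * q * x * (y * q)⁻¹ = y * (q * x * q⁻¹) * y⁻¹ by group, eq,
      show y * (x * z) * y⁻¹ = y * x * y⁻¹ * (y * z * y⁻¹) by group, hyx, ey, ← hxdef,
      ← mul_assoc, ← Pr.comm, mul_assoc, Pr.h'.sq, mul_one]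

end Cfsg.Agent.S5429
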