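import Cfsg.Statements.S5430
import Cfsg.Agent.Lib.LargeExtra.Radical

set_option autoImplicit false
open Cfsg

namespace Cfsg.Agent.S5430
open Cfsg.Agent.LargeExtra Subgroup
open scoped commutatorElement

/-- Let Q be a large extraspecial 2-subgroup of the finite group G (extraspecial; centralizer equal to its centre; normal in the centralizer of its centre; normalizing no non-trivial subgroup of odd order) with centre generated by z, an involution, of width w ≥ 2 (order 2^(2w+1)); let g be an element outside the centralizer H of z with g z g⁻¹ in Q; write V for the subgroup generated by z and g z g⁻¹, X for the subgroup generated by Q and g Q g⁻¹, R for the subgroup generated by the centralizer of z in g Q g⁻¹ and the centralizer of g z g⁻¹ in Q, and E for the intersection of Q and g Q g⁻¹. Then R is the centralizer of V in X and is the largest normal 2-subgroup of X, and X/R is isomorphic to the symmetric group of degree 3; moreover the normalizer of V is the product of X and the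 centralizer of V in H, X is normal in it, and modulo R it is the direct product of X/R and of the centralizer of V in H modulo R. -/
theorem result {G : Type*} [Group G] [Finite G] (Q : Subgroup G) (hQ : Cfsg.IsLargeExtraspecial Q) (z : G) (hz : ((Subgroup.center ↥Q).map Q.subtype) = Subgroup.zpowers z) (hz2 : orderOf z = 2) (w : ℕ) (hw : 2 ≤ w) (hcard : Nat.card ↥Q = 2 ^ (2 * w + 1)) (g : G) (hgH : g ∉ Subgroup.centralizer ({z} : Set G)) (hgQ : g * z * g⁻¹ ∈ Q) (V X R E : Subgroup G) (hV : V = Subgroup.closure ({z, g * z * g⁻¹} : Set G)) (hX : X = Q ⊔ (Q).map (MulAut.conj g).toMonoidHom) (hR : R = ((Q).map (MulAut.conj g).toMonoidHom ⊓ Subgroup.centralizer ({z} : Set G)) ⊔ (Q ⊓ Subgroup.centralizer ({g * z * g⁻¹} : Set G))) (hE : E = Q ⊓ (Q).map (MulAut.conj g).toMonoidHom) : R = X ⊓ Subgroup.centralizer (V : Set G) ∧ R = (Cfsg.pCore 2 ↥X).map X.subtype ∧ (∃ h : (R.subgroupOf X).Normal, Nonempty (↥X ⧸ R.subgroupOf X ≃* Equiv.Perm (Fin 3))) ∧ Subgroup.normalizer (V : Set G) = X ⊔ (Subgroup.centralizer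 ({z} : Set G) ⊓ Subgroup.centralizer (V : Set G)) ∧ (∀ y ∈ Subgroup.normalizer (V : Set G), ∀ x ∈ X, y * x * y⁻¹ ∈ X) ∧ R ≤ Subgroup.centralizer ({z} : Set G) ⊓ Subgroup.centralizer (V : Set G) ∧ (∀ x ∈ X, ∀ c ∈ Subgroup.centralizer ({z} : Set G) ⊓ Subgroup.centralizer (V : Set G), x * c * x⁻¹ * c⁻¹ ∈ R) ∧ X ⊓ (Subgroup.centralizer ({z} : Set G) ⊓ Subgroup.centralizer (V : Set G)) = R := by
  have hh : XSLocal Q z := XSLocal.of_large hQ hz
  have P : Pair Q z g := ⟨hh, by
    rw [hcard]
    exact le_trans (by norm_num) (Nat.pow_le_pow_right two_pos (show 5 ≤ 2 * w + 1 by omega)), hgQ,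
    fun e => hgH (mem_centralizer_one.2 (mul_inv_eq_iff_eq_mul.1 e))⟩
  have O := P.orth
  set C := centralizer ({z} : Set G) with hC
  set Q' := Q.map (MulAut.conj g).toMonoidHom with hQ'
  have hCV : centralizer (V : Set G) ≤ centralizer ({z} : Set G) := fun c hc =>
    mem_centralizer_one.2 (mem_centralizer_iff.1 hc z (hV ▸ subset_closure (by simp))).symm
  have hinf : C ⊓ centralizer (V : Set G) = centralizer (V : Set G) := inf_eq_right.2 hCV
  rw [hinf]
  have hRX : R = X ⊓ centralizer (V : Set G) := by rw [hR, hX, hV]; exact P.rad_eq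
  have hRle : R ≤ X := hRX ▸ inf_le_left
  have hXN : X ≤ normalizer (V : Set G) := by rw [hX, hV]; exact P.join_le_normalizer
  have hRR : R = rad Q z Q' (g * z * g⁻¹) := hR
  have hRn : (R.subgroupOf X).Normal := normal_subgroupOf_of_le_normalizer (by
    rw [hX, hRR]; exact sup_le O.left_le_normalizer_rad O.right_le_normalizer_rad)
  have hXN' : X ≤ normalizer (four z g : Set G) := by rw [hX]; exact P.join_le_normalizer
  let f : ↥X →* Equiv.Perm (Fin 3) := P.perm.comp (inclusion hXN')
  have hfs : Function.Surjective f := fun p => by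
    obtain ⟨a, ha, e⟩ := P.perm_surjective hX.ge p
    exact ⟨⟨a, ha⟩, e⟩
  have hfk : f.ker = R.subgroupOf X := by
    ext a
    rw [MonoidHom.mem_ker, mem_subgroupOf, hRX, mem_inf, hV, show f a = P.perm (inclusion hXN' a) from rfl,
      P.perm_eq_one_iff]
    exact ⟨fun h => ⟨a.2, h⟩, fun h => h.2⟩
  have hnorm : ∀ y ∈ normalizer (V : Set G), ∀ x ∈ X, y * x * y⁻¹ ∈ X := by
    intro y hy x hx
    rw [hV] at hy
    obtain ⟨a, ha, e⟩ := P.perm_surjective hX.ge (P.perm ⟨y, hy⟩)
    rw [P.perm_eq_iff] at e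
    -- y and a agree on V, so conjugate Q and Q' alike
    have e1 : y * z * y⁻¹ = (a : G) * z * (a : G)⁻¹ := (e z (subset_closure (by simp))).symm
    have e2 : y * g * z * (y * g)⁻¹ = (a : G) * g * z * ((a : G) * g)⁻¹ := by
      have := e (g * z * g⁻¹) (subset_closure (by simp))
      rw [show y * g * z * (y * g)⁻¹ = y * (g * z * g⁻¹) * y⁻¹ by group,
        show (a : G) * g * z * ((a : G) * g)⁻¹ = (a : G) * (g * z * g⁻¹) * (a : G)⁻¹ by group]
      exact this.symm
    have hXy : X.map (MulAut.conj y).toMonoidHom ≤ X := by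
      conv_lhs => rw [hX]
      rw [Subgroup.map_sup, hQ', Subgroup.map_map]
      refine sup_le ?_ ?_
      · rw [hh.map_conj_eq e1]
        rintro _ ⟨q, hq, rfl⟩
        exact mul_mem (mul_mem ha (hX.ge (mem_sup_left hq))) (inv_mem ha)
      · rw [show (MulAut.conj y).toMonoidHom.comp (MulAut.conj g).toMonoidHom =
          (MulAut.conj (y * g)).toMonoidHom from by ext; simp [mul_assoc], hh.map_conj_eq e2]
        rintro _ ⟨q, hq, rfl⟩
        show (a : G) * g * q * ((a : G) * g)⁻¹ ∈ X
        rw [show (a : G) * g * q * ((a : G) * g)⁻¹ = (a : G) * (g * q * g⁻¹) * (a : G)⁻¹ by group]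
        exact mul_mem (mul_mem ha (hX.ge (mem_sup_right (conj_mem_conjMap hq)))) (inv_mem ha)
    exact hXy ⟨x, hx, rfl⟩
  have hCVN : centralizer (V : Set G) ≤ normalizer (V : Set G) := fun c hc => mem_normalizer_iff.2 fun v => by
    constructor
    · intro hv
      rw [← mem_centralizer_iff.1 hc v hv, mul_inv_cancel_right]
      exact hv
    · intro hv
      have h1 := mem_centralizer_iff.1 hc _ hv
      have h2 : v = c * v * c⁻¹ := by
        calc v = c⁻¹ * (c * v * c⁻¹ * c) := by group
          _ = c * v * c⁻¹ := by rw [h1, inv_mul_cancel_left]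
      rw [h2]; exact hv
  refine ⟨hRX, ?_, ⟨hRn, ⟨(QuotientGroup.quotientMulEquivOfEq hfk.symm).trans
    (QuotientGroup.quotientKerEquivOfSurjective f hfs)⟩⟩, ?_, hnorm, hRX ▸ inf_le_right, ?_, hRX.symm⟩
  · haveI : Fact (Nat.Prime 2) := ⟨Nat.prime_two⟩
    have h1 : Cfsg.pCore 2 ↥X = R.subgroupOf X := by
      refine le_antisymm ?_ (le_sSup ⟨hRn, (hRR ▸ O.rad_isPGroup : IsPGroup 2 R).of_equiv
        (subgroupOfEquivOfLe hRle).symm⟩)
      rw [← hfk, ← Subgroup.map_eq_bot_iff]
      exact perm_three_core ((FiniteGroup.pCore_normal 2).map f hfs) ((FiniteGroup.pCore_isPGroup 2).map f)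
    rw [h1, map_subgroupOf_eq_of_le hRle]
  · refine le_antisymm (fun n hn => ?_) (sup_le hXN hCVN)
    rw [hV] at hn
    obtain ⟨a, ha, e⟩ := P.perm_surjective hX.ge (P.perm ⟨n, hn⟩)
    have h1 : P.perm (a⁻¹ * ⟨n, hn⟩) = 1 := by rw [map_mul, map_inv, e, inv_mul_cancel]
    rw [P.perm_eq_one_iff] at h1
    rw [show n = (a : G) * ((a : G)⁻¹ * n) by group]
    exact mul_mem_sup ha (hV ▸ h1)
  · intro x hx c hc
    rw [hRX]
    refine ⟨?_, ?_⟩
    · rw [show x * c * x⁻¹ * c⁻¹ = x * (c * x⁻¹ * c⁻¹) by group]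
      exact mul_mem hx (hnorm c (hCVN hc) _ (inv_mem hx))
    · show x * c * x⁻¹ * c⁻¹ ∈ centralizer (V : Set G)
      refine mul_mem ?_ (inv_mem hc)
      refine mem_centralizer_iff.2 fun v hv => ?_
      have hv' : x⁻¹ * v * x ∈ V := by simpa using conj_mem (inv_mem (hXN hx)) hv
      have h1 := mem_centralizer_iff.1 hc _ hv'
      calc v * (x * c * x⁻¹) = x * (x⁻¹ * v * x * c) * x⁻¹ := by group
        _ = x * (c * (x⁻¹ * v * x)) * x⁻¹ := by rw [h1]
        _ = x * c * x⁻¹ * v := by group

end Cfsg.Agent.S5430
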