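import Cfsg.Statements.S5431
import Cfsg.Agent.Lib.LargeExtra.Radical

set_option autoImplicit false
open Cfsg

namespace Cfsg.Agent.S5431
open Cfsg.Agent.LargeExtra Subgroup
open scoped commutatorElement

/-- Let Q be a large extraspecial 2-subgroup of the finite group G (extraspecial; centralizer equal to its centre; normal in the centralizer of its centre; normalizing no non-trivial subgroup of odd order) with centre generated by z, an involution, of width w ≥ 2 (order 2^(2w+1)); let g be an element outside the centralizer H of z with g z g⁻¹ in Q; write V for the subgroup generated by z and g z g⁻¹, X for the subgroup generated by Q and g Q g⁻¹, R for the subgroup generated by the centralizer of z in g Q g⁻¹ and the centralizer of g z g⁻¹ in Q, and E for the intersection of Q and g Q g⁻¹. Then V is the centre of R, E lies in the second centre of R, R is nilpotent of class at most 3, E and R/E are elementary abelian, R/E is the direct product of the images of the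 centralizer of g z g⁻¹ in Q and of the centralizer of z in g Q g⁻¹ (R is their product and they meet in E), and the commutator subgroup of X and E lies in V. -/
theorem result {G : Type*} [Group G] [Finite G] (Q : Subgroup G) (hQ : Cfsg.IsLargeExtraspecial Q) (z : G) (hz : ((Subgroup.center ↥Q).map Q.subtype) = Subgroup.zpowers z) (hz2 : orderOf z = 2) (w : ℕ) (hw : 2 ≤ w) (hcard : Nat.card ↥Q = 2 ^ (2 * w + 1)) (g : G) (hgH : g ∉ Subgroup.centralizer ({z} : Set G)) (hgQ : g * z * g⁻¹ ∈ Q) (V X R E : Subgroup G) (hV : V = Subgroup.closure ({z, g * z * g⁻¹} : Set G)) (hX : X = Q ⊔ (Q).map (MulAut.conj g).toMonoidHom) (hR : R = ((Q).map (MulAut.conj g).toMonoidHom ⊓ Subgroup.centralizer ({z} : Set G)) ⊔ (Q ⊓ Subgroup.centralizer ({g * z * g⁻¹} : Set G))) (hE : E = Q ⊓ (Q).map (MulAut.conj g).toMonoidHom) : (Subgroup.center ↥R).map R.subtype = V ∧ E ≤ (Subgroup.upperCentralSeries ↥R 2).map R.subtype ∧ Subgroup.upperCentralSeries ↥R 3 = ⊤ ∧ Cfsg.IsElementaryAbelian 2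 E ∧ (∀ x ∈ R, ∀ y ∈ R, x * y * x⁻¹ * y⁻¹ ∈ E ∧ x ^ 2 ∈ E) ∧ ((Q).map (MulAut.conj g).toMonoidHom ⊓ Subgroup.centralizer ({z} : Set G)) ⊓ (Q ⊓ Subgroup.centralizer ({g * z * g⁻¹} : Set G)) = E ∧ ⁅X, E⁆ ≤ V := by
  have hh : XSLocal Q z := XSLocal.of_large hQ hz
  have P : Pair Q z g := ⟨hh, by
    rw [hcard]
    exact le_trans (by norm_num) (Nat.pow_le_pow_right two_pos (show 5 ≤ 2 * w + 1 by omega)), hgQ,
    fun e => hgH (mem_centralizer_one.2 (mul_inv_eq_iff_eq_mul.1 e))⟩
  have O := P.orth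
  set Q' := Q.map (MulAut.conj g).toMonoidHom with hQ'
  have hRR : R = rad Q z Q' (g * z * g⁻¹) := hR
  have hVE : V ≤ E := by rw [hV, hE]; exact P.four_le
  have hER : E ≤ R := by rw [hE, hRR]; exact O.inf_le_rad
  have hVR : ∀ v ∈ V, ∀ r ∈ R, r * v = v * r := by
    intro v hv r hr
    rw [hV] at hv
    exact (mem_centralizer_iff.1 (P.rad_le_four_centralizer (hRR ▸ hr)) v hv).symm
  have hZ : ∀ c : ↥R, c ∈ center ↥R ↔ (c : G) ∈ V := by
    intro c
    constructor
    · intro hc
      have hcz : (c : G) * z = z * (c : G) :=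
        mem_centralizer_one.1 (O.rad_le_centralizer (hRR ▸ c.2)).1
      have h1 := O.centralizer_left hcz fun p hp hpx => congrArg Subtype.val (mem_center_iff.1 hc
        ⟨p, hRR ▸ mem_sup_right ⟨hp, mem_centralizer_one.2 hpx⟩⟩)
      rw [hV]
      exact P.mem_four.2 h1
    · exact fun hc => mem_center_iff.2 fun r => Subtype.ext (hVR _ hc r r.2)
  have hEX : ∀ x ∈ X, ∀ e ∈ E, ⁅x, e⁆ ∈ V := by
    let K : Subgroup G :=
      { carrier := {x | x ∈ normalizer (V : Set G) ∧ ∀ e ∈ E, ⁅x, e⁆ ∈ V}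
        one_mem' := ⟨one_mem _, fun e _ => by simp⟩
        mul_mem' := fun {a b} ha hb => ⟨mul_mem ha.1 hb.1, fun e he => by
          rw [show ⁅a * b, e⁆ = a * ⁅b, e⁆ * a⁻¹ * ⁅a, e⁆ by simp only [commutatorElement_def]; group]
          exact mul_mem (conj_mem ha.1 (hb.2 e he)) (ha.2 e he)⟩
        inv_mem' := fun {a} ha => ⟨inv_mem ha.1, fun e he => by
          rw [show ⁅a⁻¹, e⁆ = a⁻¹ * ⁅a, e⁆⁻¹ * a⁻¹⁻¹ by simp only [commutatorElement_def]; group]
          exact conj_mem (inv_mem ha.1) (inv_mem (ha.2 e he))⟩ }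
    have hle : X ≤ K := by
      rw [hX]
      refine sup_le (fun q hq => ⟨hV ▸ P.le_normalizer_left hq, fun e he => ?_⟩)
        (fun q hq => ⟨hV ▸ P.le_normalizer_right hq, fun e he => ?_⟩) <;> rw [hE] at he <;> rw [hV]
      · rcases hh.comm_cases hq he.1 with e1 | e1 <;> rw [e1]
        exacts [one_mem _, subset_closure (by simp)]
      · rcases P.h'.comm_cases hq he.2 with e1 | e1 <;> rw [e1]
        exacts [one_mem _, subset_closure (by simp)]
    exact fun x hx => (hle hx).2
  have hRX : R ≤ X := by rw [hRR, hX]; exact sup_le (inf_le_left.trans le_sup_right) (inf_le_left.trans le_sup_left)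
  have hu1 : ∀ c : ↥R, c ∈ Subgroup.upperCentralSeries ↥R 1 ↔ (c : G) ∈ V := fun c => by
    rw [Subgroup.upperCentralSeries_one, hZ]
  have hu2 : ∀ e : ↥R, (e : G) ∈ E → e ∈ Subgroup.upperCentralSeries ↥R 2 := by
    intro e he
    refine Subgroup.mem_upperCentralSeries_succ_iff.2 fun r => (hu1 _).2 ?_
    have := inv_mem (hEX r (hRX r.2) e he)
    rw [commutatorElement_inv] at this
    exact this
  have hcomm : ∀ x ∈ R, ∀ y ∈ R, x * y * x⁻¹ * y⁻¹ ∈ E ∧ x ^ 2 ∈ E := fun x hx y hy => by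
    rw [hE]; exact O.rad_comm (hRR ▸ hx) (hRR ▸ hy)
  refine ⟨?_, fun e he => ⟨⟨e, hER he⟩, hu2 _ he, rfl⟩, ?_, ?_, hcomm, by rw [hE]; exact O.inter_eq, ?_⟩
  · ext v
    refine ⟨fun ⟨c, hc, e⟩ => e ▸ (hZ c).1 hc, fun hv => ⟨⟨v, hER (hVE hv)⟩, (hZ _).2 hv, rfl⟩⟩
  · refine eq_top_iff.2 fun r _ => Subgroup.mem_upperCentralSeries_succ_iff.2 fun s => hu2 _ ?_
    exact (hcomm r r.2 s s.2).1
  · rw [hE]; exact O.elementary
  · rw [commutator_le]
    exact fun x hx e he => hEX x hx e he

end Cfsg.Agent.S5431
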