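import Cfsg.Statements.S5434
import Cfsg.Agent.Lib.LargeExtra.Coprime

set_option autoImplicit false
open Cfsg

namespace Cfsg.Agent.S5434
open Cfsg.Agent.LargeExtra Subgroup
open scoped commutatorElement Pointwise

/-- Let Q be a large extraspecial 2-subgroup of the finite group G (extraspecial; centralizer equal to its centre; normal in the centralizer of its centre; normalizing no non-trivial subgroup of odd order), and A a non-trivial subgroup of odd order of the normalizer of Q. Then Q is the central product of the centralizer of A in Q and the commutator subgroup [Q, A] (they generate Q and commute elementwise), [Q, A] is extraspecial, and the centralizer of A in Q is either the centre of Q or extraspecial. -/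
theorem result {G : Type*} [Group G] [Finite G] (Q : Subgroup G) (hQ : Cfsg.IsLargeExtraspecial Q) (A : Subgroup G) (hA : A ≤ Subgroup.normalizer (Q : Set G)) (hAodd : Odd (Nat.card ↥A)) (hA1 : A ≠ ⊥) : (Q ⊓ Subgroup.centralizer (A : Set G)) ⊔ ⁅Q, A⁆ = Q ∧ (∀ x ∈ Q ⊓ Subgroup.centralizer (A : Set G), ∀ y ∈ ⁅Q, A⁆, x * y = y * x) ∧ Cfsg.IsExtraspecial 2 ↥⁅Q, A⁆ ∧ (Q ⊓ Subgroup.centralizer (A : Set G) = ((Subgroup.center ↥Q).map Q.subtype) ∨ Cfsg.IsExtraspecial 2 ↥(Q ⊓ Subgroup.centralizer (A : Set G))) := by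
  obtain ⟨z, h⟩ := exists_xsLocal hQ.1 hQ.2.1 hQ.2.2.1
  have hd := h.decomp hAodd hA
  have hcomm : ∀ x ∈ Q ⊓ centralizer (A : Set G), ∀ y ∈ ⁅Q, A⁆, x * y = y * x :=
    fun x hx y hy => (h.conj_commutator hA hx.1 hx.2 hy).symm
  have hWQ : ⁅Q, A⁆ ≤ Q := CoprimeAct.commutator_le_left hA
  -- the centre of the commutator part
  have hcen : ∀ w ∈ ⁅Q, A⁆, (∀ v ∈ ⁅Q, A⁆, w * v = v * w) → w = 1 ∨ w = z := by
    intro w hw hc
    have hle : Q ≤ centralizer ({w} : Set G) := by
      conv_lhs => rw [← hd]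
      exact sup_le (fun u hu => mem_centralizer_one.2 (hcomm u hu w hw))
        (fun v hv => mem_centralizer_one.2 (hc v hv).symm)
    exact h.eq_of_central (hWQ hw) fun r hr => (mem_centralizer_one.1 (hle hr)).symm
  have hne : ∃ a ∈ ⁅Q, A⁆, ∃ b ∈ ⁅Q, A⁆, a * b ≠ b * a := by
    by_contra hcon
    push Not at hcon
    have hle : ⁅Q, A⁆ ≤ zpowers z := fun w hw => h.mem_zpowers_iff.2 (hcen w hw fun v hv => hcon w hw v hv)
    haveI : Fact (Nat.Prime 2) := ⟨Nat.prime_two⟩
    obtain ⟨k, hk⟩ := hQ.1.1.1.exists_card_eq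
    have hcop : (Nat.card A).Coprime (Nat.card Q) := by
      rw [hk]; exact ((Nat.coprime_two_left.2 hAodd).symm).pow_right k
    haveI := hQ.1.1.1.isNilpotent
    have hbot : ⁅Q, A⁆ = ⊥ := by
      rw [← CoprimeAct.commutator_commutator hA hcop (Or.inr inferInstance), eq_bot_iff, commutator_le]
      intro w hw a ha
      rw [mem_bot, commutatorElement_eq_one_iff_mul_comm]
      rcases h.mem_zpowers_iff.1 (hle hw) with rfl | rfl
      · group
      · exact (mul_inv_eq_iff_eq_mul.1 (h.conj_fix_z (hA ha))).symm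
    refine hA1 ((eq_bot_iff_forall A).2 fun a ha => ?_)
    have haC : a ∈ centralizer (Q : Set G) := fun q hq => by
      have : ⁅q, a⁆ ∈ (⊥ : Subgroup G) := hbot ▸ commutator_mem_commutator hq ha
      exact commutatorElement_eq_one_iff_mul_comm.1 this
    refine eq_one_of_sq hAodd ha ?_
    rcases h.mem_zpowers_iff.1 (h.cent haC) with e | e <;> rw [e]
    exacts [one_mul 1, h.sq]
  have hzW : z ∈ ⁅Q, A⁆ := by
    obtain ⟨a, ha, b, hb, hab⟩ := hne
    rcases h.comm_cases (hWQ ha) (hWQ hb) with e | e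
    · exact absurd (commutatorElement_eq_one_iff_mul_comm.1 e) hab
    · rw [← e, commutatorElement_def]
      exact mul_mem (mul_mem (mul_mem ha hb) (inv_mem ha)) (inv_mem hb)
  refine ⟨hd, hcomm, (h.sub hWQ hzW hcen hne).xs, ?_⟩
  rcases h.centralizer_cases hAodd hA with e | e
  · exact Or.inl (e.trans h.centre.symm)
  · exact Or.inr e.xs

end Cfsg.Agent.S5434
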