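import Cfsg.Statements.S5437
import Mathlib.GroupTheory.GroupAction.Quotient

set_option autoImplicit false
open Cfsg

namespace Cfsg.Agent.S5437

/-- Let I be a set of involutions of the finite group G closed under conjugation, and H a subgroup of G. The following are equivalent: (1) for every member x of I lying in H, the conjugates of x lying in H form a single H-class and the centralizer of x lies in H; (2) for every g outside H, no member of I lies in both H and g H g⁻¹; (3) every member of I lying in H fixes exactly one coset in the action of G on the cosets of H. -/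
theorem result {G : Type*} [Group G] [Finite G] (I : Set G) (hI : ∀ x ∈ I, orderOf x = 2) (hIc : ∀ g : G, ∀ x ∈ I, g * x * g⁻¹ ∈ I) (H : Subgroup G) : ((∀ x ∈ I, x ∈ H → (∀ g : G, g * x * g⁻¹ ∈ H → ∃ h ∈ H, h * x * h⁻¹ = g * x * g⁻¹) ∧ Subgroup.centralizer ({x} : Set G) ≤ H) ↔ (∀ g : G, g ∉ H → ∀ x ∈ I, ¬ (x ∈ H ∧ x ∈ (H : Subgroup G).map (MulAut.conj g).toMonoidHom))) ∧ ((∀ g : G, g ∉ H → ∀ x ∈ I, ¬ (x ∈ H ∧ x ∈ (H : Subgroup G).map (MulAut.conj g).toMonoidHom)) ↔ ∀ x ∈ I, x ∈ H → ∃! c : G ⧸ H, x • c = c) := by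
  have hfix : ∀ (g x : G), (x • ((g : G) : G ⧸ H) = ((g : G) : G ⧸ H)) ↔ g⁻¹ * x * g ∈ H := by
    intro g x
    rw [MulAction.Quotient.smul_coe, smul_eq_mul, eq_comm, QuotientGroup.eq, mul_assoc]
  have hmap : ∀ (g x : G), x ∈ (H : Subgroup G).map (MulAut.conj g).toMonoidHom ↔ g⁻¹ * x * g ∈ H := by
    intro g x
    constructor
    · rintro ⟨h, hh, rfl⟩; simpa [mul_assoc] using hh
    · exact fun h => ⟨_, h, by simp [mul_assoc]⟩
  refine ⟨⟨fun h g hg x hx ⟨hxH, hxg⟩ => ?_, fun h x hx hxH => ⟨fun g hgx => ?_, fun c hc => ?_⟩⟩,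
    ⟨fun h x hx hxH => ?_, fun h g hg x hx ⟨hxH, hxg⟩ => ?_⟩⟩
  · rw [hmap] at hxg
    obtain ⟨hconj, hcent⟩ := h x hx hxH
    obtain ⟨k, hk, hk'⟩ := hconj g⁻¹ (by simpa using hxg)
    have : g * k ∈ H := hcent (Subgroup.mem_centralizer_singleton_iff.2 (by
      rw [inv_inv, mul_inv_eq_iff_eq_mul] at hk'
      calc g * k * x = g * (k * x) := mul_assoc _ _ _
        _ = g * (g⁻¹ * x * g * k) := by rw [hk']
        _ = x * (g * k) := by group))
    exact hg (by simpa using mul_mem this (inv_mem hk))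
  · refine ⟨g, ?_, rfl⟩
    by_contra hgH
    exact h g⁻¹ (fun hh => hgH (inv_mem_iff.1 hh)) x hx ⟨hxH, (hmap _ _).2 (by simpa using hgx)⟩
  · by_contra hcH
    refine h c hcH x hx ⟨hxH, (hmap _ _).2 ?_⟩
    have hc' := Subgroup.mem_centralizer_singleton_iff.1 hc
    rwa [mul_assoc, ← hc', inv_mul_cancel_left]
  · refine ⟨((1 : G) : G ⧸ H), (hfix 1 x).2 (by simpa using hxH), fun c => ?_⟩
    induction c using QuotientGroup.induction_on with
    | H g =>
      intro hgc
      rw [QuotientGroup.eq, mul_one, inv_mem_iff]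
      by_contra hg
      exact h g hg x hx ⟨hxH, (hmap _ _).2 ((hfix g x).1 hgc)⟩
  · obtain ⟨c, -, hu⟩ := h x hx hxH
    have h1 := hu _ ((hfix g x).2 ((hmap _ _).1 hxg))
    rw [← hu _ ((hfix 1 x).2 (by simpa using hxH)), QuotientGroup.eq, mul_one, inv_mem_iff] at h1
    exact hg h1

end Cfsg.Agent.S5437
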