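import Cfsg.Statements.S5438
import Mathlib.GroupTheory.Sylow
import Mathlib.GroupTheory.Nilpotent

set_option autoImplicit false
open Cfsg

namespace Cfsg.Agent.S5438

/-- Let z be a 2-central involution of the finite group G (an involution central in some Sylow 2-subgroup) and H a subgroup containing z such that the coset H is the only coset of H fixed by z (in the action of G on the cosets of H). Then H has odd index in G, and for every 2-element x of H the conjugates of x lying in H form a single H-class. -/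
theorem result {G : Type*} [Group G] [Finite G] (z : G) (hz : Cfsg.IsTwoCentralInvolution z) (H : Subgroup G) (hzH : z ∈ H) (hfix : ∀ g : G, g⁻¹ * z * g ∈ H → g ∈ H) : Odd H.index ∧ ∀ x ∈ H, (∃ k : ℕ, orderOf x = 2 ^ k) → ∀ g : G, g * x * g⁻¹ ∈ H → ∃ h ∈ H, h * x * h⁻¹ = g * x * g⁻¹ := by
  haveI : Fact (Nat.Prime 2) := ⟨Nat.prime_two⟩
  obtain ⟨hord, P, hzP, hPz⟩ := hz
  have hfixc : ∀ g : G, (z • ((g : G) : G ⧸ H) = ((g : G) : G ⧸ H)) ↔ g⁻¹ * z * g ∈ H := by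
    intro g
    rw [MulAction.Quotient.smul_coe, smul_eq_mul, eq_comm, QuotientGroup.eq, mul_assoc]
  have hone : MulAction.fixedPoints ↥(Subgroup.zpowers z) (G ⧸ H) = {((1 : G) : G ⧸ H)} := by
    ext c
    induction c using QuotientGroup.induction_on with
    | H g =>
      rw [Set.mem_singleton_iff, QuotientGroup.eq, mul_one, inv_mem_iff, MulAction.mem_fixedPoints]
      constructor
      · intro h
        exact hfix g ((hfixc g).1 (h ⟨z, Subgroup.mem_zpowers z⟩))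
      · intro hg ⟨w, hw⟩
        obtain ⟨n, rfl⟩ := hw
        have h1 : z • ((g : G) : G ⧸ H) = ((g : G) : G ⧸ H) :=
          (hfixc g).2 (mul_mem (mul_mem (inv_mem hg) hzH) hg)
        have : z ∈ MulAction.stabilizer G ((g : G) : G ⧸ H) := h1
        exact (MulAction.stabilizer G ((g : G) : G ⧸ H)).zpow_mem this n
  refine ⟨?_, fun x hx ⟨k, hk⟩ g hg => ?_⟩
  · have hp : IsPGroup 2 ↥(Subgroup.zpowers z) := by
      refine IsPGroup.of_card (n := 1) ?_
      rw [Nat.card_zpowers, hord, pow_one]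
    have := hp.card_modEq_card_fixedPoints (G ⧸ H)
    rw [hone, Nat.card_coe_set_eq, Set.ncard_singleton, ← Subgroup.index] at this
    rw [Nat.odd_iff]; exact this
  have hcz : ∀ c : G, c * z = z * c → c ∈ H := fun c hc => hfix c (by
    rw [mul_assoc, ← hc, inv_mul_cancel_left]; exact hzH)
  have hPH : (P : Subgroup G) ≤ H := fun p hp => hcz p (hPz p hp)
  -- move 2-elements of H into P
  have into : ∀ y ∈ H, ∀ k, orderOf y = 2 ^ k → ∃ h ∈ H, h * y * h⁻¹ ∈ (P : Subgroup G) := by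
    intro y hy k hk
    have hp : IsPGroup 2 ↥(Subgroup.zpowers (⟨y, hy⟩ : ↥H)) := by
      refine IsPGroup.of_card (n := k) ?_
      rw [Nat.card_zpowers, Subgroup.orderOf_mk, hk]
    obtain ⟨R, hR⟩ := hp.exists_le_sylow
    obtain ⟨h, hh⟩ := MulAction.exists_smul_eq ↥H R (P.subtype hPH)
    refine ⟨h, h.2, ?_⟩
    have : h * ⟨y, hy⟩ * h⁻¹ ∈ (P.subtype hPH : Subgroup ↥H) := by
      rw [← hh]
      exact ⟨_, hR (Subgroup.mem_zpowers _), rfl⟩
    exact this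
  obtain ⟨h1, hh1, hx1⟩ := into x hx k hk
  obtain ⟨h2, hh2, hy1⟩ := into _ hg k (by rw [← hk]; exact (MulEquiv.orderOf_eq (MulAut.conj g) x))
  set y1 := h2 * (g * x * g⁻¹) * h2⁻¹ with hy1def
  set g1 := h2 * g * h1⁻¹ with hg1
  set C := Subgroup.centralizer ({y1} : Set G) with hC
  have hzC : z ∈ C := Subgroup.mem_centralizer_singleton_iff.2 (hPz _ hy1).symm
  have hz'C : g1 * z * g1⁻¹ ∈ C := by
    refine Subgroup.mem_centralizer_singleton_iff.2 ?_
    have e := hPz _ hx1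
    rw [hy1def, hg1]
    calc h2 * g * h1⁻¹ * z * (h2 * g * h1⁻¹)⁻¹ * (h2 * (g * x * g⁻¹) * h2⁻¹)
        = h2 * g * h1⁻¹ * (z * (h1 * x * h1⁻¹)) * (h1 * g⁻¹ * h2⁻¹) := by group
      _ = h2 * g * h1⁻¹ * ((h1 * x * h1⁻¹) * z) * (h1 * g⁻¹ * h2⁻¹) := by rw [e]
      _ = _ := by group
  have hpz : ∀ (w : ↥C), orderOf (w : G) = 2 → IsPGroup 2 ↥(Subgroup.zpowers w) := fun w hw => by
    refine IsPGroup.of_card (n := 1) ?_
    rw [Nat.card_zpowers, ← Subgroup.orderOf_coe, hw, pow_one]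
  obtain ⟨R, hR⟩ := (hpz ⟨z, hzC⟩ hord).exists_le_sylow
  obtain ⟨R', hR'⟩ := (hpz ⟨_, hz'C⟩ ((MulEquiv.orderOf_eq (MulAut.conj g1) z).trans hord)).exists_le_sylow
  obtain ⟨c, hc⟩ := MulAction.exists_smul_eq ↥C R' R
  set RG := (R : Subgroup ↥C).map C.subtype with hRG
  have hRp : IsPGroup 2 ↥RG := R.isPGroup'.map _
  have hzR : z ∈ RG := ⟨⟨z, hzC⟩, hR (Subgroup.mem_zpowers _), rfl⟩
  have hRH : RG ≤ H := by
    haveI := hRp.isNilpotent
    by_contra hne
    have hlt : H.subgroupOf RG < ⊤ := lt_top_iff_ne_top.2 fun e => hne fun r hr => by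
      have : (⟨r, hr⟩ : ↥RG) ∈ H.subgroupOf RG := e ▸ Subgroup.mem_top _
      exact this
    obtain ⟨r, hr1, hr2⟩ := SetLike.exists_of_lt (normalizerCondition_of_isNilpotent _ hlt)
    apply hr2
    have := (Subgroup.mem_normalizer_iff.1 hr1 ⟨z, hzR⟩).1 hzH
    exact inv_mem_iff.1 (hfix (r : G)⁻¹ (by simpa [Subgroup.mem_subgroupOf, mul_assoc] using this))
  have hcR : (c : G) * (g1 * z * g1⁻¹) * (c : G)⁻¹ ∈ RG := by
    refine ⟨c * ⟨_, hz'C⟩ * c⁻¹, ?_, by simp⟩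
    rw [← hc]
    exact ⟨_, hR' (Subgroup.mem_zpowers _), rfl⟩
  have hcg : (c : G) * g1 ∈ H := inv_mem_iff.1 (hfix _ (by
    have e : ((c : G) * g1)⁻¹⁻¹ * z * ((c : G) * g1)⁻¹ = (c : G) * (g1 * z * g1⁻¹) * (c : G)⁻¹ := by
      group
    rw [e]; exact hRH hcR))
  refine ⟨h2⁻¹ * ((c : G) * g1) * h1, mul_mem (mul_mem (inv_mem hh2) hcg) hh1, ?_⟩
  have hcy : (c : G) * y1 * (c : G)⁻¹ = y1 := by
    rw [mul_inv_eq_iff_eq_mul]
    exact Subgroup.mem_centralizer_singleton_iff.1 c.2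
  rw [hg1]
  calc h2⁻¹ * ((c : G) * (h2 * g * h1⁻¹)) * h1 * x * (h2⁻¹ * ((c : G) * (h2 * g * h1⁻¹)) * h1)⁻¹
      = h2⁻¹ * ((c : G) * y1 * (c : G)⁻¹) * h2 := by rw [hy1def]; group
    _ = g * x * g⁻¹ := by rw [hcy, hy1def]; group

end Cfsg.Agent.S5438
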