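import Cfsg.Statements.S5440
import Cfsg.Agent.Lib.LargeFischer.Fusion
-- import your own Cfsg.Agent.* helpers here

set_option autoImplicit false
open Cfsg

namespace Cfsg.Agent.S5440

/-- Let G be a finite group of large Fischer type at the involution z: the generalized Fitting subgroup Q of H = C_G(z) is extraspecial of order 2^13, H has normal subgroups Q ≤ H₁ ≤ H₂ with H₁/Q of order 3, H₂/H₁ the projective special unitary group of dimension 4 over the field with nine elements and H₂ of index 2 in H, and some conjugate of z other than z lies in Q. Then H has exactly two orbits, under conjugation, on the involutions of Q other than z. -/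
theorem result {G : Type*} [Group G] [Finite G] (z : G) (Q : Subgroup (Subgroup.centralizer ({z} : Set G))) [Q.Normal] (hF : Cfsg.IsOfLargeFischerTypeAt z Q) : ∃ s t : Subgroup.centralizer ({z} : Set G), s ∈ Q ∧ t ∈ Q ∧ orderOf s = 2 ∧ orderOf t = 2 ∧ (s : G) ≠ z ∧ (t : G) ≠ z ∧ (¬ ∃ h : Subgroup.centralizer ({z} : Set G), h * s * h⁻¹ = t) ∧ ∀ x : Subgroup.centralizer ({z} : Set G), x ∈ Q → orderOf x = 2 → (x : G) ≠ z → (∃ h : Subgroup.centralizer ({z} : Set G), h * s * h⁻¹ = x) ∨ ∃ h : Subgroup.centralizer ({z} : Set G), h * t * h⁻¹ = x := by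
  obtain ⟨D⟩ := LargeFischer.exists_model hF
  obtain ⟨g, s0, hg, hs⟩ := LargeFischer.exists_conjugate hF
  obtain ⟨s', hs'⟩ := D.vec_surjective LargeFischer.v0
  obtain ⟨t', ht'⟩ := D.vec_surjective LargeFischer.w0
  have h0v : LargeFischer.v0 ≠ 0 := fun e => absurd (congrFun e 0) (by decide +kernel)
  have h0w : LargeFischer.w0 ≠ 0 := fun e => absurd (congrFun e 0) (by decide +kernel)
  have conv : ∀ x : ↥(LargeFischer.QG Q), D.vec x ≠ 0 → LargeFischer.wt (D.vec x) % 2 = 0 →
      ∃ x' : Subgroup.centralizer ({z} : Set G), x' ∈ Q ∧ orderOf x' = 2 ∧ (x' : G) = x ∧ (x : G) ≠ z ∧ (x : G) ≠ 1 := by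
    rintro ⟨x, q, hq, rfl⟩ h0 he
    have h1 : (q : G) ≠ 1 := fun e => h0 (D.vec_eq_zero.2 (Or.inl e))
    refine ⟨q, hq, orderOf_eq_prime ?_ (fun e => h1 (congrArg Subtype.val e)), rfl,
      fun e => h0 (D.vec_eq_zero.2 (Or.inr e)), h1⟩
    exact Subtype.ext (by rw [pow_two]; exact (D.wt_vec _).1 he)
  obtain ⟨s, hsQ, hso, hse, hsz, hs1⟩ := conv s' (hs' ▸ h0v) (by rw [hs']; decide +kernel)
  obtain ⟨t, htQ, hto, hte, htz, ht1⟩ := conv t' (ht' ▸ h0w) (by rw [ht']; decide +kernel)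
  refine ⟨s, t, hsQ, htQ, hso, hto, hse ▸ hsz, hte ▸ htz, ?_, fun x hxQ hxo hxz => ?_⟩
  · rintro ⟨h, hh⟩
    have e : D.ctx.conjQ h s' = t' := Subtype.ext (by
      show h.1 * (s' : G) * h.1⁻¹ = t'
      rw [← hse, ← hte]
      exact congrArg Subtype.val hh)
    have e2 := D.vec_conj h s'
    rw [e, hs', ht'] at e2
    exact LargeFischer.in_disjoint (e2 ▸ D.co.in1_r6 _ LargeFischer.v0_in) LargeFischer.w0_in
  · let x' : ↥(LargeFischer.QG Q) := ⟨x.1, x, hxQ, rfl⟩
    have hx1 : (x : G) ≠ 1 := fun e => by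
      have : x = 1 := Subtype.ext e
      rw [this, orderOf_one] at hxo
      omega
    have hx2 : (x : G) * x = 1 := by
      have := pow_orderOf_eq_one x
      rw [hxo, pow_two] at this
      exact congrArg Subtype.val this
    rcases D.vec_cases (x := x') hx2 hx1 hxz with h | h
    · left
      obtain ⟨c, hc⟩ := D.exists_r6_in1 (u := D.vec s') (hs'.symm ▸ LargeFischer.v0_in) h
      obtain ⟨d, hd⟩ := D.conj_of_r6 hc hx1 hxz
      exact ⟨d, Subtype.ext (by rw [← hse] at hd; exact hd)⟩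
    · right
      obtain ⟨c, hc⟩ := D.exists_r6_in2 (u := D.vec t') (ht'.symm ▸ LargeFischer.w0_in) h
      obtain ⟨d, hd⟩ := D.conj_of_r6 hc hx1 hxz
      exact ⟨d, Subtype.ext (by rw [← hte] at hd; exact hd)⟩

end Cfsg.Agent.S5440
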