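import Cfsg.Statements.S5442
import Cfsg.Agent.Lib.LargeFischer.Fusion
-- import your own Cfsg.Agent.* helpers here

set_option autoImplicit false
open Cfsg

namespace Cfsg.Agent.S5442

/-- Let G be a finite group of large Fischer type at the involution z: the generalized Fitting subgroup Q of H = C_G(z) is extraspecial of order 2^13, H has normal subgroups Q ≤ H₁ ≤ H₂ with H₁/Q of order 3, H₂/H₁ the projective special unitary group of dimension 4 over the field with nine elements and H₂ of index 2 in H, and some conjugate of z other than z lies in Q. Let s = g z g⁻¹ be a conjugate of z lying in Q and different from z. Then the intersection of Q and g Q g⁻¹ (as subgroups of G) is elementary abelian of order 2^7; and in H/Q, writing X for the image of the centralizer of s in H and E for the image of the intersection of g Q g⁻¹ with H, E is a normal subgroup of X, elementary abelian of order 32, with X/E isomorphic to the alternating group of degree 6. -/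
theorem result {G : Type*} [Group G] [Finite G] (z : G) (Q : Subgroup (Subgroup.centralizer ({z} : Set G))) [Q.Normal] (hF : Cfsg.IsOfLargeFischerTypeAt z Q) (s : G) (hsQ : ∃ hsc : s ∈ Subgroup.centralizer ({z} : Set G), (⟨s, hsc⟩ : Subgroup.centralizer ({z} : Set G)) ∈ Q) (hs : IsConj z s) (hs1 : s ≠ z) (g : G) (hg : g * z * g⁻¹ = s) (X E : Subgroup ((Subgroup.centralizer ({z} : Set G)) ⧸ Q)) (hX : X = ((Subgroup.centralizer ({z} : Set G) ⊓ Subgroup.centralizer ({s} : Set G)).subgroupOf (Subgroup.centralizer ({z} : Set G))).map (QuotientGroup.mk' Q)) (hE : E = ((((Q.map (Subgroup.centralizer ({z} : Set G)).subtype)).map (MulAut.conj g).toMonoidHom ⊓ Subgroup.centralizer ({z} : Set G)).subgroupOf (Subgroup.centralizer ({z} : Set G))).map (QuotientGroup.mk' Q)) : Cfsg.IsElementaryAbelian 2 ((Q.map (Subgroup.centralizer ({z} : Set G)).subtype) ⊓ ((Q.map (Subgroup.centralizer ({z} : Set G)).subtype)).map (MulAut.conj g).toMonoidHom) ∧ Nat.card ↥((Q.map (Subgroup.centralizer ({z} : Set G)).subtype) ⊓ ((Q.map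 (Subgroup.centralizer ({z} : Set G)).subtype)).map (MulAut.conj g).toMonoidHom) = 2 ^ 7 ∧ E ≤ X ∧ (∀ x ∈ X, ∀ y ∈ E, x * y * x⁻¹ ∈ E) ∧ Cfsg.IsElementaryAbelian 2 E ∧ Nat.card E = 32 ∧ ∃ _ : (E.subgroupOf X).Normal, Nonempty (↥X ⧸ E.subgroupOf X ≃* alternatingGroup (Fin 6)) := by
  obtain ⟨D⟩ := LargeFischer.exists_model hF
  obtain ⟨hsc, hsQ'⟩ := hsQ
  let s' : ↥(LargeFischer.QG Q) := ⟨s, _, hsQ', rfl⟩
  obtain rfl : X = D.co.stab6 (D.vec s') := by
    rw [hX, D.stab6_eq (x := s') (D.s_ne_one (s := s') hg) hs1]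
  obtain rfl : E = LargeFischer.Model.Eg z Q g := hE
  have hle := D.Eg_le (s := s') hg
  have hn := D.Eg_normal (s := s') hg hs1
  obtain ⟨h32, hnor, hiso⟩ := D.co.long_stab (D.long (s := s') hg hs1) (D.Eg_two (s := s') hg hs1)
    (D.Eg_ge (s := s') hg hs1) hle hn
  refine ⟨D.inf_elem (s := s') hg hs1, ?_, hle, hn, D.Eg_elem (s := s') hg hs1, h32, hnor, hiso⟩
  have h1 := D.card_le_Eg (s := s') hg hs1
  rw [h32] at h1
  have h2 := D.card_inf_le (s := s') hg hs1
  set r := Nat.card ↥(LargeFischer.QG Q ⊓ (LargeFischer.QG Q).map (MulAut.conj g).toMonoidHom) with hr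
  have hr' : r = 128 := by omega
  exact hr'

end Cfsg.Agent.S5442
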