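import Cfsg.Statements.S5443
import Cfsg.Agent.Lib.LargeFischer.Fusion
-- import your own Cfsg.Agent.* helpers here

set_option autoImplicit false
open Cfsg

namespace Cfsg.Agent.S5443

/-- Let G be a finite group of large Fischer type at the involution z: the generalized Fitting subgroup Q of H = C_G(z) is extraspecial of order 2^13, H has normal subgroups Q ≤ H₁ ≤ H₂ with H₁/Q of order 3, H₂/H₁ the projective special unitary group of dimension 4 over the field with nine elements and H₂ of index 2 in H, and some conjugate of z other than z lies in Q. Let t be an involution of Q not conjugate to z in G, and S the set of elements of H conjugating t to t or to t z (the stabilizer of the image of t in Q modulo its centre). Then the image of S in H/Q is isomorphic to the full isometry group of the elliptic quadratic form in dimension 6 over the field with two elements. -/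
theorem result {G : Type*} [Group G] [Finite G] (z : G) (Q : Subgroup (Subgroup.centralizer ({z} : Set G))) [Q.Normal] (hF : Cfsg.IsOfLargeFischerTypeAt z Q) (t : Subgroup.centralizer ({z} : Set G)) (htQ : t ∈ Q) (ht2 : orderOf t = 2) (ht : ¬ IsConj z (t : G)) (S : Subgroup (Subgroup.centralizer ({z} : Set G))) (hS : ∀ h : Subgroup.centralizer ({z} : Set G), h ∈ S ↔ (h * t * h⁻¹ = t ∨ ((h * t * h⁻¹ : Subgroup.centralizer ({z} : Set G)) : G) = t * z)) : Nonempty (↥(S.map (QuotientGroup.mk' Q)) ≃* Cfsg.isometryGroup (ZMod 2) (Cfsg.quadFormMinus 2 (ZMod 2) 1 1)) := by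
  obtain ⟨D⟩ := LargeFischer.exists_model hF
  obtain ⟨g, s, hg, hs, hw⟩ := D.exists_at_w0 hF
  let t' : ↥(LargeFischer.QG Q) := ⟨t.1, t, htQ, rfl⟩
  have ht1 : (t : G) ≠ 1 := fun e => by
    have : t = 1 := Subtype.ext e
    rw [this, orderOf_one] at ht2
    omega
  have htz : (t : G) ≠ z := fun e => ht (by rw [e])
  have htt : (t : G) * t = 1 := by
    have := pow_orderOf_eq_one t
    rw [ht2, pow_two] at this
    exact congrArg Subtype.val this
  have h1 : LargeFischer.In1 (D.vec t') := (D.vec_cases (x := t') htt ht1 htz).resolve_right fun h => by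
    obtain ⟨c, hc⟩ := D.exists_r6_in2 (D.long hg hs) h
    obtain ⟨d, hd⟩ := D.conj_of_r6 hc ht1 htz
    refine ht (isConj_iff.2 ⟨d.1 * g, ?_⟩)
    show d.1 * g * z * (d.1 * g)⁻¹ = t.1
    rw [← (show d.1 * (s : G) * d.1⁻¹ = t.1 from hd), ← hg]
    group
  have hmap : S.map (QuotientGroup.mk' Q) = D.co.stab6 (D.vec t') := by
    ext r
    constructor
    · rintro ⟨c, hc, rfl⟩
      show D.co.r6 (QuotientGroup.mk c) (D.vec t') = D.vec t'
      rw [← D.vec_conj, eq_comm, D.vec_eq_iff]
      rcases (hS c).1 hc with e | e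
      · exact Or.inl (congrArg (fun y : ↥(Subgroup.centralizer ({z} : Set G)) => (y : G)) e)
      · exact Or.inr e
    · intro hr
      obtain ⟨c, rfl, hc⟩ := D.exists_fix (x := t') ht1 htz hr
      exact ⟨c, (hS c).2 (Or.inl (Subtype.ext (mul_inv_eq_iff_eq_mul.2 hc))), rfl⟩
  obtain ⟨e⟩ := D.co.short_stab h1 (D.card_stab_in1 h1) (D.Eg_two hg hs) (D.Eg_ge hg hs)
    (hw ▸ D.Eg_le hg) (hw ▸ D.Eg_normal hg hs)
  exact ⟨(MulEquiv.subgroupCongr hmap).trans e⟩

end Cfsg.Agent.S5443
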