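import Cfsg.Statements.S5444
import Cfsg.Agent.Lib.LargeFischer.RankMain
-- import your own Cfsg.Agent.* helpers here

set_option autoImplicit false
open Cfsg

namespace Cfsg.Agent.S5444

/-- Let G be a finite group of large Fischer type at the involution z: the generalized Fitting subgroup Q of H = C_G(z) is extraspecial of order 2^13, H has normal subgroups Q ≤ H₁ ≤ H₂ with H₁/Q of order 3, H₂/H₁ the projective special unitary group of dimension 4 over the field with nine elements and H₂ of index 2 in H, and some conjugate of z other than z lies in Q. Let T be a Sylow 2-subgroup of H. Then T has exactly one elementary abelian subgroup A of largest order; A has order 2^11, it meets Q in a subgroup of order 2^7, and its image in H/Q has order 16. -/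
theorem result {G : Type*} [Group G] [Finite G] (z : G) (Q : Subgroup (Subgroup.centralizer ({z} : Set G))) [Q.Normal] (hF : Cfsg.IsOfLargeFischerTypeAt z Q) (T : Sylow 2 ↥(Subgroup.centralizer ({z} : Set G))) : ∃ A : Subgroup ↥(T : Subgroup (Subgroup.centralizer ({z} : Set G))), Cfsg.maxElementaryAbelianSubgroups 2 ↥(T : Subgroup (Subgroup.centralizer ({z} : Set G))) = {A} ∧ Nat.card A = 2 ^ 11 ∧ Nat.card ↥(A.map (T : Subgroup (Subgroup.centralizer ({z} : Set G))).subtype ⊓ Q) = 2 ^ 7 ∧ Nat.card ↥((A.map (T : Subgroup (Subgroup.centralizer ({z} : Set G))).subtype).map (QuotientGroup.mk' Q)) = 16 := by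
  obtain ⟨A, hle, hA, hc, hcQ, hcm, huniq⟩ := LargeFischer.sylow_max hF T
  set S : Subgroup (Subgroup.centralizer ({z} : Set G)) := ↑T with hS
  have hmap : (A.subgroupOf S).map S.subtype = A := Subgroup.map_subgroupOf_eq_of_le hle
  have hcard : Nat.card ↥(A.subgroupOf S) = 2048 := by
    rw [Nat.card_congr (Subgroup.subgroupOfEquivOfLe hle).toEquiv, hc]
  have hel : Cfsg.IsElementaryAbelian 2 (A.subgroupOf S) :=
    ⟨⟨⟨fun a b => Subtype.ext (LargeFischer.comm_of_sq (S := A.subgroupOf S)
      (fun c hc' => Subtype.ext (hA c.1 hc')) a.2 b.2)⟩⟩,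
      fun a ha => Subtype.ext (by rw [pow_two]; exact hA a.1 ha)⟩
  have key : ∀ B : Subgroup ↥S, Cfsg.IsElementaryAbelian 2 B → 2048 ≤ Nat.card ↥B → B = A.subgroupOf S := by
    intro B hB hBc
    have hBA : B.map S.subtype = A := by
      refine huniq _ (Subgroup.map_subtype_le B) ?_ ?_
      · rintro _ ⟨b, hb, rfl⟩
        rw [← map_mul, ← pow_two, hB.2 b hb, map_one]
      · rw [Subgroup.card_map_of_injective S.subtype_injective]; exact hBc
    exact Subgroup.map_injective S.subtype_injective (hBA.trans hmap.symm)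
  refine ⟨A.subgroupOf S, Set.ext fun B => ?_, hcard, ?_, ?_⟩
  · rw [Set.mem_singleton_iff]
    refine ⟨fun h => key B h.1 (hcard ▸ h.2 _ hel), fun h => h ▸ ⟨hel, fun C hC => ?_⟩⟩
    by_contra hlt
    rw [key C hC (by omega)] at hlt
    omega
  · rw [hmap, hcQ]
    rfl
  · rw [hmap, hcm]

end Cfsg.Agent.S5444
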