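import Cfsg.Statements.S5449
import Cfsg.Agent.Lib.LargeFischer.SixEnd

set_option autoImplicit false
open Cfsg

namespace Cfsg.Agent.S5449

open Cfsg.Agent.LargeFischer Cfsg.Agent.LargeFischer.Big Cfsg.Agent.LargeFischer.Six Cfsg.Agent.RigidGraph.He
open Cfsg.Agent.LargeExtra

/-- Let G be a finite group of large Fischer type at the involution z: the generalized Fitting subgroup Q of H = C_G(z) is extraspecial of order 2^13, H has normal subgroups Q ≤ H₁ ≤ H₂ with H₁/Q of order 3, H₂/H₁ the projective special unitary group of dimension 4 over the field with nine elements and H₂ of index 2 in H, and some conjugate of z other than z lies in Q. Then Q contains a four-group E, not containing z and containing an involution not conjugate to z in G, whose centralizer in G is quasisimple with quotient by E isomorphic to the projective special unitary group of dimension 6 over the field with four elements. -/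
theorem result {G : Type*} [Group G] [Finite G] (z : G) (Q : Subgroup (Subgroup.centralizer ({z} : Set G))) [Q.Normal] (hF : Cfsg.IsOfLargeFischerTypeAt z Q) : ∃ E : Subgroup G, E ≤ (Q.map (Subgroup.centralizer ({z} : Set G)).subtype) ∧ Cfsg.IsElementaryAbelian 2 E ∧ Nat.card E = 4 ∧ z ∉ E ∧ (∃ t ∈ E, orderOf t = 2 ∧ ¬ IsConj z t) ∧ Cfsg.IsQuasisimple ↥(Subgroup.centralizer (E : Set G)) ∧ ∃ (_ : (E.subgroupOf (Subgroup.centralizer (E : Set G))).Normal) (K : Type) (_ : Field K) (_ : Fintype K), Fintype.card K = 4 ∧ Nonempty (↥(Subgroup.centralizer (E : Set G)) ⧸ E.subgroupOf (Subgroup.centralizer (E : Set G)) ≃* Cfsg.PSU 6 K 2) := by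
  obtain ⟨S⟩ := exists_data hF
  have hlt : ∀ i, eB i = true → i < 2048 := fun i hi => lt_trans (Data.eB_lt hi) (by norm_num)
  have hsq : ∀ a ∈ S.E, a * a = 1 := fun a ha => AG_sq S.cv a (S.E_le_AG ha)
  refine ⟨S.E, ?_, ⟨⟨⟨fun a b => Subtype.ext (comm_of_sq hsq a.2 b.2)⟩⟩, fun a ha => (pow_two a).trans (hsq a ha)⟩,
    ?_, fun hz => S.zb_ne (S.pr_E hz), ⟨S.eg 2, S.mem_E.2 ⟨2, rfl, rfl⟩, ?_, ?_⟩, S.quasisimple,
    S.normal_E, K4, inferInstance, inferInstance, K4.card_K4, S.Cb_equiv⟩
  · rintro _ ⟨e, he, rfl⟩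
    obtain ⟨q, hq, -⟩ := S.E_vec he
    rw [← hq]
    exact q.2
  · have hcoe : (S.E : Set G) = S.eg '' ({0, 2, 4, 6} : Finset ℕ) := by
      ext a
      simp only [SetLike.mem_coe, S.mem_E, Set.mem_image, Finset.mem_coe, Finset.mem_insert, Finset.mem_singleton,
        eB_iff]
    have hin : Set.InjOn S.eg (({0, 2, 4, 6} : Finset ℕ) : Set ℕ) := fun i hi j hj e =>
      S.B.eg_inj S.hc (hlt i ((eB_iff i).2 (by simpa using hi))) (hlt j ((eB_iff j).2 (by simpa using hj))) e
    rw [show Nat.card ↥S.E = (S.E : Set G).ncard from Nat.card_coe_set_eq _, hcoe, Set.ncard_image_of_injOn hin,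
      Set.ncard_coe_finset]
    rfl
  · refine orderOf_eq_prime ((pow_two _).trans (hsq _ (S.mem_E.2 ⟨2, rfl, rfl⟩))) fun h => ?_
    exact absurd (S.B.eg_inj S.hc (by norm_num) (by norm_num) (h.trans (S.B.eg_zero S.hc).symm)) (by norm_num)
  · rw [S.isConj_eg (by norm_num)]
    decide +kernel

end Cfsg.Agent.S5449
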