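import Cfsg.Statements.S5450
import Cfsg.Agent.Lib.LargeFischer.PairRecog
-- import your own Cfsg.Agent.* helpers here

set_option autoImplicit false
open Cfsg

namespace Cfsg.Agent.S5450

open Cfsg.Agent.LargeFischer Cfsg.Agent.LargeFischer.Big Cfsg.Agent.LargeFischer.Six Cfsg.Agent.RigidGraph.He
open Cfsg.Agent.LargeExtra

theorem bA_in : In1 (bA 0) := by decide +kernel

/-- An element of Q outside the class of the central involution is conjugate to the standard one. -/
theorem conj_std {G : Type*} [Group G] [Finite G] {z : G} {Q : Subgroup (Subgroup.centralizer ({z} : Set G))}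
    [Q.Normal] (S : Data z Q) (t : ↥(QG Q)) (ht2 : (t : G) * t = 1) (h1 : (t : G) ≠ 1) (hnc : ¬ IsConj z (t : G)) :
    ∃ g : G, g * S.eg 2 * g⁻¹ = t := by
  have hz : (t : G) ≠ z := fun e => hnc (by rw [e])
  obtain ⟨g, s, hg, hs⟩ := exists_conjugate S.hF
  have hin : In1 (S.D.vec t) := (S.D.vec_cases ht2 h1 hz).resolve_right fun h => by
    obtain ⟨c, hc⟩ := S.D.exists_r6_in2 (S.D.long hg hs) h
    obtain ⟨d, hd⟩ := S.D.conj_of_r6 hc h1 hz
    refine hnc (isConj_iff.2 ⟨d.1 * g, ?_⟩)
    rw [← hd, ← hg]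
    group
  obtain ⟨c, hc⟩ := S.D.exists_r6_in1 bA_in hin
  have hv : S.D.co.r6 (QuotientGroup.mk c) (S.D.vec (uq S.cv (bA 0))) = S.D.vec t := by
    rw [vec_uq S.cv S.hc]; exact hc
  obtain ⟨d, hd⟩ := S.D.conj_of_r6 hv h1 hz
  refine ⟨d.1, ?_⟩
  rw [show S.eg 2 = (uq S.cv (bA 0) : G) by rw [← vd_eight.2.1]; exact S.eg_even (x := 1) (by norm_num)]
  exact hd

/-- Let G be a finite group of large Fischer type at the involution z: the generalized Fitting subgroup Q of H = C_G(z) is extraspecial of order 2^13, H has normal subgroups Q ≤ H₁ ≤ H₂ with H₁/Q of order 3, H₂/H₁ the projective special unitary group of dimension 4 over the field with nine elements and H₂ of index 2 in H, and some conjugate of z other than z lies in Q. Let t be an involution of Q not conjugate to z in G, and K the generalized Fitting subgroup of the centralizer of t. Then K is quasisimple of index 2 in the centralizer of t, contains t, and the centralizer of t modulo the subgroup generated by t is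 isomorphic to the full automorphism group of the Fischer group Fi₂₂ (as presented). -/
theorem result {G : Type*} [Group G] [Finite G] (z : G) (Q : Subgroup (Subgroup.centralizer ({z} : Set G))) [Q.Normal] (hF : Cfsg.IsOfLargeFischerTypeAt z Q) (t : G) (htQ : ∃ htc : t ∈ Subgroup.centralizer ({z} : Set G), (⟨t, htc⟩ : Subgroup.centralizer ({z} : Set G)) ∈ Q) (ht2 : orderOf t = 2) (ht : ¬ IsConj z t) (K : Subgroup ↥(Subgroup.centralizer ({t} : Set G))) (hK : K = Cfsg.generalizedFittingSubgroup ↥(Subgroup.centralizer ({t} : Set G))) [hn : ((Subgroup.zpowers t).subgroupOf (Subgroup.centralizer ({t} : Set G))).Normal] : Cfsg.IsQuasisimple ↥K ∧ K.index = 2 ∧ (∃ htc : t ∈ Subgroup.centralizer ({t} : Set G), (⟨t, htc⟩ : ↥(Subgroup.centralizer ({t} : Set G))) ∈ K) ∧ Nonempty (↥(Subgroup.centralizer ({t} : Set G)) ⧸ (Subgroup.zpowers t).subgroupOf (Subgroup.centralizer ({t} : Set G)) ≃* MulAut Cfsg.Spor.Fi22) := by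
  obtain ⟨S⟩ := exists_data hF
  obtain ⟨htc, htQ⟩ := htQ
  have ht1 : t ≠ 1 := fun e => by simp [e] at ht2
  have htt : t * t = 1 := by rw [← pow_two, ← ht2]; exact pow_orderOf_eq_one t
  obtain ⟨g, hg⟩ := conj_std S ⟨t, ⟨t, htc⟩, htQ, rfl⟩ htt ht1 ht
  change g * S.eg 2 * g⁻¹ = t at hg
  obtain ⟨K₀, hqs, hidx, hZK, hFs, ⟨θ⟩⟩ := S.exists_cover
  have hmem : ∀ x : G, x ∈ Subgroup.centralizer ({S.eg 2} : Set G) →
      g * x * g⁻¹ ∈ Subgroup.centralizer ({t} : Set G) := fun x hx => by
    refine Subgroup.mem_centralizer_singleton_iff.2 ?_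
    rw [← hg, show g * x * g⁻¹ * (g * S.eg 2 * g⁻¹) = g * (x * S.eg 2) * g⁻¹ by group,
      Subgroup.mem_centralizer_singleton_iff.1 hx]
    group
  have hmem' : ∀ x : G, x ∈ Subgroup.centralizer ({t} : Set G) →
      g⁻¹ * x * g ∈ Subgroup.centralizer ({S.eg 2} : Set G) := fun x hx => by
    refine Subgroup.mem_centralizer_singleton_iff.2 ?_
    rw [show S.eg 2 = g⁻¹ * t * g by rw [← hg]; group, show g⁻¹ * x * g * (g⁻¹ * t * g) = g⁻¹ * (x * t) * g by group,
      Subgroup.mem_centralizer_singleton_iff.1 hx]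
    group
  let e : ↥(Subgroup.centralizer ({S.eg 2} : Set G)) ≃* ↥(Subgroup.centralizer ({t} : Set G)) :=
    { toFun := fun x => ⟨g * x.1 * g⁻¹, hmem _ x.2⟩
      invFun := fun y => ⟨g⁻¹ * y.1 * g, hmem' _ y.2⟩
      left_inv := fun x => Subtype.ext (show g⁻¹ * (g * x.1 * g⁻¹) * g = x.1 by group)
      right_inv := fun y => Subtype.ext (show g * (g⁻¹ * y.1 * g) * g⁻¹ = y.1 by group)
      map_mul' := fun a b => Subtype.ext (show g * (a.1 * b.1) * g⁻¹ = g * a.1 * g⁻¹ * (g * b.1 * g⁻¹) by group) }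
  have hKe : K = K₀.map e.toMonoidHom := by rw [hK, ← Components.generalizedFitting_map_equiv e, hFs]
  have eK : ↥K₀ ≃* ↥K := (e.subgroupMap K₀).trans (MulEquiv.subgroupCongr hKe.symm)
  have hZ : S.Zt.map e.toMonoidHom = (Subgroup.zpowers t).subgroupOf (Subgroup.centralizer ({t} : Set G)) := by
    ext y
    rw [Subgroup.mem_map_equiv, Subgroup.mem_subgroupOf, Subgroup.mem_subgroupOf]
    show g⁻¹ * y.1 * g ∈ Subgroup.zpowers (S.eg 2) ↔ y.1 ∈ Subgroup.zpowers t
    simp only [Subgroup.mem_zpowers_iff, ← hg, conj_zpow]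
    refine exists_congr fun n => ⟨fun h => ?_, fun h => ?_⟩
    · rw [h]; group
    · rw [← h]; group
  refine ⟨?_, ?_, ⟨Subgroup.mem_centralizer_singleton_iff.2 rfl, ?_⟩, ?_⟩
  · refine ⟨⟨?_⟩, ?_⟩
    · rw [← Subgroup.map_top_of_surjective eK.toMonoidHom eK.surjective, ← hqs.1.commutator_eq_top, commutator_def,
        commutator_def, Subgroup.map_commutator, Subgroup.map_top_of_surjective eK.toMonoidHom eK.surjective]
    · have hc : (Subgroup.center ↥K₀).map eK.toMonoidHom = Subgroup.center ↥K := by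
        ext x
        obtain ⟨w, rfl⟩ := eK.surjective x
        rw [Subgroup.mem_map_equiv, MulEquiv.symm_apply_apply, Subgroup.mem_center_iff, Subgroup.mem_center_iff]
        exact ⟨fun h k => eK.symm.injective (by simpa using h (eK.symm k)),
          fun h k => eK.injective (by simpa using h (eK k))⟩
      exact (QuotientGroup.congr _ _ eK hc).isSimpleGroup_congr.1 hqs.2
  · rw [hKe]
    exact (Subgroup.index_map_equiv K₀ e).trans hidx
  · rw [hKe]
    refine Subgroup.mem_map.2 ⟨⟨S.eg 2, S.mem_CT.2 rfl⟩, hZK ?_, Subtype.ext hg⟩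
    exact Subgroup.mem_subgroupOf.2 (Subgroup.mem_zpowers _)
  · exact ⟨(QuotientGroup.congr _ _ e hZ).symm.trans θ⟩

end Cfsg.Agent.S5450
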