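import Cfsg.Statements.S5452
import Cfsg.Agent.Lib.UnitarySix.Lift

set_option autoImplicit false
open Cfsg
open Cfsg.Agent.UnitarySimple (sug)

namespace Cfsg.Agent.S5452

/-- Let G be a finite group with an involution d whose centralizer C is quasisimple with C modulo the subgroup generated by d isomorphic to the projective special unitary group of dimension 6 over the field with four elements, and suppose some conjugate of d other than d commutes with d. Then every involution of C modulo the subgroup generated by d is the image of an involution of C, and d is not a square in G. -/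
theorem result {G : Type*} [Group G] [Finite G] (d : G) (hd : orderOf d = 2) (hq : Cfsg.IsQuasisimple ↥(Subgroup.centralizer ({d} : Set G))) [hzn : ((Subgroup.zpowers d).subgroupOf (Subgroup.centralizer ({d} : Set G))).Normal] (K : Type) [Field K] [Fintype K] (hK : Fintype.card K = 4) (e : ↥(Subgroup.centralizer ({d} : Set G)) ⧸ (Subgroup.zpowers d).subgroupOf (Subgroup.centralizer ({d} : Set G)) ≃* Cfsg.PSU 6 K 2) (hnwc : ∃ g : G, g * d * g⁻¹ ∈ Subgroup.centralizer ({d} : Set G) ∧ g * d * g⁻¹ ≠ d) : (∀ x : ↥(Subgroup.centralizer ({d} : Set G)) ⧸ (Subgroup.zpowers d).subgroupOf (Subgroup.centralizer ({d} : Set G)), orderOf x = 2 → ∃ y : ↥(Subgroup.centralizer ({d} : Set G)), orderOf y = 2 ∧ (QuotientGroup.mk y : ↥(Subgroup.centralizer ({d} : Set G)) ⧸ (Subgroup.zpowers d).subgroupOf (Subgroup.centralizer ({d} : Set G))) = x) ∧ ¬ ∃ g : G, g ^ 2 = d := by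
  set C := Subgroup.centralizer ({d} : Set G) with hC
  have hd2 : d ^ 2 = 1 := hd ▸ pow_orderOf_eq_one d
  have hd1 : d ≠ 1 := fun h => by simp [h] at hd
  set N := (Subgroup.zpowers d).subgroupOf C with hN
  have memN : ∀ k : C, k ∈ N → (k : G) = 1 ∨ (k : G) = d := by
    intro k hk
    obtain ⟨n, hn⟩ := Subgroup.mem_zpowers_iff.1 (Subgroup.mem_subgroupOf.1 hk)
    rw [← hn, ← zpow_mod_orderOf, hd]
    rcases Int.emod_two_eq n with h | h <;> simp [h]
  have main : ∀ x : C ⧸ N, orderOf x = 2 → ∃ y : C, orderOf y = 2 ∧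
      (QuotientGroup.mk y : C ⧸ N) = x := by
    intro x hx
    obtain ⟨σ, hσ, hf, -⟩ := Cfsg.Agent.UnitaryStd.exists_setup (F := K) (q := 2) (n := 6)
      (by rw [hK]; norm_num) (by norm_num)
    have two : (2 : K) = 0 := by
      have h4 : ((4 : ℕ) : K) = 0 := hK ▸ FiniteField.cast_card_eq_zero K
      have : (2 : K) ^ 2 = 0 := by norm_num at h4 ⊢; exact h4
      exact pow_eq_zero_iff (by norm_num) |>.1 this
    have cube : ∀ a : K, a ≠ 0 → a ^ 3 = 1 := fun a ha => by
      have := FiniteField.pow_card_sub_one_eq_one a ha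
      rwa [hK] at this
    have K' : Cfsg.Agent.UnitarySix.FourField σ := by
      refine ⟨two, cube, fun a => hσ a, ?_⟩
      obtain ⟨w, hw0, hw1⟩ : ∃ w : K, w ≠ 0 ∧ w ≠ 1 := by
        classical
        by_contra! h
        have : (Finset.univ : Finset K) ⊆ {0, 1} := fun a _ => by
          simp only [Finset.mem_insert, Finset.mem_singleton]
          exact or_iff_not_imp_left.2 (h a)
        have h' := (Finset.card_le_card this).trans Finset.card_le_two
        rw [Finset.card_univ, hK] at h'
        omega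
      refine ⟨w, ?_⟩
      have : (w - 1) * (w ^ 2 + w + 1) = 0 := by linear_combination cube w hw0
      exact (mul_eq_zero.1 this).resolve_left (sub_ne_zero.2 hw1)
    let π : C →* Cfsg.PSU 6 K 2 := e.toMonoidHom.comp (QuotientGroup.mk' N)
    have hπ : Function.Surjective π := e.surjective.comp (QuotientGroup.mk'_surjective N)
    have hker : ∀ k, π k = 1 → (∀ c, k * c = c * k) ∧ k * k = 1 := by
      intro k hk
      have hk' : k ∈ N := (QuotientGroup.eq_one_iff k).1 (e.injective (hk.trans e.map_one.symm))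
      rcases memN k hk' with h | h
      · have : k = 1 := Subtype.ext h
        subst this
        exact ⟨fun c => by rw [one_mul, mul_one], one_mul 1⟩
      · refine ⟨fun c => Subtype.ext ?_, Subtype.ext ?_⟩
        · have hc := Subgroup.mem_centralizer_iff.1 c.2 d rfl
          simpa [Subgroup.coe_mul, h] using hc
        · simpa [Subgroup.coe_mul, h, pow_two] using hd2
    let φ : sug (Cfsg.hermForm 6 K 2) →* Cfsg.PSU 6 K 2 :=
      (QuotientGroup.mk' _).comp (Cfsg.Agent.UnitaryStd.suEquiv (F := K) (q := 2) (n := 6)).symm.toMonoidHom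
    have hφ : Function.Surjective φ := (QuotientGroup.mk'_surjective _).comp (MulEquiv.surjective _)
    have hφc : ∀ z, φ z = 1 → z ∈ Subgroup.center (sug (Cfsg.hermForm 6 K 2)) := by
      intro z hz
      have hz' : Cfsg.Agent.UnitaryStd.suEquiv.symm z ∈ Subgroup.center _ := (QuotientGroup.eq_one_iff _).1 hz
      refine Subgroup.mem_center_iff.2 fun g => Cfsg.Agent.UnitaryStd.suEquiv.symm.injective ?_
      rw [map_mul, map_mul]
      exact Subgroup.mem_center_iff.1 hz' _
    have h₃ : Cfsg.Agent.UnitarySix.Triple (Cfsg.hermForm 6 K 2) (![1, 1, 0, 0, 0, 0]) (![0, 0, 1, 1, 0, 0])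
        (![0, 0, 0, 0, 1, 1]) := by
      refine ⟨?_, ?_, ?_, ?_, ?_, ?_, ?_, ?_⟩
      all_goals first
        | (simp [Cfsg.hermForm, Fin.sum_univ_succ, one_add_one_eq_two, two]; done)
        | skip
    obtain ⟨y, hy, hyx⟩ := Cfsg.Agent.UnitarySix.lift_involution hf K' (hπ := hπ) hker (by simp) h₃ hφ hφc
      (x := e x) (by rw [MulEquiv.orderOf_eq, hx])
    exact ⟨y, hy, e.injective hyx⟩
  refine ⟨main, ?_⟩
  rintro ⟨g, hg⟩
  have hgC : g ∈ C := Subgroup.mem_centralizer_iff.2 fun h hh => by
    rw [Set.mem_singleton_iff.1 hh, ← hg, ← pow_succ, ← pow_succ']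
  have hgN : (⟨g, hgC⟩ : C) ∉ N := fun h => by
    rcases memN _ h with h' | h'
    · exact hd1 (by rw [← hg, show g = 1 from h', one_pow])
    · exact hd1 (by rw [← hg, show g = d from h', hd2])
  have hx : orderOf (QuotientGroup.mk (⟨g, hgC⟩ : C) : C ⧸ N) = 2 := by
    refine orderOf_eq_prime_iff.2 ⟨?_, fun h => hgN ((QuotientGroup.eq_one_iff _).1 h)⟩
    rw [← QuotientGroup.mk_pow, QuotientGroup.eq_one_iff, hN, Subgroup.mem_subgroupOf]
    show g ^ 2 ∈ Subgroup.zpowers d
    rw [hg]
    exact Subgroup.mem_zpowers d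
  obtain ⟨y, hy, hyx⟩ := main _ hx
  have hk := QuotientGroup.eq.1 hyx
  have hy2 : (y : G) ^ 2 = 1 := by
    have := pow_orderOf_eq_one y
    rw [hy] at this
    simpa using congrArg Subtype.val this
  rcases memN _ hk with h | h
  · have h' : (y : G) = g := inv_mul_eq_one.1 h
    exact hd1 (by rw [← hg, ← h', hy2])
  · have h' : g = (y : G) * d := by
      rw [← h]; simp
    have hc : Commute (y : G) d := (Subgroup.mem_centralizer_iff.1 y.2 d rfl).symm
    exact hd1 (by rw [← hg, h', hc.mul_pow, hy2, hd2, one_mul])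

end Cfsg.Agent.S5452
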