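import Cfsg.Statements.S5453
import Cfsg.Agent.Lib.FischerPresented.InvolLift
import Cfsg.Agent.Lib.FischerUnique.InvolutionClasses
import Cfsg.Agent.Lib.Fischer.TypeMFactor
import Cfsg.Agent.S5361

set_option autoImplicit false
open Cfsg

namespace Cfsg.Agent.S5453

open Cfsg.Agent.FischerPresented in
theorem quotient_facts {C : Type*} [Group C] [Finite C] (hq : Cfsg.IsQuasisimple C) (N : Subgroup C) [N.Normal]
    (hN : N ≤ Subgroup.center C) {E : Set (C ⧸ N)} (hE : Cfsg.IsThreeTranspositionClass E)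
    (ht : Cfsg.IsOfTypeM22 _ E) :
    ∃ Φ : CosetCert.Setup.G CosetData.Fi22B.setup ≃* C ⧸ N, Φ '' Fi22Class.D = E := by
  have hc : Subgroup.center C = N := le_antisymm (fun z hz => by
    rw [← QuotientGroup.eq_one_iff (N := N), ← Subgroup.mem_bot, ← ht.1, Subgroup.mem_center_iff]
    intro g
    obtain ⟨g, rfl⟩ := QuotientGroup.mk_surjective g
    rw [← QuotientGroup.mk_mul, ← QuotientGroup.mk_mul, Subgroup.mem_center_iff.1 hz g]) hN
  haveI hs : IsSimpleGroup (C ⧸ N) := by
    haveI := hq.2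
    have e := QuotientGroup.quotientMulEquivOfEq hc
    exact (MulEquiv.isSimpleGroup_congr e).1 hq.2
  have hcomm : commutator (C ⧸ N) = ⊤ := by
    haveI := hq.1
    rw [← Subgroup.map_top_of_surjective (QuotientGroup.mk' N) (QuotientGroup.mk'_surjective N),
      ← Group.IsPerfect.commutator_eq_top (G := C), commutator_def, commutator_def, Subgroup.map_commutator,
      Subgroup.map_top_of_surjective (QuotientGroup.mk' N) (QuotientGroup.mk'_surjective N)]
  have hsimp : IsSimpleGroup ↥(commutator (C ⧸ N)) := by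
    rw [hcomm]; exact (MulEquiv.isSimpleGroup_congr Subgroup.topEquiv).2 hs
  obtain ⟨-, f, hf, -, p, hp, -⟩ := Fischer.Factor.m22_facts ht
  have hprim := (S5361.result hE ht.1 ⟨f, hf, p, hp.1, Ne.symm hp.2.1, hp.2.2⟩).1.1 hsimp
  exact FischerUnique.exists_iso (Fischer.TClass.toGroup hE) hprim ht

/-- Let G be a finite group with an involution d whose centralizer C is quasisimple, such that C modulo the subgroup generated by d is of type M(22) with respect to some conjugacy class of 3-transpositions generating it and also has an involution whose own centralizer is quasisimple with quotient by it isomorphic to the projective special unitary group of dimension 6 over the field with four elements and which is not weakly closed in that centralizer; and suppose some conjugate of d other than d commutes with d. Then every involution of C modulo the subgroup generated by d is the image of an involution of C, and d is not a square in G. -/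
theorem result {G : Type*} [Group G] [Finite G] (d : G) (hd : orderOf d = 2) (hq : Cfsg.IsQuasisimple ↥(Subgroup.centralizer ({d} : Set G))) [hzn : ((Subgroup.zpowers d).subgroupOf (Subgroup.centralizer ({d} : Set G))).Normal] (htype : ∃ E : Set (↥(Subgroup.centralizer ({d} : Set G)) ⧸ (Subgroup.zpowers d).subgroupOf (Subgroup.centralizer ({d} : Set G))), Cfsg.IsThreeTranspositionClass E ∧ Cfsg.IsOfTypeM22 _ E) (hinvol : ∃ d' : ↥(Subgroup.centralizer ({d} : Set G)) ⧸ (Subgroup.zpowers d).subgroupOf (Subgroup.centralizer ({d} : Set G)), orderOf d' = 2 ∧ Cfsg.IsQuasisimple ↥(Subgroup.centralizer ({d'} : Set _)) ∧ (∃ (K : Type) (_ : Field K) (_ : Fintype K), Fintype.card K = 4 ∧ ∃ _ : ((Subgroup.zpowers d').subgroupOf (Subgroup.centralizer ({d'} : Set _))).Normal, Nonempty (↥(Subgroup.centralizer ({d'} : Set _)) ⧸ (Subgroup.zpowers d').subgroupOf (Subgroup.centralizer ({d'} : Set _)) ≃* Cfsg.PSU 6 K 2)) ∧ ∃ g, g * d' * g⁻¹ ∈ Subgroup.centralizer ({d'} : Set _) ∧ g * d' * g⁻¹ ≠ d') (hnwc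 : ∃ g : G, g * d * g⁻¹ ∈ Subgroup.centralizer ({d} : Set G) ∧ g * d * g⁻¹ ≠ d) : (∀ x : ↥(Subgroup.centralizer ({d} : Set G)) ⧸ (Subgroup.zpowers d).subgroupOf (Subgroup.centralizer ({d} : Set G)), orderOf x = 2 → ∃ y : ↥(Subgroup.centralizer ({d} : Set G)), orderOf y = 2 ∧ (QuotientGroup.mk y : ↥(Subgroup.centralizer ({d} : Set G)) ⧸ (Subgroup.zpowers d).subgroupOf (Subgroup.centralizer ({d} : Set G))) = x) ∧ ¬ ∃ g : G, g ^ 2 = d := by
  obtain ⟨E, hE, ht⟩ := htype
  set C := Subgroup.centralizer ({d} : Set G)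
  set N := (Subgroup.zpowers d).subgroupOf C
  have hd2 : d * d = 1 := by
    have h := pow_orderOf_eq_one d
    rwa [hd, sq] at h
  have hdC : d ∈ C := Subgroup.mem_centralizer_singleton_iff.2 rfl
  have hmem : ∀ x : ↥C, x ∈ N → (x : G) = 1 ∨ (x : G) = d := by
    intro x hx
    obtain ⟨k, hk⟩ := Subgroup.mem_zpowers_iff.1 (Subgroup.mem_subgroupOf.1 hx)
    rw [← hk]
    rcases Int.even_or_odd' k with ⟨m, rfl | rfl⟩
    · left; rw [zpow_mul, zpow_two, hd2, one_zpow]
    · right; rw [zpow_add_one, zpow_mul, zpow_two, hd2, one_zpow, one_mul]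
  have hN : N ≤ Subgroup.center ↥C := fun x hx => Subgroup.mem_center_iff.2 fun g => Subtype.ext (by
    rcases hmem x hx with h | h
    · rw [Subgroup.coe_mul, Subgroup.coe_mul, h, mul_one, one_mul]
    · rw [Subgroup.coe_mul, Subgroup.coe_mul, h]
      exact Subgroup.mem_centralizer_singleton_iff.1 g.2)
  obtain ⟨Φ, -⟩ := quotient_facts hq N hN hE ht
  have hlift : ∀ x : ↥C ⧸ N, orderOf x = 2 → ∃ y : ↥C, orderOf y = 2 ∧ (QuotientGroup.mk y : ↥C ⧸ N) = x := by
    intro x hx
    have hk : (Φ.symm.toMonoidHom.comp (QuotientGroup.mk' N)).ker ≤ Subgroup.center ↥C := fun k hk =>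
      hN ((QuotientGroup.eq_one_iff k).1 (Φ.symm.injective ((show Φ.symm (k : ↥C ⧸ N) = 1 from hk).trans (map_one _).symm)))
    obtain ⟨y, hy, e⟩ := Cfsg.Agent.FischerPresented.InvolLift.invol_lift hk
      (Φ.symm.surjective.comp (QuotientGroup.mk'_surjective N)) (x := Φ.symm x) (by rw [Φ.symm.orderOf_eq, hx])
    exact ⟨y, hy, Φ.symm.injective e⟩
  refine ⟨hlift, ?_⟩
  rintro ⟨g, hg⟩
  have hgC : g ∈ C := Subgroup.mem_centralizer_singleton_iff.2 (by rw [← hg]; group)
  let g' : ↥C := ⟨g, hgC⟩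
  have hd1 : d ≠ 1 := fun h => by rw [h, orderOf_one] at hd; norm_num at hd
  have hne : (QuotientGroup.mk g' : ↥C ⧸ N) ≠ 1 := fun h => by
    rcases hmem g' ((QuotientGroup.eq_one_iff g').1 h) with e | e
    · exact hd1 (by rw [← hg, show g = 1 from e, one_pow])
    · exact hd1 (by rw [← hg, show g = d from e, sq, hd2])
  have hsq : (QuotientGroup.mk g' : ↥C ⧸ N) ^ 2 = 1 := by
    rw [← QuotientGroup.mk_pow, QuotientGroup.eq_one_iff]
    exact Subgroup.mem_subgroupOf.2 (by rw [Subgroup.coe_pow]; show g ^ 2 ∈ _; rw [hg]; exact Subgroup.mem_zpowers d)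
  obtain ⟨y, hy, e⟩ := hlift _ (orderOf_eq_prime hsq hne)
  have hy2 : (y : G) * (y : G) = 1 := by
    have h := pow_orderOf_eq_one y
    rw [hy, sq] at h
    rw [← Subgroup.coe_mul, h, Subgroup.coe_one]
  rcases hmem (g'⁻¹ * y) (QuotientGroup.eq.1 e.symm) with h | h
  · rw [Subgroup.coe_mul, Subgroup.coe_inv, inv_mul_eq_one] at h
    exact hd1 (by rw [← hg, show g = (y : G) from h, sq, hy2])
  · rw [Subgroup.coe_mul, Subgroup.coe_inv, inv_mul_eq_iff_eq_mul] at h
    have hc : Commute g d := Subgroup.mem_centralizer_singleton_iff.1 hgC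
    rw [h] at hy2
    refine hd1 ?_
    calc d = g ^ 2 * (d * d) := by rw [hd2, hg, mul_one]
      _ = g * (g * d) * d := by rw [sq]; group
      _ = g * (d * g) * d := by rw [hc.eq]
      _ = (g * d) * (g * d) := by group
      _ = 1 := hy2

end Cfsg.Agent.S5453
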