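import Cfsg.Statements.S5454
import Cfsg.Agent.Lib.U62Cover.Transfer

set_option autoImplicit false
open Cfsg

namespace Cfsg.Agent.S5454

/-- Let G be a finite group with an involution d whose centralizer C is quasisimple with C modulo the subgroup generated by d isomorphic to the projective special unitary group of dimension 6 over the field with four elements, and suppose some conjugate of d other than d commutes with d. Let S be a Sylow 2-subgroup of C and A the Thompson subgroup of S (generated by the elementary abelian subgroups of S of largest order), regarded as a subgroup of G. Then A is elementary abelian of order 2^10, exactly 22 conjugates of d lie in A, and the normalizer of A permutes them transitively. -/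
theorem result {G : Type*} [Group G] [Finite G] (d : G) (hd : orderOf d = 2) (hq : Cfsg.IsQuasisimple ↥(Subgroup.centralizer ({d} : Set G))) [hzn : ((Subgroup.zpowers d).subgroupOf (Subgroup.centralizer ({d} : Set G))).Normal] (K : Type) [Field K] [Fintype K] (hK : Fintype.card K = 4) (e : ↥(Subgroup.centralizer ({d} : Set G)) ⧸ (Subgroup.zpowers d).subgroupOf (Subgroup.centralizer ({d} : Set G)) ≃* Cfsg.PSU 6 K 2) (hnwc : ∃ g : G, g * d * g⁻¹ ∈ Subgroup.centralizer ({d} : Set G) ∧ g * d * g⁻¹ ≠ d) (S : Sylow 2 ↥(Subgroup.centralizer ({d} : Set G))) (A : Subgroup G) (hA : A = (Cfsg.thompsonSubgroupOf 2 (S : Subgroup ↥(Subgroup.centralizer ({d} : Set G)))).map (Subgroup.centralizer ({d} : Set G)).subtype) : Cfsg.IsElementaryAbelian 2 A ∧ Nat.card A = 2 ^ 10 ∧ Set.ncard {x : G | x ∈ A ∧ IsConj d x} = 22 ∧ ∀ x ∈ A, ∀ y ∈ A, IsConj d x → IsConj d y → ∃ n ∈ Subgroup.normalizer (A : Set G), n * x * n⁻¹ = y := by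
  revert S A hA
  set C := Subgroup.centralizer ({d} : Set G)
  intro S A hA
  set N := (Subgroup.zpowers d).subgroupOf C
  have hd2 : d * d = 1 := by
    have h := pow_orderOf_eq_one d
    rwa [hd, sq] at h
  have hmem : ∀ x : ↥C, x ∈ N → (x : G) = 1 ∨ (x : G) = d := by
    intro x hx
    obtain ⟨k, hk⟩ := Subgroup.mem_zpowers_iff.1 (Subgroup.mem_subgroupOf.1 hx)
    rw [← hk]
    rcases Int.even_or_odd' k with ⟨m, rfl | rfl⟩
    · left; rw [zpow_mul, zpow_two, hd2, one_zpow]
    · right; rw [zpow_add_one, zpow_mul, zpow_two, hd2, one_zpow, one_mul]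
  obtain ⟨ι⟩ := FischerPresented.U62.nonempty_psu_six_model hK
  let Φ := e.trans ι
  have hσ : ∀ x : ↥C, Φ.toMonoidHom.comp (QuotientGroup.mk' N) x = 1 ↔ x ∈ N := fun x => by
    rw [← QuotientGroup.eq_one_iff (N := N)]
    exact ⟨fun h => Φ.injective (h.trans (map_one _).symm), fun h => (congrArg Φ h).trans (map_one _)⟩
  exact U62Cover.thompson (U62Cover.main_univ (Φ.toMonoidHom.comp (QuotientGroup.mk' N))
    (Φ.surjective.comp (QuotientGroup.mk'_surjective N)) hd
    (fun x hx => (hσ x).2 (Subgroup.mem_subgroupOf.2 (hx ▸ Subgroup.mem_zpowers d)))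
    (fun x hx => hmem x ((hσ x).1 hx)) (by haveI := hq.1; exact Group.IsPerfect.commutator_eq_top) hnwc) S A hA

end Cfsg.Agent.S5454
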