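import Cfsg.Statements.S5456
import Cfsg.Agent.Lib.FischerUnique.InvolutionClasses
-- import your own Cfsg.Agent.* helpers here

set_option autoImplicit false
open Cfsg

namespace Cfsg.Agent.S5456

/-- Let G be a finite group with trivial centre generated by a conjugation-invariant set D of 3-transpositions on which it acts primitively, of type M(22), and suppose G also has an involution whose centralizer is quasisimple with quotient by it the projective special unitary group of dimension 6 over the field with four elements and which is not weakly closed in that centralizer. Then D is the only conjugacy class of 3-transpositions generating G. -/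
theorem result {G : Type*} [Group G] [Finite G] {D : Set G} (hD : Cfsg.IsThreeTranspositionGroup D) (hprim : Cfsg.IsPrimitiveUnderConj D) (h22 : Cfsg.IsOfTypeM22 G D) (hM : ∃ d : G, orderOf d = 2 ∧ Cfsg.IsQuasisimple ↥(Subgroup.centralizer ({d} : Set G)) ∧ (∃ (_ : ((Subgroup.zpowers d).subgroupOf (Subgroup.centralizer ({d} : Set G))).Normal) (K : Type) (_ : Field K) (_ : Fintype K), Fintype.card K = 4 ∧ Nonempty (↥(Subgroup.centralizer ({d} : Set G)) ⧸ (Subgroup.zpowers d).subgroupOf (Subgroup.centralizer ({d} : Set G)) ≃* Cfsg.PSU 6 K 2)) ∧ ∃ g : G, g * d * g⁻¹ ∈ Subgroup.centralizer ({d} : Set G) ∧ g * d * g⁻¹ ≠ d) (D' : Set G) (hD' : Cfsg.IsThreeTranspositionClass D') : D' = D := by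
  obtain ⟨Φ, hΦ⟩ := Cfsg.Agent.FischerUnique.exists_iso hD hprim h22
  obtain ⟨⟨hord, hpair⟩, ⟨x, hx, hconj⟩, hgen⟩ := hD'
  have hcl : Cfsg.IsThreeTranspositionClass (Φ.symm '' D') := by
    refine ⟨⟨?_, ?_⟩, ⟨Φ.symm x, ⟨x, hx, rfl⟩, ?_⟩, ?_⟩
    · rintro _ ⟨a, ha, rfl⟩
      rw [Φ.symm.orderOf_eq]; exact hord a ha
    · rintro _ ⟨a, ha, rfl⟩ _ ⟨b, hb, rfl⟩
      rcases hpair a ha b hb with h | h
      · left; rw [← map_mul, ← map_pow, h, map_one]
      · right; rw [← map_mul, ← map_pow, h, map_one]
    · ext y
      constructor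
      · rintro ⟨a, ha, rfl⟩
        rw [hconj] at ha
        exact Φ.symm.toMonoidHom.map_isConj ha
      · intro hy
        refine ⟨Φ y, ?_, Φ.symm_apply_apply y⟩
        rw [hconj]
        have : IsConj (Φ (Φ.symm x)) (Φ y) := Φ.toMonoidHom.map_isConj hy
        rwa [Φ.apply_symm_apply] at this
    · have h := (MonoidHom.map_closure Φ.symm.toMonoidHom D').symm
      rw [hgen, Subgroup.map_top_of_surjective _ Φ.symm.surjective] at h
      exact h
  have h := Cfsg.Agent.FischerPresented.Fi22Two.class_unique hcl
  rw [← hΦ, ← h, ← Set.image_comp]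
  simp

end Cfsg.Agent.S5456
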