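import Cfsg.Statements.S5458
import Cfsg.Agent.Lib.FischerUnique.InvolutionClasses
-- import your own Cfsg.Agent.* helpers here

set_option autoImplicit false
open Cfsg

namespace Cfsg.Agent.S5458

/-- Let G be a finite group with trivial centre generated by a conjugation-invariant set D of 3-transpositions on which it acts primitively, of type M(22), and suppose G also has an involution whose centralizer is quasisimple with quotient by it the projective special unitary group of dimension 6 over the field with four elements and which is not weakly closed in that centralizer. Let T be a Sylow 2-subgroup of G. Then the subgroup generated by the members of D lying in T is the Thompson subgroup of T (generated by the elementary abelian subgroups of T of largest order). -/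
theorem result {G : Type*} [Group G] [Finite G] {D : Set G} (hD : Cfsg.IsThreeTranspositionGroup D) (hprim : Cfsg.IsPrimitiveUnderConj D) (h22 : Cfsg.IsOfTypeM22 G D) (hM : ∃ d : G, orderOf d = 2 ∧ Cfsg.IsQuasisimple ↥(Subgroup.centralizer ({d} : Set G)) ∧ (∃ (_ : ((Subgroup.zpowers d).subgroupOf (Subgroup.centralizer ({d} : Set G))).Normal) (K : Type) (_ : Field K) (_ : Fintype K), Fintype.card K = 4 ∧ Nonempty (↥(Subgroup.centralizer ({d} : Set G)) ⧸ (Subgroup.zpowers d).subgroupOf (Subgroup.centralizer ({d} : Set G)) ≃* Cfsg.PSU 6 K 2)) ∧ ∃ g : G, g * d * g⁻¹ ∈ Subgroup.centralizer ({d} : Set G) ∧ g * d * g⁻¹ ≠ d) (T : Sylow 2 G) : Subgroup.closure {x : G | x ∈ D ∧ x ∈ (T : Subgroup G)} = Cfsg.thompsonSubgroupOf 2 (T : Subgroup G) := by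
  open Cfsg.Agent.FischerUnique Cfsg.Agent.FischerPresented in
  obtain ⟨Φ, hΦ⟩ := exists_iso hD hprim h22
  haveI : Fact (Nat.Prime 2) := ⟨Nat.prime_two⟩
  haveI : Finite (Cfsg.Agent.CosetCert.Setup.G Cfsg.Agent.CosetData.Fi22B.setup) :=
    Cfsg.Agent.FischerPresented.Fi22.order_facts.1
  obtain ⟨g, hg⟩ := Cfsg.Agent.FischerPresented.Fi22Two.sylow_conj
    (T.comapOfInjective Φ.toMonoidHom Φ.injective (by
      rw [MonoidHom.range_eq_top.2 Φ.surjective]; exact le_top))
  set ψ := (MulAut.conj g).trans Φ with hψ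
  have hT : (T : Subgroup G) = Cfsg.Agent.FischerPresented.Fi22Two.T0.map ψ.toMonoidHom := by
    have hg : (T : Subgroup G).comap Φ.toMonoidHom = _ := hg
    rw [← Subgroup.map_comap_eq_self_of_surjective (f := Φ.toMonoidHom) Φ.surjective (T : Subgroup G), hg,
      Subgroup.map_map]
    rfl
  have hDset : ∀ x, ψ x ∈ D ↔ x ∈ Cfsg.Agent.FischerPresented.Fi22Class.D := by
    intro x
    rw [← hΦ]
    show Φ (MulAut.conj g x) ∈ Φ '' _ ↔ _
    rw [Φ.injective.mem_set_image, Cfsg.Agent.FischerPresented.Fi22Class.mem_D,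
      Cfsg.Agent.FischerPresented.Fi22Class.mem_D, MulAut.conj_apply]
    constructor
    · rintro ⟨k, hk⟩
      refine ⟨g⁻¹ * k, ?_⟩
      calc g⁻¹ * k * Cfsg.Agent.FischerPresented.Fi22Class.z * (g⁻¹ * k)⁻¹
          = g⁻¹ * (k * Cfsg.Agent.FischerPresented.Fi22Class.z * k⁻¹) * g := by group
        _ = x := by rw [hk]; group
    · rintro ⟨k, hk⟩
      refine ⟨g * k, ?_⟩
      rw [← hk]; group
  have hset : {x : G | x ∈ D ∧ x ∈ (T : Subgroup G)} = ψ.toMonoidHom ''
      {x | x ∈ Cfsg.Agent.FischerPresented.Fi22Class.D ∧ x ∈ Cfsg.Agent.FischerPresented.Fi22Two.T0} := by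
    ext y
    constructor
    · rintro ⟨h1, h2⟩
      rw [hT] at h2
      obtain ⟨x, hx, rfl⟩ := h2
      exact ⟨x, ⟨(hDset x).1 h1, hx⟩, rfl⟩
    · rintro ⟨x, ⟨h1, h2⟩, rfl⟩
      exact ⟨(hDset x).2 h1, by rw [hT]; exact ⟨x, h2, rfl⟩⟩
  rw [hset, ← MonoidHom.map_closure, Cfsg.Agent.FischerPresented.Fi22Two.closure_D_T0]
  set A := Cfsg.Agent.FischerPresented.Fi22Two.A0.map ψ.toMonoidHom with hA
  have hAT : A ≤ (T : Subgroup G) := hT ▸ Subgroup.map_mono Cfsg.Agent.FischerPresented.Fi22Two.A0_le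
  have hel : ∀ {P Q : Type _} [Group P] [Group Q] (f : P →* Q) (B : Subgroup P),
      Cfsg.IsElementaryAbelian 2 B → Cfsg.IsElementaryAbelian 2 (B.map f) := by
    intro P Q _ _ f B hB
    refine ⟨⟨⟨fun x y => ?_⟩⟩, ?_⟩
    · obtain ⟨a, ha, hx⟩ := x.2
      obtain ⟨b, hb, hy⟩ := y.2
      refine Subtype.ext ?_
      show (x : Q) * y = y * x
      rw [← hx, ← hy, ← map_mul, ← map_mul]
      exact congrArg f (congrArg Subtype.val (hB.1.is_comm.comm ⟨a, ha⟩ ⟨b, hb⟩))
    · rintro _ ⟨a, ha, rfl⟩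
      rw [← map_pow, hB.2 a ha, map_one]
  have key : ∀ B : Subgroup G, B ≤ T → Cfsg.IsElementaryAbelian 2 B →
      Nat.card B ≤ 2 ^ 10 ∧ (Nat.card B = 2 ^ 10 → B = A) := by
    intro B hB he
    have hle : B.map ψ.symm.toMonoidHom ≤ Cfsg.Agent.FischerPresented.Fi22Two.T0 := by
      rintro _ ⟨a, ha, rfl⟩
      obtain ⟨t, ht, rfl⟩ := (hT ▸ hB ha : a ∈ Cfsg.Agent.FischerPresented.Fi22Two.T0.map ψ.toMonoidHom)
      simpa using ht
    have he' : Cfsg.IsElementaryAbelian 2 (B.map ψ.symm.toMonoidHom) := by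
      refine ⟨⟨⟨fun x y => ?_⟩⟩, ?_⟩
      · obtain ⟨a, ha, hx⟩ := x.2
        obtain ⟨b, hb, hy⟩ := y.2
        refine Subtype.ext ?_
        rw [Subgroup.coe_mul, Subgroup.coe_mul, ← hx, ← hy, ← map_mul, ← map_mul]
        exact congrArg ψ.symm (congrArg Subtype.val (he.1.is_comm.comm ⟨a, ha⟩ ⟨b, hb⟩))
      · rintro _ ⟨a, ha, rfl⟩
        rw [← map_pow, he.2 a ha, map_one]
    have h1 := Cfsg.Agent.FischerPresented.Fi22Two.elementary_le hle he'
    have h2 : Nat.card (B.map ψ.symm.toMonoidHom) = Nat.card B :=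
      Subgroup.card_map_of_injective ψ.symm.injective
    refine ⟨h2 ▸ h1.1, fun hc => ?_⟩
    rw [hA, ← h1.2 (h2.trans hc), Subgroup.map_map]
    ext x
    simp
  have hAel : Cfsg.IsElementaryAbelian 2 A := by
    obtain ⟨hc, hs⟩ := Cfsg.Agent.FischerPresented.Fi22Two.A0_elementary
    refine ⟨⟨⟨fun x y => ?_⟩⟩, ?_⟩
    · obtain ⟨a, ha, hx⟩ := x.2
      obtain ⟨b, hb, hy⟩ := y.2
      refine Subtype.ext ?_
      rw [Subgroup.coe_mul, Subgroup.coe_mul, ← hx, ← hy, ← map_mul, ← map_mul]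
      exact congrArg ψ (congrArg Subtype.val (hc.is_comm.comm ⟨a, ha⟩ ⟨b, hb⟩))
    · rintro _ ⟨a, ha, rfl⟩
      rw [← map_pow, hs a ha, map_one]
  have hAc : Nat.card A = 2 ^ 10 :=
    (Subgroup.card_map_of_injective ψ.injective).trans Cfsg.Agent.FischerPresented.Fi22Two.card_A0
  have hsub : ∀ B : Subgroup (T : Subgroup G), Cfsg.IsElementaryAbelian 2 B →
      Cfsg.IsElementaryAbelian 2 (B.map (T : Subgroup G).subtype) := fun B hB => hel _ B hB
  have hAT' : Cfsg.IsElementaryAbelian 2 (A.subgroupOf (T : Subgroup G)) := by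
    refine ⟨⟨⟨fun x y => ?_⟩⟩, fun x hx => ?_⟩
    · have hx : ((x : (T : Subgroup G)) : G) ∈ A := x.2
      have hy : ((y : (T : Subgroup G)) : G) ∈ A := y.2
      have h := congrArg Subtype.val (hAel.1.is_comm.comm (⟨_, hx⟩ : A) ⟨_, hy⟩)
      apply Subtype.ext
      apply Subtype.ext
      simpa [Subgroup.coe_mul] using h
    · exact Subtype.ext (hAel.2 _ hx)
  have hmax : Cfsg.maxElementaryAbelianSubgroups 2 (T : Subgroup G) = {A.subgroupOf (T : Subgroup G)} := by
    ext B
    simp only [Cfsg.maxElementaryAbelianSubgroups, Set.mem_ofPred_eq, Set.mem_singleton_iff]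
    have hcA : Nat.card (A.subgroupOf (T : Subgroup G)) = 2 ^ 10 :=
      (Nat.card_congr (Subgroup.subgroupOfEquivOfLe hAT).toEquiv).trans hAc
    have hcB : ∀ C : Subgroup (T : Subgroup G),
        Nat.card (C.map (T : Subgroup G).subtype) = Nat.card C := fun C =>
      Subgroup.card_map_of_injective (T : Subgroup G).subtype_injective
    constructor
    · rintro ⟨hB, hBmax⟩
      have h1 := key _ (Subgroup.map_subtype_le B) (hsub B hB)
      have h2 := hBmax _ hAT'
      rw [hcA, ← hcB] at h2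
      have h3 := h1.2 (le_antisymm h1.1 h2)
      rw [← h3]
      exact (Subgroup.comap_map_eq_self_of_injective (T : Subgroup G).subtype_injective B).symm
    · rintro rfl
      refine ⟨hAT', fun C hC => ?_⟩
      rw [hcA, ← hcB]
      exact (key _ (Subgroup.map_subtype_le C) (hsub C hC)).1
  rw [Cfsg.thompsonSubgroupOf, Cfsg.thompsonSubgroup, hmax, sSup_singleton, Subgroup.map_subgroupOf_eq_of_le hAT]

end Cfsg.Agent.S5458
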