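import Cfsg.Statements.S5459
import Mathlib.GroupTheory.Sylow
import Mathlib.GroupTheory.IsPerfect

set_option autoImplicit false
open Cfsg

namespace Cfsg.Agent.S5459

open scoped commutatorElement


/-- Let G be a finite group with a quasisimple normal subgroup L and an involution d such that G is generated by L and d, the centre of L has odd order, and d inverts every element of the centre of L. If the commuting graph on the conjugacy class of the image of d in G modulo the centre of L is connected, then the commuting graph on the conjugacy class of d is connected. -/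
theorem result {G : Type*} [Group G] [Finite G] (L : Subgroup G) [L.Normal] (hL : Cfsg.IsQuasisimple ↥L) (d : G) (hd : orderOf d = 2) (hgen : L ⊔ Subgroup.zpowers d = ⊤) (hodd : Odd (Nat.card ↥(Subgroup.center ↥L))) (hinv : ∀ c ∈ (Subgroup.center ↥L).map L.subtype, d * c * d⁻¹ = c⁻¹) [hn : ((Subgroup.center ↥L).map L.subtype).Normal] (hconn : (Cfsg.commutingGraph (conjugatesOf (QuotientGroup.mk d : G ⧸ (Subgroup.center ↥L).map L.subtype))).Connected) : (Cfsg.commutingGraph (conjugatesOf d)).Connected := by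
  set Z := (Subgroup.center ↥L).map L.subtype with hZdef
  set D := conjugatesOf d with hDdef
  have hZodd : Odd (Nat.card ↥Z) := by rwa [Subgroup.card_map_of_injective L.subtype_injective]
  have hdd : d * d = 1 := by rw [← pow_two, ← hd, pow_orderOf_eq_one]
  have hconjD : ∀ x ∈ D, ∀ g : G, g * x * g⁻¹ ∈ D := fun x hx g =>
    IsConj.trans (show IsConj d x from hx) (isConj_iff.2 ⟨g, rfl⟩)
  have hDinv : ∀ x ∈ D, x * x = 1 := by
    intro x hx
    obtain ⟨g, rfl⟩ := isConj_iff.1 ((show IsConj d _ from hx))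
    calc g * d * g⁻¹ * (g * d * g⁻¹) = g * (d * d) * g⁻¹ := by group
      _ = 1 := by rw [hdd, mul_one, mul_inv_cancel]
  -- every member of the class inverts the centre
  have hDZ : ∀ x ∈ D, ∀ c ∈ Z, x * c * x⁻¹ = c⁻¹ := by
    intro x hx c hc
    obtain ⟨g, rfl⟩ := isConj_iff.1 ((show IsConj d _ from hx))
    have h := hinv _ (hn.conj_mem c hc g⁻¹)
    calc g * d * g⁻¹ * c * (g * d * g⁻¹)⁻¹ = g * (d * (g⁻¹ * c * g⁻¹⁻¹) * d⁻¹) * g⁻¹ := by group
      _ = c⁻¹ := by rw [h]; group
  have hsqrt : ∀ c ∈ Z, ∃ e ∈ Z, e * e = c := by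
    intro c hc
    obtain ⟨m, hm⟩ := hZodd
    refine ⟨c ^ (m + 1), pow_mem hc _, ?_⟩
    rw [← pow_add, show m + 1 + (m + 1) = Nat.card ↥Z + 1 by omega, pow_succ]
    have := congrArg Subtype.val (pow_card_eq_one' (x := (⟨c, hc⟩ : ↥Z)))
    rw [Subgroup.coe_pow] at this
    rw [this, Subgroup.coe_one, one_mul]
  have hDmul : ∀ x ∈ D, ∀ c ∈ Z, x * c ∈ D := by
    intro x hx c hc
    obtain ⟨e, he, hee⟩ := hsqrt c hc
    have h := hconjD x hx e⁻¹
    have h1 : x * e = e⁻¹ * x := by
      rw [← hDZ x hx e he]; group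
    convert h using 1
    rw [inv_inv, ← h1, mul_assoc, hee]
  set π := QuotientGroup.mk' Z
  have hlift : ∀ x ∈ D, ∀ y ∈ D, Commute (π x) (π y) → ∃ e ∈ Z, Commute x (y * e) := by
    intro x hx y hy hxy
    have hmem : y⁻¹ * (x * y * x⁻¹) ∈ Z := by
      rw [← QuotientGroup.eq_one_iff]
      show π (y⁻¹ * (x * y * x⁻¹)) = 1
      simp only [map_mul, map_inv]
      rw [hxy.eq]; group
    obtain ⟨e, he, hee⟩ := hsqrt _ hmem
    refine ⟨e, he, ?_⟩
    show x * (y * e) = y * e * x
    rw [← mul_inv_eq_iff_eq_mul]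
    calc x * (y * e) * x⁻¹ = (x * y * x⁻¹) * (x * e * x⁻¹) := by group
      _ = y * (e * e) * e⁻¹ := by rw [hDZ x hx e he, hee]; group
      _ = y * e := by group
  have hπD : ∀ x ∈ D, π x ∈ conjugatesOf (π d) := fun x hx => by
    obtain ⟨g, rfl⟩ := isConj_iff.1 ((show IsConj d _ from hx))
    exact (isConj_iff.2 ⟨π g, by simp⟩)
  have hsurj : ∀ q ∈ conjugatesOf (π d), ∃ y ∈ D, π y = q := fun q hq => by
    obtain ⟨t, rfl⟩ := isConj_iff.1 (show IsConj (π d) q from hq)
    obtain ⟨g, rfl⟩ := QuotientGroup.mk'_surjective Z t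
    exact ⟨g * d * g⁻¹, (isConj_iff.2 ⟨g, rfl⟩), by simp [π]⟩
  have hdD : d ∈ D := IsConj.refl _
  set Γ := Cfsg.commutingGraph D
  have hpath : ∀ q : conjugatesOf (π d), ∃ y : D, π (y : G) = (q : G ⧸ Z) ∧
      Γ.Reachable ⟨d, hdD⟩ y := by
    intro q
    obtain ⟨w⟩ := hconn.preconnected ⟨π d, hπD d hdD⟩ q
    suffices ∀ (p q : conjugatesOf (π d)), (Cfsg.commutingGraph (conjugatesOf (π d))).Walk p q →
        ∀ x : D, π (x : G) = p → ∃ y : D, π (y : G) = q ∧ Γ.Reachable x y from
      this _ _ w ⟨d, hdD⟩ rfl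
    intro p q w
    induction w with
    | nil => exact fun x hx => ⟨x, hx, SimpleGraph.Reachable.refl _⟩
    | @cons p' q' r' hadj w' ih =>
      intro x hx
      obtain ⟨y, hy, hyq⟩ := hsurj _ q'.2
      have hcom : Commute (π (x : G)) (π y) := by
        rw [hx, hyq]
        rw [Cfsg.commutingGraph, SimpleGraph.fromRel_adj] at hadj
        exact hadj.2.elim id Commute.symm
      obtain ⟨e, he, hxe⟩ := hlift _ x.2 y hy hcom
      have hπe : π (y * e) = (q' : G ⧸ Z) := by
        rw [map_mul, hyq, (QuotientGroup.eq_one_iff e).2 he |> fun h => (show π e = 1 from h),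
          mul_one]
      obtain ⟨z, hz, hr⟩ := ih ⟨y * e, hDmul y hy e he⟩ hπe
      refine ⟨z, hz, (SimpleGraph.Adj.reachable ?_).trans hr⟩
      show Γ.Adj x ⟨y * e, hDmul y hy e he⟩
      rw [show Γ = Cfsg.commutingGraph D from rfl, Cfsg.commutingGraph, SimpleGraph.fromRel_adj]
      refine ⟨fun h => hadj.ne (Subtype.ext ?_), Or.inl hxe⟩
      rw [← hx, ← hπe, h]
  let act : G → D → D := fun g x => ⟨g * x * g⁻¹, hconjD _ x.2 g⟩
  have hact : ∀ g (x y : D), Γ.Reachable x y → Γ.Reachable (act g x) (act g y) := fun g x y h =>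
    h.map ⟨act g, fun {a b} hab => by
      rw [show Γ = Cfsg.commutingGraph D from rfl, Cfsg.commutingGraph, SimpleGraph.fromRel_adj] at hab ⊢
      refine ⟨fun h => hab.1 (Subtype.ext ?_), ?_⟩
      · simpa [act] using congrArg Subtype.val h
      · exact hab.2.imp (fun h => h.map (MulAut.conj g).toMonoidHom)
          (fun h => h.map (MulAut.conj g).toMonoidHom)⟩
  have act1 : ∀ x, act 1 x = x := fun x => Subtype.ext (by simp [act])
  have actmul : ∀ g h x, act (g * h) x = act g (act h x) := fun g h x =>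
    Subtype.ext (by simp [act, mul_assoc])
  let M : Subgroup G :=
    { carrier := {g | Γ.Reachable ⟨d, hdD⟩ (act g ⟨d, hdD⟩)}
      one_mem' := by show Γ.Reachable _ _; rw [act1]
      mul_mem' := by
        intro g h hg hh
        show Γ.Reachable _ _
        rw [actmul]
        exact SimpleGraph.Reachable.trans hg (hact g _ _ hh)
      inv_mem' := by
        intro g hg
        show Γ.Reachable _ _
        have := hact g⁻¹ _ _ hg
        rw [← actmul, inv_mul_cancel, act1] at this
        exact this.symm }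
  have hMcent : ∀ g, Commute g d → g ∈ M := fun g hg => by
    show Γ.Reachable _ _
    rw [show act g ⟨d, hdD⟩ = ⟨d, hdD⟩ from Subtype.ext (by simp [act, hg.eq])]
  have hMZ : ∀ g, ∃ e ∈ Z, g * e ∈ M := by
    intro g
    obtain ⟨⟨y, hy⟩, hyq, hr⟩ := hpath ⟨π (g * d * g⁻¹), hπD _ (hconjD d hdD g)⟩
    obtain ⟨g', hg'⟩ := isConj_iff.1 (show IsConj d y from hy)
    have hg'M : g' ∈ M := by
      show Γ.Reachable _ _
      rwa [show act g' ⟨d, hdD⟩ = ⟨y, hy⟩ from Subtype.ext hg']
    -- the quotient elements differ by a centralizer of the image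
    have hc : Commute (π (g'⁻¹ * g)) (π d) := by
      have hyq : π y = π (g * d * g⁻¹) := hyq
      rw [← hg'] at hyq
      simp only [map_mul, map_inv] at hyq ⊢
      rw [Commute, SemiconjBy]
      calc (π g')⁻¹ * π g * π d = (π g')⁻¹ * (π g * π d * (π g)⁻¹) * π g := by group
        _ = (π g')⁻¹ * (π g' * π d * (π g')⁻¹) * π g := by rw [hyq]
        _ = _ := by group
    set t := g'⁻¹ * g
    have hmem : d⁻¹ * (t * d * t⁻¹) ∈ Z := by
      rw [← QuotientGroup.eq_one_iff]
      show π (d⁻¹ * (t * d * t⁻¹)) = 1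
      simp only [map_mul, map_inv]
      rw [hc.eq]; group
    obtain ⟨e, he, hee⟩ := hsqrt _ hmem
    -- e commutes with t up to the centre, correct t by e
    refine ⟨t⁻¹ * e * t, by simpa using hn.conj_mem e he t⁻¹, ?_⟩
    have : g * (t⁻¹ * e * t) = g' * (e * t) := by simp [t, mul_assoc]
    rw [this]
    refine mul_mem hg'M (hMcent _ ?_)
    show e * t * d = d * (e * t)
    have htd : t * d = d * (e * e) * t := by rw [hee]; group
    have hde : d * e = e⁻¹ * d := by rw [← hinv e he]; group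
    calc e * t * d = e * (d * (e * e) * t) := by rw [mul_assoc, htd]
      _ = e * (d * e) * (e * t) := by group
      _ = e * (e⁻¹ * d) * (e * t) := by rw [hde]
      _ = d * (e * t) := by group
  have hLM : L ≤ M := by
    haveI := hL.1
    have hp : commutator ↥L = ⊤ := Group.IsPerfect.commutator_eq_top
    have hle : commutator ↥L ≤ M.subgroupOf L := by
      rw [commutator_def, Subgroup.commutator_le]
      intro a _ b _
      obtain ⟨e, he, hae⟩ := hMZ a
      obtain ⟨f, hf, hbf⟩ := hMZ b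
      obtain ⟨⟨e', he'L⟩, hec, rfl⟩ := he
      obtain ⟨⟨f', hf'L⟩, hfc, rfl⟩ := hf
      have key : ⁅a, b⁆ = ⁅a * ⟨e', he'L⟩, b * ⟨f', hf'L⟩⁆ := by
        have h1 := Subgroup.mem_center_iff.1 hec
        have h2 := Subgroup.mem_center_iff.1 hfc
        set u : ↥L := ⟨e', he'L⟩
        set v : ↥L := ⟨f', hf'L⟩
        rw [commutatorElement_def, commutatorElement_def, mul_inv_rev, mul_inv_rev]
        calc a * b * a⁻¹ * b⁻¹ = a * b * (v * (u * u⁻¹) * a⁻¹ * v⁻¹) * b⁻¹ := by
              rw [mul_inv_cancel, mul_one, ← h2 a⁻¹, mul_inv_cancel_right]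
          _ = a * (b * v * u) * u⁻¹ * a⁻¹ * v⁻¹ * b⁻¹ := by group
          _ = a * (u * (b * v)) * u⁻¹ * a⁻¹ * v⁻¹ * b⁻¹ := by rw [h1 (b * v)]
          _ = _ := by group
      rw [key, Subgroup.mem_subgroupOf, commutatorElement_def]
      push_cast
      exact mul_mem (mul_mem (mul_mem hae hbf) (inv_mem hae)) (inv_mem hbf)
    rw [hp] at hle
    intro l hl
    exact hle (Subgroup.mem_top (⟨l, hl⟩ : ↥L))
  have hMtop : M = ⊤ := by
    rw [eq_top_iff, ← hgen, sup_le_iff, Subgroup.zpowers_le]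
    exact ⟨hLM, hMcent d (Commute.refl d)⟩
  haveI : Nonempty D := ⟨⟨d, hdD⟩⟩
  have hall : ∀ x : D, Γ.Reachable ⟨d, hdD⟩ x := fun x => by
    obtain ⟨g, hg⟩ := isConj_iff.1 (show IsConj d (x : G) from x.2)
    have : g ∈ M := hMtop ▸ Subgroup.mem_top g
    rwa [← show act g ⟨d, hdD⟩ = x from Subtype.ext hg]
  exact ⟨fun x y => (hall x).symm.trans (hall y)⟩

end Cfsg.Agent.S5459
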