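import Cfsg.Statements.S5460
import Cfsg.Agent.Lib.LargeFischer.PairOuter
-- import your own Cfsg.Agent.* helpers here

set_option autoImplicit false
open Cfsg

namespace Cfsg.Agent.S5460

open Cfsg.Agent.LargeFischer Cfsg.Agent.LargeFischer.Six

/-- Let X be a finite group with a subgroup G₀ of index 2 that is of large Fischer type at an involution z central in some Sylow 2-subgroup of G₀ (the generalized Fitting subgroup Q of the centralizer C of z in G₀ is extraspecial of order 2^13, C has normal subgroups Q ≤ H₁ ≤ H₂ with H₁/Q of order 3, H₂/H₁ isomorphic to the projective special unitary group of dimension 4 over the field with nine elements and H₂ of index 2 in C, and some G₀-conjugate of z other than z lies in Q), and suppose the generalized Fitting subgroup of the centralizer of z in X is Q as well. Then there is an involution d of X outside G₀ commuting with z, and an involution t of the centralizer Y of d in G₀, such that: the centralizer of t in Y is quasisimple; its quotient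 by the subgroup generated by t is of type M(22) for some generating conjugacy class of 3-transpositions and has an involution whose own centralizer is quasisimple, with quotient by it the projective special unitary group of dimension 6 over the field with four elements, and which is not weakly closed in that centralizer; t is not weakly closed in its centralizer in Y; and the conjugacy class of t in Y is a class of 3-transpositions generating Y with respect to which Y is of type M(23). -/
theorem result {X : Type*} [Group X] [Finite X] (G₀ : Subgroup X) (hidx : G₀.index = 2) (z : ↥G₀) (Q : Subgroup (Subgroup.centralizer ({z} : Set ↥G₀))) [Q.Normal] (hF : Cfsg.IsOfLargeFischerTypeAt z Q) (hcentral : ∃ P : Sylow 2 ↥G₀, z ∈ (P : Subgroup ↥G₀) ∧ ∀ x ∈ (P : Subgroup ↥G₀), Commute x z) (hFX : (Cfsg.generalizedFittingSubgroup ↥(Subgroup.centralizer ({(z : X)} : Set X))).map (Subgroup.subtype _) = ((Q.map (Subgroup.subtype _)).map G₀.subtype)) : ∃ d : X, orderOf d = 2 ∧ d ∉ G₀ ∧ Commute d (z :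 X) ∧ ∃ t : ↥(G₀ ⊓ Subgroup.centralizer ({d} : Set X)), orderOf t = 2 ∧ Cfsg.IsQuasisimple ↥(Subgroup.centralizer ({t} : Set ↥(G₀ ⊓ Subgroup.centralizer ({d} : Set X)))) ∧ (∃ (_ : ((Subgroup.zpowers t).subgroupOf (Subgroup.centralizer ({t} : Set ↥(G₀ ⊓ Subgroup.centralizer ({d} : Set X))))).Normal), (∃ E : Set (↥(Subgroup.centralizer ({t} : Set ↥(G₀ ⊓ Subgroup.centralizer ({d} : Set X)))) ⧸ (Subgroup.zpowers t).subgroupOf (Subgroup.centralizer ({t} : Set ↥(G₀ ⊓ Subgroup.centralizer ({d} : Set X))))), Cfsg.IsThreeTranspositionClass E ∧ Cfsg.IsOfTypeM22 _ E) ∧ ∃ d' : ↥(Subgroup.centralizer ({t} : Set ↥(G₀ ⊓ Subgroup.centralizer ({d} : Set X)))) ⧸ (Subgroup.zpowers t).subgroupOf (Subgroup.centralizer ({t} : Set ↥(G₀ ⊓ Subgroup.centralizer ({d} : Set X)))), orderOf d' = 2 ∧ Cfsg.IsQuasisimple ↥(Subgroup.centralizer ({d'} : Set _)) ∧ (∃ (K : Type) (_ : Field K) (_ : Fintype K), Fintype.card K = 4 ∧ ∃ _ : ((Subgroup.zpowers d').subgroupOf (Subgroup.centralizer ({d'} : Set _))).Normal, Nonempty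 (↥(Subgroup.centralizer ({d'} : Set _)) ⧸ (Subgroup.zpowers d').subgroupOf (Subgroup.centralizer ({d'} : Set _)) ≃* Cfsg.PSU 6 K 2)) ∧ ∃ g, g * d' * g⁻¹ ∈ Subgroup.centralizer ({d'} : Set _) ∧ g * d' * g⁻¹ ≠ d') ∧ (∃ g : ↥(G₀ ⊓ Subgroup.centralizer ({d} : Set X)), g * t * g⁻¹ ∈ Subgroup.centralizer ({t} : Set ↥(G₀ ⊓ Subgroup.centralizer ({d} : Set X))) ∧ g * t * g⁻¹ ≠ t) ∧ Cfsg.IsThreeTranspositionClass (conjugatesOf t) ∧ Cfsg.IsOfTypeM23 ↥(G₀ ⊓ Subgroup.centralizer ({d} : Set X)) (conjugatesOf t) := by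
  obtain ⟨S⟩ := exists_data hF
  obtain ⟨d, hd, hd0, hdz, t, hto, ht, ⟨K, hK, eK, heK⟩, hnwc⟩ := S.fi23_type hidx hcentral hFX
  refine ⟨d, hd, hd0, hdz, t, hto, ?_⟩
  obtain ⟨ι⟩ := hK.iso
  set N := (Subgroup.zpowers t).subgroupOf (Subgroup.centralizer ({t} : Set ↥(G₀ ⊓ Subgroup.centralizer ({d} : Set X))))
    with hN
  have hqs : Cfsg.IsQuasisimple ↥(Subgroup.centralizer ({t} : Set ↥(G₀ ⊓ Subgroup.centralizer ({d} : Set X)))) := by
    have hc : (Subgroup.center ↥K).map eK.toMonoidHom = Subgroup.center _ := Qd.map_center_eq eK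
    refine ⟨⟨?_⟩, (QuotientGroup.congr _ _ eK hc).isSimpleGroup_congr.1 hK.qs.2⟩
    rw [← Subgroup.map_top_of_surjective eK.toMonoidHom eK.surjective, ← hK.qs.1.commutator_eq_top, commutator_def,
      commutator_def, Subgroup.map_commutator, Subgroup.map_top_of_surjective eK.toMonoidHom eK.surjective]
  have hmap : (S.Zt.subgroupOf K).map eK.toMonoidHom = N := by
    have key : ∀ (k : ↥K) (n : ℤ), t ^ n = (eK k).1 ↔ S.eg 2 ^ n = k.1.1 := fun k n => by
      constructor
      · intro h
        refine Subtype.ext ?_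
        have h' := congrArg Subtype.val h
        rw [SubgroupClass.coe_zpow, heK, ht] at h'
        rw [SubgroupClass.coe_zpow]
        exact h'
      · intro h
        refine Subtype.ext ?_
        rw [SubgroupClass.coe_zpow, heK, ht, ← SubgroupClass.coe_zpow, h]
    ext y
    obtain ⟨k, rfl⟩ := eK.surjective y
    rw [Subgroup.mem_map_equiv, MulEquiv.symm_apply_apply, Subgroup.mem_subgroupOf, Subgroup.mem_subgroupOf, hN,
      Subgroup.mem_subgroupOf, Subgroup.mem_zpowers_iff, Subgroup.mem_zpowers_iff]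
    exact exists_congr fun n => (key k n).symm
  haveI hNn : N.Normal := by
    rw [← hmap, hK.center_eq, Qd.map_center_eq eK]
    infer_instance
  let θ : ↥(Subgroup.centralizer ({t} : Set ↥(G₀ ⊓ Subgroup.centralizer ({d} : Set X)))) ⧸ N ≃* Fi22Local.GG :=
    (QuotientGroup.congr _ _ eK hmap).symm.trans ι
  let σ := θ.toMonoidHom.comp (QuotientGroup.mk' N)
  have hσ : ∀ x, σ x = 1 ↔ x ∈ N := fun x => by
    rw [← QuotientGroup.eq_one_iff (N := N)]
    exact ⟨fun h => θ.injective (h.trans (map_one _).symm), fun h => (congrArg θ h).trans (map_one _)⟩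
  have ht2 : t * t = 1 := by rw [← pow_two, ← hto]; exact pow_orderOf_eq_one t
  obtain ⟨Ψ, hΨ⟩ := FischerM23Recog.exists_mulEquiv σ (θ.surjective.comp (QuotientGroup.mk'_surjective N)) hto
    (fun x hx => (hσ x).2 (Subgroup.mem_subgroupOf.2 (by rw [hx]; exact Subgroup.mem_zpowers t)))
    (fun x hx => by
      obtain ⟨n, hn⟩ := Subgroup.mem_zpowers_iff.1 (Subgroup.mem_subgroupOf.1 ((hσ x).1 hx))
      rw [← hn]
      rcases Int.even_or_odd' n with ⟨m, rfl | rfl⟩
      · left; rw [zpow_mul, zpow_two, ht2, one_zpow]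
      · right; rw [zpow_add_one, zpow_mul, zpow_two, ht2, one_zpow, one_mul])
    hqs.1.commutator_eq_top hnwc
  obtain ⟨h1, h2⟩ := PairGG.facts θ.symm
  exact ⟨hqs, ⟨hNn, h1, h2⟩, hnwc, Fi23Type.isClass_map Ψ hΨ, Fi23Type.type_m23 Ψ hΨ⟩

end Cfsg.Agent.S5460
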