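import Cfsg.Statements.S5462
import Cfsg.Agent.Lib.FischerUnique.Unique
import Cfsg.Agent.Lib.FischerPresented.Fi22Outer
-- import your own Cfsg.Agent.* helpers here

set_option autoImplicit false
open Cfsg

namespace Cfsg.Agent.S5462

/-- Let G be a finite group with trivial centre generated by a conjugation-invariant set D of 3-transpositions on which it acts primitively, such that for some d in D the subgroup generated by the members of D other than d commuting with d has central largest normal 2- and 3-subgroups, and suppose G with D is of type M(22). Then every automorphism of G of order 2 fixes some member of D. -/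
theorem result {G : Type*} [Group G] [Finite G] {D : Set G} (hD : Cfsg.IsThreeTranspositionGroup D) (hprim : Cfsg.IsPrimitiveUnderConj D) (d₀ : G) (hd₀ : d₀ ∈ D) (h3 : Cfsg.pCore 3 ↥(Subgroup.closure {y : G | y ∈ D ∧ y ≠ d₀ ∧ Commute d₀ y}) ≤ Subgroup.center ↥(Subgroup.closure {y : G | y ∈ D ∧ y ≠ d₀ ∧ Commute d₀ y})) (h2 : Cfsg.pCore 2 ↥(Subgroup.closure {y : G | y ∈ D ∧ y ≠ d₀ ∧ Commute d₀ y}) ≤ Subgroup.center ↥(Subgroup.closure {y : G | y ∈ D ∧ y ≠ d₀ ∧ Commute d₀ y})) (h22 : Cfsg.IsOfTypeM22 G D) (φ : MulAut G) (hφ : orderOf φ = 2) : ∃ d ∈ D, φ d = d := by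
  obtain ⟨Φ, hΦ⟩ := Cfsg.Agent.FischerUnique.exists_iso hD hprim h22
  let ψ : MulAut (Cfsg.Agent.CosetCert.Setup.G Cfsg.Agent.CosetData.Fi22B.setup) :=
    (MulAut.congr Φ).symm φ
  have hψ : orderOf ψ = 2 := by
    rw [← hφ]
    exact MulEquiv.orderOf_eq (MulAut.congr Φ).symm φ
  obtain ⟨d, hd, hfix⟩ := Cfsg.Agent.FischerPresented.Fi22Outer.fixes_some ψ hψ
  refine ⟨Φ d, hΦ ▸ ⟨d, hd, rfl⟩, Φ.symm.injective ?_⟩
  rw [Φ.symm_apply_apply]
  exact hfix

end Cfsg.Agent.S5462
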