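import Cfsg.Statements.S5467
import Cfsg.Agent.Lib.FischerQuad.Main
import Cfsg.Agent.Lib.FischerUnique24.FourProduct
import Cfsg.Agent.Lib.FischerLocal24.Chart
import Cfsg.Agent.S5375
-- import your own Cfsg.Agent.* helpers here

set_option autoImplicit false
open Cfsg

namespace Cfsg.Agent.S5467

/-- Let G be a finite group with trivial centre generated by a conjugation-invariant set D of 3-transpositions on which it acts primitively, such that for some d in D the subgroup generated by the members of D other than d commuting with d has central largest normal 2- and 3-subgroups, and suppose G with D is of type M(24), and let L be the commutator subgroup of G. Let z be the product of four distinct pairwise commuting members of D (an involution of L) and C its centralizer in L. Then the generalized Fitting subgroup Q of C is extraspecial of order 2^13, and C has normal subgroups Q ≤ N ≤ M with N/Q of order 3, M/N isomorphic to the projective special unitary group of dimension 4 over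 the field with nine elements, and M of index 2 in C. -/
theorem result {G : Type*} [Group G] [Finite G] {D : Set G} (hD : Cfsg.IsThreeTranspositionGroup D) (hprim : Cfsg.IsPrimitiveUnderConj D) (d₀ : G) (hd₀ : d₀ ∈ D) (h3 : Cfsg.pCore 3 ↥(Subgroup.closure {y : G | y ∈ D ∧ y ≠ d₀ ∧ Commute d₀ y}) ≤ Subgroup.center ↥(Subgroup.closure {y : G | y ∈ D ∧ y ≠ d₀ ∧ Commute d₀ y})) (h2 : Cfsg.pCore 2 ↥(Subgroup.closure {y : G | y ∈ D ∧ y ≠ d₀ ∧ Commute d₀ y}) ≤ Subgroup.center ↥(Subgroup.closure {y : G | y ∈ D ∧ y ≠ d₀ ∧ Commute d₀ y})) (h24 : Cfsg.IsOfTypeM24 G D) (L : Subgroup G) (hL : L = commutator G) (z : G) (l : List G) (hl : (l.Nodup ∧ l.length = 4 ∧ (∀ a ∈ l, a ∈ D) ∧ (∀ a ∈ l, ∀ b ∈ l, Commute a b) ∧ l.prod = z)) (C : Subgroup G) (hC : C = L ⊓ Subgroup.centralizer ({z} : Set G)) : ∃ (Q : Subgroup ↥C) (_ : Q.Normal), Cfsg.generalizedFittingSubgroup ↥C = Q ∧ Cfsg.IsExtraspecial 2 ↥Q ∧ Nat.card Q = 2 ^ 13 ∧ ∃ (N M : Subgroup ↥C) (_ : N.Normal) (_ : M.Normal), Q ≤ N ∧ N ≤ M ∧ Nat.card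 N = 3 * Nat.card Q ∧ (∃ (K : Type) (_ : Field K) (_ : Fintype K), Fintype.card K = 9 ∧ Nonempty (↥M ⧸ N.subgroupOf M ≃* Cfsg.PSU 4 K 3)) ∧ M.index = 2 := by
  subst hL
  obtain ⟨h1, h2', h3', -, h5⟩ := Cfsg.Agent.S5375.result hD hprim h24
  have O : Cfsg.Agent.FischerLocal24.OrderData G D := ⟨h1, h2', h3', h5⟩
  have F := Cfsg.Agent.FischerInvol24.facts_of_type hD hprim hd₀ h3 h2 h24
  obtain ⟨d', -, C'⟩ := Cfsg.Agent.FischerUnique24.exists_ctx hD hprim h24
  have V : Cfsg.Agent.FischerQuad.Env D := ⟨F, fun t ht => C'.card_four F ht⟩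
  obtain ⟨hn, hlen, hlD, hlc, hlp⟩ := hl
  match l, hlen with
  | [a, b, c, e], _ =>
    exact V.main (a := a) (b := b) (c := c) (e := e) ⟨hn, hlD, hlc, hlp⟩ (commutator G)
      (by rw [Cfsg.Agent.FischerLocal24.commutator_eq_layer h1]; exact h1)
      (fun d hd => Cfsg.Agent.FischerLocal24.not_mem_commutator hD hprim.1 O hd) C hC

end Cfsg.Agent.S5467
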