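import Cfsg.Statements.S5468
import Cfsg.Agent.Lib.FischerUnique23.Pair

set_option autoImplicit false
open Cfsg

namespace Cfsg.Agent.S5468

theorem index_and_center {G : Type*} [Group G] [Finite G] {D : Set G} (hD : Cfsg.IsThreeTranspositionGroup D)
    (hprim : Cfsg.IsPrimitiveUnderConj D) {d₁ d₂ : G} (h₁ : d₁ ∈ D) (h₂ : d₂ ∈ D) (hne : d₁ ≠ d₂)
    (hc : Commute d₁ d₂) {K C V : Subgroup G} (hK : K = Subgroup.centralizer ({d₁, d₂} : Set G))
    (hC : C = Subgroup.centralizer ({d₁ * d₂} : Set G)) (hV : V = Subgroup.closure ({d₁, d₂} : Set G))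
    (hcen : (Subgroup.center ↥K).map K.subtype = V) (hq : Cfsg.IsQuasisimple ↥K)
    [(V.subgroupOf C).Normal] :
    K ≤ C ∧ (K.subgroupOf C).index = 2 ∧ Subgroup.center (↥C ⧸ V.subgroupOf C) = ⊥ := by
  have memK : ∀ x, x ∈ K ↔ x * d₁ * x⁻¹ = d₁ ∧ x * d₂ * x⁻¹ = d₂ := fun x => by
    rw [hK, Subgroup.mem_centralizer_iff]
    refine ⟨fun h => ⟨by rw [← h _ (Or.inl rfl), mul_inv_cancel_right], by
      rw [← h _ (Or.inr rfl), mul_inv_cancel_right]⟩, ?_⟩
    rintro ⟨e1, e2⟩ y (rfl | rfl)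
    · exact (mul_inv_eq_iff_eq_mul.1 e1).symm
    · exact (mul_inv_eq_iff_eq_mul.1 e2).symm
  have memC : ∀ x, x ∈ C ↔ x * d₁ * x⁻¹ * (x * d₂ * x⁻¹) = d₁ * d₂ := fun x => by
    rw [hC, Subgroup.mem_centralizer_singleton_iff, show x * d₁ * x⁻¹ * (x * d₂ * x⁻¹) = x * (d₁ * d₂) * x⁻¹ by
      group, mul_inv_eq_iff_eq_mul]
  have hKC : K ≤ C := fun x hx => (memC x).2 (by rw [((memK x).1 hx).1, ((memK x).1 hx).2])
  have hfree : Fischer.Factor.TwinFree D := fun d v hd hs => Fischer.prim_sameComm_trivial hD hprim hd hs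
  have h4 := Fischer.Factor.noRel_four hD.1 hfree
  have hmove : ∀ x ∈ C, x ∉ K → x * d₁ * x⁻¹ = d₂ ∧ x * d₂ * x⁻¹ = d₁ := by
    intro x hx hxK
    have e := (memC x).1 hx
    generalize hu : x * d₁ * x⁻¹ = u at e
    generalize hv : x * d₂ * x⁻¹ = v at e
    have hu' : u ∈ D := hu ▸ hD.2.1 x d₁ h₁
    have hv' : v ∈ D := hv ▸ hD.2.1 x d₂ h₂
    have hne' : u ≠ v := fun h => hne (mul_left_cancel (mul_right_cancel (hu.trans (h.trans hv.symm))))
    have hcuv : Commute u v := hu ▸ hv ▸ (Fischer.commute_conj_iff x d₁ d₂).2 hc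
    have hnK : ¬ (u = d₁ ∧ v = d₂) := fun h => hxK ((memK x).2 ⟨hu.trans h.1, hv.trans h.2⟩)
    by_cases a1 : u = d₁
    · exact absurd ⟨a1, mul_left_cancel (a1 ▸ e)⟩ hnK
    by_cases a2 : v = d₂
    · exact absurd ⟨mul_right_cancel (a2 ▸ e), a2⟩ hnK
    by_cases a3 : u = d₂
    · refine ⟨a3, ?_⟩
      rw [a3, hc.eq] at e
      exact mul_left_cancel e
    by_cases a4 : v = d₁
    · refine ⟨?_, a4⟩
      rw [a4, hc.eq] at e
      exact mul_right_cancel e
    exfalso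
    have hx := Fischer.Factor.cross_commute hD.1 (l := [d₁, d₂]) (l' := [u, v]) (by simp)
      ⟨by simp [hne], by simp [h₁, h₂], by simp [hc, hc.symm]⟩
      ⟨by simp [hu', hv'], by simp [hcuv, hcuv.symm]⟩ (by simp [e])
    refine h4 [d₁, d₂, u, v] ?_ rfl (by simp [h₁, h₂, hu', hv']) ?_ ?_
    · simp [hne, hne', Ne.symm a1, Ne.symm a2, Ne.symm a3, Ne.symm a4]
    · have c1 := hx u (by simp) d₁ (by simp)
      have c2 := hx u (by simp) d₂ (by simp)
      have c3 := hx v (by simp) d₁ (by simp)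
      have c4 := hx v (by simp) d₂ (by simp)
      simp [hc, hc.symm, hcuv, hcuv.symm, c1, c1.symm, c2, c2.symm, c3, c3.symm, c4, c4.symm]
    · have hsq := Fischer.Factor.prod_sq hD.1 [u, v] (by simp [hu', hv']) (by simp [hcuv, hcuv.symm])
      simp only [List.prod_cons, List.prod_nil, mul_one] at hsq ⊢
      rw [← mul_assoc d₁, ← e]
      exact hsq
  obtain ⟨g, hg⟩ : ∃ g, g * d₁ * g⁻¹ = d₂ := hprim.1 d₁ h₁ d₂ h₂
  obtain ⟨h, hh, hh2⟩ := Fischer.prim_trans_commuting hD hprim ⟨_, h₁, _, h₂, hne, hc⟩ h₂ (g * d₂ * g⁻¹)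
    ⟨hD.2.1 g d₂ h₂, fun e => hne (mul_left_cancel (mul_right_cancel (hg.trans e.symm))),
      hg ▸ (Fischer.commute_conj_iff g d₁ d₂).2 hc⟩ d₁ ⟨h₁, hne, hc.symm⟩
  have hhd : h * d₂ * h⁻¹ = d₂ := by
    refine mul_inv_eq_iff_eq_mul.2 (Subgroup.mem_centralizer_singleton_iff.1 ((Subgroup.closure_le _).2
      (fun w hw => ?_) hh))
    exact Subgroup.mem_centralizer_singleton_iff.2 hw.2.2.symm.eq
  have hs1 : h * g * d₁ * (h * g)⁻¹ = d₂ := by
    rw [show h * g * d₁ * (h * g)⁻¹ = h * (g * d₁ * g⁻¹) * h⁻¹ by group, hg, hhd]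
  have hs2 : h * g * d₂ * (h * g)⁻¹ = d₁ := by
    rw [show h * g * d₂ * (h * g)⁻¹ = h * (g * d₂ * g⁻¹) * h⁻¹ by group, hh2]
  have hsC : h * g ∈ C := (memC _).2 (by rw [hs1, hs2, hc.eq])
  have hswap : ∀ x ∈ C, x ∉ K → x * (h * g) ∈ K := by
    intro x hx hxK
    obtain ⟨e1, e2⟩ := hmove x hx hxK
    refine (memK _).2 ⟨?_, ?_⟩
    · rw [show x * (h * g) * d₁ * (x * (h * g))⁻¹ = x * (h * g * d₁ * (h * g)⁻¹) * x⁻¹ by group, hs1, e2]
    · rw [show x * (h * g) * d₂ * (x * (h * g))⁻¹ = x * (h * g * d₂ * (h * g)⁻¹) * x⁻¹ by group, hs2, e1]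
  have hsK : h * g ∉ K := fun hm => hne ((((memK _).1 hm).1).symm.trans hs1)
  refine ⟨hKC, Subgroup.index_eq_two_iff.2 ⟨⟨_, hsC⟩, fun b => ?_⟩, ?_⟩
  · simp only [Subgroup.mem_subgroupOf, Subgroup.coe_mul]
    by_cases hb : (b : G) ∈ K
    · exact Or.inr ⟨hb, fun hm => hsK (by simpa [← mul_assoc] using K.mul_mem (K.inv_mem hb) hm)⟩
    · exact Or.inl ⟨hswap _ b.2 hb, hb⟩
  have hd1K : d₁ ∈ K := (memK _).2 ⟨by group, by rw [hc.eq, mul_inv_cancel_right]⟩
  obtain ⟨hperf, hsimple⟩ := hq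
  have hVc : ∀ v : ↥K, (v : G) ∈ V → v ∈ Subgroup.center ↥K := fun v hv => by
    rw [← hcen] at hv
    obtain ⟨w, hw, e⟩ := hv
    rwa [Subtype.ext e] at hw
  rw [eq_bot_iff]
  intro q hq'
  induction q using QuotientGroup.induction_on with | _ c => ?_
  have hcV : ∀ k : ↥K, (c : G) * k * (c : G)⁻¹ * (k : G)⁻¹ ∈ V := fun k => by
    have hh := Subgroup.mem_center_iff.1 hq' (QuotientGroup.mk (⟨(k : G), hKC k.2⟩ : ↥C))
    have h1 : (QuotientGroup.mk (c * ⟨(k : G), hKC k.2⟩ * c⁻¹ * (⟨(k : G), hKC k.2⟩ : ↥C)⁻¹) :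
        ↥C ⧸ V.subgroupOf C) = 1 := by
      rw [QuotientGroup.mk_mul, QuotientGroup.mk_mul, QuotientGroup.mk_mul, QuotientGroup.mk_inv,
        QuotientGroup.mk_inv, ← hh, mul_inv_cancel_right, mul_inv_cancel]
    exact Subgroup.mem_subgroupOf.1 ((QuotientGroup.eq_one_iff (N := V.subgroupOf C) _).1 h1)
  rw [Subgroup.mem_bot, QuotientGroup.eq_one_iff, Subgroup.mem_subgroupOf]
  by_cases hcK : (c : G) ∈ K
  · have hz : (QuotientGroup.mk (⟨(c : G), hcK⟩ : ↥K) : ↥K ⧸ Subgroup.center ↥K) ∈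
        Subgroup.center (↥K ⧸ Subgroup.center ↥K) := by
      refine Subgroup.mem_center_iff.2 fun y => ?_
      induction y using QuotientGroup.induction_on with | _ k => ?_
      rw [← QuotientGroup.mk_mul, ← QuotientGroup.mk_mul, eq_comm, ← mul_inv_eq_one, ← QuotientGroup.mk_inv,
        ← QuotientGroup.mk_mul, QuotientGroup.eq_one_iff]
      refine hVc _ ?_
      simpa [mul_assoc] using hcV k
    have hbot : Subgroup.center (↥K ⧸ Subgroup.center ↥K) = ⊥ := by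
      refine (Subgroup.Normal.eq_bot_or_eq_top inferInstance).resolve_right fun htop => ?_
      have hab : ∀ a b : ↥K ⧸ Subgroup.center ↥K, a * b = b * a := fun a b =>
        Subgroup.mem_center_iff.1 (htop ▸ Subgroup.mem_top b) a
      have hle : commutator ↥K ≤ (QuotientGroup.mk' (Subgroup.center ↥K)).ker := by
        rw [commutator_def, Subgroup.commutator_le]
        intro a _ b _
        rw [MonoidHom.mem_ker, map_commutatorElement, commutatorElement_eq_one_iff_commute]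
        exact hab _ _
      rw [hperf.commutator_eq_top, QuotientGroup.ker_mk', top_le_iff] at hle
      obtain ⟨a, ha⟩ := exists_ne (1 : ↥K ⧸ Subgroup.center ↥K)
      induction a using QuotientGroup.induction_on with | _ a => ?_
      exact ha ((QuotientGroup.eq_one_iff a).2 (hle ▸ Subgroup.mem_top a))
    rw [hbot, Subgroup.mem_bot, QuotientGroup.eq_one_iff] at hz
    exact hcen ▸ ⟨_, hz, rfl⟩
  · exfalso
    have hmem : ∀ k : ↥K, (c : G) * k * (c : G)⁻¹ * (k : G)⁻¹ ∈ K := fun k => by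
      have := hcV k
      rw [← hcen] at this
      obtain ⟨w, -, e⟩ := this
      exact e ▸ w.2
    obtain ⟨φ, hφ⟩ : ∃ φ : ↥K →* ↥(Subgroup.center ↥K), ∀ k,
        ((φ k : ↥K) : G) = (c : G) * k * (c : G)⁻¹ * (k : G)⁻¹ := by
      refine ⟨{ toFun := fun k => ⟨⟨_, hmem k⟩, hVc _ (hcV k)⟩
                map_one' := Subtype.ext (Subtype.ext (by simp))
                map_mul' := fun a b => Subtype.ext (Subtype.ext ?_) }, fun k => rfl⟩
      have hc2 := congrArg Subtype.val (Subgroup.mem_center_iff.1 (hVc ⟨_, hmem b⟩ (hcV b)) a)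
      simp only [Subgroup.coe_mul] at hc2 ⊢
      calc (c : G) * (↑a * ↑b) * (↑c)⁻¹ * (↑a * ↑b)⁻¹
          = ↑c * ↑a * (↑c)⁻¹ * (↑c * ↑b * (↑c)⁻¹ * (↑b)⁻¹ * (↑a)⁻¹) := by group
        _ = _ := by
          have h5 : ↑c * ↑b * (↑c)⁻¹ * (↑b)⁻¹ * (↑a : G)⁻¹ = (↑a)⁻¹ * (↑c * ↑b * (↑c)⁻¹ * (↑b)⁻¹) := by
            rw [mul_inv_eq_iff_eq_mul, mul_assoc ((↑a : G))⁻¹, ← hc2, inv_mul_cancel_left]
          rw [h5]; simp only [mul_assoc]
    have hle : commutator ↥K ≤ φ.ker := by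
      rw [commutator_def, Subgroup.commutator_le]
      intro a _ b _
      rw [MonoidHom.mem_ker, map_commutatorElement, commutatorElement_eq_one_iff_commute]
      exact Subtype.ext (Subgroup.mem_center_iff.1 (φ b).2 (φ a : ↥K))
    rw [hperf.commutator_eq_top] at hle
    have h1 : φ ⟨d₁, hd1K⟩ = 1 := hle (Subgroup.mem_top _)
    have h2 := congrArg (fun t : ↥(Subgroup.center ↥K) => ((t : ↥K) : G)) h1
    simp only [hφ, OneMemClass.coe_one] at h2
    rw [(hmove _ c.2 hcK).1, mul_inv_eq_one] at h2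
    exact hne h2.symm


/-- Let G be a finite group with trivial centre generated by a conjugation-invariant set D of 3-transpositions on which it acts primitively, such that for some d in D the subgroup generated by the members of D other than d commuting with d has central largest normal 2- and 3-subgroups, and suppose G with D is of type M(23). Let d₁, d₂ be distinct commuting members of D, j = d₁ d₂, K the joint centralizer of d₁ and d₂ and C the centralizer of j. Then K has index 2 in C, the centre of K is the subgroup generated by d₁ and d₂, K is quasisimple with K modulo its centre isomorphic to the projective special unitary group of dimension 6 over the field with four elements, and C modulo the subgroup generated by d₁ and d₂ has trivial centre (so it is that unitary group extended by an outer involution). -/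
theorem result {G : Type*} [Group G] [Finite G] {D : Set G} (hD : Cfsg.IsThreeTranspositionGroup D) (hprim : Cfsg.IsPrimitiveUnderConj D) (d₀ : G) (hd₀ : d₀ ∈ D) (h3 : Cfsg.pCore 3 ↥(Subgroup.closure {y : G | y ∈ D ∧ y ≠ d₀ ∧ Commute d₀ y}) ≤ Subgroup.center ↥(Subgroup.closure {y : G | y ∈ D ∧ y ≠ d₀ ∧ Commute d₀ y})) (h2 : Cfsg.pCore 2 ↥(Subgroup.closure {y : G | y ∈ D ∧ y ≠ d₀ ∧ Commute d₀ y}) ≤ Subgroup.center ↥(Subgroup.closure {y : G | y ∈ D ∧ y ≠ d₀ ∧ Commute d₀ y})) (h23 : Cfsg.IsOfTypeM23 G D) (d₁ d₂ : G) (h₁ : d₁ ∈ D) (h₂ : d₂ ∈ D) (hne : d₁ ≠ d₂) (hc : Commute d₁ d₂) (K C V : Subgroup G) (hK : K = Subgroup.centralizer ({d₁, d₂} : Set G)) (hC : C = Subgroup.centralizer ({d₁ * d₂} : Set G)) (hV : V = Subgroup.closure ({d₁, d₂} : Set G)) [hn : (V.subgroupOf C).Normal] : K ≤ C ∧ (K.subgroupOf C).index = 2 ∧ (Subgroup.center ↥K).map K.subtype = V ∧ Cfsg.IsQuasisimple ↥K ∧ (∃ (F : Type) (_ : Field F) (_ : Fintype F),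 Fintype.card F = 4 ∧ Nonempty (↥K ⧸ Subgroup.center ↥K ≃* Cfsg.PSU 6 F 2)) ∧ Subgroup.center (↥C ⧸ V.subgroupOf C) = ⊥ := by
  obtain ⟨hcen, hq, he⟩ := FischerUnique23.pair_facts hD hprim h23 h₁ h₂ hne hc hK hV
  obtain ⟨a, b, c⟩ := index_and_center hD hprim h₁ h₂ hne hc hK hC hV hcen hq
  exact ⟨a, b, hcen, hq, ⟨RigidGraph.He.K4, inferInstance, inferInstance, RigidGraph.He.K4.card_K4, he⟩, c⟩

end Cfsg.Agent.S5468
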