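import Cfsg.Statements.S5469
import Cfsg.Agent.Lib.FischerUnique.PairProduct

set_option autoImplicit false
open Cfsg

namespace Cfsg.Agent.S5469

open Cfsg.Agent.FischerPresented

/-- Let G be a finite group with trivial centre generated by a conjugation-invariant set D of 3-transpositions on which it acts primitively, such that for some d in D the subgroup generated by the members of D other than d commuting with d has central largest normal 2- and 3-subgroups, and suppose G with D is of type M(22). Let d₁, d₂ be distinct commuting members of D, j = d₁ d₂, K the joint centralizer of d₁ and d₂, C the centralizer of j and V the subgroup generated by d₁ and d₂. Then K has index 2 in C, V is the centre of K, and C has a normal subgroup E containing V with E/V elementary abelian of order 2^8 and C/E isomorphic to the full automorphism group of the projective special unitary group of dimension 4 over the field with four elements. -/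
theorem result {G : Type*} [Group G] [Finite G] {D : Set G} (hD : Cfsg.IsThreeTranspositionGroup D) (hprim : Cfsg.IsPrimitiveUnderConj D) (d₀ : G) (hd₀ : d₀ ∈ D) (h3 : Cfsg.pCore 3 ↥(Subgroup.closure {y : G | y ∈ D ∧ y ≠ d₀ ∧ Commute d₀ y}) ≤ Subgroup.center ↥(Subgroup.closure {y : G | y ∈ D ∧ y ≠ d₀ ∧ Commute d₀ y})) (h2 : Cfsg.pCore 2 ↥(Subgroup.closure {y : G | y ∈ D ∧ y ≠ d₀ ∧ Commute d₀ y}) ≤ Subgroup.center ↥(Subgroup.closure {y : G | y ∈ D ∧ y ≠ d₀ ∧ Commute d₀ y})) (h22 : Cfsg.IsOfTypeM22 G D) (d₁ d₂ : G) (h₁ : d₁ ∈ D) (h₂ : d₂ ∈ D) (hne : d₁ ≠ d₂) (hc : Commute d₁ d₂) (K C V : Subgroup G) (hK : K = Subgroup.centralizer ({d₁, d₂} : Set G)) (hC : C = Subgroup.centralizer ({d₁ * d₂} : Set G)) (hV : V = Subgroup.closure ({d₁, d₂} : Set G)) : K ≤ C ∧ (K.subgroupOf C).index = 2 ∧ (Subgroup.center ↥K).map K.subtype = V ∧ ∃ E : Subgroup G, V ≤ E ∧ E ≤ C ∧ (∀ c ∈ C, ∀ x ∈ E, c * x * c⁻¹ ∈ E) ∧ Nat.card E = 2 ^ 10 ∧ (∀ x ∈ E, ∀ y ∈ E, x * y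 * x⁻¹ * y⁻¹ ∈ V ∧ x ^ 2 ∈ V) ∧ ∃ (_ : (E.subgroupOf C).Normal) (F : Type) (_ : Field F) (_ : Fintype F), Fintype.card F = 4 ∧ Nonempty (↥C ⧸ E.subgroupOf C ≃* MulAut (Cfsg.PSU 4 F 2)) := by
  obtain ⟨T, rfl, rfl⟩ := FischerUnique.PairProduct.exists_frame_iso hD hprim h22 h₁ h₂ hne hc
  have hCm : C = Fi22Pair.C0.map T.toMonoidHom := by
    rw [hC, Fi22Pair.C0, FischerUnique.PairProduct.centralizer_map, Set.image_singleton]
    exact congrArg _ (congrArg _ (map_mul T _ _).symm)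
  obtain ⟨ι, hι⟩ : ∃ ι : Fi22Pair.C0 ≃* C, ∀ x : Fi22Pair.C0, (ι x : G) = T x :=
    ⟨(MulEquiv.subgroupMap T _).trans (MulEquiv.subgroupCongr hCm.symm), fun _ => rfl⟩
  have hKm : K = FischerUnique.PairProduct.K0.map T.toMonoidHom := by
    rw [hK, FischerUnique.PairProduct.K0, FischerUnique.PairProduct.centralizer_map, Set.image_pair]
  have hVm : V = (Subgroup.closure ({Fi22Class.z, Fi22TwoTwo.e0} : Set _)).map T.toMonoidHom := by
    rw [hV, MonoidHom.map_closure]
    exact congrArg _ (Set.image_pair _ _ _).symm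
  have hKC : K ≤ C := by rw [hKm, hCm]; exact Subgroup.map_mono FischerUnique.PairProduct.K0_le
  refine ⟨hKC, ?_, ?_, Fi22Pair.E0.map T.toMonoidHom, ?_, ?_, ?_, ?_, ?_, ?_⟩
  · rw [← FischerUnique.PairProduct.index_K0, ← Subgroup.index_map_equiv (FischerUnique.PairProduct.K0.subgroupOf Fi22Pair.C0) ι]
    refine congrArg Subgroup.index (Subgroup.ext fun x => ?_)
    obtain ⟨w, rfl⟩ := ι.surjective x
    refine Iff.trans ?_ (Subgroup.mem_map_iff_mem (f := (↑ι : Fi22Pair.C0 →* C)) (x := w) ι.injective).symm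
    rw [Subgroup.mem_subgroupOf, Subgroup.mem_subgroupOf, hι, hKm, Subgroup.mem_map_equiv, T.symm_apply_apply]
  · rw [hKm, Components.center_map_subtype, Subgroup.coe_map, MulEquiv.coe_toMonoidHom, ← FischerUnique.PairProduct.centralizer_map,
      ← Subgroup.map_inf _ _ _ T.injective, ← Components.center_map_subtype,
      FischerUnique.PairProduct.center_K0, ← hVm]
  · rw [hVm]
    refine Subgroup.map_mono ((Subgroup.closure_le _).2 ?_)
    rintro y (rfl | rfl)
    · exact Fi22Pair.z_mem_E0.1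
    · exact Fi22Pair.z_mem_E0.2
  · rw [hCm]; exact Subgroup.map_mono Fi22Pair.E0_le
  · rintro c hc' _ ⟨x, hx, rfl⟩
    rw [hCm] at hc'
    obtain ⟨c, hc', rfl⟩ := hc'
    exact ⟨c * x * c⁻¹, (Fi22Pair.normal_E0).conj_mem ⟨x, Fi22Pair.E0_le hx⟩ hx ⟨c, hc'⟩, by simp⟩
  · rw [Subgroup.card_map_of_injective T.injective, Fi22Pair.card_E0]
  · rintro _ ⟨x, hx, rfl⟩ _ ⟨y, hy, rfl⟩
    obtain ⟨a, b⟩ := Fi22Pair.pair_mod_E0 hx hy
    rw [hVm]
    exact ⟨⟨_, a, by simp⟩, ⟨_, b, by simp⟩⟩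
  · have hsub : (Fi22Pair.E0.subgroupOf Fi22Pair.C0).map ι.toMonoidHom =
        (Fi22Pair.E0.map T.toMonoidHom).subgroupOf C := by
      ext x
      obtain ⟨w, rfl⟩ := ι.surjective x
      rw [Subgroup.mem_map_equiv, ι.symm_apply_apply, Subgroup.mem_subgroupOf, Subgroup.mem_subgroupOf, hι,
        Subgroup.mem_map_equiv, T.symm_apply_apply]
    haveI hN : ((Fi22Pair.E0.map T.toMonoidHom).subgroupOf C).Normal := by
      rw [← hsub]; exact Fi22Pair.normal_E0.map ι.toMonoidHom ι.surjective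
    obtain ⟨F, hFF, hFt, hF⟩ := Fi22TwoTwo.exists_F4
    obtain ⟨q⟩ := Fi22Pair.nonempty_quot
    obtain ⟨e, -⟩ := AutPSU.FourTwo.exists_equiv (F := F) hF
    exact ⟨hN, F, hFF, hFt, hF, ⟨((QuotientGroup.congr _ _ ι hsub).symm.trans q).trans e⟩⟩

end Cfsg.Agent.S5469
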