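import Cfsg.Statements.S5473
import Cfsg.Agent.Lib.FischerUnique.Unique
import Cfsg.Agent.Lib.FischerPresented.Fi22TwoTwoOdd
import Cfsg.Agent.Lib.Qd.Basic
-- import your own Cfsg.Agent.* helpers here

set_option autoImplicit false
open Cfsg

namespace Cfsg.Agent.S5473

open Cfsg.Agent.CosetCert Cfsg.Agent.CosetData Cfsg.Agent.FischerPresented
open Cfsg.Agent.FischerPresented.Fi22TwoTwo

local notation "G₀" => Setup.G Fi22B.setup

theorem centralizer_equiv {A B : Type*} [Group A] [Group B] (e : A ≃* B) (X : Set A) :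
    (Subgroup.centralizer X).map e.toMonoidHom = Subgroup.centralizer (e '' X) := by
  ext y
  rw [Subgroup.mem_map_equiv, Subgroup.mem_centralizer_iff, Subgroup.mem_centralizer_iff]
  constructor
  · rintro h _ ⟨x, hx, rfl⟩
    have := congrArg e (h x hx)
    simpa using this
  · intro h x hx
    apply e.injective
    simpa using h (e x) ⟨x, hx, rfl⟩

theorem large_map {A B : Type*} [Group A] [Group B] (e : A ≃* B) {Q : Subgroup A}
    (h : Cfsg.IsLargeExtraspecial Q) : Cfsg.IsLargeExtraspecial (Q.map e.toMonoidHom) := by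
  obtain ⟨hx, hc, hn, ho⟩ := h
  have hcen : (Subgroup.center (Q.map e.toMonoidHom)).map (Q.map e.toMonoidHom).subtype =
      ((Subgroup.center Q).map Q.subtype).map e.toMonoidHom := by
    rw [Components.center_map_subtype, Components.center_map_subtype,
      Subgroup.map_inf _ _ _ e.injective, centralizer_equiv]
    rfl
  refine ⟨Qd.isExtraspecial_congr (e.subgroupMap Q).symm hx, ?_, ?_, fun K hK hQK => ?_⟩
  · rw [hcen, ← hc, centralizer_equiv]; rfl
  · rw [hcen, Subgroup.coe_map]
    refine (centralizer_equiv e _).ge.trans ((Subgroup.map_mono hn).trans ?_)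
    rw [Subgroup.map_equiv_normalizer_eq]
  · have h1 := ho (K.map e.symm.toMonoidHom)
      (by rwa [Subgroup.card_map_of_injective e.symm.injective]) (fun q hq => ?_)
    · exact (Subgroup.map_eq_bot_iff_of_injective _ e.symm.injective).1 h1
    · rw [← Subgroup.map_equiv_normalizer_eq, Subgroup.mem_map_equiv]
      exact hQK ⟨q, hq, rfl⟩

/-- Let G be a finite group with trivial centre generated by a conjugation-invariant set D of 3-transpositions on which it acts primitively, such that for some d in D the subgroup generated by the members of D other than d commuting with d has central largest normal 2- and 3-subgroups, and suppose G with D is of type M(22), and let A be the automorphism group of G. Let d₁, d₂ be distinct commuting members of D and j the inner automorphism of their product. Then the generalized Fitting subgroup Q of the centralizer of j in A is a large extraspecial 2-subgroup of A of order 2^11 (extraspecial; centralizer equal to its centre; normal in the centralizer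 of its centre; normalizing no non-trivial odd-order subgroup), and the centralizer of j modulo Q is isomorphic to the full automorphism group of the projective special unitary group of dimension 4 over the field with four elements. -/
theorem result {G : Type*} [Group G] [Finite G] {D : Set G} (hD : Cfsg.IsThreeTranspositionGroup D) (hprim : Cfsg.IsPrimitiveUnderConj D) (d₀ : G) (hd₀ : d₀ ∈ D) (h3 : Cfsg.pCore 3 ↥(Subgroup.closure {y : G | y ∈ D ∧ y ≠ d₀ ∧ Commute d₀ y}) ≤ Subgroup.center ↥(Subgroup.closure {y : G | y ∈ D ∧ y ≠ d₀ ∧ Commute d₀ y})) (h2 : Cfsg.pCore 2 ↥(Subgroup.closure {y : G | y ∈ D ∧ y ≠ d₀ ∧ Commute d₀ y}) ≤ Subgroup.center ↥(Subgroup.closure {y : G | y ∈ D ∧ y ≠ d₀ ∧ Commute d₀ y})) (h22 : Cfsg.IsOfTypeM22 G D) (d₁ d₂ : G) (h₁ : d₁ ∈ D) (h₂ : d₂ ∈ D) (hne : d₁ ≠ d₂) (hc : Commute d₁ d₂) (j : MulAut G) (hj : j = MulAut.conj (d₁ * d₂)) (Q : Subgroup (MulAut G)) (hQ : Q = (Cfsg.generalizedFittingSubgroup ↥(Subgroup.centralizer ({j} : Set (MulAut G)))).map (Subgroup.centralizer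 ({j} : Set (MulAut G))).subtype) : Cfsg.IsLargeExtraspecial Q ∧ Nat.card Q = 2 ^ 11 ∧ Q ≤ Subgroup.centralizer ({j} : Set (MulAut G)) ∧ ∃ (_ : (Q.subgroupOf (Subgroup.centralizer ({j} : Set (MulAut G)))).Normal) (F : Type) (_ : Field F) (_ : Fintype F), Fintype.card F = 4 ∧ Nonempty (↥(Subgroup.centralizer ({j} : Set (MulAut G))) ⧸ Q.subgroupOf (Subgroup.centralizer ({j} : Set (MulAut G))) ≃* MulAut (Cfsg.PSU 4 F 2)) := by
  obtain ⟨Φ, hΦ⟩ := Cfsg.Agent.FischerUnique.exists_iso hD hprim h22
  have hfin := Fi22.order_facts.1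
  obtain ⟨a, ha, rfl⟩ := (hΦ ▸ h₁ : d₁ ∈ Φ '' Fi22Class.D)
  obtain ⟨b, hb, rfl⟩ := (hΦ ▸ h₂ : d₂ ∈ Φ '' Fi22Class.D)
  obtain ⟨g, hg⟩ := Fi22Class.mem_D.1 ha
  have hu : g⁻¹ * b * g ∈ Fi22Class.D := by
    obtain ⟨k, hk⟩ := Fi22Class.mem_D.1 hb
    exact Fi22Class.mem_D.2 ⟨g⁻¹ * k, by rw [← hk]; group⟩
  have hune : g⁻¹ * b * g ≠ Fi22Class.z := fun e => hne (congrArg Φ (by
    rw [← hg, ← e]; group))
  have huc : Commute Fi22Class.z (g⁻¹ * b * g) := by
    have h1 : Commute a b := by
      refine Φ.injective ?_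
      rw [map_mul, map_mul]; exact hc.eq
    rw [← hg] at h1
    have h2 := h1.map (MulAut.conj g⁻¹).toMonoidHom
    simpa [mul_assoc] using h2
  obtain ⟨-, h, hhz, hh⟩ := Fi22Two.nb_conj hu hune huc
  let ψ : G₀ ≃* G := (MulAut.conj (g * h)).trans Φ
  have hψz : ψ Fi22Class.z = Φ a := by
    show Φ (g * h * Fi22Class.z * (g * h)⁻¹) = _
    rw [← hg]
    refine congrArg Φ ?_
    calc g * h * Fi22Class.z * (g * h)⁻¹ = g * (h * Fi22Class.z * h⁻¹) * g⁻¹ := by group
      _ = _ := by rw [hhz.eq, mul_inv_cancel_right]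
  have hψe : ψ e0 = Φ b := by
    show Φ (g * h * e0 * (g * h)⁻¹) = _
    refine congrArg Φ ?_
    calc g * h * e0 * (g * h)⁻¹ = g * (h * e0 * h⁻¹) * g⁻¹ := by group
      _ = _ := by rw [show h * e0 * h⁻¹ = _ from hh]; group
  let Λ : MulAut G₀ ≃* MulAut G := MulAut.congr ψ
  have hj' : Λ jA = j := by
    rw [hj, ← hψz, ← hψe, ← map_mul]
    ext v
    show ψ (j0 * ψ.symm v * j0⁻¹) = _
    simp only [j0, map_mul, map_inv, mul_inv_rev, MulEquiv.apply_symm_apply, MulAut.mul_apply, MulAut.conj_apply]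
    show _ = _
    simp only [e0]
    group
  have hC : CA.map Λ.toMonoidHom = Subgroup.centralizer ({j} : Set (MulAut G)) := by
    rw [← hj', centralizer_equiv]
    simp
  let ι : CA ≃* Subgroup.centralizer ({j} : Set (MulAut G)) :=
    (Λ.subgroupMap CA).trans (MulEquiv.subgroupCongr hC)
  have hQ' : Q = QA.map Λ.toMonoidHom := by
    rw [hQ, ← Components.generalizedFitting_map_equiv ι, Subgroup.map_map, ← fitting_CA, Subgroup.map_map]
    rfl
  have hle : Q ≤ Subgroup.centralizer ({j} : Set (MulAut G)) := by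
    rw [hQ]; exact Subgroup.map_subtype_le _
  have hsub : (QA.subgroupOf CA).map ι.toMonoidHom =
      Q.subgroupOf (Subgroup.centralizer ({j} : Set (MulAut G))) := by
    ext x
    rw [Subgroup.mem_map_equiv, Subgroup.mem_subgroupOf, Subgroup.mem_subgroupOf, hQ', Subgroup.mem_map_equiv]
    rfl
  haveI hN : (Q.subgroupOf (Subgroup.centralizer ({j} : Set (MulAut G)))).Normal := by
    rw [← hsub]; exact normal_CA.map ι.toMonoidHom ι.surjective
  obtain ⟨F, hFF, hFt, hF⟩ := exists_F4
  obtain ⟨Ψ, -⟩ := exists_quotient_equiv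
  obtain ⟨e, -⟩ := Cfsg.Agent.AutPSU.FourTwo.exists_equiv (F := F) hF
  refine ⟨hQ' ▸ large_map Λ large_QA, ?_, hle, hN, F, hFF, hFt, hF, ⟨?_⟩⟩
  · rw [hQ', Subgroup.card_map_of_injective Λ.injective, card_QA]
  · exact ((QuotientGroup.congr _ _ ι hsub).symm.trans Ψ.symm).trans e

end Cfsg.Agent.S5473
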