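import Cfsg.Statements.S5514
import Cfsg.Agent.Lib.Omega7.Classes
import Cfsg.Agent.Lib.Orthogonal.POmega
-- import your own Cfsg.Agent.* helpers here

set_option autoImplicit false
open Cfsg

namespace Cfsg.Agent.S5514

open Cfsg.Agent.Omega7 Cfsg.Agent.Orth

theorem exists_iso : Nonempty (Cfsg.POmega (ZMod 3) (Cfsg.quadFormOdd 3 (ZMod 3)) ≃*
    ↥(commutator ↥O7)) := by
  rw [← coe_qOdd]
  have h := card_center_one (Q := qOdd (ZMod 3) 3) q7_nondeg
    (by simp) (Or.inr (by simp; decide))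
  have hbot : Subgroup.center ↥(Cfsg.Omega (ZMod 3) (⇑(qOdd (ZMod 3) 3))) = ⊥ :=
    Subgroup.eq_bot_of_card_eq _ h
  exact ⟨((QuotientGroup.quotientMulEquivOfEq hbot).trans QuotientGroup.quotientBot).trans
    (omegaEquiv _)⟩

theorem zpowers_eq_cases {G : Type*} [Group G] {a b : G} (hb : b ^ 3 = 1) (ha : a ≠ 1)
    (h : Subgroup.zpowers a = Subgroup.zpowers b) : a = b ∨ a = b⁻¹ := by
  have hm : a ∈ Subgroup.zpowers b := h ▸ Subgroup.mem_zpowers a
  obtain ⟨n, rfl⟩ := Subgroup.mem_zpowers_iff.1 hm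
  have e : b ^ n = b ^ (n % 3) := by
    conv_lhs => rw [← Int.emod_add_mul_ediv n 3]
    rw [zpow_add, zpow_mul, show b ^ (3 : ℤ) = 1 by exact_mod_cast hb, one_zpow, mul_one]
  rcases (by omega : n % 3 = 0 ∨ n % 3 = 1 ∨ n % 3 = 2) with h0 | h0 | h0
  · exact absurd (by rw [e, h0, zpow_zero]) ha
  · left; rw [e, h0, zpow_one]
  · right
    rw [e, h0]
    refine eq_inv_of_mul_eq_one_left ?_
    rw [← zpow_add_one]
    exact_mod_cast hb

theorem transfer_classes {P : Type*} [Group P] (χ : ↥O7 →* SpinVal K) (hχ : Spin χ)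
    (hker : χ.ker = commutator ↥O7) (R : Reps χ) (e : P ≃* ↥(commutator ↥O7)) :
    ∃ Y : Fin 7 → Subgroup P, (∀ i, Nat.card (Y i) = 3) ∧
      (∀ i j, (∃ g : P, (Y i).map (MulAut.conj g).toMonoidHom = Y j) → i = j) ∧
      (∀ X : Subgroup P, Nat.card X = 3 → ∃ i, ∃ g : P,
        X.map (MulAut.conj g).toMonoidHom = Y i) := by
  have mem : ∀ i, R.T i ∈ commutator ↥O7 := fun i =>
    hker ▸ MonoidHom.mem_ker.2 (R.chi_T hχ i)
  set y : Fin 7 → P := fun i => e.symm ⟨R.T i, mem i⟩ with hy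
  have hey : ∀ i, (e (y i) : ↥O7) = R.T i := fun i => by rw [hy, e.apply_symm_apply]
  have up : ∀ a b : P, (e a : ↥O7) = (e b : ↥O7) → a = b :=
    fun a b h => e.injective (Subtype.ext h)
  have y3 : ∀ i, y i ^ 3 = 1 := fun i => up _ _ (by
    rw [map_pow, Subgroup.coe_pow, hey, R.cube_T, map_one]; rfl)
  have y1 : ∀ i, y i ≠ 1 := fun i h => R.ne_one i (by rw [← hey i, h, map_one]; rfl)
  have hord : ∀ i, orderOf (y i) = 3 := fun i => orderOf_eq_prime (y3 i) (y1 i)
  have hmap : ∀ g a : P, (Subgroup.zpowers a).map (MulAut.conj g).toMonoidHom =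
      Subgroup.zpowers (g * a * g⁻¹) := fun g a => MonoidHom.map_zpowers _ a
  refine ⟨fun i => Subgroup.zpowers (y i), fun i => by rw [Nat.card_zpowers, hord], ?_, ?_⟩
  · rintro i j ⟨g, hg⟩
    simp only [hmap] at hg
    have hne : g * y i * g⁻¹ ≠ 1 := fun h => y1 i (by
      rw [mul_inv_eq_one, mul_eq_left] at h; exact h)
    refine R.distinct hχ i j (e g : ↥O7) (MonoidHom.mem_ker.1 (by rw [hker]; exact (e g).2)) ?_
    rcases zpowers_eq_cases (y3 j) hne hg with h | h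
    · left; rw [← hey i, ← hey j, ← h]; simp
    · right; rw [← hey i, ← hey j, ← inv_eq_iff_eq_inv.2 h]; simp [mul_assoc]
  · intro X hX
    haveI : Fact (Nat.Prime 3) := ⟨by norm_num⟩
    haveI : Nontrivial X := by
      haveI : Finite X := Nat.finite_of_card_ne_zero (by omega)
      exact Finite.one_lt_card_iff_nontrivial.1 (by omega)
    obtain ⟨x, hx⟩ := exists_ne (1 : X)
    have hxX : Subgroup.zpowers (x : P) = X := by
      have := zpowers_eq_top_of_prime_card hX hx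
      have h2 := congrArg (Subgroup.map X.subtype) this
      rwa [MonoidHom.map_zpowers, ← MonoidHom.range_eq_map, X.range_subtype] at h2
    have hx3 : x ^ 3 = 1 := by rw [← hX]; exact pow_card_eq_one'
    have hz3 : (e (x : P) : ↥O7) ^ 3 = 1 := by
      rw [← Subgroup.coe_pow, ← map_pow, ← Subgroup.coe_pow, hx3]
      simp
    have hz1 : (e (x : P) : ↥O7) ≠ 1 := fun h => hx (Subtype.ext (up _ _ (by rw [h]; simp)))
    obtain ⟨i, k, hk, hki⟩ := R.complete hχ _ hz3 hz1
    refine ⟨i, e.symm ⟨k, hker ▸ MonoidHom.mem_ker.2 hk⟩, ?_⟩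
    rw [← hxX, hmap]
    congr 1
    apply up
    rw [map_mul, map_mul, map_inv, e.apply_symm_apply, hey]
    exact hki


/-- The commutator subgroup of the isometry group of a non-degenerate 7-dimensional quadratic form over the field with three elements, modulo its (trivial) centre — the simple group Ω(7, 3) — has exactly seven conjugacy classes of subgroups of order 3. -/
theorem result : ∃ Y : Fin 7 → Subgroup (Cfsg.POmega (ZMod 3) (Cfsg.quadFormOdd 3 (ZMod 3))), (∀ i, Nat.card (Y i) = 3) ∧ (∀ i j, (∃ g : Cfsg.POmega (ZMod 3) (Cfsg.quadFormOdd 3 (ZMod 3)), (Y i).map (MulAut.conj g).toMonoidHom = Y j) → i = j) ∧ (∀ X : Subgroup (Cfsg.POmega (ZMod 3) (Cfsg.quadFormOdd 3 (ZMod 3))), Nat.card X = 3 → ∃ i, ∃ g : Cfsg.POmega (ZMod 3) (Cfsg.quadFormOdd 3 (ZMod 3)), X.map (MulAut.conj g).toMonoidHom = Y i) := by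
  obtain ⟨χ, hχ, hker, -⟩ := exists_spin
  obtain ⟨R⟩ := exists_reps hχ
  obtain ⟨e⟩ := exists_iso
  exact transfer_classes χ hχ hker R e

end Cfsg.Agent.S5514
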