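import Cfsg.Statements.S5516
import Cfsg.Agent.Lib.Omega8Plus.Orbit
import Cfsg.Agent.Lib.Components.FStar
-- import your own Cfsg.Agent.* helpers here

set_option autoImplicit false
open Cfsg

namespace Cfsg.Agent.S5516

open Cfsg.Agent.Omega8Plus

theorem center_S8 : Subgroup.center S8 = ⊥ := by
  have h := AutBalance.center_eq_bot_par (AutPOmega.par_plus (F := Omega7.K) (le_refl 4))
  rwa [Orth.coe_qPlus] at h

/-- the embedding of the socle and the action of the group -/
theorem exists_action {G S : Type*} [Group G] [Finite G] [Group S] (hZ : Subgroup.center S = ⊥)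
    [hn : (Cfsg.generalizedFittingSubgroup G).Normal] (e : ↥(Cfsg.generalizedFittingSubgroup G) ≃* S) :
    ∃ (φ : G →* MulAut S) (j : S →* G), Function.Injective j ∧ j.range = Cfsg.generalizedFittingSubgroup G ∧
      (∀ g x, g * j x * g⁻¹ = j (φ g x)) ∧ (∀ u, φ (j u) = MulAut.conj u) ∧
      ((QuotientGroup.mk' (Cfsg.Inn S)).comp φ).ker = Cfsg.generalizedFittingSubgroup G := by
  set F := Cfsg.generalizedFittingSubgroup G with hF
  let φ : G →* MulAut S := (MulAut.congr e).toMonoidHom.comp (MulAut.conjNormal (H := F))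
  have hinn : ∀ x : F, φ x = MulAut.conj (e x) := fun x => MulEquiv.ext fun y => by
    obtain ⟨z, rfl⟩ := e.surjective y
    show e (MulAut.conjNormal (x : G) (e.symm (e z))) = e x * e z * (e x)⁻¹
    rw [e.symm_apply_apply, ← map_inv e, ← map_mul, ← map_mul]
    exact congrArg e (Subtype.ext rfl)
  have hcj : ∀ g x, g * (F.subtype.comp e.symm.toMonoidHom) x * g⁻¹ = (F.subtype.comp e.symm.toMonoidHom) (φ g x) := by
    intro g x
    show g * (e.symm x : G) * g⁻¹ = (e.symm (e (MulAut.conjNormal g (e.symm x))) : G)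
    rw [e.symm_apply_apply, MulAut.conjNormal_apply]
  refine ⟨φ, F.subtype.comp e.symm.toMonoidHom, F.subtype_injective.comp e.symm.injective, ?_, hcj,
    fun u => (hinn (e.symm u)).trans (by rw [e.apply_symm_apply]), ?_⟩
  · rw [MonoidHom.range_comp, MonoidHom.range_eq_top.2 (MulEquiv.surjective e.symm), ← MonoidHom.range_eq_map,
      Subgroup.range_subtype]
  · ext g
    rw [MonoidHom.mem_ker, MonoidHom.comp_apply, QuotientGroup.mk'_apply, QuotientGroup.eq_one_iff]
    constructor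
    · rintro ⟨y, hy⟩
      have h1 : φ ((e.symm y : G)⁻¹ * g) = 1 := by
        rw [map_mul, map_inv, hinn, e.apply_symm_apply, ← hy, inv_mul_cancel]
      set g' := (e.symm y : G)⁻¹ * g with hg'
      have hc : g' ∈ Subgroup.centralizer (F : Set G) := by
        refine Subgroup.mem_centralizer_iff.2 fun x hx => ?_
        have h := hcj g' (e ⟨x, hx⟩)
        rw [h1, MulAut.one_apply] at h
        simp only [MonoidHom.comp_apply, MulEquiv.coe_toMonoidHom, MulEquiv.symm_apply_apply] at h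
        calc x * g' = g' * x * g'⁻¹ * g' := by
              rw [show g' * x * g'⁻¹ = x from h]
          _ = g' * x := by group
      have hgF : g' ∈ F := Cfsg.Agent.Components.centralizer_generalizedFitting_le hc
      have : g = (e.symm y : G) * g' := by rw [hg', mul_inv_cancel_left]
      rw [this]
      exact mul_mem (e.symm y).2 hgF
    · intro hg
      exact ⟨e ⟨g, hg⟩, (hinn ⟨g, hg⟩).symm⟩

theorem thirteen (e : Cfsg.Out S8 ≃* P4) (D : @Typing (Cl S8 3) (actP e)) :
    ∃ Y : Fin 13 → Subgroup S8, (∀ i, Nat.card (Y i) = 3) ∧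
      (∀ i j, (∃ g : S8, (Y i).map (MulAut.conj g).toMonoidHom = Y j) → i = j) ∧
      (∀ X : Subgroup S8, Nat.card X = 3 → ∃ i, ∃ g : S8, X.map (MulAut.conj g).toMonoidHom = Y i) := by
  letI := actP e
  choose Y hY hc using fun i => exists_mkCl (D.all i)
  refine ⟨Y, hY, fun i j h => D.all_bijective.1 ?_, fun X hX => ?_⟩
  · rw [← hc i, ← hc j]
    exact mkCl_eq_iff.2 h
  · obtain ⟨i, hi⟩ := D.all_bijective.2 (mkCl X hX)
    rw [← hc i] at hi
    exact ⟨i, mkCl_eq_iff.1 hi.symm⟩

theorem seven {G : Type*} [Group G] [Finite G] [hn : (Cfsg.generalizedFittingSubgroup G).Normal]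
    (eG : ↥(Cfsg.generalizedFittingSubgroup G) ≃* S8)
    (hq : Nonempty (G ⧸ Cfsg.generalizedFittingSubgroup G ≃* Equiv.Perm (Fin 3)))
    (e : Cfsg.Out S8 ≃* P4) (D : @Typing (Cl S8 3) (actP e)) :
    ∃ Y : Fin 7 → Subgroup G, (∀ i, Y i ≤ Cfsg.generalizedFittingSubgroup G ∧ Nat.card (Y i) = 3) ∧
      (∀ i j, (∃ g : G, (Y i).map (MulAut.conj g).toMonoidHom = Y j) → i = j) ∧
      ∀ X : Subgroup G, X ≤ Cfsg.generalizedFittingSubgroup G → Nat.card X = 3 →
        ∃ i, ∃ g : G, X.map (MulAut.conj g).toMonoidHom = Y i := by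
  letI := actP e
  obtain ⟨φ, j, hj, hrange, hconj, hinn, hker⟩ := exists_action center_S8 eG
  set ψ : G →* P4 := e.toMonoidHom.comp ((QuotientGroup.mk' (Cfsg.Inn S8)).comp φ) with hψ
  have hact : ∀ (g : G) (c : Cl S8 3), ψ g • c = autMap (φ g) c := fun g c => by
    show outPerm (e.symm (e (QuotientGroup.mk' (Cfsg.Inn S8) (φ g)))) c = _
    rw [e.symm_apply_apply, outPerm_mk]
  have hB : Nat.card ψ.range = 6 := by
    obtain ⟨q⟩ := hq
    have hk : ψ.ker = Cfsg.generalizedFittingSubgroup G := by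
      rw [← hker]
      ext g
      rw [MonoidHom.mem_ker, MonoidHom.mem_ker, hψ]
      exact e.map_eq_one_iff
    rw [← Subgroup.index_ker, hk, Subgroup.index_eq_card, Nat.card_congr q.toEquiv, Nat.card_perm, Nat.card_fin]
    rfl
  have htr : ∀ (g : G) (A : Subgroup S8),
      (A.map j).map (MulAut.conj g).toMonoidHom = (A.map (φ g).toMonoidHom).map j := by
    intro g A
    rw [Subgroup.map_map, Subgroup.map_map]
    congr 1
    ext x
    exact hconj g x
  obtain ⟨c, hsep, hcov⟩ := D.seven ψ.range hB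
  choose A hA hc using fun i => exists_mkCl (c i)
  refine ⟨fun i => (A i).map j, fun i => ⟨hrange ▸ Subgroup.map_le_range j _,
    (Subgroup.card_map_of_injective hj).trans (hA i)⟩, fun i k ⟨g, hg⟩ => ?_, fun X hXL hX => ?_⟩
  · refine hsep i k ⟨ψ g, ⟨g, rfl⟩, ?_⟩
    rw [hact, ← hc i, ← hc k]
    simp only [htr] at hg
    refine mkCl_eq_iff.2 ⟨1, ?_⟩
    show ((A i).map (φ g).toMonoidHom).map (MulAut.conj (1 : S8)).toMonoidHom = A k
    rw [show (A i).map (φ g).toMonoidHom = A k from Subgroup.map_injective hj hg]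
    ext x; simp
  · have hXA : (X.comap j).map j = X := Subgroup.map_comap_eq_self (hrange ▸ hXL)
    have hA3 : Nat.card (X.comap j) = 3 := by
      rw [← Subgroup.card_map_of_injective hj, hXA, hX]
    obtain ⟨i, h, ⟨g, rfl⟩, hgi⟩ := hcov (mkCl _ hA3)
    rw [hact, ← hc i] at hgi
    obtain ⟨u, hu⟩ := mkCl_eq_iff.1 hgi
    change ((X.comap j).map (φ g).toMonoidHom).map (MulAut.conj u).toMonoidHom = A i at hu
    refine ⟨i, j u * g, ?_⟩
    conv_lhs => rw [← hXA]
    show _ = (A i).map j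
    rw [htr, map_mul, hinn, ← hu, Subgroup.map_map, Subgroup.map_map, Subgroup.map_map]
    congr 1

/-- PΩ⁺(8, 3) (the commutator subgroup of the isometry group of the hyperbolic quadratic form in dimension 8 over the field with three elements, modulo its centre) has exactly 13 conjugacy classes of subgroups of order 3; and a finite group G whose generalized Fitting subgroup L is isomorphic to PΩ⁺(8, 3) with G/L the symmetric group of degree 3 has exactly 7 orbits, under conjugation, on the subgroups of L of order 3. -/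
theorem result {G : Type*} [Group G] [Finite G] (L : Subgroup G) (hL : L = Cfsg.generalizedFittingSubgroup G) (hF : Nonempty (↥L ≃* Cfsg.POmega (ZMod 3) (Cfsg.quadFormPlus 4 (ZMod 3)))) [hn : L.Normal] (hq : Nonempty (G ⧸ L ≃* Equiv.Perm (Fin 3))) : (∃ Y : Fin 13 → Subgroup (Cfsg.POmega (ZMod 3) (Cfsg.quadFormPlus 4 (ZMod 3))), (∀ i, Nat.card (Y i) = 3) ∧ (∀ i j, (∃ g : Cfsg.POmega (ZMod 3) (Cfsg.quadFormPlus 4 (ZMod 3)), (Y i).map (MulAut.conj g).toMonoidHom = Y j) → i = j) ∧ (∀ X : Subgroup (Cfsg.POmega (ZMod 3) (Cfsg.quadFormPlus 4 (ZMod 3))), Nat.card X = 3 → ∃ i, ∃ g : Cfsg.POmega (ZMod 3) (Cfsg.quadFormPlus 4 (ZMod 3)), X.map (MulAut.conj g).toMonoidHom = Y i)) ∧ ∃ Y : Fin 7 → Subgroup G, (∀ i, Y i ≤ L ∧ Nat.card (Y i) = 3) ∧ (∀ i j, (∃ g : G, (Y i).map (MulAut.conj g).toMonoidHom = Y j) → i = j) ∧ ∀ X : Subgroup G, X ≤ L → Nat.card X = 3 → ∃ i, ∃ g : G, X.map (MulAut.conj g).toMonoidHom = Y i := by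
  subst hL
  obtain ⟨eG⟩ := hF
  obtain ⟨χ, hχ⟩ := exists_spin8
  obtain ⟨e, ⟨D⟩⟩ := hχ.exists_typing
  exact ⟨thirteen e D, seven eG hq e D⟩

end Cfsg.Agent.S5516
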