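import Cfsg.Statements.S5517
import Cfsg.Agent.Lib.FischerUnique.Presented
import Cfsg.Agent.Lib.FischerPresented.O73Group
import Cfsg.Agent.Lib.Fi22Local.Sylow
import Cfsg.Agent.S1685

set_option autoImplicit false
set_option linter.style.haveILetI false

set_option autoImplicit false
open Cfsg

namespace Cfsg.Agent.S5517

/-- Let G be a finite group with trivial centre generated by a conjugation-invariant set D of 3-transpositions on which it acts primitively, such that for some d in D the subgroup generated by the members of D other than d commuting with d has central largest normal 2- and 3-subgroups, and suppose G with D is of type M(22). Then G has a subgroup L generated by the members of D it contains and isomorphic to Ω(7, 3) (the commutator subgroup of the isometry group of a non-degenerate 7-dimensional quadratic form over the field with three elements, modulo its centre), and every Sylow 3-subgroup of L is a Sylow 3-subgroup of G. -/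
theorem result {G : Type*} [Group G] [Finite G] {D : Set G} (hD : Cfsg.IsThreeTranspositionGroup D) (hprim : Cfsg.IsPrimitiveUnderConj D) (d₀ : G) (hd₀ : d₀ ∈ D) (h3 : Cfsg.pCore 3 ↥(Subgroup.closure {y : G | y ∈ D ∧ y ≠ d₀ ∧ Commute d₀ y}) ≤ Subgroup.center ↥(Subgroup.closure {y : G | y ∈ D ∧ y ≠ d₀ ∧ Commute d₀ y})) (h2 : Cfsg.pCore 2 ↥(Subgroup.closure {y : G | y ∈ D ∧ y ≠ d₀ ∧ Commute d₀ y}) ≤ Subgroup.center ↥(Subgroup.closure {y : G | y ∈ D ∧ y ≠ d₀ ∧ Commute d₀ y})) (h22 : Cfsg.IsOfTypeM22 G D) : ∃ L : Subgroup G, Cfsg.IsDSubgroup D L ∧ Nonempty (↥L ≃* Cfsg.POmega (ZMod 3) (Cfsg.quadFormOdd 3 (ZMod 3))) ∧ ∀ P : Sylow 3 ↥L, ∃ P' : Sylow 3 G, (P : Subgroup ↥L).map L.subtype = (P' : Subgroup G) := by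
  obtain ⟨Φ, hΦ⟩ := Cfsg.Agent.FischerUnique.exists_iso hD hprim h22
  obtain ⟨K, hK⟩ : ∃ K : Subgroup Cfsg.Agent.Fi22Local.GG, K = Subgroup.closure
      (Cfsg.Agent.CosetCert.pick Cfsg.Agent.Fi22Local.gn [1, 2, 3, 4, 5, 6, 7, 8] '' {x | x < 8}) := ⟨_, rfl⟩
  have hpick : ∀ x, x < 8 → ∃ y, y < 9 ∧ Cfsg.Agent.CosetCert.pick Cfsg.Agent.Fi22Local.gn [1, 2, 3, 4, 5, 6, 7, 8] x =
      Cfsg.Agent.Fi22Local.gn y ∧ y = x + 1 := by
    intro x hx
    interval_cases x <;> exact ⟨_, by norm_num, rfl, rfl⟩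
  have hi : K.index = 14080 := Cfsg.Agent.S1685.main <| hK.trans <| congrArg Subgroup.closure <| by
    ext g
    constructor
    · rintro ⟨x, hx, rfl⟩
      obtain ⟨y, -, e, -⟩ := hpick x hx
      change x < 8 at hx
      refine ⟨[x + 1], ?_, ?_⟩
      · interval_cases x <;> decide
      · interval_cases x <;> exact (mul_one _).symm
    · rintro ⟨w, hw, rfl⟩
      simp only [Cfsg.Agent.CosetData.Fi22A.sw, List.mem_cons, List.not_mem_nil, or_false] at hw
      rcases hw with rfl | rfl | rfl | rfl | rfl | rfl | rfl | rfl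
      exacts [⟨0, by norm_num, (mul_one _).symm⟩, ⟨1, by norm_num, (mul_one _).symm⟩,
        ⟨2, by norm_num, (mul_one _).symm⟩, ⟨3, by norm_num, (mul_one _).symm⟩, ⟨4, by norm_num, (mul_one _).symm⟩,
        ⟨5, by norm_num, (mul_one _).symm⟩, ⟨6, by norm_num, (mul_one _).symm⟩, ⟨7, by norm_num, (mul_one _).symm⟩]
  obtain ⟨ι⟩ := Cfsg.Agent.FischerPresented.O73.exists_embedding hK hi
  haveI : Finite Cfsg.Agent.Fi22Local.GG := Cfsg.Agent.FischerPresented.Fi22.order_facts.1
  have hcard : Nat.card K = 4585351680 := by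
    have h := Subgroup.card_mul_index K
    rw [hi, Cfsg.Agent.FischerPresented.Fi22.order_facts.2.1] at h
    omega
  refine ⟨K.map Φ.toMonoidHom, ?_, ⟨((K.equivMapOfInjective Φ.toMonoidHom Φ.injective).symm.trans ι)⟩, ?_⟩
  · refine le_antisymm ((Subgroup.closure_le _).2 fun d hd => hd.2) ?_
    conv_lhs => rw [hK, MonoidHom.map_closure]
    refine Subgroup.closure_mono ?_
    rintro _ ⟨_, ⟨x, hx, rfl⟩, rfl⟩
    refine ⟨hΦ ▸ ⟨_, ?_, rfl⟩, ⟨_, hK.symm.le (Subgroup.subset_closure ⟨x, hx, rfl⟩), rfl⟩⟩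
    obtain ⟨y, hy, e, -⟩ := hpick x hx
    rw [e]
    obtain ⟨hlt, he⟩ := Cfsg.Agent.FischerPresented.Out22.tr_gpt hy
    exact (show Cfsg.Agent.Fi22Local.gn y = _ from he.symm) ▸ Cfsg.Agent.FischerPresented.Out22.tr_mem _
  · intro P
    have hG : (Nat.card G).factorization 3 = 9 := by
      rw [← Nat.card_congr Φ.toEquiv]
      exact Cfsg.Agent.Fi22Local.factorization_GG Nat.prime_three
        (k := 9) (c := 2 ^ 17 * 5 ^ 2 * 7 * 11 * 13) (by rw [Cfsg.Agent.Fi22Local.card_GG]; ring) (by norm_num)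
    have hL : (Nat.card ↥(K.map Φ.toMonoidHom)).factorization 3 = 9 := by
      rw [← Nat.card_congr (K.equivMapOfInjective Φ.toMonoidHom Φ.injective).toEquiv, hcard,
        show 4585351680 = 3 ^ 9 * 232960 by norm_num, Nat.factorization_mul (by norm_num) (by norm_num),
        Finsupp.add_apply, Nat.prime_three.factorization_pow, Finsupp.single_eq_same,
        Nat.factorization_eq_zero_of_not_dvd (by norm_num : ¬ 3 ∣ 232960), add_zero]
    have hP : Nat.card ↥((P : Subgroup ↥(K.map Φ.toMonoidHom)).map (K.map Φ.toMonoidHom).subtype) = 3 ^ 9 := by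
      rw [← Nat.card_congr ((P : Subgroup ↥(K.map Φ.toMonoidHom)).equivMapOfInjective _
        (Subgroup.subtype_injective _)).toEquiv, Sylow.card_eq_multiplicity, hL]
    exact ⟨Sylow.ofCard _ (hP.trans (by rw [hG])), rfl⟩

end Cfsg.Agent.S5517
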