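import Cfsg.Statements.S5518
import Cfsg.Agent.Lib.FischerUnique24.ThirteenShape
-- import your own Cfsg.Agent.* helpers here

set_option autoImplicit false
open Cfsg

namespace Cfsg.Agent.S5518

/-- Let G be a finite group with trivial centre generated by a conjugation-invariant set D of 3-transpositions on which it acts primitively, such that for some d in D the subgroup generated by the members of D other than d commuting with d has central largest normal 2- and 3-subgroups, and suppose G with D is of type M(24). Then any two subgroups of order 13 are conjugate; and there are members a, b, c, d of D generating the direct product T of two symmetric groups of degree 3 (a, d non-commuting; b, c non-commuting; b and c commuting with a and d) whose centralizer K is isomorphic to the Chevalley group G₂(3), such that for every subgroup B of K of order 13: the normalizer of B lies in the normalizer of K, the normalizer F of B in K is a Frobenius group of order 78 with kernel B (order 78, centralizer of B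 in it equal to B), and the subgroup generated by F and T has index 2 in the normalizer of B. -/
theorem result {G : Type*} [Group G] [Finite G] {D : Set G} (hD : Cfsg.IsThreeTranspositionGroup D) (hprim : Cfsg.IsPrimitiveUnderConj D) (d₀ : G) (hd₀ : d₀ ∈ D) (h3 : Cfsg.pCore 3 ↥(Subgroup.closure {y : G | y ∈ D ∧ y ≠ d₀ ∧ Commute d₀ y}) ≤ Subgroup.center ↥(Subgroup.closure {y : G | y ∈ D ∧ y ≠ d₀ ∧ Commute d₀ y})) (h2 : Cfsg.pCore 2 ↥(Subgroup.closure {y : G | y ∈ D ∧ y ≠ d₀ ∧ Commute d₀ y}) ≤ Subgroup.center ↥(Subgroup.closure {y : G | y ∈ D ∧ y ≠ d₀ ∧ Commute d₀ y})) (h24 : Cfsg.IsOfTypeM24 G D) : (∀ X Y : Subgroup G, Nat.card X = 13 → Nat.card Y = 13 → ∃ g : G, X.map (MulAut.conj g).toMonoidHom = Y) ∧ ∃ (a b c d : G) (T K : Subgroup G), (∀ x ∈ [a, b, c, d], x ∈ D) ∧ ¬ Commute a d ∧ ¬ Commute b c ∧ Commute a b ∧ Commute a c ∧ Commute d b ∧ Commute d c ∧ T = Subgroup.closure ({a, b, c, d} : Set G) ∧ K = Subgroup.centralizer (T : Set G) ∧ Nonempty (↥K ≃* ↥(Cfsg.Lie.chevG2.group (ZMod 3))) ∧ ∀ B : Subgroup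 G, B ≤ K → Nat.card B = 13 → Subgroup.normalizer ((B : Subgroup G) : Set G) ≤ Subgroup.normalizer ((K : Subgroup G) : Set G) ∧ Nat.card ↥(K ⊓ Subgroup.normalizer ((B : Subgroup G) : Set G)) = 78 ∧ K ⊓ Subgroup.centralizer ((B : Subgroup G) : Set G) = B ∧ (((K ⊓ Subgroup.normalizer ((B : Subgroup G) : Set G)) ⊔ T).subgroupOf (Subgroup.normalizer ((B : Subgroup G) : Set G))).index = 2 := by
  classical
  obtain ⟨d', hd', C⟩ := Cfsg.Agent.FischerUnique24.exists_ctx hD hprim h24
  refine ⟨fun U V hU hV => C.conj13 hU hV, ?_⟩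
  haveI : Fact (Nat.Prime 13) := ⟨by norm_num⟩
  obtain ⟨u, hu⟩ := exists_prime_orderOf_dvd_card' (G := G) 13 (by rw [C.card_group]; norm_num)
  have hB₀ : Nat.card (Subgroup.zpowers u) = 13 := by rw [Nat.card_zpowers, hu]
  obtain ⟨a, b, c, d, ha, hb, hc, hd, had, hbc, hab, hac, hdb, hdc⟩ := C.exists_config13 hB₀
  have hK : Subgroup.centralizer ((Subgroup.closure ({a, b, c, d} : Set G) : Subgroup G) : Set G) =
      Subgroup.centralizer ({a, b, c, d} : Set G) := Subgroup.centralizer_closure _
  refine ⟨a, b, c, d, Subgroup.closure ({a, b, c, d} : Set G),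
    Subgroup.centralizer ((Subgroup.closure ({a, b, c, d} : Set G) : Subgroup G) : Set G),
    ?_, had, hbc, hab, hac, hdb, hdc, rfl, rfl, ?_, fun B hBK hB => ?_⟩
  · intro x hx
    simp only [List.mem_cons, List.not_mem_nil, or_false] at hx
    rcases hx with rfl | rfl | rfl | rfl
    exacts [ha.1, hb.1, hc.1, hd.1]
  · rw [hK]
    exact C.g2_iso13 h24 hB₀ ha hb hc hd had hbc hab hac
  · have key : ∀ v ∈ ({a, b, c, d} : Set G), ∀ g ∈ B, Commute g v := fun v hv g hg =>
      (Subgroup.mem_centralizer_iff.1 (hK.le (hBK hg)) v hv).symm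
    exact C.shape13 hB ⟨ha.1, key a (Or.inl rfl)⟩ ⟨hb.1, key b (Or.inr (Or.inl rfl))⟩
      ⟨hc.1, key c (Or.inr (Or.inr (Or.inl rfl)))⟩ ⟨hd.1, key d (Or.inr (Or.inr (Or.inr rfl)))⟩ had hbc hab hac rfl rfl

end Cfsg.Agent.S5518
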