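import Cfsg.Statements.S5519
import Cfsg.Agent.Lib.FischerUnique.PairProduct
import Cfsg.Agent.Lib.FischerPresented.WE6Orth
import Cfsg.Agent.Lib.Qd.Basic

set_option autoImplicit false
open Cfsg

namespace Cfsg.Agent.S5519

open Cfsg.Agent.FischerPresented

/-- Let G be a finite group with trivial centre generated by a conjugation-invariant set D of 3-transpositions on which it acts primitively, such that for some d in D the subgroup generated by the members of D other than d commuting with d has central largest normal 2- and 3-subgroups, and suppose G with D is of type M(22). Let d₁, d₂ be distinct commuting members of D and C the centralizer of their product. Then the generalized Fitting subgroup of C is the direct product of a group of order 2 and an extraspecial 2-group of order 2^9, and C modulo it is isomorphic to the full isometry group of the elliptic quadratic form in dimension 6 over the field with two elements. -/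
theorem result {G : Type*} [Group G] [Finite G] {D : Set G} (hD : Cfsg.IsThreeTranspositionGroup D) (hprim : Cfsg.IsPrimitiveUnderConj D) (d₀ : G) (hd₀ : d₀ ∈ D) (h3 : Cfsg.pCore 3 ↥(Subgroup.closure {y : G | y ∈ D ∧ y ≠ d₀ ∧ Commute d₀ y}) ≤ Subgroup.center ↥(Subgroup.closure {y : G | y ∈ D ∧ y ≠ d₀ ∧ Commute d₀ y})) (h2 : Cfsg.pCore 2 ↥(Subgroup.closure {y : G | y ∈ D ∧ y ≠ d₀ ∧ Commute d₀ y}) ≤ Subgroup.center ↥(Subgroup.closure {y : G | y ∈ D ∧ y ≠ d₀ ∧ Commute d₀ y})) (h22 : Cfsg.IsOfTypeM22 G D) (d₁ d₂ : G) (h₁ : d₁ ∈ D) (h₂ : d₂ ∈ D) (hne : d₁ ≠ d₂) (hc : Commute d₁ d₂) (C : Subgroup G) (hC : C = Subgroup.centralizer ({d₁ * d₂} : Set G)) [hn : (Cfsg.generalizedFittingSubgroup ↥C).Normal] : (∃ (E : Type) (_ : Group E) (_ : Finite E), Cfsg.IsExtraspecial 2 E ∧ Nat.card E = 2 ^ 9 ∧ Nonempty (↥(Cfsg.generalizedFittingSubgroup ↥C) ≃* Multiplicative (ZMod 2) × E)) ∧ Nonempty (↥C ⧸ Cfsg.generalizedFittingSubgroup ↥C ≃* Cfsg.isometryGroup (ZMod 2) (Cfsg.quadFormMinus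 2 (ZMod 2) 1 1)) := by
  obtain ⟨T, rfl, rfl⟩ := FischerUnique.PairProduct.exists_frame_iso hD hprim h22 h₁ h₂ hne hc
  have hCm : C = Fi22Pair.C0.map T.toMonoidHom := by
    rw [hC, Fi22Pair.C0, FischerUnique.PairProduct.centralizer_map, Set.image_singleton]
    exact congrArg _ (congrArg _ (map_mul T _ _).symm)
  obtain ⟨ι, hι⟩ : ∃ ι : Fi22Pair.C0 ≃* C, ∀ x : Fi22Pair.C0, (ι x : G) = T x :=
    ⟨(MulEquiv.subgroupMap T _).trans (MulEquiv.subgroupCongr hCm.symm), fun _ => rfl⟩
  have hF : (Fi22Pair.E0.subgroupOf Fi22Pair.C0).map ι.toMonoidHom = Cfsg.generalizedFittingSubgroup ↥C := by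
    rw [← Fi22Pair.fstar_C0, Components.generalizedFitting_map_equiv]
  obtain ⟨E, hE, hcard, ⟨φ⟩⟩ := Fi22Pair.exists_split
  obtain ⟨q⟩ := Fi22Pair.nonempty_quot
  obtain ⟨w⟩ := WE6Orth.nonempty_equiv
  refine ⟨?_, ⟨((QuotientGroup.congr _ _ ι hF).symm.trans q).trans w⟩⟩
  haveI := Fi22TwoTwo.finite_G
  obtain ⟨T', hT'⟩ : ∃ T' : E ≃* (E.map T.toMonoidHom), True := ⟨MulEquiv.subgroupMap T E, trivial⟩
  refine ⟨ULift.{0} E, inferInstance, inferInstance, ?_, ?_, ⟨?_⟩⟩
  · exact Qd.isExtraspecial_congr MulEquiv.ulift hE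
  · rw [Nat.card_ulift, hcard]
  · exact ((MulEquiv.subgroupCongr hF.symm).trans ((MulEquiv.subgroupMap ι _).symm.trans
      ((Subgroup.subgroupOfEquivOfLe Fi22Pair.E0_le).trans φ))).trans
      ((MulEquiv.refl _).prodCongr MulEquiv.ulift.symm)

end Cfsg.Agent.S5519
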