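import Cfsg.Statements.S5521
import Cfsg.Agent.Lib.Golay.Local.SixPoints

set_option autoImplicit false
open Cfsg

namespace Cfsg.Agent.S5521
open Cfsg.Agent.Golay Cfsg.Agent.Golay.Cert Cfsg.Agent.PermCert

/-- The Mathieu group M₂₄ in its natural action on the 24 coordinate positions of the binary Golay code has minimal base size exactly 7: every set of at most 6 positions is fixed pointwise by some non-identity element of M₂₄, while some set of 7 positions is fixed pointwise only by the identity. -/
theorem result :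
    (∀ B : Finset Cfsg.GolayPt, B.card ≤ 6 → ∃ g ∈ Cfsg.M24, g ≠ 1 ∧ ∀ b ∈ B, g b = b) ∧
    (∃ B : Finset Cfsg.GolayPt, B.card = 7 ∧ ∀ g ∈ Cfsg.M24, (∀ b ∈ B, g b = b) → g = 1) := by
  classical
  refine ⟨fun B hB => ?_, maskSet 8388671, by rw [card_maskSet]; decide +kernel, fun g hg hfix => ?_⟩
  · obtain ⟨E, hBE, hE⟩ := Finset.exists_superset_card_eq hB (by decide)
    obtain ⟨f⟩ : Nonempty (Fin 6 ≃ E) := ⟨(Finset.equivFinOfCardEq hE).symm⟩
    have hinj : Function.Injective (fun i => ((f i : E) : GolayPt)) :=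
      fun a b h => f.injective (Subtype.ext h)
    have him : Finset.univ.image (fun i => ((f i : E) : GolayPt)) = E := by
      ext p
      simp only [Finset.mem_image, Finset.mem_univ, true_and]
      exact ⟨fun ⟨i, hi⟩ => hi ▸ (f i).2, fun hp => ⟨f.symm ⟨p, hp⟩, by simp⟩⟩
    obtain ⟨b, g, hg, h⟩ := Local.exists_six _ hinj
    have hc := Local.card_fix_of_six hg h
    rw [him] at hc
    have h1 : 1 < Nat.card {c : Equiv.Perm GolayPt // c ∈ M24 ∧ ∀ p ∈ E, c p = p} := by
      rw [hc]; cases b <;> decide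
    haveI : Nontrivial {c : Equiv.Perm GolayPt // c ∈ M24 ∧ ∀ p ∈ E, c p = p} :=
      Finite.one_lt_card_iff_nontrivial.1 h1
    obtain ⟨c, hc1⟩ := exists_ne (⟨1, one_mem _, fun p _ => rfl⟩ :
      {c : Equiv.Perm GolayPt // c ∈ M24 ∧ ∀ p ∈ E, c p = p})
    exact ⟨c, c.2.1, fun h => hc1 (Subtype.ext h), fun p hp => c.2.2 p (hBE hp)⟩
  · obtain ⟨e, he, hl⟩ := Local.search_M24 Local.fix6_searchA hg fun F f hF hf =>
      Local.prFix_spec (m := 8388639) (fun p hp => hfix p (by
        revert p; decide +kernel)) hF hf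
    obtain ⟨n, hn, hs⟩ := Local.anyF_iff.1 hl
    have hall : Local.allF (fun n => Local.sameF n.1 Local.idC ||
        !(Nat.beq (Nat.land (Local.fixF n.1) 8388671) 8388671)) Local.fix6A = true := by decide +kernel
    have hfl := Local.fix6_lists
    simp only [Bool.and_eq_true] at hfl
    have hv := (Local.eltOK_spec (Local.allF_iff.1 hfl.1.1.1.1.1.1.1.1 n (List.mem_append_left _ hn))).1
    have hσ : g = permOf n := (Local.sameF_iff he (Local.code_permOf hv)).1 hs
    have := Local.allF_iff.1 hall n hn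
    simp only [Bool.or_eq_true, Bool.not_eq_true', Bool.eq_false_iff, ne_eq, Nat.beq_eq] at this
    rcases this with h | h
    · exact hσ.trans ((Local.sameF_iff (Local.code_permOf hv) Local.code_idC).1 h)
    · exfalso
      apply h
      refine maskSet_inj (lt_of_le_of_lt Nat.and_le_right (by norm_num)) (by norm_num) ?_
      show maskSet (Local.fixF n.1 &&& 8388671) = _
      rw [maskSet_and, ← (Local.code_permOf hv).fixed]
      exact Finset.inter_eq_right.2 fun p hp => Finset.mem_filter.2 ⟨Finset.mem_univ p, hσ ▸ hfix p hp⟩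

end Cfsg.Agent.S5521
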