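import Cfsg.Statements.S5522
import Cfsg.Agent.Lib.Golay.Local.Cents
import Cfsg.Agent.Lib.Golay.Mathieu

set_option autoImplicit false
open Cfsg

namespace Cfsg.Agent.S5522
open Cfsg.Agent Cfsg.Agent.Golay Cfsg.Agent.Golay.Cert Cfsg.Agent.PermCert
open scoped Pointwise

/-- The Mathieu group M₁₁, realised as the stabiliser of one point of the dodecad of squares inside the stabiliser M₁₂ of that dodecad in M₂₄, acts on the twelve coordinate positions outside the dodecad of squares (its 3-transitive action of degree 12); in this action every element of prime order fixes a point, i.e. the action is elusive. -/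
theorem result (g : Equiv.Perm Cfsg.GolayPt) (hg : g ∈ Cfsg.Spor.M11) (hord : (orderOf g).Prime) :
    ∃ x : Cfsg.GolayPt, x ∉ Cfsg.Spor.squareDodecad ∧ g x = x := by
  classical
  obtain ⟨⟨hM, hst⟩, h0⟩ : (g ∈ M24 ∧ g ∈ MulAction.stabilizer (Equiv.Perm GolayPt) Spor.squareDodecad) ∧
      g ∈ MulAction.stabilizer (Equiv.Perm GolayPt) (some 0 : GolayPt) := by
    simp only [Spor.M11, Spor.M12, Subgroup.mem_inf] at hg
    exact hg
  have hd : g • Spor.squareDodecad = Spor.squareDodecad := hst
  have hz : g (some 0) = some 0 := h0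
  have hdiv : orderOf g ∣ 7920 := by
    rw [← Golay.card_sporM11, ← Subgroup.orderOf_mk g hg]
    exact orderOf_dvd_natCard _
  obtain ⟨p, hp, hpe⟩ : ∃ p, p.Prime ∧ orderOf g = p := ⟨_, hord, rfl⟩
  haveI : Fact p.Prime := ⟨hp⟩
  have hp4 : p = 2 ∨ p = 3 ∨ p = 5 ∨ p = 11 := by
    rw [hpe, show 7920 = 2 * 2 * 2 * 2 * 3 * 3 * 5 * 11 from rfl] at hdiv
    simp only [hp.dvd_mul, Nat.prime_dvd_prime_iff_eq hp Nat.prime_two, Nat.prime_dvd_prime_iff_eq hp Nat.prime_three,
      Nat.prime_dvd_prime_iff_eq hp (show Nat.Prime 5 by norm_num),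
      Nat.prime_dvd_prime_iff_eq hp (show Nat.Prime 11 by norm_num)] at hdiv
    tauto
  have hiff : ∀ x, g x ∈ Spor.squareDodecad ↔ x ∈ Spor.squareDodecad := fun x => by
    have h := Finset.smul_mem_smul_finset_iff (s := Spor.squareDodecad) (b := x) g
    rwa [hd, Equiv.Perm.smul_def] at h
  have hC : ∀ x, g x ∉ Spor.squareDodecad ↔ x ∉ Spor.squareDodecad := fun x => not_congr (hiff x)
  have hpow : g ^ p = 1 := hpe ▸ pow_orderOf_eq_one g
  have hne : g ≠ 1 := fun h => by rw [h, orderOf_one] at hpe; exact hp.ne_one hpe.symm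
  rcases hp4 with rfl | rfl | hp5
  · have hc : (Finset.univ.filter fun x => g x = x).card ≠ 0 :=
      Finset.card_ne_zero.2 ⟨some 0, Finset.mem_filter.2 ⟨Finset.mem_univ _, hz⟩⟩
    obtain ⟨k, hk, rfl⟩ := Golay.Local.class2A hM hpe hc
    have ho : (Finset.univ.filter fun x => (k * Golay.Local.R2A * k⁻¹) x = x) ∈ octads := by
      rw [Golay.Local.fixed_conj]
      exact Golay.smul_mem_octads hk Golay.Local.facts.1.2.2.2
    obtain ⟨m, hm, hme⟩ := Golay.Local.mem_octads'.1 ho
    by_contra hcon
    push Not at hcon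
    have hsub : maskSet m ∩ maskSet Golay.sqMask = maskSet m := by
      rw [← Golay.squareDodecad_eq, hme]
      refine Finset.inter_eq_left.2 fun x hx => ?_
      by_contra hxd
      exact hcon x hxd (Finset.mem_filter.1 hx).2
    have hall : Golay.Local.allF (fun o => !(Nat.beq (Nat.land o Golay.sqMask) o)) Golay.Local.octLit = true := by
      decide +kernel
    have := Golay.Local.allF_iff.1 hall m hm
    rw [Bool.not_eq_true', Bool.eq_false_iff, ne_eq, Nat.beq_eq] at this
    apply this
    refine maskSet_inj (lt_of_le_of_lt Nat.and_le_left (Golay.Local.octLit_lt hm)) (Golay.Local.octLit_lt hm) ?_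
    rw [show Nat.land m Golay.sqMask = m &&& Golay.sqMask from rfl, maskSet_and, hsub]
  · have hc : (Finset.univ.filter fun x => g x = x).card ≠ 0 :=
      Finset.card_ne_zero.2 ⟨some 0, Finset.mem_filter.2 ⟨Finset.mem_univ _, hz⟩⟩
    have h6 : (Finset.univ.filter fun x => g x = x).card = 6 := by
      obtain ⟨k, hk, rfl⟩ := Golay.Local.class3A hM hpe hc
      rw [Golay.Local.conj_fixed_card]; exact Golay.Local.facts.2.2.1.2.2
    by_contra hcon
    push Not at hcon
    obtain ⟨t, ht, htc⟩ := Finset.exists_subset_card_eq (show 5 ≤ (Finset.univ.filter fun x => g x = x).card by omega)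
    obtain ⟨f⟩ : Nonempty (Fin 5 ≃ t) := ⟨(Finset.equivFinOfCardEq htc).symm⟩
    have hy : Function.Injective (fun i => ((f i : t) : GolayPt)) :=
      fun a b h => f.injective (Subtype.ext h)
    have hyd : ∀ i, ((f i : t) : GolayPt) ∈ Spor.squareDodecad := fun i => by
      by_contra hxd
      exact hcon _ hxd (Finset.mem_filter.1 (ht (f i).2)).2
    have hgS : g ∈ Golay.stabSets [Spor.squareDodecad] := by
      rw [← Golay.sporM12_eq]; exact Subgroup.mem_inf.2 ⟨hM, hst⟩
    obtain ⟨a, ha, huniq⟩ := Golay.existsUnique_m12 _ hy hyd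
    have := huniq ⟨g * a, mul_mem hgS a.2⟩ fun i => by
      rw [Equiv.Perm.mul_apply, ha i]; exact (Finset.mem_filter.1 (ht (f i).2)).2
    exact hne (mul_eq_right.1 (congrArg Subtype.val this))
  · have h12 : Fintype.card {x // x ∉ Spor.squareDodecad} = 12 := by
      rw [Fintype.card_subtype_compl, Fintype.card_coe, Golay.squareDodecad_eq, card_maskSet]
      decide +kernel
    set σ : Equiv.Perm {x // x ∉ Spor.squareDodecad} := g.subtypePerm hC with hσ
    have hσp : σ ^ p ^ 1 = 1 := by
      rw [pow_one, hσ, Equiv.Perm.subtypePerm_pow]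
      exact Equiv.ext fun x => Subtype.ext (by
        simp only [Equiv.Perm.subtypePerm_apply, Equiv.Perm.coe_one, id_eq]
        rw [hpow]; rfl)
    have h := σ.card_compl_support_modEq hσp
    rw [h12] at h
    have hpos : σ.supportᶜ.card ≠ 0 := fun h0 => by
      rw [h0] at h
      rcases hp5 with rfl | rfl <;> simp [Nat.ModEq] at h
    obtain ⟨x, hx⟩ := Finset.card_ne_zero.1 hpos
    rw [Finset.mem_compl, Equiv.Perm.notMem_support] at hx
    exact ⟨x, x.2, congrArg Subtype.val hx⟩

end Cfsg.Agent.S5522
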