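import Cfsg.Statements.S5529
import Cfsg.Agent.Lib.Golay.TripleGen
-- import your own Cfsg.Agent.* helpers here

set_option autoImplicit false
open Cfsg

namespace Cfsg.Agent.S5529

/-- Generation of the Mathieu group M₂₃ (the stabiliser of a point in the Mathieu group M₂₄ acting on 24 points) by triples of prime orders. Let p ≤ q ≤ r be primes dividing |M₂₃| = 10200960 = 2⁷·3²·5·7·11·23, not both p and q equal to 2. Then M₂₃ contains elements x, y, z of orders p, q, r with xyz = 1 and ⟨x, y⟩ = M₂₃ if and only if (p, q, r) is none of: (2, 3, r) for any r, (2, 5, 5), (2, 5, 7), (3, 3, 3), (3, 3, 5), (3, 3, 7). -/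
theorem result (p q r : ℕ) (hp : p.Prime) (hq : q.Prime)
    (hr : r.Prime) (hpq : p ≤ q) (hqr : q ≤ r) (hp2 : ¬ (p = 2 ∧ q = 2))
    (hdvd : p ∣ 10200960 ∧ q ∣ 10200960 ∧ r ∣ 10200960) :
    (∃ x y z : Cfsg.Spor.M23, orderOf x = p ∧ orderOf y = q ∧ orderOf z = r ∧ x * y * z = 1 ∧
        Subgroup.closure {x, y} = ⊤) ↔
      ¬ ((p = 2 ∧ q = 3) ∨ (p = 2 ∧ q = 5 ∧ r = 5) ∨ (p = 2 ∧ q = 5 ∧ r = 7) ∨ (p = 3 ∧ q = 3 ∧ r ≤ 7)) := by
  have hprimes : ∀ n : ℕ, n.Prime → n ∣ 10200960 → n ∈ [2, 3, 5, 7, 11, 23] := by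
    intro n hn hdiv
    rw [show (10200960 : ℕ) = 2 ^ 7 * 3 ^ 2 * 5 * 7 * 11 * 23 from rfl] at hdiv
    simp only [Nat.Prime.dvd_mul hn, Nat.prime_dvd_prime_iff_eq hn, Nat.prime_two, Nat.prime_three] at hdiv
    rcases hdiv with ((((h | h) | h) | h) | h) | h
    · simp [(Nat.prime_dvd_prime_iff_eq hn Nat.prime_two).1 (hn.dvd_of_dvd_pow h)]
    · simp [(Nat.prime_dvd_prime_iff_eq hn Nat.prime_three).1 (hn.dvd_of_dvd_pow h)]
    all_goals first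
      | simp [(Nat.prime_dvd_prime_iff_eq hn (by norm_num)).1 h]
      | simp [h]
  have hpL := hprimes p hp hdvd.1
  have hqL := hprimes q hq hdvd.2.1
  have hrL := hprimes r hr hdvd.2.2
  constructor
  · rintro ⟨x, y, z, hx, hy, hz, hxyz, hgen⟩ hex
    refine Cfsg.Agent.Golay.TripleGen.not_exists hpL hqL hrL ?_ hx hy hz hxyz hgen
    simp only [List.mem_cons, List.not_mem_nil, or_false] at hrL
    rcases hex with ⟨rfl, rfl⟩ | ⟨rfl, rfl, rfl⟩ | ⟨rfl, rfl, rfl⟩ | ⟨rfl, rfl, h7⟩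
    · rcases hrL with rfl | rfl | rfl | rfl | rfl | rfl <;> decide
    · decide
    · decide
    · rcases hrL with rfl | rfl | rfl | rfl | rfl | rfl <;> first | omega | decide
  · intro hex
    refine Cfsg.Agent.Golay.TripleGen.exists_of_mem hp hq hr ?_
    have key : ∀ p ∈ [2, 3, 5, 7, 11, 23], ∀ q ∈ [2, 3, 5, 7, 11, 23], ∀ r ∈ [2, 3, 5, 7, 11, 23],
        p ≤ q → q ≤ r → ¬ (p = 2 ∧ q = 2) →
        ¬ ((p = 2 ∧ q = 3) ∨ (p = 2 ∧ q = 5 ∧ r = 5) ∨ (p = 2 ∧ q = 5 ∧ r = 7) ∨ (p = 3 ∧ q = 3 ∧ r ≤ 7)) →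
        (p, q, r) ∈ Cfsg.Agent.Golay.TripleGen.witKeys := by decide +kernel
    exact key p hpL q hqL r hrL hpq hqr hp2 hex

end Cfsg.Agent.S5529
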