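import Cfsg.Statements.S5541
import Mathlib.LinearAlgebra.Dual.Lemmas

set_option autoImplicit false
open Cfsg

namespace Cfsg.Agent.S5541

/-- Let ρ be a representation of a group H on a finite-dimensional real vector space U whose only ρ-invariant subspaces are the zero subspace and U, and suppose U carries a non-zero ρ-invariant symmetric bilinear form. Then the following are equivalent: (1) there is a non-zero ρ-equivariant commutative bilinear product on U of which every ρ-equivariant bilinear product is a scalar multiple; (2) there is a non-zero ρ-invariant trilinear form on U that is symmetric under all permutations of its arguments and of which every ρ-invariant trilinear form is a scalar multiple. -/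
theorem result {H : Type*} [Group H] {U : Type*} [AddCommGroup U] [Module ℝ U] [FiniteDimensional ℝ U] (ρ : Representation ℝ H U) (hirr : ∀ W : Submodule ℝ U, (∀ g : H, W.map (ρ g) ≤ W) → W = ⊥ ∨ W = ⊤) (B : LinearMap.BilinForm ℝ U) (hB0 : B ≠ 0) (hBs : ∀ u v, B u v = B v u) (hBi : ∀ (g : H) (u v : U), B (ρ g u) (ρ g v) = B u v) : (∃ m : U →ₗ[ℝ] U →ₗ[ℝ] U, m ≠ 0 ∧ (∀ u v, m u v = m v u) ∧ (∀ (g : H) (u v : U), m (ρ g u) (ρ g v) = ρ g (m u v)) ∧ ∀ m' : U →ₗ[ℝ] U →ₗ[ℝ] U, (∀ (g : H) (u v : U), m' (ρ g u) (ρ g v) = ρ g (m' u v)) → ∃ c : ℝ, m' = c • m) ↔ (∃ t : U →ₗ[ℝ] U →ₗ[ℝ] U →ₗ[ℝ] ℝ, t ≠ 0 ∧ (∀ u v w, t u v w = t v u w ∧ t u v w = t u w v) ∧ (∀ (g : H) (u v w : U), t (ρ g u) (ρ g v) (ρ g w) = t u v w) ∧ ∀ t' : U →ₗ[ℝ] U →ₗ[ℝ] U →ₗ[ℝ] ℝ, (∀ (g : H) (u v w : U), t' (ρ g u) (ρ g v) (ρ g w) = t' u v w) → ∃ c : ℝ, t' = c • t) := by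
  have hnd : Function.Injective B := by
    rw [← LinearMap.ker_eq_bot]
    refine (hirr _ fun g => ?_).resolve_right fun h => hB0 (LinearMap.ker_eq_top.1 h)
    rintro _ ⟨v, hv, rfl⟩
    rw [SetLike.mem_coe, LinearMap.mem_ker] at hv
    rw [LinearMap.mem_ker]
    ext w
    have e : ρ g (ρ g⁻¹ w) = w := by
      rw [← Module.End.mul_apply, ← map_mul, mul_inv_cancel, map_one, Module.End.one_apply]
    rw [← e, hBi, hv]
    simp
  let e : U ≃ₗ[ℝ] Module.Dual ℝ U := LinearMap.linearEquivOfInjective B hnd (Subspace.dual_finrank_eq).symm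
  have he : ∀ u w, e u w = B u w := fun u w => by
    show (LinearMap.linearEquivOfInjective B hnd _ u) w = _
    rfl
  have hext : ∀ a b : U, (∀ w, B a w = B b w) → a = b := fun a b h => hnd (LinearMap.ext h)
  have hes : ∀ (f : Module.Dual ℝ U) w, B (e.symm f) w = f w := fun f w => by
    rw [← he, LinearEquiv.apply_symm_apply]
  have cancel : ∀ g w, ρ g (ρ g⁻¹ w) = w := fun g w => by
    rw [← Module.End.mul_apply, ← map_mul, mul_inv_cancel, map_one, Module.End.one_apply]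
  let Φ : (U →ₗ[ℝ] U →ₗ[ℝ] U) → (U →ₗ[ℝ] U →ₗ[ℝ] U →ₗ[ℝ] ℝ) := fun m => m.compr₂ B
  let Ψ : (U →ₗ[ℝ] U →ₗ[ℝ] U →ₗ[ℝ] ℝ) → (U →ₗ[ℝ] U →ₗ[ℝ] U) := fun t =>
    t.compr₂ (e.symm : Module.Dual ℝ U →ₗ[ℝ] U)
  have hΦ : ∀ m u v w, Φ m u v w = B (m u v) w := fun _ _ _ _ => rfl
  have hΨ : ∀ t u v w, B (Ψ t u v) w = t u v w := fun t u v w => hes _ _
  have hΦΨ : ∀ t, Φ (Ψ t) = t := fun t => by
    ext u v w; rw [hΦ, hΨ]
  have hΨΦ : ∀ m, Ψ (Φ m) = m := fun m => LinearMap.ext fun u => LinearMap.ext fun v =>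
    hext _ _ fun w => by rw [hΨ, hΦ]
  have hΦi : ∀ m, (∀ (g : H) (u v : U), m (ρ g u) (ρ g v) = ρ g (m u v)) →
      ∀ (g : H) (u v w : U), Φ m (ρ g u) (ρ g v) (ρ g w) = Φ m u v w := fun m hm g u v w => by
    rw [hΦ, hΦ, hm, hBi]
  have hΨi : ∀ t, (∀ (g : H) (u v w : U), t (ρ g u) (ρ g v) (ρ g w) = t u v w) →
      ∀ (g : H) (u v : U), Ψ t (ρ g u) (ρ g v) = ρ g (Ψ t u v) := fun t ht g u v => hext _ _ fun w => by
    rw [hΨ, ← cancel g w, hBi, hΨ, ht]
  have hlin : ∀ (c : ℝ) m, Φ (c • m) = c • Φ m := fun c m => by ext u v w; simp [hΦ]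
  constructor
  · rintro ⟨m, hm0, hms, hmi, hmu⟩
    refine ⟨Φ m, fun h => hm0 ?_, fun u v w => ?_, hΦi m hmi, fun t' ht' => ?_⟩
    · rw [← hΨΦ m, h]
      ext u v
      exact hext _ _ fun w => by rw [hΨ]; simp
    · have hsym : ∀ u v w, Φ m u v w = Φ m v u w := fun u v w => by rw [hΦ, hΦ, hms]
      refine ⟨hsym u v w, ?_⟩
      let t' : U →ₗ[ℝ] U →ₗ[ℝ] U →ₗ[ℝ] ℝ :=
        (LinearMap.lflip (R := ℝ) (R₂ := ℝ) (M := U) (N := U) (P := ℝ)).toLinearMap.comp (Φ m)
      have ht' : ∀ u v w, t' u v w = Φ m u w v := fun _ _ _ => rfl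
      obtain ⟨c, hc⟩ := hmu (Ψ t') (hΨi t' fun g u v w => by rw [ht', ht', hΦi m hmi])
      have hc' : ∀ u v w, Φ m u w v = c * Φ m u v w := fun u v w => by
        rw [← ht', ← hΦΨ t', hc, hlin]
        simp
      by_cases hzero : ∀ u v w, Φ m u v w = 0
      · rw [hzero, hzero]
      push Not at hzero
      obtain ⟨p, q, r, hpqr⟩ := hzero
      have hc2 : c * c = 1 := by
        have := hc' p q r
        rw [hc' p r q] at this
        field_simp at this ⊢
        have h2 : (c * c - 1) * Φ m p q r = 0 := by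
          have h3 := hc' p r q
          rw [hc' p q r] at h3
          linarith
        rcases mul_eq_zero.1 h2 with h | h
        · linarith
        · exact absurd h hpqr
      rcases mul_self_eq_one_iff.1 hc2 with h | h
      · rw [hc', h, one_mul]
      · exfalso
        subst h
        have a : ∀ u v w, Φ m u w v = - Φ m u v w := fun u v w => by rw [hc']; ring
        have h1 := hsym p q r
        have h2 := a q r p
        have h3 := hsym q r p
        have h4 := a r p q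
        have h5 := hsym r p q
        have h6 := a p q r
        exact hpqr (by linarith)
    · obtain ⟨c, hc⟩ := hmu (Ψ t') (hΨi t' ht')
      exact ⟨c, by rw [← hΦΨ t', hc, hlin]⟩
  · rintro ⟨t, ht0, hts, hti, htu⟩
    refine ⟨Ψ t, fun h => ht0 ?_, fun u v => hext _ _ fun w => by rw [hΨ, hΨ]; exact (hts u v w).1,
      hΨi t hti, fun m' hm' => ?_⟩
    · rw [← hΦΨ t, h]
      ext u v w
      simp [hΦ]
    · obtain ⟨c, hc⟩ := htu (Φ m') (hΦi m' hm')
      refine ⟨c, ?_⟩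
      rw [← hΨΦ m', hc]
      ext u v
      exact hext _ _ fun w => by simp [hΨ]

end Cfsg.Agent.S5541
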