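import Cfsg.Statements.S5543
import Mathlib.LinearAlgebra.Eigenspace.Basic

set_option autoImplicit false
open Cfsg

namespace Cfsg.Agent.S5543

/-- Let V be a finite-dimensional real vector space with a commutative bilinear product and a positive-definite symmetric bilinear form that associates with the product and satisfies the Norton inequality (the Majorana setting of the definitions). Let X be a group of linear automorphisms of V in which every element squares to the identity, and suppose every non-identity element x of X is a Majorana involution with an axial vector a(x) of squared length 1, such that for any two distinct non-identity x, y the product a(x) ∘ a(y) equals (1/8)(a(x) + a(y) − a(xy)) (the dihedral subalgebra of type 2A whose third axis belongs to the involution xy). Then X has order at most 4. -/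
theorem result {V : Type*} [AddCommGroup V] [Module ℝ V] [FiniteDimensional ℝ V] (mul : V →ₗ[ℝ] V →ₗ[ℝ] V) (B : LinearMap.BilinForm ℝ V) (hV : Cfsg.Axial.IsMajoranaAmbient mul B) (X : Subgroup (V ≃ₗ[ℝ] V)) (hX : ∀ x ∈ X, x * x = 1) (ax : (V ≃ₗ[ℝ] V) → V) (hax : ∀ x ∈ X, x ≠ 1 → Cfsg.Axial.IsMajoranaPair mul B x (ax x)) (h1 : ∀ x ∈ X, x ≠ 1 → B (ax x) (ax x) = 1) (h2A : ∀ x ∈ X, ∀ y ∈ X, x ≠ 1 → y ≠ 1 → x ≠ y → mul (ax x) (ax y) = (1 / 8 : ℝ) • (ax x + ax y - ax (x * y))) : Nat.card ↥X ≤ 4 := by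
  classical
  by_contra hcard
  push Not at hcard
  haveI : Finite ↥X := Nat.finite_of_card_ne_zero (by omega)
  have pick : ∀ s : Finset ↥X, s.card ≤ 4 → ∃ x : ↥X, x ∉ s := by
    intro s hs
    haveI := Fintype.ofFinite ↥X
    obtain ⟨x, -, hx⟩ := Finset.exists_mem_notMem_of_card_lt_card (s := s) (t := Finset.univ)
      (by rw [Finset.card_univ, ← Nat.card_eq_fintype_card]; omega)
    exact ⟨x, hx⟩
  have hsq : ∀ x : ↥X, x * x = 1 := fun x => Subtype.ext (hX x x.2)
  have hinv : ∀ x : ↥X, x⁻¹ = x := fun x => inv_eq_of_mul_eq_one_right (hsq x)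
  have hc : ∀ x y : ↥X, x * y = y * x := fun x y => by
    rw [← hinv (x * y), mul_inv_rev, hinv, hinv]
  have hm : ∀ x y : ↥X, x * (x * y) = y := fun x y => by rw [← mul_assoc, hsq, one_mul]
  obtain ⟨x, hx⟩ := pick {1} (by simp)
  obtain ⟨y, hy⟩ := pick {1, x} (Finset.card_le_two.trans (by omega))
  obtain ⟨z, hz⟩ := pick {1, x, y, x * y} Finset.card_le_four
  simp only [Finset.mem_insert, Finset.mem_singleton, not_or] at hx hy hz
  obtain ⟨hy1, hyx⟩ := hy
  obtain ⟨hz1, hzx, hzy, hzxy⟩ := hz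
  have ne_one : ∀ {p q : ↥X}, p ≠ q → p * q ≠ 1 := fun {p q} h e => h (by
    rw [← mul_one p, ← e, hm])
  have hxy : x * y ≠ 1 := ne_one (Ne.symm hyx)
  have hxz : x * z ≠ 1 := ne_one (Ne.symm hzx)
  have hyz : y * z ≠ 1 := ne_one (Ne.symm hzy)
  have hxyz : x * y * z ≠ 1 := ne_one (Ne.symm hzxy)
  obtain ⟨⟨hcomm, hBs, hBpos, -, -⟩⟩ : Cfsg.Axial.IsMajoranaAmbient mul B ∧ True := ⟨hV, trivial⟩
  let A : ↥X → V := fun p => ax p
  have val : ∀ p : ↥X, p ≠ 1 → (p : V ≃ₗ[ℝ] V) ≠ 1 := fun p h e => h (Subtype.ext e)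
  have h2 : ∀ p q r : ↥X, p ≠ 1 → q ≠ 1 → p ≠ q → p * q = r →
      mul (A p) (A q) = (1 / 8 : ℝ) • (A p + A q - A r) := by
    intro p q r hp hq hpq hr
    subst hr
    exact h2A p p.2 q q.2 (val p hp) (val q hq) fun e => hpq (Subtype.ext e)
  have hidem : ∀ p : ↥X, p ≠ 1 → mul (A p) (A p) = A p := fun p hp =>
    (hax p p.2 (val p hp)).2.2.1.1.2.1
  have inj : ∀ p q : ↥X, p ≠ 1 → q ≠ 1 → p ≠ q → A p ≠ A q := by
    intro p q hp hq hpq e
    have h := h2 p q _ hp hq hpq rfl
    rw [← e, hidem p hp] at h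
    have h6 : A (p * q) = (-6 : ℝ) • A p := by linear_combination (norm := module) (8 : ℝ) • h
    have hb := h1 _ (p * q).2 (val _ (ne_one hpq))
    change B (A (p * q)) (A (p * q)) = 1 at hb
    have h1p : B (A p) (A p) = 1 := h1 p p.2 (val p hp)
    rw [h6] at hb
    simp [h1p] at hb
    norm_num at hb
  have quarter : ∀ p q r : ↥X, p ≠ 1 → q ≠ 1 → p ≠ q → p * q = r →
      A q - A r ∈ Cfsg.Axial.eigen mul (A p) (1 / 4) := by
    intro p q r hp hq hpq hr
    rw [Cfsg.Axial.eigen, Module.End.mem_eigenspace_iff, map_sub, h2 p q r hp hq hpq hr,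
      h2 p r q hp (hr ▸ ne_one hpq) (fun e => hq (by
        have := congrArg (p * ·) hr
        simp only [hm] at this
        rw [this, ← e, hsq])) (by rw [← hr, hm])]
    module
  have h1x : (x : ↥X) ≠ 1 := hx
  have e1 := quarter x y (x * y) hx hy1 (Ne.symm hyx) rfl
  have e2 := quarter x z (x * z) hx hz1 (Ne.symm hzx) rfl
  have nyxz : y ≠ x * z := fun e => hzxy (by rw [e, hm])
  have nxy_z : x * y ≠ z := Ne.symm hzxy
  have nxy_xz : x * y ≠ x * z := fun e => hzy (mul_left_cancel e).symm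
  have e3 := quarter x (x * y * z) (y * z) hx hxyz
    (fun e => hyz (by rw [mul_assoc, eq_comm, mul_eq_left] at e; exact e))
    (by rw [mul_assoc, hm])
  have prod : mul (A y - A (x * y)) (A z - A (x * z)) =
      (1 / 4 : ℝ) • (A (x * y * z) - A (y * z)) := by
    rw [map_sub, map_sub, LinearMap.sub_apply, LinearMap.sub_apply,
      h2 y z (y * z) hy1 hz1 (Ne.symm hzy) rfl,
      h2 (x * y) z (x * y * z) hxy hz1 nxy_z rfl,
      h2 y (x * z) (x * y * z) hy1 hxz nyxz (by rw [← mul_assoc, hc y x]),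
      h2 (x * y) (x * z) (y * z) hxy hxz nxy_xz (by
        rw [hc x y, mul_assoc, hm])]
    module
  have hq : (1 / 4 : ℝ) ∈ Cfsg.Axial.majoranaSpectrum := by simp [Cfsg.Axial.majoranaSpectrum]
  have hf := (hax x x.2 (val x hx)).2.2.1.1.2.2.2 _ hq _ hq _ e1 _ e2
  rw [show ax (x : V ≃ₗ[ℝ] V) = A x from rfl] at hf
  have hlaw : Cfsg.Axial.monsterLaw (1 / 4 : ℝ) (1 / 32) (1 / 4) (1 / 4) = {1, 0} := by
    norm_num [Cfsg.Axial.monsterLaw]
  rw [hlaw, prod] at hf
  set T := mul (A x) with hT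
  have hker : Cfsg.Axial.eigenSum mul (A x) {1, 0} ≤ LinearMap.ker (T.comp T - T) := by
    refine iSup₂_le fun c hc v hv => ?_
    rw [Cfsg.Axial.eigen, Module.End.mem_eigenspace_iff] at hv
    rw [LinearMap.mem_ker, LinearMap.sub_apply, LinearMap.comp_apply]
    rw [hT]
    rw [hv, map_smul, hv]
    rcases hc with rfl | rfl <;> simp
  have h0 := hker hf
  have hev : T (A (x * y * z) - A (y * z)) = (1 / 4 : ℝ) • (A (x * y * z) - A (y * z)) := by
    have := e3
    rwa [Cfsg.Axial.eigen, Module.End.mem_eigenspace_iff] at this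
  rw [LinearMap.mem_ker, LinearMap.sub_apply, LinearMap.comp_apply, map_smul, hev, map_smul,
    map_smul, hev] at h0
  have : A (x * y * z) - A (y * z) = 0 := by
    linear_combination (norm := module) (-(64 / 3) : ℝ) • h0
  exact inj _ _ hxyz hyz (fun e => hx (by
    rw [mul_assoc, mul_eq_right] at e; exact e)) (sub_eq_zero.1 this)

end Cfsg.Agent.S5543
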