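import Cfsg.Statements.S5547
import Cfsg.Agent.Lib.FischerLinear.Cert
import Cfsg.Agent.Lib.FischerLinear.Data
import Cfsg.Agent.Lib.FischerPresented.Fi22
-- import your own Cfsg.Agent.* helpers here

set_option autoImplicit false
open Cfsg

namespace Cfsg.Agent.S5547

/-- The position of a generator. -/
def ix : Cfsg.Spor.Fi22.Gen → ℕ
  | .a => 0 | .b => 1 | .c => 2 | .d => 3 | .e => 4 | .f => 5 | .g => 6 | .h => 7 | .i => 8

/-- The nine matrices. -/
def gs : List (List (List (ℕ × ℕ))) :=
  [FischerLinear.rowsA, FischerLinear.rowsB, FischerLinear.rowsC, FischerLinear.rowsD, FischerLinear.rowsE,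
    FischerLinear.rowsF, FischerLinear.rowsG, FischerLinear.rowsH, FischerLinear.rowsI]

theorem gs_ok : ∀ x : Cfsg.Spor.Fi22.Gen, FischerLinear.okMat 78 90 (gs.getD (ix x) []) = true := by
  intro x
  cases x <;> decide +kernel

/-- The matrix of a generator. -/
def mat (x : Cfsg.Spor.Fi22.Gen) : Matrix (Fin 78) (Fin 78) (ZMod 13) :=
  FischerLinear.modMat 78 13 (gs.getD (ix x) [])

theorem word_one (w : List Cfsg.Spor.Fi22.Gen)
    (h : FischerLinear.checkWord 78 13 90 gs (w.map ix) = true) : (w.map mat).prod = 1 := by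
  have := FischerLinear.modWord_eq_one (w.map ix)
    (by intro a ha; obtain ⟨x, -, rfl⟩ := List.mem_map.1 ha; exact gs_ok x) h
  rwa [List.map_map] at this

theorem mat_sq (x : Cfsg.Spor.Fi22.Gen) : mat x * mat x = 1 := by
  have := word_one [x, x] (by cases x <;> decide +kernel)
  simpa using this

/-- The generators as units. -/
def unit (x : Cfsg.Spor.Fi22.Gen) : GL (Fin 78) (ZMod 13) := ⟨mat x, mat x, mat_sq x, mat_sq x⟩

theorem words_one (w : List Cfsg.Spor.Fi22.Gen)
    (h : FischerLinear.checkWord 78 13 90 gs (w.map ix) = true) : (w.map unit).prod = 1 := by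
  refine Units.ext ?_
  rw [← Units.coeHom_apply, map_list_prod, List.map_map, Units.val_one]
  exact word_one w h

theorem long_one (w : List Cfsg.Spor.Fi22.Gen) (k : ℕ)
    (h : FischerLinear.checkWord 78 13 90 gs (((List.replicate k w).flatten).map ix) = true) :
    (w.map unit).prod ^ k = 1 := by
  have := words_one _ h
  rwa [List.map_flatten, List.map_replicate, List.prod_flatten, List.map_replicate, List.prod_replicate] at this

theorem pair_one (x y : Cfsg.Spor.Fi22.Gen) :
    (unit x * unit y) ^ Cfsg.Spor.coxLabel Cfsg.Spor.Fi22.edges x y = 1 := by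
  have h := long_one [x, y] (Cfsg.Spor.coxLabel Cfsg.Spor.Fi22.edges x y)
    (by cases x <;> cases y <;> decide +kernel)
  simpa using h

theorem mat_a_ne_one : mat Cfsg.Spor.Fi22.Gen.a ≠ 1 := by
  intro e
  have h : FischerLinear.natMat 78 FischerLinear.rowsA ⟨3, by norm_num⟩ ⟨3, by norm_num⟩ % 13 = 12 := by
    decide +kernel
  have h1 : ((FischerLinear.natMat 78 FischerLinear.rowsA ⟨3, by norm_num⟩ ⟨3, by norm_num⟩ : ℕ) : ZMod 13) = 1 := by
    have := congrFun (congrFun e ⟨3, by norm_num⟩) ⟨3, by norm_num⟩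
    rwa [Matrix.one_apply_eq] at this
  rw [← ZMod.natCast_mod, h] at h1
  exact absurd h1 (by decide)

/-- The Fischer group Fi₂₂ (the finitely presented 3-transposition group of the definitions) is isomorphic to a subgroup of the general linear group of degree 78 over the field with 13 elements: there is an injective homomorphism into it. -/
theorem result : ∃ f : Cfsg.Spor.Fi22 →* GL (Fin 78) (ZMod 13), Function.Injective f := by
  have hrel : ∀ r ∈ Cfsg.Spor.coxRelators Cfsg.Spor.Fi22.edges ∪ {r | r ∈ Cfsg.Spor.Fi22.extra},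
      FreeGroup.lift unit r = 1 := by
    rintro r (⟨x, -, y, -, rfl⟩ | hr)
    · rw [map_pow, map_mul, FreeGroup.lift_apply_of, FreeGroup.lift_apply_of]
      exact pair_one x y
    · rw [Set.mem_ofPred_eq, Cfsg.Spor.Fi22.extra] at hr
      simp only [List.mem_cons, List.not_mem_nil, or_false] at hr
      rcases hr with rfl | rfl | rfl <;>
        simp only [map_pow, map_mul, FreeGroup.lift_apply_of]
      · simpa [mul_assoc] using long_one [.d, .c, .b, .d, .e, .f, .d, .h, .i] 10 (by decide +kernel)
      · simpa [mul_assoc] using long_one [.a, .b, .c, .d, .e, .f, .h] 9 (by decide +kernel)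
      · simpa [mul_assoc] using long_one [.b, .c, .d, .e, .f, .g, .h] 9 (by decide +kernel)
  haveI : IsSimpleGroup Cfsg.Spor.Fi22 := Cfsg.Agent.FischerPresented.Fi22.isSimpleGroup
  refine ⟨PresentedGroup.toGroup hrel, ?_⟩
  rw [← MonoidHom.ker_eq_bot_iff]
  rcases (MonoidHom.normal_ker (PresentedGroup.toGroup hrel)).eq_bot_or_eq_top with h | h
  · exact h
  · exfalso
    have h1 : (PresentedGroup.of Cfsg.Spor.Fi22.Gen.a : Cfsg.Spor.Fi22) ∈
        (PresentedGroup.toGroup hrel).ker := by rw [h]; trivial
    rw [MonoidHom.mem_ker, PresentedGroup.toGroup.of] at h1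
    exact mat_a_ne_one (congrArg Units.val h1)

end Cfsg.Agent.S5547
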