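import Cfsg.Statements.S5549
import Cfsg.Agent.Lib.Golay.Local.OrbRigid

set_option autoImplicit false
open Cfsg

namespace Cfsg.Agent.S5549
open Cfsg.Agent

/-- Let X be a group of linear automorphisms of the length-24 binary Golay code of the definitions that fix the all-ones word, containing the coordinate-permutation action of every element of the code's automorphism group (the Mathieu group of degree 24), and such that every element of X sends each codeword into its orbit under that Mathieu group up to adding the all-ones word (X has the same orbits as the Mathieu group on the code modulo the all-ones word). Then every element of X agrees, modulo the all-ones word, with the action of a single element of the Mathieu group: X induces exactly the Mathieu group on the code modulo the all-ones word. -/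
theorem result (X : Subgroup (↥Cfsg.golayCode ≃ₗ[ZMod 2] ↥Cfsg.golayCode)) (h1 : ∀ x ∈ X, ∀ e : ↥Cfsg.golayCode, (e : (Cfsg.GolayPt → ZMod 2)) = (fun _ => (1 : ZMod 2)) → x e = e) (hM : ∀ σ ∈ Cfsg.M24, ∃ x ∈ X, ∀ c : ↥Cfsg.golayCode, ((x c : ↥Cfsg.golayCode) : (Cfsg.GolayPt → ZMod 2)) = fun p => (c : (Cfsg.GolayPt → ZMod 2)) (σ.symm p)) (horb : ∀ x ∈ X, ∀ c : ↥Cfsg.golayCode, ∃ σ ∈ Cfsg.M24, ((x c : ↥Cfsg.golayCode) : (Cfsg.GolayPt → ZMod 2)) = (fun p => (c : (Cfsg.GolayPt → ZMod 2)) (σ.symm p)) ∨ ((x c : ↥Cfsg.golayCode) : (Cfsg.GolayPt → ZMod 2)) = (fun p => (c : (Cfsg.GolayPt → ZMod 2)) (σ.symm p)) + fun _ => (1 : ZMod 2)) (x : ↥Cfsg.golayCode ≃ₗ[ZMod 2] ↥Cfsg.golayCode) (hx : x ∈ X) : ∃ σ ∈ Cfsg.M24, ∀ c : ↥Cfsg.golayCode, ((x c : ↥Cfsg.golayCode) : (Cfsg.GolayPt → ZMod 2)) = (fun p => (c : (Cfsg.GolayPt → ZMod 2)) (σ.symm p)) ∨ ((x c : ↥Cfsg.golayCode) : (Cfsg.GolayPt → ZMod 2)) = (fun p => (c : (Cfsg.GolayPt → ZMod 2)) (σ.symm p)) + fun _ => (1 : ZMod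 2) := by
  obtain ⟨σ, hσ, h⟩ := Golay.Local.orbPres_agrees (f := Cfsg.golayCode.subtype.comp x.toLinearMap) fun c => by
    obtain ⟨τ, hτ, h⟩ := horb x hx c
    refine ⟨τ, hτ, Golay.Local.mem_oneSpan.2 ?_⟩
    rcases h with h | h
    · left
      show ((x c : ↥Cfsg.golayCode) : GolayPt → ZMod 2) + _ = 0
      rw [h, CharTwo.add_self_eq_zero]
    · right
      show ((x c : ↥Cfsg.golayCode) : GolayPt → ZMod 2) + _ = _
      rw [h, add_comm, ← add_assoc, CharTwo.add_self_eq_zero, zero_add]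
  refine ⟨σ, hσ, fun c => ?_⟩
  rcases Golay.Local.mem_oneSpan.1 (h c) with h' | h'
  · exact Or.inl (CharTwo.add_eq_zero.1 h')
  · refine Or.inr ?_
    have h'' : ((x c : ↥Cfsg.golayCode) : GolayPt → ZMod 2) + (fun p => (c : GolayPt → ZMod 2) (σ.symm p)) = fun _ => 1 := h'
    rw [← h'', add_comm _ (fun p => (c : GolayPt → ZMod 2) (σ.symm p)), ← add_assoc, CharTwo.add_self_eq_zero, zero_add]

end Cfsg.Agent.S5549
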