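import Cfsg.Statements.S5556
import Cfsg.Agent.Lib.Fischer.SUFiveSplit
import Cfsg.Agent.Lib.Fischer.SUSevenPerp

set_option autoImplicit false
open Cfsg Cfsg.Agent.Transvec Cfsg.Agent.Transvec.Herm Cfsg.Agent.Fischer

namespace Cfsg.Agent.S5556

/-- Let G be a finite group generated by a conjugacy class D of 3-transpositions, with trivial centre and with generalized Fitting subgroup F*(G) = O₂(G) (so the Fitting subgroup is O₂(G) too). If G/O₂(G) is isomorphic to SU₅(2), then O₂(G) is elementary abelian and has a complement in G. -/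
theorem result {G : Type*} [Group G] [Finite G] {D : Set G} (hD : Cfsg.IsThreeTranspositionClass D)
    (hZ : Subgroup.center G = ⊥) (hF : Cfsg.generalizedFittingSubgroup G = Cfsg.pCore 2 G)
    (hq : ∃ (F : Type) (_ : Field F) (_ : Fintype F), Fintype.card F = 4 ∧ Nonempty (G ⧸ Cfsg.pCore 2 G ≃* ↥(Cfsg.SU 5 F 2))) :
    Cfsg.IsElementaryAbelian 2 (Cfsg.pCore 2 G) ∧ ∃ K : Subgroup G, (Cfsg.pCore 2 G).IsComplement' K := by
  obtain ⟨F, hField, hFin, hF, ⟨e⟩⟩ := hq
  let π : G →* GL (Fin 5) F := (Matrix.SpecialLinearGroup.toGL.comp (Cfsg.SU 5 F 2).subtype).comp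
    (e.toMonoidHom.comp (QuotientGroup.mk' (Cfsg.pCore 2 G)))
  have hinj : Function.Injective
      (Matrix.SpecialLinearGroup.toGL.comp (Cfsg.SU 5 F 2).subtype) := fun a b h =>
    Subtype.ext (Subtype.ext (congrArg Units.val h))
  have hker : π.ker = Cfsg.pCore 2 G := by
    ext x
    rw [MonoidHom.mem_ker]
    constructor
    · intro h
      have h1 : e (QuotientGroup.mk' (Cfsg.pCore 2 G) x) = 1 := hinj (h.trans (map_one _).symm)
      rw [← map_one e] at h1
      exact (QuotientGroup.eq_one_iff x).1 (e.injective h1)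
    · intro h
      show (Matrix.SpecialLinearGroup.toGL.comp (Cfsg.SU 5 F 2).subtype)
        (e (QuotientGroup.mk' (Cfsg.pCore 2 G) x)) = 1
      rw [show QuotientGroup.mk' (Cfsg.pCore 2 G) x = 1 from (QuotientGroup.eq_one_iff x).2 h,
        map_one, map_one]
  have hrange : π.range = Cfsg.preserving (Units.coeHom (Matrix (Fin 5) (Fin 5) F))
      (Cfsg.hermForm 5 F 2) ⊓ Cfsg.Geo.specialLinear (Fin 5) F := by
    ext x
    constructor
    · rintro ⟨y, rfl⟩
      refine ⟨(e (QuotientGroup.mk' (Cfsg.pCore 2 G) y)).2, ?_⟩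
      refine MonoidHom.mem_ker.2 (Units.ext ?_)
      rw [Matrix.GeneralLinearGroup.val_det_apply]
      exact (e (QuotientGroup.mk' (Cfsg.pCore 2 G) y)).1.2
    · rintro ⟨h1, h2⟩
      have hdet : (x : Matrix (Fin 5) (Fin 5) F).det = 1 := by
        rw [← Matrix.GeneralLinearGroup.val_det_apply, MonoidHom.mem_ker.1 h2]; rfl
      let s : ↥(Cfsg.SU 5 F 2) := ⟨⟨(x : Matrix (Fin 5) (Fin 5) F), hdet⟩, h1⟩
      obtain ⟨y, hy⟩ := QuotientGroup.mk'_surjective (Cfsg.pCore 2 G) (e.symm s)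
      refine ⟨y, Units.ext ?_⟩
      show ((e (QuotientGroup.mk' (Cfsg.pCore 2 G) y)).1 : Matrix (Fin 5) (Fin 5) F) = x
      rw [hy, e.apply_symm_apply]
  obtain ⟨σ, hσ, -, hf⟩ := exists_unitary_std (n := 5) (q := 2) (F := F) (by rw [hF]; rfl) (by norm_num)
  have : CharP F 2 := charP_of_card_eq_prime_pow (show Fintype.card F = 2 ^ 2 by rw [hF]; rfl)
  have h2 : (2 : F) = 0 := CharTwo.two_eq_zero
  have hfix : ∀ a : F, σ a = a → a = 0 ∨ a = 1 := fun a ha => by
    rw [hσ] at ha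
    rcases eq_or_ne a 0 with h | h
    · exact Or.inl h
    · exact Or.inr (mul_left_cancel₀ h (by linear_combination ha))
  obtain ⟨w, hw⟩ : ∃ w : F, w * w + w + 1 = 0 := by
    classical
    obtain ⟨u, -, hu⟩ := Finset.exists_mem_notMem_of_card_lt_card
      (s := ({0, 1} : Finset F)) (t := Finset.univ) (by
        rw [Finset.card_univ, hF]
        exact lt_of_le_of_lt (Finset.card_insert_le _ _) (by simp))
    simp only [Finset.mem_insert, Finset.mem_singleton, not_or] at hu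
    have h3 : u ^ 3 = 1 := by
      have := FiniteField.pow_card_sub_one_eq_one u hu.1
      rwa [hF] at this
    exact ⟨u, (mul_eq_zero.1 (show (u - 1) * (u * u + u + 1) = 0 by
      linear_combination h3)).resolve_left (sub_ne_zero.2 hu.2)⟩
  have S : SUFiveCover.Setup σ (Cfsg.hermForm 5 F 2) w π D (Cfsg.pCore 2 G) :=
    ⟨hf, h2, hfix, hw, Fintype.card_fin 5, hD, hZ, Cfsg.pCore_normal 2 G,
      Cfsg.Agent.PBasic.pCore_isPGroup 2 G, hker, hrange⟩
  obtain ⟨hc, hsq⟩ := SUFiveCover.elementary S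
  exact ⟨⟨⟨⟨fun a b => Subtype.ext (hc a a.2 b b.2)⟩⟩, hsq⟩, SUFiveCover.complement S⟩

end Cfsg.Agent.S5556
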