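import Cfsg.Statements.S5557
import Cfsg.Agent.Lib.Fischer.SUSevenPerp

set_option autoImplicit false
open Cfsg

namespace Cfsg.Agent.S5557

/-- Let G be a finite group generated by a conjugacy class D of 3-transpositions, with trivial centre and with generalized Fitting subgroup F*(G) = O₂(G) (so the Fitting subgroup is O₂(G) too). If G/O₂(G) is isomorphic to SU₇(2), then O₂(G) is elementary abelian. No complement is asserted. -/
theorem result {G : Type*} [Group G] [Finite G] {D : Set G} (hD : Cfsg.IsThreeTranspositionClass D)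
    (hZ : Subgroup.center G = ⊥) (hF : Cfsg.generalizedFittingSubgroup G = Cfsg.pCore 2 G)
    (hq : ∃ (F : Type) (_ : Field F) (_ : Fintype F), Fintype.card F = 4 ∧ Nonempty (G ⧸ Cfsg.pCore 2 G ≃* ↥(Cfsg.SU 7 F 2))) :
    Cfsg.IsElementaryAbelian 2 (Cfsg.pCore 2 G) := by
  obtain ⟨F, hField, hFin, hF, ⟨e⟩⟩ := hq
  let π : G →* GL (Fin 7) F := (Matrix.SpecialLinearGroup.toGL.comp (Cfsg.SU 7 F 2).subtype).comp
    (e.toMonoidHom.comp (QuotientGroup.mk' (Cfsg.pCore 2 G)))
  have hinj : Function.Injective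
      (Matrix.SpecialLinearGroup.toGL.comp (Cfsg.SU 7 F 2).subtype) := fun a b h =>
    Subtype.ext (Subtype.ext (congrArg Units.val h))
  have hker : π.ker = Cfsg.pCore 2 G := by
    ext x
    rw [MonoidHom.mem_ker]
    constructor
    · intro h
      have h1 : e (QuotientGroup.mk' (Cfsg.pCore 2 G) x) = 1 := hinj (h.trans (map_one _).symm)
      rw [← map_one e] at h1
      exact (QuotientGroup.eq_one_iff x).1 (e.injective h1)
    · intro h
      show (Matrix.SpecialLinearGroup.toGL.comp (Cfsg.SU 7 F 2).subtype)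
        (e (QuotientGroup.mk' (Cfsg.pCore 2 G) x)) = 1
      rw [show QuotientGroup.mk' (Cfsg.pCore 2 G) x = 1 from (QuotientGroup.eq_one_iff x).2 h,
        map_one, map_one]
  have hrange : π.range = Cfsg.preserving (Units.coeHom (Matrix (Fin 7) (Fin 7) F))
      (Cfsg.hermForm 7 F 2) ⊓ Cfsg.Geo.specialLinear (Fin 7) F := by
    ext x
    constructor
    · rintro ⟨y, rfl⟩
      refine ⟨(e (QuotientGroup.mk' (Cfsg.pCore 2 G) y)).2, ?_⟩
      refine MonoidHom.mem_ker.2 (Units.ext ?_)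
      rw [Matrix.GeneralLinearGroup.val_det_apply]
      exact (e (QuotientGroup.mk' (Cfsg.pCore 2 G) y)).1.2
    · rintro ⟨h1, h2⟩
      have hdet : (x : Matrix (Fin 7) (Fin 7) F).det = 1 := by
        rw [← Matrix.GeneralLinearGroup.val_det_apply, MonoidHom.mem_ker.1 h2]; rfl
      let s : ↥(Cfsg.SU 7 F 2) := ⟨⟨(x : Matrix (Fin 7) (Fin 7) F), hdet⟩, h1⟩
      obtain ⟨y, hy⟩ := QuotientGroup.mk'_surjective (Cfsg.pCore 2 G) (e.symm s)
      refine ⟨y, Units.ext ?_⟩
      show ((e (QuotientGroup.mk' (Cfsg.pCore 2 G) y)).1 : Matrix (Fin 7) (Fin 7) F) = x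
      rw [hy, e.apply_symm_apply]
  obtain ⟨hc, h2⟩ := Cfsg.Agent.Fischer.UnitaryPerp.two_radical_seven hF hD hZ
    (Cfsg.pCore_normal 2 G) (Cfsg.Agent.PBasic.pCore_isPGroup 2 G) π hker hrange
  exact ⟨⟨⟨fun a b => Subtype.ext (hc a a.2 b b.2)⟩⟩, h2⟩

end Cfsg.Agent.S5557
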