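import Cfsg.Statements.S5558
import Cfsg.Agent.Lib.Fischer.ModuleUnique
import Cfsg.Agent.Lib.Components.FStar

set_option autoImplicit false
open Cfsg

namespace Cfsg.Agent.S5558

/-- Let G be a finite group generated by a conjugacy class D of 3-transpositions, with trivial centre and with generalized Fitting subgroup F*(G) = O₂(G) (so the Fitting subgroup is O₂(G) too). If moreover O₂(G) is elementary abelian, then D is the only conjugacy class of 3-transpositions generating G. -/
theorem result {G : Type*} [Group G] [Finite G] {D : Set G} (hD : Cfsg.IsThreeTranspositionClass D)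
    (hZ : Subgroup.center G = ⊥) (hF : Cfsg.generalizedFittingSubgroup G = Cfsg.pCore 2 G)
    (hV : Cfsg.IsElementaryAbelian 2 (Cfsg.pCore 2 G)) :
    ∀ E : Set G, Cfsg.IsThreeTranspositionClass E → E = D := by
  intro E hE
  haveI : (Cfsg.pCore 2 G).Normal := Cfsg.pCore_normal 2 G
  letI : CommGroup ↥(Cfsg.pCore 2 G) :=
    { (inferInstance : Group ↥(Cfsg.pCore 2 G)) with mul_comm := fun a b => hV.1.is_comm.comm a b }
  let φ : G →* AddMonoid.End (Additive ↥(Cfsg.pCore 2 G)) :=
    { toFun := fun g => MonoidHom.toAdditive (MulAut.conjNormal g).toMonoidHom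
      map_one' := AddMonoidHom.ext fun x => by
        show Additive.ofMul (MulAut.conjNormal (1 : G) x.toMul) = x
        rw [map_one]; rfl
      map_mul' := fun g h => AddMonoidHom.ext fun x => by
        show Additive.ofMul (MulAut.conjNormal (g * h) x.toMul) = _
        rw [map_mul]; rfl }
  letI : DistribMulAction G (Additive ↥(Cfsg.pCore 2 G)) :=
    DistribMulAction.compHom _ φ
  have hconj : ∀ (g : G) (x : Additive ↥(Cfsg.pCore 2 G)),
      ((g • x).toMul : G) = g * (x.toMul : G) * g⁻¹ := fun g x => MulAut.conjNormal_apply g x.toMul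
  have hm : Cfsg.Agent.Fischer.ModU.Mod (fun x : Additive ↥(Cfsg.pCore 2 G) => (x.toMul : G)) := by
    refine ⟨fun x y => rfl, Subtype.val_injective.comp Additive.toMul.injective, hconj,
      fun x => ?_, fun z => ⟨fun hz => ⟨Additive.ofMul ⟨z, hz⟩, rfl⟩, ?_⟩, fun g hg => ?_,
      fun x hx => ?_⟩
    · apply Additive.toMul.injective
      apply Subtype.ext
      show (x.toMul : G) * x.toMul = 1
      rw [← pow_two]; exact hV.2 _ x.toMul.2
    · rintro ⟨x, rfl⟩; exact x.toMul.2
    · rw [← hF]
      refine Cfsg.Agent.Components.centralizer_generalizedFitting_le (Subgroup.mem_centralizer_iff.2 fun z hz => ?_)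
      have hz' : z ∈ Cfsg.pCore 2 G := hF ▸ hz
      have h : g * z * g⁻¹ = z := (hconj g (Additive.ofMul ⟨z, hz'⟩)).symm.trans
        (congrArg (fun y => ((Additive.toMul y : ↥(Cfsg.pCore 2 G)) : G)) (hg _))
      conv_lhs => rw [← h]
      rw [inv_mul_cancel_right]
    · apply Additive.toMul.injective
      apply Subtype.ext
      show (x.toMul : G) = 1
      rw [← Subgroup.mem_bot, ← hZ, Subgroup.mem_center_iff]
      intro g
      have h := (hconj g x).symm.trans
        (congrArg (fun y => ((Additive.toMul y : ↥(Cfsg.pCore 2 G)) : G)) (hx g))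
      conv_rhs => rw [← h]
      rw [inv_mul_cancel_right]
  exact Cfsg.Agent.Fischer.ModU.class_eq hm hD hE

end Cfsg.Agent.S5558
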