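import Cfsg.Statements.S5559
import Cfsg.Agent.Lib.Fischer.ThreeGroup
import Cfsg.Agent.Lib.Fischer.SU3Two
import Cfsg.Agent.Lib.Fischer.Dihedral
import Cfsg.Agent.Lib.Solvable.Coprime
import Cfsg.Agent.Lib.Solvable.NilpotentFrattini
import Cfsg.Agent.Lib.Transfer.PGroup
import Cfsg.Agent.Lib.Components.FStar
import Cfsg.Agent.Lib.FiniteGroup.FittingPow
import Mathlib.FieldTheory.Finite.GaloisField

set_option autoImplicit false
open Cfsg

namespace Cfsg.Agent.S5559
open Cfsg.Agent Cfsg.Agent.Fischer Subgroup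
open scoped commutatorElement

/-- A nilpotent group generated by a class is generated by one element. -/
theorem zpowers_eq_top {T : Type*} [Group T] [Finite T] [Group.IsNilpotent T] {S : Set T} {t : T}
    (hS : ∀ s ∈ S, ∃ g, g * t * g⁻¹ = s) (hgen : closure S = ⊤) : zpowers t = ⊤ := by
  haveI : (frattini T).Normal := inferInstance
  refine frattini_nongenerating ?_
  rw [eq_top_iff, ← hgen, closure_le]
  intro s hs
  obtain ⟨g, rfl⟩ := hS s hs
  rw [show g * t * g⁻¹ = ⁅g, t⁆ * t by rw [commutatorElement_def]; group]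
  exact mul_mem (mem_sup_right (SolvStruct.commutator_le_frattini T
    (commutator_mem_commutator (mem_top g) (mem_top t)))) (mem_sup_left (mem_zpowers t))

theorem hconjE' {H : Type*} [Group H] {E : Set H} {d : H} (hEd : ∀ s ∈ E, ∃ g, g * d * g⁻¹ = s)
    (hconjE : ∀ g, g * d * g⁻¹ ∈ E) (s : H) (hs : s ∈ E) (g : H) : g * s * g⁻¹ ∈ E := by
  obtain ⟨k, rfl⟩ := hEd s hs
  convert hconjE (g * k) using 1
  group

variable {H : Type*} [Group H] [Finite H] {E : Set H}

theorem main (hE : Cfsg.IsThreeTranspositionClass E)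
    (hE2 : ∃ a ∈ E, ∃ b ∈ E, a ≠ b) (hF : Cfsg.generalizedFittingSubgroup H = Cfsg.pCore 2 H)
    (h232 : ∃ P : Sylow 3 (H ⧸ Cfsg.pCore 2 H), (P : Subgroup (H ⧸ Cfsg.pCore 2 H)).Normal ∧
      ∃ k : ℕ, (P : Subgroup (H ⧸ Cfsg.pCore 2 H)).index = 2 ^ k) :
    Nonempty (H ⧸ Cfsg.pCore 2 H ≃* Equiv.Perm (Fin 3)) ∨
      ∃ u x d : H ⧸ Cfsg.pCore 2 H, Rel54.Rel u x d ∧ Function.Bijective (Rel54.θ u x d) := by
  classical
  haveI : Fact (Nat.Prime 2) := ⟨Nat.prime_two⟩
  haveI : Fact (Nat.Prime 3) := ⟨Nat.prime_three⟩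
  obtain ⟨Ps, hPn, k, hk⟩ := h232
  haveI := hPn
  obtain ⟨hD, ⟨d, hdE, hcl⟩, hgen⟩ := hE
  set O := Cfsg.pCore 2 H with hO
  haveI hOn : O.Normal := FiniteGroup.pCore_normal 2
  have hO2 : IsPGroup 2 O := FiniteGroup.pCore_isPGroup 2
  have hEd : ∀ s ∈ E, ∃ g, g * d * g⁻¹ = s := fun s hs => isConj_iff.1 (show s ∈ conjugatesOf d by rw [← hcl]; exact hs)
  have hconjE : ∀ g : H, g * d * g⁻¹ ∈ E := fun g => by
    rw [hcl]; exact isConj_iff.2 ⟨g, rfl⟩
  have hd2 : d * d = 1 := TSet.sq hD hdE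
  have hdO : d ∉ O := by
    intro h
    have hOtop : O = ⊤ := top_unique (hgen ▸ (closure_le _).2 fun s hs => by
      obtain ⟨g, rfl⟩ := hEd s hs
      exact hOn.conj_mem d h g)
    have hH : IsPGroup 2 H := (hOtop ▸ hO2).of_equiv topEquiv
    haveI := hH.isNilpotent
    have hz := zpowers_eq_top hEd hgen
    obtain ⟨a, ha, b, hb, hab⟩ := hE2
    have : ∀ s ∈ E, s = d := by
      intro s hs
      obtain ⟨g, rfl⟩ := hEd s hs
      obtain ⟨i, rfl⟩ := mem_zpowers_iff.1 (hz ▸ mem_top g : g ∈ zpowers d)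
      exact mul_inv_eq_iff_eq_mul.2 (Commute.self_zpow d i).symm.eq
    exact hab ((this a ha).trans (this b hb).symm)
  let π := QuotientGroup.mk' O
  set dd := π d with hdd
  have hdd2 : dd * dd = 1 := by rw [hdd, ← map_mul, hd2, map_one]
  have hdd1 : dd ≠ 1 := fun h => hdO ((QuotientGroup.eq_one_iff d).1 h)
  set P : Subgroup (H ⧸ O) := (Ps : Subgroup (H ⧸ O)) with hP
  have hdP : dd ∉ P := fun h => by
    obtain ⟨m, hm⟩ := Ps.isPGroup' ⟨dd, h⟩
    have hm' : dd ^ 3 ^ m = 1 := congrArg Subtype.val hm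
    obtain ⟨j, hj⟩ := (Odd.pow (n := m) (by decide : Odd 3))
    rw [hj, pow_succ, pow_mul, pow_two, hdd2, one_pow, one_mul] at hm'
    exact hdd1 hm'
  have hq : zpowers (QuotientGroup.mk' P dd) = ⊤ := by
    have h2 : IsPGroup 2 ((H ⧸ O) ⧸ P) := IsPGroup.of_card (n := k) (by rw [← index_eq_card]; exact hk)
    haveI := h2.isNilpotent
    refine zpowers_eq_top (S := (fun s => QuotientGroup.mk' P (π s)) '' E) ?_ ?_
    · rintro _ ⟨s, hs, rfl⟩
      obtain ⟨g, rfl⟩ := hEd s hs
      exact ⟨QuotientGroup.mk' P (π g), by simp [hdd]⟩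
    · have h := congrArg (Subgroup.map ((QuotientGroup.mk' P).comp π)) hgen
      rw [MonoidHom.map_closure] at h
      have hsur : Function.Surjective ((QuotientGroup.mk' P).comp π) :=
        (QuotientGroup.mk'_surjective P).comp (QuotientGroup.mk'_surjective O)
      rw [← MonoidHom.range_eq_map, MonoidHom.range_eq_top.2 hsur] at h
      exact h
  have hsplit : ∀ g : H ⧸ O, g ∈ P ∨ g * dd ∈ P := by
    intro g
    obtain ⟨i, hi⟩ := mem_zpowers_iff.1 (hq ▸ mem_top (QuotientGroup.mk' P g) : _ ∈ zpowers (QuotientGroup.mk' P dd))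
    have h2 : (QuotientGroup.mk' P dd) * (QuotientGroup.mk' P dd) = 1 := by rw [← map_mul, hdd2, map_one]
    rcases Int.even_or_odd i with ⟨j, rfl⟩ | ⟨j, rfl⟩
    · left
      rw [← two_mul, _root_.zpow_mul, zpow_two, h2, _root_.one_zpow] at hi
      exact (QuotientGroup.eq_one_iff g).1 hi.symm
    · right
      rw [_root_.zpow_add, _root_.zpow_mul, zpow_two, h2, _root_.one_zpow, one_mul, zpow_one] at hi
      refine (QuotientGroup.eq_one_iff _).1 ?_
      show QuotientGroup.mk' P (g * dd) = 1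
      rw [map_mul, ← hi, h2]
  have hdinv : dd⁻¹ = dd := inv_eq_of_mul_eq_one_right hdd2
  have hstable : ∀ p ∈ P, dd * p * dd ∈ P := fun p hp => by
    have := hPn.conj_mem p hp dd
    rwa [hdinv] at this
  -- products with `dd`
  have hEP : ∀ s ∈ E, π s * dd ∈ P ∧ dd * (π s * dd) * dd = (π s * dd)⁻¹ := by
    intro s hs
    refine ⟨(hsplit (π s)).resolve_left ?_, ?_⟩
    · obtain ⟨g, rfl⟩ := hEd s hs
      intro h
      refine hdP ?_
      have := hPn.conj_mem _ h (π g)⁻¹
      rwa [inv_inv, map_mul, map_mul, map_inv, show (π g)⁻¹ * (π g * π d * (π g)⁻¹) * π g = π d by group] at this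
    · have hs2 : (π s)⁻¹ = π s := by rw [← map_inv, TSet.inv hD hs]
      rw [_root_.mul_inv_rev, hs2, hdinv, mul_assoc, mul_assoc, hdd2, mul_one]
  have hlift : ∀ y ∈ P, dd * y * dd = y⁻¹ → ∃ e ∈ E, π (e * d) = y := by
    intro y hy hdy
    obtain ⟨m, hm⟩ := Ps.isPGroup' ⟨y, hy⟩
    have hm' : y ^ 3 ^ m = 1 := congrArg Subtype.val hm
    obtain ⟨j, hj⟩ := (Odd.pow (n := m) (by decide : Odd 3))
    set z := y ^ (j + 1) with hz
    have hzz : z * z = y := by
      rw [hz, ← pow_add, show j + 1 + (j + 1) = 3 ^ m + 1 by omega, pow_succ, hm', one_mul]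
    obtain ⟨g, hg⟩ := QuotientGroup.mk'_surjective O z
    refine ⟨g * d * g⁻¹, hconjE g, ?_⟩
    have hzd : dd * z * dd = z⁻¹ := by
      rw [hz, ← inv_pow, ← hdy]
      have := map_pow (MulAut.conj dd).toMonoidHom y (j + 1)
      simpa [hdinv] using this
    calc π (g * d * g⁻¹ * d) = z * (dd * z⁻¹ * dd) := by
          rw [map_mul, map_mul, map_mul, map_inv, show π g = z from hg, ← hdd]; group
      _ = y := by
          rw [show dd * z⁻¹ * dd = z by
            have h' := congrArg (fun t => t⁻¹) hzd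
            simpa only [_root_.mul_inv_rev, inv_inv, hdinv, mul_assoc] using h', hzz]
  have hodd : ∀ y ∈ P, y * y = 1 → y = 1 := by
    intro y hy h2
    obtain ⟨m, hm⟩ := Ps.isPGroup' ⟨y, hy⟩
    have hm' : y ^ 3 ^ m = 1 := congrArg Subtype.val hm
    obtain ⟨j, hj⟩ := (Odd.pow (n := m) (by decide : Odd 3))
    rwa [hj, pow_succ, pow_mul, pow_two, h2, one_pow, one_mul] at hm'
  have hord : ∀ e ∈ E, ∀ e' ∈ E, π (e * e') ∈ P → π (e * e') ≠ 1 → (e * e') ^ 3 = 1 := by
    intro e he e' he' hP' h1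
    refine (hD.2 e he e' he').resolve_left fun h2 => h1 (hodd _ hP' ?_)
    rw [← map_mul, ← pow_two, h2, map_one]
  -- the module
  let Φ := frattini ↥O
  haveI hΦ : Φ.Characteristic := inferInstance
  haveI := hO2.isNilpotent
  letI : CommGroup (↥O ⧸ Φ) :=
    { (inferInstance : Group (↥O ⧸ Φ)) with
      mul_comm := fun a b => by
        obtain ⟨a, rfl⟩ := QuotientGroup.mk'_surjective Φ a
        obtain ⟨b, rfl⟩ := QuotientGroup.mk'_surjective Φ b
        rw [← commutatorElement_eq_one_iff_mul_comm, ← map_commutatorElement]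
        exact (QuotientGroup.eq_one_iff _).2 (SolvStruct.commutator_le_frattini _
          (commutator_mem_commutator (mem_top a) (mem_top b))) }
  have hexp : ∀ v : ↥O ⧸ Φ, v * v = 1 := by
    intro v
    obtain ⟨a, rfl⟩ := QuotientGroup.mk'_surjective Φ v
    rw [← map_mul, ← pow_two]
    exact (QuotientGroup.eq_one_iff _).2 (PGroupBasics.pow_mem_frattini hO2 a)
  let β : H →* MulAut (↥O ⧸ Φ) :=
    { toFun := fun g => QuotientGroup.congr Φ Φ (MulAut.conjNormal g)
        (characteristic_iff_map_eq.1 hΦ _)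
      map_one' := MulEquiv.ext fun v => by
        obtain ⟨a, rfl⟩ := QuotientGroup.mk'_surjective Φ v
        simp
      map_mul' := fun g h => MulEquiv.ext fun v => by
        obtain ⟨a, rfl⟩ := QuotientGroup.mk'_surjective Φ v
        show QuotientGroup.mk' Φ (MulAut.conjNormal (g * h) a) =
          QuotientGroup.mk' Φ (MulAut.conjNormal g (MulAut.conjNormal h a))
        rw [map_mul]
        rfl }
  have hβ : ∀ g (a : ↥O), β g (QuotientGroup.mk' Φ a) = QuotientGroup.mk' Φ (MulAut.conjNormal g a) :=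
    fun g a => rfl
  have hβO : O ≤ β.ker := by
    intro o ho
    refine MulEquiv.ext fun v => ?_
    obtain ⟨a, rfl⟩ := QuotientGroup.mk'_surjective Φ v
    rw [hβ, show MulAut.conjNormal o a = (⟨o, ho⟩ : O) * a * ⟨o, ho⟩⁻¹ from
      Subtype.ext (MulAut.conjNormal_apply o a), map_mul, map_mul, map_inv, mul_comm, inv_mul_cancel_left]
    rfl
  let α := QuotientGroup.lift O β hβO
  have hα : ∀ g, α (π g) = β g := fun g => rfl
  have hfix : ∀ y ∈ P, dd * y * dd = y⁻¹ → y ≠ 1 → ∀ v, α y v = v → α dd v = v := by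
    intro y hy hdy hy1 v hv
    obtain ⟨e, he, rfl⟩ := hlift y hy hdy
    rw [hα] at hv
    obtain ⟨q, rfl⟩ := QuotientGroup.mk'_surjective Φ v
    set qv := QuotientGroup.mk' Φ q
    rw [hdd, hα]
    set s := d * e with hs
    have hse : s = (e * d)⁻¹ := by rw [hs, _root_.mul_inv_rev, TSet.inv hD he, TSet.inv hD hdE]
    have hsv : β s qv = qv := by
      conv_lhs => rw [← hv]
      rw [hse, ← MulAut.mul_apply, ← map_mul, inv_mul_cancel, map_one]
      rfl
    have hcO : (q : H) * d * (q : H)⁻¹ * d ∈ O := by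
      rw [show (q : H) * d * (q : H)⁻¹ * d = (q : H) * (d * (q : H)⁻¹ * d) by group]
      refine mul_mem q.2 ?_
      have := hOn.conj_mem _ (inv_mem q.2) d
      rwa [TSet.inv hD hdE] at this
    set c : O := ⟨_, hcO⟩ with hc
    have hce : (c : H) * s = (q : H) * d * (q : H)⁻¹ * e := by
      show (q : H) * d * (q : H)⁻¹ * d * (d * e) = _
      rw [mul_assoc _ d (d * e), ← mul_assoc d d e, hd2, one_mul]
    have hπc : π (c : H) = 1 := (QuotientGroup.eq_one_iff _).2 c.2
    have hy' : π s ∈ P ∧ π s ≠ 1 := by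
      rw [hse, map_inv]
      exact ⟨inv_mem hy, fun h => hy1 (inv_eq_one.1 h)⟩
    have h3 : ((c : H) * s) ^ 3 = 1 := by
      rw [hce]
      refine hord _ (hconjE' hEd hconjE _ hdE q) _ he ?_ ?_ <;> rw [← hce, map_mul, hπc, one_mul]
      exacts [hy'.1, hy'.2]
    have hs3 : s ^ 3 = 1 := hord d hdE e he hy'.1 hy'.2
    have hprod : c * MulAut.conjNormal s c * MulAut.conjNormal (s * s) c = 1 := by
      refine Subtype.ext ?_
      simp only [coe_mul, MulAut.conjNormal_apply, coe_one]
      calc (c : H) * (s * c * s⁻¹) * (s * s * c * (s * s)⁻¹)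
          = ((c : H) * s) ^ 3 * (s ^ 3)⁻¹ := by simp only [pow_succ, pow_zero, one_mul]; group
        _ = 1 := by rw [h3, hs3, inv_one, mul_one]
    set w := QuotientGroup.mk' Φ c with hw
    have hwv : w = qv * β d qv := by
      have h' : c = q * (MulAut.conjNormal d q)⁻¹ := by
        refine Subtype.ext ?_
        show (q : H) * d * (q : H)⁻¹ * d = (q : H) * ((MulAut.conjNormal d q : O) : H)⁻¹
        rw [MulAut.conjNormal_apply, TSet.inv hD hdE]
        simp only [_root_.mul_inv_rev, TSet.inv hD hdE, mul_assoc]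
      rw [hw, h', map_mul, map_inv, ← hβ, inv_eq_of_mul_eq_one_right (hexp _)]
    have hsd : β s (β d qv) = β d qv := by
      rw [← MulAut.mul_apply, ← map_mul, hs, mul_assoc, map_mul, MulAut.mul_apply, hv]
    have hsw : β s w = w := by rw [hwv, map_mul, hsv, hsd]
    clear_value s
    have h4 := congrArg (QuotientGroup.mk' Φ) hprod
    rw [map_mul, map_mul, map_one, ← hβ, ← hβ, map_mul, MulAut.mul_apply, ← hw, hsw, hsw, hexp, one_mul] at h4
    rw [hwv] at h4
    exact ((inv_eq_of_mul_eq_one_right h4).symm.trans (inv_eq_of_mul_eq_one_right (hexp qv)))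
  have hfaith : ∀ y ∈ P, α y = 1 → y = 1 := by
    intro y hy hαy
    obtain ⟨g, rfl⟩ := QuotientGroup.mk'_surjective O y
    obtain ⟨a, m, hmodd, hm⟩ := Nat.exists_eq_two_pow_mul_odd (orderOf_pos g).ne'
    set h := g ^ 2 ^ a with hh
    have hhm : h ^ m = 1 := by rw [hh, ← pow_mul, ← hm, pow_orderOf_eq_one]
    have hβh : β h = 1 := by rw [hh, map_pow, ← hα, hαy, one_pow]
    have hhO : h ∈ O := by
      have hcent : zpowers h ≤ centralizer (O : Set H) := by
        refine CoprimeAct.le_centralizer_of_frattini ?_ ?_ ?_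
        · rw [normalizer_eq_top]; exact le_top
        · rw [Nat.card_zpowers]
          obtain ⟨n, hn⟩ := (hO2.to_subgroup Φ).exists_card_eq
          rw [hn]
          refine Nat.Coprime.pow_right _ (Nat.coprime_two_right.2 ?_)
          exact hmodd.of_dvd_nat (orderOf_dvd_of_pow_eq_one hhm)
        · intro b hb o ho
          obtain ⟨i, rfl⟩ := mem_zpowers_iff.1 hb
          refine ⟨MulAut.conjNormal (h ^ i) ⟨o, ho⟩ * ⟨o, ho⟩⁻¹, ?_, ?_⟩
          · refine (QuotientGroup.eq_one_iff _).1 ?_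
            show QuotientGroup.mk' Φ _ = 1
            rw [map_mul, map_inv, ← hβ, map_zpow, hβh, _root_.one_zpow]
            exact mul_inv_cancel _
          · show (MulAut.conjNormal (h ^ i) ⟨o, ho⟩ : H) * o⁻¹ = _
            rw [MulAut.conjNormal_apply]
      have := Components.centralizer_generalizedFitting_le (G := H)
      rw [hF] at this
      exact this (hcent (mem_zpowers h))
    have h1 : π g ^ 2 ^ a = 1 := by rw [← map_pow]; exact (QuotientGroup.eq_one_iff _).2 hhO
    have h2 := orderOf_dvd_of_pow_eq_one h1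
    obtain ⟨m', hm'⟩ := Ps.isPGroup' ⟨π g, hy⟩
    have h3 := orderOf_dvd_of_pow_eq_one (congrArg Subtype.val hm' : π g ^ 3 ^ m' = 1)
    exact orderOf_eq_one_iff.1 (Nat.eq_one_of_dvd_coprimes (Nat.Coprime.pow _ _ (by decide)) h2 h3)
  have hPbot : P ≠ ⊥ := by
    intro hP0
    refine hdO ?_
    have hH : IsPGroup 2 H := by
      obtain ⟨n, hn⟩ := hO2.exists_card_eq
      refine IsPGroup.of_card (p := 2) (n := k + n) ?_
      rw [card_eq_card_quotient_mul_card_subgroup O, hn, pow_add, ← hk, hP0, index_bot]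
    exact (le_sSup (show (⊤ : Subgroup H) ∈ {N : Subgroup H | N.Normal ∧ IsPGroup 2 N} from
      ⟨inferInstance, hH.to_subgroup ⊤⟩)) (mem_top d)
  have hgenP : P ≤ closure {x | x ∈ P ∧ dd * x * dd = x⁻¹} := by
    set K := closure {x | x ∈ P ∧ dd * x * dd = x⁻¹} with hK
    have hKP : K ≤ P := (closure_le _).2 fun x hx => hx.1
    have hKd : ∀ x ∈ K, dd * x * dd ∈ K := by
      have : K ≤ K.comap (MulAut.conj dd).toMonoidHom := (closure_le _).2 fun x hx => by
        show dd * x * dd⁻¹ ∈ K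
        rw [hdinv, hx.2]
        exact inv_mem (subset_closure hx)
      intro x hx
      have := this hx
      rwa [mem_comap, MulEquiv.coe_toMonoidHom, MulAut.conj_apply, hdinv] at this
    let S : Subgroup (H ⧸ O) :=
      { carrier := {g | g ∈ K ∨ g * dd ∈ K}
        one_mem' := Or.inl (one_mem _)
        mul_mem' := by
          rintro a b (ha | ha) (hb | hb)
          · exact Or.inl (mul_mem ha hb)
          · exact Or.inr (by rw [mul_assoc]; exact mul_mem ha hb)
          · refine Or.inr ?_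
            rw [show a * b * dd = a * dd * (dd⁻¹ * b * dd) by group, hdinv]
            exact mul_mem ha (hKd b hb)
          · refine Or.inl ?_
            rw [show a * b = a * dd * (dd⁻¹ * (b * dd) * dd⁻¹) by group, hdinv]
            exact mul_mem ha (hKd _ hb)
        inv_mem' := by
          rintro a (ha | ha)
          · exact Or.inl (inv_mem ha)
          · refine Or.inr ?_
            rw [show a⁻¹ * dd = dd * (a * dd)⁻¹ * dd by group]
            exact hKd _ (inv_mem ha) }
    have hS : ∀ g, g ∈ S := by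
      intro g
      obtain ⟨g, rfl⟩ := QuotientGroup.mk'_surjective O g
      have : closure E ≤ S.comap π := (closure_le _).2 fun s hs => Or.inr (subset_closure (hEP s hs))
      exact this (hgen ▸ mem_top g)
    intro p hp
    refine (hS p).resolve_right fun h => hdP ?_
    have := mul_mem (inv_mem hp) (hKP h)
    rwa [inv_mul_cancel_left] at this
  have hgenQ : ∀ K : Subgroup (H ⧸ O), P ≤ K → dd ∈ K → K = ⊤ := fun K h1 h2 => eq_top_iff.2 fun g _ => by
    rcases hsplit g with h | h
    · exact h1 h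
    · have := mul_mem (h1 h) (inv_mem h2)
      rwa [mul_inv_cancel_right] at this
  have hmoves : α dd ≠ 1 := by
    intro h
    refine hPbot ((eq_bot_iff_forall _).2 fun p hp => hfaith p hp ?_)
    have hall : (⊤ : Subgroup (H ⧸ O)) ≤ α.ker := by
      rw [← map_top_of_surjective π (QuotientGroup.mk'_surjective O), ← hgen, MonoidHom.map_closure, closure_le]
      rintro _ ⟨s, hs, rfl⟩
      obtain ⟨g, rfl⟩ := hEd s hs
      show α (π (g * d * g⁻¹)) = 1
      rw [map_mul, map_mul, map_mul, map_mul, ← hdd, h, mul_one, ← map_mul, ← map_mul, mul_inv_cancel, map_one,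
        map_one]
    exact hall (mem_top p)
  have hcube : ∀ y ∈ P, dd * y * dd = y⁻¹ → y ^ 3 = 1 := by
    intro y hy hdy
    obtain ⟨e, he, rfl⟩ := hlift y hy hdy
    by_cases h1 : π (e * d) = 1
    · rw [h1, one_pow]
    · rw [← map_pow, hord e he d hdE hy h1, map_one]
  have T : ThreeGroup.Hyp P dd α := ⟨Ps.isPGroup', hstable, hdd2, hexp, hcube, hfix, hmoves, hgenP⟩
  rcases T.main hPbot with ⟨z, hz, hdz, hz1, hz3, hPz⟩ | ⟨u, x, R, hc, hPux⟩
  · left
    have h2 : orderOf dd = 2 := orderOf_eq_prime (by rw [pow_two, hdd2]) hdd1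
    have hzd : dd * z ≠ 1 := fun h => hdP (by rw [eq_inv_of_mul_eq_one_left h]; exact inv_mem hz)
    have h2' : orderOf (dd * z) = 2 := orderOf_eq_prime
      (by rw [pow_two, ← mul_assoc, hdz, inv_mul_cancel]) hzd
    have h3 : orderOf (dd * (dd * z)) = 3 := by
      rw [← mul_assoc, hdd2, one_mul]; exact orderOf_eq_prime hz3 hz1
    obtain ⟨e⟩ := nonempty_mulEquiv_perm_three h2 h2' h3
    have htop : closure ({dd, dd * z} : Set (H ⧸ O)) = ⊤ := by
      have h' : dd ∈ closure ({dd, dd * z} : Set (H ⧸ O)) := subset_closure (by simp)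
      refine hgenQ _ ?_ h'
      rw [hPz, zpowers_le]
      have := mul_mem h' (subset_closure (by simp : dd * z ∈ ({dd, dd * z} : Set (H ⧸ O))))
      rwa [← mul_assoc, hdd2, one_mul] at this
    exact ⟨(topEquiv.symm.trans (MulEquiv.subgroupCongr htop.symm)).trans e⟩
  · right
    refine ⟨u, x, dd, R, R.theta_bijective (hgenQ _ ?_ (subset_closure (by simp))) hc hdd1⟩
    rw [hPux]
    exact closure_mono (by intro a; simp; tauto)

/-- Let H be a finite group generated by a conjugacy class E of 3-transpositions with at least two members, with F*(H) = O₂(H), and such that H/O₂(H) has a normal Sylow 3-subgroup of 2-power index (that is, H = O_{2,3,2}(H)). Then H/O₂(H) is isomorphic to the symmetric group of degree 3 or to the derived group of SU₃(2) (of order 54). -/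
theorem result {H : Type*} [Group H] [Finite H] {E : Set H} (hE : Cfsg.IsThreeTranspositionClass E)
    (hE2 : ∃ a ∈ E, ∃ b ∈ E, a ≠ b) (hF : Cfsg.generalizedFittingSubgroup H = Cfsg.pCore 2 H)
    (h232 : ∃ P : Sylow 3 (H ⧸ Cfsg.pCore 2 H), (P : Subgroup (H ⧸ Cfsg.pCore 2 H)).Normal ∧
      ∃ k : ℕ, (P : Subgroup (H ⧸ Cfsg.pCore 2 H)).index = 2 ^ k) :
    Nonempty (H ⧸ Cfsg.pCore 2 H ≃* Equiv.Perm (Fin 3)) ∨
      ∃ (F : Type) (_ : Field F) (_ : Fintype F), Fintype.card F = 4 ∧
        Nonempty (H ⧸ Cfsg.pCore 2 H ≃* ↥(commutator ↥(Cfsg.SU 3 F 2))) := by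
  rcases main hE hE2 hF h232 with h | ⟨u, x, d, R, hb⟩
  · exact Or.inl h
  · haveI : Fintype (GaloisField 2 2) := Fintype.ofFinite _
    have hcard : Fintype.card (GaloisField 2 2) = 4 := by
      rw [← Nat.card_eq_fintype_card, GaloisField.card 2 2 two_ne_zero]; rfl
    obtain ⟨u', x', d', R', hb'⟩ := SU3Two.exists_rel hcard
    exact Or.inr ⟨GaloisField 2 2, inferInstance, inferInstance, hcard, Rel54.nonempty_equiv R R' hb hb'⟩

end Cfsg.Agent.S5559
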