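import Cfsg.Statements.S5562
import Cfsg.Agent.Lib.Fischer.Basic
import Cfsg.Agent.Lib.Involutions.Dihedral

set_option autoImplicit false
open Cfsg

namespace Cfsg.Agent.S5562

open Cfsg.Agent.Fischer Cfsg.Agent


/-- Let G be a finite group, d an involution of G whose conjugates pairwise have products of odd order, and x any involution of G. Then the conjugacy class of d is the disjoint union, over the conjugates a of d commuting with x, of the sets of conjugates of d commuting with ax: every conjugate of d commutes with ax for exactly one conjugate a of d that commutes with x. -/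
theorem result {G : Type*} [Group G] [Finite G] (d : G) (hd : orderOf d = 2)
    (hodd : ∀ a ∈ conjugatesOf d, ∀ b ∈ conjugatesOf d, Odd (orderOf (a * b)))
    (x : G) (hx : orderOf x = 2) :
    ∀ e ∈ conjugatesOf d,
      ∃! a : G, a ∈ conjugatesOf d ∧ Commute a x ∧ Commute e (a * x) := by
  intro e he
  have he2 : orderOf e = 2 := by
    obtain ⟨ge, hge⟩ := isConj_iff.1 (show IsConj d e from he)
    rw [← hge, orderOf_conj]; exact hd
  have hconj : ∀ g : G, ∀ a ∈ conjugatesOf d, g * a * g⁻¹ ∈ conjugatesOf d := fun g a ha =>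
    (show IsConj d a from ha).trans (isConj_iff.2 ⟨g, rfl⟩)
  have hord : ∀ a ∈ conjugatesOf d, orderOf a = 2 := fun a ha => by
    obtain ⟨ga, hga⟩ := isConj_iff.1 (show IsConj d a from ha)
    rw [← hga, orderOf_conj]; exact hd
  have sx := Invol.mul_self hx
  have se := Invol.mul_self he2
  have ix := Invol.inv_self hx
  have ie := Invol.inv_self he2
  have he' : x * e * x ∈ conjugatesOf d := by simpa [ix] using hconj x e he
  set e' := x * e * x with he'def
  have he'2 : orderOf e' = 2 := hord e' he'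
  obtain ⟨k, hk⟩ := Invol.exists_sqrt (hodd e he e' he')
  have hxr : x * (e * e') * x⁻¹ = (e * e')⁻¹ := by
    rw [mul_inv_rev, ie, Invol.inv_self he'2, ix, he'def]
    simp only [mul_assoc, sx, mul_one]
  have hso : Odd (orderOf ((e * e') ^ k)) := by
    rcases (hodd e he e' he').of_dvd_nat (orderOf_pow_dvd k) with h
    exact h
  set s := (e * e') ^ k with hsdef
  have hse : e * s * e⁻¹ = s⁻¹ := Invol.conj_pow (Invol.conj_mul he2 he'2) k
  have hsx : x * s * x⁻¹ = s⁻¹ := Invol.conj_pow hxr k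
  have es : e * s⁻¹ = s * e := by
    have := Invol.swap_zpow hse (-1)
    simpa using this
  have xs : x * s⁻¹ = s * x := by
    have := Invol.swap_zpow hsx (-1)
    simpa using this
  have xe : x * e = e' * x := by rw [he'def, mul_assoc, sx, mul_one]
  have hee : e' = (s ^ 2)⁻¹ * e := by
    rw [hk, mul_inv_rev, Invol.inv_self he'2, ie, mul_assoc, se, mul_one]
  have ha : s⁻¹ * e ∈ conjugatesOf d := by
    obtain ⟨j, hj⟩ := Invol.exists_sqrt hso
    have h1 := Invol.zpow_mul_conj (Invol.conj_pow hse j) (-1)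
    have h2 : (s ^ j) ^ (2 * (-1) : ℤ) = s⁻¹ := by
      rw [zpow_mul, zpow_neg_one]
      exact congrArg (·⁻¹) (by exact_mod_cast hj)
    rw [h2] at h1
    exact h1 ▸ hconj _ e he
  have hc : Commute (s⁻¹ * e) x := by
    show s⁻¹ * e * x = x * (s⁻¹ * e)
    rw [← mul_assoc x, xs, mul_assoc s x e, xe, hee]
    group
  have hea : Commute e (s⁻¹ * e * x) := by
    show e * (s⁻¹ * e * x) = s⁻¹ * e * x * e
    rw [← mul_assoc e, ← mul_assoc e, es, mul_assoc s e e, se, mul_one, mul_assoc (s⁻¹ * e) x e, xe,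
      mul_assoc, ← mul_assoc e, ← hk]
    group
  refine ⟨s⁻¹ * e, ⟨ha, hc, hea⟩, ?_⟩
  rintro a₂ ⟨ha₂, hc₂, he₂⟩
  generalize s⁻¹ * e = a at ha hc hea ⊢
  have hu : a * a₂ = (a * x) * (a₂ * x) := by
    rw [mul_assoc a x, ← mul_assoc x a₂, ← hc₂.eq, mul_assoc a₂ x x, sx, mul_one]
  have h1 : e * (a * a₂) * e⁻¹ = a * a₂ := by
    rw [hu, (hea.mul_right he₂).eq, mul_inv_cancel_right]
  have h2 : a * (a * a₂) * a⁻¹ = (a * a₂)⁻¹ := Invol.conj_mul (hord a ha) (hord a₂ ha₂)
  obtain ⟨g, hg, hga⟩ := Invol.conj_of_odd (hord a ha) he2 (hodd a ha e he)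
  have hnorm : ∀ y ∈ Subgroup.closure ({a, e} : Set G),
      y * (a * a₂) * y⁻¹ = a * a₂ ∨ y * (a * a₂) * y⁻¹ = (a * a₂)⁻¹ := by
    intro y hy
    induction hy using Subgroup.closure_induction with
    | mem z hz =>
      rcases hz with rfl | rfl
      · exact Or.inr h2
      · exact Or.inl h1
    | one => exact Or.inl (by simp)
    | mul y z _ _ ihy ihz =>
      have hcomp : y * z * (a * a₂) * (y * z)⁻¹ = y * (z * (a * a₂) * z⁻¹) * y⁻¹ := by group
      have hinv : y * (a * a₂)⁻¹ * y⁻¹ = (y * (a * a₂) * y⁻¹)⁻¹ := by group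
      rcases ihz with h | h <;> rw [hcomp, h]
      · exact ihy
      · rcases ihy with h' | h' <;> rw [hinv, h']
        · exact Or.inr rfl
        · exact Or.inl (inv_inv _)
    | inv y _ ihy =>
      rcases ihy with h | h
      · exact Or.inl (by conv_lhs => arg 1; arg 2; rw [← h]
                         group)
      · refine Or.inr ?_
        have h' : y * (a * a₂)⁻¹ * y⁻¹ = a * a₂ := by rw [← conj_inv, h, inv_inv]
        conv_lhs => arg 1; arg 2; rw [← h']
        group
  have key : (a * a₂) ^ 2 = 1 := by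
    have h3 : e * (a * a₂) * e⁻¹ = g * (a * (g⁻¹ * (a * a₂) * g) * a⁻¹) * g⁻¹ := by
      rw [← hga]; group
    have hai : a * (a * a₂)⁻¹ * a⁻¹ = a * a₂ := by
      rw [← conj_inv, h2, inv_inv]
    rw [h1] at h3
    rcases hnorm g hg with h | h
    · have hg' : g⁻¹ * (a * a₂) * g = a * a₂ := by
        conv_lhs => arg 1; arg 2; rw [← h]
        group
      rw [hg', h2, ← conj_inv, h] at h3
      rw [pow_two]; exact eq_inv_iff_mul_eq_one.1 h3
    · have hg' : g⁻¹ * (a * a₂) * g = (a * a₂)⁻¹ := by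
        have h' : g * (a * a₂)⁻¹ * g⁻¹ = a * a₂ := by rw [← conj_inv, h, inv_inv]
        conv_lhs => arg 1; arg 2; rw [← h']
        group
      rw [hg', hai, h] at h3
      rw [pow_two]; exact eq_inv_iff_mul_eq_one.1 h3
  have h4 := Invol.eq_one_of_sq_of_odd (hodd a ha a₂ ha₂) key
  rw [mul_eq_one_iff_eq_inv] at h4
  rw [h4, Invol.inv_self (hord a₂ ha₂)]

end Cfsg.Agent.S5562
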