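import Cfsg.Statements.S5566
import Cfsg.Agent.Lib.JankoFour.Exists
import Cfsg.Agent.Lib.JankoFour.BigBuild
import Cfsg.Agent.Lib.JankoFour.TwoCentralizerMain

set_option autoImplicit false
open Cfsg Cfsg.Agent.JankoFour Subgroup

namespace Cfsg.Agent.S5566

/-- Let G be a finite non-abelian simple group of Janko-four type (an involution z whose centralizer H has an extraspecial largest normal 2-subgroup E of order 2^13 containing its centralizer in H, a normal subgroup N ≥ E of H with N/E of order 3 and H/N the automorphism group of M₂₂, and a subgroup P ≤ N of order 3 with C_E(P) = ⟨z⟩, N_H(P) ≠ C_H(P) and P ≤ C_H(P)′). Then a Sylow 2-subgroup of G has exactly one elementary abelian subgroup of order 2^11. -/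
theorem result {G : Type*} [Group G] [Finite G] [IsSimpleGroup G] (hG : ¬ IsMulCommutative G) (hJ : Cfsg.IsOfJankoFourType G) (T : Sylow 2 G) :
    ∃! V : Subgroup G, V ≤ (T : Subgroup G) ∧ Cfsg.IsElementaryAbelian 2 V ∧ Nat.card ↥V = 2 ^ 11 := by
  haveI : Fact (Nat.Prime 2) := ⟨Nat.prime_two⟩
  obtain ⟨z, P, hP⟩ := hJ
  obtain ⟨M⟩ := exists_model hP
  obtain ⟨S, hS⟩ := M.sylow_of_cent
  obtain ⟨g, hg⟩ := MulAction.exists_smul_eq G T S
  set σ := MulAut.conj g with hσ
  have hmap : (T : Subgroup G).map σ.toMonoidHom = (S : Subgroup G) := by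
    rw [← hg, Sylow.coe_subgroup_smul]
    rfl
  have hVS : M.vG ≤ (S : Subgroup G) := hS ▸ map_mono M.vH_le
  refine ⟨M.vG.map σ.symm.toMonoidHom, ⟨?_, elem_ab_map M.vG_sq σ.symm, ?_⟩, ?_⟩
  · rintro _ ⟨v, hv, rfl⟩
    obtain ⟨t, ht, e⟩ := hmap.ge (hVS hv)
    rw [← e]
    show σ.symm (σ t) ∈ (T : Subgroup G)
    rw [MulEquiv.symm_apply_apply]
    exact ht
  · rw [card_map_of_injective σ.symm.injective, M.vG_card]
    norm_num
  · rintro E ⟨hET, hE, hEc⟩
    have h1 : E.map σ.toMonoidHom = M.vG := by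
      refine M.unique_vG (R := (S : Subgroup G)) S.isPGroup' hVS (hmap ▸ map_mono hET) ?_ ?_
      · rintro _ ⟨a, ha, rfl⟩
        rw [← map_mul, ← pow_two, hE.2 a ha, map_one]
      · rw [card_map_of_injective σ.injective, hEc]
        norm_num
    rw [← h1]
    ext x
    simp [Subgroup.mem_map]

end Cfsg.Agent.S5566
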