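import Cfsg.Statements.S5588
import Cfsg.Agent.Lib.Y555Spider.Arms
-- import your own Cfsg.Agent.* helpers here

set_option autoImplicit false
open Cfsg

namespace Cfsg.Agent.S5588

noncomputable section

open Cfsg.Agent.CosetCert Cfsg.Agent.Y555Spider
open Cfsg.Spor (coxRelators coxLabel)
open Cfsg.Spor.Bimonster (Gen)

set_option linter.constructorNameAsVariable false

/-- The relations of the statement. -/
abbrev rels : Set (FreeGroup Gen) :=
  Cfsg.Spor.coxRelators Cfsg.Spor.Bimonster.edges ∪ {r' | r' ∈ [(Cfsg.Spor.Bimonster.a * Cfsg.Spor.Bimonster.b1 * Cfsg.Spor.Bimonster.c1 * Cfsg.Spor.Bimonster.a * Cfsg.Spor.Bimonster.b2 * Cfsg.Spor.Bimonster.c2 * Cfsg.Spor.Bimonster.a * Cfsg.Spor.Bimonster.b3 * Cfsg.Spor.Bimonster.c3) ^ 10]}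

/-- A node of the presented group. -/
def o (x : Gen) : PresentedGroup rels := PresentedGroup.of x

theorem rot {G : Type*} [Group G] {x y : G} {n : ℕ} (h : (x * y) ^ n = 1) : (y * x) ^ n = 1 := by
  rw [show y * x = x⁻¹ * (x * y) * x⁻¹⁻¹ by group, conj_pow, h, mul_one, mul_inv_cancel]

theorem of_pow (x y : Gen) : (o x * o y) ^ coxLabel Cfsg.Spor.Bimonster.edges x y = 1 := by
  have hm : ∀ x : Gen, x ∈ Cfsg.Spor.coxNodes Cfsg.Spor.Bimonster.edges := fun x => by cases x <;> decide
  have := PresentedGroup.one_of_mem (rels := rels)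
    (x := (FreeGroup.of x * FreeGroup.of y) ^ coxLabel Cfsg.Spor.Bimonster.edges x y)
    (Or.inl ⟨x, hm x, y, hm y, rfl⟩)
  rw [map_pow, map_mul] at this
  exact this

theorem o_sq (x : Gen) : o x * o x = 1 := by
  have := of_pow x x
  rwa [show coxLabel Cfsg.Spor.Bimonster.edges x x = 1 from by cases x <;> decide, pow_one] at this

/-- The spider relation with the arms in the given order. -/
def SpRel (b c b' c' b'' c'' : Gen) : Prop :=
  (o .a * o b * o c * o .a * o b' * o c' * o .a * o b'' * o c'') ^ 10 = 1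

theorem SpRel.rotate {b c b' c' b'' c'' : Gen} (h : SpRel b c b' c' b'' c'') : SpRel b' c' b'' c'' b c := by
  have h' := rot (x := o .a * o b * o c) (y := o .a * o b' * o c' * o .a * o b'' * o c'')
    (by simpa only [mul_assoc, SpRel] using h)
  simpa only [mul_assoc, SpRel] using h'

theorem sp123 : SpRel .b1 .c1 .b2 .c2 .b3 .c3 := by
  have := PresentedGroup.one_of_mem (rels := rels)
    (x := (Cfsg.Spor.Bimonster.a * Cfsg.Spor.Bimonster.b1 * Cfsg.Spor.Bimonster.c1 * Cfsg.Spor.Bimonster.a * Cfsg.Spor.Bimonster.b2 * Cfsg.Spor.Bimonster.c2 * Cfsg.Spor.Bimonster.a * Cfsg.Spor.Bimonster.b3 * Cfsg.Spor.Bimonster.c3) ^ 10)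
    (Or.inr List.mem_cons_self)
  rw [map_pow, map_mul, map_mul, map_mul, map_mul, map_mul, map_mul, map_mul, map_mul] at this
  exact this

/-- Eleven nodes numbered. -/
def nodes (l : List Gen) (x : ℕ) : PresentedGroup rels := o (l.getD x .a)

/-- The labels agree. -/
def Good (l : List Gen) : Prop :=
  ∀ x y : Fin 11, x ≠ y → coxLabel Cfsg.Spor.Bimonster.edges (l.getD x.val .a) (l.getD y.val .a) =
    if (x.val, y.val) ∈ edgesS ∨ (y.val, x.val) ∈ edgesS then 3 else 2

theorem sp_nodes {l : List Gen} (hl : Good l) (h3 : l.getD 3 .a = .a)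
    (hs : SpRel (l.getD 2 .a) (l.getD 1 .a) (l.getD 4 .a) (l.getD 5 .a) (l.getD 7 .a) (l.getD 8 .a)) :
    Sp (nodes l) := by
  refine ⟨fun x => o_sq _, fun x hx y hy hne => ?_, ?_⟩
  · have h := of_pow (l.getD x .a) (l.getD y .a)
    rw [hl ⟨x, hx⟩ ⟨y, hy⟩ (fun e => hne (congrArg Fin.val e))] at h
    rw [pairS]
    split_ifs with he <;>
      simp only [he, if_true, if_false] at h <;>
      · rw [wprod_rep, wprod_cons, wprod_cons, wprod_nil, mul_one]; exact h
  · rw [spW, wprod_rep]
    simp only [wprod_cons, wprod_nil, mul_one, nodes, h3]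
    simpa only [mul_assoc, SpRel] using hs

/-- The sign. -/
def sgn : PresentedGroup rels →* ℤˣ :=
  PresentedGroup.toGroup (f := fun _ => (-1 : ℤˣ)) (by
    rintro r (⟨a, -, b, -, rfl⟩ | hr)
    · rw [map_pow, map_mul, FreeGroup.lift_apply_of, FreeGroup.lift_apply_of, neg_one_mul, neg_neg, one_pow]
    · simp only [Set.mem_ofPred_eq, List.mem_singleton] at hr
      subst hr
      simp only [map_mul, map_pow, FreeGroup.lift_apply_of]
      decide)

theorem sgn_o (x : Gen) : sgn (o x) = -1 := PresentedGroup.toGroup.of _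

theorem swapped {l : List Gen} (hl : Good l) (h3 : l.getD 3 .a = .a)
    (hs : SpRel (l.getD 2 .a) (l.getD 1 .a) (l.getD 4 .a) (l.getD 5 .a) (l.getD 7 .a) (l.getD 8 .a)) :
    SpRel (l.getD 4 .a) (l.getD 5 .a) (l.getD 2 .a) (l.getD 1 .a) (l.getD 7 .a) (l.getD 8 .a) := by
  have h := spider_swap (sp_nodes hl h3 hs)
  rw [wprod_rep] at h
  simp only [wprod_cons, wprod_nil, mul_one, nodes, h3] at h
  simpa only [mul_assoc, SpRel] using h

theorem done {l : List Gen} (hl : Good l) (h3 : l.getD 3 .a = .a)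
    (hs : SpRel (l.getD 2 .a) (l.getD 1 .a) (l.getD 4 .a) (l.getD 5 .a) (l.getD 7 .a) (l.getD 8 .a)) :
    o (l.getD 10 .a) * ((o .a * o (l.getD 4 .a) * o (l.getD 2 .a) * o (l.getD 7 .a) * o (l.getD 5 .a) *
      o (l.getD 1 .a) * o (l.getD 6 .a)) ^ 9)⁻¹ = 1 := by
  have h := end_node (sp_nodes hl h3 hs) sgn (fun _ _ => sgn_o _)
  simp only [nodes, h3] at h
  rw [h, mul_inv_cancel]

/-- The six numberings. -/
def arms : Fin 6 → List Gen
  | 0 => [.d2, .c2, .b2, .a, .b1, .c1, .d1, .b3, .c3, .e1, .f1]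
  | 1 => [.d3, .c3, .b3, .a, .b1, .c1, .d1, .b2, .c2, .e1, .f1]
  | 2 => [.d1, .c1, .b1, .a, .b2, .c2, .d2, .b3, .c3, .e2, .f2]
  | 3 => [.d3, .c3, .b3, .a, .b2, .c2, .d2, .b1, .c1, .e2, .f2]
  | 4 => [.d1, .c1, .b1, .a, .b3, .c3, .d3, .b2, .c2, .e3, .f3]
  | 5 => [.d2, .c2, .b2, .a, .b3, .c3, .d3, .b1, .c1, .e3, .f3]

theorem arms_good : ∀ k, Good (arms k) := by
  unfold Good
  decide +kernel

theorem sp213 : SpRel .b2 .c2 .b1 .c1 .b3 .c3 :=
  swapped (l := arms 2) (arms_good 2) rfl sp123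

theorem arms_sp : ∀ k : Fin 6, SpRel ((arms k).getD 2 .a) ((arms k).getD 1 .a) ((arms k).getD 4 .a)
    ((arms k).getD 5 .a) ((arms k).getD 7 .a) ((arms k).getD 8 .a) := by
  intro k
  fin_cases k
  exacts [sp213, sp123.rotate.rotate, sp123, sp213.rotate.rotate, sp213.rotate, sp123.rotate]

end

/-- In the group presented by the sixteen involutions of the Y₅₅₅ Coxeter diagram subject only to the Coxeter relations and the single spider relation (a b₁ c₁ a b₂ c₂ a b₃ c₃)^10 = 1, each of the further relators used in the definitions' presentation of the Bimonster (each end node equals the ninth power of the Coxeter element of a sub-diagram of type E₇) already holds. Equivalently, the Y₅₅₅ diagram with the spider relation alone presents the Bimonster. -/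
theorem result :
    ∀ r ∈ Cfsg.Spor.Bimonster.extra,
      (PresentedGroup.mk (Cfsg.Spor.coxRelators Cfsg.Spor.Bimonster.edges ∪ {r' | r' ∈ [(Cfsg.Spor.Bimonster.a * Cfsg.Spor.Bimonster.b1 * Cfsg.Spor.Bimonster.c1 * Cfsg.Spor.Bimonster.a * Cfsg.Spor.Bimonster.b2 * Cfsg.Spor.Bimonster.c2 * Cfsg.Spor.Bimonster.a * Cfsg.Spor.Bimonster.b3 * Cfsg.Spor.Bimonster.c3) ^ 10]}) r) = 1 := by
  intro r hr
  simp only [Cfsg.Spor.Bimonster.extra, List.mem_cons, List.not_mem_nil, or_false] at hr
  rcases hr with rfl | rfl | rfl | rfl | rfl | rfl | rfl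
  · exact PresentedGroup.one_of_mem (Or.inr List.mem_cons_self)
  all_goals simp only [map_mul, map_inv, map_pow]
  · have h := done (arms_good 0) rfl (arms_sp 0)
    simpa only [arms, List.getD_cons_succ, List.getD_cons_zero, o, PresentedGroup.of] using h
  · have h := done (arms_good 1) rfl (arms_sp 1)
    simpa only [arms, List.getD_cons_succ, List.getD_cons_zero, o, PresentedGroup.of] using h
  · have h := done (arms_good 2) rfl (arms_sp 2)
    simpa only [arms, List.getD_cons_succ, List.getD_cons_zero, o, PresentedGroup.of] using h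
  · have h := done (arms_good 3) rfl (arms_sp 3)
    simpa only [arms, List.getD_cons_succ, List.getD_cons_zero, o, PresentedGroup.of] using h
  · have h := done (arms_good 4) rfl (arms_sp 4)
    simpa only [arms, List.getD_cons_succ, List.getD_cons_zero, o, PresentedGroup.of] using h
  · have h := done (arms_good 5) rfl (arms_sp 5)
    simpa only [arms, List.getD_cons_succ, List.getD_cons_zero, o, PresentedGroup.of] using h

end Cfsg.Agent.S5588
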