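import Cfsg.Statements.S5593
import Cfsg.Agent.Lib.Leech.Co0

set_option autoImplicit false
open Cfsg

namespace Cfsg.Agent.S5593
open Cfsg.Agent.Golay Cfsg.Agent.Leech

/-- The automorphism group of the Leech lattice acts transitively on the congruence classes modulo twice the lattice of the vectors of sum of squares 64 (customary norm 8): for any two such vectors some automorphism carries the first to a vector congruent to the second. -/
theorem result (v w : ↥Cfsg.leechLattice) (hv : Cfsg.sqNorm (v : Cfsg.GolayPt → ℤ) = 64) (hw : Cfsg.sqNorm (w : Cfsg.GolayPt → ℤ) = 64) :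
    ∃ g : ↥Cfsg.Co0, ∃ z ∈ Cfsg.leechLattice, ((g • v : ↥Cfsg.leechLattice) : Cfsg.GolayPt → ℤ) - (w : Cfsg.GolayPt → ℤ) = 2 • z := by
  obtain ⟨g, hg⟩ := exists_to_axis (ip_self_iff.2 (by rw [hv]; rfl)) (none : Cfsg.GolayPt)
  obtain ⟨g', hg'⟩ := exists_to_axis (ip_self_iff.2 (by rw [hw]; rfl)) (none : Cfsg.GolayPt)
  have h : (g'⁻¹ * g) • v = w := by rw [mul_smul, hg, ← hg', inv_smul_smul]
  exact ⟨g'⁻¹ * g, 0, zero_mem _, by rw [h, sub_self, smul_zero]⟩

end Cfsg.Agent.S5593
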