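import Cfsg.Statements.S5594
import Cfsg.Agent.Lib.Leech.Co0
import Cfsg.Agent.Lib.Golay.Local.ClassData

set_option autoImplicit false
open Cfsg

namespace Cfsg.Agent.S5594
open Cfsg.Agent.Golay Cfsg.Agent.Leech

/-- The automorphism group of the Leech lattice contains the negation map, and the subgroup of order 2 it generates has no complement: the automorphism group is a non-split extension of its quotient by that subgroup (it is not the direct product of a group of order 2 with the first Conway group). -/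
theorem result :
    ∃ n : ↥Cfsg.Co0, (∀ v : ↥Cfsg.leechLattice, ((n • v : ↥Cfsg.leechLattice) : Cfsg.GolayPt → ℤ) = -(v : Cfsg.GolayPt → ℤ)) ∧
    ∀ K : Subgroup ↥Cfsg.Co0, ¬ (Subgroup.zpowers n).IsComplement' K := by
  refine ⟨negCo0, fun v => by rw [negCo0_smul]; rfl, fun K hK => ?_⟩
  have hv : Cfsg.Agent.PermCert.validElt 5 24 Local.rep2B = true := by decide +kernel
  let σ : Cfsg.M24 := ⟨permOf Local.rep2B, permOf_mem_M24 hv (by decide +kernel)⟩
  let c : Cfsg.golayCode := ⟨ofMask 3556715, ofMask_mem_golayCode (by decide +kernel)⟩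
  have hsq : mono (σ, c) * mono (σ, c) = negCo0 := by
    refine co0_ext fun i => ?_
    rw [mul_smul, mono_axis, negCo0_smul]
    have h1 : ∀ n : ℤ, mono (σ, c) • (n • axis ((σ : Equiv.Perm Cfsg.GolayPt) i)) =
        n • mono (σ, c) • axis ((σ : Equiv.Perm Cfsg.GolayPt) i) := fun n =>
      map_zsmul (hom0 _) n _
    rw [h1, mono_axis, smul_smul]
    have hσ : ∀ p, (σ : Equiv.Perm Cfsg.GolayPt) ((σ : Equiv.Perm Cfsg.GolayPt) p) = p := by
      intro p
      apply idx_injective
      show idx (permOf Local.rep2B (permOf Local.rep2B p)) = idx p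
      rw [idx_permOf hv, idx_permOf hv]
      have hp := idx_lt p
      generalize idx p = k at hp ⊢
      revert k
      decide +kernel
    have hsgn : ∀ p, sgn c ((σ : Equiv.Perm Cfsg.GolayPt) p) * sgn c p = -1 := by
      intro p
      have hc : (Nat.testBit 3556715 (idx (permOf Local.rep2B p))) ≠
          (Nat.testBit 3556715 (idx p)) := by
        rw [idx_permOf hv]
        have hp := idx_lt p
        generalize idx p = k at hp ⊢
        revert k
        decide +kernel
      show sgn (ofMask 3556715) (permOf Local.rep2B p) * sgn (ofMask 3556715) p = -1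
      rcases Bool.eq_false_or_eq_true (Nat.testBit 3556715 (idx (permOf Local.rep2B p))) with e1 | e1 <;>
        rcases Bool.eq_false_or_eq_true (Nat.testBit 3556715 (idx p)) with e2 | e2 <;>
        simp [sgn, ofMask, e1, e2] at hc ⊢
    rw [hσ, hsgn, neg_one_zsmul]
  have hc : ∀ g : Cfsg.Co0, g * negCo0 = negCo0 * g := fun g => by
    refine co0_ext fun i => ?_
    rw [mul_smul, mul_smul, negCo0_smul, negCo0_smul, co0_neg]
  have hsq1 : negCo0 * negCo0 = 1 := by
    refine co0_ext fun i => ?_
    rw [mul_smul, negCo0_smul, negCo0_smul, neg_neg, one_smul]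
  obtain ⟨⟨a, k⟩, hak, -⟩ := hK.existsUnique (mono (σ, c))
  change (a : Cfsg.Co0) * k = mono (σ, c) at hak
  obtain ⟨n, hn⟩ := Subgroup.mem_zpowers_iff.1 a.2
  have ha2 : (a : Cfsg.Co0) * a = 1 := by
    rw [← hn, ← zpow_add, ← two_mul, zpow_mul]
    simp [sq, hsq1]
  have hcomm : Commute (a : Cfsg.Co0) k := by
    rw [← hn]
    exact Commute.zpow_left ((hc k).symm) n
  have hk : negCo0 = (k : Cfsg.Co0) * k := by
    rw [← hsq, ← hak, hcomm.symm.mul_mul_mul_comm, ha2, one_mul]
  have hin : negCo0 ∈ Subgroup.zpowers negCo0 ⊓ K :=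
    ⟨Subgroup.mem_zpowers _, hk ▸ K.mul_mem k.2 k.2⟩
  rw [hK.disjoint.eq_bot] at hin
  exact negCo0_ne_one (Subgroup.mem_bot.1 hin)

end Cfsg.Agent.S5594
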