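import Cfsg.Statements.S5595
import Cfsg.Agent.Lib.LargeExtra.Setting

set_option autoImplicit false
open Cfsg

namespace Cfsg.Agent.S5595
open Cfsg.Agent.LargeExtra Subgroup

/-- Setting: `z` is an involution of the finite group `G`; for each element `x`, `Q x` denotes the largest normal 2-subgroup of the centralizer of `x`; `Q z` is extraspecial and contains its own centralizer in `G` (a large extraspecial 2-subgroup in this sense). Call the conjugates of `z` singular, and say that singular `x` is orthogonal to singular `y` when `x ∈ Q y`. Then orthogonality is symmetric: if a conjugate `x` of `z` lies in `Q z`, then `z` lies in `Q x`. -/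
theorem result {G : Type*} [Group G] [Finite G]
    (Q : G → Subgroup G)
    (hQ : ∀ x : G, Q x = (Cfsg.pCore 2 ↥(Subgroup.centralizer ({x} : Set G))).map (Subgroup.centralizer ({x} : Set G)).subtype)
    (z : G) (hz : orderOf z = 2) (hE : Cfsg.IsExtraspecial 2 ↥(Q z))
    (hC : Subgroup.centralizer ((Q z : Subgroup G) : Set G) ≤ Q z)
    (g : G) (hx : g * z * g⁻¹ ∈ Q z) : z ∈ Q (g * z * g⁻¹) := by
  have hQz : ∀ x, Q x = coreAt x := hQ
  rw [hQz] at hE hC hx ⊢
  have hzc : z ∈ centralizer ((coreAt z : Subgroup G) : Set G) :=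
    fun q hq => mem_centralizer_one.1 (coreAt_le z hq)
  have h : XSLocal (coreAt z) z := XSLocal.of_core hz hE (hC hzc) (coreAt_le z) hC (coreAt_normal z)
  rw [coreAt_conj]
  by_cases hne : g * z * g⁻¹ = z
  · rw [← coreAt_conj, hne]
    exact h.mem
  rcases h.card_cases with h8 | h32
  · -- the centralizer is a 2-group
    have hx2 : g * z * g⁻¹ * (g * z * g⁻¹) = 1 := by
      rw [show g * z * g⁻¹ * (g * z * g⁻¹) = g * (z * z) * g⁻¹ by group, h.sq]; group
    have hp := h.isPGroup_centralizer h8 hx hx2 (fun e => h.ne_one (conj_eq_one_iff.1 e)) hne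
    have htop : centralizer ({z} : Set G) ≤ coreAt z := le_coreAt hp le_rfl le_normalizer
    refine mem_conjMap.2 (htop (mem_centralizer_one.2 ?_))
    have hc := h.comm hx
    calc g⁻¹ * z * g * z = g⁻¹ * (z * (g * z * g⁻¹)) * g := by group
      _ = g⁻¹ * (g * z * g⁻¹ * z) * g := by rw [hc]
      _ = z * (g⁻¹ * z * g) := by group
  · exact h.mem_conj h32 hx hne

end Cfsg.Agent.S5595
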