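import Cfsg.Statements.S5596
import Cfsg.Agent.Lib.LargeExtra.Singular

set_option autoImplicit false
open Cfsg

namespace Cfsg.Agent.S5596
open Cfsg.Agent.LargeExtra Subgroup

/-- Setting: `z` is an involution of the finite group `G`; for each element `x`, `Q x` is the largest normal 2-subgroup of the centralizer of `x`; `Q z` is extraspecial and contains its own centralizer in `G`. A subgroup `U` is singular when it is elementary abelian, every non-identity element of `U` is conjugate to `z`, and any two non-identity elements `u`, `v` of `U` are orthogonal (`v ∈ Q u`). Write `QU` for the intersection of the `Q u` and `LU` for the join of the `Q u` over the non-identity `u` in `U`. If `U` is singular of order `2 ^ n` with `n ≥ 2`, then `U ≤ QU ≤ LU`, `LU` normalizes `U`, and `LU` induces on `U` its full automorphism group (the general linear group of dimension `n` over the field with two elements): every automorphism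 of `U` is conjugation by some element of `LU`. -/
theorem result {G : Type*} [Group G] [Finite G]
    (Q : G → Subgroup G)
    (hQ : ∀ x : G, Q x = (Cfsg.pCore 2 ↥(Subgroup.centralizer ({x} : Set G))).map (Subgroup.centralizer ({x} : Set G)).subtype)
    (z : G) (hz : orderOf z = 2) (hE : Cfsg.IsExtraspecial 2 ↥(Q z))
    (hC : Subgroup.centralizer ((Q z : Subgroup G) : Set G) ≤ Q z)
    (U : Subgroup G) (hU2 : ∀ u ∈ U, u * u = 1)
    (hS : ∀ u ∈ U, u ≠ 1 → ∃ g : G, g * z * g⁻¹ = u)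
    (hO : ∀ u ∈ U, ∀ v ∈ U, u ≠ 1 → v ≠ 1 → v ∈ Q u)
    (QU LU : Subgroup G) (hQU : QU = ⨅ u ∈ ((U : Set G) \ {1}), Q u) (hLU : LU = ⨆ u ∈ ((U : Set G) \ {1}), Q u)
    (n : ℕ) (hn : 2 ≤ n) (hcard : Nat.card ↥U = 2 ^ n) :
    U ≤ QU ∧ QU ≤ LU ∧ LU ≤ Subgroup.normalizer (U : Set G) ∧
      ∀ φ : ↥U ≃* ↥U, ∃ g ∈ LU, ∀ u : ↥U, g * (u : G) * g⁻¹ = ((φ u : ↥U) : G) := by
  have S := singular_of hQ hz hE hC hU2 hS hO
  have hQUle : ∀ u ∈ U, u ≠ 1 → QU ≤ Q u := fun u hu h1 => hQU ▸ iInf₂_le u ⟨hu, h1⟩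
  have hLUle : ∀ u ∈ U, u ≠ 1 → Q u ≤ LU := fun u hu h1 => hLU ▸ le_iSup₂ (f := fun w _ => Q w) u ⟨hu, h1⟩
  have hLN : LU ≤ normalizer (U : Set G) := by
    rw [hLU]
    exact iSup₂_le fun u hu => S.core_le_normalizer hu.1 hu.2
  refine ⟨hQU ▸ le_iInf₂ fun u hu => S.le_core hu.1 hu.2, ?_, hLN, ?_⟩
  · obtain ⟨u, hu, hu1⟩ := (bot_or_exists_ne_one U).resolve_left fun e => by
      rw [e, card_bot] at hcard
      exact (Nat.one_lt_pow (by omega) one_lt_two).ne hcard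
    exact (hQUle u hu hu1).trans (hLUle u hu hu1)
  suffices key : ∀ W : Subgroup G, W ≤ U → ∀ φ : ↥U ≃* ↥U, (∀ a : ↥U, (a : G) ∈ W → φ a = a) →
      ∃ g ∈ LU, ∀ u : ↥U, g * (u : G) * g⁻¹ = ((φ u : ↥U) : G) from
    fun φ => key ⊥ bot_le φ fun a ha => by
      rw [show a = 1 from Subtype.ext (mem_bot.1 ha), map_one]
  intro W
  induction W using WellFoundedGT.induction with
  | ind W ih =>
  intro hW φ hφ
  by_cases hUW : U ≤ W
  · exact ⟨1, one_mem _, fun a => by rw [hφ a (hUW a.2)]; group⟩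
  obtain ⟨v, hv, hvW⟩ := SetLike.not_le_iff_exists.1 hUW
  set W' := W ⊔ zpowers v with hW'
  have hlt : W < W' := left_lt_sup.2 fun h => hvW (h (mem_zpowers v))
  have hW'U : W' ≤ U := sup_le hW (zpowers_le.2 hv)
  -- it suffices to fix v
  have fin : ∀ ψ : ↥U ≃* ↥U, (∀ a : ↥U, (a : G) ∈ W → ψ a = a) → ψ ⟨v, hv⟩ = ⟨v, hv⟩ →
      ∀ a : ↥U, (a : G) ∈ W' → ψ a = a := by
    intro ψ h1 h2 a ha
    have hle : W' ≤ (MonoidHom.eqLocus ψ.toMonoidHom (MonoidHom.id ↥U)).map U.subtype :=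
      sup_le (fun b hb => ⟨⟨b, hW hb⟩, h1 _ hb, rfl⟩) (zpowers_le.2 ⟨⟨v, hv⟩, h2, rfl⟩)
    obtain ⟨b, hb, hba⟩ := hle ha
    obtain rfl : b = a := Subtype.ext hba
    exact hb
  set v' : G := ((φ ⟨v, hv⟩ : ↥U) : G) with hv'
  by_cases hvv : v' = v
  · exact ih W' hlt hW'U φ (fin φ hφ (Subtype.ext hvv))
  have hv'U : v' ∈ U := (φ ⟨v, hv⟩).2
  set u := v' * v with hu'
  have huU : u ∈ U := mul_mem hv'U hv
  have hu1 : u ≠ 1 := fun e => hvv ((eq_inv_of_mul_eq_one_left e).trans (inv_eq_of_mul_eq_one_right (S.sq v hv)))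
  have hnot : v' ∉ W ⊔ zpowers u := by
    intro h
    rcases S.mem_sup_zpowers hW huU h with h1 | h1
    · have h2 := hφ ⟨v', hv'U⟩ h1
      have h3 : (⟨v', hv'U⟩ : ↥U) = ⟨v, hv⟩ := φ.injective (h2.trans rfl)
      exact hvv (congrArg Subtype.val h3)
    · rw [hu', ← mul_assoc, S.sq v' hv'U, one_mul] at h1
      exact hvW h1
  have hloc := S.loc u huU hu1
  obtain ⟨q, hq, hqH, e⟩ := hloc.exists_conj_mul (mem_sup_right (mem_zpowers u))
    ((sup_le hW (zpowers_le.2 huU)).trans (S.le_core huU hu1)) (S.le_core huU hu1 hv'U) hnot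
  have hev : q * v' * q⁻¹ = v := by rw [e, hu', ← mul_assoc, S.sq v' hv'U, one_mul]
  have hqN := hLN (hLUle u huU hu1 hq)
  let τ : ↥U ≃* ↥U :=
    { toFun := fun a => ⟨q * a * q⁻¹, conj_mem hqN a.2⟩
      invFun := fun a => ⟨q⁻¹ * a * q⁻¹⁻¹, conj_mem (inv_mem hqN) a.2⟩
      left_inv := fun a => Subtype.ext (show q⁻¹ * (q * a * q⁻¹) * q⁻¹⁻¹ = a by group)
      right_inv := fun a => Subtype.ext (show q * (q⁻¹ * a * q⁻¹⁻¹) * q⁻¹ = a by group)
      map_mul' := fun a b => Subtype.ext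
        (show q * ((a : G) * b) * q⁻¹ = q * a * q⁻¹ * (q * b * q⁻¹) by group) }
  obtain ⟨g, hg, hgφ⟩ := ih W' hlt hW'U (φ.trans τ) (fin _ (fun a ha => by
      refine Subtype.ext ?_
      show q * ((φ a : ↥U) : G) * q⁻¹ = a
      rw [hφ a ha, hqH _ (mem_sup_left ha), mul_inv_cancel_right]) (Subtype.ext hev))
  refine ⟨q⁻¹ * g, mul_mem (inv_mem (hLUle u huU hu1 hq)) hg, fun a => ?_⟩
  have h2 : g * (a : G) * g⁻¹ = q * ((φ a : ↥U) : G) * q⁻¹ := hgφ a
  rw [show q⁻¹ * g * (a : G) * (q⁻¹ * g)⁻¹ = q⁻¹ * (g * a * g⁻¹) * q by group, h2]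
  group

end Cfsg.Agent.S5596
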