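import Cfsg.Statements.S5597
import Cfsg.Agent.Lib.LargeExtra.Singular

set_option autoImplicit false
open Cfsg

namespace Cfsg.Agent.S5597
open Cfsg.Agent.LargeExtra Subgroup
open scoped commutatorElement

/-- Setting: `z` is an involution of the finite group `G`; for each element `x`, `Q x` is the largest normal 2-subgroup of the centralizer of `x`; `Q z` is extraspecial and contains its own centralizer in `G`. A subgroup `U` is singular when it is elementary abelian, every non-identity element of `U` is conjugate to `z`, and any two non-identity elements `u`, `v` of `U` are orthogonal (`v ∈ Q u`). Write `QU` for the intersection of the `Q u` and `LU` for the join of the `Q u` over the non-identity `u` in `U`. If `U` is a non-trivial singular subgroup, then `LU` acts trivially on `QU / U` (every commutator of an element of `LU` with an element of `QU` lies in `U`), and for every `x` in `QU` outside `U` the centralizer of `U` in `LU` permutes the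 coset `x U` transitively: each `x u` with `u ∈ U` is a conjugate of `x` by an element of `LU` centralizing `U`. -/
theorem result {G : Type*} [Group G] [Finite G]
    (Q : G → Subgroup G)
    (hQ : ∀ x : G, Q x = (Cfsg.pCore 2 ↥(Subgroup.centralizer ({x} : Set G))).map (Subgroup.centralizer ({x} : Set G)).subtype)
    (z : G) (hz : orderOf z = 2) (hE : Cfsg.IsExtraspecial 2 ↥(Q z))
    (hC : Subgroup.centralizer ((Q z : Subgroup G) : Set G) ≤ Q z)
    (U : Subgroup G) (hU2 : ∀ u ∈ U, u * u = 1)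
    (hS : ∀ u ∈ U, u ≠ 1 → ∃ g : G, g * z * g⁻¹ = u)
    (hO : ∀ u ∈ U, ∀ v ∈ U, u ≠ 1 → v ≠ 1 → v ∈ Q u)
    (QU LU : Subgroup G) (hQU : QU = ⨅ u ∈ ((U : Set G) \ {1}), Q u) (hLU : LU = ⨆ u ∈ ((U : Set G) \ {1}), Q u)
    (hU : U ≠ ⊥) :
    (∀ g ∈ LU, ∀ x ∈ QU, g * x * g⁻¹ * x⁻¹ ∈ U) ∧
      ∀ x ∈ QU, x ∉ U → ∀ u ∈ U, ∃ g ∈ LU ⊓ Subgroup.centralizer (U : Set G), g * x * g⁻¹ = x * u := by
  have S := singular_of hQ hz hE hC hU2 hS hO
  have hQUle : ∀ u ∈ U, u ≠ 1 → QU ≤ Q u := fun u hu h1 => hQU ▸ iInf₂_le u ⟨hu, h1⟩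
  have hLUle : ∀ u ∈ U, u ≠ 1 → Q u ≤ LU := fun u hu h1 => hLU ▸ le_iSup₂ (f := fun w _ => Q w) u ⟨hu, h1⟩
  refine ⟨fun g hg => ?_, fun x hx hxU u hu => ?_⟩
  · let K : Subgroup G :=
      { carrier := {g | g ∈ normalizer (U : Set G) ∧ ∀ x ∈ QU, g * x * g⁻¹ * x⁻¹ ∈ U}
        one_mem' := ⟨one_mem _, fun x _ => by simp⟩
        mul_mem' := fun {a b} ha hb => ⟨mul_mem ha.1 hb.1, fun x hx => by
          rw [show a * b * x * (a * b)⁻¹ * x⁻¹ = a * (b * x * b⁻¹ * x⁻¹) * a⁻¹ * (a * x * a⁻¹ * x⁻¹) by group]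
          exact mul_mem (conj_mem ha.1 (hb.2 x hx)) (ha.2 x hx)⟩
        inv_mem' := fun {a} ha => ⟨inv_mem ha.1, fun x hx => by
          rw [show a⁻¹ * x * a⁻¹⁻¹ * x⁻¹ = a⁻¹ * (a * x * a⁻¹ * x⁻¹)⁻¹ * a⁻¹⁻¹ by group]
          exact conj_mem (inv_mem ha.1) (inv_mem (ha.2 x hx))⟩ }
    have hle : LU ≤ K := by
      rw [hLU]
      refine iSup₂_le fun u hu q hq => ?_
      obtain ⟨huU, hu1⟩ := hu
      refine ⟨S.core_le_normalizer huU hu1 hq, fun x hx => ?_⟩
      rcases (S.loc u huU hu1).comm_cases hq (hQUle u huU hu1 hx) with e | e <;>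
        rw [commutatorElement_def] at e <;> rw [e]
      exacts [one_mem U, huU]
    exact (hle hg).2
  · by_cases hu1 : u = 1
    · exact ⟨1, one_mem _, by rw [hu1]; group⟩
    obtain ⟨q, hq, hqU, e⟩ := (S.loc u hu hu1).exists_conj_mul hu (S.le_core hu hu1) (hQUle u hu hu1 hx) hxU
    exact ⟨q, ⟨hLUle u hu hu1 hq, mem_centralizer_iff.2 fun a ha => (hqU a ha).symm⟩, e⟩

end Cfsg.Agent.S5597
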