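import Cfsg.Statements.S5599
import Cfsg.Agent.Lib.Golay.Local.StdObjects
import Cfsg.Agent.Lib.Golay.Mathieu

set_option autoImplicit false
open scoped Pointwise
open Cfsg

namespace Cfsg.Agent.S5599
open Cfsg.Agent Cfsg.Agent.Golay Cfsg.Agent.Golay.Cert Cfsg.Agent.PermCert

/-- In the automorphism group of the length-24 code, the two-point Mathieu group (permutations of the code's group fixing the extra point and the residue 0) has index 2 in the setwise stabiliser of that pair of points, and an element of the code's group interchanging the two points normalises the two-point group and induces on it, by conjugation, an automorphism that is not inner. -/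
theorem result (g : Equiv.Perm Cfsg.GolayPt) (hg : g ∈ Cfsg.M24) (h₁ : g none = some 0) (h₂ : g (some 0) = none) : Cfsg.Spor.M22.relIndex (Cfsg.M24 ⊓ MulAction.stabilizer (Equiv.Perm Cfsg.GolayPt) ({none, some 0} : Finset Cfsg.GolayPt)) = 2 ∧ (∀ x ∈ Cfsg.Spor.M22, g * x * g⁻¹ ∈ Cfsg.Spor.M22) ∧ ¬ ∃ h ∈ Cfsg.Spor.M22, ∀ x ∈ Cfsg.Spor.M22, g * x * g⁻¹ = h * x * h⁻¹ := by
  classical
  have hM22 : ∀ x, x ∈ Spor.M22 ↔ x ∈ M24 ∧ x none = none ∧ x (some 0) = some 0 := by
    intro x
    simp [Spor.M22, Spor.M23, Subgroup.mem_inf, MulAction.mem_stabilizer_iff, and_assoc]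
  have hpair : ∀ x : Equiv.Perm GolayPt, x • ({none, some 0} : Finset GolayPt) = {none, some 0} ↔
      (x none = none ∧ x (some 0) = some 0) ∨ (x none = some 0 ∧ x (some 0) = none) := by
    intro x
    rw [Finset.smul_finset_insert, Finset.smul_finset_singleton, Equiv.Perm.smul_def, Equiv.Perm.smul_def]
    constructor
    · intro h
      have h1 : x none ∈ ({none, some 0} : Finset GolayPt) := h ▸ Finset.mem_insert_self _ _
      have h2 : x (some 0) ∈ ({none, some 0} : Finset GolayPt) :=
        h ▸ Finset.mem_insert_of_mem (Finset.mem_singleton_self _)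
      simp only [Finset.mem_insert, Finset.mem_singleton] at h1 h2
      have hne : x none ≠ x (some 0) := x.injective.ne (by simp)
      rcases h1 with h1 | h1 <;> rcases h2 with h2 | h2
      exacts [absurd (h1.trans h2.symm) hne, Or.inl ⟨h1, h2⟩, Or.inr ⟨h1, h2⟩, absurd (h1.trans h2.symm) hne]
    · rintro (⟨h1, h2⟩ | ⟨h1, h2⟩) <;> rw [h1, h2]
      exact Finset.pair_comm _ _
  refine ⟨?_, fun x hx => ?_, ?_⟩
  · rw [Subgroup.relIndex_eq_two_iff_exists_notMem_and']
    refine ⟨g, Subgroup.mem_inf.2 ⟨hg, (hpair g).2 (Or.inr ⟨h₁, h₂⟩)⟩, fun h => ?_, fun b hb => ?_⟩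
    · rw [((hM22 g).1 h).2.1] at h₁; simp at h₁
    · obtain ⟨hbM, hbst⟩ := Subgroup.mem_inf.1 hb
      rcases (hpair b).1 hbst with ⟨e1, e2⟩ | ⟨e1, e2⟩
      · exact Or.inr ((hM22 b).2 ⟨hbM, e1, e2⟩)
      · exact Or.inl ((hM22 _).2 ⟨mul_mem hg hbM, by simp [e1, h₂], by simp [e2, h₁]⟩)
  · obtain ⟨hxM, e1, e2⟩ := (hM22 x).1 hx
    have i1 : g⁻¹ none = some 0 := by rw [Equiv.Perm.inv_eq_iff_eq, h₂]
    have i2 : g⁻¹ (some 0) = none := by rw [Equiv.Perm.inv_eq_iff_eq, h₁]
    exact (hM22 _).2 ⟨mul_mem (mul_mem hg hxM) (inv_mem hg), by rw [Equiv.Perm.mul_apply, Equiv.Perm.mul_apply, i1, e2, h₂], by rw [Equiv.Perm.mul_apply, Equiv.Perm.mul_apply, i2, e1, h₁]⟩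
  · rintro ⟨h, hh, hconj⟩
    obtain ⟨hhM, f1, f2⟩ := (hM22 h).1 hh
    set c := h⁻¹ * g with hc
    have hcM : c ∈ M24 := mul_mem (inv_mem hhM) hg
    have c1 : c none = some 0 := by
      rw [hc, Equiv.Perm.mul_apply, h₁, Equiv.Perm.inv_eq_iff_eq, f2]
    have c2 : c (some 0) = none := by
      rw [hc, Equiv.Perm.mul_apply, h₂, Equiv.Perm.inv_eq_iff_eq, f1]
    have hcomm : ∀ x ∈ Spor.M22, c * x = x * c := fun x hx => by
      have := congrArg (fun z => h⁻¹ * z * g) (hconj x hx)
      simpa [hc, mul_assoc] using this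
    have hfix : ∀ p, p ≠ none → p ≠ some 0 → c p = p := by
      intro p hp0 hp1
      by_contra hne
      have hq0 : c p ≠ none := fun e => hp1 (c.injective (e.trans c2.symm))
      have hq1 : c p ≠ some 0 := fun e => hp0 (c.injective (e.trans c1.symm))
      obtain ⟨r, hr⟩ : ∃ r, r ∉ ({none, some 0, p, c p} : Finset GolayPt) := by
        have hlt : ({none, some 0, p, c p} : Finset GolayPt).card < (Finset.univ : Finset GolayPt).card := by
          have h4 : ({none, some 0, p, c p} : Finset GolayPt).card ≤ 4 := Finset.card_le_four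
          have h24 : (Finset.univ : Finset GolayPt).card = 24 := rfl
          omega
        obtain ⟨r, -, hr⟩ := Finset.exists_mem_notMem_of_card_lt_card hlt
        exact ⟨r, hr⟩
      simp only [Finset.mem_insert, Finset.mem_singleton, not_or] at hr
      obtain ⟨x, hx, hxy⟩ := exists_M24_map' (k := 4) (by norm_num)
        (x := ![none, some 0, p, c p]) (y := ![none, some 0, p, r])
        (by intro i j; fin_cases i <;> fin_cases j <;> simp [hp0, Ne.symm hp0, hp1, Ne.symm hp1, hne, Ne.symm hne, hq0, Ne.symm hq0, hq1, Ne.symm hq1])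
        (by intro i j; fin_cases i <;> fin_cases j <;> simp [hp0, Ne.symm hp0, hp1, Ne.symm hp1, hr.1, Ne.symm hr.1, hr.2.1, Ne.symm hr.2.1, hr.2.2.1, Ne.symm hr.2.2.1])
      have hx22 : x ∈ Spor.M22 := (hM22 x).2 ⟨hx, hxy 0, hxy 1⟩
      have e : c (x p) = x (c p) := DFunLike.congr_fun (hcomm x hx22) p
      rw [show x p = p from hxy 2, show x (c p) = r from hxy 3] at e
      exact hr.2.2.2 e.symm
    obtain ⟨o, ho, hn, h0⟩ : ∃ o ∈ octads, (none : GolayPt) ∈ o ∧ (some 0 : GolayPt) ∉ o := by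
      have hm : Local.anyF (fun m => Local.bitB m 23 && !(Local.bitB m 0)) Local.octLit = true := by
        decide +kernel
      obtain ⟨m, hm, hb⟩ := Local.anyF_iff.1 hm
      simp only [Bool.and_eq_true, Bool.not_eq_true', Local.bitB_eq] at hb
      refine ⟨maskSet m, Local.mem_octads'.2 ⟨m, hm, rfl⟩, mem_maskSet.2 hb.1, fun h => ?_⟩
      rw [mem_maskSet, show idx (some 0 : GolayPt) = 0 from by decide, hb.2] at h
      simp at h
    have hsub : o.erase none ⊆ (c • o) ∩ o := by
      intro p hp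
      obtain ⟨hp0, hpo⟩ := Finset.mem_erase.1 hp
      have := Finset.smul_mem_smul_finset (a := c) hpo
      rw [Equiv.Perm.smul_def, hfix p hp0 fun e => h0 (e ▸ hpo)] at this
      exact Finset.mem_inter.2 ⟨this, hpo⟩
    have heq : c • o = o := octad_unique (smul_mem_octads hcM ho) ho (by
      have := Finset.card_le_card hsub
      rw [Finset.card_erase_of_mem hn, card_octad ho] at this
      omega)
    have := Finset.smul_mem_smul_finset (a := c) hn
    rw [heq, Equiv.Perm.smul_def, c1] at this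
    exact h0 this

end Cfsg.Agent.S5599
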