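import Cfsg.Statements.S5600
import Cfsg.Agent.Lib.Golay.Local.SixPoints

set_option autoImplicit false
open scoped Pointwise
open Cfsg

namespace Cfsg.Agent.S5600
open Cfsg.Agent.Golay

/-- Although the group of the length-24 code is only 5-transitive on the 24 points, it induces the full symmetric group on every 6-element subset: every permutation of a 6-set E is the restriction of an element of the group mapping E to itself. The pointwise stabiliser of E has order 16 when E lies in an octad and order 3 otherwise; in the latter case the setwise stabiliser of E has order 2160. -/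
theorem result (E : Finset Cfsg.GolayPt) (hE : E.card = 6) : (∀ σ : Equiv.Perm ↥E, ∃ g ∈ Cfsg.M24, ∀ p : ↥E, g p = σ p) ∧ ((∃ o ∈ Cfsg.octads, E ⊆ o) → Nat.card {g : Equiv.Perm Cfsg.GolayPt // g ∈ Cfsg.M24 ∧ ∀ p ∈ E, g p = p} = 16) ∧ ((¬ ∃ o ∈ Cfsg.octads, E ⊆ o) → Nat.card {g : Equiv.Perm Cfsg.GolayPt // g ∈ Cfsg.M24 ∧ ∀ p ∈ E, g p = p} = 3 ∧ Nat.card ↥(MulAction.stabilizer Cfsg.M24 E) = 2160) := by
  classical
  obtain ⟨f⟩ : Nonempty (Fin 6 ≃ E) := ⟨(Finset.equivFinOfCardEq hE).symm⟩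
  have hinj : ∀ σ : Equiv.Perm E, Function.Injective (fun i => ((σ (f i) : E) : GolayPt)) :=
    fun σ a b h => f.injective (σ.injective (Subtype.ext h))
  have him : ∀ σ : Equiv.Perm E, Finset.univ.image (fun i => ((σ (f i) : E) : GolayPt)) = E := by
    intro σ
    ext p
    simp only [Finset.mem_image, Finset.mem_univ, true_and]
    exact ⟨fun ⟨i, hi⟩ => hi ▸ (σ (f i)).2, fun hp => ⟨f.symm (σ.symm ⟨p, hp⟩), by simp⟩⟩
  obtain ⟨b, g₀, hg₀, h₀⟩ := Local.exists_six _ (hinj 1)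
  have hb : (∃ o ∈ octads, E ⊆ o) ↔ b = true := him 1 ▸ Local.six_type hg₀ h₀
  have hfull : ∀ σ : Equiv.Perm E, ∃ g ∈ M24, ∀ p : E, g p = σ p := by
    intro σ
    obtain ⟨b', g₁, hg₁, h₁⟩ := Local.exists_six _ (hinj σ)
    have hb' : (∃ o ∈ octads, E ⊆ o) ↔ b' = true := him σ ▸ Local.six_type hg₁ h₁
    have hbb : b' = b := Bool.eq_iff_iff.2 (hb'.symm.trans hb)
    subst hbb
    refine ⟨g₁ * g₀⁻¹, mul_mem hg₁ (inv_mem hg₀), fun p => ?_⟩
    have e : g₀⁻¹ (p : GolayPt) = Local.six b' (f.symm p) := by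
      rw [Equiv.Perm.inv_eq_iff_eq]; simpa using (h₀ (f.symm p)).symm
    rw [Equiv.Perm.mul_apply, e, h₁]
    simp
  have hfix : Nat.card {g : Equiv.Perm GolayPt // g ∈ M24 ∧ ∀ p ∈ E, g p = p} = bif b then 16 else 3 := by
    have := Local.card_fix_of_six hg₀ h₀
    rwa [him 1] at this
  refine ⟨hfull, fun h => by rw [hfix, hb.1 h]; rfl, fun h => ?_⟩
  have hb0 : b = false := Bool.eq_false_iff.2 fun hh => h (hb.2 hh)
  refine ⟨by rw [hfix, hb0]; rfl, ?_⟩
  have hmem : ∀ (g : MulAction.stabilizer M24 E) (p : GolayPt), ((g : M24) : Equiv.Perm GolayPt) p ∈ E ↔ p ∈ E := by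
    intro g p
    have hg : ((g : M24) : Equiv.Perm GolayPt) • E = E := g.2
    have h' := Finset.smul_mem_smul_finset_iff (s := E) (b := p) ((g : M24) : Equiv.Perm GolayPt)
    rwa [hg, Equiv.Perm.smul_def] at h'
  let φ : MulAction.stabilizer M24 E →* Equiv.Perm E :=
    { toFun := fun g => ((g : M24) : Equiv.Perm GolayPt).subtypePerm (hmem g)
      map_one' := Equiv.ext fun p => rfl
      map_mul' := fun a b => Equiv.ext fun p => rfl }
  have hrange : φ.range = ⊤ := by
    rw [MonoidHom.range_eq_top]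
    intro σ
    obtain ⟨g, hg, hgσ⟩ := hfull σ
    have hst : (⟨g, hg⟩ : M24) ∈ MulAction.stabilizer M24 E := by
      rw [MulAction.mem_stabilizer_iff]
      show g • E = E
      refine Finset.eq_of_subset_of_card_le (fun q hq => ?_) (by rw [Finset.card_smul_finset])
      obtain ⟨p, hp, rfl⟩ := Finset.mem_smul_finset.1 hq
      rw [Equiv.Perm.smul_def, hgσ ⟨p, hp⟩]
      exact (σ ⟨p, hp⟩).2
    exact ⟨⟨_, hst⟩, Equiv.ext fun p => Subtype.ext (hgσ p)⟩
  have hker : Nat.card φ.ker = 3 := by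
    rw [← show Nat.card {g : Equiv.Perm GolayPt // g ∈ M24 ∧ ∀ p ∈ E, g p = p} = 3 by rw [hfix, hb0]; rfl]
    refine Nat.card_congr
      { toFun := fun g => ⟨((g.1 : M24) : Equiv.Perm GolayPt), (g.1 : M24).2, fun p hp =>
          (congrArg Subtype.val (DFunLike.congr_fun (MonoidHom.mem_ker.1 g.2) (⟨p, hp⟩ : E)) : _)⟩
        invFun := fun g => ⟨⟨⟨g.1, g.2.1⟩, ?_⟩, ?_⟩
        left_inv := fun g => rfl
        right_inv := fun g => rfl }
    · rw [MulAction.mem_stabilizer_iff]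
      show g.1 • E = E
      refine Finset.eq_of_subset_of_card_le (fun q hq => ?_) (by rw [Finset.card_smul_finset])
      obtain ⟨p, hp, rfl⟩ := Finset.mem_smul_finset.1 hq
      rw [Equiv.Perm.smul_def, g.2.2 p hp]
      exact hp
    · exact MonoidHom.mem_ker.2 (Equiv.ext fun p => Subtype.ext (g.2.2 p p.2))
  rw [← φ.ker.card_mul_index, hker, Subgroup.index_ker, hrange, Subgroup.card_top, Nat.card_perm,
    Nat.card_eq_fintype_card, Fintype.card_coe, hE]
  rfl

end Cfsg.Agent.S5600
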