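import Cfsg.Statements.S5601
import Cfsg.Agent.Lib.Golay.Local.FixCounts

set_option autoImplicit false
open scoped Pointwise
open Cfsg

namespace Cfsg.Agent.S5601

open Cfsg.Agent.Golay Cfsg.Agent.Golay.Local Cfsg.Agent.PermCert


/-- The group of the length-24 code has exactly two conjugacy classes of subgroups of order 3: a subgroup of order 3 fixes either exactly 6 of the 24 points or none of them, both cases occur, and two subgroups of order 3 with the same number of fixed points are conjugate. -/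
theorem result : (∀ X : Subgroup ↥Cfsg.M24, Nat.card X = 3 → {p : Cfsg.GolayPt | ∀ x ∈ X, ((x : ↥Cfsg.M24) : Equiv.Perm Cfsg.GolayPt) p = p}.ncard = 6 ∨ {p : Cfsg.GolayPt | ∀ x ∈ X, ((x : ↥Cfsg.M24) : Equiv.Perm Cfsg.GolayPt) p = p}.ncard = 0) ∧ (∃ X : Subgroup ↥Cfsg.M24, Nat.card X = 3 ∧ {p : Cfsg.GolayPt | ∀ x ∈ X, ((x : ↥Cfsg.M24) : Equiv.Perm Cfsg.GolayPt) p = p}.ncard = 6) ∧ (∃ X : Subgroup ↥Cfsg.M24, Nat.card X = 3 ∧ {p : Cfsg.GolayPt | ∀ x ∈ X, ((x : ↥Cfsg.M24) : Equiv.Perm Cfsg.GolayPt) p = p}.ncard = 0) ∧ ∀ X Y : Subgroup ↥Cfsg.M24, Nat.card X = 3 → Nat.card Y = 3 → {p : Cfsg.GolayPt | ∀ x ∈ X, ((x : ↥Cfsg.M24) : Equiv.Perm Cfsg.GolayPt) p = p}.ncard = {p : Cfsg.GolayPt | ∀ x ∈ Y, ((x : ↥Cfsg.M24) : Equiv.Perm Cfsg.GolayPt) p = p}.ncard → ∃ k : ↥Cfsg.M24, MulAut.conj k • X = Y := by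
  haveI : Fact (Nat.Prime 3) := ⟨Nat.prime_three⟩
  have gen : ∀ X : Subgroup ↥Cfsg.M24, Nat.card X = 3 → ∃ x : ↥Cfsg.M24, orderOf (x : Equiv.Perm Cfsg.GolayPt) = 3 ∧
      X = Subgroup.zpowers x ∧ {p : Cfsg.GolayPt | ∀ y ∈ X, ((y : ↥Cfsg.M24) : Equiv.Perm Cfsg.GolayPt) p = p} =
        ↑(Finset.univ.filter fun p => (x : Equiv.Perm Cfsg.GolayPt) p = p) := by
    intro X hX
    obtain ⟨⟨x, hx⟩, hx1⟩ : ∃ x : X, x ≠ 1 := by
      haveI : Nontrivial X := Finite.one_lt_card_iff_nontrivial.1 (by omega)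
      exact exists_ne 1
    have ho : orderOf x = 3 := by
      have := orderOf_dvd_natCard (⟨x, hx⟩ : X)
      rw [hX, Subgroup.orderOf_mk] at this
      exact ((Nat.dvd_prime Nat.prime_three).1 this).resolve_left fun h => hx1 (Subtype.ext (orderOf_eq_one_iff.1 h))
    have he : X = Subgroup.zpowers x := by
      refine (Subgroup.eq_of_le_of_card_ge ((Subgroup.zpowers_le).2 hx) ?_).symm
      rw [hX, Nat.card_zpowers, ho]
    refine ⟨x, by rw [Subgroup.orderOf_coe, ho], he, ?_⟩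
    ext p
    simp only [Set.mem_ofPred_eq, Finset.coe_filter, Finset.mem_univ, true_and]
    refine ⟨fun h => h x hx, fun h y hy => ?_⟩
    rw [he] at hy
    obtain ⟨n, rfl⟩ := hy
    have hs : (x : Equiv.Perm Cfsg.GolayPt) ∈ MulAction.stabilizer (Equiv.Perm Cfsg.GolayPt) p := h
    exact (MulAction.stabilizer (Equiv.Perm Cfsg.GolayPt) p).zpow_mem hs n
  have cnt : ∀ X : Subgroup ↥Cfsg.M24, Nat.card X = 3 →
      ∃ x : ↥Cfsg.M24, ∃ k ∈ Cfsg.M24, X = Subgroup.zpowers x ∧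
        (((x : Equiv.Perm Cfsg.GolayPt) = k * R3A * k⁻¹ ∧
            {p : Cfsg.GolayPt | ∀ y ∈ X, ((y : ↥Cfsg.M24) : Equiv.Perm Cfsg.GolayPt) p = p}.ncard = 6) ∨
          ((x : Equiv.Perm Cfsg.GolayPt) = k * R3B * k⁻¹ ∧
            {p : Cfsg.GolayPt | ∀ y ∈ X, ((y : ↥Cfsg.M24) : Equiv.Perm Cfsg.GolayPt) p = p}.ncard = 0)) := by
    intro X hX
    obtain ⟨x, ho, he, hfix⟩ := gen X hX
    obtain ⟨k, hk, h | h⟩ := class3 x.2 ho
    · refine ⟨x, k, hk, he, Or.inl ⟨h, ?_⟩⟩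
      rw [hfix, Set.ncard_coe_finset, h, conj_fixed_card, facts.2.2.1.2.2]
    · refine ⟨x, k, hk, he, Or.inr ⟨h, ?_⟩⟩
      rw [hfix, Set.ncard_coe_finset, h, conj_fixed_card, card_fixed_of_free facts.2.2.2.2.2]
  refine ⟨fun X hX => ?_, ?_, ?_, fun X Y hX hY hXY => ?_⟩
  · obtain ⟨x, k, hk, -, ⟨-, h⟩ | ⟨-, h⟩⟩ := cnt X hX
    exacts [Or.inl h, Or.inr h]
  · have hc : Nat.card (Subgroup.zpowers (⟨R3A, reps_spec.2.2.1.2⟩ : ↥Cfsg.M24)) = 3 := by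
      rw [Nat.card_zpowers, Subgroup.orderOf_mk, orderOf_R3A]
    refine ⟨_, hc, ?_⟩
    obtain ⟨x, k, hk, he, ⟨-, h⟩ | ⟨hB, h⟩⟩ := cnt _ hc
    · exact h
    · exfalso
      have hmem : (⟨R3A, reps_spec.2.2.1.2⟩ : ↥Cfsg.M24) ∈ Subgroup.zpowers x := he ▸ Subgroup.mem_zpowers _
      have h0 : (Finset.univ.filter fun p => R3A p = p).card = 0 := by
        rw [← Set.ncard_coe_finset, ← Nat.le_zero, ← h]
        refine Set.ncard_le_ncard (fun p hp => ?_) (Set.toFinite _)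
        intro y hy
        obtain ⟨n, rfl⟩ := hy
        have hs : R3A ∈ MulAction.stabilizer (Equiv.Perm Cfsg.GolayPt) p :=
          (Finset.mem_filter.1 (Finset.mem_coe.1 hp)).2
        exact (MulAction.stabilizer (Equiv.Perm Cfsg.GolayPt) p).zpow_mem hs n
      rw [facts.2.2.1.2.2] at h0
      simp at h0
  · have hc : Nat.card (Subgroup.zpowers (⟨R3B, reps_spec.2.2.2.1.2⟩ : ↥Cfsg.M24)) = 3 := by
      rw [Nat.card_zpowers, Subgroup.orderOf_mk, orderOf_R3B]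
    refine ⟨_, hc, ?_⟩
    rw [Set.ncard_eq_zero, Set.eq_empty_iff_forall_notMem]
    exact fun p hp => facts.2.2.2.2.2 p (hp _ (Subgroup.mem_zpowers _))
  · obtain ⟨x, k, hk, rfl, hA⟩ := cnt X hX
    obtain ⟨y, l, hl, rfl, hB⟩ := cnt Y hY
    refine ⟨⟨l * k⁻¹, mul_mem hl (inv_mem hk)⟩, ?_⟩
    have key : (MulAut.conj (⟨l * k⁻¹, mul_mem hl (inv_mem hk)⟩ : ↥Cfsg.M24)) x = y := by
      apply Subtype.ext
      show l * k⁻¹ * (x : Equiv.Perm Cfsg.GolayPt) * (l * k⁻¹)⁻¹ = y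
      rcases hA with ⟨hx, h6⟩ | ⟨hx, h6⟩ <;> rcases hB with ⟨hy, h6'⟩ | ⟨hy, h6'⟩ <;>
        first | (omega) | (rw [hx, hy]; group)
    rw [← key]
    exact MonoidHom.map_zpowers _ _

end Cfsg.Agent.S5601
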