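import Cfsg.Statements.S5604
import Cfsg.Agent.Lib.Golay.Local.Seven
import Cfsg.Agent.Lib.Golay.Local.Moving

set_option autoImplicit false
open scoped Pointwise
open Cfsg

namespace Cfsg.Agent.S5604
open Cfsg.Agent Cfsg.Agent.Golay Cfsg.Agent.PermCert Cfsg.Agent.Golay.Cert

/-- For a subgroup S of order 7 of the group of the length-24 code (a Sylow 7-subgroup): the normaliser of S has order 126, the centraliser of S has order 42 and is non-abelian, and the whole normaliser leaves some trio invariant. (These are the orders of a Frobenius group of order 21 times a symmetric group of degree 3; the isomorphism type itself is not asserted here.) -/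
theorem result (S : Subgroup ↥Cfsg.M24) (hS : Nat.card S = 7) : Nat.card ↥(Subgroup.normalizer (S : Set ↥Cfsg.M24)) = 126 ∧ Nat.card ↥(Subgroup.centralizer (S : Set ↥Cfsg.M24)) = 42 ∧ (∃ x ∈ Subgroup.centralizer (S : Set ↥Cfsg.M24), ∃ y ∈ Subgroup.centralizer (S : Set ↥Cfsg.M24), x * y ≠ y * x) ∧ ∃ T ∈ Cfsg.trios, ∀ n ∈ Subgroup.normalizer (S : Set ↥Cfsg.M24), ((n : ↥Cfsg.M24) : Equiv.Perm Cfsg.GolayPt) • T = T := by
  classical
  obtain ⟨g, s, hs, hgen, hgs⟩ := Golay.Local.exists_conj_seven hS
  obtain ⟨hv, hd, hlen, hall, hT, hcen, -, -, ⟨haM, ha⟩, ⟨hbM, hb⟩, hab⟩ := Golay.Local.norm7_facts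
  set N := Golay.Local.norm7.map permOf with hN
  have hnd : N.Nodup := Golay.Local.distinctCodes_spec hv hd
  let φ : M24 → Equiv.Perm GolayPt := fun n => ((g * n * g⁻¹ : M24) : Equiv.Perm GolayPt)
  have hφ : Function.Injective φ := fun a b h => by
    have := Subtype.ext h (a1 := g * a * g⁻¹) (a2 := g * b * g⁻¹)
    simpa using this
  have hnorm : φ '' (Subgroup.normalizer (S : Set M24) : Set M24) = ↑N.toFinset := by
    ext σ
    simp only [Set.mem_image, SetLike.mem_coe, List.coe_toFinset, Set.mem_ofPred_eq, hN, List.mem_map]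
    constructor
    · rintro ⟨n, hn, rfl⟩
      exact (Golay.Local.normalizer_seven g hgen hgs n).1 hn
    · rintro ⟨e, he, rfl⟩
      have hM := (Golay.Local.eltOK_spec (Golay.Local.allF_iff.1 hv e he)).2
      refine ⟨g⁻¹ * ⟨_, hM⟩ * g, (Golay.Local.normalizer_seven g hgen hgs _).2 ⟨e, he, ?_⟩, ?_⟩
      · simp [mul_assoc]
      · simp [φ, mul_assoc]
  have hcent : ∀ n : M24, n ∈ Subgroup.centralizer (S : Set M24) ↔ φ n * Golay.Local.R7 = Golay.Local.R7 * φ n := by
    intro n
    rw [hgen, Subgroup.zpowers_eq_closure, Subgroup.centralizer_closure,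
      Subgroup.mem_centralizer_singleton_iff, ← hgs]
    simp only [φ, Subgroup.coe_mul, Subgroup.coe_inv]
    constructor
    · intro h
      have := congrArg Subtype.val h
      simp only [Subgroup.coe_mul] at this
      simp only [mul_assoc, inv_mul_cancel_left]
      rw [← mul_assoc (n : Equiv.Perm GolayPt), this, mul_assoc]
    · intro h
      refine Subtype.ext ?_
      simp only [mul_assoc, inv_mul_cancel_left, mul_right_inj] at h
      rw [← mul_assoc, ← mul_assoc, mul_left_inj] at h
      exact h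
  set C := (Golay.Local.norm7.filter fun e => Golay.Local.sameF (Golay.Local.cmpF e.1 Golay.Local.rep7.1)
      (Golay.Local.cmpF Golay.Local.rep7.1 e.1)).map permOf with hC
  have hcentim : φ '' (Subgroup.centralizer (S : Set M24) : Set M24) = ↑C.toFinset := by
    ext σ
    simp only [Set.mem_image, SetLike.mem_coe, List.coe_toFinset, Set.mem_ofPred_eq, hC, List.mem_map,
      List.mem_filter]
    constructor
    · rintro ⟨n, hn, rfl⟩
      have hn' : n ∈ Subgroup.normalizer (S : Set M24) := Subgroup.centralizer_le_normalizer _ hn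
      obtain ⟨e, he, hee⟩ := (Golay.Local.normalizer_seven g hgen hgs n).1 hn'
      refine ⟨e, ⟨he, ?_⟩, hee⟩
      have hec := Golay.Local.code_permOf (Golay.Local.eltOK_spec (Golay.Local.allF_iff.1 hv e he)).1
      rw [Golay.Local.sameF_iff (hec.cmp Golay.Local.code_R7) (Golay.Local.code_R7.cmp hec), hee]
      exact (hcent n).1 hn
    · rintro ⟨e, ⟨he, hee⟩, rfl⟩
      have hM := (Golay.Local.eltOK_spec (Golay.Local.allF_iff.1 hv e he)).2
      have hec := Golay.Local.code_permOf (Golay.Local.eltOK_spec (Golay.Local.allF_iff.1 hv e he)).1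
      let m : M24 := ⟨permOf e, hM⟩
      have hφe : φ (g⁻¹ * m * g) = permOf e := by simp [φ, m, mul_assoc]
      have key : φ (g⁻¹ * m * g) * Golay.Local.R7 = Golay.Local.R7 * φ (g⁻¹ * m * g) := by
        rw [hφe]
        exact (Golay.Local.sameF_iff (hec.cmp Golay.Local.code_R7) (Golay.Local.code_R7.cmp hec)).1 hee
      exact ⟨g⁻¹ * m * g, (hcent _).2 key, hφe⟩
  refine ⟨?_, ?_, ?_, (g⁻¹ : M24) • Golay.Local.famSet Golay.Local.trio7, ?_, ?_⟩
  · rw [← SetLike.coe_sort_coe, Nat.card_coe_set_eq, ← Set.ncard_image_of_injective _ hφ, hnorm,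
      Set.ncard_coe_finset, List.toFinset_card_of_nodup hnd, hN, List.length_map, hlen]
  · rw [← SetLike.coe_sort_coe, Nat.card_coe_set_eq, ← Set.ncard_image_of_injective _ hφ, hcentim,
      Set.ncard_coe_finset, List.toFinset_card_of_nodup (hnd.sublist
        ((List.filter_sublist).map permOf)), List.length_map, hcen]
  · refine ⟨g⁻¹ * ⟨_, haM⟩ * g, (hcent _).2 (by simpa [φ, mul_assoc] using ha),
      g⁻¹ * ⟨_, hbM⟩ * g, (hcent _).2 (by simpa [φ, mul_assoc] using hb), fun h => hab ?_⟩
    have := congrArg φ h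
    simpa [φ, mul_assoc] using this
  · exact Golay.Local.smul_mem_trios (g⁻¹).2 hT
  · intro n hn
    obtain ⟨e, he, hee⟩ := (Golay.Local.normalizer_seven g hgen hgs n).1 hn
    have := (hall e he).2
    rw [hee] at this
    have h2 := congrArg (((g⁻¹ : M24) : Equiv.Perm GolayPt) • ·) this
    simp only [Subgroup.coe_mul, Subgroup.coe_inv, mul_smul, inv_smul_smul] at h2
    simpa [Subgroup.smul_def] using h2

end Cfsg.Agent.S5604
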