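import Cfsg.Statements.S5607
import Cfsg.Agent.Lib.Golay.Local.Cents
import Cfsg.Agent.Lib.Golay.Local.Moving

set_option autoImplicit false
open scoped Pointwise
open Cfsg

namespace Cfsg.Agent.S5607
open Cfsg.Agent.Golay

/-- For a fixed-point-free involution t of the group of the length-24 code: its centraliser in that group has order 7680, is transitive on the 24 points, and is contained, together with t, in the stabiliser of some sextet. -/
theorem result (t : Equiv.Perm Cfsg.GolayPt) (ht : t ∈ Cfsg.M24) (h₂ : orderOf t = 2) (h₀ : ∀ p, t p ≠ p) : Nat.card {c : Equiv.Perm Cfsg.GolayPt // c ∈ Cfsg.M24 ∧ c * t = t * c} = 7680 ∧ (∀ p q : Cfsg.GolayPt, ∃ c ∈ Cfsg.M24, c * t = t * c ∧ c p = q) ∧ ∃ S ∈ Cfsg.sextets, t • S = S ∧ ∀ c ∈ Cfsg.M24, c * t = t * c → c • S = S := by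
  obtain ⟨k, hk, rfl⟩ := Golay.Local.class2B ht h₂ (Golay.Local.card_fixed_of_free h₀)
  have hiff : ∀ c : Equiv.Perm GolayPt, (c ∈ M24 ∧ c * (k * Golay.Local.R2B * k⁻¹) = k * Golay.Local.R2B * k⁻¹ * c) ↔
      k⁻¹ * c * k ∈ Golay.Local.C2B := by
    intro c
    rw [Golay.Local.mem_C2B_iff]
    constructor
    · rintro ⟨hc, h⟩
      refine ⟨mul_mem (mul_mem (inv_mem hk) hc) hk, ?_⟩
      have := congrArg (fun z => k⁻¹ * z * k) h
      simpa [mul_assoc] using this
    · rintro ⟨hc, h⟩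
      refine ⟨by simpa [mul_assoc] using mul_mem (mul_mem hk hc) (inv_mem hk), ?_⟩
      have := congrArg (fun z => k * z * k⁻¹) h
      simpa [mul_assoc] using this
  refine ⟨?_, ?_, ?_⟩
  · rw [← Golay.Local.card_C2B]
    exact Nat.card_congr
      { toFun := fun c => ⟨k⁻¹ * c * k, (hiff c).1 c.2⟩
        invFun := fun c => ⟨k * c * k⁻¹, (hiff _).2 (by simpa [mul_assoc] using c.2)⟩
        left_inv := fun c => Subtype.ext (by simp [mul_assoc])
        right_inv := fun c => Subtype.ext (by simp [mul_assoc]) }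
  · intro p q
    obtain ⟨a, ha, hap⟩ := Golay.Local.C2B_transitive (k⁻¹ p)
    obtain ⟨b, hb, hbq⟩ := Golay.Local.C2B_transitive (k⁻¹ q)
    have hm : k * (b * a⁻¹) * k⁻¹ ∈ M24 ∧ _ :=
      (hiff _).2 (by simpa [mul_assoc] using mul_mem hb (inv_mem ha))
    refine ⟨k * (b * a⁻¹) * k⁻¹, hm.1, hm.2, ?_⟩
    have : a⁻¹ (k⁻¹ p) = none := by rw [← hap]; simp
    simp only [Equiv.Perm.mul_apply, this, hbq]
    simp
  · refine ⟨k • Golay.Local.famSet Golay.Local.cen2BSext,
      Golay.Local.smul_mem_sextets hk Golay.Local.cen2B_facts.2.2.2.2.2.2, ?_, fun c hc hcomm => ?_⟩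
    · rw [mul_smul, mul_smul, inv_smul_smul, Golay.Local.cen2B_facts.2.2.2.2.2.1]
    · have h := (Golay.Local.mem_C2B_imp ((hiff c).1 ⟨hc, hcomm⟩)).2.2
      have h' := congrArg (k • ·) h
      simp only [mul_smul, smul_inv_smul] at h'
      exact h'

end Cfsg.Agent.S5607
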