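import Cfsg.Statements.S5608
import Cfsg.Agent.Lib.Golay.Local.Cents

set_option autoImplicit false
open scoped Pointwise
open Cfsg

namespace Cfsg.Agent.S5608
open Cfsg.Agent

/-- If an element of order 3 and an involution of the group of the length-24 code commute, then either the element of order 3 has exactly 6 fixed points and the involution exactly 8, or both are fixed-point-free. -/
theorem result (x s : Equiv.Perm Cfsg.GolayPt) (hx : x ∈ Cfsg.M24) (hs : s ∈ Cfsg.M24) (h₃ : orderOf x = 3) (h₂ : orderOf s = 2) (hc : Commute x s) : ((Finset.univ.filter fun p => x p = p).card = 6 ∧ (Finset.univ.filter fun p => s p = p).card = 8) ∨ ((Finset.univ.filter fun p => x p = p).card = 0 ∧ (Finset.univ.filter fun p => s p = p).card = 0) := by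
  haveI : Fact (Nat.Prime 3) := ⟨Nat.prime_three⟩
  have hb := Golay.Local.chains_bases
  simp only [Bool.and_eq_true] at hb
  have key : ∀ k ∈ M24, ∀ X : Equiv.Perm GolayPt, x = k * X * k⁻¹ →
      (k⁻¹ * s * k ∈ M24 ∧ k⁻¹ * s * k * X = X * (k⁻¹ * s * k) ∧ orderOf (k⁻¹ * s * k) = 2) ∧
      (Finset.univ.filter fun p => s p = p).card = (Finset.univ.filter fun p => (k⁻¹ * s * k) p = p).card := by
    intro k hk X hX
    refine ⟨⟨mul_mem (mul_mem (inv_mem hk) hs) hk, ?_, ?_⟩, ?_⟩
    · have := congrArg (fun z => k⁻¹ * z * k) hc.eq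
      subst hX
      simpa [mul_assoc] using this.symm
    · rw [← h₂]
      exact (SemiconjBy.orderOf_eq k (x := k⁻¹ * s * k) (y := s) (by simp [SemiconjBy, mul_assoc]))
    · rw [← Golay.Local.conj_fixed_card k (k⁻¹ * s * k)]
      simp [mul_assoc]
  obtain ⟨k, hk, hX | hX⟩ := Golay.Local.class3 hx h₃
  · obtain ⟨⟨h1, h2, h3⟩, h4⟩ := key k hk _ hX
    refine Or.inl ⟨by rw [hX, Golay.Local.conj_fixed_card, Golay.Local.facts.2.2.1.2.2], ?_⟩
    rw [h4]
    exact Golay.Local.inv_commuting Golay.Local.code_R3A Golay.Local.chains_gens.2.1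
      Golay.Local.threeAChain_cert hb.1.2 Golay.Local.inv3A_search h1 h2 h3
  · obtain ⟨⟨h1, h2, h3⟩, h4⟩ := key k hk _ hX
    refine Or.inr ⟨by rw [hX, Golay.Local.conj_fixed_card,
      Golay.Local.card_fixed_of_free Golay.Local.facts.2.2.2.2.2], ?_⟩
    rw [h4]
    exact Golay.Local.inv_commuting Golay.Local.code_R3B Golay.Local.chains_gens.2.2
      Golay.Local.threeBChain_cert hb.2 Golay.Local.inv3B_search h1 h2 h3

end Cfsg.Agent.S5608
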