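import Cfsg.Statements.S5609
import Cfsg.Agent.Lib.Golay.Local.OctGraph

set_option autoImplicit false
open scoped Pointwise
open Cfsg

namespace Cfsg.Agent.S5609
open Cfsg.Agent Cfsg.Agent.Golay

/-- In the graph on the 759 octads of the length-24 code in which two octads are adjacent when they are disjoint, the graph is connected (of diameter 3) and two distinct octads are at distance 1, 2 or 3 exactly when they meet in 0, 4 or 2 points respectively. -/
theorem result (o o' : Finset Cfsg.GolayPt) (ho : o ∈ Cfsg.octads) (ho' : o' ∈ Cfsg.octads) (hne : o ≠ o') : (Cfsg.blockGraph Cfsg.octads).Connected ∧ ((Cfsg.blockGraph Cfsg.octads).dist ⟨o, ho⟩ ⟨o', ho'⟩ = 1 ↔ (o ∩ o').card = 0) ∧ ((Cfsg.blockGraph Cfsg.octads).dist ⟨o, ho⟩ ⟨o', ho'⟩ = 2 ↔ (o ∩ o').card = 4) ∧ ((Cfsg.blockGraph Cfsg.octads).dist ⟨o, ho⟩ ⟨o', ho'⟩ = 3 ↔ (o ∩ o').card = 2) := by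
  classical
  set G := Cfsg.blockGraph Cfsg.octads with hG
  have hadj : ∀ a b : octads, G.Adj a b ↔ ((a : Finset GolayPt) ∩ b).card = 0 := by
    intro a b
    rw [hG, blockGraph, SimpleGraph.fromRel_adj, Finset.card_eq_zero, ← Finset.disjoint_iff_inter_eq_empty]
    constructor
    · rintro ⟨-, h | h⟩
      exacts [h, h.symm]
    · intro h
      refine ⟨fun e => ?_, Or.inl h⟩
      subst e
      have h8 := card_octad a.2
      rw [disjoint_self.1 h] at h8
      simp at h8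
  have hwalk : ∀ a b : octads, ((a : Finset GolayPt) ∩ b).card = 4 → ∃ p : G.Walk a b, p.length = 2 := by
    intro a b h
    rcases Local.octad_pair a.2 b.2 with h' | h' | ⟨-, n, hn, h1, h2⟩ | h'
    · omega
    · omega
    · exact ⟨.cons ((hadj a ⟨n, hn⟩).2 (by rw [Finset.disjoint_iff_inter_eq_empty.1 h1]; rfl))
        (.cons ((hadj ⟨n, hn⟩ b).2 (by rw [Finset.disjoint_iff_inter_eq_empty.1 h2]; rfl)) .nil), rfl⟩
    · omega
  have hwalk2 : ∀ a b : octads, ((a : Finset GolayPt) ∩ b).card = 2 → ∃ p : G.Walk a b, p.length = 3 := by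
    intro a b h
    rcases Local.octad_pair a.2 b.2 with h' | h' | h' | ⟨-, -, n, hn, h1, h2⟩
    · omega
    · omega
    · omega
    · obtain ⟨p, hp⟩ := hwalk ⟨n, hn⟩ b h2
      exact ⟨.cons ((hadj a ⟨n, hn⟩).2 (by rw [Finset.disjoint_iff_inter_eq_empty.1 h1]; rfl)) p,
        by simp [hp]⟩
  have hdist : ∀ a b : octads, a ≠ b → G.Reachable a b ∧
      ((((a : Finset GolayPt) ∩ b).card = 0 ∧ G.dist a b = 1) ∨
       (((a : Finset GolayPt) ∩ b).card = 4 ∧ G.dist a b = 2) ∨
       (((a : Finset GolayPt) ∩ b).card = 2 ∧ G.dist a b = 3)) := by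
    intro a b hab
    rcases Local.octad_pair a.2 b.2 with ⟨-, h⟩ | h | ⟨h, -⟩ | ⟨h, hno, -⟩
    · exact absurd (Subtype.ext h) hab
    · have ha := (hadj a b).2 h
      exact ⟨ha.reachable, Or.inl ⟨h, SimpleGraph.dist_eq_one_iff_adj.2 ha⟩⟩
    · obtain ⟨p, hp⟩ := hwalk a b h
      have h1 : G.dist a b ≠ 1 := fun e => by
        rw [SimpleGraph.dist_eq_one_iff_adj, hadj, h] at e; omega
      have h0 : G.dist a b ≠ 0 := fun e => hab (p.reachable.dist_eq_zero_iff.1 e)
      have := SimpleGraph.dist_le p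
      exact ⟨p.reachable, Or.inr (Or.inl ⟨h, by omega⟩)⟩
    · obtain ⟨p, hp⟩ := hwalk2 a b h
      have h1 : G.dist a b ≠ 1 := fun e => by
        rw [SimpleGraph.dist_eq_one_iff_adj, hadj, h] at e; omega
      have h0 : G.dist a b ≠ 0 := fun e => hab (p.reachable.dist_eq_zero_iff.1 e)
      have h2 : G.dist a b ≠ 2 := fun e => by
        obtain ⟨q, hq⟩ := p.reachable.exists_walk_length_eq_dist
        rw [e] at hq
        match q, hq with
        | .cons (v := c) hac (.cons hcb .nil), _ =>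
          exact hno c c.2 ⟨Finset.disjoint_iff_inter_eq_empty.2 (Finset.card_eq_zero.1 ((hadj a c).1 hac)),
            Finset.disjoint_iff_inter_eq_empty.2 (Finset.card_eq_zero.1 ((hadj c b).1 hcb))⟩
      have := SimpleGraph.dist_le p
      exact ⟨p.reachable, Or.inr (Or.inr ⟨h, by omega⟩)⟩
  have hne' : (⟨o, ho⟩ : octads) ≠ ⟨o', ho'⟩ := fun e => hne (congrArg Subtype.val e)
  obtain ⟨-, h⟩ := hdist ⟨o, ho⟩ ⟨o', ho'⟩ hne'
  simp only at h
  haveI : Nonempty octads := ⟨⟨o, ho⟩⟩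
  refine ⟨⟨fun a b => ?_⟩, ?_, ?_, ?_⟩
  · rcases eq_or_ne a b with rfl | hab
    · exact SimpleGraph.Reachable.refl a
    · exact (hdist a b hab).1
  all_goals omega

end Cfsg.Agent.S5609
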