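import Cfsg.Statements.S5610
import Cfsg.Agent.Lib.Golay.Local.StdObjects

set_option autoImplicit false
open scoped Pointwise
open Cfsg

namespace Cfsg.Agent.S5610

open Cfsg.Agent.Golay Cfsg.Agent.Golay.Local


/-- The stabiliser of an octad in the group of the length-24 code has exactly three orbits on the 3795 trios, of sizes 15, 420 and 3360, and exactly three orbits on the 1771 sextets, of sizes 35, 840 and 896. -/
theorem result (o : Finset Cfsg.GolayPt) (ho : o ∈ Cfsg.octads) : (∃ X₁ ∈ Cfsg.trios, ∃ X₂ ∈ Cfsg.trios, ∃ X₃ ∈ Cfsg.trios, (MulAction.orbit ↥(MulAction.stabilizer Cfsg.M24 o) X₁).ncard = 15 ∧ (MulAction.orbit ↥(MulAction.stabilizer Cfsg.M24 o) X₂).ncard = 420 ∧ (MulAction.orbit ↥(MulAction.stabilizer Cfsg.M24 o) X₃).ncard = 3360 ∧ Cfsg.trios = MulAction.orbit ↥(MulAction.stabilizer Cfsg.M24 o) X₁ ∪ MulAction.orbit ↥(MulAction.stabilizer Cfsg.M24 o) X₂ ∪ MulAction.orbit ↥(MulAction.stabilizer Cfsg.M24 o)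 X₃) ∧ (∃ Y₁ ∈ Cfsg.sextets, ∃ Y₂ ∈ Cfsg.sextets, ∃ Y₃ ∈ Cfsg.sextets, (MulAction.orbit ↥(MulAction.stabilizer Cfsg.M24 o) Y₁).ncard = 35 ∧ (MulAction.orbit ↥(MulAction.stabilizer Cfsg.M24 o) Y₂).ncard = 840 ∧ (MulAction.orbit ↥(MulAction.stabilizer Cfsg.M24 o) Y₃).ncard = 896 ∧ Cfsg.sextets = MulAction.orbit ↥(MulAction.stabilizer Cfsg.M24 o) Y₁ ∪ MulAction.orbit ↥(MulAction.stabilizer Cfsg.M24 o) Y₂ ∪ MulAction.orbit ↥(MulAction.stabilizer Cfsg.M24 o) Y₃) := by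
  obtain ⟨g, rfl⟩ := exists_smul_octad stdOct_mem ho
  have cTri0 := (isClass_of_spec triUniv octRef_ok octTri0Root_ok octGens_ok octTri0_ok
    stab_stdOct).move g
  have cTri1 := (isClass_of_spec triUniv octRef_ok octTri1Root_ok octGens_ok octTri1_ok
    stab_stdOct).move g
  have cTri2 := (isClass_of_spec triUniv octRef_ok octTri2Root_ok octGens_ok octTri2_ok
    stab_stdOct).move g
  have cSex0 := (isClass_of_spec sexUniv octRef_ok octSex0Root_ok octGens_ok octSex0_ok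
    stab_stdOct).move g
  have cSex1 := (isClass_of_spec sexUniv octRef_ok octSex1Root_ok octGens_ok octSex1_ok
    stab_stdOct).move g
  have cSex2 := (isClass_of_spec sexUniv octRef_ok octSex2Root_ok octGens_ok octSex2_ok
    stab_stdOct).move g
  exact ⟨⟨_, cTri0.1, _, cTri1.1, _, cTri2.1, cTri0.2.2, cTri1.2.2, cTri2.2.2, IsClass.cover₃ cTri0 cTri1 cTri2 (values_move triUniv g (fun Y hY => values_spec triUniv octRef_ok octTri_values hY))⟩,
    ⟨_, cSex0.1, _, cSex1.1, _, cSex2.1, cSex0.2.2, cSex1.2.2, cSex2.2.2, IsClass.cover₃ cSex0 cSex1 cSex2 (values_move sexUniv g (fun Y hY => values_spec sexUniv octRef_ok octSex_values hY))⟩⟩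

end Cfsg.Agent.S5610
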