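import Cfsg.Statements.S5611
import Cfsg.Agent.Lib.Golay.Local.StdObjects
import Cfsg.Agent.Lib.Golay.Local.OrbSext

set_option autoImplicit false
open scoped Pointwise
open Cfsg

namespace Cfsg.Agent.S5611

open Cfsg.Agent.Golay Cfsg.Agent.Golay.Local


/-- The stabiliser of a sextet in the group of the length-24 code has exactly three orbits on the 759 octads, of sizes 15, 360 and 384, and exactly four orbits on the 3795 trios, of sizes 15, 180, 720 and 2880. -/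
theorem result (S : Finset (Finset Cfsg.GolayPt)) (hS : S ∈ Cfsg.sextets) : (∃ X₁ ∈ Cfsg.octads, ∃ X₂ ∈ Cfsg.octads, ∃ X₃ ∈ Cfsg.octads, (MulAction.orbit ↥(MulAction.stabilizer Cfsg.M24 S) X₁).ncard = 15 ∧ (MulAction.orbit ↥(MulAction.stabilizer Cfsg.M24 S) X₂).ncard = 360 ∧ (MulAction.orbit ↥(MulAction.stabilizer Cfsg.M24 S) X₃).ncard = 384 ∧ Cfsg.octads = MulAction.orbit ↥(MulAction.stabilizer Cfsg.M24 S) X₁ ∪ MulAction.orbit ↥(MulAction.stabilizer Cfsg.M24 S) X₂ ∪ MulAction.orbit ↥(MulAction.stabilizer Cfsg.M24 S) X₃) ∧ (∃ Y₁ ∈ Cfsg.trios, ∃ Y₂ ∈ Cfsg.trios, ∃ Y₃ ∈ Cfsg.trios, ∃ Y₄ ∈ Cfsg.trios, (MulAction.orbit ↥(MulAction.stabilizer Cfsg.M24 S) Y₁).ncard = 15 ∧ (MulAction.orbit ↥(MulAction.stabilizer Cfsg.M24 S) Y₂).ncard = 180 ∧ (MulAction.orbit ↥(MulAction.stabilizer Cfsg.M24 S) Y₃).ncard = 720 ∧ (MulAction.orbit ↥(MulAction.stabilizer Cfsg.M24 S) Y₄).ncard = 2880 ∧ Cfsg.trios = MulAction.orbit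 ↥(MulAction.stabilizer Cfsg.M24 S) Y₁ ∪ MulAction.orbit ↥(MulAction.stabilizer Cfsg.M24 S) Y₂ ∪ MulAction.orbit ↥(MulAction.stabilizer Cfsg.M24 S) Y₃ ∪ MulAction.orbit ↥(MulAction.stabilizer Cfsg.M24 S) Y₄) := by
  obtain ⟨g, rfl⟩ := exists_smul_sextet stdSext_mem hS
  have cOct0 := (isClass_of_spec octUniv sextRef_ok sextOct0Root_ok sextGens_ok sextOct0_ok
    rfl).move g
  have cOct1 := (isClass_of_spec octUniv sextRef_ok sextOct1Root_ok sextGens_ok sextOct1_ok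
    rfl).move g
  have cOct2 := (isClass_of_spec octUniv sextRef_ok sextOct2Root_ok sextGens_ok sextOct2_ok
    rfl).move g
  have cTri0 := (isClass_of_spec triUniv sextRef_ok sextTri0Root_ok sextGens_ok sextTri0_ok
    rfl).move g
  have cTri1 := (isClass_of_spec triUniv sextRef_ok sextTri1Root_ok sextGens_ok sextTri1_ok
    rfl).move g
  have cTri2 := (isClass_of_spec triUniv sextRef_ok sextTri2Root_ok sextGens_ok sextTri2_ok
    rfl).move g
  have cTri3 := (isClass_of_spec triUniv sextRef_ok sextTri3Root_ok sextGens_ok sextTri3_ok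
    rfl).move g
  have hoct : ∀ {X : Finset (Finset GolayPt)}, X ∈ octUniv.set → ∃ o ∈ Cfsg.octads, X = {o} :=
    fun h => eq_of_octUniv h
  obtain ⟨X₁, hX₁, e₁⟩ := hoct cOct0.1
  obtain ⟨X₂, hX₂, e₂⟩ := hoct cOct1.1
  obtain ⟨X₃, hX₃, e₃⟩ := hoct cOct2.1
  have hU := IsClass.cover₃ cOct0 cOct1 cOct2 (values_move octUniv g (fun Y hY => values_spec octUniv sextRef_ok sextOct_values hY))
  have n₁ := cOct0.2.2
  have n₂ := cOct1.2.2
  have n₃ := cOct2.2.2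
  rw [e₁, octad_orbit_ncard] at n₁
  rw [e₂, octad_orbit_ncard] at n₂
  rw [e₃, octad_orbit_ncard] at n₃
  refine ⟨⟨X₁, hX₁, X₂, hX₂, X₃, hX₃, n₁, n₂, n₃, ?_⟩,
    ⟨_, cTri0.1, _, cTri1.1, _, cTri2.1, _, cTri3.1, cTri0.2.2, cTri1.2.2, cTri2.2.2, cTri3.2.2, IsClass.cover₄ cTri0 cTri1 cTri2 cTri3 (values_move triUniv g (fun Y hY => values_spec triUniv sextRef_ok sextTri_values hY))⟩⟩
  rw [octad_orbit, octad_orbit, octad_orbit, ← e₁, ← e₂, ← e₃, ← Set.preimage_union,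
    ← Set.preimage_union, ← hU]
  exact (Set.preimage_image_eq _ Finset.singleton_injective).symm

end Cfsg.Agent.S5611
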