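import Cfsg.Statements.S5612
import Cfsg.Agent.Lib.Golay.Local.StdObjects
import Cfsg.Agent.Lib.Golay.Local.OrbTrio

set_option autoImplicit false
open scoped Pointwise
open Cfsg

namespace Cfsg.Agent.S5612

open Cfsg.Agent.Golay Cfsg.Agent.Golay.Local


/-- The stabiliser of a trio in the group of the length-24 code has exactly three orbits on the 759 octads, of sizes 3, 84 and 672, and exactly four orbits on the 1771 sextets, of sizes 7, 84, 336 and 1344. -/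
theorem result (T : Finset (Finset Cfsg.GolayPt)) (hT : T ∈ Cfsg.trios) : (∃ X₁ ∈ Cfsg.octads, ∃ X₂ ∈ Cfsg.octads, ∃ X₃ ∈ Cfsg.octads, (MulAction.orbit ↥(MulAction.stabilizer Cfsg.M24 T) X₁).ncard = 3 ∧ (MulAction.orbit ↥(MulAction.stabilizer Cfsg.M24 T) X₂).ncard = 84 ∧ (MulAction.orbit ↥(MulAction.stabilizer Cfsg.M24 T) X₃).ncard = 672 ∧ Cfsg.octads = MulAction.orbit ↥(MulAction.stabilizer Cfsg.M24 T) X₁ ∪ MulAction.orbit ↥(MulAction.stabilizer Cfsg.M24 T) X₂ ∪ MulAction.orbit ↥(MulAction.stabilizer Cfsg.M24 T) X₃) ∧ (∃ Y₁ ∈ Cfsg.sextets, ∃ Y₂ ∈ Cfsg.sextets, ∃ Y₃ ∈ Cfsg.sextets, ∃ Y₄ ∈ Cfsg.sextets, (MulAction.orbit ↥(MulAction.stabilizer Cfsg.M24 T) Y₁).ncard = 7 ∧ (MulAction.orbit ↥(MulAction.stabilizer Cfsg.M24 T) Y₂).ncard = 84 ∧ (MulAction.orbit ↥(MulAction.stabilizer Cfsg.M24 T) Y₃).ncard = 336 ∧ (MulAction.orbit ↥(MulAction.stabilizer Cfsg.M24 T) Y₄).ncard = 1344 ∧ Cfsg.sextets =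 MulAction.orbit ↥(MulAction.stabilizer Cfsg.M24 T) Y₁ ∪ MulAction.orbit ↥(MulAction.stabilizer Cfsg.M24 T) Y₂ ∪ MulAction.orbit ↥(MulAction.stabilizer Cfsg.M24 T) Y₃ ∪ MulAction.orbit ↥(MulAction.stabilizer Cfsg.M24 T) Y₄) := by
  obtain ⟨g, rfl⟩ := exists_smul_stdTrio hT
  have cOct0 := (isClass_of_spec octUniv trioRef_ok trioOct0Root_ok trioGens_ok trioOct0_ok
    rfl).move g
  have cOct1 := (isClass_of_spec octUniv trioRef_ok trioOct1Root_ok trioGens_ok trioOct1_ok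
    rfl).move g
  have cOct2 := (isClass_of_spec octUniv trioRef_ok trioOct2Root_ok trioGens_ok trioOct2_ok
    rfl).move g
  have cSex0 := (isClass_of_spec sexUniv trioRef_ok trioSex0Root_ok trioGens_ok trioSex0_ok
    rfl).move g
  have cSex1 := (isClass_of_spec sexUniv trioRef_ok trioSex1Root_ok trioGens_ok trioSex1_ok
    rfl).move g
  have cSex2 := (isClass_of_spec sexUniv trioRef_ok trioSex2Root_ok trioGens_ok trioSex2_ok
    rfl).move g
  have cSex3 := (isClass_of_spec sexUniv trioRef_ok trioSex3Root_ok trioGens_ok trioSex3_ok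
    rfl).move g
  have hoct : ∀ {X : Finset (Finset GolayPt)}, X ∈ octUniv.set → ∃ o ∈ Cfsg.octads, X = {o} :=
    fun h => eq_of_octUniv h
  obtain ⟨X₁, hX₁, e₁⟩ := hoct cOct0.1
  obtain ⟨X₂, hX₂, e₂⟩ := hoct cOct1.1
  obtain ⟨X₃, hX₃, e₃⟩ := hoct cOct2.1
  have hU := IsClass.cover₃ cOct0 cOct1 cOct2 (values_move octUniv g (fun Y hY => values_spec octUniv trioRef_ok trioOct_values hY))
  have n₁ := cOct0.2.2
  have n₂ := cOct1.2.2
  have n₃ := cOct2.2.2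
  rw [e₁, octad_orbit_ncard] at n₁
  rw [e₂, octad_orbit_ncard] at n₂
  rw [e₃, octad_orbit_ncard] at n₃
  refine ⟨⟨X₁, hX₁, X₂, hX₂, X₃, hX₃, n₁, n₂, n₃, ?_⟩,
    ⟨_, cSex0.1, _, cSex1.1, _, cSex2.1, _, cSex3.1, cSex0.2.2, cSex1.2.2, cSex2.2.2, cSex3.2.2, IsClass.cover₄ cSex0 cSex1 cSex2 cSex3 (values_move sexUniv g (fun Y hY => values_spec sexUniv trioRef_ok trioSex_values hY))⟩⟩
  rw [octad_orbit, octad_orbit, octad_orbit, ← e₁, ← e₂, ← e₃, ← Set.preimage_union,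
    ← Set.preimage_union, ← hU]
  exact (Set.preimage_image_eq _ Finset.singleton_injective).symm

end Cfsg.Agent.S5612
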