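import Cfsg.Statements.S5613
import Cfsg.Agent.Lib.Golay.Local.StdObjects

set_option autoImplicit false
open scoped Pointwise
open Cfsg

namespace Cfsg.Agent.S5613
open Cfsg.Agent Cfsg.Agent.Golay

/-- In the group of the length-24 code, the joint stabiliser of two octads has order 10752, 1152 or 720 according as the octads meet in 0, 4 or 2 points. -/
theorem result (o o' : Finset Cfsg.GolayPt) (ho : o ∈ Cfsg.octads) (ho' : o' ∈ Cfsg.octads) : ((o ∩ o').card = 0 → Nat.card ↥(MulAction.stabilizer Cfsg.M24 o ⊓ MulAction.stabilizer Cfsg.M24 o') = 10752) ∧ ((o ∩ o').card = 4 → Nat.card ↥(MulAction.stabilizer Cfsg.M24 o ⊓ MulAction.stabilizer Cfsg.M24 o') = 1152) ∧ ((o ∩ o').card = 2 → Nat.card ↥(MulAction.stabilizer Cfsg.M24 o ⊓ MulAction.stabilizer Cfsg.M24 o') = 720) := by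
  classical
  obtain ⟨g, hg⟩ := Local.exists_smul_octad Local.stdOct_mem ho
  have htot : Nat.card (MulAction.stabilizer M24 o) = 322560 := by
    have h := (MulAction.stabilizer M24 o).card_mul_index
    have horb : MulAction.orbit M24 o = octads := by
      ext x
      constructor
      · rintro ⟨k, rfl⟩; exact smul_mem_octads k.2 ho
      · intro hx
        obtain ⟨k, hk⟩ := Local.exists_smul_octad ho hx
        exact ⟨k, hk⟩
    rw [MulAction.index_stabilizer, horb, ncard_octads, card_M24] at h
    omega
  have key : ∀ {R : List ℕ} {c n : ℕ}, Local.IsClass Local.octUniv Local.stdOct (Local.famSet Local.octRef) (Local.famSet R) c n →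
      (o' ∩ o).card ^ 4 = c →
      Nat.card ↥(MulAction.stabilizer M24 o ⊓ MulAction.stabilizer M24 o') * n = 322560 := by
    intro R c n hcl hc
    have h := hcl.move g
    rw [hg] at h
    have hw : Local.wProf ((g : Equiv.Perm GolayPt) • Local.famSet Local.octRef) {o'} = c := by
      rw [Local.famSet_octRef, Finset.smul_finset_singleton,
        show (g : Equiv.Perm GolayPt) • Local.stdOct = o from hg, Local.wProf, Finset.sum_singleton,
        Finset.sum_singleton, hc]
    obtain ⟨k, hk, hkX⟩ := h.mem_orbit (Y := {o'}) ⟨o', ho', rfl⟩ hw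
    have horb : (MulAction.orbit (MulAction.stabilizer M24 o) o').ncard = n := by
      rw [← Local.octad_orbit_ncard, ← h.2.2]
      exact congrArg Set.ncard (MulAction.orbit_eq_iff.2 ⟨⟨k, hk⟩, hkX⟩)
    have h2 := (MulAction.stabilizer (MulAction.stabilizer M24 o) o').card_mul_index
    rw [MulAction.index_stabilizer, horb, htot] at h2
    rw [← h2]
    congr 1
    exact Nat.card_congr
      { toFun := fun x => ⟨⟨x.1, x.2.1⟩, x.2.2⟩
        invFun := fun x => ⟨x.1.1, x.1.2, x.2⟩
        left_inv := fun x => rfl
        right_inv := fun x => rfl }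
  rw [Finset.inter_comm o o']
  refine ⟨fun h => ?_, fun h => ?_, fun h => ?_⟩
  · have := key (Local.isClass_of_spec Local.octUniv Local.octRef_ok Local.octOct1Root_ok Local.octGens_ok
      Local.octOct1_ok Local.stab_stdOct) (by rw [h]; norm_num)
    omega
  · have := key (Local.isClass_of_spec Local.octUniv Local.octRef_ok Local.octOct2Root_ok Local.octGens_ok
      Local.octOct2_ok Local.stab_stdOct) (by rw [h]; norm_num)
    omega
  · have := key (Local.isClass_of_spec Local.octUniv Local.octRef_ok Local.octOct3Root_ok Local.octGens_ok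
      Local.octOct3_ok Local.stab_stdOct) (by rw [h]; norm_num)
    omega

end Cfsg.Agent.S5613
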