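import Cfsg.Statements.S5614
import Cfsg.Agent.Lib.Golay.Local.SixOctad
import Cfsg.Agent.S5613

set_option autoImplicit false
open scoped Pointwise
open Cfsg

namespace Cfsg.Agent.S5614
open Cfsg.Agent Cfsg.Agent.Golay

/-- In the group of the length-24 code, the joint stabiliser of two octads meeting in exactly two points is isomorphic to the symmetric group of degree 6. -/
theorem result (o o' : Finset Cfsg.GolayPt) (ho : o ∈ Cfsg.octads) (ho' : o' ∈ Cfsg.octads) (h₂ : (o ∩ o').card = 2) : Nonempty (↥(MulAction.stabilizer Cfsg.M24 o ⊓ MulAction.stabilizer Cfsg.M24 o') ≃* Equiv.Perm (Fin 6)) := by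
  classical
  set H := MulAction.stabilizer M24 o ⊓ MulAction.stabilizer M24 o' with hH
  have h720 : Nat.card H = 720 := (S5613.result o o' ho ho').2.2 h₂
  have hE : (o' \ o).card = 6 := by
    have := Finset.card_sdiff_add_card_inter o' o
    rw [Finset.inter_comm o' o, h₂, card_octad ho'] at this
    omega
  have hmem : ∀ (g : H) (p : GolayPt), ((g : M24) : Equiv.Perm GolayPt) p ∈ o' \ o ↔ p ∈ o' \ o := by
    intro g p
    have h1 : ((g : M24) : Equiv.Perm GolayPt) • o = o := g.2.1
    have h2 : ((g : M24) : Equiv.Perm GolayPt) • o' = o' := g.2.2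
    have h := Finset.smul_mem_smul_finset_iff (s := o' \ o) (b := p) ((g : M24) : Equiv.Perm GolayPt)
    rwa [Finset.smul_finset_sdiff, h1, h2, Equiv.Perm.smul_def] at h
  let φ : H →* Equiv.Perm ↥(o' \ o) :=
    { toFun := fun g => ((g : M24) : Equiv.Perm GolayPt).subtypePerm (hmem g)
      map_one' := Equiv.ext fun p => rfl
      map_mul' := fun a b => Equiv.ext fun p => rfl }
  have hinj : Function.Injective φ := by
    rw [injective_iff_map_eq_one]
    intro g hg
    have h1 : ((g : M24) : Equiv.Perm GolayPt) = 1 :=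
      Local.pair_rigid ho' (Or.inl ⟨ho, h₂⟩) (g : M24).2
        (Local.fix_six_octad ho' Finset.sdiff_subset hE (g : M24).2 fun p hp =>
          congrArg Subtype.val (DFunLike.congr_fun hg (⟨p, hp⟩ : ↥(o' \ o)))) g.2.1
    exact Subtype.ext (Subtype.ext h1)
  have hbij : Function.Bijective φ := by
    refine (Nat.bijective_iff_injective_and_card φ).2 ⟨hinj, ?_⟩
    rw [h720, Nat.card_perm, Nat.card_eq_fintype_card, Fintype.card_coe, hE]
    rfl
  exact ⟨(MulEquiv.ofBijective φ hbij).trans (Equiv.permCongrHom (Finset.equivFinOfCardEq hE))⟩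

end Cfsg.Agent.S5614
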