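import Cfsg.Statements.S5615
import Cfsg.Agent.Lib.Golay.Local.OctTrios

set_option autoImplicit false
open scoped Pointwise
open Cfsg

namespace Cfsg.Agent.S5615
open Cfsg.Agent Cfsg.Agent.Golay

/-- An octad of the length-24 code lies in exactly 15 trios; the stabiliser of the octad in the code's group acts doubly transitively on these 15 trios, and the kernel of this action is the pointwise stabiliser of the octad. -/
theorem result (o : Finset Cfsg.GolayPt) (ho : o ∈ Cfsg.octads) : {T : Finset (Finset Cfsg.GolayPt) | T ∈ Cfsg.trios ∧ o ∈ T}.ncard = 15 ∧ (∀ T₁ T₂ T₁' T₂' : Finset (Finset Cfsg.GolayPt), T₁ ∈ Cfsg.trios → T₂ ∈ Cfsg.trios → T₁' ∈ Cfsg.trios → T₂' ∈ Cfsg.trios → o ∈ T₁ → o ∈ T₂ → o ∈ T₁' → o ∈ T₂' → T₁ ≠ T₂ → T₁' ≠ T₂' → ∃ g ∈ Cfsg.M24, g • o = o ∧ g • T₁ = T₁' ∧ g • T₂ = T₂') ∧ ∀ g ∈ Cfsg.M24, g • o = o → ((∀ T ∈ Cfsg.trios, o ∈ T → g • T = T) ↔ ∀ p ∈ o, g p = p) := by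
  classical
  obtain ⟨k, hk⟩ := Local.exists_smul_octad Local.stdOct_mem ho
  have hko : (k : Equiv.Perm GolayPt) • Local.stdOct = o := hk
  set κ := (k : Equiv.Perm GolayPt) with hκ
  have hpull : ∀ T, T ∈ trios → o ∈ T → κ⁻¹ • T ∈ trios ∧ Local.stdOct ∈ κ⁻¹ • T := fun T hT hm =>
    ⟨Local.smul_mem_trios (inv_mem k.2) hT, by rw [Finset.mem_inv_smul_finset_iff, hko]; exact hm⟩
  refine ⟨?_, ?_, fun g hg hgo => ?_⟩
  · have himg : {T | T ∈ trios ∧ o ∈ T} =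
        (κ • ·) '' {T : Finset (Finset GolayPt) | T ∈ trios ∧ Local.stdOct ∈ T} := by
      ext T
      constructor
      · rintro ⟨hT, hm⟩
        exact ⟨κ⁻¹ • T, hpull T hT hm, smul_inv_smul κ T⟩
      · rintro ⟨U, ⟨hU, hm⟩, rfl⟩
        exact ⟨Local.smul_mem_trios k.2 hU, hko ▸ Finset.smul_mem_smul_finset hm⟩
    rw [himg, Set.ncard_image_of_injective _ (MulAction.injective κ)]
    exact Local.octTri_facts.2.2
  · intro T₁ T₂ T₁' T₂' h₁ h₂ h₁' h₂' m₁ m₂ m₁' m₂' hne hne'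
    obtain ⟨a, ha, ha0, ha1, ha2⟩ := Local.octTri_two (hpull _ h₁ m₁).1 (hpull _ h₂ m₂).1
      (hpull _ h₁ m₁).2 (hpull _ h₂ m₂).2 fun e => hne ((smul_left_cancel_iff _).1 e)
    obtain ⟨b, hb, hb0, hb1, hb2⟩ := Local.octTri_two (hpull _ h₁' m₁').1 (hpull _ h₂' m₂').1
      (hpull _ h₁' m₁').2 (hpull _ h₂' m₂').2 fun e => hne' ((smul_left_cancel_iff _).1 e)
    refine ⟨κ * (b * a⁻¹) * κ⁻¹, mul_mem (mul_mem k.2 (mul_mem hb (inv_mem ha))) (inv_mem k.2), ?_, ?_, ?_⟩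
    · rw [mul_smul, mul_smul, mul_smul, inv_smul_eq_iff.2 hko.symm, inv_smul_eq_iff.2 ha0.symm, hb0, hko]
    · rw [mul_smul, mul_smul, mul_smul, inv_smul_eq_iff.2 ha1.symm, hb1, smul_inv_smul]
    · rw [mul_smul, mul_smul, mul_smul, inv_smul_eq_iff.2 ha2.symm, hb2, smul_inv_smul]
  · have hg' : κ⁻¹ * g * κ ∈ M24 := mul_mem (mul_mem (inv_mem k.2) hg) k.2
    have hgo' : (κ⁻¹ * g * κ) • Local.stdOct = Local.stdOct := by
      rw [mul_smul, mul_smul, hko, hgo, inv_smul_eq_iff, hko]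
    constructor
    · intro hT p hp
      have hstd := (Local.octTri_kernel hg' hgo').1 (fun T hT' hm => by
        have := hT (κ • T) (Local.smul_mem_trios k.2 hT') (hko ▸ Finset.smul_mem_smul_finset hm)
        rw [mul_smul, mul_smul, this, inv_smul_smul]) (κ⁻¹ p) (by
          rw [← Equiv.Perm.smul_def, Finset.inv_smul_mem_iff, hko]; exact hp)
      simpa [Equiv.Perm.mul_apply] using hstd
    · intro hp T hT hm
      have hstd := (Local.octTri_kernel hg' hgo').2 (fun p hp' => by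
        have := hp (κ p) (hko ▸ Finset.smul_mem_smul_finset hp')
        simp [Equiv.Perm.mul_apply, this]) _ (hpull T hT hm).1 (hpull T hT hm).2
      rw [mul_smul, mul_smul, smul_inv_smul] at hstd
      exact smul_left_cancel _ hstd

end Cfsg.Agent.S5615
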