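import Cfsg.Statements.S5616
import Cfsg.Agent.Lib.Golay.Local.StdObjects
import Cfsg.Agent.Lib.Golay.Local.OrbThree

set_option autoImplicit false
open scoped Pointwise
open Cfsg

namespace Cfsg.Agent.S5616

open Cfsg.Agent.Golay Cfsg.Agent.Golay.Local


/-- Let Y be a set of 3 of the 24 points. The sextets of the length-24 code whose tetrads meeting Y number 1, 2 or 3 are respectively 21, 630 and 1120 in number, and two sextets with the same number of tetrads meeting Y are conjugate under the setwise stabiliser of Y in the code's group. -/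
theorem result (Y : Finset Cfsg.GolayPt) (hY : Y.card = 3) : {S : Finset (Finset Cfsg.GolayPt) | S ∈ Cfsg.sextets ∧ (S.filter fun t => (t ∩ Y).Nonempty).card = 1}.ncard = 21 ∧ {S : Finset (Finset Cfsg.GolayPt) | S ∈ Cfsg.sextets ∧ (S.filter fun t => (t ∩ Y).Nonempty).card = 2}.ncard = 630 ∧ {S : Finset (Finset Cfsg.GolayPt) | S ∈ Cfsg.sextets ∧ (S.filter fun t => (t ∩ Y).Nonempty).card = 3}.ncard = 1120 ∧ ∀ S S' : Finset (Finset Cfsg.GolayPt), S ∈ Cfsg.sextets → S' ∈ Cfsg.sextets → (S.filter fun t => (t ∩ Y).Nonempty).card = (S'.filter fun t => (t ∩ Y).Nonempty).card → ∃ g ∈ Cfsg.M24, g • Y = Y ∧ g • S = S' := by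
  classical
  obtain ⟨g, rfl⟩ := exists_smul_three (Y := maskSet 8388611)
    (by rw [card_maskSet]; decide +kernel) hY
  have hR : g • famSet threeRef = {g • maskSet 8388611} := by
    rw [show famSet threeRef = {maskSet 8388611} from famSet_single _, Finset.smul_finset_singleton]
  have cSex0 := (isClass_of_spec sexUniv threeRef_ok threeSex0Root_ok threeGens_ok threeSex0_ok
    (stab_maskSet _)).move g
  have cSex1 := (isClass_of_spec sexUniv threeRef_ok threeSex1Root_ok threeGens_ok threeSex1_ok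
    (stab_maskSet _)).move g
  have cSex2 := (isClass_of_spec sexUniv threeRef_ok threeSex2Root_ok threeGens_ok threeSex2_ok
    (stab_maskSet _)).move g
  rw [hR] at cSex0 cSex1 cSex2
  set Y := g • maskSet 8388611 with hYdef
  have hv : ∀ S ∈ Cfsg.sextets, wProf {Y} S ∈ [81, 17, 3] := by
    rw [← hR]; exact (values_move sexUniv g (fun Y hY => values_spec sexUniv threeRef_ok threeSex_values hY))
  -- the number of tetrads meeting `Y` is read off from the profile
  have hk : ∀ S ∈ Cfsg.sextets, ((S.filter fun t => (t ∩ Y).Nonempty).card = 1 ↔ wProf {Y} S = 81) ∧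
      ((S.filter fun t => (t ∩ Y).Nonempty).card = 2 ↔ wProf {Y} S = 17) ∧
      ((S.filter fun t => (t ∩ Y).Nonempty).card = 3 ↔ wProf {Y} S = 3) := by
    intro S hS
    obtain ⟨hcov, hdis⟩ := sextet_cover hS
    have hsum : ∑ t ∈ S.filter (fun t => (t ∩ Y).Nonempty), (t ∩ Y).card = 3 := by
      rw [← hY, Finset.sum_filter_of_ne (fun t _ h => Finset.card_pos.1 (Nat.pos_of_ne_zero h)),
        ← Finset.card_biUnion]
      · congr 1
        ext p
        simp only [Finset.mem_biUnion, Finset.mem_inter]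
        constructor
        · rintro ⟨t, -, -, hp⟩; exact hp
        · intro hp
          obtain ⟨t, ht, hpt⟩ := Finset.mem_biUnion.1 (hcov ▸ Finset.mem_univ p)
          exact ⟨t, ht, hpt, hp⟩
      · exact fun t ht u hu hne => (hdis t ht u hu hne).mono Finset.inter_subset_left Finset.inter_subset_left
    have hW : wProf {Y} S = ∑ t ∈ S.filter (fun t => (t ∩ Y).Nonempty), (t ∩ Y).card ^ 4 := by
      simp only [wProf, Finset.sum_singleton]
      refine (Finset.sum_filter_of_ne fun t _ h => Finset.card_pos.1 (Nat.pos_of_ne_zero fun e => h ?_)).symm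
      rw [e]; rfl
    set F := S.filter (fun t => (t ∩ Y).Nonempty) with hF
    have hpos : ∀ t ∈ F, 1 ≤ (t ∩ Y).card := fun t ht =>
      Finset.card_pos.2 (Finset.mem_filter.1 ht).2
    have hle : F.card ≤ 3 := by
      rw [← hsum, Finset.card_eq_sum_ones]; exact Finset.sum_le_sum hpos
    have hne : F.card ≠ 0 := fun e => by rw [Finset.card_eq_zero.1 e] at hsum; simp at hsum
    have key : (F.card = 1 → wProf {Y} S = 81) ∧ (F.card = 2 → wProf {Y} S = 17) ∧
        (F.card = 3 → wProf {Y} S = 3) := by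
      refine ⟨fun h => ?_, fun h => ?_, fun h => ?_⟩
      · obtain ⟨t, ht⟩ := Finset.card_eq_one.1 h
        rw [ht, Finset.sum_singleton] at hsum hW
        rw [hW, hsum]; norm_num
      · obtain ⟨t, u, htu, ht⟩ := Finset.card_eq_two.1 h
        have h1 := hpos t (by simp [ht])
        have h2 := hpos u (by simp [ht])
        rw [ht, Finset.sum_pair htu] at hsum hW
        rw [hW]
        rcases (show ((t ∩ Y).card = 1 ∧ (u ∩ Y).card = 2) ∨ ((t ∩ Y).card = 2 ∧ (u ∩ Y).card = 1) by omega)
          with ⟨a, b⟩ | ⟨a, b⟩ <;> simp [a, b]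
      · have h1 : ∀ t ∈ F, (t ∩ Y).card = 1 := by
          intro t ht
          have h2 := Finset.add_sum_erase F (fun t => (t ∩ Y).card) ht
          have h3 : (F.erase t).card ≤ ∑ x ∈ F.erase t, (x ∩ Y).card := by
            rw [Finset.card_eq_sum_ones]
            exact Finset.sum_le_sum fun x hx => hpos x (Finset.mem_of_mem_erase hx)
          have h4 := Finset.card_erase_add_one ht
          have := hpos t ht
          omega
        rw [hW, Finset.sum_congr rfl (g := fun _ => 1) (fun t ht => by rw [h1 t ht]; norm_num),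
          Finset.sum_const, h]
        rfl
    obtain ⟨k1, k2, k3⟩ := key
    refine ⟨⟨k1, fun e => ?_⟩, ⟨k2, fun e => ?_⟩, ⟨k3, fun e => ?_⟩⟩
    all_goals
      rcases (show F.card = 1 ∨ F.card = 2 ∨ F.card = 3 by omega) with h | h | h
      all_goals first | assumption | (have := k1 h; omega) | (have := k2 h; omega) | (have := k3 h; omega)
  have hset : ∀ (j c : ℕ), (∀ S ∈ Cfsg.sextets, (S.filter fun t => (t ∩ Y).Nonempty).card = j ↔ wProf {Y} S = c) →
      ∀ {X : Finset (Finset GolayPt)} {n : ℕ}, IsClass sexUniv Y {Y} X c n →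
      {S : Finset (Finset GolayPt) | S ∈ Cfsg.sextets ∧ (S.filter fun t => (t ∩ Y).Nonempty).card = j}.ncard = n := by
    intro j c hjc X n hc
    rw [← hc.2.2, hc.2.1]
    congr 1
    ext S
    exact and_congr_right fun hS => hjc S hS
  refine ⟨hset 1 81 (fun S hS => (hk S hS).1) cSex0, hset 2 17 (fun S hS => (hk S hS).2.1) cSex1,
    hset 3 3 (fun S hS => (hk S hS).2.2) cSex2, ?_⟩
  intro S S' hS hS' hcard
  have main : ∀ {X : Finset (Finset GolayPt)} {c n : ℕ}, IsClass sexUniv Y {Y} X c n →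
      wProf {Y} S = c → wProf {Y} S' = c → ∃ h ∈ Cfsg.M24, h • Y = Y ∧ h • S = S' := by
    intro X c n hc e e'
    obtain ⟨a, ha, hS₁⟩ := hc.mem_orbit hS e
    obtain ⟨b, hb, hS₂⟩ := hc.mem_orbit hS' e'
    refine ⟨(b * a⁻¹ : Cfsg.M24), (b * a⁻¹).2, ?_, ?_⟩
    · show (b * a⁻¹) • Y = Y
      rw [mul_smul, inv_smul_eq_iff.2 ha.symm, hb]
    · show (b * a⁻¹) • S = S'
      rw [mul_smul, ← hS₁, inv_smul_smul, hS₂]
  have h1 := hv S hS
  simp only [List.mem_cons, List.not_mem_nil, or_false] at h1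
  obtain ⟨a1, a2, a3⟩ := hk S hS
  obtain ⟨b1, b2, b3⟩ := hk S' hS'
  rcases h1 with h | h | h
  · exact main cSex0 h (b1.1 (hcard ▸ a1.2 h))
  · exact main cSex1 h (b2.1 (hcard ▸ a2.2 h))
  · exact main cSex2 h (b3.1 (hcard ▸ a3.2 h))

end Cfsg.Agent.S5616
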