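import Cfsg.Statements.S5617
import Cfsg.Agent.Lib.Golay.Local.StdObjects
import Cfsg.Agent.Lib.Golay.Local.OrbDuo

set_option autoImplicit false
open scoped Pointwise
open Cfsg

namespace Cfsg.Agent.S5617

open Cfsg.Agent.Golay Cfsg.Agent.Golay.Local


/-- The setwise stabiliser, in the group of the length-24 code, of a complementary pair of dodecads has exactly three orbits on the 1771 sextets, of sizes 396, 495 and 880. -/
theorem result (d : Finset Cfsg.GolayPt) (hd : d ∈ Cfsg.dodecads) : ∃ X₁ ∈ Cfsg.sextets, ∃ X₂ ∈ Cfsg.sextets, ∃ X₃ ∈ Cfsg.sextets, (MulAction.orbit ↥(MulAction.stabilizer Cfsg.M24 ({d, Finset.univ \ d} : Finset (Finset Cfsg.GolayPt))) X₁).ncard = 396 ∧ (MulAction.orbit ↥(MulAction.stabilizer Cfsg.M24 ({d, Finset.univ \ d} : Finset (Finset Cfsg.GolayPt))) X₂).ncard = 495 ∧ (MulAction.orbit ↥(MulAction.stabilizer Cfsg.M24 ({d, Finset.univ \ d} : Finset (Finset Cfsg.GolayPt))) X₃).ncard = 880 ∧ Cfsg.sextets = MulAction.orbit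 ↥(MulAction.stabilizer Cfsg.M24 ({d, Finset.univ \ d} : Finset (Finset Cfsg.GolayPt))) X₁ ∪ MulAction.orbit ↥(MulAction.stabilizer Cfsg.M24 ({d, Finset.univ \ d} : Finset (Finset Cfsg.GolayPt))) X₂ ∪ MulAction.orbit ↥(MulAction.stabilizer Cfsg.M24 ({d, Finset.univ \ d} : Finset (Finset Cfsg.GolayPt))) X₃ := by
  obtain ⟨g, hg⟩ := exists_smul_stdDuo hd
  rw [← hg]
  have cSex0 := (isClass_of_spec sexUniv duoRef_ok duoSex0Root_ok duoGens_ok duoSex0_ok
    rfl).move g
  have cSex1 := (isClass_of_spec sexUniv duoRef_ok duoSex1Root_ok duoGens_ok duoSex1_ok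
    rfl).move g
  have cSex2 := (isClass_of_spec sexUniv duoRef_ok duoSex2Root_ok duoGens_ok duoSex2_ok
    rfl).move g
  exact ⟨_, cSex0.1, _, cSex1.1, _, cSex2.1, cSex0.2.2, cSex1.2.2, cSex2.2.2, IsClass.cover₃ cSex0 cSex1 cSex2 (values_move sexUniv g (fun Y hY => values_spec sexUniv duoRef_ok duoSex_values hY))⟩

end Cfsg.Agent.S5617
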