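import Cfsg.Statements.S5618
import Cfsg.Agent.Lib.Golay.Local.SixOctad

set_option autoImplicit false
open scoped Pointwise
open Cfsg

namespace Cfsg.Agent.S5618
open Cfsg.Agent Cfsg.Agent.Golay

/-- For a dodecad d of the length-24 code and a hexad C on it (a 6-point intersection of d with an octad): the joint stabiliser of d and C in the code's group is isomorphic to the symmetric group of degree 6, and it acts faithfully both on the six points of C and on the six points of d outside C. -/
theorem result (d : Finset Cfsg.GolayPt) (hd : d ∈ Cfsg.dodecads) (C : Finset Cfsg.GolayPt) (hC : C ∈ Cfsg.hexadsOn d) : Nonempty (↥(MulAction.stabilizer Cfsg.M24 d ⊓ MulAction.stabilizer Cfsg.M24 C) ≃* Equiv.Perm (Fin 6)) ∧ (∀ g ∈ MulAction.stabilizer Cfsg.M24 d ⊓ MulAction.stabilizer Cfsg.M24 C, (∀ p ∈ C, ((g : ↥Cfsg.M24) : Equiv.Perm Cfsg.GolayPt) p = p) → g = 1) ∧ ∀ g ∈ MulAction.stabilizer Cfsg.M24 d ⊓ MulAction.stabilizer Cfsg.M24 C, (∀ p ∈ d \ C, ((g : ↥Cfsg.M24) : Equiv.Perm Cfsg.GolayPt)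 p = p) → g = 1 := by
  classical
  obtain ⟨hC6, o, ho, hoC⟩ := hC
  set H := MulAction.stabilizer M24 d ⊓ MulAction.stabilizer M24 C with hH
  have hCo : C ⊆ o := hoC ▸ Finset.inter_subset_left
  have hCd : C ⊆ d := hoC ▸ Finset.inter_subset_right
  have hCmem : ∀ (g : H) (p : GolayPt), ((g : M24) : Equiv.Perm GolayPt) p ∈ C ↔ p ∈ C := by
    intro g p
    have h2 : ((g : M24) : Equiv.Perm GolayPt) • C = C := g.2.2
    have h := Finset.smul_mem_smul_finset_iff (s := C) (b := p) ((g : M24) : Equiv.Perm GolayPt)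
    rwa [h2, Equiv.Perm.smul_def] at h
  obtain ⟨o₂, ho₂, ho₂d⟩ : ∃ o₂ ∈ octads, o₂ ∩ d = d \ C := by
    obtain ⟨m, hm, hme⟩ := mem_dodecads.1 hd
    obtain ⟨l, hl, hle⟩ := mem_octads.1 ho
    have hx := spanList_xor _ m (mem_dodecadList.1 hm).1 l (mem_octadList.1 hl).1
    have hset : maskSet (m ^^^ l) = (d \ o) ∪ (o \ d) := by
      ext p; simp [mem_maskSet, ← hme, ← hle]; cases m.testBit (idx p) <;> cases l.testBit (idx p) <;> simp
    have h1 := Finset.card_sdiff_add_card_inter d o
    have h2 := Finset.card_sdiff_add_card_inter o d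
    rw [Finset.inter_comm d o, hoC, hC6, card_dodecad hd] at h1
    rw [hoC, hC6, card_octad ho] at h2
    have hcard : (maskSet (m ^^^ l)).card = 8 := by
      rw [hset, Finset.card_union_of_disjoint (disjoint_sdiff_sdiff)]
      omega
    refine ⟨maskSet (m ^^^ l), mem_octads.2 ⟨_, mem_octadList.2 ⟨hx, by rwa [← card_maskSet]⟩, rfl⟩, ?_⟩
    rw [hset, ← hoC]
    ext p
    simp only [Finset.mem_inter, Finset.mem_union, Finset.mem_sdiff]
    tauto
  have hD6 : (d \ C).card = 6 := by
    rw [Finset.card_sdiff_of_subset hCd, card_dodecad hd, hC6]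
  have key : ∀ (E oE : Finset GolayPt), oE ∈ octads → oE ∩ d = E → E.card = 6 → ∀ g ∈ H,
      (∀ p ∈ E, ((g : M24) : Equiv.Perm GolayPt) p = p) → g = 1 := by
    intro E oE hoE hE hE6 g hg hfix
    have h1 : ((g : M24) : Equiv.Perm GolayPt) = 1 :=
      Local.pair_rigid hoE (Or.inr ⟨hd, by rw [Finset.inter_comm, hE, hE6]⟩) g.2
        (Local.fix_six_octad hoE (hE ▸ Finset.inter_subset_left) hE6 g.2 hfix) hg.1
    exact Subtype.ext h1
  let φ : H →* Equiv.Perm C :=
    { toFun := fun g => ((g : M24) : Equiv.Perm GolayPt).subtypePerm (hCmem g)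
      map_one' := Equiv.ext fun p => rfl
      map_mul' := fun a b => Equiv.ext fun p => rfl }
  have hinj : Function.Injective φ := by
    rw [injective_iff_map_eq_one]
    intro g hg
    exact Subtype.ext (key C o ho hoC hC6 g g.2 fun p hp =>
      congrArg Subtype.val (DFunLike.congr_fun hg (⟨p, hp⟩ : C)))
  have hsurj : Function.Surjective φ := by
    intro σ
    obtain ⟨f⟩ : Nonempty (Fin 6 ≃ C) := ⟨(Finset.equivFinOfCardEq hC6).symm⟩
    set x : Fin 5 → GolayPt := fun i => ((f i.castSucc : C) : GolayPt) with hx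
    set y : Fin 5 → GolayPt := fun i => ((σ (f i.castSucc) : C) : GolayPt) with hy
    have hxi : Function.Injective x := fun a b h => Fin.castSucc_injective 5 (f.injective (Subtype.ext h))
    have hyi : Function.Injective y := fun a b h =>
      Fin.castSucc_injective 5 (f.injective (σ.injective (Subtype.ext h)))
    obtain ⟨a, ha, had, hax⟩ := exists_M24_dodecad_map hd (k := 5) le_rfl base12_injective hxi
      base12_mem (fun i => hCd (f _).2)
    obtain ⟨b, hb, hbd, hby⟩ := exists_M24_dodecad_map hd (k := 5) le_rfl base12_injective hyi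
      base12_mem (fun i => hCd (σ _).2)
    set g := b * a⁻¹ with hg
    have hgM : g ∈ M24 := mul_mem hb (inv_mem ha)
    have hgd : g • d = d := by rw [hg, mul_smul, inv_smul_eq_iff.2 had.symm, hbd]
    have hgx : ∀ i, g (x i) = y i := fun i => by
      rw [hg, Equiv.Perm.mul_apply, ← hax i, Equiv.Perm.inv_def, Equiv.symm_apply_apply, hby]
    have hgo : g • o = o := by
      refine octad_unique (smul_mem_octads hgM ho) ho ?_
      have hsub : Finset.univ.image y ⊆ (g • o) ∩ o := by
        intro p hp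
        obtain ⟨i, -, rfl⟩ := Finset.mem_image.1 hp
        refine Finset.mem_inter.2 ⟨?_, hCo (σ _).2⟩
        rw [← hgx i, ← Equiv.Perm.smul_def]
        exact Finset.smul_mem_smul_finset (hCo (f _).2)
      have := Finset.card_le_card hsub
      rwa [Finset.card_image_of_injective _ hyi, Finset.card_univ, Fintype.card_fin] at this
    have hgC : g • C = C := by rw [← hoC, Finset.smul_finset_inter, hgo, hgd]
    refine ⟨⟨⟨g, hgM⟩, hgd, hgC⟩, Equiv.ext fun p => Subtype.ext ?_⟩
    show g p = σ p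
    obtain ⟨i, rfl⟩ := f.surjective p
    refine Fin.lastCases ?_ (fun i => hgx i) i
    have hmem : g (f (Fin.last 5)) ∈ C := by
      have h1 := Finset.smul_mem_smul_finset (a := g) (f (Fin.last 5)).2
      rwa [hgC, Equiv.Perm.smul_def] at h1
    obtain ⟨j, hj⟩ : ∃ j, σ (f j) = ⟨_, hmem⟩ := ⟨f.symm (σ.symm ⟨_, hmem⟩), by simp⟩
    have hj' := congrArg Subtype.val hj
    revert hj'
    refine Fin.lastCases (fun h => h.symm) (fun k h => ?_) j
    exfalso
    have e := g.injective ((hgx k).trans h)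
    exact absurd (f.injective (Subtype.ext e)) (Fin.castSucc_lt_last k).ne
  exact ⟨⟨(MulEquiv.ofBijective φ ⟨hinj, hsurj⟩).trans (Equiv.permCongrHom (Finset.equivFinOfCardEq hC6))⟩,
    fun g hg h => key C o ho hoC hC6 g hg h, fun g hg h => key (d \ C) o₂ ho₂ ho₂d hD6 g hg h⟩

end Cfsg.Agent.S5618
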