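import Cfsg.Statements.S5619
import Cfsg.Agent.Lib.Golay.Local.Dod3

set_option autoImplicit false
open scoped Pointwise
open Cfsg

namespace Cfsg.Agent.S5619
open Cfsg.Agent Cfsg.Agent.Golay
open scoped Pointwise

/-- In the group of the length-24 code, the subgroup fixing a dodecad setwise and three of its points individually (a group of order 72) has a normal Sylow 3-subgroup that is elementary abelian of order 9, and its Sylow 2-subgroups are quaternion of order 8. -/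
theorem result (d : Finset Cfsg.GolayPt) (hd : d ∈ Cfsg.dodecads) (p q r : Cfsg.GolayPt) (hp : p ∈ d) (hq : q ∈ d) (hr : r ∈ d) (hpq : p ≠ q) (hpr : p ≠ r) (hqr : q ≠ r) : (∀ Q : Sylow 3 ↥(MulAction.stabilizer Cfsg.M24 d ⊓ MulAction.stabilizer Cfsg.M24 p ⊓ MulAction.stabilizer Cfsg.M24 q ⊓ MulAction.stabilizer Cfsg.M24 r), (Q : Subgroup ↥(MulAction.stabilizer Cfsg.M24 d ⊓ MulAction.stabilizer Cfsg.M24 p ⊓ MulAction.stabilizer Cfsg.M24 q ⊓ MulAction.stabilizer Cfsg.M24 r)).Normal ∧ Nat.card ↥Q = 9 ∧ ∀ x ∈ (Q : Subgroup ↥(MulAction.stabilizer Cfsg.M24 d ⊓ MulAction.stabilizer Cfsg.M24 p ⊓ MulAction.stabilizer Cfsg.M24 q ⊓ MulAction.stabilizer Cfsg.M24 r)), x ^ 3 = 1) ∧ ∀ P : Sylow 2 ↥(MulAction.stabilizer Cfsg.M24 d ⊓ MulAction.stabilizer Cfsg.M24 p ⊓ MulAction.stabilizer Cfsg.M24 q ⊓ MulAction.stabilizer Cfsg.M24 r), Nonempty (↥P ≃* QuaternionGroup 2) := by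
  classical
  set K := MulAction.stabilizer Cfsg.M24 d ⊓ MulAction.stabilizer Cfsg.M24 p ⊓ MulAction.stabilizer Cfsg.M24 q ⊓ MulAction.stabilizer Cfsg.M24 r with hK
  obtain ⟨g, hg, hgd, hgx⟩ := exists_M24_dodecad_map hd (k := 3) (by norm_num)
    (x := fun i => base12 (Fin.castLE (by norm_num) i)) (y := ![p, q, r])
    (base12_injective.comp (Fin.castLE_injective (show 3 ≤ 5 by norm_num)))
    (by intro i j; fin_cases i <;> fin_cases j <;> simp [hpq, Ne.symm hpq, hpr, Ne.symm hpr, hqr, Ne.symm hqr])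
    (fun i => base12_mem _) (fun i => by fin_cases i <;> simp [hp, hq, hr])
  let φ : K →* Equiv.Perm GolayPt := (MulAut.conj g⁻¹).toMonoidHom.comp (Cfsg.M24.subtype.comp K.subtype)
  have hφ : Function.Injective φ := fun a b h => by
    have := (MulAut.conj g⁻¹).injective h
    exact Subtype.ext (Subtype.ext this)
  have happ : ∀ x : K, φ x = g⁻¹ * ((x : Cfsg.M24) : Equiv.Perm GolayPt) * g := fun x => by simp [φ]
  refine Local.dod3_structure φ hφ ?_
  have h0 : g (base12 0) = p := hgx 0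
  have h1 : g (base12 1) = q := hgx 1
  have h2 : g (base12 2) = r := hgx 2
  ext σ
  constructor
  · rintro ⟨x, rfl⟩
    obtain ⟨⟨⟨hxd, hxp⟩, hxq⟩, hxr⟩ := x.2
    have hxp' : ((x : Cfsg.M24) : Equiv.Perm GolayPt) p = p := hxp
    have hxq' : ((x : Cfsg.M24) : Equiv.Perm GolayPt) q = q := hxq
    have hxr' : ((x : Cfsg.M24) : Equiv.Perm GolayPt) r = r := hxr
    have hxd' : ((x : Cfsg.M24) : Equiv.Perm GolayPt) • d = d := hxd
    refine ⟨?_, ?_, fun i => ?_⟩
    · rw [happ]; exact mul_mem (mul_mem (inv_mem hg) (x : Cfsg.M24).2) hg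
    · rw [happ, mul_smul, mul_smul, hgd, hxd', inv_smul_eq_iff, hgd]
    · rw [happ]
      fin_cases i
      · simp [Equiv.Perm.mul_apply, h0, hxp', Equiv.Perm.inv_def, Equiv.symm_apply_eq]
      · simp [Equiv.Perm.mul_apply, h1, hxq', Equiv.Perm.inv_def, Equiv.symm_apply_eq]
      · simp [Equiv.Perm.mul_apply, h2, hxr', Equiv.Perm.inv_def, Equiv.symm_apply_eq]
  · rintro ⟨hM, hd0, hf⟩
    have e0 : σ (base12 0) = base12 0 := hf 0
    have e1 : σ (base12 1) = base12 1 := hf 1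
    have e2 : σ (base12 2) = base12 2 := hf 2
    have hfix : ∀ (b : GolayPt) (c : GolayPt), g b = c → σ b = b → (g * σ * g⁻¹) c = c := by
      intro b c hb hs
      rw [← hb]
      simp [Equiv.Perm.mul_apply, hs]
    let y : Cfsg.M24 := ⟨g * σ * g⁻¹, mul_mem (mul_mem hg hM) (inv_mem hg)⟩
    have hy : y ∈ K := ⟨⟨⟨(show (g * σ * g⁻¹) • d = d by
        rw [mul_smul, mul_smul, inv_smul_eq_iff.2 hgd.symm, hd0, hgd]),
      hfix _ _ h0 e0⟩, hfix _ _ h1 e1⟩, hfix _ _ h2 e2⟩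
    refine ⟨⟨y, hy⟩, ?_⟩
    rw [happ]
    simp [y, mul_assoc]

end Cfsg.Agent.S5619
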