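import Cfsg.Statements.S5620
import Cfsg.Agent.Lib.Golay.Local.StdObjects
import Cfsg.Agent.Lib.Golay.Mathieu

set_option autoImplicit false
open scoped Pointwise
open Cfsg

namespace Cfsg.Agent.S5620
open Cfsg.Agent Cfsg.Agent.Golay Cfsg.Agent.Golay.Cert Cfsg.Agent.PermCert

/-- Inside the stabiliser of the dodecad of squares (a Mathieu group of degree 12), the stabiliser of the residue 0 (a point of the dodecad) and the stabiliser of the extra point (a point outside the dodecad) are isomorphic but not conjugate; conjugation by a suitable element of the code's group that maps the dodecad of squares onto its complement carries the first onto the second. -/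
theorem result : Nonempty (↥(Cfsg.Spor.M12 ⊓ MulAction.stabilizer (Equiv.Perm Cfsg.GolayPt) (none : Cfsg.GolayPt)) ≃* ↥Cfsg.Spor.M11) ∧ (¬ ∃ k ∈ Cfsg.Spor.M12, MulAut.conj k • Cfsg.Spor.M11 = Cfsg.Spor.M12 ⊓ MulAction.stabilizer (Equiv.Perm Cfsg.GolayPt) (none : Cfsg.GolayPt)) ∧ ∃ g ∈ Cfsg.M24, g • Cfsg.Spor.squareDodecad = Finset.univ \ Cfsg.Spor.squareDodecad ∧ MulAut.conj g • Cfsg.Spor.M11 = Cfsg.Spor.M12 ⊓ MulAction.stabilizer (Equiv.Perm Cfsg.GolayPt) (none : Cfsg.GolayPt) := by
  classical
  set d := Spor.squareDodecad with hdd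
  set d' := (Finset.univ : Finset GolayPt) \ d with hd'
  have hd'D : d' ∈ dodecads := by
    obtain ⟨m, hm, hme⟩ := mem_dodecads.1 squareDodecad_mem
    have hx := spanList_xor _ 16777215 all_mem_codeList m (mem_dodecadList.1 hm).1
    have hset : maskSet (16777215 ^^^ m) = d' := by
      ext p
      rw [hd', hdd, ← hme]
      have : (16777215 : ℕ).testBit (idx p) = true := by
        have hp := idx_lt p
        generalize idx p = i at hp ⊢
        revert i; decide
      simp [mem_maskSet, this]
    refine mem_dodecads.2 ⟨_, mem_dodecadList.2 ⟨hx, ?_⟩, hset⟩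
    rw [← card_maskSet, hset, hd', Finset.card_sdiff_of_subset (Finset.subset_univ _),
      card_dodecad squareDodecad_mem]
    rfl
  have hnone : (none : GolayPt) ∈ d' := by
    rw [hd', hdd, squareDodecad_eq, Finset.mem_sdiff, mem_maskSet]; exact ⟨Finset.mem_univ _, by decide⟩
  obtain ⟨g, hg, hgd, hg0⟩ := exists_M24_dodecad_map hd'D (k := 1) (by norm_num) (x := ![some 0]) (y := ![none])
    (Function.injective_of_subsingleton _) (Function.injective_of_subsingleton _)
    (fun i => by fin_cases i; exact zero_mem_squareDodecad) (fun i => by fin_cases i; exact hnone)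
  have hg0' : g (some 0) = none := hg0 0
  have hgd' : g⁻¹ • d = Finset.univ \ d := by
    have h : g • d' = d := by
      rw [hd', Finset.smul_finset_sdiff, Finset.smul_finset_univ, hgd, hd', Finset.sdiff_sdiff_self_left,
        Finset.inter_eq_right.2 (Finset.subset_univ _)]
    rw [inv_smul_eq_iff, ← hd', h]
  have hstab : ∀ x : Equiv.Perm GolayPt, x • d' = d' ↔ x • d = d := by
    intro x
    rw [hd', Finset.smul_finset_sdiff, Finset.smul_finset_univ]
    refine ⟨fun h => ?_, fun h => by rw [h]⟩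
    have := congrArg (fun s => Finset.univ \ s) h
    simpa [Finset.sdiff_sdiff_self_left] using this
  set A := Spor.M12 ⊓ MulAction.stabilizer (Equiv.Perm GolayPt) (none : GolayPt) with hA
  have hAmem : ∀ x, x ∈ A ↔ x ∈ M24 ∧ x • d = d ∧ x none = none := by
    intro x; simp [hA, Spor.M12, hdd, Subgroup.mem_inf, and_assoc]
  have hBmem : ∀ x, x ∈ Spor.M11 ↔ x ∈ M24 ∧ x • d = d ∧ x (some 0) = some 0 := by
    intro x; simp [Spor.M11, Spor.M12, hdd, Subgroup.mem_inf, and_assoc]
  have hconj : MulAut.conj g • Spor.M11 = A := by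
    ext x
    rw [Subgroup.mem_pointwise_smul_iff_inv_smul_mem, hAmem, hBmem]
    rw [← map_inv MulAut.conj g, MulAut.smul_def, MulAut.conj_apply, inv_inv]
    constructor
    · rintro ⟨h1, h2, h3⟩
      refine ⟨by simpa [mul_assoc] using mul_mem (mul_mem hg h1) (inv_mem hg), (hstab x).1 ?_, ?_⟩
      · rw [mul_smul, mul_smul, inv_smul_eq_iff, hgd] at h2; exact h2
      · rw [Equiv.Perm.mul_apply, Equiv.Perm.mul_apply, hg0', Equiv.Perm.inv_eq_iff_eq, hg0'] at h3
        exact h3
    · rintro ⟨h1, h2, h3⟩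
      refine ⟨mul_mem (mul_mem (inv_mem hg) h1) hg, ?_, ?_⟩
      · rw [mul_smul, mul_smul, hgd, (hstab x).2 h2, inv_smul_eq_iff, hgd]
      · rw [Equiv.Perm.mul_apply, Equiv.Perm.mul_apply, hg0', h3, Equiv.Perm.inv_eq_iff_eq, hg0']
  refine ⟨⟨(MulEquiv.subgroupCongr hconj.symm).trans (Subgroup.equivSMul (MulAut.conj g) Spor.M11).symm⟩,
    ?_, g, hg, hgd, hconj⟩
  rintro ⟨k, hk, hkc⟩
  obtain ⟨hkM, hkd⟩ : k ∈ M24 ∧ k • d = d := by
    rw [Spor.M12, Subgroup.mem_inf] at hk
    exact hk
  -- then `M11` fixes a point outside the dodecad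
  have hq : (k⁻¹ none : GolayPt) ∉ d := fun h => by
    have h' := Finset.smul_mem_smul_finset (a := k) h
    rw [hkd, Equiv.Perm.smul_def, Equiv.Perm.inv_def, Equiv.apply_symm_apply] at h'
    exact (Finset.mem_sdiff.1 hnone).2 h'
  have hfix : ∀ x ∈ Spor.M11, x (k⁻¹ none) = k⁻¹ none := by
    intro x hx
    have hy : MulAut.conj k x ∈ A := hkc ▸ Subgroup.smul_mem_pointwise_smul x _ _ hx
    have h3 := ((hAmem _).1 hy).2.2
    rw [MulAut.conj_apply, Equiv.Perm.mul_apply, Equiv.Perm.mul_apply] at h3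
    exact k.injective (h3.trans (by simp))
  have hmove : allBelow (fun q => Local.bitB 340831 q ||
      Local.anyF (fun e => !(Nat.beq (Local.g5 e.1 q) q) && validElt 5 24 e && isAutB e &&
        Nat.beq (Local.imgF (Local.tabOf e) 340831) 340831 && Nat.beq (Local.g5 e.1 0) 0) m11Gens) 24 = true := by
    decide +kernel
  have h := allBelow_spec _ _ hmove (idx (k⁻¹ none)) (idx_lt _)
  simp only [Bool.or_eq_true, Local.anyF_iff, Bool.and_eq_true, Bool.not_eq_true', Local.bitB_eq] at h
  rcases h with h | ⟨e, -, ⟨⟨⟨hne, hv⟩, haut⟩, himg⟩, h0⟩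
  · exact hq (by rw [hdd, squareDodecad_eq, mem_maskSet]; exact h)
  · have hmem : permOf e ∈ Spor.M11 := by
      refine (hBmem _).2 ⟨permOf_mem_M24 hv haut, ?_, ?_⟩
      · rw [hdd, squareDodecad_eq, Local.smul_maskSet hv (by norm_num), ← Local.imgF_eq,
          Nat.eq_of_beq_eq_true himg]
      · apply idx_injective
        rw [← Local.code_permOf hv, ← Local.g5_eq, show idx (some 0 : GolayPt) = 0 from by decide,
          Nat.eq_of_beq_eq_true h0]
    have := congrArg idx (hfix _ hmem)
    rw [← Local.code_permOf hv, ← Local.g5_eq] at this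
    rw [this, Nat.beq_refl] at hne
    simp at hne

end Cfsg.Agent.S5620
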