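import Cfsg.Statements.S5625
import Cfsg.Agent.Lib.SelfDual24.Count

set_option autoImplicit false
open Cfsg

namespace Cfsg.Agent.S5625

open Cfsg.Agent.SelfDual24


/-- In any Steiner system S(5, 8, 24) and for any set Y of three points, the blocks meeting Y in exactly 3, 2, 1 and 0 points number 21, 168, 360 and 210 respectively (so there are 759 blocks in all). -/
theorem result (α : Type*) [Fintype α] [DecidableEq α] (hα : Fintype.card α = 24) (B : Set (Finset α)) (hB : Cfsg.IsSteinerSystem 5 8 B) (Y : Finset α) (hY : Y.card = 3) : {b : Finset α | b ∈ B ∧ (b ∩ Y).card = 3}.ncard = 21 ∧ {b : Finset α | b ∈ B ∧ (b ∩ Y).card = 2}.ncard = 168 ∧ {b : Finset α | b ∈ B ∧ (b ∩ Y).card = 1}.ncard = 360 ∧ {b : Finset α | b ∈ B ∧ (b ∩ Y).card = 0}.ncard = 210 := by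
  classical
  set S := B.toFinite.toFinset with hS
  have hS' : (S : Set (Finset α)) = B := B.toFinite.coe_toFinset
  have hSt : Cfsg.IsSteinerSystem 5 8 (S : Set (Finset α)) := by rw [hS']; exact hB
  have hn : ∀ k, {b : Finset α | b ∈ B ∧ (b ∩ Y).card = k}.ncard =
      (S.filter fun b => (b ∩ Y).card = k).card := by
    intro k
    rw [← Set.ncard_coe_finset, Finset.coe_filter]
    congr 1
    ext b
    simp [hS]
  have hsum : ∀ j, ∑ b ∈ S, (b ∩ Y).card.choose j =
      ∑ T ∈ Finset.powersetCard j Y, (S.filter fun b => T ⊆ b).card := by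
    intro j
    simp only [Finset.card_filter]
    rw [Finset.sum_comm]
    refine Finset.sum_congr rfl fun b _ => ?_
    rw [← Finset.card_powersetCard, ← Finset.card_filter]
    congr 1
    ext T
    simp only [Finset.mem_powersetCard, Finset.mem_filter, Finset.subset_inter_iff]
    tauto
  have hlam : ∀ j, ∀ T ∈ Finset.powersetCard j Y, j ≤ 5 → (S.filter fun b => T ⊆ b).card *
      (8 - j).choose (5 - j) = (24 - j).choose (5 - j) := by
    intro j T hT hj
    have h := count_containing S hSt T (by rw [(Finset.mem_powersetCard.1 hT).2]; exact hj)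
    rwa [(Finset.mem_powersetCard.1 hT).2, hα] at h
  have tot : ∀ j, j ≤ 3 → ∀ L, L * (8 - j).choose (5 - j) = (24 - j).choose (5 - j) →
      ∑ b ∈ S, (b ∩ Y).card.choose j = Nat.choose 3 j * L := by
    intro j hj L hL
    rw [hsum, Finset.sum_const_nat (m := L), Finset.card_powersetCard, hY]
    intro T hT
    have := hlam j T hT (by omega)
    rw [← hL] at this
    exact Nat.eq_of_mul_eq_mul_right (Nat.choose_pos (by omega)) this
  have fib : ∀ j, ∑ b ∈ S, (b ∩ Y).card.choose j =
      ∑ k ∈ Finset.range 4, (S.filter fun b => (b ∩ Y).card = k).card * k.choose j := by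
    intro j
    rw [← Finset.sum_fiberwise_of_maps_to (t := Finset.range 4) (g := fun b => (b ∩ Y).card)]
    · refine Finset.sum_congr rfl fun k _ => ?_
      rw [Finset.sum_const_nat]
      intro b hb
      rw [(Finset.mem_filter.1 hb).2]
    · intro b _
      have := Finset.card_le_card (Finset.inter_subset_right (s₁ := b) (s₂ := Y))
      simp; omega
  have t0 := (fib 0).symm.trans (tot 0 (by omega) 759 (by decide))
  have t1 := (fib 1).symm.trans (tot 1 (by omega) 253 (by decide))
  have t2 := (fib 2).symm.trans (tot 2 (by omega) 77 (by decide))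
  have t3 := (fib 3).symm.trans (tot 3 (by omega) 21 (by decide))
  simp only [Finset.sum_range_succ, Finset.sum_range_zero] at t0 t1 t2 t3
  norm_num [Nat.choose] at t0 t1 t2 t3
  rw [hn, hn, hn, hn]
  simp only [Finset.card_eq_zero] at *
  refine ⟨?_, ?_, ?_, ?_⟩ <;> omega

end Cfsg.Agent.S5625
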