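import Cfsg.Statements.S5632
import Cfsg.Agent.Lib.Transvec.Subspaces

set_option autoImplicit false
open Cfsg

namespace Cfsg.Agent.S5632

/-- For a finite field F and subspaces 0 < W < U of F^n with dim W + dim U = n, the elements of SL_n(F) stabilising both W and U form a subgroup that is not maximal in SL_n(F): some subgroup lies strictly between it and SL_n(F). -/
theorem result {F : Type*} [Field F] [Fintype F] (n : ℕ) (W U : Submodule F (Fin n → F)) (hW0 : W ≠ ⊥) (hWU : W < U) (hdim : Module.finrank F W + Module.finrank F U = n) : ∃ K : Subgroup (Matrix.GeneralLinearGroup (Fin n) F), Cfsg.Geo.subspaceStabilizer W ⊓ Cfsg.Geo.subspaceStabilizer U ⊓ Cfsg.Geo.specialLinear (Fin n) F < K ∧ K < Cfsg.Geo.specialLinear (Fin n) F := by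
  have hU : U ≠ ⊤ := by
    intro h
    rw [h, finrank_top, Module.finrank_pi, Fintype.card_fin] at hdim
    exact hW0 (Submodule.finrank_eq_zero.1 (by omega))
  obtain ⟨u, hu, huW⟩ := SetLike.exists_of_lt hWU
  obtain ⟨z, hz⟩ : ∃ z, z ∉ U := by
    by_contra h
    exact hU (Submodule.eq_top_iff'.2 fun x => by_contra fun hx => h ⟨x, hx⟩)
  refine ⟨_, Cfsg.Agent.Transvec.stab_stab_lt hu hz ?_,
    Cfsg.Agent.Transvec.stab_inf_lt_special hW0 (fun h => hU (eq_top_iff.2 (h ▸ hWU.le)))⟩
  intro hm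
  obtain ⟨w, hw, x, hx, hsum⟩ := Submodule.mem_sup.1 hm
  obtain ⟨a, rfl⟩ := Submodule.mem_span_singleton.1 hx
  rcases eq_or_ne a 0 with rfl | ha
  · exact huW (by simpa [← hsum] using hw)
  · apply hz
    have : a • z ∈ U := by
      rw [eq_sub_of_add_eq' hsum]
      exact U.sub_mem hu (hWU.le hw)
    simpa [smul_smul, inv_mul_cancel₀ ha] using U.smul_mem a⁻¹ this

end Cfsg.Agent.S5632
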