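import Cfsg.Statements.S5633
import Cfsg.Agent.Lib.Transvec.Subspaces

set_option autoImplicit false
open Cfsg

namespace Cfsg.Agent.S5633

/-- For a finite field F and complementary non-zero subspaces W ⊕ U = F^n with dim W < dim U, the elements of SL_n(F) stabilising both W and U form a subgroup that is not maximal in SL_n(F): some subgroup lies strictly between it and SL_n(F). -/
theorem result {F : Type*} [Field F] [Fintype F] (n : ℕ) (W U : Submodule F (Fin n → F)) (hW0 : W ≠ ⊥) (hWU : W ⊓ U = ⊥) (hWU' : W ⊔ U = ⊤) (hdim : Module.finrank F W < Module.finrank F U) : ∃ K : Subgroup (Matrix.GeneralLinearGroup (Fin n) F), Cfsg.Geo.subspaceStabilizer W ⊓ Cfsg.Geo.subspaceStabilizer U ⊓ Cfsg.Geo.specialLinear (Fin n) F < K ∧ K < Cfsg.Geo.specialLinear (Fin n) F := by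
  obtain ⟨w, hw, hw0⟩ := W.ne_bot_iff.1 hW0
  obtain ⟨u, hu, hu0⟩ := U.ne_bot_iff.1 (fun h => by
    rw [h, finrank_bot] at hdim; omega)
  have hW1 : W ≠ ⊤ := fun h => hu0 (by
    rw [h, top_inf_eq] at hWU; rw [hWU] at hu; simpa using hu)
  refine ⟨_, Cfsg.Agent.Transvec.stab_stab_lt hu (z := w) ?_ ?_,
    Cfsg.Agent.Transvec.stab_inf_lt_special hW0 hW1⟩
  · intro h
    exact hw0 (by simpa [hWU] using Submodule.mem_inf.2 ⟨hw, h⟩)
  · intro hm
    have : u ∈ W := (sup_le le_rfl ((Submodule.span_singleton_le_iff_mem _ _).2 hw)) hm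
    exact hu0 (by simpa [hWU] using Submodule.mem_inf.2 ⟨this, hu⟩)

end Cfsg.Agent.S5633
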