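import Cfsg.Statements.S5639
import Cfsg.Agent.Lib.Transvec.SubfieldSL
-- import your own Cfsg.Agent.* helpers here

set_option autoImplicit false
open Cfsg

namespace Cfsg.Agent.S5639

/-- For a finite field F, a subfield F₀ with |F| = |F₀| ^ r for a prime r, and n ≥ 13, the subfield group (the conjugate by any P of the product of GL_n(F₀) with the non-zero scalars of F, intersected with SL_n(F)) is a maximal subgroup of SL_n(F). -/
theorem result {F : Type*} [Field F] [Fintype F] (n : ℕ) (hn : 13 ≤ n) (F₀ : Subfield F) (r : ℕ) (hr : r.Prime) (hcard : Fintype.card F = Nat.card F₀ ^ r) (P : Matrix.GeneralLinearGroup (Fin n) F) : Cfsg.Geo.IsMaximalIn (Cfsg.Geo.specialLinear (Fin n) F) (Cfsg.Geo.subfieldSubgroup F₀ P ⊓ Cfsg.Geo.specialLinear (Fin n) F) := by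
  have h := Cfsg.Agent.Transvec.isMaximalIn_map (MulAut.conj P)
    (Cfsg.Agent.Transvec.sl_subfield_maximal (n := n) (by omega) hr hcard)
  have hnormal : (Cfsg.Geo.specialLinear (Fin n) F).map (MulAut.conj P).toMonoidHom =
      Cfsg.Geo.specialLinear (Fin n) F := by
    have hN : (Cfsg.Geo.specialLinear (Fin n) F).Normal := MonoidHom.normal_ker _
    ext x
    constructor
    · rintro ⟨y, hy, rfl⟩
      exact hN.conj_mem y hy P
    · intro hx
      refine ⟨P⁻¹ * x * P, ?_, by simp [mul_assoc]⟩
      simpa using hN.conj_mem x hx P⁻¹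
  rw [Subgroup.map_inf _ _ _ (MulAut.conj P).injective, hnormal] at h
  exact h


end Cfsg.Agent.S5639
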