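import Cfsg.Statements.S5650
import Cfsg.Agent.Lib.Transvec.SubfieldSymp
import Cfsg.Agent.Lib.Transvec.SympStd
-- import your own Cfsg.Agent.* helpers here

set_option autoImplicit false
open Cfsg

namespace Cfsg.Agent.S5650

/-- For a finite field F, a subfield F₀ with |F| = |F₀| ^ r for a prime r, and m ≥ 7, let P be an invertible matrix and ζ a non-zero scalar such that ζ times the standard alternating form takes values in F₀ on the F₀-span of the columns of P. Then the elements of Sp_2m(F) lying in the subfield group of P (the conjugate by P of the product of GL_2m(F₀) with the scalars) form a maximal subgroup of Sp_2m(F). -/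
theorem result {F : Type*} [Field F] [Fintype F] (m : ℕ) (hm : 7 ≤ m) (F₀ : Subfield F) (r : ℕ) (hr : r.Prime) (hcard : Fintype.card F = Nat.card F₀ ^ r) (P : Matrix.GeneralLinearGroup (Fin m ⊕ Fin m) F) (ζ : F) (hζ : ζ ≠ 0) (hP : Cfsg.Geo.IsFormRationalStructure (Cfsg.sympForm m F) F₀ ζ P) : Cfsg.Geo.IsMaximalIn (Cfsg.spGL m F) (Cfsg.Geo.subfieldSubgroup F₀ P ⊓ Cfsg.spGL m F) := by
  set f' : (Fin m ⊕ Fin m → F) → (Fin m ⊕ Fin m → F) → F :=
    fun u v => ζ * sympForm m F (Cfsg.Agent.Transvec.mv P u) (Cfsg.Agent.Transvec.mv P v) with hf'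
  have hs := Cfsg.Agent.Transvec.sympForm_isSymplectic m F
  have hf : Geo.IsSymplecticForm f' :=
    { bilinear :=
        { add_left := fun x y v => by simp only [hf', Cfsg.Agent.Transvec.mv_add, hs.bilinear.add_left, mul_add]
          smul_left := fun c x v => by
            simp only [hf', Cfsg.Agent.Transvec.mv_smul, hs.bilinear.smul_left]; ring
          add_right := fun v x y => by simp only [hf', Cfsg.Agent.Transvec.mv_add, hs.bilinear.add_right, mul_add]
          smul_right := fun c v x => by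
            simp only [hf', Cfsg.Agent.Transvec.mv_smul, hs.bilinear.smul_right]; ring }
      skew := fun v w => by simp only [hf']; rw [hs.skew]; ring
      alternating := fun v => by simp only [hf', hs.alternating, mul_zero]
      nondegenerate := fun v hv => by
        have hv' : Cfsg.Agent.Transvec.mv P v ≠ 0 := fun h =>
          hv (Cfsg.Agent.Transvec.mv_inj P (h.trans (Cfsg.Agent.Transvec.mv_zero P).symm))
        obtain ⟨⟨x, hx⟩, ⟨y, hy⟩⟩ := hs.nondegenerate _ hv'
        refine ⟨⟨Cfsg.Agent.Transvec.mv P⁻¹ x, ?_⟩, ⟨Cfsg.Agent.Transvec.mv P⁻¹ y, ?_⟩⟩ <;>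
          simp only [hf', Cfsg.Agent.Transvec.mv_mv_inv] <;> exact mul_ne_zero hζ ‹_› }
  have h := Cfsg.Agent.Transvec.isMaximalIn_map (MulAut.conj P)
    (Cfsg.Agent.Transvec.sp_subfield_maximal hf hr hcard (by simp; omega) (fun u v hu hv => hP u v hu hv))
  have hmap : (preserving (Units.coeHom (Matrix (Fin m ⊕ Fin m) (Fin m ⊕ Fin m) F)) f').map
      (MulAut.conj P).toMonoidHom = spGL m F := by
    ext x
    constructor
    · rintro ⟨y, hy, rfl⟩
      show ∀ u v, sympForm m F (Cfsg.Agent.Transvec.mv (P * y * P⁻¹) u)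
        (Cfsg.Agent.Transvec.mv (P * y * P⁻¹) v) = sympForm m F u v
      intro u v
      have h1 : f' (Cfsg.Agent.Transvec.mv y (Cfsg.Agent.Transvec.mv P⁻¹ u))
          (Cfsg.Agent.Transvec.mv y (Cfsg.Agent.Transvec.mv P⁻¹ v)) =
          f' (Cfsg.Agent.Transvec.mv P⁻¹ u) (Cfsg.Agent.Transvec.mv P⁻¹ v) := hy _ _
      simp only [hf', Cfsg.Agent.Transvec.mv_mv_inv] at h1
      simp only [Cfsg.Agent.Transvec.mv_mul]
      exact mul_left_cancel₀ hζ h1
    · intro hx
      refine ⟨P⁻¹ * x * P, ?_, by simp [mul_assoc]⟩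
      show ∀ u v, f' (Cfsg.Agent.Transvec.mv (P⁻¹ * x * P) u) (Cfsg.Agent.Transvec.mv (P⁻¹ * x * P) v) = f' u v
      intro u v
      simp only [hf', Cfsg.Agent.Transvec.mv_mul, Cfsg.Agent.Transvec.mv_mv_inv]
      exact congrArg (ζ * ·) (hx (Cfsg.Agent.Transvec.mv P u) (Cfsg.Agent.Transvec.mv P v))
  rw [Subgroup.map_inf _ _ _ (MulAut.conj P).injective, hmap] at h
  exact h

end Cfsg.Agent.S5650
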