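import Cfsg.Statements.S5657
import Cfsg.Agent.Lib.Transvec.HermStd
import Cfsg.Agent.Lib.Transvec.HermPairMax
-- import your own Cfsg.Agent.* helpers here

set_option autoImplicit false
open Cfsg

namespace Cfsg.Agent.S5657

/-- Let F be the field with q² elements and n = 2k ≥ 13. Let D be a decomposition of F^n into two complementary subspaces of dimension k on each of which the standard unitary form vanishes identically. Then the elements of SU_n(q) preserving or interchanging the two subspaces form a maximal subgroup of SU_n(q). -/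
theorem result {F : Type*} [Field F] [Fintype F] (n q : ℕ) (hF : Fintype.card F = q ^ 2) (hn : 13 ≤ n) (k : ℕ) (hk : 2 * k = n) (D : Fin 2 → Submodule F (Fin n → F)) (hD : Cfsg.Geo.IsMDecomposition k D) (hts : ∀ i, Cfsg.Geo.IsTotallySingularFor (Cfsg.hermForm n F q) (D i)) : Cfsg.Geo.IsMaximalIn (Cfsg.GU n F q ⊓ Cfsg.Geo.specialLinear (Fin n) F) (Cfsg.Geo.decompositionStabilizer D ⊓ (Cfsg.GU n F q ⊓ Cfsg.Geo.specialLinear (Fin n) F)) := by
  obtain ⟨σ, hσ, -, hf⟩ := Cfsg.Agent.Transvec.Herm.exists_unitary_std (n := n) hF (by omega)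
  have hne : ∀ i : Fin 2, i = 0 ∨ i = 1 := fun i => by fin_cases i <;> simp
  have hc : IsCompl (D 0) (D 1) := by
    refine ⟨hD.indep.pairwiseDisjoint (by decide), codisjoint_iff.2 (eq_top_iff.2 ?_)⟩
    rw [← hD.iSup_eq_top]
    refine iSup_le fun i => ?_
    rcases hne i with rfl | rfl
    · exact le_sup_left
    · exact le_sup_right
  have hk6 : ∀ i, 6 ≤ Module.finrank F (D i) := fun i => by rw [hD.finrank_eq]; omega
  refine Cfsg.Agent.Transvec.Herm.pair_stab_maximal hf (fun u hu v hv => hts 0 u hu v hv)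
    (fun u hu v hv => hts 1 u hu v hv) hc ((by norm_num : 3 ≤ 6).trans (hk6 0)) ((by norm_num : 3 ≤ 6).trans (hk6 1)) fun g => ?_
  have key : ∀ a b : Fin 2, (D a).map (Matrix.toLin' (g : Matrix (Fin n) (Fin n) F)) = D b ↔
      ∀ u ∈ D a, Cfsg.Agent.Transvec.mv g u ∈ D b := by
    intro a b
    constructor
    · intro h u hu
      rw [← h]
      exact ⟨u, hu, Matrix.toLin'_apply _ _⟩
    · intro h
      have hinj : Function.Injective (Matrix.toLin' (g : Matrix (Fin n) (Fin n) F)) := fun x y e =>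
        Cfsg.Agent.Transvec.mv_inj g (by rwa [Matrix.toLin'_apply, Matrix.toLin'_apply] at e)
      refine Submodule.eq_of_le_of_finrank_eq ?_ ?_
      · rintro _ ⟨u, hu, rfl⟩
        rw [Matrix.toLin'_apply]
        exact h u hu
      · rw [← LinearEquiv.finrank_eq (Submodule.equivMapOfInjective _ hinj (D a)), hD.finrank_eq, hD.finrank_eq]
  constructor
  · rintro ⟨⟨π, hπ⟩, hg⟩
    refine ⟨hg, ?_⟩
    rcases hne (π 0) with h0 | h0 <;> rcases hne (π 1) with h1 | h1
    · exact absurd (π.injective (h0.trans h1.symm)) (by decide)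
    · exact Or.inl ⟨(key 0 0).1 ((hπ 0).trans (congrArg D h0)), (key 1 1).1 ((hπ 1).trans (congrArg D h1))⟩
    · exact Or.inr ⟨(key 0 1).1 ((hπ 0).trans (congrArg D h0)), (key 1 0).1 ((hπ 1).trans (congrArg D h1))⟩
    · exact absurd (π.injective (h0.trans h1.symm)) (by decide)
  · rintro ⟨hg, ⟨h0, h1⟩ | ⟨h0, h1⟩⟩
    · refine ⟨⟨1, fun i => ?_⟩, hg⟩
      rcases hne i with rfl | rfl
      · exact (key 0 0).2 h0
      · exact (key 1 1).2 h1
    · refine ⟨⟨Equiv.swap 0 1, fun i => ?_⟩, hg⟩
      rcases hne i with rfl | rfl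
      · rw [Equiv.swap_apply_left]; exact (key 0 1).2 h0
      · rw [Equiv.swap_apply_right]; exact (key 1 0).2 h1

end Cfsg.Agent.S5657
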