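import Cfsg.Statements.S5675
import Cfsg.Agent.Lib.Transvec.OrthNondegMax
-- import your own Cfsg.Agent.* helpers here

set_option autoImplicit false
open Cfsg

namespace Cfsg.Agent.S5675

/-- Let F be a finite field of odd order q, m ≥ 6, Q the standard quadratic form on F^(2m+1) and Ω the commutator subgroup of its isometry group. Let W be a non-zero subspace of even dimension on which the polar form of Q is non-degenerate; exclude the case q = 3, dim W = 2 with Q vanishing on some line of W (a plus-type plane). Then the elements of Ω stabilising W (equivalently, stabilising its orthogonal complement, of odd dimension) form a maximal subgroup of Ω. -/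
theorem result {F : Type*} [Field F] [Fintype F] (hodd : Odd (Fintype.card F)) (m : ℕ) (hm : 6 ≤ m) (W : Submodule F (Unit ⊕ (Fin m ⊕ Fin m) → F)) (hW0 : W ≠ ⊥) (hev : Even (Module.finrank F W)) (hW : Cfsg.Geo.IsNondegenerateOn (QuadraticMap.polar (Cfsg.quadFormOdd m F)) W) (hex : ¬ (Fintype.card F = 3 ∧ Module.finrank F W = 2 ∧ Cfsg.Geo.IsPlusTypeOn (Cfsg.quadFormOdd m F) W)) : Cfsg.Geo.IsMaximalIn (Cfsg.Geo.omegaGL (Cfsg.quadFormOdd m F)) (Cfsg.Geo.subspaceStabilizer W ⊓ Cfsg.Geo.omegaGL (Cfsg.quadFormOdd m F)) := by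
  have hQ := Cfsg.Agent.Transvec.Orth.quadFormOdd_nondegenerate m
    (Cfsg.Agent.Transvec.Orth.two_ne_zero_of_odd_card hodd)
  have hn : Fintype.card (Unit ⊕ (Fin m ⊕ Fin m)) = 1 + (m + m) := by simp
  obtain ⟨j, hj⟩ := hev
  have hW1 : W ≠ ⊤ := fun h => by
    subst h
    rw [finrank_top, Module.finrank_pi, hn] at hj
    omega
  refine Cfsg.Agent.Transvec.Orth.stab_nondeg_even hQ (by omega) hW hW0 hW1 (Or.inl (by omega)) ?_
  rintro ⟨hq, U, h2, -, hp, hU⟩
  obtain ⟨i, hi⟩ := hodd
  have h1 : 1 < Fintype.card F := Fintype.one_lt_card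
  rcases hU with rfl | ⟨-, hsum⟩
  · exact hex ⟨by omega, h2, hp⟩
  · omega

end Cfsg.Agent.S5675
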