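import Cfsg.Statements.S5677
import Cfsg.Agent.Lib.Transvec.OrthWreathMax
-- import your own Cfsg.Agent.* helpers here

set_option autoImplicit false
open Cfsg

namespace Cfsg.Agent.S5677

/-- Let F be a finite field of odd order q, m ≥ 6, Q the standard quadratic form on F^(2m+1) and Ω the commutator subgroup of its isometry group. Let D be a decomposition of F^(2m+1) into t ≥ 2 pairwise orthogonal, pairwise Q-isometric subspaces of equal dimension k > 1 on which the polar form is non-degenerate. Unless q = 3 and k = 3, the elements of Ω permuting the members of D form a maximal subgroup of Ω. -/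
theorem result {F : Type*} [Field F] [Fintype F] (hodd : Odd (Fintype.card F)) (m : ℕ) (hm : 6 ≤ m) {t : ℕ} (k : ℕ) (hk : 1 < k) (D : Fin t → Submodule F (Unit ⊕ (Fin m ⊕ Fin m) → F)) (hD : Cfsg.Geo.IsOrthogonalMDecomposition (Cfsg.quadFormOdd m F) k D) (hex : ¬ (Fintype.card F = 3 ∧ k = 3)) : Cfsg.Geo.IsMaximalIn (Cfsg.Geo.omegaGL (Cfsg.quadFormOdd m F)) (Cfsg.Geo.decompositionStabilizer D ⊓ Cfsg.Geo.omegaGL (Cfsg.quadFormOdd m F)) := by
  have h2 := Cfsg.Agent.Transvec.Orth.two_ne_zero_of_odd_card hodd
  have hI : DirectSum.IsInternal D :=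
    DirectSum.isInternal_submodule_of_iSupIndep_of_iSup_eq_top hD.decomp.decomp.indep hD.decomp.decomp.iSup_eq_top
  let b : ∀ i, Module.Basis (Fin k) F (D i) := fun i =>
    Module.finBasisOfFinrankEq F (D i) (hD.decomp.decomp.finrank_eq i)
  have hcard := Module.finrank_eq_card_basis (hI.collectedBasis b)
  rw [Module.finrank_pi, Fintype.card_sigma] at hcard
  simp only [Fintype.card_fin, Finset.sum_const, Finset.card_univ, smul_eq_mul, Fintype.card_sum,
    Fintype.card_unit] at hcard
  have hko : Odd k := by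
    rcases Nat.even_or_odd k with ⟨j, hj⟩ | h
    · exfalso
      rw [hj, show t * (j + j) = 2 * (t * j) by ring] at hcard
      omega
    · exact h
  obtain ⟨j, hj⟩ := hko
  refine Cfsg.Agent.Transvec.Orth.orth_wreath_maximal
    (Cfsg.Agent.Transvec.Orth.quadFormOdd_nondegenerate m h2) hD (by simp; omega) h2 (by omega) fun h3 => ?_
  obtain ⟨r, hr⟩ := hodd
  have := Fintype.one_lt_card (α := F)
  have : Fintype.card F ≠ 3 := fun h => hex ⟨h, h3⟩
  omega

end Cfsg.Agent.S5677
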