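import Cfsg.Statements.S5680
import Cfsg.Agent.Lib.OrthFieldExt.Main
import Cfsg.Agent.Lib.Transvec.OrthStab

set_option autoImplicit false
open Cfsg

namespace Cfsg.Agent.S5680

/-- Let F be a finite field of odd order, m ≥ 6, Q the standard quadratic form on F^(2m+1) and Ω the commutator subgroup of its isometry group. Let K be a subfield of the algebra of (2m+1) × (2m+1) matrices over F containing the scalars, of prime degree r over F with r ≠ 2m + 1, whose elements are self-adjoint for the polar form of Q. Then the elements of Ω normalising K form a maximal subgroup of Ω. -/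
theorem result {F : Type*} [Field F] [Fintype F] (hodd : Odd (Fintype.card F)) (m : ℕ) (hm : 6 ≤ m) (r : ℕ) (hr : r.Prime) (hrn : 2 * m + 1 ≠ r) (K : Subalgebra F (Matrix (Unit ⊕ (Fin m ⊕ Fin m)) (Unit ⊕ (Fin m ⊕ Fin m)) F)) (hK : Cfsg.Geo.IsFieldSubalgebra r K) (hsa : Cfsg.Geo.IsSelfAdjointFor (QuadraticMap.polar (Cfsg.quadFormOdd m F)) K) : Cfsg.Geo.IsMaximalIn (Cfsg.Geo.omegaGL (Cfsg.quadFormOdd m F)) (Cfsg.Geo.subalgebraNormalizer K ⊓ Cfsg.Geo.omegaGL (Cfsg.quadFormOdd m F)) := by
  have h2 : (2 : F) ≠ 0 := fun h2 => by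
    have h0 : (Fintype.card F : F) = 0 := FiniteField.cast_card_eq_zero F
    obtain ⟨k, hk⟩ := hodd
    rw [hk] at h0
    push_cast at h0
    rw [h2, zero_mul, zero_add] at h0
    exact one_ne_zero h0
  refine OrthFieldExt.normalizer_maximal (Transvec.Orth.quadFormOdd_nondegenerate m h2) h2 hr hK hsa
    (by simp; omega) fun d hd => ?_
  have hd' : d * r = 2 * m + 1 := by rw [hd]; simp; omega
  have hodd' : Odd d := (Nat.odd_mul.1 (hd' ▸ odd_two_mul_add_one m)).1
  have hd1 : d ≠ 1 := fun h => hrn (by rw [← hd', h, one_mul])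
  obtain ⟨e, he⟩ := hodd'
  refine ⟨by omega, fun h4 => ?_⟩
  obtain rfl : d = 3 := by omega
  omega

end Cfsg.Agent.S5680
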