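import Cfsg.Statements.S5681
import Cfsg.Agent.Lib.OrthTensor.Main

set_option autoImplicit false
open Cfsg

namespace Cfsg.Agent.S5681

/-- Let F be a finite field of odd order q, m ≥ 6, Q the standard quadratic form on F^(2m+1) and Ω the commutator subgroup of its isometry group. Suppose the polar form of Q is similar, through a change of basis P and a bijection of index sets e, to the tensor product of non-degenerate symmetric bilinear forms f₁ on F^(n₁) and f₂ on F^(n₂) with 3 ≤ n₁ < n₂. Unless q = 3 and n₁ = 3, the elements of Ω in the stabiliser of this tensor decomposition form a maximal subgroup of Ω. -/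
theorem result {F : Type*} [Field F] [Fintype F] (hodd : Odd (Fintype.card F)) (m : ℕ) (hm : 6 ≤ m) (n₁ n₂ : ℕ) (h1 : 3 ≤ n₁) (h12 : n₁ < n₂) (hex : ¬ (Fintype.card F = 3 ∧ n₁ = 3)) (e : (Unit ⊕ (Fin m ⊕ Fin m)) ≃ Fin n₁ × Fin n₂) (P : Matrix.GeneralLinearGroup (Unit ⊕ (Fin m ⊕ Fin m)) F) (f₁ : (Fin n₁ → F) → (Fin n₁ → F) → F) (f₂ : (Fin n₂ → F) → (Fin n₂ → F) → F) (hf₁ : Cfsg.Geo.IsSymmetricForm f₁) (hf₂ : Cfsg.Geo.IsSymmetricForm f₂) (hT : Cfsg.Geo.IsTensorFormStructure id (QuadraticMap.polar (Cfsg.quadFormOdd m F)) f₁ f₂ e P) : Cfsg.Geo.IsMaximalIn (Cfsg.Geo.omegaGL (Cfsg.quadFormOdd m F)) (Cfsg.Geo.tensorProductSubgroup n₁ n₂ e P ⊓ Cfsg.Geo.omegaGL (Cfsg.quadFormOdd m F)) := by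
  haveI := Classical.decEq F
  have h2 : (2 : F) ≠ 0 := fun h => by
    obtain ⟨k, hk⟩ := hodd
    have hc := Nat.cast_card_eq_zero F
    rw [hk, Nat.cast_add, Nat.cast_mul, Nat.cast_ofNat, h, zero_mul, zero_add, Nat.cast_one] at hc
    exact one_ne_zero hc
  have hcard : n₁ * n₂ = 2 * m + 1 := by
    have h := Fintype.card_congr e
    simp only [Fintype.card_sum, Fintype.card_prod, Fintype.card_fin, Fintype.card_unit] at h
    omega
  have ho : Odd n₁ ∧ Odd n₂ := Nat.odd_mul.1 ⟨m, hcard⟩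
  have hι : Fintype.card (Unit ⊕ (Fin m ⊕ Fin m)) = 2 * m + 1 := by simp; omega
  obtain ⟨k₁, hk₁⟩ := ho.1
  obtain ⟨k₂, hk₂⟩ := ho.2
  refine Cfsg.Agent.OrthTensor.orth_tensor_maximal h2 _
    (Cfsg.Agent.Transvec.Orth.quadFormOdd_nondegenerate m h2) (by rw [hι]; omega) h1 (by omega) (by omega)
    ?_ (Or.inr ho) e P f₁ f₂ hf₁ hf₂ hT
  by_contra hcon
  rw [not_or, not_le, not_le] at hcon
  have h3 : n₁ = 3 := by omega
  have hq : Fintype.card F ≠ 3 := fun hq => hex ⟨hq, h3⟩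
  have hone := Fintype.one_lt_card (α := F)
  obtain ⟨k, hk⟩ := hodd
  omega

end Cfsg.Agent.S5681
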