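import Cfsg.Statements.S5684
import Cfsg.Agent.Lib.OrthWreath.Main

set_option autoImplicit false
open Cfsg

namespace Cfsg.Agent.S5684

/-- Let F be a finite field of odd order q, m ≥ 6, Q the standard quadratic form on F^(2m+1) and Ω the commutator subgroup of its isometry group. Suppose the polar form of Q is similar, through a change of basis P and a bijection of index sets e, to the t-fold tensor power (t ≥ 2) of a non-degenerate symmetric bilinear form f₁ on F^k with k ≥ 3 and (q, k) ≠ (3, 3). Then the elements of Ω in the stabiliser of this decomposition form a maximal subgroup of Ω. -/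
theorem result {F : Type*} [Field F] [Fintype F] (hodd : Odd (Fintype.card F)) (m : ℕ) (hm : 6 ≤ m) (k t : ℕ) (hk : 3 ≤ k) (ht : 2 ≤ t) (hex : ¬ (Fintype.card F = 3 ∧ k = 3)) (e : (Unit ⊕ (Fin m ⊕ Fin m)) ≃ (Fin t → Fin k)) (P : Matrix.GeneralLinearGroup (Unit ⊕ (Fin m ⊕ Fin m)) F) (f₁ : (Fin k → F) → (Fin k → F) → F) (hf₁ : Cfsg.Geo.IsSymmetricForm f₁) (hT : Cfsg.Geo.IsTensorPowerFormStructure id (QuadraticMap.polar (Cfsg.quadFormOdd m F)) f₁ e P) : Cfsg.Geo.IsMaximalIn (Cfsg.Geo.omegaGL (Cfsg.quadFormOdd m F)) (Cfsg.Geo.tensorWreathSubgroup k t e P ⊓ Cfsg.Geo.omegaGL (Cfsg.quadFormOdd m F)) := by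
  have h2 := Transvec.Orth.two_ne_zero_of_odd_card hodd
  have hQ := Transvec.Orth.quadFormOdd_nondegenerate m h2
  have hcard : Fintype.card (Unit ⊕ (Fin m ⊕ Fin m)) = 2 * m + 1 := by
    simp only [Fintype.card_sum, Fintype.card_unit, Fintype.card_fin]; omega
  have hk' : Odd k := by
    have h := Fintype.card_congr e
    simp only [Fintype.card_fun, Fintype.card_fin, hcard] at h
    have ho : Odd (k ^ t) := ⟨m, h.symm⟩
    exact (Nat.odd_pow_iff (by omega)).1 ho
  refine OrthWreath.orth_odd_tensor_wreath_maximal (by omega) ⟨m, by omega⟩ h2 _ hQ k t hk ht ?_ e P f₁ hf₁ hT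
  rw [Nat.card_eq_fintype_card]
  by_cases h5 : 5 ≤ k
  · exact Or.inr h5
  refine Or.inl ?_
  obtain ⟨a, ha⟩ := hk'
  obtain ⟨b, hb⟩ := hodd
  have h3 : k = 3 := by omega
  have h1 := Fintype.one_lt_card (α := F)
  by_contra hc
  exact hex ⟨by omega, h3⟩

end Cfsg.Agent.S5684
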