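import Cfsg.Statements.S5699
import Cfsg.Agent.Lib.Transvec.OrthNondegMax
-- import your own Cfsg.Agent.* helpers here

set_option autoImplicit false
open Cfsg

namespace Cfsg.Agent.S5699

/-- Let F be a finite field with q elements, n ≥ 13 even, Q a non-degenerate quadratic form on F^n (of either type), and Ω the commutator subgroup of the isometry group of Q, viewed inside GL_n(F). Let D be a decomposition of F^n into two orthogonal subspaces of odd dimension n/2 on which the polar form is non-degenerate and which are not Q-isometric to each other. Then the elements of Ω permuting (necessarily fixing) the two subspaces form a maximal subgroup of Ω. -/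
theorem result {F : Type*} [Field F] [Fintype F] {n : ℕ} (hn : 13 ≤ n) (heven : Even n) (Q : (Fin n → F) → F) (hQ : Cfsg.Geo.IsNondegenerateQuadraticForm Q) (k : ℕ) (hk : 2 * k = n) (hko : Odd k) (D : Fin 2 → Submodule F (Fin n → F)) (hD : Cfsg.Geo.IsNondegenerateMDecomposition (QuadraticMap.polar Q) k D) (hni : ¬ Cfsg.Geo.AreIsometricFor Q (D 0) (D 1)) : Cfsg.Geo.IsMaximalIn (Cfsg.Geo.omegaGL Q) (Cfsg.Geo.decompositionStabilizer D ⊓ Cfsg.Geo.omegaGL Q) := by
  have hn11 : 11 ≤ Fintype.card (Fin n) := by simp; omega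
  have hU : Cfsg.Agent.Transvec.Orth.Nondeg Q (D 0) := Cfsg.Agent.Transvec.Orth.nondeg_of (hD.nondegenerate 0)
  have hd := (Cfsg.Agent.Transvec.Orth.orth_nondeg hQ hU).2
  have h0 := hD.decomp.finrank_eq 0
  have h1 := hD.decomp.finrank_eq 1
  rw [Fintype.card_fin] at hd
  have horth : D 1 = Cfsg.Agent.Transvec.Orth.orth hQ (D 0) :=
    Submodule.eq_of_le_of_finrank_le (fun x hx u hu => hD.orthogonal 0 1 (by decide) u hu x hx) (by omega)
  have hno : ∀ g ∈ isometryGroup F Q, ¬ ∀ x ∈ D 0, Cfsg.Agent.Transvec.mv g x ∈ D 1 := by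
    intro g hg h
    let f : D 0 →ₗ[F] D 1 := ((Cfsg.Agent.Transvec.mvLin g).comp (D 0).subtype).codRestrict (D 1) fun x => by
      simpa [Cfsg.Agent.Transvec.mv] using h x x.2
    have hinj : Function.Injective f := fun a b hab => Subtype.ext (Cfsg.Agent.Transvec.mv_inj g (by
      simpa [f, Cfsg.Agent.Transvec.mv] using congrArg Subtype.val hab))
    have hfr : Module.finrank F (D 0) = Module.finrank F (D 1) := by rw [h0, h1]
    exact hni ⟨f.linearEquivOfInjective hinj hfr, fun w => by
      simpa [f, Cfsg.Agent.Transvec.mv] using Cfsg.Agent.Transvec.Orth.mem_isometry.1 hg (w : Fin n → F)⟩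
  have heq : Cfsg.Geo.decompositionStabilizer D ⊓ Cfsg.Geo.omegaGL Q =
      Cfsg.Geo.subspaceStabilizer (Cfsg.Agent.Transvec.Orth.orth hQ (D 0)) ⊓ Cfsg.Geo.omegaGL Q := by
    rw [← horth]
    ext g
    refine ⟨fun hg => ⟨?_, hg.2⟩, fun hg => ⟨?_, hg.2⟩⟩
    · obtain ⟨σ, hσ⟩ := hg.1
      rcases eq_or_ne (σ 1) 1 with h | h
      · exact Cfsg.Agent.Transvec.mem_subspaceStabilizer_of_le fun x hx =>
          (h ▸ hσ 1).le ⟨x, hx, by simp [Cfsg.Agent.Transvec.mv]⟩
      · have h' : σ 0 = 1 := by
          have : σ 1 ≠ σ 0 := fun e => absurd (σ.injective e) (by decide)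
          omega
        exact absurd (fun x hx => (h' ▸ hσ 0).le ⟨x, hx, by simp [Cfsg.Agent.Transvec.mv]⟩)
          (hno g (Cfsg.Agent.Transvec.Orth.omega_le_isometry hQ hg.2))
    · have hgU : g ∈ Cfsg.Geo.subspaceStabilizer (D 0) := by
        have := (Cfsg.Agent.Transvec.Orth.stab_inf_omega_orth hQ hU).le ⟨horth ▸ hg.1, hg.2⟩
        exact this.1
      refine ⟨1, fun i => ?_⟩
      have hi : g ∈ Cfsg.Geo.subspaceStabilizer (D i) := by
        fin_cases i
        exacts [hgU, hg.1]
      refine Submodule.eq_of_le_of_finrank_eq ?_ (LinearEquiv.finrank_eq (Submodule.equivMapOfInjective _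
        (fun a b hab => Cfsg.Agent.Transvec.mv_inj g (by simpa [Cfsg.Agent.Transvec.mv] using hab)) (D i))).symm
      rintro _ ⟨x, hx, rfl⟩
      simpa [Cfsg.Agent.Transvec.mv] using Cfsg.Agent.Transvec.mv_mem_of_mem_stab hi hx
  rw [heq]
  refine Cfsg.Agent.Transvec.Orth.stab_nondeg_maximal hQ (by omega) hU (by omega) (fun h => absurd h (by omega)) (by rw [← horth]; omega) ?_ ?_ ?_
  · exact fun h => by rw [h, finrank_bot] at hd; omega
  · intro g hg
    by_contra hc
    push Not at hc
    exact hno g hg fun x hx => horth ▸ hc x hx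
  · intro h2
    rw [← horth] at h2
    omega

end Cfsg.Agent.S5699
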