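import Cfsg.Statements.S5707
import Cfsg.Agent.Lib.TensorOver.Main

set_option autoImplicit false
open Cfsg

namespace Cfsg.Agent.S5707

/-- Let F be a finite field with q elements, n ≥ 13 even, Q a non-degenerate quadratic form on F^n of plus type (some subspace of dimension n/2 is totally singular), and Ω the commutator subgroup of the isometry group of Q, viewed inside GL_n(F). Suppose q is even and that, through P and e, the polar form of Q is similar to the t-fold tensor power (t ≥ 2) of a non-degenerate symplectic form f₁ on F^k with k ≤ 4 and (q, k) ≠ (2, 2), Q vanishing on the images of all pure tensors. Then the elements of Ω in the stabiliser of this decomposition form a subgroup that is not maximal: some subgroup lies strictly between it and Ω. -/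
theorem result {F : Type*} [Field F] [Fintype F] {n : ℕ} (hn : 13 ≤ n) (heven : Even n) (Q : (Fin n → F) → F) (hQ : Cfsg.Geo.IsNondegenerateQuadraticForm Q) (hplus : Cfsg.Geo.IsPlusTypeOn Q ⊤) (hchar : ¬ Odd (Fintype.card F)) (k t : ℕ) (ht : 2 ≤ t) (hk : k ≤ 4) (hex1 : ¬ (Fintype.card F = 2 ∧ k = 2)) (e : (Fin n) ≃ (Fin t → Fin k)) (P : Matrix.GeneralLinearGroup (Fin n) F) (f₁ : (Fin k → F) → (Fin k → F) → F) (hf₁ : Cfsg.Geo.IsSymplecticForm f₁) (hT : Cfsg.Geo.IsTensorPowerFormStructure id (QuadraticMap.polar Q) f₁ e P) (hpure : (∀ xs : Fin t → (Fin k → F), Q (Matrix.mulVec (P : Matrix (Fin n) (Fin n) F) ((fun a : Fin t → Fin k => ∏ i, xs i (a i)) ∘ e)) = 0)) : ∃ K : Subgroup (Matrix.GeneralLinearGroup (Fin n) F), Cfsg.Geo.tensorWreathSubgroup k t e P ⊓ Cfsg.Geo.omegaGL Q < K ∧ K < Cfsg.Geo.omegaGL Q := by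
  haveI hc2 : CharP F 2 := by
    have h : ringChar F = 2 :=
      FiniteField.even_card_iff_char_two.2 (Nat.even_iff.1 (Nat.not_odd_iff_even.1 hchar))
    exact ringChar.of_eq h
  have hcard : n = k ^ t := by simpa using Fintype.card_congr e
  have hk24 : k = 2 ∨ k = 4 := by
    interval_cases k
    · rw [zero_pow (by omega)] at hcard; omega
    · rw [one_pow] at hcard; omega
    · exact Or.inl rfl
    · exfalso
      have h3 : Odd (3 ^ t) := (by decide : Odd 3).pow
      rw [← hcard] at h3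
      exact (Nat.not_odd_iff_even.2 heven) h3
    · exact Or.inr rfl
  rcases hk24 with rfl | rfl
  · have ht4 : 4 ≤ t := by
      by_contra h
      have : 2 ^ t ≤ 2 ^ 3 := Nat.pow_le_pow_right (by norm_num) (by omega)
      omega
    obtain ⟨u, rfl⟩ : ∃ u, t = u + 4 := ⟨t - 4, by omega⟩
    let i0 : Fin (u + 4) := ⟨0, by omega⟩
    let i1 : Fin (u + 4) := ⟨1, by omega⟩
    let i2 : Fin (u + 4) := ⟨2, by omega⟩
    let i3 : Fin (u + 4) := ⟨3, by omega⟩
    refine Cfsg.Agent.TensorOver.exists_between hQ hf₁ hT hpure (by norm_num) (Cfsg.Agent.TensorOver.locTwo hf₁)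
      (i0, 0) (i1, 0) (i2, 0) (i3, 0) (by simp [i0, i1]) (by simp [i0, i2]) (by simp [i0, i3])
      (by simp [i1, i2]) (by simp [i1, i3]) (by simp [i2, i3]) ⟨i1, fun w => ?_⟩ ⟨i0, fun w => ?_⟩
      ⟨i2, fun w => ?_⟩ ⟨i0, fun w => ?_⟩ <;>
      simp [Cfsg.Agent.TensorOver.listAt, i0, i1, i2, i3, hf₁.alternating]
  · obtain ⟨D⟩ := Cfsg.Agent.TensorOver.exists_locFour hf₁
    obtain ⟨u, rfl⟩ : ∃ u, t = u + 2 := ⟨t - 2, by omega⟩
    let i0 : Fin (u + 2) := ⟨0, by omega⟩
    let i1 : Fin (u + 2) := ⟨1, by omega⟩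
    refine Cfsg.Agent.TensorOver.exists_between hQ hf₁ hT hpure (by norm_num) D
      (i0, 0) (i1, 0) (i0, 1) (i1, 1) (by simp [i0, i1]) (by simp [i0]) (by simp [i0, i1])
      (by simp [i0, i1]) (by simp [i1]) (by simp [i0, i1]) ⟨i1, fun w => ?_⟩ ⟨i1, fun w => ?_⟩
      ⟨i0, fun w => ?_⟩ ⟨i0, fun w => ?_⟩ <;>
      simp [Cfsg.Agent.TensorOver.listAt, i0, i1, hf₁.alternating, D.altA (by norm_num), D.altB (by norm_num)]

end Cfsg.Agent.S5707
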