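import Cfsg.Statements.S5712
import Cfsg.Agent.Lib.DyeQuad.Four
import Cfsg.Agent.Lib.DyeQuad.Core
import Cfsg.Agent.Lib.SpMinIndex.Psp
import Cfsg.Agent.S0247
import Cfsg.Agent.Lib.Transvec.SympStd

set_option autoImplicit false
open Cfsg

namespace Cfsg.Agent.S5712

/-- Let F be a finite field of characteristic two, n ≥ 2, V = F^{2n} with the non-degenerate alternating form f(u, v) = Σ (u_i v_{n+i} + u_{n+i} v_i), and G the group of invertible matrices preserving f. Let a ≠ 0 be a vector, H its stabilizer in G, and X a subgroup of O₂(H) of order |F|^{2n−2} no element of which is a transvection (no element g has g − 1 of rank one). If L is a subgroup of G containing X that acts irreducibly on V (no proper non-zero L-invariant subspace), then L = G, or, for some quadratic form Q on V whose polar form is f, L is the isometry group of Q or its subgroup of the isometries g for which g − 1 has even rank, or |F| =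 2, n = 2 and L is isomorphic to the alternating group of degree 6 or to the symmetric group of degree 5. -/
theorem result {F : Type*} [Field F] [Fintype F] [CharP F 2] {n : ℕ} (hn : 2 ≤ n) (a : (Fin n ⊕ Fin n → F)) (ha : a ≠ 0)
    (X : Subgroup (GL (Fin n ⊕ Fin n) F)) (hXG : X ≤ Cfsg.preserving (Units.coeHom (Matrix (Fin n ⊕ Fin n) (Fin n ⊕ Fin n) F)) (fun u v : (Fin n ⊕ Fin n → F) => ∑ i : Fin n, (u (Sum.inl i) * v (Sum.inr i) + u (Sum.inr i) * v (Sum.inl i))))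
    (hXO : ∀ H : Subgroup (GL (Fin n ⊕ Fin n) F),
      (∀ g : GL (Fin n ⊕ Fin n) F, g ∈ H ↔ (g ∈ Cfsg.preserving (Units.coeHom (Matrix (Fin n ⊕ Fin n) (Fin n ⊕ Fin n) F)) (fun u v : (Fin n ⊕ Fin n → F) => ∑ i : Fin n, (u (Sum.inl i) * v (Sum.inr i) + u (Sum.inr i) * v (Sum.inl i))) ∧ Matrix.mulVec (g : Matrix (Fin n ⊕ Fin n) (Fin n ⊕ Fin n) F) a = a)) →
      X ≤ (Cfsg.pCore 2 ↥H).map H.subtype)
    (hcard : Nat.card ↥X = Fintype.card F ^ (2 * n - 2))
    (hntv : ∀ x ∈ X, ((x : Matrix (Fin n ⊕ Fin n) (Fin n ⊕ Fin n) F) - 1).rank ≠ 1)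
    (L : Subgroup (GL (Fin n ⊕ Fin n) F)) (hXL : X ≤ L) (hLG : L ≤ Cfsg.preserving (Units.coeHom (Matrix (Fin n ⊕ Fin n) (Fin n ⊕ Fin n) F)) (fun u v : (Fin n ⊕ Fin n → F) => ∑ i : Fin n, (u (Sum.inl i) * v (Sum.inr i) + u (Sum.inr i) * v (Sum.inl i))))
    (hirr : ∀ W : Submodule F (Fin n ⊕ Fin n → F), (∀ g ∈ L, ∀ w ∈ W, Matrix.mulVec (g : Matrix (Fin n ⊕ Fin n) (Fin n ⊕ Fin n) F) w ∈ W) → W = ⊥ ∨ W = ⊤) :
    L = Cfsg.preserving (Units.coeHom (Matrix (Fin n ⊕ Fin n) (Fin n ⊕ Fin n) F)) (fun u v : (Fin n ⊕ Fin n → F) => ∑ i : Fin n, (u (Sum.inl i) * v (Sum.inr i) + u (Sum.inr i) * v (Sum.inl i))) ∨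
    (∃ Q : QuadraticForm F (Fin n ⊕ Fin n → F), (∀ u v, QuadraticMap.polar ⇑Q u v = (fun u v : (Fin n ⊕ Fin n → F) => ∑ i : Fin n, (u (Sum.inl i) * v (Sum.inr i) + u (Sum.inr i) * v (Sum.inl i))) u v) ∧
      (L = Cfsg.isometryGroup F ⇑Q ∨
        ∀ g : GL (Fin n ⊕ Fin n) F, g ∈ L ↔ (g ∈ Cfsg.isometryGroup F ⇑Q ∧ Even ((g : Matrix (Fin n ⊕ Fin n) (Fin n ⊕ Fin n) F) - 1).rank))) ∨
    (Fintype.card F = 2 ∧ n = 2 ∧ (Nonempty (↥L ≃* ↥(alternatingGroup (Fin 6))) ∨ Nonempty (↥L ≃* Equiv.Perm (Fin 5)))) := by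
  classical
  obtain ⟨fS, hfS⟩ : ∃ fS, fS = Cfsg.sympForm n F := ⟨_, rfl⟩
  have hfe : (fun u v : (Fin n ⊕ Fin n → F) => ∑ i : Fin n, (u (Sum.inl i) * v (Sum.inr i) + u (Sum.inr i) * v (Sum.inl i))) = fS := by
    funext u v
    rw [hfS, Cfsg.Agent.Transvec.sympForm_eq_sum]
    refine Finset.sum_congr rfl fun i _ => ?_
    rw [CharTwo.sub_eq_add, add_comm]
  simp only [hfe] at hXG hXO hLG ⊢
  have hfp : ∀ u v, (∑ i : Fin n, (u (Sum.inl i) * v (Sum.inr i) + u (Sum.inr i) * v (Sum.inl i))) = fS u v :=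
    fun u v => congrFun (congrFun hfe u) v
  have hf : Geo.IsSymplecticForm fS := hfS ▸ Cfsg.Agent.Transvec.sympForm_isSymplectic n F
  have hι : Fintype.card (Fin n ⊕ Fin n) = 2 * n := by
    rw [Fintype.card_sum, Fintype.card_fin, two_mul]
  obtain ⟨y, hy⟩ := (hf.nondegenerate a ha).2
  obtain ⟨b, hb⟩ : ∃ b, b = (fS a y)⁻¹ • y := ⟨_, rfl⟩
  have hab : fS a b = 1 := by rw [hb, hf.bilinear.smul_right, inv_mul_cancel₀ hy]
  let H : Subgroup (GL (Fin n ⊕ Fin n) F) :=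
    { carrier := {g | g ∈ preserving (Units.coeHom (Matrix (Fin n ⊕ Fin n) (Fin n ⊕ Fin n) F)) fS ∧
        Cfsg.Agent.Transvec.mv g a = a}
      mul_mem' := fun {g h} hg hh => ⟨Subgroup.mul_mem _ hg.1 hh.1, by
        rw [Cfsg.Agent.Transvec.mv_mul, hh.2, hg.2]⟩
      one_mem' := ⟨Subgroup.one_mem _, Cfsg.Agent.Transvec.mv_one a⟩
      inv_mem' := fun {g} hg => ⟨Subgroup.inv_mem _ hg.1,
        ((Cfsg.Agent.Transvec.mv_eq_iff g).1 hg.2).symm⟩ }
  have hH : ∀ g, g ∈ H ↔ g ∈ preserving (Units.coeHom (Matrix (Fin n ⊕ Fin n) (Fin n ⊕ Fin n) F)) fS ∧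
      Cfsg.Agent.Transvec.mv g a = a := fun g => Iff.rfl
  have hX : ∀ g ∈ X, ∃ w c, fS w a = 0 ∧ fS w b = 0 ∧ g = Dye.gel hf a w c := fun g hg => by
    obtain ⟨k, hk, rfl⟩ := hXO H (fun g => Iff.rfl) hg
    exact Dye.eq_gel hab ((hH k.1).1 k.2).1 ((hH k.1).1 k.2).2
      (fun v hv => Dye.core_trivial (hf := hf) hab (by omega) hH hk hv)
  obtain ⟨φ, P⟩ := Dye.exists_pt (hf := hf) (m := 2 * n - 2) (by omega) hab hX
    (by rw [hcard, Nat.card_eq_fintype_card (α := F)])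
    (fun r hr => by_contra fun h0 => hntv _ hr (Dye.rank_stv ha hab h0)) hXL
  have hLf : ∀ g ∈ L, ∀ x y, fS (Cfsg.Agent.Transvec.mv g x) (Cfsg.Agent.Transvec.mv g y) = fS x y :=
    fun g hg => hLG hg
  have hirr' : ∀ z : Fin n ⊕ Fin n → F, z ≠ 0 → ∃ g ∈ L, fS z (Cfsg.Agent.Transvec.mv g a) ≠ 0 := by
    intro z hz
    by_contra hcon
    push Not at hcon
    let U : Submodule F (Fin n ⊕ Fin n → F) :=
      Submodule.span F (Set.range fun g : L => Cfsg.Agent.Transvec.mv g.1 a)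
    have hU : U = ⊥ ∨ U = ⊤ := hirr U fun g hg w hw => by
      have hle : U ≤ U.comap (Cfsg.Agent.Transvec.mvLin g) := Submodule.span_le.2 (by
        rintro _ ⟨h, rfl⟩
        show Cfsg.Agent.Transvec.mvLin g (Cfsg.Agent.Transvec.mv h.1 a) ∈ U
        rw [Matrix.toLin'_apply]
        exact Submodule.subset_span ⟨⟨g * h.1, L.mul_mem hg h.2⟩, Cfsg.Agent.Transvec.mv_mul _ _ _⟩)
      simpa using hle hw
    have haU : a ∈ U := Submodule.subset_span ⟨1, Cfsg.Agent.Transvec.mv_one a⟩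
    rcases hU with hU | hU
    · exact ha (by simpa [hU] using haU)
    · obtain ⟨x, hx⟩ := (hf.nondegenerate z hz).2
      have hle : U ≤ LinearMap.ker (Cfsg.Agent.Transvec.formR hf z) := Submodule.span_le.2 (by
        rintro _ ⟨h, rfl⟩
        exact (Cfsg.Agent.Transvec.f_eq_zero_comm hf).1 (hcon h.1 h.2))
      exact hx ((Cfsg.Agent.Transvec.f_eq_zero_comm hf).1 (hle (hU ▸ Submodule.mem_top (x := x))))
  rcases Dye.main (by omega) hLG P ha hirr' with h | ⟨b', χ, C, h⟩ | ⟨hq, hn4, htr, hE⟩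
  · exact Or.inl h
  · refine Or.inr (Or.inl ⟨QuadraticMap.ofPolar (Dye.qf fS a b' χ)
      (fun c v => by rw [C.qf_smul, smul_eq_mul, pow_two])
      (fun x x' y => by rw [C.polar_qf, C.polar_qf, C.polar_qf, hf.bilinear.add_left])
      (fun c x y => by rw [C.polar_qf, C.polar_qf, hf.bilinear.smul_left, smul_eq_mul]),
      fun u v => (C.polar_qf u v).trans (hfp u v).symm, h⟩)
  · have hn2 : n = 2 := by omega
    subst hn2
    have hq2 : Fintype.card F = 2 := by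
      refine le_antisymm ?_ Fintype.one_lt_card
      calc Fintype.card F = (Finset.univ : Finset F).card := rfl
        _ ≤ ({0, 1} : Finset F).card := Finset.card_le_card fun x _ => by simpa using hq x
        _ ≤ 2 := Finset.card_le_two
    obtain ⟨e0⟩ := Cfsg.Agent.S0247.result hq2
    let e := (SpMin.spEquiv 2 F).symm.trans e0
    subst hfS
    rcases Dye.classify_four hq hn4 hLG P ha htr hE e with h | h
    · exact Or.inl h
    · exact Or.inr (Or.inr ⟨hq2, rfl, h⟩)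

end Cfsg.Agent.S5712
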