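import Cfsg.Statements.S5722
import Cfsg.Agent.Lib.CompLen.Induction

set_option autoImplicit false
open Cfsg

namespace Cfsg.Agent.S5722

open Cfsg.Agent.CompLen

/-- If a finite group G acts faithfully on a finite set with n points and r orbits, then the composition length of G is at most 4(n − r)/3. Here the composition length is expressed through chains: the conclusion bounds the length l of every chain of subgroups 1 = H₀ < H₁ < ⋯ < H_l = G in which each term is normal in the next (the longest such chains are exactly the composition series). -/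
theorem result {G Ω : Type*} [Group G] [Finite G] [MulAction G Ω] [FaithfulSMul G Ω] [Fintype Ω]
    (l : ℕ) (H : Fin (l + 1) → Subgroup G) (h0 : H 0 = ⊥) (hl : H (Fin.last l) = ⊤)
    (hchain : ∀ i : Fin l, H i.castSucc < H i.succ ∧ ((H i.castSucc).subgroupOf (H i.succ)).Normal) :
    3 * l ≤ 4 * (Fintype.card Ω - Nat.card (Quotient (MulAction.orbitRel G Ω))) := by
  classical
  let e := Fintype.equivFin Ω
  let ι : G →* Equiv.Perm (Fin (Fintype.card Ω)) :=
    (e.permCongrHom.toMonoidHom).comp (MulAction.toPermHom G Ω)
  have hι : Function.Injective ι :=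
    e.permCongrHom.injective.comp MulAction.toPerm_injective
  have happ : ∀ (g : G) (x : Ω), ι g (e x) = e (g • x) := fun g x => by
    show e ((MulAction.toPermHom G Ω g) (e.symm (e x))) = _
    rw [Equiv.symm_apply_apply]
    rfl
  have hb := bound ι.range (Fin (Fintype.card Ω))
  rw [Nat.card_fin, ← cl_of_injective ι hι] at hb
  have horb : orbs ι.range (Fin (Fintype.card Ω)) = Nat.card (Quotient (MulAction.orbitRel G Ω)) := by
    refine (Nat.card_congr (Quotient.congr e fun x y => ?_)).symm
    rw [MulAction.orbitRel_apply, MulAction.orbitRel_apply]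
    constructor
    · rintro ⟨g, rfl⟩
      exact ⟨⟨ι g, g, rfl⟩, happ g y⟩
    · rintro ⟨⟨_, g, rfl⟩, h⟩
      exact ⟨g, e.injective ((happ g y).symm.trans h)⟩
  rw [horb] at hb
  have hc : ∀ i : Fin (l + 1), SnChain (H i) i := by
    intro i
    induction i using Fin.induction with
    | zero => rw [h0]; exact .base
    | succ i ih =>
      rw [Fin.val_succ]
      refine ih.step (hchain i).1 fun x hx k hk => ?_
      exact (hchain i).2.conj_mem ⟨k, (hchain i).1.le hk⟩ hk ⟨x, hx⟩
  have h := hc (Fin.last l)
  rw [hl, Fin.val_last] at h
  have := le_cl h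
  omega

end Cfsg.Agent.S5722
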