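import Cfsg.Statements.S5726
import Cfsg.Agent.Lib.Perm.Modules

set_option autoImplicit false
open Cfsg

namespace Cfsg.Agent.S5726

/-- If a finite group acts faithfully and transitively on a set with p^k elements, p a prime and k ≥ 1, then some element of order p fixes no point. -/
theorem result {G Ω : Type*} [Group G] [Finite G] [MulAction G Ω] [FaithfulSMul G Ω] [Fintype Ω] (htr : MulAction.IsPretransitive G Ω)
    (p k : ℕ) (hp : p.Prime) (hk : 1 ≤ k) (hΩ : Fintype.card Ω = p ^ k) :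
    ∃ g : G, orderOf g = p ∧ ∀ ω : Ω, g • ω ≠ ω := by
  haveI := htr
  haveI : Fact p.Prime := ⟨hp⟩
  obtain ⟨P⟩ : Nonempty (Sylow p G) := inferInstance
  have : Nonempty Ω := Fintype.card_pos_iff.1 (by rw [hΩ]; exact pow_pos hp.pos k)
  obtain ⟨a⟩ := this
  obtain ⟨b, hab⟩ : ∃ b, b ≠ a := Fintype.exists_ne_of_one_lt_card (by rw [hΩ]; exact Nat.one_lt_pow (by omega) hp.one_lt) a
  obtain ⟨g₀, hg₀, hg₀'⟩ := Cfsg.Agent.PermModules.sylow_transitive hΩ P a b
  haveI : Nontrivial (P : Subgroup G) :=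
    ⟨⟨⟨g₀, hg₀⟩, 1, fun h => hab (by rw [← hg₀', show g₀ = 1 from congrArg Subtype.val h, one_smul])⟩⟩
  haveI := IsPGroup.center_nontrivial P.isPGroup'
  obtain ⟨m, hm0, hm⟩ := (IsPGroup.nontrivial_iff_card (P.isPGroup'.to_subgroup
    (Subgroup.center (P : Subgroup G)))).1 inferInstance
  obtain ⟨z, hz⟩ := exists_prime_orderOf_dvd_card' (G := Subgroup.center (P : Subgroup G)) p
    (hm ▸ dvd_pow_self p (by omega))
  have hz' : orderOf ((z : (P : Subgroup G)) : G) = p := by
    rw [Subgroup.orderOf_coe, Subgroup.orderOf_coe, hz]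
  refine ⟨((z : (P : Subgroup G)) : G), hz', fun ω hω => ?_⟩
  have hone : ((z : (P : Subgroup G)) : G) = 1 := by
    refine FaithfulSMul.eq_of_smul_eq_smul (α := Ω) fun x => ?_
    obtain ⟨g, hg, rfl⟩ := Cfsg.Agent.PermModules.sylow_transitive hΩ P ω x
    have hc := congrArg Subtype.val (Subgroup.mem_center_iff.1 z.2 ⟨g, hg⟩)
    simp only [Subgroup.coe_mul] at hc
    rw [one_smul, smul_smul, ← hc, ← smul_smul, hω]
  rw [hone, orderOf_one] at hz'
  exact hp.one_lt.ne hz'

end Cfsg.Agent.S5726
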