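import Cfsg.Statements.S5727
import Mathlib
-- import your own Cfsg.Agent.* helpers here

set_option autoImplicit false
open Cfsg

namespace Cfsg.Agent.S5727

/-- If a finite group acts faithfully and transitively on a set with m·p elements, where p is a prime and 1 ≤ m ≤ p, then some element of order p fixes no point. -/
theorem result {G Ω : Type*} [Group G] [Finite G] [MulAction G Ω] [FaithfulSMul G Ω] [Fintype Ω] (htr : MulAction.IsPretransitive G Ω)
    (p m : ℕ) (hp : p.Prime) (hm : 1 ≤ m) (hmp : m ≤ p) (hΩ : Fintype.card Ω = m * p) :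
    ∃ g : G, orderOf g = p ∧ ∀ ω : Ω, g • ω ≠ ω := by
  classical
  haveI : Fact p.Prime := ⟨hp⟩
  haveI := htr
  obtain ⟨P⟩ : Nonempty (Sylow p G) := inferInstance
  haveI : Finite ↥(P : Subgroup G) := inferInstance
  have hPp : IsPGroup p ↥(P : Subgroup G) := P.2
  obtain ⟨ω₀⟩ : Nonempty Ω := Fintype.card_pos_iff.1 (by rw [hΩ]; exact Nat.mul_pos hm hp.pos)
  -- every orbit of P has a size divisible by p
  have horb : ∀ ω : Ω, ∃ j, Nat.card (MulAction.orbit ↥(P : Subgroup G) ω) = p ^ j ∧ p ∣ p ^ j ∧
      (m = p → p ^ 2 ∣ p ^ j) := by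
    intro ω
    obtain ⟨j, hj⟩ := hPp.card_orbit ω
    refine ⟨j, hj, ?_⟩
    -- compare with the index of the stabiliser in G
    have hG : Nat.card G = m * p * Nat.card (MulAction.stabilizer G ω) := by
      rw [← (MulAction.stabilizer G ω).card_mul_index, MulAction.index_stabilizer_of_transitive, Nat.card_eq_fintype_card
        (α := Ω), hΩ, mul_comm]
    have hP : Nat.card ↥(P : Subgroup G) = Nat.card (MulAction.stabilizer ↥(P : Subgroup G) ω) * p ^ j := by
      rw [← (MulAction.stabilizer ↥(P : Subgroup G) ω).card_mul_index, MulAction.index_stabilizer, ← hj]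
      rfl
    have hdvd : Nat.card (MulAction.stabilizer ↥(P : Subgroup G) ω) ∣ Nat.card (MulAction.stabilizer G ω) := by
      refine Subgroup.card_dvd_of_injective
        (((P : Subgroup G).subtype.comp (MulAction.stabilizer ↥(P : Subgroup G) ω).subtype).codRestrict _
          fun x => x.2) ?_
      intro a b h
      have := congrArg Subtype.val h
      exact Subtype.ext (Subtype.ext this)
    obtain ⟨a, ha⟩ := (IsPGroup.iff_card.1 (hPp.to_subgroup (MulAction.stabilizer ↥(P : Subgroup G) ω)))
    have hval : Nat.card ↥(P : Subgroup G) = p ^ (Nat.card G).factorization p := P.card_eq_multiplicity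
    rw [ha] at hdvd hP
    have key : ∀ e, p ^ (a + e) ∣ Nat.card G → e ≤ j := fun e he => by
      have h1 : a + e ≤ (Nat.card G).factorization p := (hp.pow_dvd_iff_le_factorization Nat.card_pos.ne').1 he
      rw [hP, ← pow_add] at hval
      have := Nat.pow_right_injective hp.two_le hval
      omega
    refine ⟨?_, fun hmp' => ?_⟩
    · refine dvd_pow_self p (fun h => ?_)
      have := key 1 (by rw [hG, pow_succ, mul_comm (m * p)]; exact Nat.mul_dvd_mul hdvd (Dvd.intro_left m rfl))
      omega
    · refine pow_dvd_pow p (key 2 ?_)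
      rw [hG, pow_add, hmp', mul_comm (p * p), pow_two]
      exact Nat.mul_dvd_mul hdvd dvd_rfl
  have horble : ∀ ω : Ω, Nat.card (MulAction.orbit ↥(P : Subgroup G) ω) ≤ m * p := fun ω =>
    (Finite.card_subtype_le _).trans (by rw [Nat.card_eq_fintype_card, hΩ])
  rcases hmp.eq_or_lt with hmp' | hlt
  · -- a transitive p-subgroup
    obtain ⟨j, hj, -, h2⟩ := horb ω₀
    have hall : ∀ ω : Ω, ω ∈ MulAction.orbit ↥(P : Subgroup G) ω₀ := by
      have h3 : Nat.card (MulAction.orbit ↥(P : Subgroup G) ω₀) = Nat.card Ω := le_antisymm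
        (Finite.card_subtype_le _) (by
          rw [Nat.card_eq_fintype_card (α := Ω), hΩ, hmp', hj, ← pow_two]
          exact Nat.le_of_dvd (pow_pos hp.pos _) (h2 hmp'))
      have := Set.eq_of_subset_of_ncard_le (Set.subset_univ (MulAction.orbit ↥(P : Subgroup G) ω₀))
        (by rw [Set.ncard_univ, ← Nat.card_coe_set_eq, h3])
      exact fun ω => this ▸ Set.mem_univ ω
    haveI : Nontrivial ↥(P : Subgroup G) := by
      obtain ⟨x, hx⟩ : ∃ x : Ω, x ≠ ω₀ := Fintype.exists_ne_of_one_lt_card (by
        rw [hΩ]; exact lt_of_lt_of_le hp.one_lt (Nat.le_mul_of_pos_left p hm)) ω₀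
      obtain ⟨q, hq⟩ := hall x
      exact ⟨⟨q, 1, fun h => hx (by rw [← hq, h]; exact one_smul _ ω₀)⟩⟩
    haveI := hPp.center_nontrivial
    have hdvd : p ∣ Nat.card (Subgroup.center ↥(P : Subgroup G)) := by
      obtain ⟨a, ha⟩ := IsPGroup.iff_card.1 (hPp.to_subgroup (Subgroup.center ↥(P : Subgroup G)))
      rw [ha]
      refine dvd_pow_self p fun h => ?_
      rw [h, pow_zero] at ha
      exact absurd ha (Finite.one_lt_card).ne'
    obtain ⟨z, hz⟩ := exists_prime_orderOf_dvd_card' p hdvd
    refine ⟨((z : ↥(P : Subgroup G)) : G), ?_, fun ω hω => ?_⟩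
    · rw [Subgroup.orderOf_coe, Subgroup.orderOf_coe, hz]
    · have h1 : ∀ x : Ω, ((z : ↥(P : Subgroup G)) : G) • x = x := by
        intro x
        obtain ⟨a, ha⟩ := hall x
        obtain ⟨b, hb⟩ := hall ω
        have hc : ∀ c : ↥(P : Subgroup G), ((z : ↥(P : Subgroup G)) : G) * c = c * ((z : ↥(P : Subgroup G)) : G) :=
          fun c => (congrArg Subtype.val (Subgroup.mem_center_iff.1 z.2 c)).symm
        have h0 : ((z : ↥(P : Subgroup G)) : G) • ω₀ = ω₀ := by
          have : ((b : G) * ((z : ↥(P : Subgroup G)) : G)) • ω₀ = (b : G) • ω₀ := by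
            rw [← hc, mul_smul, show (b : G) • ω₀ = ω from hb, hω]
          rw [mul_smul] at this
          exact MulAction.injective _ this
        rw [← show (a : G) • ω₀ = x from ha, ← mul_smul, hc, mul_smul, h0]
      have : ((z : ↥(P : Subgroup G)) : G) = 1 := FaithfulSMul.eq_of_smul_eq_smul fun x => by rw [h1, one_smul]
      have h2 := congrArg orderOf this
      rw [Subgroup.orderOf_coe, Subgroup.orderOf_coe, hz, orderOf_one] at h2
      exact hp.one_lt.ne' h2
  -- all orbits of size p
  have hidx : ∀ ω : Ω, (MulAction.stabilizer ↥(P : Subgroup G) ω).index = p := by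
    intro ω
    obtain ⟨j, hj, h1, -⟩ := horb ω
    have h2 := horble ω
    rw [hj] at h2
    have hj1 : j = 1 := by
      rcases Nat.lt_or_ge j 2 with h | h
      · rcases Nat.eq_zero_or_pos j with rfl | h'
        · rw [pow_zero] at h1; exact absurd (Nat.dvd_one.1 h1) hp.one_lt.ne'
        · omega
      · have := Nat.pow_le_pow_right hp.pos h
        have : m * p < p * p := Nat.mul_lt_mul_of_pos_right hlt hp.pos
        rw [pow_two] at *
        omega
    rw [MulAction.index_stabilizer]
    exact hj.trans (by rw [hj1, pow_one])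
  have hnorm : ∀ ω : Ω, (MulAction.stabilizer ↥(P : Subgroup G) ω).Normal := fun ω => by
    refine Subgroup.normal_of_index_eq_minFac_card ?_
    obtain ⟨a, ha⟩ := IsPGroup.iff_card.1 hPp
    have hne : a ≠ 0 := fun h => by
      have := (MulAction.stabilizer ↥(P : Subgroup G) ω).index_dvd_card
      rw [hidx, ha, h, pow_zero] at this
      exact hp.one_lt.ne' (Nat.dvd_one.1 this)
    rw [hidx, ha, hp.pow_minFac hne]
  set S : Finset (Subgroup ↥(P : Subgroup G)) :=
    Finset.univ.image fun ω : Ω => MulAction.stabilizer ↥(P : Subgroup G) ω with hS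
  have hScard : S.card ≤ m := by
    have h1 : S.card * p ≤ Fintype.card Ω := by
      rw [← Finset.card_univ, mul_comm, hS]
      refine Finset.mul_card_image_le_card_of_maps_to (f := fun ω : Ω => MulAction.stabilizer ↥(P : Subgroup G) ω)
        (fun ω _ => Finset.mem_image_of_mem _ (Finset.mem_univ ω)) p fun H hH => ?_
      obtain ⟨ω, -, rfl⟩ := Finset.mem_image.1 hH
      have h3 := hidx ω
      rw [MulAction.index_stabilizer, ← Nat.card_coe_set_eq, Nat.card_eq_card_finite_toFinset (Set.toFinite _)] at h3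
      refine h3.ge.trans (Finset.card_le_card fun x hx => ?_)
      rw [Set.Finite.mem_toFinset] at hx
      obtain ⟨a, rfl⟩ := hx
      refine Finset.mem_filter.2 ⟨Finset.mem_univ _, Subgroup.ext fun c => ?_⟩
      simp only [MulAction.mem_stabilizer_iff]
      have hn := hnorm ω
      refine ⟨fun h => ?_, fun h => ?_⟩
      · have : a⁻¹ * c * a ∈ MulAction.stabilizer ↥(P : Subgroup G) ω := by
          rw [MulAction.mem_stabilizer_iff, mul_smul, mul_smul, h, inv_smul_smul]
        have := hn.conj_mem _ this a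
        rwa [show a * (a⁻¹ * c * a) * a⁻¹ = c by group, MulAction.mem_stabilizer_iff] at this
      · have := hn.conj_mem _ (MulAction.mem_stabilizer_iff.2 h) a⁻¹
        rw [MulAction.mem_stabilizer_iff, inv_inv, mul_smul, mul_smul, inv_smul_eq_iff] at this
        exact this
    rw [hΩ] at h1
    exact Nat.le_of_mul_le_mul_right h1 hp.pos
  haveI : Fintype ↥(P : Subgroup G) := Fintype.ofFinite _
  obtain ⟨g, hg⟩ : ∃ g : ↥(P : Subgroup G), ∀ H ∈ S, g ∉ H := by
    by_contra h
    push Not at h
    have h1 : Fintype.card ↥(P : Subgroup G) ≤ ∑ H ∈ S, Nat.card H := by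
      rw [← Finset.card_univ]
      refine (Finset.card_le_card (t := S.biUnion fun H => Finset.univ.filter (· ∈ H)) fun x _ => ?_).trans
        (Finset.card_biUnion_le.trans (le_of_eq (Finset.sum_congr rfl fun H _ => ?_)))
      · obtain ⟨H, hH, hx⟩ := h x
        exact Finset.mem_biUnion.2 ⟨H, hH, Finset.mem_filter.2 ⟨Finset.mem_univ x, hx⟩⟩
      · rw [Nat.card_eq_fintype_card, Fintype.card_subtype]
    have h2 : p * ∑ H ∈ S, Nat.card H = S.card * Fintype.card ↥(P : Subgroup G) := by
      rw [Finset.mul_sum, Finset.sum_congr rfl fun H hH => ?_, Finset.sum_const, smul_eq_mul]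
      obtain ⟨ω, -, rfl⟩ := Finset.mem_image.1 hH
      rw [← Nat.card_eq_fintype_card, ← (MulAction.stabilizer ↥(P : Subgroup G) ω).card_mul_index, hidx, mul_comm]
    have h3 : p * Fintype.card ↥(P : Subgroup G) ≤ m * Fintype.card ↥(P : Subgroup G) :=
      ((Nat.mul_le_mul_left p h1).trans h2.le).trans (Nat.mul_le_mul_right _ hScard)
    exact absurd (Nat.le_of_mul_le_mul_right h3 Fintype.card_pos) (not_le.2 hlt)
  have hfix : ∀ ω : Ω, (g : G) • ω ≠ ω := fun ω h =>
    hg _ (Finset.mem_image_of_mem _ (Finset.mem_univ ω)) (MulAction.mem_stabilizer_iff.2 h)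
  refine ⟨g, orderOf_eq_prime ?_ ?_, hfix⟩
  · refine FaithfulSMul.eq_of_smul_eq_smul (α := Ω) fun ω => ?_
    rw [one_smul]
    haveI := hnorm ω
    have := Subgroup.pow_index_mem (MulAction.stabilizer ↥(P : Subgroup G) ω) g
    rw [hidx, MulAction.mem_stabilizer_iff] at this
    exact this
  · intro h
    exact hfix ω₀ (by rw [h, one_smul])

end Cfsg.Agent.S5727
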