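import Cfsg.Statements.S5728

set_option autoImplicit false
open Cfsg

namespace Cfsg.Agent.S5728

/-- An elusive transitive action. Let p = 2^s − 1 be a prime and let F be the field with p² elements. Inside the group of affine maps x ↦ a·x + b of F (a ≠ 0), consider the subgroup of maps with both coefficients in the prime field. Then every element of prime order of the affine group is conjugate, within the affine group, to an element of that subgroup; equivalently, in the transitive action of the affine group on the cosets of that subgroup (of degree p(p + 1)) every element of prime order fixes a point. -/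
theorem result (p s : ℕ) [Fact p.Prime] (hs : p = 2 ^ s - 1)
    (g : Equiv.Perm (GaloisField p 2)) (hg : g ∈ Cfsg.affineGroup (GaloisField p 2)) (hord : (orderOf g).Prime) :
    ∃ x ∈ Cfsg.affineGroup (GaloisField p 2), ∃ a b : ZMod p, a ≠ 0 ∧
      ∀ y : GaloisField p 2, (x * g * x⁻¹) y = algebraMap (ZMod p) (GaloisField p 2) a * y + algebraMap (ZMod p) (GaloisField p 2) b := by
  obtain ⟨c, e, hg'⟩ := hg
  have hconj : ∀ (u : (GaloisField p 2)ˣ) (w : (GaloisField p 2)), ∃ x ∈ Cfsg.affineGroup (GaloisField p 2), ∀ y,
      (x * g * x⁻¹) y = (c : (GaloisField p 2)) * y + ((1 - (c : (GaloisField p 2))) * w + u * e) := by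
    intro u w
    let x : Equiv.Perm (GaloisField p 2) :=
      { toFun := fun y => (u : (GaloisField p 2)) * y + w
        invFun := fun y => ((u⁻¹ : (GaloisField p 2)ˣ) : (GaloisField p 2)) * (y - w)
        left_inv := fun y => by simp
        right_inv := fun y => by simp }
    refine ⟨x, ⟨u, w, fun y => rfl⟩, fun y => ?_⟩
    show (u : (GaloisField p 2)) * g (((u⁻¹ : (GaloisField p 2)ˣ) : (GaloisField p 2)) * (y - w)) + w = _
    rw [hg', Units.val_inv_eq_inv_val]
    field_simp
    ring
  by_cases hc : (c : (GaloisField p 2)) = 1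
  · have he : e ≠ 0 := by
      intro he
      have hg1 : g = 1 := Equiv.ext fun y => by rw [hg', hc, he]; simp
      rw [hg1, orderOf_one] at hord
      exact Nat.not_prime_one hord
    obtain ⟨x, hx, hxy⟩ := hconj (Units.mk0 e he)⁻¹ 0
    refine ⟨x, hx, 1, 1, one_ne_zero, fun y => ?_⟩
    rw [hxy, hc, map_one]
    simp [he]
  obtain ⟨x, hx, hxy⟩ := hconj 1 (-e / (1 - (c : (GaloisField p 2))))
  have h1c : (1 : (GaloisField p 2)) - c ≠ 0 := sub_ne_zero.2 (Ne.symm hc)
  have hxy' : ∀ y, (x * g * x⁻¹) y = (c : (GaloisField p 2)) * y := fun y => by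
    rw [hxy, Units.val_one, one_mul, mul_div_cancel₀ _ h1c]; ring
  have hpow : ∀ (m : ℕ) y, ((x * g * x⁻¹) ^ m) y = (c : (GaloisField p 2)) ^ m * y := by
    intro m
    induction m with
    | zero => intro y; simp
    | succ m ih =>
      intro y
      rw [pow_succ', Equiv.Perm.mul_apply, ih, hxy', pow_succ']
      ring
  set r := orderOf g
  have hcr : (c : (GaloisField p 2)) ^ r = 1 := by
    have h : (x * g * x⁻¹) ^ r = 1 := by rw [conj_pow, pow_orderOf_eq_one, mul_one, mul_inv_cancel]
    have := hpow r 1
    rw [h, Equiv.Perm.one_apply, mul_one] at this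
    exact this.symm
  have hord' : orderOf (c : (GaloisField p 2)) = r := by
    haveI := Fact.mk hord
    exact orderOf_eq_prime hcr hc
  haveI : Fintype (GaloisField p 2) := Fintype.ofFinite (GaloisField p 2)
  have hdvd : r ∣ p ^ 2 - 1 := by
    rw [← hord']
    have hcard : Fintype.card (GaloisField p 2) = p ^ 2 := by
      rw [← Nat.card_eq_fintype_card]; exact GaloisField.card p 2 (by omega)
    rw [← hcard]
    exact orderOf_dvd_of_pow_eq_one (FiniteField.pow_card_sub_one_eq_one _ c.ne_zero)
  have hp1 : 1 ≤ p := (Fact.out : p.Prime).one_lt.le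
  have hrp : (c : (GaloisField p 2)) ^ (p - 1) = 1 := by
    rw [show p ^ 2 - 1 = (p - 1) * (p + 1) by
      obtain ⟨q, rfl⟩ : ∃ q, p = q + 1 := ⟨p - 1, by omega⟩
      simp only [Nat.add_sub_cancel]
      have : (q + 1) ^ 2 = q * (q + 1 + 1) + 1 := by ring
      omega] at hdvd
    rcases (Nat.Prime.dvd_mul hord).1 hdvd with h | h
    · exact orderOf_dvd_iff_pow_eq_one.1 (hord'.symm ▸ h)
    · have h2 : r = 2 := by
        have : p + 1 = 2 ^ s := by
          have := Nat.one_le_two_pow (n := s); omega
        rw [this] at h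
        exact (Nat.prime_dvd_prime_iff_eq hord Nat.prime_two).1 (hord.dvd_of_dvd_pow h)
      refine orderOf_dvd_iff_pow_eq_one.1 ?_
      rw [hord', h2]
      rcases (Fact.out : p.Prime).eq_two_or_odd with hp2 | hp2
      · exfalso
        have : p + 1 = 2 ^ s := by
          have := Nat.one_le_two_pow (n := s); omega
        rcases s with _ | s
        · simp at this; omega
        · rw [pow_succ] at this; omega
      · omega
  have hfix : (c : (GaloisField p 2)) ^ p = c := by
    have := pow_succ (c : GaloisField p 2) (p - 1)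
    rwa [Nat.sub_add_cancel hp1, hrp, one_mul] at this
  obtain ⟨i, hi⟩ := (mem_bot_iff_intCast p (GaloisField p 2)).1 ((Subfield.mem_bot_iff_pow_eq_self (GaloisField p 2) p).2 hfix)
  refine ⟨x, hx, (i : ZMod p), 0, ?_, fun y => ?_⟩
  · intro h
    have := congrArg (algebraMap (ZMod p) (GaloisField p 2)) h
    rw [map_intCast, map_zero, hi] at this
    exact c.ne_zero this
  · rw [hxy', map_intCast, hi, map_zero, add_zero]

end Cfsg.Agent.S5728
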