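import Cfsg.Statements.S5729
import Mathlib
-- import your own Cfsg.Agent.* helpers here

set_option autoImplicit false
open Cfsg

namespace Cfsg.Agent.S5729

/-- Let a finite group G act faithfully and transitively on a set with n ≥ 3 points. Then either G is a Frobenius permutation group (Frobenius as a permutation group: transitive, some non-identity element fixes a point, and no non-identity element fixes two points) of order n(n − 1) and exactly |G|/n of its elements are derangements (fix no point), or the number of derangements is greater than |G|/n. -/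
theorem result {G Ω : Type*} [Group G] [Finite G] [MulAction G Ω] [FaithfulSMul G Ω] [Fintype Ω] (htr : MulAction.IsPretransitive G Ω) (hn : 3 ≤ Fintype.card Ω) :
    ((MulAction.IsPretransitive G Ω ∧ (∃ g : G, g ≠ 1 ∧ ∃ ω : Ω, g • ω = ω) ∧ ∀ g : G, g ≠ 1 → Nat.card (MulAction.fixedBy Ω g) ≤ 1) ∧ Nat.card G = Fintype.card Ω * (Fintype.card Ω - 1) ∧ Fintype.card Ω * Nat.card {g : G // ∀ ω : Ω, g • ω ≠ ω} = Nat.card G) ∨
    Nat.card G < Fintype.card Ω * Nat.card {g : G // ∀ ω : Ω, g • ω ≠ ω} := by
  classical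
  haveI := htr
  haveI : Fintype G := Fintype.ofFinite G
  set n := Fintype.card Ω with hndef
  obtain ⟨f, hf⟩ : ∃ f : G → ℕ, f = fun g => Nat.card (MulAction.fixedBy Ω g) := ⟨_, rfl⟩
  have hf1 : ∀ g, f g = Fintype.card (MulAction.fixedBy Ω g) := fun g => by rw [hf, ← Nat.card_eq_fintype_card]
  have hfle : ∀ g, f g ≤ n := fun g => by rw [hf1]; exact Fintype.card_subtype_le _
  obtain ⟨ω₀⟩ : Nonempty Ω := Fintype.card_pos_iff.1 (by omega)
  -- first and second moment
  have h1 : ∑ g, f g = Fintype.card G := by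
    have h := MulAction.sum_card_fixedBy_eq_card_orbits_mul_card_group G Ω
    haveI : Subsingleton (Quotient (MulAction.orbitRel G Ω)) :=
      (MulAction.pretransitive_iff_subsingleton_quotient G Ω).1 htr
    haveI : Nonempty (Quotient (MulAction.orbitRel G Ω)) := ⟨Quotient.mk _ ω₀⟩
    have hone : Fintype.card (Quotient (MulAction.orbitRel G Ω)) = 1 :=
      Fintype.card_eq_one_iff.2 ⟨Classical.arbitrary _, fun y => Subsingleton.elim _ _⟩
    rw [hone, one_mul] at h
    simp only [hf1]
    exact h
  obtain ⟨r, hr2, h2⟩ : ∃ r, 2 ≤ r ∧ ∑ g, f g ^ 2 = r * Fintype.card G := by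
    refine ⟨Fintype.card (Quotient (MulAction.orbitRel G (Ω × Ω))), ?_, ?_⟩
    · obtain ⟨x, hx⟩ := Fintype.exists_ne_of_one_lt_card (by omega : 1 < Fintype.card Ω) ω₀
      refine Fintype.one_lt_card_iff.2 ⟨Quotient.mk _ (ω₀, ω₀), Quotient.mk _ (x, ω₀), fun h => hx ?_⟩
      obtain ⟨a, ha⟩ := Quotient.exact h
      have e1 := congrArg Prod.fst ha
      have e2 := congrArg Prod.snd ha
      simp only [Prod.smul_fst, Prod.smul_snd] at e1 e2
      exact MulAction.injective a (e1.trans e2.symm)
    · rw [← MulAction.sum_card_fixedBy_eq_card_orbits_mul_card_group G (Ω × Ω)]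
      refine Finset.sum_congr rfl fun g _ => ?_
      rw [hf1, pow_two, ← Fintype.card_prod]
      exact Fintype.card_congr
        ⟨fun q => ⟨(q.1.1, q.2.1), Prod.ext q.1.2 q.2.2⟩,
          fun q => (⟨q.1.1, congrArg Prod.fst q.2⟩, ⟨q.1.2, congrArg Prod.snd q.2⟩), fun q => rfl, fun q => rfl⟩
  set d := (Finset.univ.filter fun g : G => f g = 0).card with hd
  have hcardd : Nat.card {g : G // ∀ ω : Ω, g • ω ≠ ω} = d := by
    rw [Nat.card_eq_fintype_card, Fintype.card_subtype, hd]
    congr 1
    ext g
    simp only [Finset.mem_filter, Finset.mem_univ, true_and, hf1, Fintype.card_eq_zero_iff, isEmpty_subtype,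
      MulAction.mem_fixedBy]
  rw [hcardd, Nat.card_eq_fintype_card]
  -- the quadratic sum
  let T : G → ℤ := fun g => ((f g : ℤ) - 1) * ((n : ℤ) - f g) + if f g = 0 then (n : ℤ) else 0
  have hT : ∀ g, 0 ≤ T g := fun g => by
    by_cases h : f g = 0
    · simp [T, h]
    · simp only [T, if_neg h, add_zero]
      exact mul_nonneg (by have := Nat.one_le_iff_ne_zero.2 h; omega) (by have := hfle g; omega)
  have hsum : ∑ g, T g = (n : ℤ) * d - ((r : ℤ) - 1) * Fintype.card G := by
    have e : ∀ g, T g = ((n : ℤ) + 1) * (f g : ℤ) - ((f g ^ 2 : ℕ) : ℤ) - n + (if f g = 0 then (n : ℤ) else 0) :=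
      fun g => by simp only [T]; push_cast; ring
    simp only [e, Finset.sum_add_distrib, Finset.sum_sub_distrib, ← Finset.mul_sum, ← Nat.cast_sum, h1, h2,
      ← Finset.sum_filter, Finset.sum_const, nsmul_eq_mul, hd, Finset.card_univ]
    push_cast
    ring
  have hnn : 0 ≤ ∑ g, T g := Finset.sum_nonneg fun g _ => hT g
  have hG : 0 < Fintype.card G := Fintype.card_pos
  by_cases hlt : Fintype.card G < n * d
  · exact Or.inr hlt
  refine Or.inl ?_
  have hle : ((n * d : ℕ) : ℤ) ≤ Fintype.card G := by exact_mod_cast not_lt.1 hlt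
  push_cast at hle
  have hr : r = 2 := by
    have : ((r : ℤ) - 2) * Fintype.card G ≤ 0 := by linear_combination hnn + hsum + hle
    have h' : (r : ℤ) - 2 ≤ 0 := by
      by_contra hc
      push Not at hc
      have := mul_pos hc (by exact_mod_cast hG : (0 : ℤ) < Fintype.card G)
      omega
    omega
  have hnd : (n : ℤ) * d = Fintype.card G := by
    have : (Fintype.card G : ℤ) ≤ n * d := by
      rw [hr] at hsum; push_cast at hsum; linear_combination hnn + hsum
    omega
  have hzero : ∀ g, T g = 0 := fun g => (Finset.sum_eq_zero_iff_of_nonneg fun g _ => hT g).1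
    (by rw [hsum, hnd, hr]; push_cast; ring) g (Finset.mem_univ g)
  have hone : f 1 = n := by
    rw [hf1]
    exact (Fintype.card_congr (Equiv.subtypeUnivEquiv fun ω => one_smul G ω))
  have hfix : ∀ g : G, g ≠ 1 → f g ≤ 1 := fun g hg => by
    by_contra h
    have h0 := hzero g
    simp only [T, if_neg (show f g ≠ 0 by omega), add_zero, mul_eq_zero] at h0
    rcases h0 with h0 | h0
    · omega
    · refine hg (FaithfulSMul.eq_of_smul_eq_smul (α := Ω) fun ω => ?_)
      rw [one_smul]
      have hall : Fintype.card (MulAction.fixedBy Ω g) = n := by rw [← hf1]; omega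
      by_contra hω
      have hlt := Fintype.card_subtype_lt (p := fun x => x ∈ MulAction.fixedBy Ω g) (x := ω) hω
      simp only [← Nat.card_eq_fintype_card, hndef] at hlt hall
      exact absurd hall (Nat.ne_of_lt hlt)
  -- the order
  have hsq : ∑ g, f g ^ 2 + n = ∑ g, f g + n ^ 2 := by
    have hrest : ∑ g ∈ Finset.univ.erase (1 : G), f g ^ 2 = ∑ g ∈ Finset.univ.erase (1 : G), f g :=
      Finset.sum_congr rfl fun g hg => by
        have := hfix g (Finset.ne_of_mem_erase hg)
        interval_cases f g <;> rfl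
    rw [← Finset.add_sum_erase _ _ (Finset.mem_univ (1 : G)), ← Finset.add_sum_erase _ f (Finset.mem_univ (1 : G)),
      hone, hrest]
    ring
  rw [h1, h2, hr] at hsq
  have hord : Fintype.card G = n * (n - 1) := by
    rw [Nat.mul_sub, mul_one, ← pow_two]
    omega
  refine ⟨⟨htr, ?_, fun g hg => by have := hfix g hg; rwa [hf] at this⟩, hord, by exact_mod_cast hnd⟩
  by_contra hc
  push Not at hc
  have hsum1 : ∑ g, f g = n := by
    rw [← hone]
    refine Finset.sum_eq_single_of_mem 1 (Finset.mem_univ _) fun g _ hg => ?_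
    rw [hf1, Fintype.card_eq_zero_iff, isEmpty_subtype]
    exact hc g hg
  rw [h1, hord] at hsum1
  have : n * 2 ≤ n * (n - 1) := Nat.mul_le_mul_left n (by omega)
  omega

end Cfsg.Agent.S5729
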