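import Cfsg.Statements.S5730
import Cfsg.Agent.Lib.DerangeTwo.Count

set_option autoImplicit false
open Cfsg

namespace Cfsg.Agent.S5730

open MulAction Cfsg.Agent.DerangeTwo

/-- Double counting over ordered pairs of distinct points. -/
theorem sum_pairs {G Ω : Type*} [Group G] [Fintype G] [MulAction G Ω] [Fintype Ω]
    (h2 : TwoTrans G Ω) (F : G → ℚ) (hF : ∀ k g : G, F (k * g * k⁻¹) = F g)
    {a b : Ω} (hab : a ≠ b) [Fintype (pairStab G a b)] :
    ((Fintype.card Ω * (Fintype.card Ω - 1) : ℕ) : ℚ) * ∑ g : pairStab G a b, F g =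
      ∑ g : G, ((fx Ω g * (fx Ω g - 1) : ℕ) : ℚ) * F g := by
  classical
  have hinner : ∀ p ∈ (Finset.univ : Finset Ω).offDiag,
      (∑ g : G, if g • p.1 = p.1 ∧ g • p.2 = p.2 then F g else 0) = ∑ g : pairStab G a b, F g := by
    rintro ⟨c, d⟩ hp
    obtain ⟨k, rfl, rfl⟩ := h2 a b c d hab (Finset.mem_offDiag.1 hp).2.2
    rw [← Finset.sum_filter]
    symm
    refine Finset.sum_bij (fun (g : pairStab G a b) _ => k * (g : G) * k⁻¹) ?_ ?_ ?_ ?_
    · intro g _
      simp only [Finset.mem_filter, Finset.mem_univ, true_and]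
      exact conj_mem_pairStab.2 g.2
    · intro g _ g' _ h
      exact Subtype.ext (MulAut.conj k |>.injective h)
    · intro g hg
      simp only [Finset.mem_filter, Finset.mem_univ, true_and] at hg
      refine ⟨⟨k⁻¹ * g * k, ?_⟩, Finset.mem_univ _, by group⟩
      rw [← conj_mem_pairStab (k := k)]
      simpa [mul_assoc, mem_pairStab] using hg
    · intro g _
      exact (hF k g).symm
  have hl := Finset.sum_congr rfl hinner
  rw [Finset.sum_const, nsmul_eq_mul, Finset.offDiag_card, Finset.card_univ,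
    ← Nat.mul_sub_one] at hl
  rw [← hl, Finset.sum_comm]
  refine Finset.sum_congr rfl fun g _ => ?_
  rw [← Finset.sum_filter, Finset.sum_const, nsmul_eq_mul]
  congr 2
  have e : ((Finset.univ : Finset Ω).offDiag.filter fun p => g • p.1 = p.1 ∧ g • p.2 = p.2) =
      (Finset.univ.filter fun x : Ω => g • x = x).offDiag := by
    ext p
    simp only [Finset.mem_filter, Finset.mem_offDiag, Finset.mem_univ, true_and]
    tauto
  rw [e, Finset.offDiag_card, ← Nat.mul_sub_one, fx, Nat.card_eq_fintype_card,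
    ← Fintype.card_subtype]
  rfl


/-- Let a finite group G act faithfully and transitively on a set with n ≥ 7 points. Then either G is a Frobenius permutation group (Frobenius as a permutation group: transitive, some non-identity element fixes a point, and no non-identity element fixes two points) of order n(n − 1)/a with a ∈ {1, 2}, in which case exactly a|G|/n of its elements are derangements, or the number of derangements is at least 2|G|/n. (Equality does occur: PSL₃(2) acting on the 7 points of the Fano plane has exactly 2|G|/7 derangements.) -/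
theorem result {G Ω : Type*} [Group G] [Finite G] [MulAction G Ω] [FaithfulSMul G Ω] [Fintype Ω] (htr : MulAction.IsPretransitive G Ω) (hn : 7 ≤ Fintype.card Ω) :
    (∃ a : ℕ, (a = 1 ∨ a = 2) ∧ (MulAction.IsPretransitive G Ω ∧ (∃ g : G, g ≠ 1 ∧ ∃ ω : Ω, g • ω = ω) ∧ ∀ g : G, g ≠ 1 → Nat.card (MulAction.fixedBy Ω g) ≤ 1) ∧ a * Nat.card G = Fintype.card Ω * (Fintype.card Ω - 1) ∧ Fintype.card Ω * Nat.card {g : G // ∀ ω : Ω, g • ω ≠ ω} = a * Nat.card G) ∨
    2 * Nat.card G ≤ Fintype.card Ω * Nat.card {g : G // ∀ ω : Ω, g • ω ≠ ω} := by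
  classical
  haveI := htr
  haveI : Fintype G := Fintype.ofFinite G
  set n := Fintype.card Ω with hndef
  set f : G → ℕ := fun g => fx Ω g with hf
  have hfx : ∀ g : G, f g = Fintype.card (fixedBy Ω g) := fun g => Nat.card_eq_fintype_card
  have hfle : ∀ g, f g ≤ n := fun g => by rw [hfx]; exact Fintype.card_subtype_le _
  obtain ⟨ω₀⟩ : Nonempty Ω := Fintype.card_pos_iff.1 (by omega)
  obtain ⟨ω₁, hω₁⟩ := Fintype.exists_ne_of_one_lt_card (by omega : 1 < Fintype.card Ω) ω₀
  -- first and second moment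
  have h1 : ∑ g, f g = Fintype.card G := by
    have h := MulAction.sum_card_fixedBy_eq_card_orbits_mul_card_group G Ω
    haveI : Subsingleton (Quotient (MulAction.orbitRel G Ω)) :=
      (MulAction.pretransitive_iff_subsingleton_quotient G Ω).1 htr
    have hone : Fintype.card (Quotient (MulAction.orbitRel G Ω)) = 1 :=
      Fintype.card_eq_one_iff.2 ⟨Quotient.mk _ ω₀, fun y => Subsingleton.elim _ _⟩
    rw [hone, one_mul] at h
    simp only [hfx]
    exact h
  set r := Fintype.card (Quotient (MulAction.orbitRel G (Ω × Ω))) with hrdef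
  have hr2 : 2 ≤ r := by
    refine Fintype.one_lt_card_iff.2
      ⟨Quotient.mk _ (ω₀, ω₀), Quotient.mk _ (ω₁, ω₀), fun h => hω₁ ?_⟩
    obtain ⟨a, ha⟩ := Quotient.exact h
    have e1 := congrArg Prod.fst ha
    have e2 := congrArg Prod.snd ha
    simp only [Prod.smul_fst, Prod.smul_snd] at e1 e2
    exact MulAction.injective a (e1.trans e2.symm)
  have h2 : ∑ g, f g ^ 2 = r * Fintype.card G := by
    rw [hrdef, ← MulAction.sum_card_fixedBy_eq_card_orbits_mul_card_group G (Ω × Ω)]
    refine Finset.sum_congr rfl fun g _ => ?_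
    rw [hfx, pow_two, ← Fintype.card_prod]
    exact Fintype.card_congr
      ⟨fun q => ⟨(q.1.1, q.2.1), Prod.ext q.1.2 q.2.2⟩,
        fun q => (⟨q.1.1, congrArg Prod.fst q.2⟩, ⟨q.1.2, congrArg Prod.snd q.2⟩),
        fun q => rfl, fun q => rfl⟩
  set d := (Finset.univ.filter fun g : G => f g = 0).card with hd
  have hcardd : Nat.card {g : G // ∀ ω : Ω, g • ω ≠ ω} = d := by
    rw [Nat.card_eq_fintype_card, Fintype.card_subtype, hd]
    congr 1
    ext g
    simp only [Finset.mem_filter, Finset.mem_univ, true_and, hfx, Fintype.card_eq_zero_iff,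
      isEmpty_subtype, MulAction.mem_fixedBy]
  rw [hcardd, Nat.card_eq_fintype_card]
  -- the quadratic sum
  let T : G → ℚ := fun g => ((f g : ℚ) - 1) * ((n : ℚ) - f g) + if f g = 0 then (n : ℚ) else 0
  have hT : ∀ g, 0 ≤ T g := fun g => by
    by_cases h : f g = 0
    · simp [T, h]
    · simp only [T, if_neg h, add_zero]
      exact mul_nonneg (sub_nonneg.2 (by exact_mod_cast Nat.one_le_iff_ne_zero.2 h))
        (sub_nonneg.2 (by exact_mod_cast hfle g))
  have hsum : ∑ g, T g = (n : ℚ) * d - ((r : ℚ) - 1) * Fintype.card G := by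
    have e : ∀ g, T g = ((n : ℚ) + 1) * (f g : ℚ) - ((f g ^ 2 : ℕ) : ℚ) - n +
        (if f g = 0 then (n : ℚ) else 0) := fun g => by simp only [T]; push_cast; ring
    simp only [e, Finset.sum_add_distrib, Finset.sum_sub_distrib, ← Finset.mul_sum,
      ← Nat.cast_sum, h1, h2, ← Finset.sum_filter, Finset.sum_const, nsmul_eq_mul, hd,
      Finset.card_univ]
    push_cast
    ring
  have hnn : 0 ≤ ∑ g, T g := Finset.sum_nonneg fun g _ => hT g
  by_cases hlt : 2 * Fintype.card G ≤ n * d
  · exact Or.inr hlt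
  refine Or.inl ?_
  have hltQ : (n : ℚ) * d < 2 * Fintype.card G := by exact_mod_cast (not_le.1 hlt)
  have hGQ : (0 : ℚ) < Fintype.card G := by exact_mod_cast Fintype.card_pos
  have hr : r = 2 := by
    by_contra hne
    have : (3 : ℚ) ≤ r := by exact_mod_cast (by omega : 3 ≤ r)
    nlinarith
  -- double transitivity
  have htwo : TwoTrans G Ω := by
    intro a b c e hab hce
    have key : ∀ p q : Ω, p ≠ q →
        (Quotient.mk (orbitRel G (Ω × Ω)) (p, q)) ≠ Quotient.mk _ (ω₀, ω₀) := by
      intro p q hpq h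
      obtain ⟨g, hg⟩ := Quotient.exact h
      exact hpq ((congrArg Prod.fst hg).symm.trans (congrArg Prod.snd hg))
    have h2c : (Finset.univ : Finset (Quotient (orbitRel G (Ω × Ω)))).card = 2 := by
      rw [Finset.card_univ]; exact hr
    obtain ⟨x, y, hxy, hu'⟩ := Finset.card_eq_two.1 h2c
    have hu : ∀ z, z = x ∨ z = y := fun z => by
      have := Finset.mem_univ z
      rw [hu', Finset.mem_insert, Finset.mem_singleton] at this
      exact this
    have huniq : (Quotient.mk (orbitRel G (Ω × Ω)) (c, e)) = Quotient.mk _ (a, b) := by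
      have k1 := key c e hce
      have k2 := key a b hab
      rcases hu (Quotient.mk (orbitRel G (Ω × Ω)) (c, e)) with h | h <;>
      rcases hu (Quotient.mk (orbitRel G (Ω × Ω)) (a, b)) with h' | h' <;>
      rcases hu (Quotient.mk (orbitRel G (Ω × Ω)) (ω₀, ω₀)) with h'' | h'' <;>
      first
        | exact h.trans h'.symm
        | exact absurd (h.trans h''.symm) k1
        | exact absurd (h'.trans h''.symm) k2
    obtain ⟨g, hg⟩ := Quotient.exact huniq
    exact ⟨g, congrArg Prod.fst hg, congrArg Prod.snd hg⟩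
  have hcardG : ∀ a b : Ω, a ≠ b →
      Nat.card G = n * (n - 1) * Nat.card (pairStab G a b) := by
    intro a b hab
    letI : Fintype (pairStab G a b) := Fintype.ofFinite _
    have h := sum_pairs htwo (fun _ => (1 : ℚ)) (fun _ _ => rfl) hab
    simp only [mul_one, Finset.sum_const, nsmul_eq_mul, Finset.card_univ] at h
    have h' : n * (n - 1) * Fintype.card (pairStab G a b) = ∑ g : G, f g * (f g - 1) := by
      exact_mod_cast h
    have e : ∑ g : G, f g * (f g - 1) + ∑ g : G, f g = ∑ g : G, f g ^ 2 := by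
      rw [← Finset.sum_add_distrib]
      refine Finset.sum_congr rfl fun g _ => ?_
      rcases f g with _ | k <;> simp <;> ring
    rw [h1, h2, hr, ← h'] at e
    simp only [Nat.card_eq_fintype_card]
    omega
  set W : ℚ := (∑ g, T g) / ((n * (n - 1) : ℕ) : ℚ) with hWdef
  have hnn1 : (0 : ℚ) < ((n * (n - 1) : ℕ) : ℚ) := by
    exact_mod_cast Nat.mul_pos (by omega) (by omega : 0 < n - 1)
  have hW : ∀ a b : Ω, a ≠ b → ∀ [Fintype (pairStab G a b)],
      W = ∑ g : pairStab G a b, ((n : ℚ) / fx Ω (g : G) - 1) := by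
    intro a b hab _
    have h := sum_pairs htwo (fun g => (n : ℚ) / fx Ω g - 1) (fun k g => by simp only [fx_conj]) hab
    rw [hWdef, div_eq_iff hnn1.ne', mul_comm]
    rw [h]
    refine (Finset.sum_congr rfl fun g _ => ?_).symm
    show ((f g * (f g - 1) : ℕ) : ℚ) * ((n : ℚ) / (f g : ℚ) - 1) = T g
    by_cases h0 : f g = 0
    · simp [T, h0]
    · have : (f g : ℚ) ≠ 0 := by exact_mod_cast h0
      simp only [T, if_neg h0, add_zero]
      rw [Nat.cast_mul, Nat.cast_sub (Nat.one_le_iff_ne_zero.2 h0), Nat.cast_one]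
      field_simp
  have hsmall : Nat.card (pairStab G ω₀ ω₁) = 1 := by
    by_contra hne
    have hh : 2 ≤ Nat.card (pairStab G ω₀ ω₁) := by
      have : 0 < Nat.card (pairStab G ω₀ ω₁) := Nat.card_pos
      omega
    have h := card_le_weight htwo hn hcardG W hW hω₁.symm hh
    rw [hWdef, le_div_iff₀ hnn1, ← Nat.cast_mul, mul_comm, ← hcardG _ _ hω₁.symm,
      Nat.card_eq_fintype_card] at h
    rw [hsum, hr] at h
    push_cast at h
    linarith
  have hord : Fintype.card G = n * (n - 1) := by
    rw [← Nat.card_eq_fintype_card, hcardG _ _ hω₁.symm, hsmall, mul_one]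
  have hfix : ∀ g : G, g ≠ 1 → f g ≤ 1 := by
    intro g hg
    by_contra hc
    have : 1 < (fixedBy Ω g).ncard := by rw [← Nat.card_coe_set_eq]; exact not_le.1 hc
    obtain ⟨a, b, ha, hb, hab⟩ := (Set.one_lt_ncard_iff (Set.toFinite _)).1 this
    have hc1 : Nat.card (pairStab G a b) = 1 := by rw [← hsmall]; exact card_pairStab_eq htwo hab hω₁.symm
    exact hg (Subgroup.mem_bot.1 (Subgroup.eq_bot_of_card_eq _ hc1 ▸ (⟨ha, hb⟩ : g ∈ pairStab G a b)))
  have hT0 : ∑ g, T g = 0 := Finset.sum_eq_zero fun g _ => by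
    by_cases hg : g = 1
    · have e1 : f (1 : G) = n := fx_one
      simp only [T, hg, e1, if_neg (show ¬ n = 0 by omega), sub_self, mul_zero, add_zero]
    · have := hfix g hg
      interval_cases h : f g <;> simp [T, h]
  have hnd : n * d = Fintype.card G := by
    rw [hT0, hr] at hsum
    have : (n : ℚ) * d = Fintype.card G := by push_cast at hsum; linarith
    exact_mod_cast this
  refine ⟨1, Or.inl rfl, ⟨htr, ?_, hfix⟩, by rw [one_mul, hord], by rw [one_mul, hnd]⟩
  by_contra hc
  push Not at hc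
  have hsum1 : ∑ g, f g = n := by
    rw [Finset.sum_eq_single_of_mem (1 : G) (Finset.mem_univ _) fun g _ hg => ?_]
    · exact fx_one
    · rw [hfx, Fintype.card_eq_zero_iff, isEmpty_subtype]
      exact hc g hg
  rw [h1, hord] at hsum1
  have : n * 2 ≤ n * (n - 1) := Nat.mul_le_mul_left n (by omega)
  omega

end Cfsg.Agent.S5730
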