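import Cfsg.Statements.S5735
import Cfsg.Agent.S5736
import Cfsg.Agent.S5737
import Cfsg.Agent.Lib.BinInvol.UnitaryFinal
import Cfsg.Agent.Lib.SEMain.Bender
import Cfsg.Agent.Lib.SEMain.Proof
-- import your own Cfsg.Agent.* helpers here

set_option autoImplicit false
open Cfsg

namespace Cfsg.Agent.S5735

open Cfsg.Agent.SzBinary (BinaryOn)

universe u v

variable {G : Type u} [Group G] {G' : Type v} [Group G']

theorem center_transfer [Finite G] [Finite G'] (e : G ≃* G') (P : Sylow 2 G) :
    ∃ Q : Sylow 2 G', ((Subgroup.center (P : Subgroup G)).map (P : Subgroup G).subtype).map e.toMonoidHom =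
      (Subgroup.center (Q : Subgroup G')).map (Q : Subgroup G').subtype := by
  haveI : Fact (Nat.Prime 2) := ⟨Nat.prime_two⟩
  refine ⟨P.mapSurjective (f := e.toMonoidHom) e.surjective, ?_⟩
  rw [S5737.center_map_eq, S5737.center_map_eq, ← S5737.inf_centralizer_map]
  rfl

theorem map_back (e : G ≃* G') (H : Subgroup G) : (H.map e.toMonoidHom).map e.symm.toMonoidHom = H := by
  rw [Subgroup.map_map]
  convert Subgroup.map_id H using 2
  ext x
  simp

theorem map_ne_top (e : G ≃* G') {H : Subgroup G} (hH : H ≠ ⊤) : H.map e.toMonoidHom ≠ ⊤ := fun h => hH (by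
  rw [← map_back e H, h]
  exact Subgroup.map_top_of_surjective e.symm.toMonoidHom e.symm.surjective)

theorem map_even (e : G ≃* G') {H : Subgroup G} (h : Even (Nat.card H)) :
    Even (Nat.card (H.map e.toMonoidHom)) := by
  rwa [← Nat.card_congr (Subgroup.equivMapOfInjective H e.toMonoidHom e.injective).toEquiv]

theorem oneClass_map (e : G ≃* G') (h : ∀ s t : G, orderOf s = 2 → orderOf t = 2 → IsConj s t) :
    BinInvol.OneClass G' := fun s t hs ht => by
  have := e.toMonoidHom.map_isConj (h (e.symm s) (e.symm t) (by rwa [MulEquiv.orderOf_eq]) (by rwa [MulEquiv.orderOf_eq]))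
  simpa using this

theorem charP_two_of_card {F : Type} [Field F] [Fintype F] {n : ℕ} (hF : Fintype.card F = 2 ^ n) (hn : n ≠ 0) :
    CharP F 2 := by
  obtain ⟨p, hp⟩ := CharP.exists F
  obtain ⟨k, hpp, hc⟩ := FiniteField.card F p
  rw [hF] at hc
  have h2 : p ∣ 2 := hpp.dvd_of_dvd_pow (hc ▸ dvd_pow_self p k.ne_zero)
  rw [(Nat.prime_dvd_prime_iff_eq hpp Nat.prime_two).1 h2] at hp
  exact hp

theorem slEquiv {F : Type} [Field F] [Fintype F] {n : ℕ} (hF : Fintype.card F = 2 ^ n) (hn : n ≠ 0) :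
    Nonempty (Matrix.SpecialLinearGroup (Fin 2) F ≃* Matrix.ProjectiveSpecialLinearGroup (Fin 2) F) := by
  haveI := charP_two_of_card hF hn
  have hc : Subgroup.center (Matrix.SpecialLinearGroup (Fin 2) F) = ⊥ := by
    rw [eq_bot_iff]
    intro A hA
    obtain ⟨r, hr, hrA⟩ := Matrix.SpecialLinearGroup.mem_center_iff.1 hA
    simp only [Fintype.card_fin] at hr
    have hr1 : r = 1 := frobenius_inj F 2 (by simp [frobenius_def, hr])
    rw [Subgroup.mem_bot]
    apply Subtype.ext
    rw [← hrA, hr1]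
    simp
  exact ⟨((QuotientGroup.quotientMulEquivOfEq hc).trans QuotientGroup.quotientBot).symm⟩

/-- Let G be a finite simple group with exactly one conjugacy class of involutions, and let H be a proper subgroup of even order. Then the action of G on the cosets of H is binary if and only if one of the following holds: G ≅ SL₂(2^a) with a ≥ 2 and H is a Sylow 2-subgroup; G is a Suzuki group Sz(2^(2a+1)) with a ≥ 1 and H is the centre of a Sylow 2-subgroup; G ≅ PSU₃(2^a) with a ≥ 2 and H is the centre of a Sylow 2-subgroup. Here an action is binary (relational complexity 2) when, for every n ≥ 2 and all n-tuples I, J of points, if for every pair of positions some group element carries the corresponding pair of entries of I to those of J, then a single group element carries I to J. -/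
theorem result {G : Type*} [Group G] [Finite G] [IsSimpleGroup G] (hinv : ∃ s : G, orderOf s = 2)
    (hone : ∀ s t : G, orderOf s = 2 → orderOf t = 2 → IsConj s t)
    (H : Subgroup G) (hH : H ≠ ⊤) (heven : Even (Nat.card H)) :
    (∀ (n : ℕ) (I J : Fin n → G ⧸ H), 2 ≤ n →
        (∀ i j : Fin n, i ≠ j → ∃ g : G, g • I i = J i ∧ g • I j = J j) → ∃ g : G, ∀ i, g • I i = J i) ↔
      (((∃ (F : Type) (_ : Field F) (_ : Fintype F) (a : ℕ), 2 ≤ a ∧ Fintype.card F = 2 ^ a ∧ Nonempty (G ≃* Matrix.SpecialLinearGroup (Fin 2) F)) ∧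
          ∃ P : Sylow 2 G, H = P) ∨
        (Cfsg.Lie.IsoSuzuki G ∧ ∃ P : Sylow 2 G, H = (Subgroup.center (P : Subgroup G)).map (P : Subgroup G).subtype) ∨
        ((∃ (F : Type) (_ : Field F) (_ : Fintype F) (a : ℕ), 2 ≤ a ∧ Fintype.card F = (2 ^ a) ^ 2 ∧ Nonempty (G ≃* Cfsg.PSU 3 F (2 ^ a))) ∧
          ∃ P : Sylow 2 G, H = (Subgroup.center (P : Subgroup G)).map (P : Subgroup G).subtype)) := by
  haveI : Fact (Nat.Prime 2) := ⟨Nat.prime_two⟩
  show BinaryOn H ↔ _
  constructor
  · intro hb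
    obtain ⟨M, hM⟩ := BinInvol.exists_se hb hone hH heven
    rcases SEMain.bender_of_simple SEMain.stmt hM with
      ⟨F, fF, tF, ⟨n, hn, hF⟩, ⟨e⟩⟩ | hsz | ⟨F, fF, tF, n, hn, hF, ⟨e⟩⟩
    · refine Or.inl ?_
      obtain ⟨s⟩ := slEquiv hF (by omega)
      refine ⟨⟨F, fF, tF, n, hn, hF, ⟨e.trans s.symm⟩⟩, ?_⟩
      have h4 : 4 ≤ Fintype.card F := hF ▸ le_trans (by norm_num) (Nat.pow_le_pow_right two_pos hn)
      have h5 : Fintype.card F ≠ 5 := fun e5 => by
        rw [hF] at e5
        have := (Nat.even_pow' (show n ≠ 0 by omega)).2 even_two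
        rw [e5] at this
        exact absurd this (by decide)
      have hev := map_even e heven
      rcases (S5736.result h4 h5 _ (map_ne_top e hH)).1 (S5737.binaryOn_map e hb) with h | ⟨-, P, hP⟩ | ⟨-, h3⟩
      · rw [h, Subgroup.card_bot] at hev
        exact absurd hev (by decide)
      · refine ⟨P.mapSurjective (f := e.symm.toMonoidHom) e.symm.surjective, ?_⟩
        show H = (P : Subgroup _).map e.symm.toMonoidHom
        rw [← hP, map_back]
      · rw [h3] at hev
        exact absurd hev (by decide)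
    · refine Or.inr (Or.inl ⟨hsz, ?_⟩)
      obtain ⟨F, fF, tF, m, hm, hF, ⟨e⟩⟩ := hsz
      rcases (S5737.result m hm hF _ (map_ne_top e hH)).1 (S5737.binaryOn_map e hb) with h | ⟨P, hP⟩
      · have hev := map_even e heven
        rw [h, Subgroup.card_bot] at hev
        exact absurd hev (by decide)
      · obtain ⟨Q, hQ⟩ := center_transfer e.symm P
        exact ⟨Q, by rw [← hQ, ← hP, map_back]⟩
    · refine Or.inr (Or.inr ⟨⟨F, fF, tF, n, hn, hF, ⟨e⟩⟩, ?_⟩)
      haveI := charP_two_of_card (n := n * 2) (by rw [hF, ← pow_mul]) (by omega)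
      obtain ⟨C⟩ := PSU3Index.exists_ctx hF
      obtain ⟨P, hP⟩ := (BinInvol.psu_binary_iff C hn rfl (oneClass_map e hone) (map_ne_top e hH)
        (map_even e heven)).1 (S5737.binaryOn_map e hb)
      obtain ⟨Q, hQ⟩ := center_transfer e.symm P
      exact ⟨Q, by rw [← hQ, ← hP, map_back]⟩
  · rintro (⟨⟨F, fF, tF, a, ha, hF, ⟨e⟩⟩, P, rfl⟩ | ⟨⟨F, fF, tF, m, hm, hF, ⟨e⟩⟩, P, rfl⟩ |
      ⟨⟨F, fF, tF, a, ha, hF, ⟨e⟩⟩, P, rfl⟩)
    · obtain ⟨s⟩ := slEquiv hF (by omega)
      obtain ⟨f, -⟩ : ∃ f : G ≃* Matrix.ProjectiveSpecialLinearGroup (Fin 2) F, f = e.trans s := ⟨_, rfl⟩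
      rw [← map_back f (P : Subgroup G)]
      refine S5737.binaryOn_map f.symm ((S5736.result ?_ ?_ _ (map_ne_top f hH)).2
        (Or.inr (Or.inl ⟨⟨a, hF⟩, P.mapSurjective (f := f.toMonoidHom) f.surjective, ?_⟩)))
      · exact hF ▸ le_trans (by norm_num) (Nat.pow_le_pow_right two_pos ha)
      · intro e5
        rw [hF] at e5
        have := (Nat.even_pow' (show a ≠ 0 by omega)).2 even_two
        rw [e5] at this
        exact absurd this (by decide)
      · rfl
    · obtain ⟨Q, hQ⟩ := center_transfer e P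
      rw [← map_back e ((Subgroup.center (P : Subgroup G)).map (P : Subgroup G).subtype), hQ]
      exact S5737.binaryOn_map e.symm ((S5737.result m hm hF _ (hQ ▸ map_ne_top e hH)).2 (Or.inr ⟨Q, rfl⟩))
    · haveI := charP_two_of_card (n := a * 2) (by rw [hF, ← pow_mul]) (by omega)
      obtain ⟨C⟩ := PSU3Index.exists_ctx hF
      obtain ⟨Q, hQ⟩ := center_transfer e P
      rw [← map_back e ((Subgroup.center (P : Subgroup G)).map (P : Subgroup G).subtype), hQ]
      exact S5737.binaryOn_map e.symm ((BinInvol.psu_binary_iff C ha rfl (oneClass_map e hone)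
        (hQ ▸ map_ne_top e hH) (hQ ▸ map_even e heven)).2 ⟨Q, rfl⟩)

end Cfsg.Agent.S5735
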