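import Cfsg.Statements.S5738

set_option autoImplicit false
open Cfsg

namespace Cfsg.Agent.S5738

/-- Let F ⊆ K be finite fields with |F| = q and [K : F] = n ≥ 2, so |K| = q^n. Regard K as an n-dimensional F-vector space; the multiplications by non-zero elements of K form a cyclic subgroup of GL_F(K) of order q^n − 1 acting regularly on the non-zero vectors (a Singer group). Its normaliser in GL_F(K) has order n·(q^n − 1). -/
theorem result {F K : Type*} [Field F] [Fintype F] [Field K] [Fintype K] [Algebra F K] (n : ℕ) (hn : 2 ≤ n) (hdim : Module.finrank F K = n) :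
    Nat.card (Subgroup.normalizer (((Units.map ((Algebra.lmul F K : K →ₐ[F] Module.End F K) : K →* Module.End F K)).range : Subgroup (Module.End F K)ˣ) : Set (Module.End F K)ˣ)) = n * (Fintype.card K - 1) := by
  classical
  set L := (Units.map ((Algebra.lmul F K : K →ₐ[F] Module.End F K) : K →* Module.End F K)) with hLdef
  let semi : Kˣ × (K ≃ₐ[F] K) → (Module.End F K)ˣ := fun p =>
    L p.1 * ⟨p.2.toLinearMap, p.2.symm.toLinearMap, LinearMap.ext fun x => by simp, LinearMap.ext fun x => by simp⟩
  have happ : ∀ (p : Kˣ × (K ≃ₐ[F] K)) x, (semi p : Module.End F K) x = (p.1 : K) * p.2 x := fun p x => by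
    simp [semi, L]
  have hLapp : ∀ (c : Kˣ) x, (L c : Module.End F K) x = (c : K) * x := fun c x => by simp [L]
  have hinj : Function.Injective semi := by
    intro p q h
    have h' : ∀ x, (p.1 : K) * p.2 x = q.1 * q.2 x := fun x => by rw [← happ, ← happ, h]
    have h1 : p.1 = q.1 := Units.ext (by simpa using h' 1)
    refine Prod.ext h1 (AlgEquiv.ext fun x => ?_)
    have := h' x
    rw [h1] at this
    exact mul_left_cancel₀ q.1.ne_zero this
  have hmem : ∀ p, semi p ∈ Subgroup.normalizer (L.range : Set (Module.End F K)ˣ) := by
    intro p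
    rw [Subgroup.mem_normalizer_iff]
    intro u
    have key : ∀ c : Kˣ, semi p * L c = L (Units.map (p.2 : K →* K) c) * semi p := by
      intro c
      refine Units.ext (LinearMap.ext fun x => ?_)
      simp only [Units.val_mul, Module.End.mul_apply, happ, hLapp, map_mul, Units.coe_map, MonoidHom.coe_coe]
      ring
    constructor
    · rintro ⟨c, rfl⟩
      exact ⟨Units.map (p.2 : K →* K) c, by rw [key, mul_inv_cancel_right]⟩
    · rintro ⟨c, hc⟩
      refine ⟨Units.map (p.2.symm : K →* K) c, ?_⟩
      have hce : Units.map (p.2 : K →* K) (Units.map (p.2.symm : K →* K) c) = c := Units.ext (by simp)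
      have h1 := key (Units.map (p.2.symm : K →* K) c)
      rw [hce, hc, inv_mul_cancel_right] at h1
      exact mul_left_cancel h1
  have hsurj : ∀ g ∈ Subgroup.normalizer (L.range : Set (Module.End F K)ˣ), ∃ p, semi p = g := by
    intro g hg
    set a := (g : Module.End F K) 1 with ha
    have hga : Function.Injective (g : Module.End F K) := by
      intro x y h
      have := congrArg (↑g⁻¹ : Module.End F K) h
      rwa [← Module.End.mul_apply, ← Module.End.mul_apply, ← Units.val_mul, inv_mul_cancel,
        Units.val_one, Module.End.one_apply, Module.End.one_apply] at this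
    have ha0 : a ≠ 0 := fun h => one_ne_zero (hga (h.trans (map_zero _).symm))
    have hmul : ∀ x y, (g : Module.End F K) (x * y) * a = (g : Module.End F K) x * (g : Module.End F K) y := by
      intro x y
      rcases eq_or_ne x 0 with rfl | hx
      · simp
      obtain ⟨d, hd⟩ := (Subgroup.mem_normalizer_iff.1 hg (L (Units.mk0 x hx))).1 ⟨_, rfl⟩
      have e : ∀ z, (d : K) * (g : Module.End F K) z = (g : Module.End F K) (x * z) := by
        intro z
        have hm : L d * g = g * L (Units.mk0 x hx) := by rw [hd, inv_mul_cancel_right]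
        have := congrArg (fun u : (Module.End F K)ˣ => (u : Module.End F K) z) hm
        simpa [hLapp] using this
      have e1 := e 1
      rw [mul_one] at e1
      rw [← e y, ← e1, ← ha]
      ring
    let σ₀ : K →ₐ[F] K := AlgHom.ofLinearMap (a⁻¹ • (g : Module.End F K))
      (by simp [← ha, inv_mul_cancel₀ ha0])
      (fun x y => by
        simp only [LinearMap.smul_apply, smul_eq_mul]
        have := hmul x y
        field_simp
        linear_combination this)
    refine ⟨(Units.mk0 a ha0, AlgEquiv.ofBijective σ₀
      (Finite.injective_iff_bijective.1 σ₀.toRingHom.injective)), Units.ext (LinearMap.ext fun x => ?_)⟩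
    rw [happ]
    show a * (a⁻¹ * (g : Module.End F K) x) = _
    rw [mul_inv_cancel_left₀ ha0]
  rw [Nat.card_congr (Equiv.ofBijective (fun p => (⟨semi p, hmem p⟩ : Subgroup.normalizer (L.range : Set (Module.End F K)ˣ)))
    ⟨fun p q h => hinj (congrArg Subtype.val h), fun g => by
      obtain ⟨p, hp⟩ := hsurj g.1 g.2; exact ⟨p, Subtype.ext hp⟩⟩).symm, Nat.card_prod,
    IsGalois.card_aut_eq_finrank, hdim, Nat.card_units, Nat.card_eq_fintype_card, mul_comm]

end Cfsg.Agent.S5738
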