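import Cfsg.Statements.S5739

set_option autoImplicit false
open Cfsg

namespace Cfsg.Agent.S5739

open scoped Classical in
theorem exists_sigma {F K : Type*} [Field F] [Field K] [Algebra F K] (g : (Module.End F K)ˣ) :
    ∃ φ : K →ₐ[F] Module.End F K, ∀ c,
      φ c = (↑g⁻¹ : Module.End F K) * Algebra.lmul F K c * (↑g : Module.End F K) := by
  refine ⟨AlgHom.ofLinearMap
    ((LinearMap.mulLeft F (↑g⁻¹ : Module.End F K)) ∘ₗ (LinearMap.mulRight F (↑g : Module.End F K)) ∘ₗ
      (Algebra.lmul F K).toLinearMap) ?_ ?_, fun c => ?_⟩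
  · simp
    ext x; simp
  · intro a b; simp [mul_assoc]
    ext x; simp [mul_assoc]
  · simp [mul_assoc]

/-- Let F ⊆ K be finite fields with |F| = q and [K : F] = n ≥ 2, and let M ≤ GL_F(K) be the Singer group of multiplications by non-zero elements of K. If g ∈ GL_F(K) does not normalise M, then the order of M ∩ gMg⁻¹ divides q^r − 1 for some proper divisor r of n. In particular, when n is prime, that order divides q − 1. -/
theorem result {F K : Type*} [Field F] [Fintype F] [Field K] [Fintype K] [Algebra F K] (n : ℕ) (hn : 2 ≤ n) (hdim : Module.finrank F K = n)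
    (g : (Module.End F K)ˣ) (hg : ((Units.map ((Algebra.lmul F K : K →ₐ[F] Module.End F K) : K →* Module.End F K)).range).map (MulAut.conj g).toMonoidHom ≠ (Units.map ((Algebra.lmul F K : K →ₐ[F] Module.End F K) : K →* Module.End F K)).range) :
    ∃ r : ℕ, 1 ≤ r ∧ r ∣ n ∧ r < n ∧ Nat.card ↥(((Units.map ((Algebra.lmul F K : K →ₐ[F] Module.End F K) : K →* Module.End F K)).range).map (MulAut.conj g).toMonoidHom ⊓ (Units.map ((Algebra.lmul F K : K →ₐ[F] Module.End F K) : K →* Module.End F K)).range) ∣ Fintype.card F ^ r - 1 := by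
  classical
  obtain ⟨φ, hφ⟩ := exists_sigma g
  let S : Subalgebra F K := (Algebra.lmul F K).range.comap φ
  haveI : Algebra.IsAlgebraic F K := Algebra.IsAlgebraic.of_finite F K
  haveI : Finite (Module.End F K) := Finite.of_injective _ DFunLike.coe_injective
  let L : IntermediateField F K := S.toIntermediateField' (Subalgebra.isField_of_algebraic S)
  have hL : ∀ c, c ∈ L ↔ φ c ∈ (Algebra.lmul F K).range := fun c => Iff.rfl
  set M := (Units.map ((Algebra.lmul F K : K →ₐ[F] Module.End F K) : K →* Module.End F K)).range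
  have hM : ∀ u : (Module.End F K)ˣ, u ∈ M ↔ (u : Module.End F K) ∈ (Algebra.lmul F K).range := by
    intro u
    constructor
    · rintro ⟨c, rfl⟩; exact ⟨c, rfl⟩
    · rintro ⟨c, hc⟩
      have hc0 : c ≠ 0 := by
        rintro rfl
        rw [map_zero] at hc
        exact u.ne_zero hc.symm
      exact ⟨Units.mk0 c hc0, Units.ext hc⟩
  have hconj : ∀ c : Kˣ, Units.map ((Algebra.lmul F K : K →ₐ[F] Module.End F K) : K →* Module.End F K) c ∈
      M.map (MulAut.conj g).toMonoidHom ↔ (c : K) ∈ L := by
    intro c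
    rw [hL, hφ]
    constructor
    · rintro ⟨u, hu, hu'⟩
      obtain ⟨d, hd⟩ := (hM u).1 hu
      refine ⟨d, hd.trans ?_⟩
      show (u : Module.End F K) = _
      have : u = g⁻¹ * Units.map ((Algebra.lmul F K : K →ₐ[F] Module.End F K) : K →* Module.End F K) c * g := by
        rw [← hu']; simp [mul_assoc]
      rw [this]; rfl
    · intro h
      refine ⟨g⁻¹ * Units.map ((Algebra.lmul F K : K →ₐ[F] Module.End F K) : K →* Module.End F K) c * g,
        (hM _).2 h, by simp [mul_assoc]⟩
  have hLtop : L ≠ ⊤ := by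
    intro htop
    apply hg
    refine (Subgroup.eq_of_le_of_card_ge ?_ ?_).symm
    · rintro u ⟨c, rfl⟩
      exact (hconj c).2 (htop ▸ IntermediateField.mem_top)
    · rw [Subgroup.card_map_of_injective (MulAut.conj g).injective]
  refine ⟨Module.finrank F L, Module.finrank_pos, ?_, ?_, ?_⟩
  · rw [← hdim, ← Module.finrank_mul_finrank F L K]; exact Dvd.intro _ rfl
  · rw [← hdim]
    refine lt_of_le_of_ne (Submodule.finrank_le L.toSubalgebra.toSubmodule) fun h => hLtop ?_
    exact IntermediateField.eq_of_le_of_finrank_eq le_top (by rw [h, IntermediateField.finrank_top'])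
  · have hinj : Function.Injective fun c : Lˣ =>
        Units.map ((Algebra.lmul F K : K →ₐ[F] Module.End F K) : K →* Module.End F K) (Units.map (L.val : L →* K) c) := by
      intro a b hab
      refine Units.ext (Subtype.ext ?_)
      exact Algebra.lmul_injective (congrArg Units.val hab)
    have hcard : Nat.card ↥(M.map (MulAut.conj g).toMonoidHom ⊓ M) = Nat.card Lˣ := by
      refine (Nat.card_congr (Equiv.ofBijective (fun c : Lˣ => (⟨_, (hconj (Units.map (L.val : L →* K) c)).2 (c : L).2,
        ⟨_, rfl⟩⟩ : ↥(M.map (MulAut.conj g).toMonoidHom ⊓ M))) ⟨fun a b h => hinj (congrArg Subtype.val h), ?_⟩)).symm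
      rintro ⟨u, hu, c, rfl⟩
      have hc := (hconj c).1 hu
      exact ⟨Units.mk0 ⟨(c : K), hc⟩ (fun h => c.ne_zero (congrArg Subtype.val h)), Subtype.ext (Units.ext rfl)⟩
    rw [hcard, Nat.card_units, Module.natCard_eq_pow_finrank (K := F), Nat.card_eq_fintype_card]

end Cfsg.Agent.S5739
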