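import Cfsg.Statements.S5747

set_option autoImplicit false
open Cfsg

namespace Cfsg.Agent.S5747

variable {G Ω : Type*} [Group G] [MulAction G Ω]

/-- An irredundant base. -/
abbrev IrrBase (G : Type*) [Group G] [MulAction G Ω] {t : ℕ} (f : Fin t → Ω) : Prop :=
  (∀ g : G, (∀ i : Fin t, g • f i = f i) → g = 1) ∧
    ∀ i : Fin t, ∃ g : G, (∀ j : Fin t, j < i → g • f j = f j) ∧ g • f i ≠ f i

/-- A minimal base, as a set. -/
def MinBase (G : Type*) [Group G] [MulAction G Ω] [DecidableEq Ω] (B : Finset Ω) : Prop :=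
  (∀ g : G, (∀ b ∈ B, g • b = b) → g = 1) ∧
    ∀ a ∈ B, ∃ g : G, (∀ b ∈ B.erase a, g • b = b) ∧ g • a ≠ a

theorem injective_of_irr {t : ℕ} {f : Fin t → Ω} (hf : IrrBase G f) : Function.Injective f := by
  intro i j hij
  rcases lt_trichotomy i j with h | h | h
  · obtain ⟨g, hg, hgj⟩ := hf.2 j
    exact absurd (hij ▸ hg i h) hgj
  · exact h
  · obtain ⟨g, hg, hgi⟩ := hf.2 i
    exact absurd (hij.symm ▸ hg j h) hgi

theorem exists_seq_of_minBase [DecidableEq Ω] {B : Finset Ω} (hB : MinBase G B) :
    ∃ f : Fin B.card → Ω, IrrBase G f ∧ Finset.univ.image f = B := by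
  refine ⟨fun i => B.equivFin.symm i, ⟨fun g hg => hB.1 g fun b hb => by simpa using hg (B.equivFin ⟨b, hb⟩),
    fun i => ?_⟩, ?_⟩
  · obtain ⟨g, hg, hgi⟩ := hB.2 _ (B.equivFin.symm i).2
    refine ⟨g, fun j hj => hg _ (Finset.mem_erase.2 ⟨fun h => hj.ne ?_, (B.equivFin.symm j).2⟩), hgi⟩
    exact B.equivFin.symm.injective (Subtype.ext h)
  · ext b
    simp only [Finset.mem_image, Finset.mem_univ, true_and]
    exact ⟨by rintro ⟨i, rfl⟩; exact (B.equivFin.symm i).2, fun hb => ⟨B.equivFin ⟨b, hb⟩, by simp⟩⟩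

theorem exists_minBase_subset [DecidableEq Ω] (B : Finset Ω) (hB : ∀ g : G, (∀ b ∈ B, g • b = b) → g = 1) :
    ∃ B' ⊆ B, MinBase G B' := by
  induction B using Finset.strongInduction with
  | _ B ih =>
    by_cases h : ∀ a ∈ B, ∃ g : G, (∀ b ∈ B.erase a, g • b = b) ∧ g • a ≠ a
    · exact ⟨B, subset_rfl, hB, h⟩
    push Not at h
    obtain ⟨a, ha, hfix⟩ := h
    obtain ⟨B', h1, h2⟩ := ih _ (Finset.erase_ssubset ha) fun g hg => hB g fun b hb => by
      by_cases hba : b = a
      · exact hba ▸ hfix g hg
      · exact hg b (Finset.mem_erase.2 ⟨hba, hb⟩)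
    exact ⟨B', h1.trans (Finset.erase_subset _ _), h2⟩

theorem minimal_of_card
    (hlen : ∀ (t t' : ℕ) (f : Fin t → Ω) (f' : Fin t' → Ω), IrrBase G f → IrrBase G f' → t = t')
    {t : ℕ} {f : Fin t → Ω} (hf : IrrBase G f) (i : Fin t) :
    ∃ g : G, (∀ j, j ≠ i → g • f j = f j) ∧ g • f i ≠ f i := by
  classical
  by_contra h
  push Not at h
  obtain ⟨B, hB, hmin⟩ := exists_minBase_subset (G := G) ((Finset.univ.erase i).image f) fun g hg => hf.1 g fun j => by
    have hj' : ∀ j, j ≠ i → g • f j = f j := fun j hj =>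
      hg _ (Finset.mem_image_of_mem f (Finset.mem_erase.2 ⟨hj, Finset.mem_univ j⟩))
    by_cases hj : j = i
    · exact hj ▸ h g hj'
    · exact hj' j hj
  obtain ⟨f', hf', -⟩ := exists_seq_of_minBase hmin
  have h1 := hlen _ _ f f' hf hf'
  have h2 := (Finset.card_le_card hB).trans Finset.card_image_le
  rw [Finset.card_erase_of_mem (Finset.mem_univ i), Finset.card_univ, Fintype.card_fin] at h2
  have := i.pos
  omega

theorem needed_of_reorder
    (hre : ∀ (t : ℕ) (f : Fin t → Ω) (σ : Equiv.Perm (Fin t)), IrrBase G f → IrrBase G (f ∘ σ))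
    {t : ℕ} {f : Fin t → Ω} (hf : IrrBase G f) (i : Fin t) :
    ∃ g : G, (∀ j, j ≠ i → g • f j = f j) ∧ g • f i ≠ f i := by
  have hpos := i.pos
  set l : Fin t := ⟨t - 1, by omega⟩
  obtain ⟨g, hg, hgl⟩ := (hre t f (Equiv.swap l i) hf).2 l
  refine ⟨g, fun j hj => ?_, by simpa using hgl⟩
  have hne : Equiv.swap l i j ≠ l := fun h => hj (by
    have := (Equiv.swap l i).injective.eq_iff (a := j) (b := i)
    rw [h, Equiv.swap_apply_right] at this
    exact this.1 rfl)
  have := hg (Equiv.swap l i j) (lt_of_le_of_ne (Fin.le_def.2 (by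
    have := (Equiv.swap l i j).isLt
    show _ ≤ t - 1
    omega)) hne)
  simpa using this

theorem card_eq_of_minBase [DecidableEq Ω]
    (hm : ∀ {t : ℕ} {f : Fin t → Ω}, IrrBase G f → MinBase G (Finset.univ.image f))
    {B B' : Finset Ω} (hB : MinBase G B) (hB' : MinBase G B') : B.card = B'.card := by
  induction hn : (B \ B').card using Nat.strong_induction_on generalizing B with
  | _ n ih =>
    rcases (B \ B').eq_empty_or_nonempty with he | ⟨a, ha⟩
    · have hsub : B ⊆ B' := Finset.sdiff_eq_empty_iff_subset.1 he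
      congr 1
      refine le_antisymm hsub fun c hc => ?_
      by_contra hcB
      obtain ⟨g, hg, hgc⟩ := hB'.2 c hc
      have := hB.1 g fun b hb => hg b (Finset.mem_erase.2 ⟨fun h => hcB (h ▸ hb), hsub hb⟩)
      exact hgc (by rw [this, one_smul])
    obtain ⟨haB, haB'⟩ := Finset.mem_sdiff.1 ha
    obtain ⟨g, hg, hga⟩ := hB.2 a haB
    obtain ⟨b, hb, hgb⟩ : ∃ b ∈ B', g • b ≠ b := by
      by_contra h
      push Not at h
      exact hga (by rw [hB'.1 g h, one_smul])
    have hbS : b ∉ B.erase a := fun h => hgb (hg b h)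
    have hba : b ≠ a := fun h => haB' (h ▸ hb)
    set k := (B.erase a).card
    set s : Fin k → Ω := fun i => (B.erase a).equivFin.symm i with hs
    have hsmem : ∀ i, s i ∈ B.erase a := fun i => ((B.erase a).equivFin.symm i).2
    have hsinj : Function.Injective s := fun i j h => (B.erase a).equivFin.symm.injective (Subtype.ext h)
    have hssurj : ∀ x ∈ B.erase a, ∃ i, s i = x := fun x hx => ⟨(B.erase a).equivFin ⟨x, hx⟩, by simp [s]⟩
    set u : Fin (k + 1) → Ω := Fin.snoc s b with hu
    have hirr : ∀ i : Fin k, ∃ g' : G, (∀ j : Fin k, j < i → g' • s j = s j) ∧ g' • s i ≠ s i := by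
      intro i
      obtain ⟨g', h1, h2⟩ := hB.2 (s i) (Finset.mem_of_mem_erase (hsmem i))
      exact ⟨g', fun j hj => h1 _ (Finset.mem_erase.2 ⟨fun h => hj.ne (hsinj h),
        Finset.mem_of_mem_erase (hsmem j)⟩), h2⟩
    have hu2 : ∀ i : Fin (k + 1), ∃ g' : G, (∀ j, j < i → g' • u j = u j) ∧ g' • u i ≠ u i := by
      intro i
      induction i using Fin.lastCases with
      | last =>
        refine ⟨g, fun j hj => ?_, by simpa [u] using hgb⟩
        induction j using Fin.lastCases with
        | last => exact absurd hj (lt_irrefl _)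
        | cast j => simpa [u] using hg _ (hsmem j)
      | cast i =>
        obtain ⟨g', h1, h2⟩ := hirr i
        refine ⟨g', fun j hj => ?_, by simpa [u] using h2⟩
        induction j using Fin.lastCases with
        | last => exact absurd hj (not_lt.2 (Fin.castSucc_lt_last i).le)
        | cast j => simpa [u] using h1 j (by simpa using hj)
    have hbase : ∀ g' : G, (∀ i, g' • u i = u i) → g' = 1 := by
      intro g' hg'
      by_contra hne
      have hg'a : g' • a ≠ a := fun h => hne (hB.1 g' fun x hx => by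
        by_cases hxa : x = a
        · exact hxa ▸ h
        · obtain ⟨i, hi⟩ := hssurj x (Finset.mem_erase.2 ⟨hxa, hx⟩)
          have := hg' i.castSucc
          simp only [u, Fin.snoc_castSucc] at this
          rw [← hi]; exact this)
      set w : Fin (k + 1 + 1) → Ω := Fin.snoc u a
      have hw : IrrBase G w := by
        refine ⟨fun c hc => hB.1 c fun x hx => ?_, fun i => ?_⟩
        · by_cases hxa : x = a
          · have := hc (Fin.last _)
            simp only [w, Fin.snoc_last] at this
            exact hxa ▸ this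
          · obtain ⟨i, hi⟩ := hssurj x (Finset.mem_erase.2 ⟨hxa, hx⟩)
            have := hc i.castSucc.castSucc
            simp only [w, u, Fin.snoc_castSucc] at this
            rw [← hi]; exact this
        · induction i using Fin.lastCases with
          | last =>
            refine ⟨g', fun j hj => ?_, by simpa [w] using hg'a⟩
            induction j using Fin.lastCases with
            | last => exact absurd hj (lt_irrefl _)
            | cast j => simpa [w] using hg' j
          | cast i =>
            obtain ⟨c, h1, h2⟩ := hu2 i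
            refine ⟨c, fun j hj => ?_, by simpa [w] using h2⟩
            induction j using Fin.lastCases with
            | last => exact absurd hj (not_lt.2 (Fin.castSucc_lt_last i).le)
            | cast j => simpa [w] using h1 j (by simpa using hj)
      have hmin := hm hw
      have hbmem : b ∈ Finset.univ.image w :=
        Finset.mem_image.2 ⟨(Fin.last k).castSucc, Finset.mem_univ _, by simp [w, u]⟩
      obtain ⟨c, hc, hcb⟩ := hmin.2 b hbmem
      have hc1 : c = 1 := hB.1 c fun x hx => by
        refine hc x (Finset.mem_erase.2 ⟨?_, ?_⟩)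
        · rintro rfl
          exact hbS (Finset.mem_erase.2 ⟨hba, hx⟩)
        · by_cases hxa : x = a
          · exact Finset.mem_image.2 ⟨Fin.last _, Finset.mem_univ _, by simp [w, hxa]⟩
          · obtain ⟨i, hi⟩ := hssurj x (Finset.mem_erase.2 ⟨hxa, hx⟩)
            exact Finset.mem_image.2 ⟨i.castSucc.castSucc, Finset.mem_univ _, by simp [w, u, hi]⟩
      exact hcb (by rw [hc1, one_smul])
    have hmin := hm (f := u) ⟨hbase, hu2⟩
    have himg : Finset.univ.image u = insert b (B.erase a) := by
      ext x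
      simp only [Finset.mem_image, Finset.mem_univ, true_and, Finset.mem_insert]
      constructor
      · rintro ⟨i, rfl⟩
        induction i using Fin.lastCases with
        | last => left; simp [u]
        | cast i => right; simpa [u] using hsmem i
      · rintro (rfl | hx)
        · exact ⟨Fin.last k, by simp [u]⟩
        · obtain ⟨i, hi⟩ := hssurj x hx
          exact ⟨i.castSucc, by simpa [u] using hi⟩
    rw [himg] at hmin
    have hsd : insert b (B.erase a) \ B' = (B \ B').erase a := by
      ext x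
      simp only [Finset.mem_sdiff, Finset.mem_insert, Finset.mem_erase]
      exact ⟨fun h => by rcases h.1 with rfl | h' <;> [exact absurd hb h.2; exact ⟨h'.1, h'.2, h.2⟩],
        fun h => ⟨Or.inr ⟨h.1, h.2.1⟩, h.2.2⟩⟩
    have := ih _ (by rw [← hn, hsd]; exact Finset.card_erase_lt_of_mem ha) hmin rfl
    rw [← this, Finset.card_insert_of_notMem hbS]
    exact (Finset.card_erase_add_one haB).symm


/-- Let a finite group G act on a finite set Ω. An irredundant base is a sequence of points ω₁, …, ω_t whose pointwise stabiliser is trivial and in which each ω_i is moved by some element fixing ω₁, …, ω_{i−1}. Then all irredundant bases have the same length if and only if every reordering of an irredundant base is again an irredundant base. -/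
theorem result {G Ω : Type*} [Group G] [Finite G] [MulAction G Ω] [Fintype Ω] :
    (∀ (t t' : ℕ) (f : Fin t → Ω) (f' : Fin t' → Ω), ((∀ g : G, (∀ i : Fin t, g • f i = f i) → g = 1) ∧ ∀ i : Fin t, ∃ g : G, (∀ j : Fin t, j < i → g • f j = f j) ∧ g • f i ≠ f i) → ((∀ g : G, (∀ i : Fin t', g • f' i = f' i) → g = 1) ∧ ∀ i : Fin t', ∃ g : G, (∀ j : Fin t', j < i → g • f' j = f' j) ∧ g • f' i ≠ f' i) → t = t') ↔
    (∀ (t : ℕ) (f : Fin t → Ω) (σ : Equiv.Perm (Fin t)), ((∀ g : G, (∀ i : Fin t, g • f i = f i) → g = 1) ∧ ∀ i : Fin t, ∃ g : G, (∀ j : Fin t, j < i → g • f j = f j) ∧ g • f i ≠ f i) → ((∀ g : G, (∀ i : Fin t, g • (f ∘ σ) i = (f ∘ σ) i) → g = 1) ∧ ∀ i : Fin t, ∃ g : G, (∀ j : Fin t, j < i → g • (f ∘ σ) j = (f ∘ σ) j) ∧ g • (f ∘ σ) i ≠ (f ∘ σ) i)) := by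
  classical
  constructor
  · intro hlen t f σ hf
    have hmin := minimal_of_card hlen hf
    refine ⟨fun g hg => hf.1 g fun i => ?_, fun i => ?_⟩
    · simpa using hg (σ.symm i)
    · obtain ⟨g, hg, hgi⟩ := hmin (σ i)
      exact ⟨g, fun j hj => hg (σ j) fun h => hj.ne (σ.injective h), hgi⟩
  · intro hre t t' f f' hf hf'
    have hm : ∀ {t : ℕ} {f : Fin t → Ω}, IrrBase G f → MinBase G (Finset.univ.image f) := by
      intro t f hf
      refine ⟨fun g hg => hf.1 g fun i => hg _ (Finset.mem_image_of_mem f (Finset.mem_univ i)), ?_⟩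
      intro a ha
      obtain ⟨i, -, rfl⟩ := Finset.mem_image.1 ha
      obtain ⟨g, hg, hgi⟩ := needed_of_reorder hre hf i
      refine ⟨g, fun b hb => ?_, hgi⟩
      obtain ⟨hbi, hb⟩ := Finset.mem_erase.1 hb
      obtain ⟨j, -, rfl⟩ := Finset.mem_image.1 hb
      exact hg j fun h => hbi (h ▸ rfl)
    have := card_eq_of_minBase hm (hm hf) (hm hf')
    rwa [Finset.card_image_of_injective _ (injective_of_irr hf),
      Finset.card_image_of_injective _ (injective_of_irr hf'), Finset.card_univ, Finset.card_univ,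
      Fintype.card_fin, Fintype.card_fin] at this

end Cfsg.Agent.S5747
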