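import Cfsg.Statements.S5748
import Cfsg.Agent.Lib.CASimple.Main
import Cfsg.Agent.Lib.CASimple.Converse
-- import your own Cfsg.Agent.* helpers here

set_option autoImplicit false
open Cfsg

namespace Cfsg.Agent.S5748

/-- A finite non-abelian simple group in which commuting is a transitive relation on the non-identity elements (equivalently, every non-identity element has abelian centraliser) is isomorphic to PSL₂ over a field with 2^f elements for some f ≥ 2; conversely these groups have that property. -/
theorem result {G : Type*} [Group G] [Finite G] [IsSimpleGroup G] (hG : ¬ IsMulCommutative G) :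
    (∀ a b c : G, a ≠ 1 → b ≠ 1 → c ≠ 1 → Commute a b → Commute b c → Commute a c) ↔
    ∃ (F : Type) (_ : Field F) (_ : Fintype F) (f : ℕ), 2 ≤ f ∧ Fintype.card F = 2 ^ f ∧ Nonempty (G ≃* Matrix.ProjectiveSpecialLinearGroup (Fin 2) F) := by
  classical
  constructor
  · intro h
    have hc : CASimple.CT G := fun a b c ha hab hac => by
      rcases eq_or_ne b 1 with rfl | hb
      · simp
      rcases eq_or_ne c 1 with rfl | hc
      · simp
      exact (h b a c hb ha hc (show Commute b a from hab.symm) hac).eq
    obtain ⟨f, hf, he⟩ := CASimple.classification hG hc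
    exact ⟨GaloisField 2 f, inferInstance, Fintype.ofFinite _, f, hf,
      by rw [← @Nat.card_eq_fintype_card _ (Fintype.ofFinite _), GaloisField.card 2 f (by omega)], he⟩
  · rintro ⟨F, iF, iFin, f, -, hcard, ⟨e⟩⟩
    haveI : Fact (Nat.Prime 2) := ⟨Nat.prime_two⟩
    haveI : CharP F 2 := Agent.CASimple.charTwo hcard
    have hCA := Agent.CASimple.psl_ct (F := F)
    intro a b c _ hb _ hab hbc
    apply e.injective
    rw [map_mul, map_mul]
    refine hCA (e b) (e a) (e c) (fun h => hb (e.injective (h.trans (map_one e).symm))) ?_ ?_
    · rw [← map_mul, ← map_mul, hab.eq]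
    · rw [← map_mul, ← map_mul, hbc.eq]

end Cfsg.Agent.S5748
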