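import Cfsg.Statements.S5752
import Cfsg.Agent.Lib.TW.Pair
-- import your own Cfsg.Agent.* helpers here

set_option autoImplicit false
open Cfsg

namespace Cfsg.Agent.S5752

/-- A form of the Thompson–Wielandt Theorem on primitive permutation groups. Let G be a finite group and M₁, M₂ two distinct conjugate maximal subgroups of G with trivial core in G; define two descending sequences of subgroups by A₀ = M₁, B₀ = M₂ and, for every i, A_{i+1} = the core in M₁ of A_i ∩ B_i and B_{i+1} = the core in M₂ of A_i ∩ B_i (the core in M of a subgroup Y ≤ M is the largest normal subgroup of M contained in Y). If A₂ and B₂ are both non-trivial, then for some prime p the subgroup generated by A₂ and B₂ is a p-group, and for each j the generalized Fitting subgroups of M_j and of its first core (A₁, resp. B₁) are their largest normal p-subgroups. -/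
theorem result {G : Type*} [Group G] [Finite G] (M₁ M₂ : Subgroup G) (hmax : IsCoatom M₁) (g : G)
    (hconj : M₂ = M₁.map (MulAut.conj g).toMonoidHom) (hne : M₁ ≠ M₂) (hcore : M₁.normalCore = ⊥)
    (A B : ℕ → Subgroup G) (hA0 : A 0 = M₁) (hB0 : B 0 = M₂)
    (hA : ∀ i, A (i + 1) = ((A i ⊓ B i).subgroupOf M₁).normalCore.map M₁.subtype)
    (hB : ∀ i, B (i + 1) = ((A i ⊓ B i).subgroupOf M₂).normalCore.map M₂.subtype) (hA2 : A 2 ≠ ⊥) (hB2 : B 2 ≠ ⊥) :
    ∃ p : ℕ, p.Prime ∧ IsPGroup p ↥(A 2 ⊔ B 2) ∧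
      Cfsg.generalizedFittingSubgroup ↥M₁ = Cfsg.pCore p ↥M₁ ∧ Cfsg.generalizedFittingSubgroup ↥(A 1) = Cfsg.pCore p ↥(A 1) ∧
      Cfsg.generalizedFittingSubgroup ↥M₂ = Cfsg.pCore p ↥M₂ ∧ Cfsg.generalizedFittingSubgroup ↥(B 1) = Cfsg.pCore p ↥(B 1) := by
  have hmax2 : IsCoatom M₂ := by
    rw [hconj]
    exact (OrderIso.isCoatom_iff ((MulAut.conj g).mapSubgroup) M₁).2 hmax
  have hcore2 : M₂.normalCore = ⊥ := by
    rw [eq_bot_iff, ← hcore]
    intro x hx
    have h := hx g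
    rw [hconj] at h
    obtain ⟨y, hy, e⟩ := h
    intro b
    have h2 := M₂.normalCore_normal.conj_mem x hx (g * b)
    have h3 := Subgroup.normalCore_le _ h2
    rw [hconj] at h3
    obtain ⟨z, hz, e'⟩ := h3
    have : z = b * x * b⁻¹ := by
      simp only [MulEquiv.coe_toMonoidHom, MulAut.conj_apply] at e'
      calc z = g⁻¹ * (g * z * g⁻¹) * g := by group
        _ = g⁻¹ * (g * b * x * (g * b)⁻¹) * g := by rw [e']
        _ = b * x * b⁻¹ := by group
    exact this ▸ hz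
  have eA1 : A 1 = TW.fstCore M₁ M₂ := by rw [hA 0, hA0, hB0]; rfl
  have eB1 : B 1 = TW.fstCore M₂ M₁ := by
    rw [hB 0, hA0, hB0, inf_comm]; rfl
  have eA2 : A 2 = TW.sndCore M₁ M₂ := by rw [hA 1, eA1, eB1]; rfl
  have eB2 : B 2 = TW.sndCore M₂ M₁ := by rw [hB 1, eA1, eB1, inf_comm]; rfl
  have h : TW.TWPair M₁ M₂ :=
    ⟨hmax, hcore, hmax2, hcore2, hne, ⟨g, hconj⟩, eA2 ▸ hA2, eB2 ▸ hB2⟩
  rw [eA2, eB2]
  obtain ⟨p, hp, h1, h2, h3, h4, h5⟩ := h.main
  exact ⟨p, hp, h1, h2, eA1 ▸ h3, h4, eB1 ▸ h5⟩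

end Cfsg.Agent.S5752
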