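import Cfsg.Statements.S5754

set_option autoImplicit false
open Cfsg

namespace Cfsg.Agent.S5754

/-- Let V be a finite-dimensional vector space over a finite field F carrying an anisotropic quadratic form Q (Q(v) = 0 only for v = 0). Then the group of all maps v ↦ φ(v) + c, with φ an isometry of Q and c ∈ V, acts on V as a binary permutation group: given n ≥ 2 and two n-tuples u, u' of vectors such that every pair of corresponding entries of u is carried to that of u' by such a map, one such map carries u to u'. -/
theorem result {F V : Type*} [Field F] [Finite F] [AddCommGroup V] [Module F V] [Module.Finite F V]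
    (Q : QuadraticForm F V) (hQ : Q.Anisotropic) (n : ℕ) (hn : 2 ≤ n) (u u' : Fin n → V)
    (h2 : ∀ i j : Fin n, i ≠ j → ∃ (φ : Q.IsometryEquiv Q) (c : V), φ (u i) + c = u' i ∧ φ (u j) + c = u' j) :
    ∃ (φ : Q.IsometryEquiv Q) (c : V), ∀ i, φ (u i) + c = u' i := by
  classical
  have i₀ : Fin n := ⟨0, by omega⟩
  have hdiff : ∀ i j, Q (u i - u j) = Q (u' i - u' j) := by
    intro i j
    by_cases hij : i = j
    · subst hij; simp
    obtain ⟨φ, c, h1, h3⟩ := h2 i j hij
    have e : u' i - u' j = φ (u i - u j) := by
      rw [← h1, ← h3, show φ (u i - u j) = φ (u i) - φ (u j) from map_sub φ.toLinearEquiv _ _]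
      abel
    rw [e, φ.map_app]
  set d : Fin n → V := fun i => u i - u i₀ with hd
  set d' : Fin n → V := fun i => u' i - u' i₀ with hd'
  have hQd : ∀ i, Q (d i) = Q (d' i) := fun i => hdiff i i₀
  have hpol : ∀ i j, QuadraticMap.polar Q (d i) (-d j) = QuadraticMap.polar Q (d' i) (-d' j) := by
    intro i j
    have e1 : d i + -d j = u i - u j := by simp only [hd]; abel
    have e2 : d' i + -d' j = u' i - u' j := by simp only [hd']; abel
    simp only [QuadraticMap.polar, e1, e2, QuadraticMap.map_neg, hQd, hdiff i j]
  have main : ∀ S : Finset (Fin n), ∃ φ : Q.IsometryEquiv Q, ∀ i ∈ S, φ (d i) = d' i := by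
    intro S
    induction S using Finset.induction with
    | empty => exact ⟨QuadraticMap.IsometryEquiv.refl Q, by simp⟩
    | @insert j S hj ih =>
      obtain ⟨φ, hφ⟩ := ih
      by_cases hv : φ (d j) - d' j = 0
      · exact ⟨φ, fun i hi => by
          rcases Finset.mem_insert.1 hi with rfl | hi
          · exact sub_eq_zero.1 hv
          · exact hφ i hi⟩
      set v := φ (d j) - d' j with hvdef
      have hQv : Q v ≠ 0 := fun h => hv (hQ v h)
      let s : V →ₗ[F] V := LinearMap.id - (Q v)⁻¹ • (Q.polarBilin v).smulRight v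
      have hs : ∀ x, s x = x - ((Q v)⁻¹ * QuadraticMap.polar Q v x) • v := fun x => by
        simp [s, smul_smul]
      have hsQ : ∀ x, Q (s x) = Q x := by
        intro x
        rw [hs, sub_eq_add_neg, ← neg_smul, QuadraticMap.map_add Q, QuadraticMap.map_smul,
          QuadraticMap.polar_smul_right, QuadraticMap.polar_comm Q x v, smul_eq_mul, smul_eq_mul]
        field_simp
        ring
      have hsinv : Function.Involutive s := by
        intro x
        rw [hs (s x), hs x, QuadraticMap.polar_sub_right, QuadraticMap.polar_smul_right,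
          QuadraticMap.polar_self, smul_eq_mul, nsmul_eq_mul, sub_sub, ← add_smul]
        have : (Q v)⁻¹ * QuadraticMap.polar Q v x +
            (Q v)⁻¹ * (QuadraticMap.polar Q v x - (Q v)⁻¹ * QuadraticMap.polar Q v x * (↑(2:ℕ) * Q v)) = 0 := by
          field_simp; push_cast; ring
        rw [this, zero_smul, sub_zero]
      let σ : Q.IsometryEquiv Q := ⟨LinearEquiv.ofInvolutive s hsinv, hsQ⟩
      refine ⟨φ.trans σ, fun i hi => ?_⟩
      show s (φ (d i)) = d' i
      rcases Finset.mem_insert.1 hi with rfl | hi
      · have hval : QuadraticMap.polar Q v (φ (d i)) = Q v := by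
          have e : φ (d i) + (-v) = d' i := by rw [hvdef]; abel
          have h0 : QuadraticMap.polar Q (φ (d i)) (-v) = Q (d' i) - Q (φ (d i)) - Q v := by
            rw [QuadraticMap.polar, e, QuadraticMap.map_neg]
          rw [QuadraticMap.polar_neg_right, φ.map_app, hQd, QuadraticMap.polar_comm] at h0
          linear_combination -h0
        rw [hs, hval, inv_mul_cancel₀ hQv, one_smul, hvdef]
        abel
      · have hval : QuadraticMap.polar Q v (φ (d i)) = 0 := by
          have e1 : φ (d i) + φ (-d j) = φ (d i + -d j) := (map_add φ.toLinearEquiv _ _).symm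
          have h0 : QuadraticMap.polar Q (φ (d i)) (φ (-d j)) = QuadraticMap.polar Q (d i) (-d j) := by
            simp only [QuadraticMap.polar, e1, φ.map_app]
          rw [show φ (-d j) = -φ (d j) from map_neg φ.toLinearEquiv _, hpol i j,
            QuadraticMap.polar_neg_right, QuadraticMap.polar_neg_right] at h0
          show QuadraticMap.polar Q (φ (d j) - d' j) (φ (d i)) = 0
          rw [hφ i hi] at h0 ⊢
          rw [QuadraticMap.polar_sub_left, QuadraticMap.polar_comm Q (φ (d j)),
            QuadraticMap.polar_comm Q (d' j)]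
          linear_combination -h0
        rw [hs, hval, mul_zero, zero_smul, sub_zero, hφ i hi]
  obtain ⟨φ, hφ⟩ := main Finset.univ
  refine ⟨φ, u' i₀ - φ (u i₀), fun i => ?_⟩
  have h : φ (u i) - φ (u i₀) = u' i - u' i₀ :=
    (map_sub φ.toLinearEquiv _ _).symm.trans (hφ i (Finset.mem_univ i))
  rw [show φ (u i) + (u' i₀ - φ (u i₀)) = (φ (u i) - φ (u i₀)) + u' i₀ by abel, h]
  abel

end Cfsg.Agent.S5754
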