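import Cfsg.Statements.S5778
import Cfsg.Agent.Lib.Aschbacher.UnitRefine
import Cfsg.Agent.Lib.Aschbacher.UnitThreeField
import Cfsg.Agent.Lib.Aschbacher.UnitThreeFrame
import Cfsg.Agent.Lib.Aschbacher.UnitThreeExtra

set_option autoImplicit false
open Cfsg

namespace Cfsg.Agent.S5778

/-- Every maximal subgroup of SU_3(q), q ≥ 3, is of one of the listed geometric types or lies in the residual class. Let F be the field with q² elements, f the standard unitary form Σ u_i v_i^q on F^3, and H a maximal subgroup of SU_3(q) (the determinant-one isometries of f, inside GL_3(F)). Then H is the intersection with SU_3(q) of one of: the stabiliser of a non-zero subspace on which f vanishes; the stabiliser of a non-degenerate 1-space; for q ≠ 5, the stabiliser of a decomposition into three mutually orthogonal non-degenerate 1-spaces; for q ≠ 3, 5, the normaliser of an adjoint-closed degree-3 subfield of the matrix algebra; a subfield group of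 odd prime index whose F₀-structure carries f; for q odd, q ≥ 7, a subfield group of index 2 whose F₀-structure carries f; for q = p ≡ 2 mod 3 prime with p ≥ 11, the normaliser of an absolutely irreducible subgroup of order 27 with centre of order 3, exponent 3 and all characteristic abelian subgroups cyclic, contained in the similarity group of f — or else H lies in the residual class of the unitary case. -/
theorem result {F : Type*} [Field F] [Fintype F] (q : ℕ) (hF : Fintype.card F = q ^ 2) (hq : 3 ≤ q) (H : Subgroup (Matrix.GeneralLinearGroup (Fin 3) F)) (hH : Cfsg.Geo.IsMaximalIn (Cfsg.GU 3 F q ⊓ Cfsg.Geo.specialLinear (Fin 3) F) H) :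
    (∃ W : Submodule F (Fin 3 → F), W ≠ ⊥ ∧ Cfsg.Geo.IsTotallySingularFor (Cfsg.hermForm 3 F q) W ∧ H = Cfsg.Geo.subspaceStabilizer W ⊓ (Cfsg.GU 3 F q ⊓ Cfsg.Geo.specialLinear (Fin 3) F)) ∨
    (∃ W : Submodule F (Fin 3 → F), W ≠ ⊥ ∧ Cfsg.Geo.IsNondegenerateOn (Cfsg.hermForm 3 F q) W ∧ 2 * Module.finrank F W < 3 ∧ H = Cfsg.Geo.subspaceStabilizer W ⊓ (Cfsg.GU 3 F q ⊓ Cfsg.Geo.specialLinear (Fin 3) F)) ∨
    (q ≠ 5 ∧ ∃ D : Fin 3 → Submodule F (Fin 3 → F), Cfsg.Geo.IsNondegenerateMDecomposition (Cfsg.hermForm 3 F q) 1 D ∧ H = Cfsg.Geo.decompositionStabilizer D ⊓ (Cfsg.GU 3 F q ⊓ Cfsg.Geo.specialLinear (Fin 3) F)) ∨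
    (q ≠ 3 ∧ q ≠ 5 ∧ ∃ K : Subalgebra F (Matrix (Fin 3) (Fin 3) F), Cfsg.Geo.IsFieldSubalgebra 3 K ∧ Cfsg.Geo.IsAdjointClosedFor (Cfsg.hermForm 3 F q) K ∧ H = Cfsg.Geo.subalgebraNormalizer K ⊓ (Cfsg.GU 3 F q ⊓ Cfsg.Geo.specialLinear (Fin 3) F)) ∨
    (∃ (F₀ : Subfield F) (r : ℕ) (P : Matrix.GeneralLinearGroup (Fin 3) F), r.Prime ∧ Odd r ∧ Fintype.card F = Nat.card F₀ ^ r ∧ Cfsg.Geo.IsFormRationalStructure (Cfsg.hermForm 3 F q) F₀ 1 P ∧ H = Cfsg.Geo.subfieldSubgroup F₀ P ⊓ (Cfsg.GU 3 F q ⊓ Cfsg.Geo.specialLinear (Fin 3) F)) ∨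
    (Odd q ∧ 7 ≤ q ∧ ∃ (F₀ : Subfield F) (P : Matrix.GeneralLinearGroup (Fin 3) F), Fintype.card F = Nat.card F₀ ^ 2 ∧ Cfsg.Geo.IsFormRationalStructure (Cfsg.hermForm 3 F q) F₀ 1 P ∧ H = Cfsg.Geo.subfieldSubgroup F₀ P ⊓ (Cfsg.GU 3 F q ⊓ Cfsg.Geo.specialLinear (Fin 3) F)) ∨
    (∃ (p : ℕ) (R : Subgroup (Matrix.GeneralLinearGroup (Fin 3) F)), p.Prime ∧ q = p ∧ p % 3 = 2 ∧ 11 ≤ p ∧ Cfsg.Geo.IsSymplecticTypeGroup 3 R ∧ Cfsg.Geo.ActsAbsolutelyIrreducibly (Cfsg.Geo.matrixSet R) ∧ R ≤ Cfsg.Geo.similarityGroup (Cfsg.hermForm 3 F q) ∧ Nat.card R = 27 ∧ Nat.card (Subgroup.center R) = 3 ∧ H = Cfsg.Geo.subgroupNormalizer R ⊓ (Cfsg.GU 3 F q ⊓ Cfsg.Geo.specialLinear (Fin 3) F)) ∨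
    Cfsg.Geo.InUnitaryResidualClass H := by
  rcases Cfsg.Agent.Aschbacher.unitMaximal_three hF rfl hq hH with ⟨X, hX, e⟩ | hres
  swap
  · exact Or.inr <| Or.inr <| Or.inr <| Or.inr <| Or.inr <| Or.inr <| Or.inr <| hres
  cases hX with
  | singular h0 hW => exact Or.inl ⟨_, h0, hW, e⟩
  | nondeg h0 hW hlt => exact Or.inr <| Or.inl ⟨_, h0, hW, hlt, e⟩
  | @decomp t k D hD =>
    have hc := Cfsg.Agent.Aschbacher.mdecomp_card hD.decomp
    rw [Fintype.card_fin] at hc
    have ht := hD.decomp.two_le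
    obtain rfl : t = 3 :=
      ((Nat.dvd_prime Nat.prime_three).1 ⟨k, hc.symm⟩).resolve_left (by omega)
    obtain rfl : k = 1 := by omega
    by_cases hq5 : q = 5
    · subst hq5
      exact (Cfsg.Agent.Aschbacher.UnitThree.frame_not_maximal_five hF hD hH e).elim
    · exact Or.inr <| Or.inr <| Or.inl ⟨hq5, D, hD, e⟩
  | @pair k D hk hD hts => omega
  | subSkew hn hc hζ hζq hP h0 => exact absurd hn (by decide)
  | subOdd hr hro hc hP => exact Or.inr <| Or.inr <| Or.inr <| Or.inr <| Or.inl ⟨_, _, _, hr, hro, hc, hP, e⟩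
  | subTwo hqo hc hP =>
    by_cases hq7 : 7 ≤ q
    · exact Or.inr <| Or.inr <| Or.inr <| Or.inr <| Or.inr <| Or.inl ⟨hqo, hq7, _, _, hc, hP, e⟩
    · obtain ⟨m, hm⟩ := id hqo
      obtain rfl | rfl : q = 3 ∨ q = 5 := by omega
      · obtain ⟨D, hD, hle⟩ := Cfsg.Agent.Aschbacher.UnitThree.exists_decomp_of_subTwo_three hF hc hP
        have e' := Cfsg.Agent.Aschbacher.eq_of_le_unitX_three hF rfl hq hH (.decomp hD)
          fun g hg => hle g (hH.1.le hg) (e ▸ hg).1
        exact Or.inr <| Or.inr <| Or.inl ⟨by norm_num, D, hD, e'⟩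
      · exact (Cfsg.Agent.Aschbacher.UnitThree.subTwo_not_maximal_five hF hc hP hH e).elim
  | @symplType R r p e' k hn htype habs hsim hrp hmin hdata =>
    have hrp' := htype.prime
    have hk0 : k ≠ 0 := by rintro rfl; simp at hn
    obtain rfl : r = 3 := (Nat.prime_dvd_prime_iff_eq hrp' Nat.prime_three).1
      (hn ▸ dvd_pow_self r hk0)
    obtain rfl : k = 1 := (Nat.pow_right_injective (by norm_num) ((pow_one 3).trans hn)).symm
    obtain ⟨-, hC, -, hR⟩ := hdata.resolve_right fun h => absurd h.1 (by norm_num)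
    obtain ⟨j, hj, hqj, he⟩ := Cfsg.Agent.Aschbacher.minimal_field_data hmin hF
    obtain ⟨hp, hchar, hcard, hdvd, hlow⟩ := hmin
    rw [hC] at hdvd hlow
    have hmod : ∀ d, 3 ∣ p ^ d - 1 ↔ (p % 3) ^ d % 3 = 1 := fun d =>
      Cfsg.Agent.Aschbacher.dvd_pow_sub_one_iff_mod (by norm_num) hp.pos
    have hp3 : p % 3 ≠ 0 := fun h => hrp ((Nat.prime_dvd_prime_iff_eq Nat.prime_three hp).1
      (Nat.dvd_of_mod_eq_zero h))
    have hp32 : p % 3 = 1 ∨ p % 3 = 2 := by omega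
    have h2 : e' ≤ 2 := by
      by_contra h
      refine hlow 2 two_pos (by omega) ((hmod 2).2 ?_)
      rcases hp32 with h' | h' <;> rw [h'] <;> norm_num
    obtain rfl : j = 1 := by omega
    subst he
    rw [pow_one] at hqj
    have hp2 : p % 3 = 2 := by
      refine hp32.resolve_left fun h' => hlow 1 one_pos (by norm_num) ((hmod 1).2 ?_)
      rw [h']
      norm_num
    subst hqj
    have hR27 : Nat.card R = 27 := by rw [hR]; norm_num
    by_cases hp11 : 11 ≤ q
    · exact Or.inr <| Or.inr <| Or.inr <| Or.inr <| Or.inr <| Or.inr <| Or.inl ⟨q, R, hp, rfl, hp2, hp11, htype, habs, hsim, hR27, hC, e⟩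
    · obtain rfl : q = 5 := by
        interval_cases q <;> first | rfl | omega | (exfalso; norm_num at hp)
      exact (Cfsg.Agent.Aschbacher.UnitThree.symplType_not_maximal_five hF htype habs hsim hR27 hC hH e).elim
  | @field r K hr hro hdvd hK hadj =>
    obtain rfl : r = 3 := (Nat.prime_dvd_prime_iff_eq hr Nat.prime_three).1 hdvd
    by_cases hq35 : q ≠ 3 ∧ q ≠ 5
    · exact Or.inr <| Or.inr <| Or.inr <| Or.inl ⟨hq35.1, hq35.2, K, hK, hadj, e⟩
    · obtain rfl | rfl : q = 3 ∨ q = 5 := by omega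
      · exact (Cfsg.Agent.Aschbacher.UnitThree.field_not_maximal_three hF hK hadj hH e).elim
      · exact (Cfsg.Agent.Aschbacher.UnitThree.field_not_maximal_five hF hK hadj hH e).elim
  | @tensor n₁ n₂ eq P f₁ f₂ h1 h2 hf₁ hf₂ hstr =>
    exfalso
    have hc := Fintype.card_congr eq
    simp only [Fintype.card_prod, Fintype.card_fin] at hc
    nlinarith
  | @wreath k t eq P f₁ hk ht hex hf₁ hstr =>
    exfalso
    have hc := Fintype.card_congr eq
    simp only [Fintype.card_fun, Fintype.card_fin] at hc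
    have h9 : k ^ 2 ≤ k ^ t := Nat.pow_le_pow_right (by omega) ht
    nlinarith

end Cfsg.Agent.S5778
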