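import Cfsg.Statements.S5781
import Cfsg.Agent.Lib.Aschbacher.LinFour

set_option autoImplicit false
open Cfsg

namespace Cfsg.Agent.S5781

/-- Every maximal subgroup of SL_4(q) is of one of the listed geometric types or lies in the residual class. Let F be a finite field with q elements and H a maximal subgroup of SL_4(F) (inside GL_4(F)). Then H is the intersection with SL_4(F) of one of: the stabiliser of a proper non-zero subspace; for q ≥ 7, the stabiliser of a decomposition into four independent lines; for q ≥ 4, the stabiliser of a decomposition into two independent planes; the normaliser of a degree-2 subfield of the matrix algebra; a subfield group for a subfield F₀ with |F| = |F₀|^r, r prime; for q = p ≡ 1 mod 4 prime, the normaliser of an absolutely irreducible 2-subgroup R of exponent 4 with centre of order 4, all of whose characteristic abelian subgroups are cyclic, of order 2^(2+2m) for some m (here |R| = 64), with 4 dividing p − 1; for q odd, the similarity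 group of a non-degenerate quadratic form; the similarity group of a non-degenerate symplectic form; the similarity group of a non-degenerate unitary form — or else H lies in the residual class of the linear case. -/
theorem result {F : Type*} [Field F] [Fintype F] (H : Subgroup (Matrix.GeneralLinearGroup (Fin 4) F)) (hH : Cfsg.Geo.IsMaximalIn (Cfsg.Geo.specialLinear (Fin 4) F) H) :
    (∃ W : Submodule F (Fin 4 → F), W ≠ ⊥ ∧ W ≠ ⊤ ∧ H = Cfsg.Geo.subspaceStabilizer W ⊓ Cfsg.Geo.specialLinear (Fin 4) F) ∨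
    (7 ≤ Fintype.card F ∧ ∃ D : Fin 4 → Submodule F (Fin 4 → F), Cfsg.Geo.IsMDecomposition 1 D ∧ H = Cfsg.Geo.decompositionStabilizer D ⊓ Cfsg.Geo.specialLinear (Fin 4) F) ∨
    (4 ≤ Fintype.card F ∧ ∃ D : Fin 2 → Submodule F (Fin 4 → F), Cfsg.Geo.IsMDecomposition 2 D ∧ H = Cfsg.Geo.decompositionStabilizer D ⊓ Cfsg.Geo.specialLinear (Fin 4) F) ∨
    (∃ K : Subalgebra F (Matrix (Fin 4) (Fin 4) F), Cfsg.Geo.IsFieldSubalgebra 2 K ∧ H = Cfsg.Geo.subalgebraNormalizer K ⊓ Cfsg.Geo.specialLinear (Fin 4) F) ∨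
    (∃ (F₀ : Subfield F) (r : ℕ) (P : Matrix.GeneralLinearGroup (Fin 4) F), r.Prime ∧ Fintype.card F = Nat.card F₀ ^ r ∧ H = Cfsg.Geo.subfieldSubgroup F₀ P ⊓ Cfsg.Geo.specialLinear (Fin 4) F) ∨
    (∃ (p : ℕ) (R : Subgroup (Matrix.GeneralLinearGroup (Fin 4) F)), p.Prime ∧ Fintype.card F = p ∧ p % 4 = 1 ∧ Cfsg.Geo.IsLinearSymplecticTypeData 2 R ∧ H = Cfsg.Geo.subgroupNormalizer R ⊓ Cfsg.Geo.specialLinear (Fin 4) F) ∨
    (Odd (Fintype.card F) ∧ ∃ Q : (Fin 4 → F) → F, Cfsg.Geo.IsNondegenerateQuadraticForm Q ∧ H = Cfsg.Geo.quadSimilarityGroup Q ⊓ Cfsg.Geo.specialLinear (Fin 4) F) ∨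
    (∃ f : (Fin 4 → F) → (Fin 4 → F) → F, Cfsg.Geo.IsSymplecticForm f ∧ H = Cfsg.Geo.similarityGroup f ⊓ Cfsg.Geo.specialLinear (Fin 4) F) ∨
    (∃ (σ : F ≃+* F) (f : (Fin 4 → F) → (Fin 4 → F) → F), Cfsg.Geo.IsUnitaryForm σ f ∧ H = Cfsg.Geo.similarityGroup f ⊓ Cfsg.Geo.specialLinear (Fin 4) F) ∨
    Cfsg.Geo.InLinearResidualClass H := by
  cases Cfsg.Agent.Aschbacher.maximal_sorted (by norm_num) hH with
  | subspace h => exact Or.inl h
  | @decomp t m D hD htm h1 h2 h4 h =>
    have ht := hD.two_le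
    have hm : m ≤ 2 := by nlinarith
    have hm0 := hD.pos
    interval_cases m
    · obtain rfl : t = 4 := by omega
      have hq5 := h1 rfl
      by_cases hq : Fintype.card F = 5
      · obtain ⟨R, hR, hle⟩ := Cfsg.Agent.Aschbacher.lines_five hq hD
        refine Or.inr (Or.inr (Or.inr (Or.inr (Or.inr (Or.inl
          ⟨5, R, by norm_num, hq, by norm_num, hR, ?_⟩)))))
        exact Cfsg.Agent.Aschbacher.maximal_eq_inf (by norm_num) hH
          (.symplType (k := 2) hR (by norm_num) rfl) (h.le.trans hle)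
      · have hq6 : Fintype.card F ≠ 6 := by
          intro h6
          obtain ⟨p, hp⟩ := CharP.exists F
          obtain ⟨e, hpp, he⟩ := FiniteField.card F p
          rw [h6] at he
          have h2 : (2 : ℕ) ∣ p ^ (e : ℕ) := ⟨3, by omega⟩
          have h3 : (3 : ℕ) ∣ p ^ (e : ℕ) := ⟨2, by omega⟩
          have := (Nat.prime_dvd_prime_iff_eq Nat.prime_two hpp).1 (Nat.prime_two.dvd_of_dvd_pow h2)
          have := (Nat.prime_dvd_prime_iff_eq Nat.prime_three hpp).1
            (Nat.prime_three.dvd_of_dvd_pow h3)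
          omega
        exact Or.inr (Or.inl ⟨by omega, D, hD, h⟩)
    · obtain rfl : t = 2 := by omega
      exact Or.inr (Or.inr (Or.inl ⟨h4 rfl rfl, D, hD, h⟩))
  | @field r K hr hdvd hK h =>
    obtain rfl : r = 2 := (Nat.prime_dvd_prime_iff_eq hr Nat.prime_two).1
      (hr.dvd_of_dvd_pow (show r ∣ 2 ^ 2 from hdvd))
    exact Or.inr (Or.inr (Or.inr (Or.inl ⟨K, hK, h⟩)))
  | @tensor n₁ n₂ e P h1 h2 hn hq h =>
    have hb : n₁ ≤ 1 := by nlinarith
    omega
  | subfield h => exact Or.inr (Or.inr (Or.inr (Or.inr (Or.inl h))))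
  | @symplType r k R hd hn h =>
    have hrp := hd.symplecticType.prime
    obtain rfl : r = 2 := by
      have hk : k ≠ 0 := by rintro rfl; simp at hn
      have h2 : r ∣ 2 ^ 2 := by rw [show (2 : ℕ) ^ 2 = r ^ k from hn]; exact dvd_pow_self r hk
      exact (Nat.prime_dvd_prime_iff_eq hrp Nat.prime_two).1 (hrp.dvd_of_dvd_pow h2)
    obtain ⟨p, hp, hc, hmod⟩ := Cfsg.Agent.Aschbacher.sympl_field_two (by norm_num) hd
    exact Or.inr (Or.inr (Or.inr (Or.inr (Or.inr (Or.inl ⟨p, R, hp, hc, hmod, hd, h⟩)))))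
  | @wreath m t e P hm ht hn h =>
    have h3 := Nat.pow_le_pow_right (show 0 < m by omega) ht
    nlinarith
  | symplectic he h =>
    exact Or.inr (Or.inr (Or.inr (Or.inr (Or.inr (Or.inr (Or.inr (Or.inl h)))))))
  | unitary h =>
    exact Or.inr (Or.inr (Or.inr (Or.inr (Or.inr (Or.inr (Or.inr (Or.inr (Or.inl h))))))))
  | quad h => exact Or.inr (Or.inr (Or.inr (Or.inr (Or.inr (Or.inr (Or.inl h))))))
  | residual h =>
    exact Or.inr (Or.inr (Or.inr (Or.inr (Or.inr (Or.inr (Or.inr (Or.inr (Or.inr h))))))))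

end Cfsg.Agent.S5781
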