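import Cfsg.Statements.S5787
import Cfsg.Agent.Lib.Aschbacher.SympFourPlanes
import Cfsg.Agent.Lib.Aschbacher.SympFourThree

set_option autoImplicit false
open Cfsg

namespace Cfsg.Agent.S5787

/-- Every maximal subgroup of Sp_4(q), q odd, is of one of the listed geometric types or lies in the residual class. Let F be a finite field of odd order q, f the standard alternating form on F^4 (coordinates Fin 2 ⊕ Fin 2), and H a maximal subgroup of the isometry group Sp_4(F) (inside GL_4(F)). Then H is the intersection with Sp_4(F) of one of: the stabiliser of a non-zero totally isotropic subspace; the stabiliser of a decomposition into two orthogonal non-degenerate 2-spaces; for q ≥ 5, of a decomposition into two totally isotropic 2-spaces; the normaliser of a degree-2 subfield K of the matrix algebra, self-adjoint with f(k v, v) = 0; for q ≥ 5, the normaliser of a degree-2 subfield closed under adjoints but not self-adjoint;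 a subfield group whose F₀-structure carries a non-zero multiple of f, |F| = |F₀|^r with r prime; for q = p prime, the normaliser of an absolutely irreducible symplectic-type 2-group of exponent 4, order 32, centre of order 2 and minus type inside the similarity group of f — or else H lies in the residual class of the symplectic case. -/
theorem result {F : Type*} [Field F] [Fintype F] (hodd : Odd (Fintype.card F)) (H : Subgroup (Matrix.GeneralLinearGroup (Fin 2 ⊕ Fin 2) F)) (hH : Cfsg.Geo.IsMaximalIn (Cfsg.spGL 2 F) H) :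
    (∃ W : Submodule F (Fin 2 ⊕ Fin 2 → F), W ≠ ⊥ ∧ Cfsg.Geo.IsTotallySingularFor (Cfsg.sympForm 2 F) W ∧ H = Cfsg.Geo.subspaceStabilizer W ⊓ Cfsg.spGL 2 F) ∨
    (∃ D : Fin 2 → Submodule F (Fin 2 ⊕ Fin 2 → F), Cfsg.Geo.IsNondegenerateMDecomposition (Cfsg.sympForm 2 F) 2 D ∧ H = Cfsg.Geo.decompositionStabilizer D ⊓ Cfsg.spGL 2 F) ∨
    (5 ≤ Fintype.card F ∧ ∃ D : Fin 2 → Submodule F (Fin 2 ⊕ Fin 2 → F), Cfsg.Geo.IsMDecomposition 2 D ∧ (∀ i, Cfsg.Geo.IsTotallySingularFor (Cfsg.sympForm 2 F) (D i)) ∧ H = Cfsg.Geo.decompositionStabilizer D ⊓ Cfsg.spGL 2 F) ∨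
    (∃ K : Subalgebra F (Matrix (Fin 2 ⊕ Fin 2) (Fin 2 ⊕ Fin 2) F), Cfsg.Geo.IsFieldSubalgebra 2 K ∧ Cfsg.Geo.IsSelfAdjointFor (Cfsg.sympForm 2 F) K ∧ (∀ k ∈ K, ∀ v : (Fin 2 ⊕ Fin 2 → F), (Cfsg.sympForm 2 F) (Matrix.mulVec k v) v = 0) ∧ H = Cfsg.Geo.subalgebraNormalizer K ⊓ Cfsg.spGL 2 F) ∨
    (5 ≤ Fintype.card F ∧ ∃ K : Subalgebra F (Matrix (Fin 2 ⊕ Fin 2) (Fin 2 ⊕ Fin 2) F), Cfsg.Geo.IsFieldSubalgebra 2 K ∧ Cfsg.Geo.IsAdjointClosedFor (Cfsg.sympForm 2 F) K ∧ ¬ Cfsg.Geo.IsSelfAdjointFor (Cfsg.sympForm 2 F) K ∧ H = Cfsg.Geo.subalgebraNormalizer K ⊓ Cfsg.spGL 2 F) ∨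
    (∃ (F₀ : Subfield F) (r : ℕ) (P : Matrix.GeneralLinearGroup (Fin 2 ⊕ Fin 2) F) (ζ : F), r.Prime ∧ Fintype.card F = Nat.card F₀ ^ r ∧ ζ ≠ 0 ∧ Cfsg.Geo.IsFormRationalStructure (Cfsg.sympForm 2 F) F₀ ζ P ∧ H = Cfsg.Geo.subfieldSubgroup F₀ P ⊓ Cfsg.spGL 2 F) ∨
    (∃ (p : ℕ) (R : Subgroup (Matrix.GeneralLinearGroup (Fin 2 ⊕ Fin 2) F)), p.Prime ∧ Fintype.card F = p ∧ Cfsg.Geo.IsSymplecticTypeGroup 2 R ∧ Cfsg.Geo.ActsAbsolutelyIrreducibly (Cfsg.Geo.matrixSet R) ∧ R ≤ Cfsg.Geo.similarityGroup (Cfsg.sympForm 2 F) ∧ Nat.card R = 32 ∧ Nat.card (Subgroup.center R) = 2 ∧ Cfsg.Geo.IsOfMinusType 2 R ∧ H = Cfsg.Geo.subgroupNormalizer R ⊓ Cfsg.spGL 2 F) ∨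
    Cfsg.Geo.InSymplecticResidualClass H := by
  have hf := Cfsg.Agent.Transvec.sympForm_isSymplectic 2 F
  have hq : 5 ≤ Fintype.card F ∨ Fintype.card F = 3 := by
    have := Fintype.one_lt_card (α := F)
    obtain ⟨j, hj⟩ := hodd
    omega
  rcases Cfsg.Agent.Aschbacher.sympMaximal le_rfl hH with
    ((⟨W, h0, hW, e⟩ | ⟨W, h0, hW, hlt, e⟩ | ⟨t, k, D, hD, e⟩ |
      ⟨D, ho, hD, hts, e⟩ | ⟨F₀, r, P, ζ, hr, hc, hζ, hP, e⟩ |
      ⟨R, p, k, hk, htype, habs, hsim, hp, hpo, hqp, hR, hC, hminus, e⟩ | ⟨Q, ho, hQ, hpol, e⟩) |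
      ⟨r, K, hr, hK, hsa, halt, e⟩ | ⟨K, ho, hK, hadj, hns, e⟩ |
      ⟨n₁, n₂, eq, P, f₁, f₂, ho, hn₂, hf₁, hf₂, hstr, e⟩ |
      ⟨k, t, eq, P, f₁, ho, hto, ht, hex, hf₁, hstr, e⟩) | hres
  · exact Or.inl ⟨W, h0, hW, e⟩
  · exfalso
    obtain ⟨j, hj⟩ := Cfsg.Agent.Aschbacher.even_finrank_of_nondegOn hf hW
    have h1 : 0 < Module.finrank F W := Nat.pos_of_ne_zero fun h => h0 (Submodule.finrank_eq_zero.1 h)
    omega
  · have hev := Cfsg.Agent.Aschbacher.even_finrank_of_nondegOn hf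
      (hD.nondegenerate ⟨0, by have := hD.decomp.two_le; omega⟩)
    rw [hD.decomp.finrank_eq] at hev
    have hc := Cfsg.Agent.Aschbacher.mdecomp_card hD.decomp
    have ht := hD.decomp.two_le
    have hk := hD.decomp.pos
    simp only [Fintype.card_sum, Fintype.card_fin] at hc
    obtain ⟨rfl, rfl⟩ : t = 2 ∧ k = 2 := by
      obtain ⟨j, rfl⟩ := hev
      have h1 : t * j = 2 := by linarith
      have ht2 : t ≤ 2 := Nat.le_of_dvd (by norm_num) (Dvd.intro j h1)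
      interval_cases t <;> omega
    exact Or.inr <| Or.inl ⟨D, hD, e⟩
  · rcases hq with h5 | h3
    · exact Or.inr <| Or.inr <| Or.inl ⟨h5, D, hD, hts, e⟩
    · obtain ⟨E, hE, hle⟩ := Cfsg.Agent.Aschbacher.planes_of_pair_three hf h3 (by simp) hD hts
      refine Or.inr <| Or.inl ⟨E, hE, Cfsg.Agent.Aschbacher.eq_of_le_member le_rfl hH
        (fun g hg => ⟨hle g (e ▸ hg).1 (hH.1.le hg), hH.1.le hg⟩) inf_le_right ?_⟩
      exact Or.inl <| Or.inr <| Or.inr <| Or.inl ⟨2, 2, E, hE, rfl⟩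
  · exact Or.inr <| Or.inr <| Or.inr <| Or.inr <| Or.inr <| Or.inl ⟨F₀, r, P, ζ, hr, hc, hζ, hP, e⟩
  · obtain rfl : k = 2 := (Nat.pow_right_injective le_rfl (show 2 ^ 2 = 2 ^ k by omega)).symm
    exact Or.inr <| Or.inr <| Or.inr <| Or.inr <| Or.inr <| Or.inr <| Or.inl
      ⟨p, R, hp, hqp, htype, habs, hsim, hR, hC, hminus, e⟩
  · exact absurd hodd ho
  · have hd := Cfsg.Agent.Aschbacher.two_mul_dvd_of_selfAdjoint hf hK hsa halt
    simp only [Fintype.card_sum, Fintype.card_fin] at hd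
    obtain rfl : r = 2 := (Nat.prime_dvd_prime_iff_eq hr Nat.prime_two).1
      ((Nat.mul_dvd_mul_iff_left (by norm_num : 0 < 2)).1 (show 2 * r ∣ 2 * 2 from hd))
    exact Or.inr <| Or.inr <| Or.inr <| Or.inl ⟨K, hK, hsa, halt, e⟩
  · rcases hq with h5 | h3
    · exact Or.inr <| Or.inr <| Or.inr <| Or.inr <| Or.inl ⟨h5, K, hK, hadj, hns, e⟩
    · obtain ⟨R, htype, habs, hsim, hR, hC, hminus, hN⟩ :=
        Cfsg.Agent.Aschbacher.symplType_of_unitary_three hf h3 hK hadj hns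
      refine Or.inr <| Or.inr <| Or.inr <| Or.inr <| Or.inr <| Or.inr <| Or.inl
        ⟨3, R, Nat.prime_three, h3, htype, habs, hsim, hR, hC, hminus,
          Cfsg.Agent.Aschbacher.eq_of_le_member le_rfl hH
            (fun g hg => ⟨hN g (e ▸ hg).1 (hH.1.le hg), hH.1.le hg⟩) inf_le_right ?_⟩
      exact Or.inl <| Or.inr <| Or.inr <| Or.inr <| Or.inr <| Or.inr <| Or.inl
        ⟨R, 3, 2, htype, habs, hsim, Nat.prime_three, by decide, h3, hR, hC, hminus, rfl⟩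
  · exfalso
    obtain ⟨j, hj⟩ := Cfsg.Agent.Aschbacher.even_card_of_symplectic hf₁
    have hc := Fintype.card_congr eq
    simp only [Fintype.card_sum, Fintype.card_prod, Fintype.card_fin] at hc hj
    subst hj
    rcases Nat.eq_zero_or_pos j with h | h
    · subst h; simp at hc
    · nlinarith
  · exfalso
    have hc := Fintype.card_congr eq
    simp only [Fintype.card_sum, Fintype.card_fun, Fintype.card_fin] at hc
    rcases Nat.lt_or_ge k 2 with h | h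
    · interval_cases k
      · rw [zero_pow (by omega)] at hc; omega
      · rw [one_pow] at hc; omega
    · have h8 : 2 ^ 3 ≤ k ^ t := (Nat.pow_le_pow_left h 3).trans (Nat.pow_le_pow_right (by omega) ht)
      omega
  · exact Or.inr <| Or.inr <| Or.inr <| Or.inr <| Or.inr <| Or.inr <| Or.inr hres

end Cfsg.Agent.S5787
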