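import Cfsg.Statements.S5789
import Cfsg.Agent.Lib.SympSmall.Field
import Cfsg.Agent.Lib.SympSmall.Quad
import Cfsg.Agent.Lib.SympSmall.Subfield
import Cfsg.Agent.Lib.SympSmall.Transport
import Cfsg.Agent.Lib.Transvec.AltWreath
import Cfsg.Agent.Lib.Transvec.SympStd

set_option autoImplicit false
open Cfsg

namespace Cfsg.Agent.S5789

/-- Maximal subgroups of Sp_4(q) of geometric type, q ≥ 4 even. Let F be a finite field of even order q ≥ 4, f the standard alternating form on F^4 (coordinates Fin 2 ⊕ Fin 2) and Sp_4(F) its isometry group inside GL_4(F). Each of the following, intersected with Sp_4(F), is a maximal subgroup of Sp_4(F): (1) the stabiliser of any non-zero totally isotropic subspace (totally isotropic 1-spaces and 2-spaces); (2) the stabiliser of any decomposition of F^4 into two mutually orthogonal non-degenerate 2-spaces; (3) the normaliser of any degree-2 subfield K of the matrix algebra whose elements are self-adjoint for f with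 f(k v, v) = 0 for all k in K and all v; (4) every subfield group for a subfield F₀ with |F| = |F₀|^r, r prime, whose F₀-structure carries a non-zero scalar multiple of f; (5) the similarity group of any non-degenerate quadratic form whose polar form is f (either Witt type); its intersection with Sp_4(F) is the orthogonal group of that form. -/
theorem result {F : Type*} [Field F] [Fintype F] (heven : ¬ Odd (Fintype.card F)) (h4 : 4 ≤ Fintype.card F) :
    (∀ W : Submodule F (Fin 2 ⊕ Fin 2 → F), W ≠ ⊥ → Cfsg.Geo.IsTotallySingularFor (Cfsg.sympForm 2 F) W → Cfsg.Geo.IsMaximalIn (Cfsg.spGL 2 F) (Cfsg.Geo.subspaceStabilizer W ⊓ Cfsg.spGL 2 F)) ∧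
    (∀ D : Fin 2 → Submodule F (Fin 2 ⊕ Fin 2 → F), Cfsg.Geo.IsNondegenerateMDecomposition (Cfsg.sympForm 2 F) 2 D → Cfsg.Geo.IsMaximalIn (Cfsg.spGL 2 F) (Cfsg.Geo.decompositionStabilizer D ⊓ Cfsg.spGL 2 F)) ∧
    (∀ K : Subalgebra F (Matrix (Fin 2 ⊕ Fin 2) (Fin 2 ⊕ Fin 2) F), Cfsg.Geo.IsFieldSubalgebra 2 K → Cfsg.Geo.IsSelfAdjointFor (Cfsg.sympForm 2 F) K → (∀ k ∈ K, ∀ v : (Fin 2 ⊕ Fin 2 → F), (Cfsg.sympForm 2 F) (Matrix.mulVec k v) v = 0) → Cfsg.Geo.IsMaximalIn (Cfsg.spGL 2 F) (Cfsg.Geo.subalgebraNormalizer K ⊓ Cfsg.spGL 2 F)) ∧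
    (∀ (F₀ : Subfield F) (r : ℕ) (P : Matrix.GeneralLinearGroup (Fin 2 ⊕ Fin 2) F) (ζ : F), r.Prime → Fintype.card F = Nat.card F₀ ^ r → ζ ≠ 0 → Cfsg.Geo.IsFormRationalStructure (Cfsg.sympForm 2 F) F₀ ζ P → Cfsg.Geo.IsMaximalIn (Cfsg.spGL 2 F) (Cfsg.Geo.subfieldSubgroup F₀ P ⊓ Cfsg.spGL 2 F)) ∧
    (∀ Q : (Fin 2 ⊕ Fin 2 → F) → F, Cfsg.Geo.IsNondegenerateQuadraticForm Q → (∀ u v : (Fin 2 ⊕ Fin 2 → F), QuadraticMap.polar Q u v = (Cfsg.sympForm 2 F) u v) → Cfsg.Geo.IsMaximalIn (Cfsg.spGL 2 F) (Cfsg.Geo.quadSimilarityGroup Q ⊓ Cfsg.spGL 2 F)) := by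
  classical
  have hf := Cfsg.Agent.Transvec.sympForm_isSymplectic 2 F
  have hchar : ringChar F = 2 := by
    by_contra h
    exact heven (Nat.odd_iff.2 (FiniteField.odd_card_of_char_ne_two h))
  have h2 : (2 : F) = 0 := by
    haveI : CharP F 2 := ringChar.eq_iff.1 hchar
    exact CharP.cast_eq_zero F 2
  obtain ⟨k, hk0, hk1⟩ : ∃ k : F, k ≠ 0 ∧ k ≠ 1 := by
    by_contra h
    push Not at h
    have : Fintype.card F ≤ 2 := by
      calc Fintype.card F = (Finset.univ : Finset F).card := Finset.card_univ.symm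
        _ ≤ ({0, 1} : Finset F).card := Finset.card_le_card fun μ _ => by
            by_cases h0 : μ = 0
            · simp [h0]
            · simp [h μ h0]
        _ ≤ 2 := Finset.card_le_two
    omega
  refine ⟨fun W hW0 hW => Cfsg.Agent.Transvec.stab_singular_maximal hf hW0 hW, fun D hD => ?_,
    fun K hK hsa halt => ?_, fun F₀ r P ζ hr hcard hζ hP => ?_, fun Q hQ hpol => ?_⟩
  · refine Cfsg.Agent.Transvec.wreath_maximal hf hD (Or.inr ⟨k, hk0, fun h => hk1 ?_⟩)
    rw [h]; linear_combination -h2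
  · haveI : Nonempty (Fin 2 ⊕ Fin 2) := ⟨Sum.inl 0⟩
    obtain ⟨ℓ, hℓ, hsq⟩ := SympFieldExt.exists_functional hK
    exact SympSmall.normalizer_maximal_card (f := Cfsg.sympForm 2 F) ⟨hf, hK, hsa, halt, hℓ⟩ Nat.prime_two
      (by omega)
  · exact SympSmall.spGL_subfield_maximal 2 hr hcard P ζ hζ
      fun f' hf' hG => SympSmall.subfield_maximal hf' hr hcard (by simp) h2 (hG hP)
  · refine SympSmall.quad_maximal hf hQ.smul (fun u v => ?_) h2 (fun a => ?_) (by simp) (Or.inr ⟨k, hk0, hk1⟩)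
    · rw [← hpol u v, QuadraticMap.polar]; ring
    · obtain ⟨b, hb⟩ := FiniteField.isSquare_of_char_two hchar a
      exact ⟨b, by rw [hb, pow_two]⟩

end Cfsg.Agent.S5789
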