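import Cfsg.Statements.S5790
import Cfsg.Agent.Lib.Aschbacher.SympRefine

set_option autoImplicit false
open Cfsg

namespace Cfsg.Agent.S5790

/-- Every maximal subgroup of Sp_4(q), q ≥ 4 even, is of one of the listed geometric types or lies in the residual class. Let F be a finite field of even order q ≥ 4, f the standard alternating form on F^4 (coordinates Fin 2 ⊕ Fin 2), and H a maximal subgroup of Sp_4(F) (inside GL_4(F)). Then H is the intersection with Sp_4(F) of one of: the stabiliser of a non-zero totally isotropic subspace; the stabiliser of a decomposition into two orthogonal non-degenerate 2-spaces; the normaliser of a degree-2 subfield K of the matrix algebra, self-adjoint with f(k v, v) = 0; a subfield group whose F₀-structure carries a non-zero multiple of f, |F| = |F₀|^r with r prime; the similarity group of a non-degenerate quadratic form whose polar form is f — or else H lies in the residual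 class of the symplectic case. -/
theorem result {F : Type*} [Field F] [Fintype F] (heven : ¬ Odd (Fintype.card F)) (h4 : 4 ≤ Fintype.card F) (H : Subgroup (Matrix.GeneralLinearGroup (Fin 2 ⊕ Fin 2) F)) (hH : Cfsg.Geo.IsMaximalIn (Cfsg.spGL 2 F) H) :
    (∃ W : Submodule F (Fin 2 ⊕ Fin 2 → F), W ≠ ⊥ ∧ Cfsg.Geo.IsTotallySingularFor (Cfsg.sympForm 2 F) W ∧ H = Cfsg.Geo.subspaceStabilizer W ⊓ Cfsg.spGL 2 F) ∨
    (∃ D : Fin 2 → Submodule F (Fin 2 ⊕ Fin 2 → F), Cfsg.Geo.IsNondegenerateMDecomposition (Cfsg.sympForm 2 F) 2 D ∧ H = Cfsg.Geo.decompositionStabilizer D ⊓ Cfsg.spGL 2 F) ∨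
    (∃ K : Subalgebra F (Matrix (Fin 2 ⊕ Fin 2) (Fin 2 ⊕ Fin 2) F), Cfsg.Geo.IsFieldSubalgebra 2 K ∧ Cfsg.Geo.IsSelfAdjointFor (Cfsg.sympForm 2 F) K ∧ (∀ k ∈ K, ∀ v : (Fin 2 ⊕ Fin 2 → F), (Cfsg.sympForm 2 F) (Matrix.mulVec k v) v = 0) ∧ H = Cfsg.Geo.subalgebraNormalizer K ⊓ Cfsg.spGL 2 F) ∨
    (∃ (F₀ : Subfield F) (r : ℕ) (P : Matrix.GeneralLinearGroup (Fin 2 ⊕ Fin 2) F) (ζ : F), r.Prime ∧ Fintype.card F = Nat.card F₀ ^ r ∧ ζ ≠ 0 ∧ Cfsg.Geo.IsFormRationalStructure (Cfsg.sympForm 2 F) F₀ ζ P ∧ H = Cfsg.Geo.subfieldSubgroup F₀ P ⊓ Cfsg.spGL 2 F) ∨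
    (∃ Q : (Fin 2 ⊕ Fin 2 → F) → F, Cfsg.Geo.IsNondegenerateQuadraticForm Q ∧ (∀ u v : (Fin 2 ⊕ Fin 2 → F), QuadraticMap.polar Q u v = (Cfsg.sympForm 2 F) u v) ∧ H = Cfsg.Geo.quadSimilarityGroup Q ⊓ Cfsg.spGL 2 F) ∨
    Cfsg.Geo.InSymplecticResidualClass H := by
  have hf := Cfsg.Agent.Transvec.sympForm_isSymplectic 2 F
  rcases Cfsg.Agent.Aschbacher.sympMaximal le_rfl hH with
    ((⟨W, h0, hW, e⟩ | ⟨W, h0, hW, hlt, e⟩ | ⟨t, k, D, hD, e⟩ |
      ⟨D, ho, _⟩ | ⟨F₀, r, P, ζ, hr, hc, hζ, hP, e⟩ |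
      ⟨R, p, k, _, _, _, _, _, ho, hq, _⟩ | ⟨Q, _, hQ, hpol, e⟩) |
      ⟨r, K, hr, hK, hsa, halt, e⟩ | ⟨K, ho, _⟩ |
      ⟨n₁, n₂, e, P, f₁, f₂, ho, _⟩ | ⟨k, t, e, P, f₁, ho, _⟩) | hres
  · exact Or.inl ⟨W, h0, hW, e⟩
  · exfalso
    obtain ⟨j, hj⟩ := Cfsg.Agent.Aschbacher.even_finrank_of_nondegOn hf hW
    exact h0 (Submodule.finrank_eq_zero.1 (by omega))
  · have hev := Cfsg.Agent.Aschbacher.even_finrank_of_nondegOn hf (hD.nondegenerate ⟨0, by have := hD.decomp.two_le; omega⟩)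
    rw [hD.decomp.finrank_eq] at hev
    have hc := Cfsg.Agent.Aschbacher.mdecomp_card hD.decomp
    have ht := hD.decomp.two_le
    have hk := hD.decomp.pos
    simp only [Fintype.card_sum, Fintype.card_fin] at hc
    obtain ⟨rfl, rfl⟩ : t = 2 ∧ k = 2 := by
      obtain ⟨j, rfl⟩ := hev
      have : 2 ≤ j + j := by omega
      constructor <;> nlinarith
    exact Or.inr (Or.inl ⟨D, hD, e⟩)
  · exact absurd ho heven
  · exact Or.inr <| Or.inr <| Or.inr <| Or.inl ⟨F₀, r, P, ζ, hr, hc, hζ, hP, e⟩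
  · exact absurd (hq ▸ ho) heven
  · exact Or.inr <| Or.inr <| Or.inr <| Or.inr <| Or.inl ⟨Q, hQ, hpol, e⟩
  · have hd := Cfsg.Agent.Aschbacher.two_mul_dvd_of_selfAdjoint hf hK hsa halt
    simp only [Fintype.card_sum, Fintype.card_fin] at hd
    obtain rfl : r = 2 := by
      have := Nat.le_of_dvd (by norm_num) hd
      have := hr.two_le
      omega
    exact Or.inr <| Or.inr <| Or.inl ⟨K, hK, hsa, halt, e⟩
  · exact absurd ho heven
  · exact absurd ho heven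
  · exact absurd ho heven
  · exact Or.inr <| Or.inr <| Or.inr <| Or.inr <| Or.inr hres

end Cfsg.Agent.S5790
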