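import Cfsg.Statements.S5796
import Cfsg.Agent.Lib.Aschbacher.UnitFive
import Cfsg.Agent.Lib.Aschbacher.UnitRefine

set_option autoImplicit false
open Cfsg

namespace Cfsg.Agent.S5796

/-- Every maximal subgroup of SU_5(q) is of one of the listed geometric types or lies in the residual class. Let F be the field with q² elements (characteristic p), f the standard unitary form Σ u_i v_i^q on F^5, and H a maximal subgroup of SU_5(q) (inside GL_5(F)). Then H is the intersection with SU_5(q) of one of: the stabiliser of a non-zero totally isotropic subspace; the stabiliser of a non-degenerate 1-space or 2-space; the stabiliser of a decomposition into five mutually orthogonal non-degenerate 1-spaces; for q ≥ 3, the normaliser of an adjoint-closed degree-5 subfield of the matrix algebra; a subfield group of odd prime index whose F₀-structure carries f; for q odd, a subfield group of index 2 whose F₀-structure carries f; for q = p ≡ 4 mod 5 or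 q = p² with p ≡ 2, 3 mod 5, the normaliser of an absolutely irreducible 5-group of exponent 5, order 125 and centre of order 5 with all characteristic abelian subgroups cyclic inside the similarity group of f — or else H lies in the residual class of the unitary case. -/
theorem result {F : Type*} [Field F] [Fintype F] (q : ℕ) (hF : Fintype.card F = q ^ 2) (H : Subgroup (Matrix.GeneralLinearGroup (Fin 5) F)) (hH : Cfsg.Geo.IsMaximalIn (Cfsg.GU 5 F q ⊓ Cfsg.Geo.specialLinear (Fin 5) F) H) :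
    (∃ W : Submodule F (Fin 5 → F), W ≠ ⊥ ∧ Cfsg.Geo.IsTotallySingularFor (Cfsg.hermForm 5 F q) W ∧ H = Cfsg.Geo.subspaceStabilizer W ⊓ (Cfsg.GU 5 F q ⊓ Cfsg.Geo.specialLinear (Fin 5) F)) ∨
    (∃ W : Submodule F (Fin 5 → F), W ≠ ⊥ ∧ Cfsg.Geo.IsNondegenerateOn (Cfsg.hermForm 5 F q) W ∧ 2 * Module.finrank F W < 5 ∧ H = Cfsg.Geo.subspaceStabilizer W ⊓ (Cfsg.GU 5 F q ⊓ Cfsg.Geo.specialLinear (Fin 5) F)) ∨
    (∃ D : Fin 5 → Submodule F (Fin 5 → F), Cfsg.Geo.IsNondegenerateMDecomposition (Cfsg.hermForm 5 F q) 1 D ∧ H = Cfsg.Geo.decompositionStabilizer D ⊓ (Cfsg.GU 5 F q ⊓ Cfsg.Geo.specialLinear (Fin 5) F)) ∨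
    (3 ≤ q ∧ ∃ K : Subalgebra F (Matrix (Fin 5) (Fin 5) F), Cfsg.Geo.IsFieldSubalgebra 5 K ∧ Cfsg.Geo.IsAdjointClosedFor (Cfsg.hermForm 5 F q) K ∧ H = Cfsg.Geo.subalgebraNormalizer K ⊓ (Cfsg.GU 5 F q ⊓ Cfsg.Geo.specialLinear (Fin 5) F)) ∨
    (∃ (F₀ : Subfield F) (r : ℕ) (P : Matrix.GeneralLinearGroup (Fin 5) F), r.Prime ∧ Odd r ∧ Fintype.card F = Nat.card F₀ ^ r ∧ Cfsg.Geo.IsFormRationalStructure (Cfsg.hermForm 5 F q) F₀ 1 P ∧ H = Cfsg.Geo.subfieldSubgroup F₀ P ⊓ (Cfsg.GU 5 F q ⊓ Cfsg.Geo.specialLinear (Fin 5) F)) ∨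
    (Odd q ∧ ∃ (F₀ : Subfield F) (P : Matrix.GeneralLinearGroup (Fin 5) F), Fintype.card F = Nat.card F₀ ^ 2 ∧ Cfsg.Geo.IsFormRationalStructure (Cfsg.hermForm 5 F q) F₀ 1 P ∧ H = Cfsg.Geo.subfieldSubgroup F₀ P ⊓ (Cfsg.GU 5 F q ⊓ Cfsg.Geo.specialLinear (Fin 5) F)) ∨
    (∃ (p : ℕ) (R : Subgroup (Matrix.GeneralLinearGroup (Fin 5) F)), p.Prime ∧ CharP F p ∧ ((q = p ∧ p % 5 = 4) ∨ (q = p ^ 2 ∧ (p % 5 = 2 ∨ p % 5 = 3))) ∧ Cfsg.Geo.IsSymplecticTypeGroup 5 R ∧ Cfsg.Geo.ActsAbsolutelyIrreducibly (Cfsg.Geo.matrixSet R) ∧ R ≤ Cfsg.Geo.similarityGroup (Cfsg.hermForm 5 F q) ∧ Nat.card R = 125 ∧ Nat.card (Subgroup.center R) = 5 ∧ H = Cfsg.Geo.subgroupNormalizer R ⊓ (Cfsg.GU 5 F q ⊓ Cfsg.Geo.specialLinear (Fin 5) F)) ∨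
    Cfsg.Geo.InUnitaryResidualClass H := by
  rcases Cfsg.Agent.Aschbacher.unitMaximal hF (by norm_num) hH with ⟨X, hX, e⟩ | hres
  swap
  · exact Or.inr <| Or.inr <| Or.inr <| Or.inr <| Or.inr <| Or.inr <| Or.inr <| hres
  cases hX with
  | singular h0 hW => exact Or.inl ⟨_, h0, hW, e⟩
  | nondeg h0 hW hlt => exact Or.inr <| Or.inl ⟨_, h0, hW, hlt, e⟩
  | @decomp t k D hD =>
    have hc := Cfsg.Agent.Aschbacher.mdecomp_card hD.decomp
    rw [Fintype.card_fin] at hc
    have ht := hD.decomp.two_le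
    obtain rfl : t = 5 :=
      ((Nat.dvd_prime (show Nat.Prime 5 by norm_num)).1 ⟨k, hc.symm⟩).resolve_left (by omega)
    obtain rfl : k = 1 := by omega
    exact Or.inr <| Or.inr <| Or.inl ⟨D, hD, e⟩
  | @pair k D hk hD hts => omega
  | subSkew hn hc hζ hζq hP h0 => exact absurd hn (by decide)
  | subOdd hr hro hc hP => exact Or.inr <| Or.inr <| Or.inr <| Or.inr <| Or.inl ⟨_, _, _, hr, hro, hc, hP, e⟩
  | subTwo hq hc hP => exact Or.inr <| Or.inr <| Or.inr <| Or.inr <| Or.inr <| Or.inl ⟨hq, _, _, hc, hP, e⟩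
  | @symplType R r p e' k hn htype habs hsim hrp hmin hdata =>
    have hrp' := htype.prime
    have hk0 : k ≠ 0 := by rintro rfl; simp at hn
    obtain rfl : r = 5 := (Nat.prime_dvd_prime_iff_eq hrp' (by norm_num)).1
      (hn ▸ dvd_pow_self r hk0)
    obtain rfl : k = 1 := (Nat.pow_right_injective (by norm_num) ((pow_one 5).trans hn)).symm
    obtain ⟨-, hC, -, hR⟩ := hdata.resolve_right fun h => absurd h.1 (by norm_num)
    obtain ⟨j, hj, hq, he⟩ := Cfsg.Agent.Aschbacher.minimal_field_data hmin hF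
    obtain ⟨hp, hchar, hcard, hdvd, hlow⟩ := hmin
    rw [hC] at hdvd hlow
    have hmod : ∀ d, 5 ∣ p ^ d - 1 ↔ (p % 5) ^ d % 5 = 1 := fun d =>
      Cfsg.Agent.Aschbacher.dvd_pow_sub_one_iff_mod (by norm_num) hp.pos
    have hp5 : p % 5 ≠ 0 := fun h => hrp ((Nat.prime_dvd_prime_iff_eq (by norm_num) hp).1
      (Nat.dvd_of_mod_eq_zero h))
    have h4 : e' ≤ 4 := by
      by_contra h
      refine hlow 4 (by norm_num) (by omega) ((hmod 4).2 ?_)
      have := Nat.mod_lt p (show 5 > 0 by norm_num)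
      interval_cases hx : p % 5 <;> first | omega | norm_num
    have hm := (hmod e').1 hdvd
    have h1 := fun h : 1 < e' => hlow 1 one_pos h
    have h2 := fun h : 2 < e' => hlow 2 two_pos h
    rw [hmod] at h1 h2
    have hfin : (q = p ∧ p % 5 = 4) ∨ (q = p ^ 2 ∧ (p % 5 = 2 ∨ p % 5 = 3)) := by
      have := Nat.mod_lt p (show 5 > 0 by norm_num)
      obtain rfl | rfl : j = 1 ∨ j = 2 := by omega
      · subst he
        refine Or.inl ⟨by rw [hq, pow_one], ?_⟩
        interval_cases hx : p % 5 <;> first | omega | (norm_num at hm h1 h2 ⊢)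
      · subst he
        refine Or.inr ⟨hq, ?_⟩
        interval_cases hx : p % 5 <;> first | omega | (norm_num at hm h1 h2 ⊢)
    exact Or.inr <| Or.inr <| Or.inr <| Or.inr <| Or.inr <| Or.inr <| Or.inl ⟨p, R, hp, hchar, hfin, htype, habs, hsim, by simpa using hR, hC, e⟩
  | @field r K hr hro hdvd hK hadj =>
    obtain rfl : r = 5 := (Nat.prime_dvd_prime_iff_eq hr (by norm_num)).1 hdvd
    by_cases hq3 : 3 ≤ q
    · exact Or.inr <| Or.inr <| Or.inr <| Or.inl ⟨hq3, K, hK, hadj, e⟩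
    · exfalso
      have hq2 : q = 2 := by
        have h := Fintype.one_lt_card (α := F)
        rw [hF] at h
        interval_cases q <;> simp at h ⊢
      exact Cfsg.Agent.Aschbacher.UnitFive.field_not_maximal hF hq2 hK hadj hH e
  | @tensor n₁ n₂ eq P f₁ f₂ h1 h2 hf₁ hf₂ hstr =>
    exfalso
    have hc := Fintype.card_congr eq
    simp only [Fintype.card_prod, Fintype.card_fin] at hc
    nlinarith
  | @wreath k t eq P f₁ hk ht hex hf₁ hstr =>
    exfalso
    have hc := Fintype.card_congr eq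
    simp only [Fintype.card_fun, Fintype.card_fin] at hc
    have h9 : k ^ 2 ≤ k ^ t := Nat.pow_le_pow_right (by omega) ht
    nlinarith

end Cfsg.Agent.S5796
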