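import Cfsg.Statements.S5804
import Cfsg.Agent.Lib.SympSmall.SpPair
import Cfsg.Agent.Lib.SympSmall.SpUnitary
import Cfsg.Agent.Lib.SympSmall.Transport
import Cfsg.Agent.Lib.SympTensor.Transport
import Cfsg.Agent.Lib.Transvec.AltWreath
import Cfsg.Agent.Lib.Transvec.QuadEven
import Cfsg.Agent.Lib.SympFieldExt.Main
-- import your own Cfsg.Agent.* helpers here

set_option autoImplicit false
open Cfsg

namespace Cfsg.Agent.S5804

/-- Maximal subgroups of Sp_6(q) of geometric type (any q). Let F be a finite field with q elements, f the standard alternating form on F^6 (coordinates Fin 3 ⊕ Fin 3) and Sp_6(F) its isometry group inside GL_6(F). Each of the following, intersected with Sp_6(F), is a maximal subgroup of Sp_6(F): (1) the stabiliser of any non-zero totally isotropic subspace (dimensions 1, 2, 3); (2) the stabiliser of any non-degenerate 2-space; (3) for q ≥ 3, the stabiliser of any decomposition of F^6 into three mutually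 orthogonal non-degenerate 2-spaces; (4) for q odd, the stabiliser of any decomposition into two totally isotropic 3-spaces; (5) the normaliser of any degree-3 subfield K of the matrix algebra whose elements are self-adjoint for f with f(k v, v) = 0 (f is the trace of an alternating form over K); (6) for q odd, the normaliser of any degree-2 subfield of the matrix algebra that is closed under adjoints but not self-adjoint (f is the trace of a multiple of a unitary form over K); (7) for q odd with q ≥ 5, the stabiliser of any tensor decomposition of f as (alternating form on F^2) ⊗ (non-degenerate symmetric bilinear form on F^3) up to a scalar; (8) every subfield group for a subfield F₀ with |F| = |F₀|^r, r prime, whose F₀-structure carries a non-zero scalar multiple of f; (9) for q even, the similarity group of any non-degenerate quadratic form whose polar form is f (either Witt type); its intersection with Sp_6(F) is the orthogonal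 group of that form. -/
theorem result {F : Type*} [Field F] [Fintype F] :
    (∀ W : Submodule F (Fin 3 ⊕ Fin 3 → F), W ≠ ⊥ → Cfsg.Geo.IsTotallySingularFor (Cfsg.sympForm 3 F) W → Cfsg.Geo.IsMaximalIn (Cfsg.spGL 3 F) (Cfsg.Geo.subspaceStabilizer W ⊓ Cfsg.spGL 3 F)) ∧
    (∀ W : Submodule F (Fin 3 ⊕ Fin 3 → F), W ≠ ⊥ → Cfsg.Geo.IsNondegenerateOn (Cfsg.sympForm 3 F) W → Module.finrank F W < 3 → Cfsg.Geo.IsMaximalIn (Cfsg.spGL 3 F) (Cfsg.Geo.subspaceStabilizer W ⊓ Cfsg.spGL 3 F)) ∧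
    (3 ≤ Fintype.card F → ∀ D : Fin 3 → Submodule F (Fin 3 ⊕ Fin 3 → F), Cfsg.Geo.IsNondegenerateMDecomposition (Cfsg.sympForm 3 F) 2 D → Cfsg.Geo.IsMaximalIn (Cfsg.spGL 3 F) (Cfsg.Geo.decompositionStabilizer D ⊓ Cfsg.spGL 3 F)) ∧
    (Odd (Fintype.card F) → ∀ D : Fin 2 → Submodule F (Fin 3 ⊕ Fin 3 → F), Cfsg.Geo.IsMDecomposition 3 D → (∀ i, Cfsg.Geo.IsTotallySingularFor (Cfsg.sympForm 3 F) (D i)) → Cfsg.Geo.IsMaximalIn (Cfsg.spGL 3 F) (Cfsg.Geo.decompositionStabilizer D ⊓ Cfsg.spGL 3 F)) ∧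
    (∀ K : Subalgebra F (Matrix (Fin 3 ⊕ Fin 3) (Fin 3 ⊕ Fin 3) F), Cfsg.Geo.IsFieldSubalgebra 3 K → Cfsg.Geo.IsSelfAdjointFor (Cfsg.sympForm 3 F) K → (∀ k ∈ K, ∀ v : (Fin 3 ⊕ Fin 3 → F), (Cfsg.sympForm 3 F) (Matrix.mulVec k v) v = 0) → Cfsg.Geo.IsMaximalIn (Cfsg.spGL 3 F) (Cfsg.Geo.subalgebraNormalizer K ⊓ Cfsg.spGL 3 F)) ∧
    (Odd (Fintype.card F) → ∀ K : Subalgebra F (Matrix (Fin 3 ⊕ Fin 3) (Fin 3 ⊕ Fin 3) F), Cfsg.Geo.IsFieldSubalgebra 2 K → Cfsg.Geo.IsAdjointClosedFor (Cfsg.sympForm 3 F) K → ¬ Cfsg.Geo.IsSelfAdjointFor (Cfsg.sympForm 3 F) K → Cfsg.Geo.IsMaximalIn (Cfsg.spGL 3 F) (Cfsg.Geo.subalgebraNormalizer K ⊓ Cfsg.spGL 3 F)) ∧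
    (Odd (Fintype.card F) → 5 ≤ Fintype.card F → ∀ (e : (Fin 3 ⊕ Fin 3) ≃ Fin 2 × Fin 3) (P : Matrix.GeneralLinearGroup (Fin 3 ⊕ Fin 3) F) (f₁ : (Fin 2 → F) → (Fin 2 → F) → F) (f₂ : (Fin 3 → F) → (Fin 3 → F) → F), Cfsg.Geo.IsSymplecticForm f₁ → Cfsg.Geo.IsSymmetricForm f₂ → Cfsg.Geo.IsTensorFormStructure id (Cfsg.sympForm 3 F) f₁ f₂ e P → Cfsg.Geo.IsMaximalIn (Cfsg.spGL 3 F) (Cfsg.Geo.tensorProductSubgroup 2 3 e P ⊓ Cfsg.spGL 3 F)) ∧
    (∀ (F₀ : Subfield F) (r : ℕ) (P : Matrix.GeneralLinearGroup (Fin 3 ⊕ Fin 3) F) (ζ : F), r.Prime → Fintype.card F = Nat.card F₀ ^ r → ζ ≠ 0 → Cfsg.Geo.IsFormRationalStructure (Cfsg.sympForm 3 F) F₀ ζ P → Cfsg.Geo.IsMaximalIn (Cfsg.spGL 3 F) (Cfsg.Geo.subfieldSubgroup F₀ P ⊓ Cfsg.spGL 3 F)) ∧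
    (¬ Odd (Fintype.card F) → ∀ Q : (Fin 3 ⊕ Fin 3 → F) → F, Cfsg.Geo.IsNondegenerateQuadraticForm Q → (∀ u v : (Fin 3 ⊕ Fin 3 → F), QuadraticMap.polar Q u v = (Cfsg.sympForm 3 F) u v) → Cfsg.Geo.IsMaximalIn (Cfsg.spGL 3 F) (Cfsg.Geo.quadSimilarityGroup Q ⊓ Cfsg.spGL 3 F)) := by
  classical
  have hf := Cfsg.Agent.Transvec.sympForm_isSymplectic 3 F
  refine ⟨fun W hW0 hW => Cfsg.Agent.Transvec.stab_singular_maximal hf hW0 hW, fun W hW0 hW hdim => ?_,
    fun h3 D hD => ?_, fun hodd D hD hts => Cfsg.Agent.SympSmall.spGL_pair_maximal 3 (by norm_num) hodd D hD hts,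
    fun K hK hsa halt => ?_,
    fun hodd K hK hac hnsa => Cfsg.Agent.SympSmall.spGL_unitary_maximal 3 (by norm_num) hodd K hK hac hnsa,
    fun hodd h5 e P f₁ f₂ h₁ h₂ hT => Cfsg.Agent.SympTensor.symp_tensor3_maximal' hodd h5 (Or.inr rfl) e P f₁ f₂ h₁ h₂ hT,
    fun F₀ r P ζ hr hcard hζ hP => ?_, fun heven Q hQ hpol => ?_⟩
  · exact Cfsg.Agent.Transvec.stab_nondeg_maximal hf hW0 hW (by rw [Cfsg.Agent.Transvec.finrank_symp]; omega)
  · refine Cfsg.Agent.Transvec.wreath_maximal hf hD (Or.inr ?_)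
    by_contra h
    push Not at h
    have : Fintype.card F ≤ 2 := by
      calc Fintype.card F = (Finset.univ : Finset F).card := Finset.card_univ.symm
        _ ≤ ({0, -1} : Finset F).card := Finset.card_le_card fun μ _ => by
            by_cases h0 : μ = 0
            · simp [h0]
            · simp [h μ h0]
        _ ≤ 2 := Finset.card_le_two
    omega
  · haveI : Nonempty (Fin 3 ⊕ Fin 3) := ⟨Sum.inl 0⟩
    obtain ⟨ℓ, hℓ, hsq⟩ := SympFieldExt.exists_functional hK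
    exact SympFieldExt.normalizer_maximal (f := Cfsg.sympForm 3 F) ⟨hf, hK, hsa, halt, hℓ⟩ (by norm_num) hsq
      (by rw [Transvec.finrank_symp])
  · exact SympSmall.spGL_subfield_maximal 3 hr hcard P ζ hζ
      fun f' hf' hG => Cfsg.Agent.Transvec.sp_subfield_maximal hf' hr hcard (by simp) (hG hP)
  · have hchar : ringChar F = 2 := by
      by_contra h
      exact heven (Nat.odd_iff.2 (FiniteField.odd_card_of_char_ne_two h))
    refine Cfsg.Agent.Transvec.quad_maximal_sp hf hQ.smul (fun u v => ?_) ?_ (fun a => ?_) (by simp)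
    · rw [← hpol u v, QuadraticMap.polar]; ring
    · haveI : CharP F 2 := ringChar.eq_iff.1 hchar
      exact CharP.cast_eq_zero F 2
    · obtain ⟨b, hb⟩ := FiniteField.isSquare_of_char_two hchar a
      exact ⟨b, by rw [hb, pow_two]⟩


end Cfsg.Agent.S5804
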