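import Cfsg.Statements.S5811
import Cfsg.Agent.Lib.Aschbacher.UnitRefine

set_option autoImplicit false
open Cfsg

namespace Cfsg.Agent.S5811

/-- Every maximal subgroup of SU_7(q) is of one of the listed geometric types or lies in the residual class. Let F be the field with q² elements (characteristic p), f the standard unitary form Σ u_i v_i^q on F^7, and H a maximal subgroup of SU_7(q) (inside GL_7(F)). Then H is the intersection with SU_7(q) of one of: the stabiliser of a non-zero totally isotropic subspace; the stabiliser of a non-degenerate 1-, 2- or 3-space; the stabiliser of a decomposition into seven mutually orthogonal non-degenerate 1-spaces; the normaliser of an adjoint-closed degree-7 subfield of the matrix algebra; a subfield group of odd prime index whose F₀-structure carries f; for q odd, a subfield group of index 2 whose F₀-structure carries f; for q = p prime with p ≡ 6 mod 7, or q = p³ with p ≡ 3 or 5 mod 7, the normaliser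 of an absolutely irreducible 7-group R of exponent 7, order 343 and centre of order 7, all of whose characteristic abelian subgroups are cyclic, contained in the similarity group of f — or else H lies in the residual class of the unitary case (modulo scalars H is almost simple, with absolutely irreducible perfect socle preimage realisable over no proper subfield and fixing no non-degenerate quadratic or symplectic form). -/
theorem result {F : Type*} [Field F] [Fintype F] (q : ℕ) (hF : Fintype.card F = q ^ 2) (H : Subgroup (Matrix.GeneralLinearGroup (Fin 7) F)) (hH : Cfsg.Geo.IsMaximalIn (Cfsg.GU 7 F q ⊓ Cfsg.Geo.specialLinear (Fin 7) F) H) :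
    (∃ W : Submodule F (Fin 7 → F), W ≠ ⊥ ∧ Cfsg.Geo.IsTotallySingularFor (Cfsg.hermForm 7 F q) W ∧ H = Cfsg.Geo.subspaceStabilizer W ⊓ (Cfsg.GU 7 F q ⊓ Cfsg.Geo.specialLinear (Fin 7) F)) ∨
    (∃ W : Submodule F (Fin 7 → F), W ≠ ⊥ ∧ Cfsg.Geo.IsNondegenerateOn (Cfsg.hermForm 7 F q) W ∧ 2 * Module.finrank F W < 7 ∧ H = Cfsg.Geo.subspaceStabilizer W ⊓ (Cfsg.GU 7 F q ⊓ Cfsg.Geo.specialLinear (Fin 7) F)) ∨
    (∃ D : Fin 7 → Submodule F (Fin 7 → F), Cfsg.Geo.IsNondegenerateMDecomposition (Cfsg.hermForm 7 F q) 1 D ∧ H = Cfsg.Geo.decompositionStabilizer D ⊓ (Cfsg.GU 7 F q ⊓ Cfsg.Geo.specialLinear (Fin 7) F)) ∨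
    (∃ K : Subalgebra F (Matrix (Fin 7) (Fin 7) F), Cfsg.Geo.IsFieldSubalgebra 7 K ∧ Cfsg.Geo.IsAdjointClosedFor (Cfsg.hermForm 7 F q) K ∧ H = Cfsg.Geo.subalgebraNormalizer K ⊓ (Cfsg.GU 7 F q ⊓ Cfsg.Geo.specialLinear (Fin 7) F)) ∨
    (∃ (F₀ : Subfield F) (r : ℕ) (P : Matrix.GeneralLinearGroup (Fin 7) F), r.Prime ∧ Odd r ∧ Fintype.card F = Nat.card F₀ ^ r ∧ Cfsg.Geo.IsFormRationalStructure (Cfsg.hermForm 7 F q) F₀ 1 P ∧ H = Cfsg.Geo.subfieldSubgroup F₀ P ⊓ (Cfsg.GU 7 F q ⊓ Cfsg.Geo.specialLinear (Fin 7) F)) ∨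
    (Odd q ∧ ∃ (F₀ : Subfield F) (P : Matrix.GeneralLinearGroup (Fin 7) F), Fintype.card F = Nat.card F₀ ^ 2 ∧ Cfsg.Geo.IsFormRationalStructure (Cfsg.hermForm 7 F q) F₀ 1 P ∧ H = Cfsg.Geo.subfieldSubgroup F₀ P ⊓ (Cfsg.GU 7 F q ⊓ Cfsg.Geo.specialLinear (Fin 7) F)) ∨
    (∃ (p : ℕ) (R : Subgroup (Matrix.GeneralLinearGroup (Fin 7) F)), p.Prime ∧ CharP F p ∧ ((q = p ∧ p % 7 = 6) ∨ (q = p ^ 3 ∧ (p % 7 = 3 ∨ p % 7 = 5))) ∧ Cfsg.Geo.IsSymplecticTypeGroup 7 R ∧ Cfsg.Geo.ActsAbsolutelyIrreducibly (Cfsg.Geo.matrixSet R) ∧ R ≤ Cfsg.Geo.similarityGroup (Cfsg.hermForm 7 F q) ∧ Nat.card R = 343 ∧ Nat.card (Subgroup.center R) = 7 ∧ H = Cfsg.Geo.subgroupNormalizer R ⊓ (Cfsg.GU 7 F q ⊓ Cfsg.Geo.specialLinear (Fin 7) F)) ∨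
    Cfsg.Geo.InUnitaryResidualClass H := by
  rcases Cfsg.Agent.Aschbacher.unitMaximal hF (by norm_num) hH with ⟨X, hX, e⟩ | hres
  swap
  · exact Or.inr <| Or.inr <| Or.inr <| Or.inr <| Or.inr <| Or.inr <| Or.inr hres
  cases hX with
  | singular h0 hW => exact Or.inl ⟨_, h0, hW, e⟩
  | nondeg h0 hW hlt => exact Or.inr <| Or.inl ⟨_, h0, hW, hlt, e⟩
  | @decomp t k D hD =>
    have hc := Cfsg.Agent.Aschbacher.mdecomp_card hD.decomp
    rw [Fintype.card_fin] at hc
    have ht := hD.decomp.two_le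
    have hk := hD.decomp.pos
    obtain ⟨rfl, rfl⟩ : t = 7 ∧ k = 1 := by
      have hd : t ∣ 7 := ⟨k, by linarith⟩
      rcases (Nat.dvd_prime (by norm_num)).1 hd with h | h
      · omega
      · subst h; exact ⟨rfl, by omega⟩
    exact Or.inr <| Or.inr <| Or.inl ⟨D, hD, e⟩
  | @pair k D hk hD hts => omega
  | subOdd hr hro hc hP =>
    exact Or.inr <| Or.inr <| Or.inr <| Or.inr <| Or.inl ⟨_, _, _, hr, hro, hc, hP, e⟩
  | subTwo hq hc hP =>
    exact Or.inr <| Or.inr <| Or.inr <| Or.inr <| Or.inr <| Or.inl ⟨hq, _, _, hc, hP, e⟩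
  | subSkew hn hc hζ hζq hP h0 => exact absurd hn (by decide)
  | @symplType R r p e' k hn htype habs hsim hrp hmin hdata =>
    have hrp' := htype.prime
    obtain ⟨rfl, rfl⟩ : r = 7 ∧ k = 1 :=
      (Nat.Prime.pow_eq_iff (by norm_num : Nat.Prime 7)).1 hn.symm
    obtain ⟨-, hC, -, hR⟩ : Odd 7 ∧ Nat.card (Subgroup.center R) = 7 ∧ 1 ≤ 1 ∧
        Nat.card R = 7 ^ (1 + 2 * 1) := hdata.resolve_right (fun h => by omega)
    obtain ⟨j, hj, hq, he⟩ := Cfsg.Agent.Aschbacher.minimal_field_data hmin hF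
    obtain ⟨hp, hchar, -, hdvd, hlow⟩ := hmin
    rw [hC] at hdvd hlow
    have hiff : ∀ x : ℕ, 7 ∣ p ^ x - 1 ↔ (p % 7) ^ x % 7 = 1 := fun x =>
      Cfsg.Agent.Aschbacher.dvd_pow_sub_one_iff_mod (by norm_num) hp.pos
    rw [hiff] at hdvd
    have hp0 : p % 7 ≠ 0 := fun h =>
      hrp ((Nat.prime_dvd_prime_iff_eq hrp' hp).1 (Nat.dvd_of_mod_eq_zero h))
    have hlt := Nat.mod_lt p (show 7 > 0 by norm_num)
    have hej : e' ≤ 6 := by
      by_contra h
      refine hlow 6 (by norm_num) (by omega) ((hiff _).2 ?_)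
      generalize p % 7 = x at hp0 hlt
      interval_cases x <;> first | omega | decide
    subst he
    have hj' : j ≤ 3 := by omega
    have hcases : (q = p ∧ p % 7 = 6) ∨ (q = p ^ 3 ∧ (p % 7 = 3 ∨ p % 7 = 5)) := by
      have low : ∀ x, 0 < x → x < 2 * j → (p % 7) ^ x % 7 ≠ 1 :=
        fun x h1 h2 h3 => hlow x h1 h2 ((hiff x).2 h3)
      subst hq
      generalize p % 7 = x at hp0 hlt hdvd low
      interval_cases j <;> interval_cases x <;> first
        | omega
        | (exfalso; revert hdvd; decide)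
        | (refine absurd ?_ (low 1 ?_ ?_) <;> first | omega | decide)
        | (refine absurd ?_ (low 2 ?_ ?_) <;> first | omega | decide)
        | (refine absurd ?_ (low 3 ?_ ?_) <;> first | omega | decide)
        | norm_num
    exact Or.inr <| Or.inr <| Or.inr <| Or.inr <| Or.inr <| Or.inr <| Or.inl
      ⟨p, R, hp, hchar, hcases, htype, habs, hsim, hR, hC, e⟩
  | @field r K hr hro hdvd hK hadj =>
    obtain rfl : r = 7 := (Nat.prime_dvd_prime_iff_eq hr (by norm_num)).1 hdvd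
    exact Or.inr <| Or.inr <| Or.inr <| Or.inl ⟨K, hK, hadj, e⟩
  | @tensor n₁ n₂ eq P f₁ f₂ h1 h2 hf₁ hf₂ hstr =>
    exfalso
    have hc := Fintype.card_congr eq
    simp only [Fintype.card_prod, Fintype.card_fin] at hc
    rcases (Nat.dvd_prime (by norm_num : Nat.Prime 7)).1 (Dvd.intro n₂ hc.symm) with h | h
    · omega
    · subst h; nlinarith
  | @wreath k t eq P f₁ hk ht hex hf₁ hstr =>
    exfalso
    have hc := Fintype.card_congr eq
    simp only [Fintype.card_fun, Fintype.card_fin] at hc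
    rcases (Nat.dvd_prime (by norm_num : Nat.Prime 7)).1 (hc ▸ dvd_pow_self k (by omega)) with h | h
    · omega
    · have : k ^ 2 ≤ k ^ t := Nat.pow_le_pow_right (by omega) ht
      subst h; omega

end Cfsg.Agent.S5811
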