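import Cfsg.Statements.S5813
import Cfsg.Agent.Lib.Transvec.OrthStab
import Cfsg.Agent.Lib.Transvec.OrthNondegMax
import Cfsg.Agent.Lib.Transvec.OrthFrameMax
import Cfsg.Agent.Lib.Transvec.OrthSubfieldSmall

set_option autoImplicit false
open Cfsg

namespace Cfsg.Agent.S5813

/-- Maximal subgroups of Ω_7(q) of geometric type, q odd. Let F be a finite field of odd order q, Q the standard quadratic form x₀² + Σ x_i y_i on F^7 (coordinates Unit ⊕ (Fin 3 ⊕ Fin 3)), and Ω = Ω_7(q) the commutator subgroup of its isometry group, inside GL_7(F). Each of the following, intersected with Ω, is a maximal subgroup of Ω: (1) the stabiliser of any non-zero subspace on which Q vanishes identically (totally singular 1-, 2- and 3-spaces); (2) the stabiliser of any non-zero even-dimensional subspace W on which the polar form of Q is non-degenerate (equivalently of its odd-dimensional orthogonal complement), except when q = 3 and W is a 2-space containing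 a non-zero singular vector (a plus-type plane); (3) for q = p prime, the stabiliser of any decomposition of F^7 into seven pairwise orthogonal, pairwise Q-isometric non-degenerate 1-spaces; (4) every subfield group for a subfield F₀ with |F| = |F₀|^r, r prime, whose F₀-structure carries Q. -/
theorem result {F : Type*} [Field F] [Fintype F] (hodd : Odd (Fintype.card F)) :
    (∀ W : Submodule F (Unit ⊕ (Fin 3 ⊕ Fin 3) → F), W ≠ ⊥ → Cfsg.Geo.IsTotallySingularQuad (Cfsg.quadFormOdd 3 F) W → Cfsg.Geo.IsMaximalIn (Cfsg.Geo.omegaGL (Cfsg.quadFormOdd 3 F)) (Cfsg.Geo.subspaceStabilizer W ⊓ Cfsg.Geo.omegaGL (Cfsg.quadFormOdd 3 F))) ∧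
    (∀ W : Submodule F (Unit ⊕ (Fin 3 ⊕ Fin 3) → F), W ≠ ⊥ → Even (Module.finrank F W) → Cfsg.Geo.IsNondegenerateOn (QuadraticMap.polar (Cfsg.quadFormOdd 3 F)) W → ¬ (Fintype.card F = 3 ∧ Module.finrank F W = 2 ∧ Cfsg.Geo.IsPlusTypeOn (Cfsg.quadFormOdd 3 F) W) → Cfsg.Geo.IsMaximalIn (Cfsg.Geo.omegaGL (Cfsg.quadFormOdd 3 F)) (Cfsg.Geo.subspaceStabilizer W ⊓ Cfsg.Geo.omegaGL (Cfsg.quadFormOdd 3 F))) ∧
    ((Fintype.card F).Prime → ∀ D : Fin 7 → Submodule F (Unit ⊕ (Fin 3 ⊕ Fin 3) → F), Cfsg.Geo.IsOrthogonalMDecomposition (Cfsg.quadFormOdd 3 F) 1 D → Cfsg.Geo.IsMaximalIn (Cfsg.Geo.omegaGL (Cfsg.quadFormOdd 3 F)) (Cfsg.Geo.decompositionStabilizer D ⊓ Cfsg.Geo.omegaGL (Cfsg.quadFormOdd 3 F))) ∧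
    (∀ (F₀ : Subfield F) (r : ℕ) (P : Matrix.GeneralLinearGroup (Unit ⊕ (Fin 3 ⊕ Fin 3)) F), r.Prime → Fintype.card F = Nat.card F₀ ^ r → Cfsg.Geo.IsQuadFormRationalStructure (Cfsg.quadFormOdd 3 F) F₀ P → Cfsg.Geo.IsMaximalIn (Cfsg.Geo.omegaGL (Cfsg.quadFormOdd 3 F)) (Cfsg.Geo.subfieldSubgroup F₀ P ⊓ Cfsg.Geo.omegaGL (Cfsg.quadFormOdd 3 F))) := by
  have h2 := Cfsg.Agent.Transvec.Orth.two_ne_zero_of_odd_card hodd
  have hQ := Cfsg.Agent.Transvec.Orth.quadFormOdd_nondegenerate 3 h2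
  have hn : Fintype.card (Unit ⊕ (Fin 3 ⊕ Fin 3)) = 7 := by simp
  refine ⟨fun W hW0 hW => Cfsg.Agent.Transvec.Orth.stab_singular_maximal hQ (by omega) hW0 hW (Or.inl (by omega)),
    fun W hW0 hev hW hex => ?_,
    fun hprime D hD => Cfsg.Agent.Transvec.OFr.frame_maximal' hQ hprime h2 (by omega) (Or.inr (by rw [hn]; decide)) hD,
    fun F₀ r P hr hcard hP => Cfsg.Agent.Transvec.Orth.subfield_maximal_transport' hQ P one_ne_zero
      (by simpa using hP) fun _ hQn hV _ =>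
        Cfsg.Agent.Transvec.Orth.orth_subfield_maximal_odd hQn hV hr hcard (by omega) h2⟩
  obtain ⟨j, hj⟩ := hev
  have hW1 : W ≠ ⊤ := fun h => by
    subst h
    rw [finrank_top, Module.finrank_pi, hn] at hj
    omega
  refine Cfsg.Agent.Transvec.Orth.stab_nondeg_even hQ (by omega) hW hW0 hW1 (Or.inl (by omega)) ?_
  rintro ⟨hq, U, h2', -, hp, hU⟩
  obtain ⟨i, hi⟩ := hodd
  have h1 : 1 < Fintype.card F := Fintype.one_lt_card
  rcases hU with rfl | ⟨-, hsum⟩
  · exact hex ⟨by omega, h2', hp⟩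
  · omega

end Cfsg.Agent.S5813
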