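import Cfsg.Statements.S5820
import Cfsg.Agent.Lib.Aschbacher.UnitRefine
import Cfsg.Agent.Lib.Aschbacher.UnitSmall

set_option autoImplicit false
open Cfsg

namespace Cfsg.Agent.S5820

/-- Every maximal subgroup of SU_8(q) is of one of the listed geometric types or lies in the residual class. Let F be the field with q² elements, f the standard unitary form Σ u_i v_i^q on F^8, and H a maximal subgroup of SU_8(q) (inside GL_8(F)). Then H is the intersection with SU_8(q) of one of: the stabiliser of a non-zero totally isotropic subspace; the stabiliser of a non-degenerate 1-, 2- or 3-space; the stabiliser of a decomposition into eight mutually orthogonal non-degenerate 1-spaces; for q ≥ 3, of a decomposition into four mutually orthogonal non-degenerate 2-spaces; of a decomposition into two orthogonal non-degenerate 4-spaces; of a decomposition into two totally isotropic 4-spaces; for q ≥ 3, the stabiliser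 of a tensor decomposition of f into unitary forms on F^2 and F^4; a subfield group of odd prime index whose F₀-structure carries f; a subfield group of index 2 and symplectic type; for q odd, a subfield group of index 2 and orthogonal type; for q = p ≡ 3 mod 4 prime, the normaliser of an absolutely irreducible symplectic-type 2-group of order 2^8 with centre of order 4 inside the similarity group of f — or else H lies in the residual class of the unitary case. -/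
theorem result {F : Type*} [Field F] [Fintype F] (q : ℕ) (hF : Fintype.card F = q ^ 2) (H : Subgroup (Matrix.GeneralLinearGroup (Fin 8) F)) (hH : Cfsg.Geo.IsMaximalIn (Cfsg.GU 8 F q ⊓ Cfsg.Geo.specialLinear (Fin 8) F) H) :
    (∃ W : Submodule F (Fin 8 → F), W ≠ ⊥ ∧ Cfsg.Geo.IsTotallySingularFor (Cfsg.hermForm 8 F q) W ∧ H = Cfsg.Geo.subspaceStabilizer W ⊓ (Cfsg.GU 8 F q ⊓ Cfsg.Geo.specialLinear (Fin 8) F)) ∨
    (∃ W : Submodule F (Fin 8 → F), W ≠ ⊥ ∧ Cfsg.Geo.IsNondegenerateOn (Cfsg.hermForm 8 F q) W ∧ 2 * Module.finrank F W < 8 ∧ H = Cfsg.Geo.subspaceStabilizer W ⊓ (Cfsg.GU 8 F q ⊓ Cfsg.Geo.specialLinear (Fin 8) F)) ∨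
    (∃ D : Fin 8 → Submodule F (Fin 8 → F), Cfsg.Geo.IsNondegenerateMDecomposition (Cfsg.hermForm 8 F q) 1 D ∧ H = Cfsg.Geo.decompositionStabilizer D ⊓ (Cfsg.GU 8 F q ⊓ Cfsg.Geo.specialLinear (Fin 8) F)) ∨
    (3 ≤ q ∧ ∃ D : Fin 4 → Submodule F (Fin 8 → F), Cfsg.Geo.IsNondegenerateMDecomposition (Cfsg.hermForm 8 F q) 2 D ∧ H = Cfsg.Geo.decompositionStabilizer D ⊓ (Cfsg.GU 8 F q ⊓ Cfsg.Geo.specialLinear (Fin 8) F)) ∨
    (∃ D : Fin 2 → Submodule F (Fin 8 → F), Cfsg.Geo.IsNondegenerateMDecomposition (Cfsg.hermForm 8 F q) 4 D ∧ H = Cfsg.Geo.decompositionStabilizer D ⊓ (Cfsg.GU 8 F q ⊓ Cfsg.Geo.specialLinear (Fin 8) F)) ∨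
    (∃ D : Fin 2 → Submodule F (Fin 8 → F), Cfsg.Geo.IsMDecomposition 4 D ∧ (∀ i, Cfsg.Geo.IsTotallySingularFor (Cfsg.hermForm 8 F q) (D i)) ∧ H = Cfsg.Geo.decompositionStabilizer D ⊓ (Cfsg.GU 8 F q ⊓ Cfsg.Geo.specialLinear (Fin 8) F)) ∨
    (3 ≤ q ∧ ∃ (e : Fin 8 ≃ Fin 2 × Fin 4) (P : Matrix.GeneralLinearGroup (Fin 8) F) (f₁ : (Fin 2 → F) → (Fin 2 → F) → F) (f₂ : (Fin 4 → F) → (Fin 4 → F) → F), Cfsg.Geo.IsUnitaryFormPow q f₁ ∧ Cfsg.Geo.IsUnitaryFormPow q f₂ ∧ Cfsg.Geo.IsTensorFormStructure (fun x : F => x ^ q) (Cfsg.hermForm 8 F q) f₁ f₂ e P ∧ H = Cfsg.Geo.tensorProductSubgroup 2 4 e P ⊓ (Cfsg.GU 8 F q ⊓ Cfsg.Geo.specialLinear (Fin 8) F)) ∨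
    (∃ (F₀ : Subfield F) (r : ℕ) (P : Matrix.GeneralLinearGroup (Fin 8) F), r.Prime ∧ Odd r ∧ Fintype.card F = Nat.card F₀ ^ r ∧ Cfsg.Geo.IsFormRationalStructure (Cfsg.hermForm 8 F q) F₀ 1 P ∧ H = Cfsg.Geo.subfieldSubgroup F₀ P ⊓ (Cfsg.GU 8 F q ⊓ Cfsg.Geo.specialLinear (Fin 8) F)) ∨
    (∃ (F₀ : Subfield F) (P : Matrix.GeneralLinearGroup (Fin 8) F) (ζ : F), Fintype.card F = Nat.card F₀ ^ 2 ∧ ζ ≠ 0 ∧ ζ + ζ ^ q = 0 ∧ Cfsg.Geo.IsFormRationalStructure (Cfsg.hermForm 8 F q) F₀ ζ P ∧ (∀ u : Fin 8 → F, (∀ i, u i ∈ F₀) → (Cfsg.hermForm 8 F q) (Matrix.mulVec (P : Matrix (Fin 8) (Fin 8) F) u) (Matrix.mulVec (P : Matrix (Fin 8) (Fin 8) F) u) = 0) ∧ H = Cfsg.Geo.subfieldSubgroup F₀ P ⊓ (Cfsg.GU 8 F q ⊓ Cfsg.Geo.specialLinear (Fin 8) F)) ∨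
    (Odd q ∧ ∃ (F₀ : Subfield F) (P : Matrix.GeneralLinearGroup (Fin 8) F), Fintype.card F = Nat.card F₀ ^ 2 ∧ Cfsg.Geo.IsFormRationalStructure (Cfsg.hermForm 8 F q) F₀ 1 P ∧ H = Cfsg.Geo.subfieldSubgroup F₀ P ⊓ (Cfsg.GU 8 F q ⊓ Cfsg.Geo.specialLinear (Fin 8) F)) ∨
    (∃ (p : ℕ) (R : Subgroup (Matrix.GeneralLinearGroup (Fin 8) F)), p.Prime ∧ q = p ∧ p % 4 = 3 ∧ Cfsg.Geo.IsSymplecticTypeGroup 2 R ∧ Cfsg.Geo.ActsAbsolutelyIrreducibly (Cfsg.Geo.matrixSet R) ∧ R ≤ Cfsg.Geo.similarityGroup (Cfsg.hermForm 8 F q) ∧ Nat.card R = 256 ∧ Nat.card (Subgroup.center R) = 4 ∧ H = Cfsg.Geo.subgroupNormalizer R ⊓ (Cfsg.GU 8 F q ⊓ Cfsg.Geo.specialLinear (Fin 8) F)) ∨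
    Cfsg.Geo.InUnitaryResidualClass H := by
  have hq2 : 2 ≤ q := by
    have h := Fintype.one_lt_card (α := F)
    rw [hF] at h
    by_contra h'
    interval_cases q <;> simp at h
  rcases Cfsg.Agent.Aschbacher.unitMaximal hF (by norm_num) hH with ⟨X, hX, e⟩ | hres
  swap
  · exact Or.inr <| Or.inr <| Or.inr <| Or.inr <| Or.inr <| Or.inr <| Or.inr <| Or.inr <| Or.inr <| Or.inr <| Or.inr <| hres
  cases hX with
  | singular h0 hW => exact Or.inl ⟨_, h0, hW, e⟩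
  | nondeg h0 hW hlt => exact Or.inr <| Or.inl ⟨_, h0, hW, hlt, e⟩
  | @decomp t k D hD =>
    have hc := Cfsg.Agent.Aschbacher.mdecomp_card hD.decomp
    rw [Fintype.card_fin] at hc
    have ht := hD.decomp.two_le
    have hk := hD.decomp.pos
    obtain ⟨rfl, rfl⟩ | ⟨rfl, rfl⟩ | ⟨rfl, rfl⟩ : (t = 8 ∧ k = 1) ∨ (t = 4 ∧ k = 2) ∨ (t = 2 ∧ k = 4) := by
      have h1 : t ≤ 8 := Nat.le_of_dvd (by norm_num) ⟨k, by linarith⟩
      interval_cases t <;> omega
    · exact Or.inr <| Or.inr <| Or.inl ⟨D, hD, e⟩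
    · by_cases hq3 : 3 ≤ q
      · exact Or.inr <| Or.inr <| Or.inr <| Or.inl ⟨hq3, D, hD, e⟩
      · obtain rfl : q = 2 := by omega
        obtain ⟨σ, -, hu, hfix⟩ := Cfsg.Agent.UnitaryStd.exists_setup (n := 8) hF (by norm_num)
        obtain ⟨E, hE, hle⟩ := Cfsg.Agent.Aschbacher.lines_of_planes
          (Cfsg.Agent.Aschbacher.fixed_zero_one hu hfix) hu hD
        have e' := Cfsg.Agent.Aschbacher.eq_of_le_unitX hF (by norm_num) hH (.decomp hE)
          fun g hg => hle g (e ▸ hg).1 (hH.1.le hg).1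
        exact Or.inr <| Or.inr <| Or.inl ⟨E, hE, e'⟩
    · exact Or.inr <| Or.inr <| Or.inr <| Or.inr <| Or.inl ⟨D, hD, e⟩
  | @pair k D hk hD hts =>
    obtain rfl : k = 4 := by omega
    exact Or.inr <| Or.inr <| Or.inr <| Or.inr <| Or.inr <| Or.inl ⟨D, hD, hts, e⟩
  | subSkew hn hc hζ hζq hP h0 => exact Or.inr <| Or.inr <| Or.inr <| Or.inr <| Or.inr <| Or.inr <| Or.inr <| Or.inr <| Or.inl ⟨_, _, _, hc, hζ, hζq, hP, h0, e⟩
  | subOdd hr hro hc hP => exact Or.inr <| Or.inr <| Or.inr <| Or.inr <| Or.inr <| Or.inr <| Or.inr <| Or.inl ⟨_, _, _, hr, hro, hc, hP, e⟩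
  | subTwo hq hc hP => exact Or.inr <| Or.inr <| Or.inr <| Or.inr <| Or.inr <| Or.inr <| Or.inr <| Or.inr <| Or.inr <| Or.inl ⟨hq, _, _, hc, hP, e⟩
  | @symplType R r p e' k hn htype habs hsim hrp hmin hdata =>
    have hrp' := htype.prime
    have hk0 : k ≠ 0 := by rintro rfl; simp at hn
    obtain rfl : r = 2 := (Nat.prime_dvd_prime_iff_eq hrp' (by norm_num)).1
      (hrp'.dvd_of_dvd_pow (show r ∣ 2 ^ 3 from (show 2 ^ 3 = r ^ k by omega) ▸ dvd_pow_self r hk0))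
    obtain rfl : k = 3 := (Nat.pow_right_injective (by norm_num) (show 2 ^ 3 = 2 ^ k by omega)).symm
    obtain ⟨j, hj, hq, he⟩ := Cfsg.Agent.Aschbacher.minimal_field_data hmin hF
    obtain ⟨hp, hchar, -, hdvd, hlow⟩ := hmin
    obtain ⟨-, he2, hC, hR⟩ := hdata.resolve_left fun h => absurd h.1 (by decide)
    obtain rfl : j = 1 := by omega
    rw [pow_one] at hq
    rw [hC] at hlow
    have h1 := hlow 1 one_pos (by omega)
    have hp2 := hp.eq_two_or_odd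
    rw [pow_one] at h1
    have hmod : p % 4 = 3 := by omega
    exact Or.inr <| Or.inr <| Or.inr <| Or.inr <| Or.inr <| Or.inr <| Or.inr <| Or.inr <| Or.inr <| Or.inr <| Or.inl ⟨p, R, hp, hq, hmod, htype, habs, hsim, by simpa using hR, hC, e⟩
  | @field r K hr hro hdvd hK hadj =>
    exfalso
    have := Nat.le_of_dvd (by norm_num) hdvd
    have := hr.two_le
    interval_cases r <;> first | (revert hdvd; decide) | (revert hro; decide) | (norm_num at hr)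
  | @tensor n₁ n₂ eq P f₁ f₂ h1 h2 hf₁ hf₂ hstr =>
    have hc := Fintype.card_congr eq
    simp only [Fintype.card_prod, Fintype.card_fin] at hc
    have hn1 : n₁ ≤ 2 := by
      by_contra h
      nlinarith
    obtain ⟨rfl, rfl⟩ : (n₁ = 2 ∧ n₂ = 4) := by
      interval_cases n₁ <;> omega
    by_cases hq3 : 3 ≤ q
    · exact Or.inr <| Or.inr <| Or.inr <| Or.inr <| Or.inr <| Or.inr <| Or.inl ⟨hq3, eq, P, f₁, f₂, hf₁, hf₂, hstr, e⟩
    · obtain rfl : q = 2 := by omega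
      obtain ⟨σ, hσq, hu, hfix⟩ := Cfsg.Agent.UnitaryStd.exists_setup (n := 8) hF (by norm_num)
      have hpow := fun {a : ℕ} {g : (Fin a → F) → (Fin a → F) → F}
          (hg : Cfsg.Geo.IsUnitaryFormPow 2 g) =>
        (⟨hu.ne_refl, hu.involutive, hg.add_left, hg.smul_left,
          fun v w => (hg.herm v w).trans (hσq _).symm, hg.nondegenerate⟩ : Cfsg.Geo.IsUnitaryForm σ g)
      rw [show (fun x : F => x ^ 2) = ⇑σ from funext fun x => (hσq x).symm] at hstr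
      obtain ⟨E, hE, hle⟩ := Cfsg.Agent.Aschbacher.blocks_of_tensor_two
        (Cfsg.Agent.Aschbacher.fixed_zero_one hu hfix) hu (by norm_num) (hpow hf₁) (hpow hf₂) hstr
      have e' := Cfsg.Agent.Aschbacher.eq_of_le_unitX hF (by norm_num) hH (.decomp hE)
        fun g hg => hle g (e ▸ hg).1 (hH.1.le hg).1
      exact Or.inr <| Or.inr <| Or.inr <| Or.inr <| Or.inl ⟨E, hE, e'⟩
  | @wreath k t eq P f₁ hk ht hex hf₁ hstr =>
    exfalso
    have hc := Fintype.card_congr eq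
    simp only [Fintype.card_fun, Fintype.card_fin] at hc
    have h9 : k ^ 2 ≤ k ^ t := Nat.pow_le_pow_right (by omega) ht
    have hk3 : k ≤ 3 := by nlinarith
    obtain rfl : k = 3 := by omega
    rcases Nat.lt_or_ge t 3 with h | h
    · obtain rfl : t = 2 := by omega
      omega
    · have : 3 ^ 3 ≤ 3 ^ t := Nat.pow_le_pow_right (by norm_num) h
      omega

end Cfsg.Agent.S5820
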