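import Cfsg.Statements.S5823
import Cfsg.Agent.Lib.Aschbacher.SympTensorFour
import Cfsg.Agent.Lib.Aschbacher.SympTensorCube

set_option autoImplicit false
open Cfsg

namespace Cfsg.Agent.S5823

/-- Every maximal subgroup of Sp_8(q) is of one of the listed geometric types or lies in the residual class. Let F be a finite field with q elements, f the standard alternating form on F^8 (coordinates Fin 4 ⊕ Fin 4), and H a maximal subgroup of Sp_8(F) (inside GL_8(F)). Then H is the intersection with Sp_8(F) of one of: the stabiliser of a non-zero totally isotropic subspace; the stabiliser of a non-degenerate 2-space; for q ≥ 3, the stabiliser of a decomposition into four mutually orthogonal non-degenerate 2-spaces; of a decomposition into two orthogonal non-degenerate 4-spaces; for q odd, of a decomposition into two totally isotropic 4-spaces; the normaliser of a degree-2 subfield K, self-adjoint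 with f(k v, v) = 0; for q odd, the normaliser of a degree-2 subfield closed under adjoints but not self-adjoint; for q odd, the stabiliser of a tensor decomposition of f into an alternating form on F^2 and a minus-type symmetric form on F^4; a subfield group (|F| = |F₀|^r, r prime) whose F₀-structure carries a non-zero multiple of f; for q = p an odd prime, the normaliser of an absolutely irreducible extraspecial group 2_-^(1+6) of exponent 4 inside the similarity group of f; for q odd, q ≥ 5, the stabiliser of a tensor decomposition of f as a third tensor power of an alternating form on F^2; for q even, the similarity group of a non-degenerate quadratic form polarising to f — or else H lies in the residual class of the symplectic case. -/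
theorem result {F : Type*} [Field F] [Fintype F] (H : Subgroup (Matrix.GeneralLinearGroup (Fin 4 ⊕ Fin 4) F)) (hH : Cfsg.Geo.IsMaximalIn (Cfsg.spGL 4 F) H) :
    (∃ W : Submodule F (Fin 4 ⊕ Fin 4 → F), W ≠ ⊥ ∧ Cfsg.Geo.IsTotallySingularFor (Cfsg.sympForm 4 F) W ∧ H = Cfsg.Geo.subspaceStabilizer W ⊓ Cfsg.spGL 4 F) ∨
    (∃ W : Submodule F (Fin 4 ⊕ Fin 4 → F), W ≠ ⊥ ∧ Cfsg.Geo.IsNondegenerateOn (Cfsg.sympForm 4 F) W ∧ Module.finrank F W < 4 ∧ H = Cfsg.Geo.subspaceStabilizer W ⊓ Cfsg.spGL 4 F) ∨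
    (3 ≤ Fintype.card F ∧ ∃ D : Fin 4 → Submodule F (Fin 4 ⊕ Fin 4 → F), Cfsg.Geo.IsNondegenerateMDecomposition (Cfsg.sympForm 4 F) 2 D ∧ H = Cfsg.Geo.decompositionStabilizer D ⊓ Cfsg.spGL 4 F) ∨
    (∃ D : Fin 2 → Submodule F (Fin 4 ⊕ Fin 4 → F), Cfsg.Geo.IsNondegenerateMDecomposition (Cfsg.sympForm 4 F) 4 D ∧ H = Cfsg.Geo.decompositionStabilizer D ⊓ Cfsg.spGL 4 F) ∨
    (Odd (Fintype.card F) ∧ ∃ D : Fin 2 → Submodule F (Fin 4 ⊕ Fin 4 → F), Cfsg.Geo.IsMDecomposition 4 D ∧ (∀ i, Cfsg.Geo.IsTotallySingularFor (Cfsg.sympForm 4 F) (D i)) ∧ H = Cfsg.Geo.decompositionStabilizer D ⊓ Cfsg.spGL 4 F) ∨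
    (∃ K : Subalgebra F (Matrix (Fin 4 ⊕ Fin 4) (Fin 4 ⊕ Fin 4) F), Cfsg.Geo.IsFieldSubalgebra 2 K ∧ Cfsg.Geo.IsSelfAdjointFor (Cfsg.sympForm 4 F) K ∧ (∀ k ∈ K, ∀ v : (Fin 4 ⊕ Fin 4 → F), (Cfsg.sympForm 4 F) (Matrix.mulVec k v) v = 0) ∧ H = Cfsg.Geo.subalgebraNormalizer K ⊓ Cfsg.spGL 4 F) ∨
    (Odd (Fintype.card F) ∧ ∃ K : Subalgebra F (Matrix (Fin 4 ⊕ Fin 4) (Fin 4 ⊕ Fin 4) F), Cfsg.Geo.IsFieldSubalgebra 2 K ∧ Cfsg.Geo.IsAdjointClosedFor (Cfsg.sympForm 4 F) K ∧ ¬ Cfsg.Geo.IsSelfAdjointFor (Cfsg.sympForm 4 F) K ∧ H = Cfsg.Geo.subalgebraNormalizer K ⊓ Cfsg.spGL 4 F) ∨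
    (Odd (Fintype.card F) ∧ ∃ (e : (Fin 4 ⊕ Fin 4) ≃ Fin 2 × Fin 4) (P : Matrix.GeneralLinearGroup (Fin 4 ⊕ Fin 4) F) (f₁ : (Fin 2 → F) → (Fin 2 → F) → F) (f₂ : (Fin 4 → F) → (Fin 4 → F) → F), Cfsg.Geo.IsSymplecticForm f₁ ∧ Cfsg.Geo.IsSymmetricForm f₂ ∧ ¬ Cfsg.Geo.IsPlusTypeOn (fun v : Fin 4 → F => f₂ v v) ⊤ ∧ Cfsg.Geo.IsTensorFormStructure id (Cfsg.sympForm 4 F) f₁ f₂ e P ∧ H = Cfsg.Geo.tensorProductSubgroup 2 4 e P ⊓ Cfsg.spGL 4 F) ∨
    (∃ (F₀ : Subfield F) (r : ℕ) (P : Matrix.GeneralLinearGroup (Fin 4 ⊕ Fin 4) F) (ζ : F), r.Prime ∧ Fintype.card F = Nat.card F₀ ^ r ∧ ζ ≠ 0 ∧ Cfsg.Geo.IsFormRationalStructure (Cfsg.sympForm 4 F) F₀ ζ P ∧ H = Cfsg.Geo.subfieldSubgroup F₀ P ⊓ Cfsg.spGL 4 F) ∨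
    (∃ (p : ℕ) (R : Subgroup (Matrix.GeneralLinearGroup (Fin 4 ⊕ Fin 4) F)), p.Prime ∧ Odd p ∧ Fintype.card F = p ∧ Cfsg.Geo.IsSymplecticTypeGroup 2 R ∧ Cfsg.Geo.ActsAbsolutelyIrreducibly (Cfsg.Geo.matrixSet R) ∧ R ≤ Cfsg.Geo.similarityGroup (Cfsg.sympForm 4 F) ∧ Nat.card R = 128 ∧ Nat.card (Subgroup.center R) = 2 ∧ Cfsg.Geo.IsOfMinusType 3 R ∧ H = Cfsg.Geo.subgroupNormalizer R ⊓ Cfsg.spGL 4 F) ∨
    (Odd (Fintype.card F) ∧ 5 ≤ Fintype.card F ∧ ∃ (e : (Fin 4 ⊕ Fin 4) ≃ (Fin 3 → Fin 2)) (P : Matrix.GeneralLinearGroup (Fin 4 ⊕ Fin 4) F) (f₁ : (Fin 2 → F) → (Fin 2 → F) → F), Cfsg.Geo.IsSymplecticForm f₁ ∧ Cfsg.Geo.IsTensorPowerFormStructure id (Cfsg.sympForm 4 F) f₁ e P ∧ H = Cfsg.Geo.tensorWreathSubgroup 2 3 e P ⊓ Cfsg.spGL 4 F) ∨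
    (¬ Odd (Fintype.card F) ∧ ∃ Q : (Fin 4 ⊕ Fin 4 → F) → F, Cfsg.Geo.IsNondegenerateQuadraticForm Q ∧ (∀ u v : (Fin 4 ⊕ Fin 4 → F), QuadraticMap.polar Q u v = (Cfsg.sympForm 4 F) u v) ∧ H = Cfsg.Geo.quadSimilarityGroup Q ⊓ Cfsg.spGL 4 F) ∨
    Cfsg.Geo.InSymplecticResidualClass H := by
  have hf := Cfsg.Agent.Transvec.sympForm_isSymplectic 4 F
  rcases Cfsg.Agent.Aschbacher.sympMaximal (by norm_num : 2 ≤ 4) hH with
    ((⟨W, h0, hW, e⟩ | ⟨W, h0, hW, hlt, e⟩ | ⟨t, k, D, hD, e⟩ |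
      ⟨D, ho, hD, hts, e⟩ | ⟨F₀, r, P, ζ, hr, hc, hζ, hP, e⟩ |
      ⟨R, p, k, hk, htype, habs, hsim, hp, hpo, hq, hR, hC, hminus, e⟩ | ⟨Q, ho, hQ, hpol, e⟩) |
      ⟨r, K, hr, hK, hsa, halt, e⟩ | ⟨K, ho, hK, hadj, hns, e⟩ |
      ⟨n₁, n₂, eq, P, f₁, f₂, ho, hn₂, hf₁, hf₂, hstr, e⟩ |
      ⟨k, t, eq, P, f₁, ho, hto, ht, hex, hf₁, hstr, e⟩) | hres
  · exact Or.inl ⟨W, h0, hW, e⟩
  · exact Or.inr <| Or.inl ⟨W, h0, hW, hlt, e⟩
  · have hev := Cfsg.Agent.Aschbacher.even_finrank_of_nondegOn hf (hD.nondegenerate ⟨0, by have := hD.decomp.two_le; omega⟩)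
    rw [hD.decomp.finrank_eq] at hev
    have hc := Cfsg.Agent.Aschbacher.mdecomp_card hD.decomp
    have ht := hD.decomp.two_le
    have hk := hD.decomp.pos
    simp only [Fintype.card_sum, Fintype.card_fin] at hc
    obtain ⟨rfl, rfl⟩ | ⟨rfl, rfl⟩ : (t = 4 ∧ k = 2) ∨ (t = 2 ∧ k = 4) := by
      obtain ⟨j, rfl⟩ := hev
      have h1 : t * j = 4 := by linarith
      have ht4 : t ≤ 4 := Nat.le_of_dvd (by norm_num) (Dvd.intro j h1)
      interval_cases t <;> omega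
    · by_cases hq : 3 ≤ Fintype.card F
      · exact Or.inr <| Or.inr <| Or.inl ⟨hq, D, hD, e⟩
      · have hq2 : Fintype.card F = 2 := by
          have := Fintype.one_lt_card (α := F)
          omega
        have hev : ¬ Odd (Fintype.card F) := by rw [hq2]; decide
        obtain ⟨Q, hQ, hpol, hle⟩ := Cfsg.Agent.Aschbacher.quad_of_planes hf hq2 hD
        refine Or.inr <| Or.inr <| Or.inr <| Or.inr <| Or.inr <| Or.inr <| Or.inr <| Or.inr <| Or.inr <| Or.inr <| Or.inr <| Or.inl ⟨hev, Q, hQ, hpol, Cfsg.Agent.Aschbacher.eq_of_le_member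
            (by norm_num) hH (e.le.trans (inf_le_inf_right _ hle)) inf_le_right ?_⟩
        exact Or.inl <| Or.inr <| Or.inr <| Or.inr <| Or.inr <| Or.inr <| Or.inr <| ⟨Q, hev, hQ, hpol, rfl⟩
    · exact Or.inr <| Or.inr <| Or.inr <| Or.inl ⟨D, hD, e⟩
  · exact Or.inr <| Or.inr <| Or.inr <| Or.inr <| Or.inl ⟨ho, D, hD, hts, e⟩
  · exact Or.inr <| Or.inr <| Or.inr <| Or.inr <| Or.inr <| Or.inr <| Or.inr <| Or.inr <| Or.inl ⟨F₀, r, P, ζ, hr, hc, hζ, hP, e⟩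
  · obtain rfl : k = 3 := (Nat.pow_right_injective le_rfl (show 2 ^ 3 = 2 ^ k by omega)).symm
    exact Or.inr <| Or.inr <| Or.inr <| Or.inr <| Or.inr <| Or.inr <| Or.inr <| Or.inr <| Or.inr <| Or.inl ⟨p, R, hp, hpo, hq, htype, habs, hsim, hR, hC, hminus, e⟩
  · exact Or.inr <| Or.inr <| Or.inr <| Or.inr <| Or.inr <| Or.inr <| Or.inr <| Or.inr <| Or.inr <| Or.inr <| Or.inr <| Or.inl ⟨ho, Q, hQ, hpol, e⟩
  · have hd := Cfsg.Agent.Aschbacher.two_mul_dvd_of_selfAdjoint hf hK hsa halt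
    simp only [Fintype.card_sum, Fintype.card_fin] at hd
    have hd' : r ∣ 4 := (Nat.mul_dvd_mul_iff_left (by norm_num : 0 < 2)).1
      (show 2 * r ∣ 2 * 4 from hd)
    obtain rfl : r = 2 := (Nat.prime_dvd_prime_iff_eq hr Nat.prime_two).1
      (hr.dvd_of_dvd_pow (show r ∣ 2 ^ 2 from hd'))
    exact Or.inr <| Or.inr <| Or.inr <| Or.inr <| Or.inr <| Or.inl ⟨K, hK, hsa, halt, e⟩
  · exact Or.inr <| Or.inr <| Or.inr <| Or.inr <| Or.inr <| Or.inr <| Or.inl ⟨ho, K, hK, hadj, hns, e⟩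
  · have hev := Cfsg.Agent.Aschbacher.even_card_of_symplectic hf₁
    have hc := Fintype.card_congr eq
    simp only [Fintype.card_sum, Fintype.card_prod, Fintype.card_fin] at hc hev
    obtain ⟨rfl, rfl⟩ : n₁ = 2 ∧ n₂ = 4 := by
      obtain ⟨j, rfl⟩ := hev
      have h1 : n₂ * j = 4 := by linarith
      have ht4 : n₂ ≤ 4 := Nat.le_of_dvd (by norm_num) (Dvd.intro j h1)
      interval_cases n₂ <;> omega
    by_cases hplus : Cfsg.Geo.IsPlusTypeOn (fun v : Fin 4 → F => f₂ v v) ⊤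
    swap
    · exact Or.inr <| Or.inr <| Or.inr <| Or.inr <| Or.inr <| Or.inr <| Or.inr <| Or.inl ⟨ho, eq, P, f₁, f₂, hf₁, hf₂, hplus, hstr, e⟩
    have h2 := Cfsg.Agent.Aschbacher.two_ne_zero_of_odd_card ho
    obtain ⟨eq', P', g₁, hg₁, hstr', hle⟩ :=
      Cfsg.Agent.Aschbacher.wreath_of_tensor_plus h2 hf₁ hf₂ hplus hstr
    have hHle : H ≤ Cfsg.Geo.tensorWreathSubgroup 2 3 eq' P' ⊓ Cfsg.Geo.similarityGroup (Cfsg.sympForm 4 F) := by
      intro g hg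
      have hs : g ∈ Cfsg.Geo.similarityGroup (Cfsg.sympForm 4 F) :=
        ⟨1, fun u v => (hH.1.le hg u v).trans (one_mul _).symm⟩
      exact ⟨hle g (e ▸ hg).1 hs, hs⟩
    by_cases h5 : 5 ≤ Fintype.card F
    · refine Or.inr <| Or.inr <| Or.inr <| Or.inr <| Or.inr <| Or.inr <| Or.inr <| Or.inr <| Or.inr <| Or.inr <| Or.inl ⟨ho, h5, eq', P', g₁, hg₁, hstr', Cfsg.Agent.Aschbacher.eq_of_le_member
        (by norm_num) hH (le_inf (hHle.trans inf_le_left) hH.1.le) inf_le_right ?_⟩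
      exact Or.inr <| Or.inr <| Or.inr <| Or.inr <| ⟨2, 3, eq', P', g₁, ho, by decide, le_rfl, by omega, hg₁, hstr', rfl⟩
    · have hq3 : Fintype.card F = 3 := by
        have := Fintype.one_lt_card (α := F)
        obtain ⟨j, hj⟩ := ho
        omega
      obtain ⟨R, htype, habs, hsim, hR, hC, hminus, hN⟩ :=
        Cfsg.Agent.Aschbacher.symplType_of_tensor_cube hq3 hf hg₁ hstr'
      refine Or.inr <| Or.inr <| Or.inr <| Or.inr <| Or.inr <| Or.inr <| Or.inr <| Or.inr <| Or.inr <| Or.inl ⟨3, R, Nat.prime_three, by decide, hq3, htype, habs, hsim, hR, hC, hminus,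
        Cfsg.Agent.Aschbacher.eq_of_le_member (by norm_num) hH
          (le_inf (hHle.trans hN) hH.1.le) inf_le_right ?_⟩
      exact Or.inl <| Or.inr <| Or.inr <| Or.inr <| Or.inr <| Or.inr <| Or.inl ⟨R, 3, 3, htype, habs, hsim, Nat.prime_three, by decide, hq3, hR, hC,
        hminus, rfl⟩
  · have hc := Fintype.card_congr eq
    simp only [Fintype.card_sum, Fintype.card_fun, Fintype.card_fin] at hc
    obtain ⟨rfl, rfl⟩ : k = 2 ∧ t = 3 := by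
      rcases Nat.lt_or_ge k 3 with h | h
      · interval_cases k
        · rw [zero_pow (by omega)] at hc; omega
        · rw [one_pow] at hc; omega
        · exact ⟨rfl, Nat.pow_right_injective le_rfl (show 2 ^ t = 2 ^ 3 by omega)⟩
      · have h27 : 3 ^ 3 ≤ k ^ t := (Nat.pow_le_pow_left h 3).trans (Nat.pow_le_pow_right (by omega) ht)
        omega
    have h5 : 5 ≤ Fintype.card F := by
      have := Fintype.one_lt_card (α := F)
      have h3 : Fintype.card F ≠ 3 := fun h => hex ⟨h, rfl⟩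
      obtain ⟨j, hj⟩ := ho
      omega
    exact Or.inr <| Or.inr <| Or.inr <| Or.inr <| Or.inr <| Or.inr <| Or.inr <| Or.inr <| Or.inr <| Or.inr <| Or.inl ⟨ho, h5, eq, P, f₁, hf₁, hstr, e⟩
  · exact Or.inr <| Or.inr <| Or.inr <| Or.inr <| Or.inr <| Or.inr <| Or.inr <| Or.inr <| Or.inr <| Or.inr <| Or.inr <| Or.inr hres

end Cfsg.Agent.S5823
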