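import Cfsg.Statements.S5825
import Cfsg.Agent.Lib.Transvec.OrthStab
import Cfsg.Agent.Lib.Transvec.OrthNondegMax
import Cfsg.Agent.Lib.OrthFieldExt.Main
import Cfsg.Agent.Lib.Transvec.OrthSubfieldSmall

set_option autoImplicit false
open Cfsg

namespace Cfsg.Agent.S5825

/-- Maximal subgroups of Ω_8^-(q) of geometric type (any q). Let F be a finite field with q elements, Q a non-degenerate quadratic form on F^8 (non-degenerate polar form) of minus type (Witt index 3: no totally singular 4-space), and Ω = Ω_8^-(q) the commutator subgroup of the isometry group of Q, inside GL_8(F). Each of the following, intersected with Ω, is a maximal subgroup of Ω: (1) the stabiliser of any non-zero subspace on which Q vanishes identically (totally singular 1-, 2- and 3-spaces); (2) for q odd, the stabiliser of any proper subspace of odd dimension (1, 3, 5 or 7) on which the polar form of Q is non-degenerate; (3) the stabiliser of any non-degenerate 2-space of minus type (containing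 no non-zero singular vector); (4) for q ≥ 4, the stabiliser of any non-degenerate 2-space of plus type (containing a non-zero singular vector); (5) the stabiliser of any non-degenerate 4-space (its orthogonal complement is then a non-degenerate 4-space of the opposite type); (6) for q even, the stabiliser of the 1-space spanned by any non-singular vector v (Q(v) ≠ 0); (7) for q odd, the normaliser of any degree-2 subfield K of the matrix algebra whose elements are self-adjoint for the polar form of Q (Q is then the trace of a quadratic form over K); (8) every subfield group for a subfield F₀ of odd prime index r in F whose F₀-structure carries a non-zero scalar multiple of Q. -/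
theorem result {F : Type*} [Field F] [Fintype F] (Q : (Fin 8 → F) → F) (hQ : Cfsg.Geo.IsNondegenerateQuadraticForm Q) (hminus : ¬ Cfsg.Geo.IsPlusTypeOn Q ⊤) :
    (∀ W : Submodule F (Fin 8 → F), W ≠ ⊥ → Cfsg.Geo.IsTotallySingularQuad Q W → Cfsg.Geo.IsMaximalIn (Cfsg.Geo.omegaGL Q) (Cfsg.Geo.subspaceStabilizer W ⊓ Cfsg.Geo.omegaGL Q)) ∧
    (Odd (Fintype.card F) → ∀ W : Submodule F (Fin 8 → F), W ≠ ⊥ → W ≠ ⊤ → Odd (Module.finrank F W) → Cfsg.Geo.IsNondegenerateOn (QuadraticMap.polar Q) W → Cfsg.Geo.IsMaximalIn (Cfsg.Geo.omegaGL Q) (Cfsg.Geo.subspaceStabilizer W ⊓ Cfsg.Geo.omegaGL Q)) ∧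
    (∀ W : Submodule F (Fin 8 → F), Module.finrank F W = 2 → Cfsg.Geo.IsNondegenerateOn (QuadraticMap.polar Q) W → ¬ Cfsg.Geo.IsPlusTypeOn Q W → Cfsg.Geo.IsMaximalIn (Cfsg.Geo.omegaGL Q) (Cfsg.Geo.subspaceStabilizer W ⊓ Cfsg.Geo.omegaGL Q)) ∧
    (4 ≤ Fintype.card F → ∀ W : Submodule F (Fin 8 → F), Module.finrank F W = 2 → Cfsg.Geo.IsNondegenerateOn (QuadraticMap.polar Q) W → Cfsg.Geo.IsPlusTypeOn Q W → Cfsg.Geo.IsMaximalIn (Cfsg.Geo.omegaGL Q) (Cfsg.Geo.subspaceStabilizer W ⊓ Cfsg.Geo.omegaGL Q)) ∧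
    (∀ W : Submodule F (Fin 8 → F), Module.finrank F W = 4 → Cfsg.Geo.IsNondegenerateOn (QuadraticMap.polar Q) W → Cfsg.Geo.IsMaximalIn (Cfsg.Geo.omegaGL Q) (Cfsg.Geo.subspaceStabilizer W ⊓ Cfsg.Geo.omegaGL Q)) ∧
    (¬ Odd (Fintype.card F) → ∀ v : (Fin 8 → F), Q v ≠ 0 → Cfsg.Geo.IsMaximalIn (Cfsg.Geo.omegaGL Q) (Cfsg.Geo.subspaceStabilizer (Submodule.span F {v}) ⊓ Cfsg.Geo.omegaGL Q)) ∧
    (Odd (Fintype.card F) → ∀ K : Subalgebra F (Matrix (Fin 8) (Fin 8) F), Cfsg.Geo.IsFieldSubalgebra 2 K → Cfsg.Geo.IsSelfAdjointFor (QuadraticMap.polar Q) K → Cfsg.Geo.IsMaximalIn (Cfsg.Geo.omegaGL Q) (Cfsg.Geo.subalgebraNormalizer K ⊓ Cfsg.Geo.omegaGL Q)) ∧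
    (∀ (F₀ : Subfield F) (r : ℕ) (P : Matrix.GeneralLinearGroup (Fin 8) F) (ζ : F), r.Prime → Odd r → Fintype.card F = Nat.card F₀ ^ r → ζ ≠ 0 → Cfsg.Geo.IsQuadFormRationalStructure (fun v : Fin 8 → F => ζ * Q v) F₀ P → Cfsg.Geo.IsMaximalIn (Cfsg.Geo.omegaGL Q) (Cfsg.Geo.subfieldSubgroup F₀ P ⊓ Cfsg.Geo.omegaGL Q)) := by
  have hn : Fintype.card (Fin 8) = 8 := Fintype.card_fin 8
  have h1 : 1 < Fintype.card F := Fintype.one_lt_card
  have hdim : ∀ W : Submodule F (Fin 8 → F), Cfsg.Agent.Transvec.Orth.Nondeg Q W →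
      Module.finrank F W + Module.finrank F (Cfsg.Agent.Transvec.Orth.orth hQ W) = 8 := fun W hW => by
    have := (Cfsg.Agent.Transvec.Orth.orth_nondeg hQ hW).2
    omega
  have hne : ∀ W : Submodule F (Fin 8 → F), Module.finrank F W ≠ 0 → Module.finrank F W ≠ 8 → W ≠ ⊥ ∧ W ≠ ⊤ :=
    fun W h0 h8 => ⟨fun h => h0 (by rw [h]; exact finrank_bot F _),
      fun h => h8 (by rw [h, finrank_top, Module.finrank_pi, hn])⟩
  have hanis : ∀ W : Submodule F (Fin 8 → F), Module.finrank F W = 2 → ¬ Cfsg.Geo.IsPlusTypeOn Q W →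
      ∀ w ∈ W, Q w = 0 → w = 0 := fun W hW hp w hw hww => by
    by_contra hw0
    refine hp ⟨Submodule.span F {w}, (Submodule.span_singleton_le_iff_mem _ _).2 hw, fun x hx => ?_, ?_⟩
    · obtain ⟨c, rfl⟩ := Submodule.mem_span_singleton.1 hx
      rw [Cfsg.Agent.Transvec.Orth.q_smul hQ, hww, mul_zero]
    · rw [finrank_span_singleton hw0, hW]
  refine ⟨fun W hW0 hW => Cfsg.Agent.Transvec.Orth.stab_singular_maximal hQ (by omega) hW0 hW (Or.inr hminus),
    fun hq W hW0 hW1 hodd hW => ?_, fun W h2 hW hp => ?_, fun hq W h2 hW hp => ?_, fun W h4 hW => ?_,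
    fun hq v hv => Cfsg.Agent.Transvec.Orth.stab_nonsingular_maximal hQ (by omega) ?_ hv,
    fun hq K hK hsa => ?_, fun F₀ r P ζ hr hodd hcard hζ hP => ?_⟩
  · have hWn := Cfsg.Agent.Transvec.Orth.nondeg_of hW
    have := hdim W hWn
    obtain ⟨k, hk⟩ := hodd
    exact Cfsg.Agent.Transvec.Orth.stab_nondeg_maximal' hQ (by omega) hWn hW0 hW1 (Or.inl (by omega))
      (fun h => absurd h (by omega)) (fun h => absurd h (by omega))
  · have hWn := Cfsg.Agent.Transvec.Orth.nondeg_of hW
    have := hdim W hWn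
    obtain ⟨hW0, hW1⟩ := hne W (by omega) (by omega)
    exact Cfsg.Agent.Transvec.Orth.stab_nondeg_maximal' hQ (by omega) hWn hW0 hW1 (Or.inl (by omega))
      (fun _ => Or.inl (hanis W h2 hp)) (fun h => absurd h (by omega))
  · have hWn := Cfsg.Agent.Transvec.Orth.nondeg_of hW
    have := hdim W hWn
    obtain ⟨hW0, hW1⟩ := hne W (by omega) (by omega)
    exact Cfsg.Agent.Transvec.Orth.stab_nondeg_maximal' hQ (by omega) hWn hW0 hW1 (Or.inl (by omega))
      (fun _ => Or.inr (by rwa [Nat.card_eq_fintype_card])) (fun h => absurd h (by omega))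
  · have hWn := Cfsg.Agent.Transvec.Orth.nondeg_of hW
    have := hdim W hWn
    obtain ⟨hW0, hW1⟩ := hne W (by omega) (by omega)
    exact Cfsg.Agent.Transvec.Orth.stab_nondeg_maximal' hQ (by omega) hWn hW0 hW1
      (Or.inr ⟨⟨2, h4⟩, hminus⟩) (fun h => absurd h (by omega)) (fun h => absurd h (by omega))
  · by_contra h
    refine hq (Nat.odd_iff.2 (FiniteField.odd_card_of_char_ne_two fun hc => h ?_))
    have := ringChar.eq_iff.1 hc
    exact CharTwo.two_eq_zero
  · exact Cfsg.Agent.OrthFieldExt.normalizer_maximal' hQ (Cfsg.Agent.Transvec.Orth.two_ne_zero_of_odd_card hq)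
      Nat.prime_two hK hsa (by omega) fun d hd => ⟨by omega, by omega, fun _ => Or.inr hminus⟩
  · refine Cfsg.Agent.Transvec.Orth.subfield_maximal_transport' hQ P hζ hP fun Q' hQn hV hQ' =>
      Cfsg.Agent.Transvec.Orth.orth_subfield_maximal_minus hQn hV hr hcard hn ?_
    rintro ⟨U, -, hU, hUd⟩
    refine hminus ⟨U.map (Matrix.toLin' (P : Matrix (Fin 8) (Fin 8) F)), le_top, ?_, ?_⟩
    · rintro _ ⟨u, hu, rfl⟩
      have := hU u hu
      rw [hQ', mul_eq_zero, or_iff_right hζ] at this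
      simpa [Cfsg.Agent.Transvec.mv] using this
    · rw [← (Submodule.equivMapOfInjective _ (fun a b h => Cfsg.Agent.Transvec.mv_inj P
        (by simpa [Cfsg.Agent.Transvec.mv] using h)) U).finrank_eq]
      exact hUd

end Cfsg.Agent.S5825
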