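import Cfsg.Statements.S5826
import Cfsg.Agent.Lib.OrthEvenMax.Members
import Cfsg.Agent.Lib.OrthEvenMax.PlusSub

set_option autoImplicit false
open Cfsg

namespace Cfsg.Agent.S5826

/-- Every maximal subgroup of Ω_8^-(q) is of one of the listed geometric types or lies in the residual class. Let F be a finite field with q elements, Q a non-degenerate quadratic form on F^8 of minus type (no totally singular 4-space), Ω the commutator subgroup of its isometry group, and H a maximal subgroup of Ω (inside GL_8(F)). Then H is the intersection with Ω of one of: the stabiliser of a non-zero totally singular subspace; for q odd, the stabiliser of a non-degenerate subspace of odd dimension; the stabiliser of a non-degenerate 2-space of minus type; for q ≥ 4, the stabiliser of a non-degenerate 2-space of plus type; the stabiliser of a non-degenerate 4-space; for q even, the stabiliser of the span of a non-singular vector;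 the normaliser of a degree-2 subfield of the matrix algebra; a subfield group of odd prime index whose F₀-structure carries a non-zero multiple of Q — or else H lies in the residual class of the orthogonal case (modulo scalars H is almost simple, with absolutely irreducible perfect socle preimage realisable over no proper subfield and fixing no non-degenerate unitary form). -/
theorem result {F : Type*} [Field F] [Fintype F] (Q : (Fin 8 → F) → F) (hQ : Cfsg.Geo.IsNondegenerateQuadraticForm Q) (hminus : ¬ Cfsg.Geo.IsPlusTypeOn Q ⊤) (H : Subgroup (Matrix.GeneralLinearGroup (Fin 8) F)) (hH : Cfsg.Geo.IsMaximalIn (Cfsg.Geo.omegaGL Q) H) :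
    (∃ W : Submodule F (Fin 8 → F), W ≠ ⊥ ∧ Cfsg.Geo.IsTotallySingularQuad Q W ∧ H = Cfsg.Geo.subspaceStabilizer W ⊓ Cfsg.Geo.omegaGL Q) ∨
    (Odd (Fintype.card F) ∧ ∃ W : Submodule F (Fin 8 → F), W ≠ ⊥ ∧ W ≠ ⊤ ∧ Odd (Module.finrank F W) ∧ Cfsg.Geo.IsNondegenerateOn (QuadraticMap.polar Q) W ∧ H = Cfsg.Geo.subspaceStabilizer W ⊓ Cfsg.Geo.omegaGL Q) ∨
    (∃ W : Submodule F (Fin 8 → F), Module.finrank F W = 2 ∧ Cfsg.Geo.IsNondegenerateOn (QuadraticMap.polar Q) W ∧ ¬ Cfsg.Geo.IsPlusTypeOn Q W ∧ H = Cfsg.Geo.subspaceStabilizer W ⊓ Cfsg.Geo.omegaGL Q) ∨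
    (4 ≤ Fintype.card F ∧ ∃ W : Submodule F (Fin 8 → F), Module.finrank F W = 2 ∧ Cfsg.Geo.IsNondegenerateOn (QuadraticMap.polar Q) W ∧ Cfsg.Geo.IsPlusTypeOn Q W ∧ H = Cfsg.Geo.subspaceStabilizer W ⊓ Cfsg.Geo.omegaGL Q) ∨
    (∃ W : Submodule F (Fin 8 → F), Module.finrank F W = 4 ∧ Cfsg.Geo.IsNondegenerateOn (QuadraticMap.polar Q) W ∧ H = Cfsg.Geo.subspaceStabilizer W ⊓ Cfsg.Geo.omegaGL Q) ∨
    (¬ Odd (Fintype.card F) ∧ ∃ v : (Fin 8 → F), Q v ≠ 0 ∧ H = Cfsg.Geo.subspaceStabilizer (Submodule.span F {v}) ⊓ Cfsg.Geo.omegaGL Q) ∨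
    (∃ K : Subalgebra F (Matrix (Fin 8) (Fin 8) F), Cfsg.Geo.IsFieldSubalgebra 2 K ∧ H = Cfsg.Geo.subalgebraNormalizer K ⊓ Cfsg.Geo.omegaGL Q) ∨
    (∃ (F₀ : Subfield F) (r : ℕ) (P : Matrix.GeneralLinearGroup (Fin 8) F) (ζ : F), r.Prime ∧ Odd r ∧ Fintype.card F = Nat.card F₀ ^ r ∧ ζ ≠ 0 ∧ Cfsg.Geo.IsQuadFormRationalStructure (fun v : Fin 8 → F => ζ * Q v) F₀ P ∧ H = Cfsg.Geo.subfieldSubgroup F₀ P ⊓ Cfsg.Geo.omegaGL Q) ∨
    Cfsg.Geo.InOrthogonalResidualClass H := by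
  classical
  have hn : 5 ≤ Fintype.card (Fin 8) := by simp
  have hiso : H ≤ isometryGroup F Q := hH.1.le.trans (Agent.Transvec.Orth.omega_le_isometry hQ)
  have fin : Agent.OrthEvenMax.SubspaceMember Q H →
      (∃ W : Submodule F (Fin 8 → F), W ≠ ⊥ ∧ Geo.IsTotallySingularQuad Q W ∧ H = Geo.subspaceStabilizer W ⊓ Geo.omegaGL Q) ∨
      (Odd (Fintype.card F) ∧ ∃ W : Submodule F (Fin 8 → F), W ≠ ⊥ ∧ W ≠ ⊤ ∧ Odd (Module.finrank F W) ∧
        Geo.IsNondegenerateOn (QuadraticMap.polar Q) W ∧ H = Geo.subspaceStabilizer W ⊓ Geo.omegaGL Q) ∨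
      (∃ W : Submodule F (Fin 8 → F), Module.finrank F W = 2 ∧ Geo.IsNondegenerateOn (QuadraticMap.polar Q) W ∧
        ¬ Geo.IsPlusTypeOn Q W ∧ H = Geo.subspaceStabilizer W ⊓ Geo.omegaGL Q) ∨
      (4 ≤ Fintype.card F ∧ ∃ W : Submodule F (Fin 8 → F), Module.finrank F W = 2 ∧
        Geo.IsNondegenerateOn (QuadraticMap.polar Q) W ∧ Geo.IsPlusTypeOn Q W ∧
        H = Geo.subspaceStabilizer W ⊓ Geo.omegaGL Q) ∨
      (∃ W : Submodule F (Fin 8 → F), Module.finrank F W = 4 ∧ Geo.IsNondegenerateOn (QuadraticMap.polar Q) W ∧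
        H = Geo.subspaceStabilizer W ⊓ Geo.omegaGL Q) ∨
      (¬ Odd (Fintype.card F) ∧ ∃ v : (Fin 8 → F), Q v ≠ 0 ∧
        H = Geo.subspaceStabilizer (Submodule.span F {v}) ⊓ Geo.omegaGL Q) := by
    rintro (h | ⟨ho, W, h0, h1, hW1, -, hW, he⟩ | h | h | ⟨W, h4, -, hd, hW, he⟩ | h)
    · exact Or.inl h
    · exact Or.inr (Or.inl ⟨ho, W, h0, h1, hW1, hW, he⟩)
    · exact Or.inr (Or.inr (Or.inl h))
    · exact Or.inr (Or.inr (Or.inr (Or.inl h)))
    · rw [Fintype.card_fin] at hd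
      exact Or.inr (Or.inr (Or.inr (Or.inr (Or.inl ⟨W, by omega, hW, he⟩))))
    · exact Or.inr (Or.inr (Or.inr (Or.inr (Or.inr h))))
  have fin' : Agent.OrthEvenMax.SubspaceMember Q H → (
    (∃ W : Submodule F (Fin 8 → F), W ≠ ⊥ ∧ Cfsg.Geo.IsTotallySingularQuad Q W ∧ H = Cfsg.Geo.subspaceStabilizer W ⊓ Cfsg.Geo.omegaGL Q) ∨
    (Odd (Fintype.card F) ∧ ∃ W : Submodule F (Fin 8 → F), W ≠ ⊥ ∧ W ≠ ⊤ ∧ Odd (Module.finrank F W) ∧ Cfsg.Geo.IsNondegenerateOn (QuadraticMap.polar Q) W ∧ H = Cfsg.Geo.subspaceStabilizer W ⊓ Cfsg.Geo.omegaGL Q) ∨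
    (∃ W : Submodule F (Fin 8 → F), Module.finrank F W = 2 ∧ Cfsg.Geo.IsNondegenerateOn (QuadraticMap.polar Q) W ∧ ¬ Cfsg.Geo.IsPlusTypeOn Q W ∧ H = Cfsg.Geo.subspaceStabilizer W ⊓ Cfsg.Geo.omegaGL Q) ∨
    (4 ≤ Fintype.card F ∧ ∃ W : Submodule F (Fin 8 → F), Module.finrank F W = 2 ∧ Cfsg.Geo.IsNondegenerateOn (QuadraticMap.polar Q) W ∧ Cfsg.Geo.IsPlusTypeOn Q W ∧ H = Cfsg.Geo.subspaceStabilizer W ⊓ Cfsg.Geo.omegaGL Q) ∨
    (∃ W : Submodule F (Fin 8 → F), Module.finrank F W = 4 ∧ Cfsg.Geo.IsNondegenerateOn (QuadraticMap.polar Q) W ∧ H = Cfsg.Geo.subspaceStabilizer W ⊓ Cfsg.Geo.omegaGL Q) ∨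
    (¬ Odd (Fintype.card F) ∧ ∃ v : (Fin 8 → F), Q v ≠ 0 ∧ H = Cfsg.Geo.subspaceStabilizer (Submodule.span F {v}) ⊓ Cfsg.Geo.omegaGL Q) ∨
    (∃ K : Subalgebra F (Matrix (Fin 8) (Fin 8) F), Cfsg.Geo.IsFieldSubalgebra 2 K ∧ H = Cfsg.Geo.subalgebraNormalizer K ⊓ Cfsg.Geo.omegaGL Q) ∨
    (∃ (F₀ : Subfield F) (r : ℕ) (P : Matrix.GeneralLinearGroup (Fin 8) F) (ζ : F), r.Prime ∧ Odd r ∧ Fintype.card F = Nat.card F₀ ^ r ∧ ζ ≠ 0 ∧ Cfsg.Geo.IsQuadFormRationalStructure (fun v : Fin 8 → F => ζ * Q v) F₀ P ∧ H = Cfsg.Geo.subfieldSubgroup F₀ P ⊓ Cfsg.Geo.omegaGL Q) ∨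
    Cfsg.Geo.InOrthogonalResidualClass H) := fun h => by
    rcases fin h with h | h | h | h | h | h
    · exact Or.inl h
    · exact Or.inr (Or.inl h)
    · exact Or.inr (Or.inr (Or.inl h))
    · exact Or.inr (Or.inr (Or.inr (Or.inl h)))
    · exact Or.inr (Or.inr (Or.inr (Or.inr (Or.inl h))))
    · exact Or.inr (Or.inr (Or.inr (Or.inr (Or.inr (Or.inl h)))))
  cases Agent.OrthEvenMax.evenStructure hQ hiso (Or.inl (Fintype.card_fin 8)) with
  | ts h0 hW h => exact fin' (Agent.OrthEvenMax.subspace_ts hQ hn hH h0 hW h)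
  | nondeg h0 h1 hW hd h => exact fin' (Agent.OrthEvenMax.subspace_nondeg hQ hn hH h0 h1 hW hd h)
  | point h2 hv h => exact fin' (Agent.OrthEvenMax.subspace_point hQ hn hH h2 hv h)
  | ndecomp hirr hD htr htk h =>
    rename_i t k D
    refine absurd (Agent.OrthEvenMax.plus_of_blocks hQ hD.decomp htk
      (Agent.OrthEvenMax.blocks_trans hiso htr) ?_) hminus
    rw [Fintype.card_fin] at htk
    have ht := hD.decomp.decomp.two_le
    have hk := hD.decomp.decomp.pos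
    have : t ≤ 8 := Nat.le_of_dvd (by norm_num) ⟨k, htk.symm⟩
    have : k ≤ 8 := Nat.le_of_dvd (by norm_num) ⟨t, by rw [mul_comm]; exact htk.symm⟩
    interval_cases t
    · exact Or.inl ⟨⟨2, by omega⟩, dvd_rfl⟩
    · omega
    · exact Or.inr dvd_rfl
    · omega
    · omega
    · omega
    · exact Or.inr (by norm_num)
  | pair hirr hk hD hts h =>
    exact absurd ⟨_, le_top, hts 0, by rw [hD.finrank_eq, finrank_top, Module.finrank_pi, hk]⟩ hminus
  | field hirr hr hdvd hK hadj h =>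
    rename_i r K
    rw [Fintype.card_fin] at hdvd
    obtain rfl : r = 2 := (Nat.prime_dvd_prime_iff_eq hr Nat.prime_two).1
      (hr.dvd_of_dvd_pow (show r ∣ 2 ^ 3 by simpa using hdvd))
    exact Or.inr (Or.inr (Or.inr (Or.inr (Or.inr (Or.inr (Or.inl
      ⟨K, hK, Agent.OrthEvenMax.eq_inf_field hQ hn hH le_rfl hK h⟩))))))
  | symTensor hirr h2 ha hb hs hA hB hN =>
    rename_i a b eq P A B
    exfalso
    have h8 : a * b = 8 := by simpa using (Fintype.card_congr eq).symm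
    have : a ≤ 8 := Nat.le_of_dvd (by norm_num) ⟨b, h8.symm⟩
    interval_cases a <;> omega
  | altTensor hirr ha hb hae hbe hs hA hB hpure hN =>
    rename_i a b eq P A B
    have h8 : a * b = 8 := by simpa using (Fintype.card_congr eq).symm
    have : a ≤ 4 := by nlinarith
    refine absurd ?_ hminus
    by_cases h : a = 2
    · exact Agent.OrthEvenMax.plus_of_pure hQ h hpure
    · refine Agent.OrthEvenMax.plus_of_pure hQ (a := b) (b := a) (eq := eq.trans (Equiv.prodComm _ _)) (P := P)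
        (by interval_cases a <;> omega) fun x₁ x₂ => ?_
      rw [← hpure x₂ x₁]
      congr 2
      funext i
      simp [mul_comm]
  | plusEight h8 hp => exact absurd hp hminus
  | subfield hr hcard hζ hrat h =>
    rename_i F₁ r P ζ
    refine Or.inr (Or.inr (Or.inr (Or.inr (Or.inr (Or.inr (Or.inr (Or.inl
      ⟨F₁, r, P, ζ, hr, ?_, hcard, hζ, hrat, Agent.OrthEvenMax.eq_inf_subfield hQ hn hH hr hcard h⟩)))))))
    refine hr.eq_two_or_odd'.resolve_left fun h2 => ?_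
    subst h2
    exact hminus (Agent.OrthEvenMax.plus_of_sub_two hQ ⟨4, by simp⟩ hζ hcard hrat)
  | residual h => exact Or.inr (Or.inr (Or.inr (Or.inr (Or.inr (Or.inr (Or.inr (Or.inr h)))))))

end Cfsg.Agent.S5826
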