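import Cfsg.Statements.S5844
import Cfsg.Agent.Lib.Aschbacher.SympRefine

set_option autoImplicit false
open Cfsg

namespace Cfsg.Agent.S5844

/-- Every maximal subgroup of Sp_10(q) is of one of the listed geometric types or lies in the residual class. Let F be a finite field with q elements (characteristic p), f the standard alternating form on F^10 (coordinates Fin 5 ⊕ Fin 5), and H a maximal subgroup of Sp_10(F) (inside GL_10(F)). Then H is the intersection with Sp_10(F) of one of: the stabiliser of a non-zero totally isotropic subspace; the stabiliser of a non-zero non-degenerate subspace of dimension less than 5; for q ≥ 3, the stabiliser of a decomposition into 5 mutually orthogonal non-degenerate 2-spaces; for q odd, of a decomposition into two totally isotropic 5-spaces; the normaliser of a degree-5 subfield K of the matrix algebra, self-adjoint with f(k v, v) = 0; for q odd, the normaliser of a degree-2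 subfield closed under adjoints but not self-adjoint; for q odd, the stabiliser of a tensor decomposition of f into an alternating form on F^2 and a symmetric form on F^5; a subfield group (|F| = |F₀|^r, r prime) whose F₀-structure carries a non-zero multiple of f; for q even, the similarity group of a non-degenerate quadratic form polarising to f — or else H lies in the residual class of the symplectic case (modulo scalars H is almost simple, with absolutely irreducible perfect socle preimage realisable over no proper subfield and fixing no non-degenerate quadratic or unitary form). -/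
theorem result {F : Type*} [Field F] [Fintype F] (H : Subgroup (Matrix.GeneralLinearGroup (Fin 5 ⊕ Fin 5) F)) (hH : Cfsg.Geo.IsMaximalIn (Cfsg.spGL 5 F) H) :
    (∃ W : Submodule F (Fin 5 ⊕ Fin 5 → F), W ≠ ⊥ ∧ Cfsg.Geo.IsTotallySingularFor (Cfsg.sympForm 5 F) W ∧ H = Cfsg.Geo.subspaceStabilizer W ⊓ Cfsg.spGL 5 F) ∨
    (∃ W : Submodule F (Fin 5 ⊕ Fin 5 → F), W ≠ ⊥ ∧ Cfsg.Geo.IsNondegenerateOn (Cfsg.sympForm 5 F) W ∧ Module.finrank F W < 5 ∧ H = Cfsg.Geo.subspaceStabilizer W ⊓ Cfsg.spGL 5 F) ∨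
    (3 ≤ Fintype.card F ∧ ∃ D : Fin 5 → Submodule F (Fin 5 ⊕ Fin 5 → F), Cfsg.Geo.IsNondegenerateMDecomposition (Cfsg.sympForm 5 F) 2 D ∧ H = Cfsg.Geo.decompositionStabilizer D ⊓ Cfsg.spGL 5 F) ∨
    (Odd (Fintype.card F) ∧ ∃ D : Fin 2 → Submodule F (Fin 5 ⊕ Fin 5 → F), Cfsg.Geo.IsMDecomposition 5 D ∧ (∀ i, Cfsg.Geo.IsTotallySingularFor (Cfsg.sympForm 5 F) (D i)) ∧ H = Cfsg.Geo.decompositionStabilizer D ⊓ Cfsg.spGL 5 F) ∨
    (∃ K : Subalgebra F (Matrix (Fin 5 ⊕ Fin 5) (Fin 5 ⊕ Fin 5) F), Cfsg.Geo.IsFieldSubalgebra 5 K ∧ Cfsg.Geo.IsSelfAdjointFor (Cfsg.sympForm 5 F) K ∧ (∀ k ∈ K, ∀ v : (Fin 5 ⊕ Fin 5 → F), (Cfsg.sympForm 5 F) (Matrix.mulVec k v) v = 0) ∧ H = Cfsg.Geo.subalgebraNormalizer K ⊓ Cfsg.spGL 5 F) ∨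
    (Odd (Fintype.card F) ∧ ∃ K : Subalgebra F (Matrix (Fin 5 ⊕ Fin 5) (Fin 5 ⊕ Fin 5) F), Cfsg.Geo.IsFieldSubalgebra 2 K ∧ Cfsg.Geo.IsAdjointClosedFor (Cfsg.sympForm 5 F) K ∧ ¬ Cfsg.Geo.IsSelfAdjointFor (Cfsg.sympForm 5 F) K ∧ H = Cfsg.Geo.subalgebraNormalizer K ⊓ Cfsg.spGL 5 F) ∨
    (Odd (Fintype.card F) ∧ ∃ (e : (Fin 5 ⊕ Fin 5) ≃ Fin 2 × Fin 5) (P : Matrix.GeneralLinearGroup (Fin 5 ⊕ Fin 5) F) (f₁ : (Fin 2 → F) → (Fin 2 → F) → F) (f₂ : (Fin 5 → F) → (Fin 5 → F) → F), Cfsg.Geo.IsSymplecticForm f₁ ∧ Cfsg.Geo.IsSymmetricForm f₂ ∧ Cfsg.Geo.IsTensorFormStructure id (Cfsg.sympForm 5 F) f₁ f₂ e P ∧ H = Cfsg.Geo.tensorProductSubgroup 2 5 e P ⊓ Cfsg.spGL 5 F) ∨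
    (∃ (F₀ : Subfield F) (r : ℕ) (P : Matrix.GeneralLinearGroup (Fin 5 ⊕ Fin 5) F) (ζ : F), r.Prime ∧ Fintype.card F = Nat.card F₀ ^ r ∧ ζ ≠ 0 ∧ Cfsg.Geo.IsFormRationalStructure (Cfsg.sympForm 5 F) F₀ ζ P ∧ H = Cfsg.Geo.subfieldSubgroup F₀ P ⊓ Cfsg.spGL 5 F) ∨
    (¬ Odd (Fintype.card F) ∧ ∃ Q : (Fin 5 ⊕ Fin 5 → F) → F, Cfsg.Geo.IsNondegenerateQuadraticForm Q ∧ (∀ u v : (Fin 5 ⊕ Fin 5 → F), QuadraticMap.polar Q u v = (Cfsg.sympForm 5 F) u v) ∧ H = Cfsg.Geo.quadSimilarityGroup Q ⊓ Cfsg.spGL 5 F) ∨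
    Cfsg.Geo.InSymplecticResidualClass H := by
  have hf := Cfsg.Agent.Transvec.sympForm_isSymplectic 5 F
  rcases Cfsg.Agent.Aschbacher.sympMaximal (by norm_num : 2 ≤ 5) hH with
    ((⟨W, h0, hW, e⟩ | ⟨W, h0, hW, hlt, e⟩ | ⟨t, k, D, hD, e⟩ |
      ⟨D, ho, hD, hts, e⟩ | ⟨F₀, r, P, ζ, hr, hc, hζ, hP, e⟩ |
      ⟨R, p, k, hk, -⟩ | ⟨Q, ho, hQ, hpol, e⟩) |
      ⟨r, K, hr, hK, hsa, halt, e⟩ | ⟨K, ho, hK, hadj, hns, e⟩ |
      ⟨n₁, n₂, eq, P, f₁, f₂, ho, hn₂, hf₁, hf₂, hstr, e⟩ | ⟨k, t, eq, P, f₁, ho, hto, ht, -⟩) | hres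
  · exact Or.inl ⟨W, h0, hW, e⟩
  · exact Or.inr <| Or.inl ⟨W, h0, hW, hlt, e⟩
  · have hev := Cfsg.Agent.Aschbacher.even_finrank_of_nondegOn hf (hD.nondegenerate ⟨0, by have := hD.decomp.two_le; omega⟩)
    rw [hD.decomp.finrank_eq] at hev
    have hc := Cfsg.Agent.Aschbacher.mdecomp_card hD.decomp
    have ht := hD.decomp.two_le
    have hk := hD.decomp.pos
    simp only [Fintype.card_sum, Fintype.card_fin] at hc
    obtain ⟨rfl, rfl⟩ : t = 5 ∧ k = 2 := by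
      obtain ⟨j, rfl⟩ := hev
      have h1 : t * j = 5 := by linarith
      rcases (Nat.dvd_prime Nat.prime_five).1 (Dvd.intro j h1) with h | h
      · omega
      · subst h; omega
    by_cases hq : 3 ≤ Fintype.card F
    · exact Or.inr <| Or.inr <| Or.inl ⟨hq, D, hD, e⟩
    · have hq2 : Fintype.card F = 2 := by
        have := Fintype.one_lt_card (α := F)
        omega
      have hev : ¬ Odd (Fintype.card F) := by rw [hq2]; decide
      obtain ⟨Q, hQ, hpol, hle⟩ := Cfsg.Agent.Aschbacher.quad_of_planes hf hq2 hD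
      refine Or.inr <| Or.inr <| Or.inr <| Or.inr <| Or.inr <| Or.inr <| Or.inr <| Or.inr <| Or.inl
        ⟨hev, Q, hQ, hpol, Cfsg.Agent.Aschbacher.eq_of_le_member (by norm_num) hH
          (e.le.trans (inf_le_inf_right _ hle)) inf_le_right ?_⟩
      exact Or.inl <| Or.inr <| Or.inr <| Or.inr <| Or.inr <| Or.inr <| Or.inr ⟨Q, hev, hQ, hpol, rfl⟩
  · exact Or.inr <| Or.inr <| Or.inr <| Or.inl ⟨ho, D, hD, hts, e⟩
  · exact Or.inr <| Or.inr <| Or.inr <| Or.inr <| Or.inr <| Or.inr <| Or.inr <| Or.inl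
      ⟨F₀, r, P, ζ, hr, hc, hζ, hP, e⟩
  · exfalso
    rcases Nat.lt_or_ge k 4 with h | h
    · interval_cases k <;> omega
    · have : 2 ^ 4 ≤ 2 ^ k := Nat.pow_le_pow_right (by norm_num) h
      omega
  · exact Or.inr <| Or.inr <| Or.inr <| Or.inr <| Or.inr <| Or.inr <| Or.inr <| Or.inr <| Or.inl
      ⟨ho, Q, hQ, hpol, e⟩
  · have hd := Cfsg.Agent.Aschbacher.two_mul_dvd_of_selfAdjoint hf hK hsa halt
    simp only [Fintype.card_sum, Fintype.card_fin] at hd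
    obtain rfl : r = 5 := by
      rcases (Nat.dvd_prime Nat.prime_five).1 ((Nat.mul_dvd_mul_iff_left (by norm_num : 0 < 2)).1 (show 2 * r ∣ 2 * 5 from hd)) with h | h
      · exact absurd h hr.one_lt.ne'
      · exact h
    exact Or.inr <| Or.inr <| Or.inr <| Or.inr <| Or.inl ⟨K, hK, hsa, halt, e⟩
  · exact Or.inr <| Or.inr <| Or.inr <| Or.inr <| Or.inr <| Or.inl ⟨ho, K, hK, hadj, hns, e⟩
  · have hev := Cfsg.Agent.Aschbacher.even_card_of_symplectic hf₁
    have hc := Fintype.card_congr eq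
    simp only [Fintype.card_sum, Fintype.card_prod, Fintype.card_fin] at hc hev
    obtain ⟨rfl, rfl⟩ : n₁ = 2 ∧ n₂ = 5 := by
      obtain ⟨j, rfl⟩ := hev
      have h1 : n₂ * j = 5 := by linarith
      rcases (Nat.dvd_prime Nat.prime_five).1 (Dvd.intro j h1) with h | h
      · omega
      · subst h; omega
    exact Or.inr <| Or.inr <| Or.inr <| Or.inr <| Or.inr <| Or.inr <| Or.inl
      ⟨ho, eq, P, f₁, f₂, hf₁, hf₂, hstr, e⟩
  · exfalso
    have hc := Fintype.card_congr eq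
    simp only [Fintype.card_sum, Fintype.card_fun, Fintype.card_fin] at hc
    rcases Nat.lt_or_ge k 3 with h | h
    · interval_cases k
      · rw [zero_pow (by omega)] at hc; omega
      · rw [one_pow] at hc; omega
      · rcases Nat.lt_or_ge t 4 with h | h
        · interval_cases t; omega
        · have : 2 ^ 4 ≤ 2 ^ t := Nat.pow_le_pow_right (by norm_num) h
          omega
    · have h27 : 3 ^ 3 ≤ k ^ t := (Nat.pow_le_pow_left h 3).trans (Nat.pow_le_pow_right (by omega) ht)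
      omega
  · exact Or.inr <| Or.inr <| Or.inr <| Or.inr <| Or.inr <| Or.inr <| Or.inr <| Or.inr <| Or.inr hres

end Cfsg.Agent.S5844
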