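import Cfsg.Statements.S5847
import Cfsg.Agent.Lib.Transvec.OrthNondegMax
import Cfsg.Agent.Lib.OrthEvenMax.Quintic
import Cfsg.Agent.Lib.OrthEvenMax.Tens
import Cfsg.Agent.Lib.OrthEvenMax.PlusSub

set_option autoImplicit false
open Cfsg

namespace Cfsg.Agent.S5847

/-- Every maximal subgroup of Ω_10^+(q) is of one of the listed geometric types or lies in the residual class. Let F be a finite field with q elements (characteristic p), Q a non-degenerate quadratic form on F^10 of plus type (Witt index 5: some totally singular 5-space), Ω the commutator subgroup of its isometry group, and H a maximal subgroup of Ω (inside GL_10(F)). Then H is the intersection with Ω of one of: the stabiliser of a non-zero totally singular subspace of dimension ≠ 4; for q odd, the stabiliser of a non-degenerate subspace of odd dimension ≠ 5; the stabiliser of a non-degenerate 2-space of minus type; for q ≥ 4, the stabiliser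 of a non-degenerate 2-space of plus type; the stabiliser of a non-degenerate 4-space; for q even, the stabiliser of the span of a non-singular vector; for q = p prime with p ≡ 1 mod 4, the stabiliser of a decomposition into 10 pairwise orthogonal, pairwise isometric non-degenerate 1-spaces; for q ≥ 7, the stabiliser of a decomposition into 5 pairwise orthogonal, pairwise isometric non-degenerate 2-spaces; for q ≡ 1 mod 4, the stabiliser of a decomposition into 2 pairwise orthogonal, pairwise isometric non-degenerate 5-spaces; for q ≡ 3 mod 4, the stabiliser of a decomposition into two orthogonal, non-isometric non-degenerate 5-spaces; for q odd, the normaliser of a degree-2 subfield of the matrix algebra, self-adjoint for the polar form; a subfield group (|F| = |F₀|^r, r prime) whose F₀-structure carries a non-zero multiple of Q — or else H lies in the residual class of the orthogonal case (modulo scalars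 H is almost simple, with absolutely irreducible perfect socle preimage realisable over no proper subfield and fixing no non-degenerate unitary form). -/
theorem result {F : Type*} [Field F] [Fintype F] (Q : (Fin 10 → F) → F) (hQ : Cfsg.Geo.IsNondegenerateQuadraticForm Q) (hplus : Cfsg.Geo.IsPlusTypeOn Q ⊤) (H : Subgroup (Matrix.GeneralLinearGroup (Fin 10) F)) (hH : Cfsg.Geo.IsMaximalIn (Cfsg.Geo.omegaGL Q) H) :
    (∃ W : Submodule F (Fin 10 → F), W ≠ ⊥ ∧ Cfsg.Geo.IsTotallySingularQuad Q W ∧ Module.finrank F W ≠ 4 ∧ H = Cfsg.Geo.subspaceStabilizer W ⊓ Cfsg.Geo.omegaGL Q) ∨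
    (Odd (Fintype.card F) ∧ ∃ W : Submodule F (Fin 10 → F), W ≠ ⊥ ∧ W ≠ ⊤ ∧ Odd (Module.finrank F W) ∧ 2 * Module.finrank F W ≠ 10 ∧ Cfsg.Geo.IsNondegenerateOn (QuadraticMap.polar Q) W ∧ H = Cfsg.Geo.subspaceStabilizer W ⊓ Cfsg.Geo.omegaGL Q) ∨
    (∃ W : Submodule F (Fin 10 → F), Module.finrank F W = 2 ∧ Cfsg.Geo.IsNondegenerateOn (QuadraticMap.polar Q) W ∧ ¬ Cfsg.Geo.IsPlusTypeOn Q W ∧ H = Cfsg.Geo.subspaceStabilizer W ⊓ Cfsg.Geo.omegaGL Q) ∨
    (4 ≤ Fintype.card F ∧ ∃ W : Submodule F (Fin 10 → F), Module.finrank F W = 2 ∧ Cfsg.Geo.IsNondegenerateOn (QuadraticMap.polar Q) W ∧ Cfsg.Geo.IsPlusTypeOn Q W ∧ H = Cfsg.Geo.subspaceStabilizer W ⊓ Cfsg.Geo.omegaGL Q) ∨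
    (∃ W : Submodule F (Fin 10 → F), Module.finrank F W = 4 ∧ Cfsg.Geo.IsNondegenerateOn (QuadraticMap.polar Q) W ∧ H = Cfsg.Geo.subspaceStabilizer W ⊓ Cfsg.Geo.omegaGL Q) ∨
    (¬ Odd (Fintype.card F) ∧ ∃ v : (Fin 10 → F), Q v ≠ 0 ∧ H = Cfsg.Geo.subspaceStabilizer (Submodule.span F {v}) ⊓ Cfsg.Geo.omegaGL Q) ∨
    ((∃ p : ℕ, p.Prime ∧ Fintype.card F = p ∧ (p % 4 = 1)) ∧ ∃ D : Fin 10 → Submodule F (Fin 10 → F), Cfsg.Geo.IsOrthogonalMDecomposition Q 1 D ∧ H = Cfsg.Geo.decompositionStabilizer D ⊓ Cfsg.Geo.omegaGL Q) ∨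
    (7 ≤ Fintype.card F ∧ ∃ D : Fin 5 → Submodule F (Fin 10 → F), Cfsg.Geo.IsOrthogonalMDecomposition Q 2 D ∧ H = Cfsg.Geo.decompositionStabilizer D ⊓ Cfsg.Geo.omegaGL Q) ∨
    (Fintype.card F % 4 = 1 ∧ ∃ D : Fin 2 → Submodule F (Fin 10 → F), Cfsg.Geo.IsOrthogonalMDecomposition Q 5 D ∧ H = Cfsg.Geo.decompositionStabilizer D ⊓ Cfsg.Geo.omegaGL Q) ∨
    (Fintype.card F % 4 = 3 ∧ ∃ D : Fin 2 → Submodule F (Fin 10 → F), Cfsg.Geo.IsNondegenerateMDecomposition (QuadraticMap.polar Q) 5 D ∧ ¬ Cfsg.Geo.AreIsometricFor Q (D 0) (D 1) ∧ H = Cfsg.Geo.decompositionStabilizer D ⊓ Cfsg.Geo.omegaGL Q) ∨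
    (Odd (Fintype.card F) ∧ ∃ K : Subalgebra F (Matrix (Fin 10) (Fin 10) F), Cfsg.Geo.IsFieldSubalgebra 2 K ∧ Cfsg.Geo.IsSelfAdjointFor (QuadraticMap.polar Q) K ∧ H = Cfsg.Geo.subalgebraNormalizer K ⊓ Cfsg.Geo.omegaGL Q) ∨
    (∃ (F₀ : Subfield F) (r : ℕ) (P : Matrix.GeneralLinearGroup (Fin 10) F) (ζ : F), r.Prime ∧ Fintype.card F = Nat.card F₀ ^ r ∧ ζ ≠ 0 ∧ Cfsg.Geo.IsQuadFormRationalStructure (fun v : Fin 10 → F => ζ * Q v) F₀ P ∧ H = Cfsg.Geo.subfieldSubgroup F₀ P ⊓ Cfsg.Geo.omegaGL Q) ∨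
    Cfsg.Geo.InOrthogonalResidualClass H := by
  classical
  let G : Prop :=
    (∃ W : Submodule F (Fin 10 → F), W ≠ ⊥ ∧ Cfsg.Geo.IsTotallySingularQuad Q W ∧ Module.finrank F W ≠ 4 ∧ H = Cfsg.Geo.subspaceStabilizer W ⊓ Cfsg.Geo.omegaGL Q) ∨
    (Odd (Fintype.card F) ∧ ∃ W : Submodule F (Fin 10 → F), W ≠ ⊥ ∧ W ≠ ⊤ ∧ Odd (Module.finrank F W) ∧ 2 * Module.finrank F W ≠ 10 ∧ Cfsg.Geo.IsNondegenerateOn (QuadraticMap.polar Q) W ∧ H = Cfsg.Geo.subspaceStabilizer W ⊓ Cfsg.Geo.omegaGL Q) ∨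
    (∃ W : Submodule F (Fin 10 → F), Module.finrank F W = 2 ∧ Cfsg.Geo.IsNondegenerateOn (QuadraticMap.polar Q) W ∧ ¬ Cfsg.Geo.IsPlusTypeOn Q W ∧ H = Cfsg.Geo.subspaceStabilizer W ⊓ Cfsg.Geo.omegaGL Q) ∨
    (4 ≤ Fintype.card F ∧ ∃ W : Submodule F (Fin 10 → F), Module.finrank F W = 2 ∧ Cfsg.Geo.IsNondegenerateOn (QuadraticMap.polar Q) W ∧ Cfsg.Geo.IsPlusTypeOn Q W ∧ H = Cfsg.Geo.subspaceStabilizer W ⊓ Cfsg.Geo.omegaGL Q) ∨
    (∃ W : Submodule F (Fin 10 → F), Module.finrank F W = 4 ∧ Cfsg.Geo.IsNondegenerateOn (QuadraticMap.polar Q) W ∧ H = Cfsg.Geo.subspaceStabilizer W ⊓ Cfsg.Geo.omegaGL Q) ∨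
    (¬ Odd (Fintype.card F) ∧ ∃ v : (Fin 10 → F), Q v ≠ 0 ∧ H = Cfsg.Geo.subspaceStabilizer (Submodule.span F {v}) ⊓ Cfsg.Geo.omegaGL Q) ∨
    ((∃ p : ℕ, p.Prime ∧ Fintype.card F = p ∧ (p % 4 = 1)) ∧ ∃ D : Fin 10 → Submodule F (Fin 10 → F), Cfsg.Geo.IsOrthogonalMDecomposition Q 1 D ∧ H = Cfsg.Geo.decompositionStabilizer D ⊓ Cfsg.Geo.omegaGL Q) ∨
    (7 ≤ Fintype.card F ∧ ∃ D : Fin 5 → Submodule F (Fin 10 → F), Cfsg.Geo.IsOrthogonalMDecomposition Q 2 D ∧ H = Cfsg.Geo.decompositionStabilizer D ⊓ Cfsg.Geo.omegaGL Q) ∨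
    (Fintype.card F % 4 = 1 ∧ ∃ D : Fin 2 → Submodule F (Fin 10 → F), Cfsg.Geo.IsOrthogonalMDecomposition Q 5 D ∧ H = Cfsg.Geo.decompositionStabilizer D ⊓ Cfsg.Geo.omegaGL Q) ∨
    (Fintype.card F % 4 = 3 ∧ ∃ D : Fin 2 → Submodule F (Fin 10 → F), Cfsg.Geo.IsNondegenerateMDecomposition (QuadraticMap.polar Q) 5 D ∧ ¬ Cfsg.Geo.AreIsometricFor Q (D 0) (D 1) ∧ H = Cfsg.Geo.decompositionStabilizer D ⊓ Cfsg.Geo.omegaGL Q) ∨
    (Odd (Fintype.card F) ∧ ∃ K : Subalgebra F (Matrix (Fin 10) (Fin 10) F), Cfsg.Geo.IsFieldSubalgebra 2 K ∧ Cfsg.Geo.IsSelfAdjointFor (QuadraticMap.polar Q) K ∧ H = Cfsg.Geo.subalgebraNormalizer K ⊓ Cfsg.Geo.omegaGL Q) ∨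
    (∃ (F₀ : Subfield F) (r : ℕ) (P : Matrix.GeneralLinearGroup (Fin 10) F) (ζ : F), r.Prime ∧ Fintype.card F = Nat.card F₀ ^ r ∧ ζ ≠ 0 ∧ Cfsg.Geo.IsQuadFormRationalStructure (fun v : Fin 10 → F => ζ * Q v) F₀ P ∧ H = Cfsg.Geo.subfieldSubgroup F₀ P ⊓ Cfsg.Geo.omegaGL Q) ∨
    Cfsg.Geo.InOrthogonalResidualClass H
  show G
  have o1 : (∃ W : Submodule F (Fin 10 → F), W ≠ ⊥ ∧ Cfsg.Geo.IsTotallySingularQuad Q W ∧ Module.finrank F W ≠ 4 ∧ H = Cfsg.Geo.subspaceStabilizer W ⊓ Cfsg.Geo.omegaGL Q) → G := fun h => (Or.inl h)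
  have o2 : (Odd (Fintype.card F) ∧ ∃ W : Submodule F (Fin 10 → F), W ≠ ⊥ ∧ W ≠ ⊤ ∧ Odd (Module.finrank F W) ∧ 2 * Module.finrank F W ≠ 10 ∧ Cfsg.Geo.IsNondegenerateOn (QuadraticMap.polar Q) W ∧ H = Cfsg.Geo.subspaceStabilizer W ⊓ Cfsg.Geo.omegaGL Q) → G := fun h => (Or.inr (Or.inl h))
  have o3 : (∃ W : Submodule F (Fin 10 → F), Module.finrank F W = 2 ∧ Cfsg.Geo.IsNondegenerateOn (QuadraticMap.polar Q) W ∧ ¬ Cfsg.Geo.IsPlusTypeOn Q W ∧ H = Cfsg.Geo.subspaceStabilizer W ⊓ Cfsg.Geo.omegaGL Q) → G := fun h => (Or.inr (Or.inr (Or.inl h)))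
  have o4 : (4 ≤ Fintype.card F ∧ ∃ W : Submodule F (Fin 10 → F), Module.finrank F W = 2 ∧ Cfsg.Geo.IsNondegenerateOn (QuadraticMap.polar Q) W ∧ Cfsg.Geo.IsPlusTypeOn Q W ∧ H = Cfsg.Geo.subspaceStabilizer W ⊓ Cfsg.Geo.omegaGL Q) → G := fun h => (Or.inr (Or.inr (Or.inr (Or.inl h))))
  have o5 : (∃ W : Submodule F (Fin 10 → F), Module.finrank F W = 4 ∧ Cfsg.Geo.IsNondegenerateOn (QuadraticMap.polar Q) W ∧ H = Cfsg.Geo.subspaceStabilizer W ⊓ Cfsg.Geo.omegaGL Q) → G := fun h => (Or.inr (Or.inr (Or.inr (Or.inr (Or.inl h)))))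
  have o6 : (¬ Odd (Fintype.card F) ∧ ∃ v : (Fin 10 → F), Q v ≠ 0 ∧ H = Cfsg.Geo.subspaceStabilizer (Submodule.span F {v}) ⊓ Cfsg.Geo.omegaGL Q) → G := fun h => (Or.inr (Or.inr (Or.inr (Or.inr (Or.inr (Or.inl h))))))
  have o7 : ((∃ p : ℕ, p.Prime ∧ Fintype.card F = p ∧ (p % 4 = 1)) ∧ ∃ D : Fin 10 → Submodule F (Fin 10 → F), Cfsg.Geo.IsOrthogonalMDecomposition Q 1 D ∧ H = Cfsg.Geo.decompositionStabilizer D ⊓ Cfsg.Geo.omegaGL Q) → G := fun h => (Or.inr (Or.inr (Or.inr (Or.inr (Or.inr (Or.inr (Or.inl h)))))))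
  have o8 : (7 ≤ Fintype.card F ∧ ∃ D : Fin 5 → Submodule F (Fin 10 → F), Cfsg.Geo.IsOrthogonalMDecomposition Q 2 D ∧ H = Cfsg.Geo.decompositionStabilizer D ⊓ Cfsg.Geo.omegaGL Q) → G := fun h => (Or.inr (Or.inr (Or.inr (Or.inr (Or.inr (Or.inr (Or.inr (Or.inl h))))))))
  have o9 : (Fintype.card F % 4 = 1 ∧ ∃ D : Fin 2 → Submodule F (Fin 10 → F), Cfsg.Geo.IsOrthogonalMDecomposition Q 5 D ∧ H = Cfsg.Geo.decompositionStabilizer D ⊓ Cfsg.Geo.omegaGL Q) → G := fun h => (Or.inr (Or.inr (Or.inr (Or.inr (Or.inr (Or.inr (Or.inr (Or.inr (Or.inl h)))))))))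
  have o10 : (Fintype.card F % 4 = 3 ∧ ∃ D : Fin 2 → Submodule F (Fin 10 → F), Cfsg.Geo.IsNondegenerateMDecomposition (QuadraticMap.polar Q) 5 D ∧ ¬ Cfsg.Geo.AreIsometricFor Q (D 0) (D 1) ∧ H = Cfsg.Geo.decompositionStabilizer D ⊓ Cfsg.Geo.omegaGL Q) → G := fun h => (Or.inr (Or.inr (Or.inr (Or.inr (Or.inr (Or.inr (Or.inr (Or.inr (Or.inr (Or.inl h))))))))))
  have o11 : (Odd (Fintype.card F) ∧ ∃ K : Subalgebra F (Matrix (Fin 10) (Fin 10) F), Cfsg.Geo.IsFieldSubalgebra 2 K ∧ Cfsg.Geo.IsSelfAdjointFor (QuadraticMap.polar Q) K ∧ H = Cfsg.Geo.subalgebraNormalizer K ⊓ Cfsg.Geo.omegaGL Q) → G := fun h => (Or.inr (Or.inr (Or.inr (Or.inr (Or.inr (Or.inr (Or.inr (Or.inr (Or.inr (Or.inr (Or.inl h)))))))))))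
  have o12 : (∃ (F₀ : Subfield F) (r : ℕ) (P : Matrix.GeneralLinearGroup (Fin 10) F) (ζ : F), r.Prime ∧ Fintype.card F = Nat.card F₀ ^ r ∧ ζ ≠ 0 ∧ Cfsg.Geo.IsQuadFormRationalStructure (fun v : Fin 10 → F => ζ * Q v) F₀ P ∧ H = Cfsg.Geo.subfieldSubgroup F₀ P ⊓ Cfsg.Geo.omegaGL Q) → G := fun h => (Or.inr (Or.inr (Or.inr (Or.inr (Or.inr (Or.inr (Or.inr (Or.inr (Or.inr (Or.inr (Or.inr (Or.inl h))))))))))))
  have o13 : (Cfsg.Geo.InOrthogonalResidualClass H) → G := fun h => (Or.inr (Or.inr (Or.inr (Or.inr (Or.inr (Or.inr (Or.inr (Or.inr (Or.inr (Or.inr (Or.inr (Or.inr h))))))))))))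
  have hn : 5 ≤ Fintype.card (Fin 10) := by simp
  have hc : Fintype.card (Fin 10) = 10 := by simp
  have hiso : H ≤ isometryGroup F Q := hH.1.le.trans (Agent.Transvec.Orth.omega_le_isometry hQ)
  have hsq : IsSquare (-1 : F) ↔ Fintype.card F % 4 ≠ 3 := FiniteField.isSquare_neg_one_iff
  have opt_halves : ∀ W : Submodule F (Fin 10 → F), Agent.Transvec.Orth.Nondeg Q W → Module.finrank F W = 5 →
      Odd (Fintype.card F) → H ≤ Geo.subspaceStabilizer W → G := by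
    intro W hW hd ho hle
    obtain ⟨hD, hD', hst⟩ := Agent.OrthEvenMax.halves_decomp hQ hW (by norm_num) hd (by simp)
    have hkey := Agent.OrthEvenMax.halves_five hQ (Agent.OrthEvenMax.odd_card_iff.1 ho) hc hW hd
    have heq := Agent.OrthEvenMax.eq_inf hQ hn hH (fun g hg => hst g (hiso hg) (hle hg))
      (Agent.OrthEvenMax.not_allSiegel_decomposition hQ hD (by simp))
    have hm : Fintype.card F % 4 = 1 ∨ Fintype.card F % 4 = 3 := by obtain ⟨j, hj⟩ := ho; omega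
    by_cases hi : Geo.AreIsometricFor Q W (Agent.Transvec.Orth.orth hQ W)
    · exact o9 ⟨hm.resolve_right fun h3 => hsq.1 ((hkey.2 hi).1 hplus) h3, _, hD' hi, heq⟩
    · exact o10 ⟨not_not.1 fun h3 => hi (hkey.1 (iff_of_true hplus (hsq.2 h3))), _, hD, hi, heq⟩
  have opt_lines : Odd (Fintype.card F) → (Fintype.card F).Prime → ∀ D : Fin 10 → Submodule F (Fin 10 → F),
      Geo.IsOrthogonalMDecomposition Q 1 D → H ≤ Geo.decompositionStabilizer D → G := fun ho hp D hD hle =>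
    o7 ⟨⟨_, hp, rfl, by
      have := hsq.1 (Agent.OrthEvenMax.lines_square hQ hplus (Agent.OrthEvenMax.odd_card_iff.1 ho) hc hD rfl rfl)
      obtain ⟨j, hj⟩ := ho; omega⟩, D, hD, Agent.OrthEvenMax.eq_inf hQ hn hH hle
      (Agent.OrthEvenMax.not_allSiegel_decomposition hQ hD.decomp (by simp))⟩
  have opt_sub : ∀ (F₀ : Subfield F) (r : ℕ) (P : Matrix.GeneralLinearGroup (Fin 10) F) (ζ : F), r.Prime →
      Fintype.card F = Nat.card F₀ ^ r → ζ ≠ 0 →
      Geo.IsQuadFormRationalStructure (fun v : Fin 10 → F => ζ * Q v) F₀ P → H ≤ Geo.subfieldSubgroup F₀ P → G :=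
    fun F₀ r P ζ hr hcd hζ hP hle => o12 ⟨F₀, r, P, ζ, hr, hcd, hζ, hP,
      Agent.OrthEvenMax.eq_inf_subfield hQ hn hH hr hcd hle⟩
  have opt_unit : ∀ K : Subalgebra F (Matrix (Fin 10) (Fin 10) F), Geo.ActsIrreducibly (Geo.matrixSet H) →
      Geo.IsFieldSubalgebra 2 K → Geo.IsAdjointClosedFor (QuadraticMap.polar Q) K →
      ¬ Geo.IsSelfAdjointFor (QuadraticMap.polar Q) K → H ≤ Geo.subalgebraNormalizer K → G :=
    fun K hirr hK hadj hns hle => (Agent.OrthEvenMax.no_unitary_plus hQ hplus hc hK hadj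
      (Agent.OrthEvenMax.norm_of_unitary hQ hirr hiso (by simp) hK hadj hns hle)).elim
  have subsp : Agent.OrthEvenMax.SubspaceMember Q H → G := by
    rintro (⟨W, h0, hW, he⟩ | ⟨ho, W, h0, h1, hW1, hd, hW, he⟩ | h | h | ⟨W, h4, hev, hd, hW, he⟩ | h)
    · by_cases h4 : Module.finrank F W = 4
      · obtain ⟨U, hWU, hU, hUd⟩ := Agent.OrthEvenMax.exists_max_over hQ hplus hW
        have hU5 : Module.finrank F U = 5 := by rw [Fintype.card_fin] at hUd; omega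
        refine o1 ⟨U, fun h => by rw [h, finrank_bot] at hU5; omega, hU, by omega,
          Agent.OrthEvenMax.eq_inf_subspace hQ hn hH (fun h => by rw [h, finrank_bot] at hU5; omega)
            (fun h => by rw [h, finrank_top, Module.finrank_pi, Fintype.card_fin] at hU5; omega) fun g hg => ?_⟩
        exact Agent.OrthEvenMax.fix_over hQ hn hU hUd hWU (by omega) (hH.1.le hg) (he.le hg).1
      · exact o1 ⟨W, h0, hW, h4, he⟩
    · by_cases h5 : Module.finrank F W = 5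
      · exact opt_halves W (Agent.Transvec.Orth.nondeg_of hW) h5 ho (he.le.trans inf_le_left)
      · exact o2 ⟨ho, W, h0, h1, hW1, by omega, hW, he⟩
    · exact o3 h
    · exact o4 h
    · rw [Fintype.card_fin] at hd
      exact o5 ⟨W, by obtain ⟨j, hj⟩ := hev; omega, hW, he⟩
    · exact o6 h
  cases Agent.OrthEvenMax.evenStructure hQ hiso (Or.inr (Or.inl (Fintype.card_fin 10))) with
  | ts h0 hW h => exact subsp (Agent.OrthEvenMax.subspace_ts hQ hn hH h0 hW h)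
  | nondeg h0 h1 hW hd h => exact subsp (Agent.OrthEvenMax.subspace_nondeg hQ hn hH h0 h1 hW hd h)
  | point h2 hv h => exact subsp (Agent.OrthEvenMax.subspace_point hQ hn hH h2 hv h)
  | ndecomp hirr hD htr htk h =>
    rename_i t k D
    have htk' := htk
    rw [Fintype.card_fin] at htk'
    have ht := hD.decomp.decomp.two_le
    have i₀ : Fin t := ⟨0, by omega⟩
    have hodd : Odd k → Odd (Fintype.card F) := fun hk => Agent.OrthEvenMax.odd_card_iff.2 fun h2 => by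
      have := Agent.OrthEvenMax.even_finrank_nondeg hQ h2 (hD.decomp.nondegenerate i₀)
      rw [hD.decomp.decomp.finrank_eq] at this
      exact Nat.not_even_iff_odd.2 hk this
    obtain ⟨rfl, rfl⟩ | ⟨rfl, rfl⟩ | ⟨rfl, rfl⟩ : (t = 2 ∧ k = 5) ∨ (t = 5 ∧ k = 2) ∨ (t = 10 ∧ k = 1) := by
      have hk := hD.decomp.decomp.pos
      have : t ≤ 10 := Nat.le_of_dvd (by norm_num) ⟨k, htk'.symm⟩
      interval_cases t <;> omega
    · have ho := hodd (by decide)
      have hW := Agent.OrthEvenMax.nondeg_block hQ hD 0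
      have hi : Geo.AreIsometricFor Q (D 0) (Agent.Transvec.Orth.orth hQ (D 0)) :=
        Agent.OrthEvenMax.half_eq_orth hQ hD (by simp) ▸ hD.isometric 0 1
      have hkey := Agent.OrthEvenMax.halves_five hQ (Agent.OrthEvenMax.odd_card_iff.1 ho) hc hW
        (hD.decomp.decomp.finrank_eq 0)
      have hm : Fintype.card F % 4 = 1 ∨ Fintype.card F % 4 = 3 := by obtain ⟨j, hj⟩ := ho; omega
      exact o9 ⟨hm.resolve_right fun h3 => hsq.1 ((hkey.2 hi).1 hplus) h3, D, hD, Agent.OrthEvenMax.eq_inf hQ hn hH h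
        (Agent.OrthEvenMax.not_allSiegel_decomposition hQ hD.decomp (by simp))⟩
    · have hp := Agent.OrthEvenMax.planes_plus hQ hplus hc hD rfl rfl (Agent.OrthEvenMax.blocks_trans hiso htr) i₀
      by_cases hq7 : 7 ≤ Fintype.card F
      · exact o8 ⟨hq7, D, hD, Agent.OrthEvenMax.eq_inf hQ hn hH h
          (Agent.OrthEvenMax.not_allSiegel_decomposition hQ hD.decomp (by simp))⟩
      have hne6 : Fintype.card F ≠ 6 := fun h6 => by
        obtain ⟨p, n, hp', hcd⟩ : ∃ (p : ℕ) (n : ℕ+), p.Prime ∧ Fintype.card F = p ^ (n : ℕ) := by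
          obtain ⟨p, hchar⟩ := CharP.exists F
          obtain ⟨n, hp', hcd⟩ := FiniteField.card F p
          exact ⟨p, n, hp', hcd⟩
        rw [h6] at hcd
        have h2 : 2 ∣ p ^ (n : ℕ) := ⟨3, by omega⟩
        have h3 : 3 ∣ p ^ (n : ℕ) := ⟨2, by omega⟩
        have e2 := (Nat.prime_dvd_prime_iff_eq Nat.prime_two hp').1 (Nat.prime_two.dvd_of_dvd_pow h2)
        have e3 := (Nat.prime_dvd_prime_iff_eq Nat.prime_three hp').1 (Nat.prime_three.dvd_of_dvd_pow h3)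
        omega
      obtain hq | hq | hq : Fintype.card F ≤ 3 ∨ Fintype.card F = 4 ∨ Fintype.card F = 5 := by omega
      · exact (Agent.OrthEvenMax.planes_reducible hQ hiso hq hD rfl htk htr h hirr i₀ hp).elim
      · obtain ⟨F₁, P, hcd, hP, hle⟩ := Agent.OrthEvenMax.planes_four hQ hiso hq hD rfl htk htr h i₀ hp
        exact opt_sub F₁ 2 P 1 Nat.prime_two hcd one_ne_zero hP hle
      · obtain ⟨D', hD', hle⟩ := Agent.OrthEvenMax.planes_five hQ hiso hq hD rfl htr h i₀ hp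
        exact opt_lines (by rw [hq]; decide) (by rw [hq]; norm_num) D' hD' hle
    · have ho := hodd (by decide)
      by_cases hpr : (Fintype.card F).Prime
      · exact opt_lines ho hpr D hD h
      obtain ⟨F₁, r, P, ζ, hr, hcd, hζ, hP, hle⟩ :=
        Agent.OrthEvenMax.lines_subfield hQ hiso hD rfl htk htr h i₀ hpr
      exact opt_sub F₁ r P ζ hr hcd hζ hP hle
  | pair hirr hk hD hts h =>
    rename_i k D
    rw [Fintype.card_fin] at hk
    exfalso
    have hdis : D 0 ⊓ D 1 = ⊥ := disjoint_iff.1 (hD.indep.pairwiseDisjoint (by decide))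
    have hd0 : Module.finrank F (D 0) = 5 := by rw [hD.finrank_eq]; omega
    have hinv : ∀ s ∈ Geo.matrixSet H, (D 0).map (Matrix.toLin' s) ≤ D 0 := by
      rintro _ ⟨g, hg, rfl⟩
      obtain ⟨τ, hτ⟩ := h hg
      rcases (show τ 0 = 0 ∨ τ 0 = 1 by omega) with e | e
      · exact (hτ 0).le.trans (le_of_eq (by rw [e]))
      · exact absurd ((hτ 0).trans (by rw [e]))
          (Agent.OrthEvenMax.not_swap hQ hn (hts 0) (by rw [hd0]; simp) (by rw [hd0]; decide) hdis (hH.1.le hg))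
    rcases hirr _ hinv with e | e
    · rw [e, finrank_bot] at hd0; omega
    · rw [e, finrank_top, Module.finrank_pi, Fintype.card_fin] at hd0; omega
  | field hirr hr hdvd hK hadj h =>
    rename_i r K
    rw [Fintype.card_fin] at hdvd
    obtain rfl | rfl : r = 2 ∨ r = 5 := by
      have := Nat.le_of_dvd (by norm_num) hdvd
      interval_cases r <;> first | omega | exact absurd hr (by norm_num)
    · by_cases hsa : Geo.IsSelfAdjointFor (QuadraticMap.polar Q) K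
      · exact o11 ⟨Agent.OrthEvenMax.odd_card_iff.2 (Agent.OrthEvenMax.ne_two_of_selfAdjoint hQ (by simp) hK hsa),
          K, hK, hsa, Agent.OrthEvenMax.eq_inf_field hQ hn hH le_rfl hK h⟩
      · exact opt_unit K hirr hK hadj hsa h
    · obtain ⟨K₂, hK₂, hadj₂, hns₂, hle₂⟩ := Agent.OrthEvenMax.quintic hQ hirr hH.1.le hc hK hadj h
      exact opt_unit K₂ hirr hK₂ hadj₂ hns₂ hle₂
  | symTensor hirr h2 ha hb hs hA hB hN =>
    rename_i a b eq P A B
    have hab : a * b = 10 := by simpa using (Fintype.card_congr eq).symm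
    exfalso
    have : a ≤ 3 := by nlinarith
    interval_cases a
    omega
  | altTensor hirr ha hb hae hbe hs hA hB hpure hN =>
    rename_i a b eq P A B
    have hab : a * b = 10 := by simpa using (Fintype.card_congr eq).symm
    exfalso
    have := mul_dvd_mul (even_iff_two_dvd.1 hae) (even_iff_two_dvd.1 hbe)
    rw [hab] at this
    norm_num at this
  | plusEight h8 hp => simp at h8
  | subfield hr hcard hζ hrat h => exact opt_sub _ _ _ _ hr hcard hζ hrat h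
  | residual h => exact o13 h

end Cfsg.Agent.S5847
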