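import Cfsg.Statements.S5853
import Cfsg.Agent.Lib.Aschbacher.LinMax

set_option autoImplicit false
open Cfsg

namespace Cfsg.Agent.S5853

/-- Every maximal subgroup of SL_11(q) is of one of the listed geometric types or lies in the residual class. Let F be a finite field with q elements (p its characteristic) and H a maximal subgroup of SL_11(F) (inside GL_11(F)). Then H is the intersection with SL_11(F) of one of: the stabiliser of a proper non-zero subspace; for q ≥ 5, the stabiliser of a decomposition into 11 independent 1-spaces; the normaliser of a degree-11 subfield of the matrix algebra; a subfield group for a subfield F₀ with |F| = |F₀|^r, r prime; for q = p prime with p ≡ 1 mod 11, or q = p⁵ with p ≡ 3, 4, 5 or 9 mod 11, the normaliser of an absolutely irreducible 11-subgroup R of exponent 11 and order 11^(1+2m) with centre of order 11, all of whose characteristic abelian subgroups are cyclic, F being the smallest field of characteristic p containing the eleventh roots of unity (here R is extraspecial of order 11³); for q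 odd, the similarity group of a non-degenerate quadratic form; the similarity group of a non-degenerate unitary form — or else H lies in the residual class of the linear case (modulo scalars H is almost simple, with absolutely irreducible perfect socle preimage realisable over no proper subfield and fixing no non-degenerate quadratic, symplectic or unitary form). -/
theorem result {F : Type*} [Field F] [Fintype F] (H : Subgroup (Matrix.GeneralLinearGroup (Fin 11) F)) (hH : Cfsg.Geo.IsMaximalIn (Cfsg.Geo.specialLinear (Fin 11) F) H) :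
    (∃ W : Submodule F (Fin 11 → F), W ≠ ⊥ ∧ W ≠ ⊤ ∧ H = Cfsg.Geo.subspaceStabilizer W ⊓ Cfsg.Geo.specialLinear (Fin 11) F) ∨
    (5 ≤ Fintype.card F ∧ ∃ D : Fin 11 → Submodule F (Fin 11 → F), Cfsg.Geo.IsMDecomposition 1 D ∧ H = Cfsg.Geo.decompositionStabilizer D ⊓ Cfsg.Geo.specialLinear (Fin 11) F) ∨
    (∃ K : Subalgebra F (Matrix (Fin 11) (Fin 11) F), Cfsg.Geo.IsFieldSubalgebra 11 K ∧ H = Cfsg.Geo.subalgebraNormalizer K ⊓ Cfsg.Geo.specialLinear (Fin 11) F) ∨
    (∃ (F₀ : Subfield F) (r : ℕ) (P : Matrix.GeneralLinearGroup (Fin 11) F), r.Prime ∧ Fintype.card F = Nat.card F₀ ^ r ∧ H = Cfsg.Geo.subfieldSubgroup F₀ P ⊓ Cfsg.Geo.specialLinear (Fin 11) F) ∨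
    ((∃ p : ℕ, p.Prime ∧ CharP F p ∧ ((Fintype.card F = p ∧ p % 11 = 1) ∨ (Fintype.card F = p ^ 5 ∧ (p % 11 = 3 ∨ p % 11 = 4 ∨ p % 11 = 5 ∨ p % 11 = 9)))) ∧ ∃ R : Subgroup (Matrix.GeneralLinearGroup (Fin 11) F), Cfsg.Geo.IsLinearSymplecticTypeData 11 R ∧ H = Cfsg.Geo.subgroupNormalizer R ⊓ Cfsg.Geo.specialLinear (Fin 11) F) ∨
    (Odd (Fintype.card F) ∧ ∃ Q : (Fin 11 → F) → F, Cfsg.Geo.IsNondegenerateQuadraticForm Q ∧ H = Cfsg.Geo.quadSimilarityGroup Q ⊓ Cfsg.Geo.specialLinear (Fin 11) F) ∨
    (∃ (σ : F ≃+* F) (f : (Fin 11 → F) → (Fin 11 → F) → F), Cfsg.Geo.IsUnitaryForm σ f ∧ H = Cfsg.Geo.similarityGroup f ⊓ Cfsg.Geo.specialLinear (Fin 11) F) ∨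
    Cfsg.Geo.InLinearResidualClass H := by
  cases Cfsg.Agent.Aschbacher.maximal_sorted (by norm_num) hH with
  | subspace h => exact Or.inl (h)
  | @decomp t m D hD htm h1 h2 h4 h =>
    have ht := hD.two_le
    have hm : m ≤ 5 := by nlinarith
    have hm0 := hD.pos
    interval_cases m
    · obtain rfl : t = 11 := by omega
      exact Or.inr (Or.inl (⟨h1 rfl, D, hD, h⟩))
    · omega
    · omega
    · omega
    · omega
  | @field r K hr hdvd hK h =>
    have hle := Nat.le_of_dvd (by norm_num) hdvd
    have hr2 := hr.two_le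
    have hcases : r = 11 := by
      interval_cases r <;> first | omega | (exfalso; norm_num at hr) | (exfalso; norm_num at hdvd)
    rcases hcases with rfl
    · exact Or.inr (Or.inr (Or.inl (⟨K, hK, h⟩)))
  | @tensor n₁ n₂ e P h1 h2 hn hq h =>
    have hb : n₁ ≤ 11 := by nlinarith
    interval_cases n₁ <;> omega
  | subfield h => exact Or.inr (Or.inr (Or.inr (Or.inl (h))))
  | @symplType r k R hd hn h =>
    have hrp := hd.symplecticType.prime
    obtain rfl : r = 11 := by
      have hk : k ≠ 0 := by rintro rfl; simp at hn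
      have hrn : r ∣ 11 := hn ▸ dvd_pow_self r hk
      have hle := Nat.le_of_dvd (by norm_num) hrn
      interval_cases r <;> first | omega | (exfalso; norm_num at hrp) | (exfalso; norm_num at hrn)
    obtain ⟨p, e, hp, hch, hcard, he, hdvd, hz⟩ :=
      Cfsg.Agent.Aschbacher.sympl_field_odd hd (by norm_num)
    have hle := Nat.le_of_dvd (by norm_num) hdvd
    have hmod : p ^ e % 11 = 1 := by
      have h1 := Nat.one_le_pow e p hp.pos
      omega
    have hcases : e = 1 ∨ e = 5 := by
      obtain ⟨j, rfl⟩ := he
      have hj : j ≤ 5 := by omega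
      interval_cases j <;> first | omega | (exfalso; norm_num at hdvd)
    rw [Nat.pow_mod] at hmod
    have hf : ∃ p : ℕ, p.Prime ∧ CharP F p ∧ ((Fintype.card F = p ∧ p % 11 = 1) ∨
        (Fintype.card F = p ^ 5 ∧ (p % 11 = 3 ∨ p % 11 = 4 ∨ p % 11 = 5 ∨ p % 11 = 9))) := by
      refine ⟨p, hp, hch, ?_⟩
      by_cases hp1 : p % 11 = 1
      · refine Or.inl ⟨?_, hp1⟩
        rcases hcases with rfl | rfl
        · rw [hcard, pow_one]
        · exfalso
          obtain ⟨p', e', hrp', hmin, hcase⟩ := hd.field
          obtain ⟨hp', hch', hcard', hz', hmin⟩ := hmin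
          obtain rfl : p' = p := CharP.eq F hch' hch
          have hee : e' = 5 := Nat.pow_right_injective hp'.two_le (hcard'.symm.trans hcard)
          subst hee
          rcases hcase with ⟨-, -, hC, -⟩ | ⟨h2, -⟩ | ⟨h2, -⟩
          · rw [hC] at hmin
            refine hmin 1 one_pos (by norm_num) ?_
            have := hp'.two_le
            rw [pow_one]; omega
          · norm_num at h2
          · norm_num at h2
      · rcases hcases with rfl | rfl
        · simp at hmod; omega
        · refine Or.inr ⟨hcard, ?_⟩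
          have hlt := Nat.mod_lt p (show 11 > 0 by norm_num)
          interval_cases hx : p % 11 <;> first | omega | (exfalso; norm_num at hmod) | norm_num
    exact Or.inr (Or.inr (Or.inr (Or.inr (Or.inl (⟨hf, R, hd, h⟩)))))
  | @wreath m t e P hm ht hn h =>
    have h3 := Nat.pow_le_pow_right (show 0 < m by omega) ht
    have hm4 : m ≤ 3 := by nlinarith
    interval_cases m
    have ht3 : t < 3 := by
      by_contra ht4
      have := Nat.pow_le_pow_right (show 0 < 3 by norm_num) (Nat.le_of_not_lt ht4)
      omega
    obtain rfl : t = 2 := by omega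
    norm_num at hn
  | symplectic he h => exact absurd he (by decide)
  | unitary h => exact Or.inr (Or.inr (Or.inr (Or.inr (Or.inr (Or.inr (Or.inl (h)))))))
  | quad h => exact Or.inr (Or.inr (Or.inr (Or.inr (Or.inr (Or.inl (h))))))
  | residual h => exact Or.inr (Or.inr (Or.inr (Or.inr (Or.inr (Or.inr (Or.inr (h)))))))

end Cfsg.Agent.S5853
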