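import Cfsg.Statements.S5870
import Cfsg.Agent.Lib.Transvec.OrthStab
import Cfsg.Agent.Lib.Transvec.OrthNondegMax
import Cfsg.Agent.Lib.Transvec.OrthFrameMax
import Cfsg.Agent.Lib.Transvec.OrthPlanesMax
import Cfsg.Agent.Lib.Transvec.OrthPair
import Cfsg.Agent.Lib.Transvec.OrthUnitaryNorm
import Cfsg.Agent.Lib.Transvec.OrthSubfieldSmall
import Cfsg.Agent.Lib.OrthFieldExt.Main
import Cfsg.Agent.Lib.TensorMax.SMain

set_option autoImplicit false
open Cfsg

namespace Cfsg.Agent.S5870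

/-- Maximal subgroups of Ω_12^+(q) of geometric type (any q). Let F be a finite field with q elements (characteristic p), Q a non-degenerate quadratic form on F^12 (non-degenerate polar form) of plus type (Witt index 6: some totally singular 6-space), and Ω = Ω_12^+(q) the commutator subgroup of the isometry group of Q, inside GL_12(F). Each of the following, intersected with Ω, is a maximal subgroup of Ω: (1) the stabiliser of any non-zero subspace on which Q vanishes identically other than those of dimension 5 (totally singular subspaces, dimensions 1, 2, 3, 4 and 6); (2) for q odd, the stabiliser of any subspace of odd dimension on which the polar form of Q is non-degenerate; (3) the stabiliser of any non-degenerate 2-space of minus type (containing no non-zero singular vector); (4) for q ≥ 4, the stabiliser of any non-degenerate 2-space of plus type (containing a non-zero singular vector); (5) the stabiliser of any non-degenerate 4-space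 (either type); (6) for q even, the stabiliser of the 1-space spanned by any non-singular vector v (Q(v) ≠ 0); (7) for q = p an odd prime, the stabiliser of any decomposition of F^12 into 12 pairwise orthogonal, pairwise Q-isometric non-degenerate 1-spaces; (8) for q ≥ 7, the stabiliser of any decomposition of F^12 into 6 pairwise orthogonal, pairwise Q-isometric non-degenerate 2-spaces of plus type; (9) for q ≠ 3, the stabiliser of any decomposition of F^12 into 6 pairwise orthogonal, pairwise Q-isometric non-degenerate 2-spaces of minus type; (10) for q odd with q ≥ 5, the stabiliser of any decomposition of F^12 into 4 pairwise orthogonal, pairwise Q-isometric non-degenerate 3-spaces; (11) for q ≥ 3, the stabiliser of any decomposition of F^12 into 3 pairwise orthogonal, pairwise Q-isometric non-degenerate 4-spaces; (12) the stabiliser of any decomposition of F^12 into 2 pairwise orthogonal, pairwise Q-isometric non-degenerate 6-spaces;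 (13) the stabiliser of any decomposition into two totally singular 6-spaces; (14) for q odd, the normaliser of any degree-2 subfield K of the matrix algebra whose elements are self-adjoint for the polar form of Q (Q is then the trace of a quadratic form over K); (15) for q odd, the normaliser of any degree-3 subfield K of the matrix algebra whose elements are self-adjoint for the polar form of Q (Q is then the trace of a quadratic form over K); (16) the normaliser of any degree-2 subfield K of the matrix algebra, closed under adjoints for the polar form but not self-adjoint, whose elements act as similarities of Q (so F^12 becomes a 6-dimensional space over K with a hermitian form, and the subgroup is of the type of the unitary group GU_6(q)); (17) for q ≥ 3, the stabiliser of any tensor decomposition F^12 = F^2 ⊗ F^6 in which the polar form of Q is (alternating form) ⊗ (alternating form) up to a scalar and Q vanishes on all pure tensors;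 (18) every subfield group for a subfield F₀ with |F| = |F₀|^r, r prime, whose F₀-structure carries a non-zero scalar multiple of Q. -/
theorem result {F : Type*} [Field F] [Fintype F] (Q : (Fin 12 → F) → F) (hQ : Cfsg.Geo.IsNondegenerateQuadraticForm Q) (hplus : Cfsg.Geo.IsPlusTypeOn Q ⊤) :
    (∀ W : Submodule F (Fin 12 → F), W ≠ ⊥ → Cfsg.Geo.IsTotallySingularQuad Q W → Module.finrank F W ≠ 5 → Cfsg.Geo.IsMaximalIn (Cfsg.Geo.omegaGL Q) (Cfsg.Geo.subspaceStabilizer W ⊓ Cfsg.Geo.omegaGL Q)) ∧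
    (Odd (Fintype.card F) → ∀ W : Submodule F (Fin 12 → F), W ≠ ⊥ → W ≠ ⊤ → Odd (Module.finrank F W) → 2 * Module.finrank F W ≠ 12 → Cfsg.Geo.IsNondegenerateOn (QuadraticMap.polar Q) W → Cfsg.Geo.IsMaximalIn (Cfsg.Geo.omegaGL Q) (Cfsg.Geo.subspaceStabilizer W ⊓ Cfsg.Geo.omegaGL Q)) ∧
    (∀ W : Submodule F (Fin 12 → F), Module.finrank F W = 2 → Cfsg.Geo.IsNondegenerateOn (QuadraticMap.polar Q) W → ¬ Cfsg.Geo.IsPlusTypeOn Q W → Cfsg.Geo.IsMaximalIn (Cfsg.Geo.omegaGL Q) (Cfsg.Geo.subspaceStabilizer W ⊓ Cfsg.Geo.omegaGL Q)) ∧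
    (4 ≤ Fintype.card F → ∀ W : Submodule F (Fin 12 → F), Module.finrank F W = 2 → Cfsg.Geo.IsNondegenerateOn (QuadraticMap.polar Q) W → Cfsg.Geo.IsPlusTypeOn Q W → Cfsg.Geo.IsMaximalIn (Cfsg.Geo.omegaGL Q) (Cfsg.Geo.subspaceStabilizer W ⊓ Cfsg.Geo.omegaGL Q)) ∧
    (∀ W : Submodule F (Fin 12 → F), Module.finrank F W = 4 → Cfsg.Geo.IsNondegenerateOn (QuadraticMap.polar Q) W → Cfsg.Geo.IsMaximalIn (Cfsg.Geo.omegaGL Q) (Cfsg.Geo.subspaceStabilizer W ⊓ Cfsg.Geo.omegaGL Q)) ∧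
    (¬ Odd (Fintype.card F) → ∀ v : (Fin 12 → F), Q v ≠ 0 → Cfsg.Geo.IsMaximalIn (Cfsg.Geo.omegaGL Q) (Cfsg.Geo.subspaceStabilizer (Submodule.span F {v}) ⊓ Cfsg.Geo.omegaGL Q)) ∧
    ((∃ p : ℕ, p.Prime ∧ Odd p ∧ Fintype.card F = p) → ∀ D : Fin 12 → Submodule F (Fin 12 → F), Cfsg.Geo.IsOrthogonalMDecomposition Q 1 D → Cfsg.Geo.IsMaximalIn (Cfsg.Geo.omegaGL Q) (Cfsg.Geo.decompositionStabilizer D ⊓ Cfsg.Geo.omegaGL Q)) ∧
    (7 ≤ Fintype.card F → ∀ D : Fin 6 → Submodule F (Fin 12 → F), Cfsg.Geo.IsOrthogonalMDecomposition Q 2 D → (∀ i, Cfsg.Geo.IsPlusTypeOn Q (D i)) → Cfsg.Geo.IsMaximalIn (Cfsg.Geo.omegaGL Q) (Cfsg.Geo.decompositionStabilizer D ⊓ Cfsg.Geo.omegaGL Q)) ∧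
    (Fintype.card F ≠ 3 → ∀ D : Fin 6 → Submodule F (Fin 12 → F), Cfsg.Geo.IsOrthogonalMDecomposition Q 2 D → (∀ i, ¬ Cfsg.Geo.IsPlusTypeOn Q (D i)) → Cfsg.Geo.IsMaximalIn (Cfsg.Geo.omegaGL Q) (Cfsg.Geo.decompositionStabilizer D ⊓ Cfsg.Geo.omegaGL Q)) ∧
    (Odd (Fintype.card F) ∧ 5 ≤ Fintype.card F → ∀ D : Fin 4 → Submodule F (Fin 12 → F), Cfsg.Geo.IsOrthogonalMDecomposition Q 3 D → Cfsg.Geo.IsMaximalIn (Cfsg.Geo.omegaGL Q) (Cfsg.Geo.decompositionStabilizer D ⊓ Cfsg.Geo.omegaGL Q)) ∧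
    (3 ≤ Fintype.card F → ∀ D : Fin 3 → Submodule F (Fin 12 → F), Cfsg.Geo.IsOrthogonalMDecomposition Q 4 D → Cfsg.Geo.IsMaximalIn (Cfsg.Geo.omegaGL Q) (Cfsg.Geo.decompositionStabilizer D ⊓ Cfsg.Geo.omegaGL Q)) ∧
    (∀ D : Fin 2 → Submodule F (Fin 12 → F), Cfsg.Geo.IsOrthogonalMDecomposition Q 6 D → Cfsg.Geo.IsMaximalIn (Cfsg.Geo.omegaGL Q) (Cfsg.Geo.decompositionStabilizer D ⊓ Cfsg.Geo.omegaGL Q)) ∧
    (∀ D : Fin 2 → Submodule F (Fin 12 → F), Cfsg.Geo.IsMDecomposition 6 D → (∀ i, Cfsg.Geo.IsTotallySingularQuad Q (D i)) → Cfsg.Geo.IsMaximalIn (Cfsg.Geo.omegaGL Q) (Cfsg.Geo.decompositionStabilizer D ⊓ Cfsg.Geo.omegaGL Q)) ∧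
    (Odd (Fintype.card F) → ∀ K : Subalgebra F (Matrix (Fin 12) (Fin 12) F), Cfsg.Geo.IsFieldSubalgebra 2 K → Cfsg.Geo.IsSelfAdjointFor (QuadraticMap.polar Q) K → Cfsg.Geo.IsMaximalIn (Cfsg.Geo.omegaGL Q) (Cfsg.Geo.subalgebraNormalizer K ⊓ Cfsg.Geo.omegaGL Q)) ∧
    (Odd (Fintype.card F) → ∀ K : Subalgebra F (Matrix (Fin 12) (Fin 12) F), Cfsg.Geo.IsFieldSubalgebra 3 K → Cfsg.Geo.IsSelfAdjointFor (QuadraticMap.polar Q) K → Cfsg.Geo.IsMaximalIn (Cfsg.Geo.omegaGL Q) (Cfsg.Geo.subalgebraNormalizer K ⊓ Cfsg.Geo.omegaGL Q)) ∧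
    (∀ K : Subalgebra F (Matrix (Fin 12) (Fin 12) F), Cfsg.Geo.IsFieldSubalgebra 2 K → Cfsg.Geo.IsAdjointClosedFor (QuadraticMap.polar Q) K → ¬ Cfsg.Geo.IsSelfAdjointFor (QuadraticMap.polar Q) K → (∀ k ∈ K, ∃ c : F, ∀ v : (Fin 12 → F), Q (Matrix.mulVec k v) = c * Q v) → Cfsg.Geo.IsMaximalIn (Cfsg.Geo.omegaGL Q) (Cfsg.Geo.subalgebraNormalizer K ⊓ Cfsg.Geo.omegaGL Q)) ∧
    (3 ≤ Fintype.card F → ∀ (e : Fin 12 ≃ Fin 2 × Fin 6) (P : Matrix.GeneralLinearGroup (Fin 12) F) (f₁ : (Fin 2 → F) → (Fin 2 → F) → F) (f₂ : (Fin 6 → F) → (Fin 6 → F) → F), Cfsg.Geo.IsSymplecticForm f₁ → Cfsg.Geo.IsSymplecticForm f₂ → Cfsg.Geo.IsTensorFormStructure id (QuadraticMap.polar Q) f₁ f₂ e P → (∀ (x₁ : Fin 2 → F) (x₂ : Fin 6 → F), Q (Matrix.mulVec (P : Matrix (Fin 12) (Fin 12) F) ((fun a : Fin 2 × Fin 6 => x₁ a.1 * x₂ a.2) ∘ e)) = 0) → Cfsg.Geo.IsMaximalIn (Cfsg.Geo.omegaGL Q) (Cfsg.Geo.tensorProductSubgroup 2 6 e P ⊓ Cfsg.Geo.omegaGL Q)) ∧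
    (∀ (F₀ : Subfield F) (r : ℕ) (P : Matrix.GeneralLinearGroup (Fin 12) F) (ζ : F), r.Prime → Fintype.card F = Nat.card F₀ ^ r → ζ ≠ 0 → Cfsg.Geo.IsQuadFormRationalStructure (fun v : Fin 12 → F => ζ * Q v) F₀ P → Cfsg.Geo.IsMaximalIn (Cfsg.Geo.omegaGL Q) (Cfsg.Geo.subfieldSubgroup F₀ P ⊓ Cfsg.Geo.omegaGL Q)) := by
  have hn : Fintype.card (Fin 12) = 12 := Fintype.card_fin 12
  have h1 : 1 < Fintype.card F := Fintype.one_lt_card
  have hodd2 := fun h : Odd (Fintype.card F) => Cfsg.Agent.Transvec.Orth.two_ne_zero_of_odd_card h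
  have hdim : ∀ W : Submodule F (Fin 12 → F), Cfsg.Agent.Transvec.Orth.Nondeg Q W →
      Module.finrank F W + Module.finrank F (Cfsg.Agent.Transvec.Orth.orth hQ W) = 12 := fun W hW => by
    have := (Cfsg.Agent.Transvec.Orth.orth_nondeg hQ hW).2
    omega
  have hne : ∀ W : Submodule F (Fin 12 → F), Module.finrank F W ≠ 0 → Module.finrank F W ≠ 12 → W ≠ ⊥ ∧ W ≠ ⊤ :=
    fun W h0 h12 => ⟨fun h => h0 (by rw [h]; exact finrank_bot F _),
      fun h => h12 (by rw [h, finrank_top, Module.finrank_pi, hn])⟩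
  have hanis : ∀ W : Submodule F (Fin 12 → F), Module.finrank F W = 2 → ¬ Cfsg.Geo.IsPlusTypeOn Q W →
      ∀ w ∈ W, Q w = 0 → w = 0 := fun W hW hp w hw hww => by
    by_contra hw0
    refine hp ⟨Submodule.span F {w}, (Submodule.span_singleton_le_iff_mem _ _).2 hw, fun x hx => ?_, ?_⟩
    · obtain ⟨c, rfl⟩ := Submodule.mem_span_singleton.1 hx
      rw [Cfsg.Agent.Transvec.Orth.q_smul hQ, hww, mul_zero]
    · rw [finrank_span_singleton hw0, hW]
  refine ⟨fun W hW0 hW h5 => Cfsg.Agent.Transvec.Orth.stab_singular_maximal hQ (by omega) hW0 hW (Or.inl (by omega)),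
    fun hq W hW0 hW1 hodd h6 hW => ?_, fun W h2 hW hp => ?_, fun hq W h2 hW hp => ?_, fun W h4 hW => ?_,
    fun hq v hv => Cfsg.Agent.Transvec.Orth.stab_nonsingular_maximal hQ (by omega) ?_ hv,
    fun ⟨p, hp, hpo, hpq⟩ D hD => Cfsg.Agent.Transvec.OFr.frame_maximal hQ (by rw [hpq]; exact hp)
      (hodd2 (by rw [hpq]; exact hpo)) (by omega) hD,
    fun hq D hD hp => ?_, fun hq D hD hp => ?_, fun hq D hD => ?_, fun hq D hD => ?_, fun D hD => ?_,
    fun D hD hts => Cfsg.Agent.Transvec.Orth.pair_maximal hQ (by omega) hD hts (by omega) (by decide),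
    fun hq K hK hsa => ?_, fun hq K hK hsa => ?_, fun K hK hac hns hsc => ?_,
    fun hq e P f₁ f₂ hf₁ hf₂ hT hpure => ?_, fun F₀ r P ζ hr hcard hζ hP => ?_⟩
  · have hWn := Cfsg.Agent.Transvec.Orth.nondeg_of hW
    have := hdim W hWn
    obtain ⟨k, hk⟩ := hodd
    exact Cfsg.Agent.Transvec.Orth.stab_nondeg_maximal' hQ (by omega) hWn hW0 hW1 (Or.inl (by omega))
      (fun h => absurd h (by omega)) (fun h => absurd h (by omega))
  · have hWn := Cfsg.Agent.Transvec.Orth.nondeg_of hW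
    have := hdim W hWn
    obtain ⟨hW0, hW1⟩ := hne W (by omega) (by omega)
    exact Cfsg.Agent.Transvec.Orth.stab_nondeg_maximal' hQ (by omega) hWn hW0 hW1 (Or.inl (by omega))
      (fun _ => Or.inl (hanis W h2 hp)) (fun h => absurd h (by omega))
  · have hWn := Cfsg.Agent.Transvec.Orth.nondeg_of hW
    have := hdim W hWn
    obtain ⟨hW0, hW1⟩ := hne W (by omega) (by omega)
    exact Cfsg.Agent.Transvec.Orth.stab_nondeg_maximal' hQ (by omega) hWn hW0 hW1 (Or.inl (by omega))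
      (fun _ => Or.inr (by rwa [Nat.card_eq_fintype_card])) (fun h => absurd h (by omega))
  · have hWn := Cfsg.Agent.Transvec.Orth.nondeg_of hW
    have := hdim W hWn
    obtain ⟨hW0, hW1⟩ := hne W (by omega) (by omega)
    exact Cfsg.Agent.Transvec.Orth.stab_nondeg_maximal' hQ (by omega) hWn hW0 hW1 (Or.inl (by omega))
      (fun h => absurd h (by omega)) (fun h => absurd h (by omega))
  · obtain ⟨p, hp⟩ := CharP.exists F
    obtain ⟨e, hpr, hpe⟩ := FiniteField.card F p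
    rcases hpr.eq_two_or_odd' with rfl | h
    · exact_mod_cast CharP.cast_eq_zero F 2
    · exact absurd (hpe ▸ h.pow) hq
  · refine Cfsg.Agent.Transvec.Planes.decomposition_maximal hQ (by omega) le_rfl hD (fun h => absurd h (by decide)) ?_
    rintro (⟨-, h | ⟨-, h⟩⟩ | ⟨h, -⟩ | ⟨h, -⟩) <;> omega
  · refine Cfsg.Agent.Transvec.Planes.decomposition_maximal hQ (by omega) le_rfl hD (fun h => absurd h (by decide)) ?_
    rintro (⟨-, h | ⟨h, -⟩⟩ | ⟨h, -⟩ | ⟨h, -⟩)
    · exact hq h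
    · exact hp 0 (h 0)
    all_goals omega
  · refine Cfsg.Agent.Transvec.Planes.decomposition_maximal hQ (by omega) (by omega) hD (fun _ => hq.1) ?_
    rintro (⟨h, -⟩ | ⟨-, h⟩ | ⟨h, -⟩) <;> omega
  · refine Cfsg.Agent.Transvec.Planes.decomposition_maximal hQ (by omega) (by omega) hD (fun h => absurd h (by decide)) ?_
    rintro (⟨h, -⟩ | ⟨h, -⟩ | ⟨-, h, -⟩) <;> omega
  · refine Cfsg.Agent.Transvec.Planes.decomposition_maximal hQ (by omega) (by omega) hD (fun h => absurd h (by decide)) ?_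
    rintro (⟨h, -⟩ | ⟨h, -⟩ | ⟨h, -⟩) <;> omega
  · refine Cfsg.Agent.OrthFieldExt.normalizer_maximal' hQ (hodd2 hq) Nat.prime_two hK hsa (by omega) fun d hd => ?_
    omega
  · refine Cfsg.Agent.OrthFieldExt.normalizer_maximal' hQ (hodd2 hq) Nat.prime_three hK hsa (by omega) fun d hd => ?_
    omega
  · exact Cfsg.Agent.OrthUnitaryNorm.unitary_normalizer_maximal (by omega) (by decide) Q hQ K hK hac hns hsc
  · exact Cfsg.Agent.TensorMax.S.symp_tensor_maximal le_rfl Q hQ (by omega) (by omega) e P f₁ f₂ hf₁ hf₂ hT hpure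
  · exact Cfsg.Agent.Transvec.Orth.subfield_maximal_transport' hQ P hζ hP fun _ hQn hV _ =>
      Cfsg.Agent.Transvec.Orth.orth_subfield_maximal_nine hQn hV hr hcard (by omega)

end Cfsg.Agent.S5870
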