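import Cfsg.Statements.S5871
import Cfsg.Agent.Lib.OrthEvenMax.SmallBlocks
import Cfsg.Agent.Lib.Transvec.OrthNondegMax
import Cfsg.Agent.Lib.OrthEvenMax.SymSplit
import Cfsg.Agent.Lib.OrthEvenMax.PlusSub

set_option autoImplicit false
open Cfsg

namespace Cfsg.Agent.S5871

/-- Every maximal subgroup of Ω_12^+(q) is of one of the listed geometric types or lies in the residual class. Let F be a finite field with q elements (characteristic p), Q a non-degenerate quadratic form on F^12 of plus type (Witt index 6: some totally singular 6-space), Ω the commutator subgroup of its isometry group, and H a maximal subgroup of Ω (inside GL_12(F)). Then H is the intersection with Ω of one of: the stabiliser of a non-zero totally singular subspace of dimension ≠ 5; for q odd, the stabiliser of a non-degenerate subspace of odd dimension; the stabiliser of a non-degenerate 2-space of minus type; for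 q ≥ 4, the stabiliser of a non-degenerate 2-space of plus type; the stabiliser of a non-degenerate 4-space; for q even, the stabiliser of the span of a non-singular vector; for q = p an odd prime, the stabiliser of a decomposition into 12 pairwise orthogonal, pairwise isometric non-degenerate 1-spaces; for q ≥ 7, the stabiliser of a decomposition into 6 pairwise orthogonal, pairwise isometric non-degenerate 2-spaces of plus type; for q ≠ 3, the stabiliser of a decomposition into 6 pairwise orthogonal, pairwise isometric non-degenerate 2-spaces of minus type; for q odd with q ≥ 5, the stabiliser of a decomposition into 4 pairwise orthogonal, pairwise isometric non-degenerate 3-spaces; for q ≥ 3, the stabiliser of a decomposition into 3 pairwise orthogonal, pairwise isometric non-degenerate 4-spaces; the stabiliser of a decomposition into 2 pairwise orthogonal, pairwise isometric non-degenerate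 6-spaces; of a decomposition into two totally singular 6-spaces; the normaliser of a degree-2 subfield of the matrix algebra; the normaliser of a degree-3 subfield of the matrix algebra; the normaliser of a degree-2 subfield K, adjoint-closed but not self-adjoint, acting by similarities of Q; for q ≥ 3, the stabiliser of a tensor decomposition of Q into alternating forms on F^2 and F^6 (Q vanishing on pure tensors); a subfield group (|F| = |F₀|^r, r prime) whose F₀-structure carries a non-zero multiple of Q — or else H lies in the residual class of the orthogonal case (modulo scalars H is almost simple, with absolutely irreducible perfect socle preimage realisable over no proper subfield and fixing no non-degenerate unitary form). -/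
theorem result {F : Type*} [Field F] [Fintype F] (Q : (Fin 12 → F) → F) (hQ : Cfsg.Geo.IsNondegenerateQuadraticForm Q) (hplus : Cfsg.Geo.IsPlusTypeOn Q ⊤) (H : Subgroup (Matrix.GeneralLinearGroup (Fin 12) F)) (hH : Cfsg.Geo.IsMaximalIn (Cfsg.Geo.omegaGL Q) H) :
    (∃ W : Submodule F (Fin 12 → F), W ≠ ⊥ ∧ Cfsg.Geo.IsTotallySingularQuad Q W ∧ Module.finrank F W ≠ 5 ∧ H = Cfsg.Geo.subspaceStabilizer W ⊓ Cfsg.Geo.omegaGL Q) ∨
    (Odd (Fintype.card F) ∧ ∃ W : Submodule F (Fin 12 → F), W ≠ ⊥ ∧ W ≠ ⊤ ∧ Odd (Module.finrank F W) ∧ 2 * Module.finrank F W ≠ 12 ∧ Cfsg.Geo.IsNondegenerateOn (QuadraticMap.polar Q) W ∧ H = Cfsg.Geo.subspaceStabilizer W ⊓ Cfsg.Geo.omegaGL Q) ∨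
    (∃ W : Submodule F (Fin 12 → F), Module.finrank F W = 2 ∧ Cfsg.Geo.IsNondegenerateOn (QuadraticMap.polar Q) W ∧ ¬ Cfsg.Geo.IsPlusTypeOn Q W ∧ H = Cfsg.Geo.subspaceStabilizer W ⊓ Cfsg.Geo.omegaGL Q) ∨
    (4 ≤ Fintype.card F ∧ ∃ W : Submodule F (Fin 12 → F), Module.finrank F W = 2 ∧ Cfsg.Geo.IsNondegenerateOn (QuadraticMap.polar Q) W ∧ Cfsg.Geo.IsPlusTypeOn Q W ∧ H = Cfsg.Geo.subspaceStabilizer W ⊓ Cfsg.Geo.omegaGL Q) ∨
    (∃ W : Submodule F (Fin 12 → F), Module.finrank F W = 4 ∧ Cfsg.Geo.IsNondegenerateOn (QuadraticMap.polar Q) W ∧ H = Cfsg.Geo.subspaceStabilizer W ⊓ Cfsg.Geo.omegaGL Q) ∨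
    (¬ Odd (Fintype.card F) ∧ ∃ v : (Fin 12 → F), Q v ≠ 0 ∧ H = Cfsg.Geo.subspaceStabilizer (Submodule.span F {v}) ⊓ Cfsg.Geo.omegaGL Q) ∨
    ((∃ p : ℕ, p.Prime ∧ Odd p ∧ Fintype.card F = p) ∧ ∃ D : Fin 12 → Submodule F (Fin 12 → F), Cfsg.Geo.IsOrthogonalMDecomposition Q 1 D ∧ H = Cfsg.Geo.decompositionStabilizer D ⊓ Cfsg.Geo.omegaGL Q) ∨
    (7 ≤ Fintype.card F ∧ ∃ D : Fin 6 → Submodule F (Fin 12 → F), Cfsg.Geo.IsOrthogonalMDecomposition Q 2 D ∧ (∀ i, Cfsg.Geo.IsPlusTypeOn Q (D i)) ∧ H = Cfsg.Geo.decompositionStabilizer D ⊓ Cfsg.Geo.omegaGL Q) ∨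
    (Fintype.card F ≠ 3 ∧ ∃ D : Fin 6 → Submodule F (Fin 12 → F), Cfsg.Geo.IsOrthogonalMDecomposition Q 2 D ∧ (∀ i, ¬ Cfsg.Geo.IsPlusTypeOn Q (D i)) ∧ H = Cfsg.Geo.decompositionStabilizer D ⊓ Cfsg.Geo.omegaGL Q) ∨
    (Odd (Fintype.card F) ∧ 5 ≤ Fintype.card F ∧ ∃ D : Fin 4 → Submodule F (Fin 12 → F), Cfsg.Geo.IsOrthogonalMDecomposition Q 3 D ∧ H = Cfsg.Geo.decompositionStabilizer D ⊓ Cfsg.Geo.omegaGL Q) ∨
    (3 ≤ Fintype.card F ∧ ∃ D : Fin 3 → Submodule F (Fin 12 → F), Cfsg.Geo.IsOrthogonalMDecomposition Q 4 D ∧ H = Cfsg.Geo.decompositionStabilizer D ⊓ Cfsg.Geo.omegaGL Q) ∨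
    (∃ D : Fin 2 → Submodule F (Fin 12 → F), Cfsg.Geo.IsOrthogonalMDecomposition Q 6 D ∧ H = Cfsg.Geo.decompositionStabilizer D ⊓ Cfsg.Geo.omegaGL Q) ∨
    (∃ D : Fin 2 → Submodule F (Fin 12 → F), Cfsg.Geo.IsMDecomposition 6 D ∧ (∀ i, Cfsg.Geo.IsTotallySingularQuad Q (D i)) ∧ H = Cfsg.Geo.decompositionStabilizer D ⊓ Cfsg.Geo.omegaGL Q) ∨
    (∃ K : Subalgebra F (Matrix (Fin 12) (Fin 12) F), Cfsg.Geo.IsFieldSubalgebra 2 K ∧ H = Cfsg.Geo.subalgebraNormalizer K ⊓ Cfsg.Geo.omegaGL Q) ∨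
    (∃ K : Subalgebra F (Matrix (Fin 12) (Fin 12) F), Cfsg.Geo.IsFieldSubalgebra 3 K ∧ H = Cfsg.Geo.subalgebraNormalizer K ⊓ Cfsg.Geo.omegaGL Q) ∨
    (∃ K : Subalgebra F (Matrix (Fin 12) (Fin 12) F), Cfsg.Geo.IsFieldSubalgebra 2 K ∧ Cfsg.Geo.IsAdjointClosedFor (QuadraticMap.polar Q) K ∧ ¬ Cfsg.Geo.IsSelfAdjointFor (QuadraticMap.polar Q) K ∧ (∀ k ∈ K, ∃ c : F, ∀ v : (Fin 12 → F), Q (Matrix.mulVec k v) = c * Q v) ∧ H = Cfsg.Geo.subalgebraNormalizer K ⊓ Cfsg.Geo.omegaGL Q) ∨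
    (3 ≤ Fintype.card F ∧ ∃ (e : Fin 12 ≃ Fin 2 × Fin 6) (P : Matrix.GeneralLinearGroup (Fin 12) F) (f₁ : (Fin 2 → F) → (Fin 2 → F) → F) (f₂ : (Fin 6 → F) → (Fin 6 → F) → F), Cfsg.Geo.IsSymplecticForm f₁ ∧ Cfsg.Geo.IsSymplecticForm f₂ ∧ Cfsg.Geo.IsTensorFormStructure id (QuadraticMap.polar Q) f₁ f₂ e P ∧ (∀ (x₁ : Fin 2 → F) (x₂ : Fin 6 → F), Q (Matrix.mulVec (P : Matrix (Fin 12) (Fin 12) F) ((fun a : Fin 2 × Fin 6 => x₁ a.1 * x₂ a.2) ∘ e)) = 0) ∧ H = Cfsg.Geo.tensorProductSubgroup 2 6 e P ⊓ Cfsg.Geo.omegaGL Q) ∨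
    (∃ (F₀ : Subfield F) (r : ℕ) (P : Matrix.GeneralLinearGroup (Fin 12) F) (ζ : F), r.Prime ∧ Fintype.card F = Nat.card F₀ ^ r ∧ ζ ≠ 0 ∧ Cfsg.Geo.IsQuadFormRationalStructure (fun v : Fin 12 → F => ζ * Q v) F₀ P ∧ H = Cfsg.Geo.subfieldSubgroup F₀ P ⊓ Cfsg.Geo.omegaGL Q) ∨
    Cfsg.Geo.InOrthogonalResidualClass H := by
  classical
  let G : Prop :=
    (∃ W : Submodule F (Fin 12 → F), W ≠ ⊥ ∧ Cfsg.Geo.IsTotallySingularQuad Q W ∧ Module.finrank F W ≠ 5 ∧ H = Cfsg.Geo.subspaceStabilizer W ⊓ Cfsg.Geo.omegaGL Q) ∨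
    (Odd (Fintype.card F) ∧ ∃ W : Submodule F (Fin 12 → F), W ≠ ⊥ ∧ W ≠ ⊤ ∧ Odd (Module.finrank F W) ∧ 2 * Module.finrank F W ≠ 12 ∧ Cfsg.Geo.IsNondegenerateOn (QuadraticMap.polar Q) W ∧ H = Cfsg.Geo.subspaceStabilizer W ⊓ Cfsg.Geo.omegaGL Q) ∨
    (∃ W : Submodule F (Fin 12 → F), Module.finrank F W = 2 ∧ Cfsg.Geo.IsNondegenerateOn (QuadraticMap.polar Q) W ∧ ¬ Cfsg.Geo.IsPlusTypeOn Q W ∧ H = Cfsg.Geo.subspaceStabilizer W ⊓ Cfsg.Geo.omegaGL Q) ∨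
    (4 ≤ Fintype.card F ∧ ∃ W : Submodule F (Fin 12 → F), Module.finrank F W = 2 ∧ Cfsg.Geo.IsNondegenerateOn (QuadraticMap.polar Q) W ∧ Cfsg.Geo.IsPlusTypeOn Q W ∧ H = Cfsg.Geo.subspaceStabilizer W ⊓ Cfsg.Geo.omegaGL Q) ∨
    (∃ W : Submodule F (Fin 12 → F), Module.finrank F W = 4 ∧ Cfsg.Geo.IsNondegenerateOn (QuadraticMap.polar Q) W ∧ H = Cfsg.Geo.subspaceStabilizer W ⊓ Cfsg.Geo.omegaGL Q) ∨
    (¬ Odd (Fintype.card F) ∧ ∃ v : (Fin 12 → F), Q v ≠ 0 ∧ H = Cfsg.Geo.subspaceStabilizer (Submodule.span F {v}) ⊓ Cfsg.Geo.omegaGL Q) ∨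
    ((∃ p : ℕ, p.Prime ∧ Odd p ∧ Fintype.card F = p) ∧ ∃ D : Fin 12 → Submodule F (Fin 12 → F), Cfsg.Geo.IsOrthogonalMDecomposition Q 1 D ∧ H = Cfsg.Geo.decompositionStabilizer D ⊓ Cfsg.Geo.omegaGL Q) ∨
    (7 ≤ Fintype.card F ∧ ∃ D : Fin 6 → Submodule F (Fin 12 → F), Cfsg.Geo.IsOrthogonalMDecomposition Q 2 D ∧ (∀ i, Cfsg.Geo.IsPlusTypeOn Q (D i)) ∧ H = Cfsg.Geo.decompositionStabilizer D ⊓ Cfsg.Geo.omegaGL Q) ∨
    (Fintype.card F ≠ 3 ∧ ∃ D : Fin 6 → Submodule F (Fin 12 → F), Cfsg.Geo.IsOrthogonalMDecomposition Q 2 D ∧ (∀ i, ¬ Cfsg.Geo.IsPlusTypeOn Q (D i)) ∧ H = Cfsg.Geo.decompositionStabilizer D ⊓ Cfsg.Geo.omegaGL Q) ∨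
    (Odd (Fintype.card F) ∧ 5 ≤ Fintype.card F ∧ ∃ D : Fin 4 → Submodule F (Fin 12 → F), Cfsg.Geo.IsOrthogonalMDecomposition Q 3 D ∧ H = Cfsg.Geo.decompositionStabilizer D ⊓ Cfsg.Geo.omegaGL Q) ∨
    (3 ≤ Fintype.card F ∧ ∃ D : Fin 3 → Submodule F (Fin 12 → F), Cfsg.Geo.IsOrthogonalMDecomposition Q 4 D ∧ H = Cfsg.Geo.decompositionStabilizer D ⊓ Cfsg.Geo.omegaGL Q) ∨
    (∃ D : Fin 2 → Submodule F (Fin 12 → F), Cfsg.Geo.IsOrthogonalMDecomposition Q 6 D ∧ H = Cfsg.Geo.decompositionStabilizer D ⊓ Cfsg.Geo.omegaGL Q) ∨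
    (∃ D : Fin 2 → Submodule F (Fin 12 → F), Cfsg.Geo.IsMDecomposition 6 D ∧ (∀ i, Cfsg.Geo.IsTotallySingularQuad Q (D i)) ∧ H = Cfsg.Geo.decompositionStabilizer D ⊓ Cfsg.Geo.omegaGL Q) ∨
    (∃ K : Subalgebra F (Matrix (Fin 12) (Fin 12) F), Cfsg.Geo.IsFieldSubalgebra 2 K ∧ H = Cfsg.Geo.subalgebraNormalizer K ⊓ Cfsg.Geo.omegaGL Q) ∨
    (∃ K : Subalgebra F (Matrix (Fin 12) (Fin 12) F), Cfsg.Geo.IsFieldSubalgebra 3 K ∧ H = Cfsg.Geo.subalgebraNormalizer K ⊓ Cfsg.Geo.omegaGL Q) ∨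
    (∃ K : Subalgebra F (Matrix (Fin 12) (Fin 12) F), Cfsg.Geo.IsFieldSubalgebra 2 K ∧ Cfsg.Geo.IsAdjointClosedFor (QuadraticMap.polar Q) K ∧ ¬ Cfsg.Geo.IsSelfAdjointFor (QuadraticMap.polar Q) K ∧ (∀ k ∈ K, ∃ c : F, ∀ v : (Fin 12 → F), Q (Matrix.mulVec k v) = c * Q v) ∧ H = Cfsg.Geo.subalgebraNormalizer K ⊓ Cfsg.Geo.omegaGL Q) ∨
    (3 ≤ Fintype.card F ∧ ∃ (e : Fin 12 ≃ Fin 2 × Fin 6) (P : Matrix.GeneralLinearGroup (Fin 12) F) (f₁ : (Fin 2 → F) → (Fin 2 → F) → F) (f₂ : (Fin 6 → F) → (Fin 6 → F) → F), Cfsg.Geo.IsSymplecticForm f₁ ∧ Cfsg.Geo.IsSymplecticForm f₂ ∧ Cfsg.Geo.IsTensorFormStructure id (QuadraticMap.polar Q) f₁ f₂ e P ∧ (∀ (x₁ : Fin 2 → F) (x₂ : Fin 6 → F), Q (Matrix.mulVec (P : Matrix (Fin 12) (Fin 12) F) ((fun a : Fin 2 × Fin 6 => x₁ a.1 * x₂ a.2) ∘ e)) = 0) ∧ H = Cfsg.Geo.tensorProductSubgroup 2 6 e P ⊓ Cfsg.Geo.omegaGL Q) ∨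
    (∃ (F₀ : Subfield F) (r : ℕ) (P : Matrix.GeneralLinearGroup (Fin 12) F) (ζ : F), r.Prime ∧ Fintype.card F = Nat.card F₀ ^ r ∧ ζ ≠ 0 ∧ Cfsg.Geo.IsQuadFormRationalStructure (fun v : Fin 12 → F => ζ * Q v) F₀ P ∧ H = Cfsg.Geo.subfieldSubgroup F₀ P ⊓ Cfsg.Geo.omegaGL Q) ∨
    Cfsg.Geo.InOrthogonalResidualClass H
  show G
  have o1 : (∃ W : Submodule F (Fin 12 → F), W ≠ ⊥ ∧ Cfsg.Geo.IsTotallySingularQuad Q W ∧ Module.finrank F W ≠ 5 ∧ H = Cfsg.Geo.subspaceStabilizer W ⊓ Cfsg.Geo.omegaGL Q) → G := fun h => Or.inl h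
  have o2 : (Odd (Fintype.card F) ∧ ∃ W : Submodule F (Fin 12 → F), W ≠ ⊥ ∧ W ≠ ⊤ ∧ Odd (Module.finrank F W) ∧ 2 * Module.finrank F W ≠ 12 ∧ Cfsg.Geo.IsNondegenerateOn (QuadraticMap.polar Q) W ∧ H = Cfsg.Geo.subspaceStabilizer W ⊓ Cfsg.Geo.omegaGL Q) → G := fun h => Or.inr (Or.inl h)
  have o3 : (∃ W : Submodule F (Fin 12 → F), Module.finrank F W = 2 ∧ Cfsg.Geo.IsNondegenerateOn (QuadraticMap.polar Q) W ∧ ¬ Cfsg.Geo.IsPlusTypeOn Q W ∧ H = Cfsg.Geo.subspaceStabilizer W ⊓ Cfsg.Geo.omegaGL Q) → G := fun h => Or.inr (Or.inr (Or.inl h))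
  have o4 : (4 ≤ Fintype.card F ∧ ∃ W : Submodule F (Fin 12 → F), Module.finrank F W = 2 ∧ Cfsg.Geo.IsNondegenerateOn (QuadraticMap.polar Q) W ∧ Cfsg.Geo.IsPlusTypeOn Q W ∧ H = Cfsg.Geo.subspaceStabilizer W ⊓ Cfsg.Geo.omegaGL Q) → G := fun h => Or.inr (Or.inr (Or.inr (Or.inl h)))
  have o5 : (∃ W : Submodule F (Fin 12 → F), Module.finrank F W = 4 ∧ Cfsg.Geo.IsNondegenerateOn (QuadraticMap.polar Q) W ∧ H = Cfsg.Geo.subspaceStabilizer W ⊓ Cfsg.Geo.omegaGL Q) → G := fun h => Or.inr (Or.inr (Or.inr (Or.inr (Or.inl h))))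
  have o6 : (¬ Odd (Fintype.card F) ∧ ∃ v : (Fin 12 → F), Q v ≠ 0 ∧ H = Cfsg.Geo.subspaceStabilizer (Submodule.span F {v}) ⊓ Cfsg.Geo.omegaGL Q) → G := fun h => Or.inr (Or.inr (Or.inr (Or.inr (Or.inr (Or.inl h)))))
  have o7 : ((∃ p : ℕ, p.Prime ∧ Odd p ∧ Fintype.card F = p) ∧ ∃ D : Fin 12 → Submodule F (Fin 12 → F), Cfsg.Geo.IsOrthogonalMDecomposition Q 1 D ∧ H = Cfsg.Geo.decompositionStabilizer D ⊓ Cfsg.Geo.omegaGL Q) → G := fun h => Or.inr (Or.inr (Or.inr (Or.inr (Or.inr (Or.inr (Or.inl h))))))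
  have o8 : (7 ≤ Fintype.card F ∧ ∃ D : Fin 6 → Submodule F (Fin 12 → F), Cfsg.Geo.IsOrthogonalMDecomposition Q 2 D ∧ (∀ i, Cfsg.Geo.IsPlusTypeOn Q (D i)) ∧ H = Cfsg.Geo.decompositionStabilizer D ⊓ Cfsg.Geo.omegaGL Q) → G := fun h => Or.inr (Or.inr (Or.inr (Or.inr (Or.inr (Or.inr (Or.inr (Or.inl h)))))))
  have o9 : (Fintype.card F ≠ 3 ∧ ∃ D : Fin 6 → Submodule F (Fin 12 → F), Cfsg.Geo.IsOrthogonalMDecomposition Q 2 D ∧ (∀ i, ¬ Cfsg.Geo.IsPlusTypeOn Q (D i)) ∧ H = Cfsg.Geo.decompositionStabilizer D ⊓ Cfsg.Geo.omegaGL Q) → G := fun h => Or.inr (Or.inr (Or.inr (Or.inr (Or.inr (Or.inr (Or.inr (Or.inr (Or.inl h))))))))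
  have o10 : (Odd (Fintype.card F) ∧ 5 ≤ Fintype.card F ∧ ∃ D : Fin 4 → Submodule F (Fin 12 → F), Cfsg.Geo.IsOrthogonalMDecomposition Q 3 D ∧ H = Cfsg.Geo.decompositionStabilizer D ⊓ Cfsg.Geo.omegaGL Q) → G := fun h => Or.inr (Or.inr (Or.inr (Or.inr (Or.inr (Or.inr (Or.inr (Or.inr (Or.inr (Or.inl h)))))))))
  have o11 : (3 ≤ Fintype.card F ∧ ∃ D : Fin 3 → Submodule F (Fin 12 → F), Cfsg.Geo.IsOrthogonalMDecomposition Q 4 D ∧ H = Cfsg.Geo.decompositionStabilizer D ⊓ Cfsg.Geo.omegaGL Q) → G := fun h => Or.inr (Or.inr (Or.inr (Or.inr (Or.inr (Or.inr (Or.inr (Or.inr (Or.inr (Or.inr (Or.inl h))))))))))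
  have o12 : (∃ D : Fin 2 → Submodule F (Fin 12 → F), Cfsg.Geo.IsOrthogonalMDecomposition Q 6 D ∧ H = Cfsg.Geo.decompositionStabilizer D ⊓ Cfsg.Geo.omegaGL Q) → G := fun h => Or.inr (Or.inr (Or.inr (Or.inr (Or.inr (Or.inr (Or.inr (Or.inr (Or.inr (Or.inr (Or.inr (Or.inl h)))))))))))
  have o13 : (∃ D : Fin 2 → Submodule F (Fin 12 → F), Cfsg.Geo.IsMDecomposition 6 D ∧ (∀ i, Cfsg.Geo.IsTotallySingularQuad Q (D i)) ∧ H = Cfsg.Geo.decompositionStabilizer D ⊓ Cfsg.Geo.omegaGL Q) → G := fun h => Or.inr (Or.inr (Or.inr (Or.inr (Or.inr (Or.inr (Or.inr (Or.inr (Or.inr (Or.inr (Or.inr (Or.inr (Or.inl h))))))))))))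
  have o14 : (∃ K : Subalgebra F (Matrix (Fin 12) (Fin 12) F), Cfsg.Geo.IsFieldSubalgebra 2 K ∧ H = Cfsg.Geo.subalgebraNormalizer K ⊓ Cfsg.Geo.omegaGL Q) → G := fun h => Or.inr (Or.inr (Or.inr (Or.inr (Or.inr (Or.inr (Or.inr (Or.inr (Or.inr (Or.inr (Or.inr (Or.inr (Or.inr (Or.inl h)))))))))))))
  have o15 : (∃ K : Subalgebra F (Matrix (Fin 12) (Fin 12) F), Cfsg.Geo.IsFieldSubalgebra 3 K ∧ H = Cfsg.Geo.subalgebraNormalizer K ⊓ Cfsg.Geo.omegaGL Q) → G := fun h => Or.inr (Or.inr (Or.inr (Or.inr (Or.inr (Or.inr (Or.inr (Or.inr (Or.inr (Or.inr (Or.inr (Or.inr (Or.inr (Or.inr (Or.inl h))))))))))))))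
  have o16 : (∃ K : Subalgebra F (Matrix (Fin 12) (Fin 12) F), Cfsg.Geo.IsFieldSubalgebra 2 K ∧ Cfsg.Geo.IsAdjointClosedFor (QuadraticMap.polar Q) K ∧ ¬ Cfsg.Geo.IsSelfAdjointFor (QuadraticMap.polar Q) K ∧ (∀ k ∈ K, ∃ c : F, ∀ v : (Fin 12 → F), Q (Matrix.mulVec k v) = c * Q v) ∧ H = Cfsg.Geo.subalgebraNormalizer K ⊓ Cfsg.Geo.omegaGL Q) → G := fun h => Or.inr (Or.inr (Or.inr (Or.inr (Or.inr (Or.inr (Or.inr (Or.inr (Or.inr (Or.inr (Or.inr (Or.inr (Or.inr (Or.inr (Or.inr (Or.inl h)))))))))))))))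
  have o17 : (3 ≤ Fintype.card F ∧ ∃ (e : Fin 12 ≃ Fin 2 × Fin 6) (P : Matrix.GeneralLinearGroup (Fin 12) F) (f₁ : (Fin 2 → F) → (Fin 2 → F) → F) (f₂ : (Fin 6 → F) → (Fin 6 → F) → F), Cfsg.Geo.IsSymplecticForm f₁ ∧ Cfsg.Geo.IsSymplecticForm f₂ ∧ Cfsg.Geo.IsTensorFormStructure id (QuadraticMap.polar Q) f₁ f₂ e P ∧ (∀ (x₁ : Fin 2 → F) (x₂ : Fin 6 → F), Q (Matrix.mulVec (P : Matrix (Fin 12) (Fin 12) F) ((fun a : Fin 2 × Fin 6 => x₁ a.1 * x₂ a.2) ∘ e)) = 0) ∧ H = Cfsg.Geo.tensorProductSubgroup 2 6 e P ⊓ Cfsg.Geo.omegaGL Q) → G := fun h => Or.inr (Or.inr (Or.inr (Or.inr (Or.inr (Or.inr (Or.inr (Or.inr (Or.inr (Or.inr (Or.inr (Or.inr (Or.inr (Or.inr (Or.inr (Or.inr (Or.inl h))))))))))))))))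
  have o18 : (∃ (F₀ : Subfield F) (r : ℕ) (P : Matrix.GeneralLinearGroup (Fin 12) F) (ζ : F), r.Prime ∧ Fintype.card F = Nat.card F₀ ^ r ∧ ζ ≠ 0 ∧ Cfsg.Geo.IsQuadFormRationalStructure (fun v : Fin 12 → F => ζ * Q v) F₀ P ∧ H = Cfsg.Geo.subfieldSubgroup F₀ P ⊓ Cfsg.Geo.omegaGL Q) → G := fun h => Or.inr (Or.inr (Or.inr (Or.inr (Or.inr (Or.inr (Or.inr (Or.inr (Or.inr (Or.inr (Or.inr (Or.inr (Or.inr (Or.inr (Or.inr (Or.inr (Or.inr (Or.inl h)))))))))))))))))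
  have o19 : Cfsg.Geo.InOrthogonalResidualClass H → G := fun h => Or.inr (Or.inr (Or.inr (Or.inr (Or.inr (Or.inr (Or.inr (Or.inr (Or.inr (Or.inr (Or.inr (Or.inr (Or.inr (Or.inr (Or.inr (Or.inr (Or.inr (Or.inr h)))))))))))))))))
  have hn : 5 ≤ Fintype.card (Fin 12) := by simp
  have hiso : H ≤ isometryGroup F Q := hH.1.le.trans (Agent.Transvec.Orth.omega_le_isometry hQ)
  have opt_lines : Odd (Fintype.card F) → (Fintype.card F).Prime → ∀ D : Fin 12 → Submodule F (Fin 12 → F),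
      Geo.IsOrthogonalMDecomposition Q 1 D → H ≤ Geo.decompositionStabilizer D → G := fun ho hp D hD hle =>
    o7 ⟨⟨_, hp, ho, rfl⟩, D, hD, Agent.OrthEvenMax.eq_inf hQ hn hH hle
      (Agent.OrthEvenMax.not_allSiegel_decomposition hQ hD.decomp (by simp))⟩
  have opt_halves : ∀ D : Fin 2 → Submodule F (Fin 12 → F),
      Geo.IsOrthogonalMDecomposition Q 6 D → H ≤ Geo.decompositionStabilizer D → G := fun D hD hle =>
    o12 ⟨D, hD, Agent.OrthEvenMax.eq_inf hQ hn hH hle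
      (Agent.OrthEvenMax.not_allSiegel_decomposition hQ hD.decomp (by simp))⟩
  have opt_sub : ∀ (F₀ : Subfield F) (r : ℕ) (P : Matrix.GeneralLinearGroup (Fin 12) F) (ζ : F), r.Prime →
      Fintype.card F = Nat.card F₀ ^ r → ζ ≠ 0 →
      Geo.IsQuadFormRationalStructure (fun v : Fin 12 → F => ζ * Q v) F₀ P → H ≤ Geo.subfieldSubgroup F₀ P → G :=
    fun F₀ r P ζ hr hc hζ hP hle =>
      o18 ⟨F₀, r, P, ζ, hr, hc, hζ, hP, Agent.OrthEvenMax.eq_inf_subfield hQ hn hH hr hc hle⟩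
  have opt_field : ∀ (K : Subalgebra F (Matrix (Fin 12) (Fin 12) F)), Geo.IsFieldSubalgebra 2 K →
      H ≤ Geo.subalgebraNormalizer K → G := fun K hK hle =>
    o14 ⟨K, hK, Agent.OrthEvenMax.eq_inf_field hQ hn hH le_rfl hK hle⟩
  have opt_tens : 3 ≤ Fintype.card F → ∀ (e : Fin 12 ≃ Fin 2 × Fin 6) (P : Matrix.GeneralLinearGroup (Fin 12) F)
      (f₁ : (Fin 2 → F) → (Fin 2 → F) → F) (f₂ : (Fin 6 → F) → (Fin 6 → F) → F),
      Geo.IsSymplecticForm f₁ → Geo.IsSymplecticForm f₂ →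
      Geo.IsTensorFormStructure id (QuadraticMap.polar Q) f₁ f₂ e P →
      (∀ (x₁ : Fin 2 → F) (x₂ : Fin 6 → F), Q (Matrix.mulVec (P : Matrix (Fin 12) (Fin 12) F)
        ((fun a : Fin 2 × Fin 6 => x₁ a.1 * x₂ a.2) ∘ e)) = 0) →
      H ≤ Geo.tensorProductSubgroup 2 6 e P → G := fun hq e P f₁ f₂ h1 h2 hstr hp hle =>
    o17 ⟨hq, e, P, f₁, f₂, h1, h2, hstr, hp, Agent.OrthEvenMax.eq_inf hQ hn hH hle
      (Agent.OrthEvenMax.not_allSiegel_tensor hQ (by norm_num) (by norm_num) e P)⟩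
  have subsp : Agent.OrthEvenMax.SubspaceMember Q H → G := by
    rintro (⟨W, h0, hW, he⟩ | ⟨ho, W, h0, h1, hW1, -, hW, he⟩ | h | h | ⟨W, h4, hev, hd, hW, he⟩ | h)
    · by_cases h5 : Module.finrank F W = 5
      · obtain ⟨U, hWU, hU, hUd⟩ := Agent.OrthEvenMax.exists_max_over hQ hplus hW
        have hU6 : Module.finrank F U = 6 := by rw [Fintype.card_fin] at hUd; omega
        refine o1 ⟨U, fun h => by rw [h, finrank_bot] at hU6; omega, hU, by omega,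
          Agent.OrthEvenMax.eq_inf_subspace hQ hn hH (fun h => by rw [h, finrank_bot] at hU6; omega)
            (fun h => by rw [h, finrank_top, Module.finrank_pi, Fintype.card_fin] at hU6; omega) fun g hg => ?_⟩
        exact Agent.OrthEvenMax.fix_over hQ hn hU hUd hWU (by omega) (hH.1.le hg) (he.le hg).1
      · exact o1 ⟨W, h0, hW, h5, he⟩
    · exact o2 ⟨ho, W, h0, h1, hW1, fun h => by obtain ⟨j, hj⟩ := hW1; omega, hW, he⟩
    · exact o3 h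
    · exact o4 h
    · rw [Fintype.card_fin] at hd
      obtain h | h : Module.finrank F W = 4 ∨ Module.finrank F W = 6 := by
        obtain ⟨j, hj⟩ := hev; omega
      · exact o5 ⟨W, h, hW, he⟩
      · obtain ⟨hD, hle⟩ := Agent.OrthEvenMax.decomp_of_half hQ hplus (Agent.Transvec.Orth.nondeg_of hW) (m := 3)
          (by norm_num) h (by simp)
        exact opt_halves _ hD fun g hg => hle g (hiso hg) (he.le hg).1
    · exact o6 h
  cases Agent.OrthEvenMax.evenStructure hQ hiso (Or.inr (Or.inr (Fintype.card_fin 12))) with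
  | ts h0 hW h => exact subsp (Agent.OrthEvenMax.subspace_ts hQ hn hH h0 hW h)
  | nondeg h0 h1 hW hd h => exact subsp (Agent.OrthEvenMax.subspace_nondeg hQ hn hH h0 h1 hW hd h)
  | point h2 hv h => exact subsp (Agent.OrthEvenMax.subspace_point hQ hn hH h2 hv h)
  | ndecomp hirr hD htr htk h =>
    rename_i t k D
    have htk' := htk
    rw [Fintype.card_fin] at htk'
    have ht := hD.decomp.decomp.two_le
    have i₀ : Fin t := ⟨0, by omega⟩
    have hq1 := Fintype.one_lt_card (α := F)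
    have hodd : Odd k → Odd (Fintype.card F) := fun hk => Agent.OrthEvenMax.odd_card_iff.2 fun h2 => by
      have := Agent.OrthEvenMax.even_finrank_nondeg hQ h2 (hD.decomp.nondegenerate i₀)
      rw [hD.decomp.decomp.finrank_eq] at this
      exact Nat.not_even_iff_odd.2 hk this
    have hcut : k ≤ 6 → Geo.decompositionStabilizer D ⊓ Geo.omegaGL Q = H := fun hk =>
      (Agent.OrthEvenMax.eq_inf hQ hn hH h
        (Agent.OrthEvenMax.not_allSiegel_decomposition hQ hD.decomp (by simp; omega))).symm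
    obtain ⟨rfl, rfl⟩ | ⟨rfl, rfl⟩ | ⟨rfl, rfl⟩ | ⟨rfl, rfl⟩ | ⟨rfl, rfl⟩ :
        (t = 2 ∧ k = 6) ∨ (t = 3 ∧ k = 4) ∨ (t = 4 ∧ k = 3) ∨ (t = 6 ∧ k = 2) ∨ (t = 12 ∧ k = 1) := by
      have hk := hD.decomp.decomp.pos
      have : t ≤ 12 := Nat.le_of_dvd (by norm_num) ⟨k, htk'.symm⟩
      interval_cases t <;> omega
    · exact opt_halves D hD h
    · by_cases hq : 3 ≤ Fintype.card F
      · exact o11 ⟨hq, D, hD, (hcut (by norm_num)).symm⟩
      obtain ⟨D', hD', hm, hle⟩ := Agent.OrthEvenMax.fours_two hQ hiso (by omega) hD rfl htr h i₀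
        (Agent.OrthEvenMax.block_plus hQ hplus hD rfl (m := 2) rfl htk (Agent.OrthEvenMax.blocks_trans hiso htr) i₀)
      exact o9 ⟨by omega, D', hD', hm, Agent.OrthEvenMax.eq_inf hQ hn hH hle
        (Agent.OrthEvenMax.not_allSiegel_decomposition hQ hD'.decomp (by simp))⟩
    · have ho := hodd (by decide)
      by_cases hq : 5 ≤ Fintype.card F
      · exact o10 ⟨ho, hq, D, hD, (hcut (by norm_num)).symm⟩
      have hq3 : Fintype.card F = 3 := by obtain ⟨j, hj⟩ := ho; omega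
      obtain ⟨D', hD', hle⟩ := Agent.OrthEvenMax.threes_three hQ hiso hq3 hD rfl htr h i₀
      exact opt_lines ho (by rw [hq3]; norm_num) D' hD' hle
    · by_cases hp : Geo.IsPlusTypeOn Q (D i₀)
      · by_cases hq7 : 7 ≤ Fintype.card F
        · exact o8 ⟨hq7, D, hD, fun i => Agent.OrthEvenMax.plus_of_isometric (hD.isometric i₀ i) hp,
            (hcut (by norm_num)).symm⟩
        have hne6 : Fintype.card F ≠ 6 := fun h6 => by
          obtain ⟨p, n, hp', hc⟩ : ∃ (p : ℕ) (n : ℕ+), p.Prime ∧ Fintype.card F = p ^ (n : ℕ) := by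
            obtain ⟨p, hchar⟩ := CharP.exists F
            obtain ⟨n, hp', hc⟩ := FiniteField.card F p
            exact ⟨p, n, hp', hc⟩
          rw [h6] at hc
          have h2 : 2 ∣ p ^ (n : ℕ) := ⟨3, by omega⟩
          have h3 : 3 ∣ p ^ (n : ℕ) := ⟨2, by omega⟩
          have e2 := (Nat.prime_dvd_prime_iff_eq Nat.prime_two hp').1 (Nat.prime_two.dvd_of_dvd_pow h2)
          have e3 := (Nat.prime_dvd_prime_iff_eq Nat.prime_three hp').1 (Nat.prime_three.dvd_of_dvd_pow h3)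
          omega
        obtain hq | hq | hq : Fintype.card F ≤ 3 ∨ Fintype.card F = 4 ∨ Fintype.card F = 5 := by omega
        · exact (Agent.OrthEvenMax.planes_reducible hQ hiso hq hD rfl htk htr h hirr i₀ hp).elim
        · obtain ⟨F₁, P, hc, hP, hle⟩ := Agent.OrthEvenMax.planes_four hQ hiso hq hD rfl htk htr h i₀ hp
          exact opt_sub F₁ 2 P 1 Nat.prime_two hc one_ne_zero hP hle
        · obtain ⟨D', hD', hle⟩ := Agent.OrthEvenMax.planes_five hQ hiso hq hD rfl htr h i₀ hp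
          exact opt_lines (by rw [hq]; decide) (by rw [hq]; norm_num) D' hD' hle
      · by_cases hq : Fintype.card F = 3
        · obtain ⟨D', hD', hle⟩ := Agent.OrthEvenMax.planes_three hQ hiso hq hD rfl htr h i₀ hp
          exact opt_lines (by rw [hq]; decide) (by rw [hq]; norm_num) D' hD' hle
        · exact o9 ⟨hq, D, hD, fun i hi => hp (Agent.OrthEvenMax.plus_of_isometric (hD.isometric i i₀) hi),
            (hcut (by norm_num)).symm⟩
    · have ho := hodd (by decide)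
      by_cases hpr : (Fintype.card F).Prime
      · exact opt_lines ho hpr D hD h
      obtain ⟨F₁, r, P, ζ, hr, hc, hζ, hP, hle⟩ :=
        Agent.OrthEvenMax.lines_subfield hQ hiso hD rfl htk htr h i₀ hpr
      exact opt_sub F₁ r P ζ hr hc hζ hP hle
  | pair hirr hk hD hts h =>
    rename_i k D
    rw [Fintype.card_fin] at hk
    obtain rfl : k = 6 := by omega
    exact o13 ⟨D, hD, hts, Agent.OrthEvenMax.eq_inf hQ hn hH h
      (Agent.OrthEvenMax.not_allSiegel_pair hQ hD (by norm_num) (by simp))⟩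
  | field hirr hr hdvd hK hadj h =>
    rename_i r K
    rw [Fintype.card_fin] at hdvd
    obtain rfl | rfl : r = 2 ∨ r = 3 := by
      have := Nat.le_of_dvd (by norm_num) hdvd
      interval_cases r <;> first | omega | exact absurd hr (by norm_num)
    · exact opt_field K hK h
    · exact o15 ⟨K, hK, Agent.OrthEvenMax.eq_inf_field hQ hn hH (by norm_num) hK h⟩
  | symTensor hirr h2 ha hb hs hA hB hN =>
    rename_i a b eq P A B
    have hab : a * b = 12 := by simpa using (Fintype.card_congr eq).symm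
    haveI : NeZero a := ⟨by omega⟩
    haveI : NeZero b := ⟨by omega⟩
    have hq : 3 ≤ Fintype.card F := by
      have := Fintype.one_lt_card (α := F)
      obtain ⟨j, hj⟩ := Agent.OrthEvenMax.odd_card_iff.2 h2
      omega
    have hdet : ∀ g ∈ H, (g : Matrix (Fin 12) (Fin 12) F).det = 1 := fun g hg => by
      have h : g ∈ Geo.specialLinear (Fin 12) F := Agent.Aschbacher.omegaGL_le_specialLinear Q (hH.1.le hg)
      simp only [Geo.specialLinear, MonoidHom.mem_ker] at h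
      simpa using congrArg Units.val h
    have core : ∀ (eq : Fin 12 ≃ Fin 3 × Fin 4) (A : GL (Fin 3) F) (B : GL (Fin 4) F),
        Agent.Aschbacher.TensorSplit (RingEquiv.refl F) 1 (QuadraticMap.polar Q) eq P A B →
        (A : Matrix (Fin 3) (Fin 3) F).transpose = A → (B : Matrix (Fin 4) (Fin 4) F).transpose = B →
        Agent.Aschbacher.Normalises H ((Agent.Aschbacher.kemb eq P).range : Set (Matrix (Fin 12) (Fin 12) F)) →
        G := by
      intro eq A B hs hA hB hN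
      obtain ⟨e, P', f₁, f₂, h1, h2', hstr, hp, hle⟩ := Agent.OrthEvenMax.exists_two_six hQ h2 hiso hdet hs hA hB
        (Agent.OrthEvenMax.factor_plus hQ h2 hplus hs hA) hN
      exact opt_tens hq e P' f₁ f₂ h1 h2' hstr hp hle
    obtain ⟨rfl, rfl⟩ | ⟨rfl, rfl⟩ : (a = 3 ∧ b = 4) ∨ (a = 4 ∧ b = 3) := by
      have : a ≤ 4 := by nlinarith
      interval_cases a <;> omega
    · exact core eq A B hs hA hB hN
    · exact core (eq.trans (Equiv.prodComm _ _)) B A hs.swap hB hA (Agent.Aschbacher.normalises_swap hN)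
  | altTensor hirr ha hb hae hbe hs hA hB hpure hN =>
    rename_i a b eq P A B
    have h12 : a * b = 12 := by simpa using (Fintype.card_congr eq).symm
    haveI : NeZero a := ⟨by omega⟩
    haveI : NeZero b := ⟨by omega⟩
    have core : ∀ (eq : Fin 12 ≃ Fin 2 × Fin 6) (A : GL (Fin 2) F) (B : GL (Fin 6) F),
        Agent.Aschbacher.TensorSplit (RingEquiv.refl F) 1 (QuadraticMap.polar Q) eq P A B →
        Geo.IsSymplecticForm (Agent.Aschbacher.formOf (A : Matrix (Fin 2) (Fin 2) F)) →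
        Geo.IsSymplecticForm (Agent.Aschbacher.formOf (B : Matrix (Fin 6) (Fin 6) F)) →
        (∀ (x₁ : Fin 2 → F) (x₂ : Fin 6 → F),
          Q (Agent.Transvec.mv P ((fun p : Fin 2 × Fin 6 => x₁ p.1 * x₂ p.2) ∘ eq)) = 0) →
        Agent.Aschbacher.Normalises H ((Agent.Aschbacher.kemb eq P).range : Set (Matrix (Fin 12) (Fin 12) F)) →
        G := by
      intro eq A B hs hA hB hpure hN
      by_cases hq : 3 ≤ Fintype.card F
      · have hstr := hs.isTensorFormStructure (e := 1) one_ne_zero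
        rw [one_smul, Agent.Aschbacher.sesqOf_refl, Agent.Aschbacher.sesqOf_refl] at hstr
        exact opt_tens hq eq P _ _ hA hB hstr hpure (Agent.Aschbacher.le_tensorProduct eq P hN)
      · obtain ⟨K, hK, hle⟩ := Agent.OrthEvenMax.field_of_two (b := 6)
          (by have := Fintype.one_lt_card (α := F); omega) hN
        exact opt_field K hK hle
    obtain ⟨rfl, rfl⟩ | ⟨rfl, rfl⟩ : (a = 2 ∧ b = 6) ∨ (a = 6 ∧ b = 2) := by
      obtain ⟨i, hi⟩ := hae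
      obtain ⟨j, hj⟩ := hbe
      have : a ≤ 6 := by nlinarith
      interval_cases a <;> omega
    · exact core eq A B hs hA hB hpure hN
    · refine core (eq.trans (Equiv.prodComm _ _)) B A hs.swap hB hA (fun x₁ x₂ => ?_)
        (Agent.Aschbacher.normalises_swap hN)
      rw [← hpure x₂ x₁]
      congr 2
      funext i
      simp [mul_comm]
  | plusEight h8 hp => simp at h8
  | subfield hr hcard hζ hrat h => exact opt_sub _ _ _ _ hr hcard hζ hrat h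
  | residual h => exact o19 h

end Cfsg.Agent.S5871
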