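import Cfsg.Statements.S5873
import Cfsg.Agent.Lib.Transvec.OrthStab
import Cfsg.Agent.Lib.Transvec.OrthNondegMax
import Cfsg.Agent.Lib.Transvec.OrthWreathFourMax
import Cfsg.Agent.Lib.Transvec.OrthSubfieldSmall
import Cfsg.Agent.Lib.Transvec.OrthTen
import Cfsg.Agent.Lib.OrthFieldExt.Main
import Cfsg.Agent.Lib.OrthTensorMirror.Main

set_option autoImplicit false
open Cfsg

namespace Cfsg.Agent.S5873

open Cfsg.Agent.Transvec Cfsg.Agent.Transvec.Orth

/-- Maximal subgroups of Ω_12^-(q) of geometric type (any q). Let F be a finite field with q elements (characteristic p), Q a non-degenerate quadratic form on F^12 (non-degenerate polar form) of minus type (Witt index 5: no totally singular 6-space), and Ω = Ω_12^-(q) the commutator subgroup of the isometry group of Q, inside GL_12(F). Each of the following, intersected with Ω, is a maximal subgroup of Ω: (1) the stabiliser of any non-zero subspace on which Q vanishes identically (totally singular subspaces, dimensions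 1 to 5); (2) for q odd, the stabiliser of any subspace of odd dimension on which the polar form of Q is non-degenerate; (3) the stabiliser of any non-degenerate 2-space of minus type (containing no non-zero singular vector); (4) for q ≥ 4, the stabiliser of any non-degenerate 2-space of plus type (containing a non-zero singular vector); (5) the stabiliser of any non-degenerate 4-space (either type); (6) the stabiliser of any non-degenerate 6-space (either type); (7) for q even, the stabiliser of the 1-space spanned by any non-singular vector v (Q(v) ≠ 0); (8) the stabiliser of any decomposition of F^12 into 3 pairwise orthogonal, pairwise Q-isometric non-degenerate 4-spaces of minus type; (9) for q odd, the normaliser of any degree-2 subfield K of the matrix algebra whose elements are self-adjoint for the polar form of Q (Q is then the trace of a quadratic form over K); (10) for q odd, the normaliser of any degree-3 subfield K of the matrix algebra whose elements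 are self-adjoint for the polar form of Q (Q is then the trace of a quadratic form over K); (11) for q odd with q ≥ 5, the stabiliser of any tensor decomposition F^12 = F^3 ⊗ F^4 in which the polar form of Q is the product of non-degenerate symmetric bilinear forms, the second of minus type, up to a scalar; (12) every subfield group for a subfield F₀ with |F| = |F₀|^r, r an odd prime, whose F₀-structure carries a non-zero scalar multiple of Q. -/
theorem result {F : Type*} [Field F] [Fintype F] (Q : (Fin 12 → F) → F) (hQ : Cfsg.Geo.IsNondegenerateQuadraticForm Q) (hminus : ¬ Cfsg.Geo.IsPlusTypeOn Q ⊤) :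
    (∀ W : Submodule F (Fin 12 → F), W ≠ ⊥ → Cfsg.Geo.IsTotallySingularQuad Q W → Cfsg.Geo.IsMaximalIn (Cfsg.Geo.omegaGL Q) (Cfsg.Geo.subspaceStabilizer W ⊓ Cfsg.Geo.omegaGL Q)) ∧
    (Odd (Fintype.card F) → ∀ W : Submodule F (Fin 12 → F), W ≠ ⊥ → W ≠ ⊤ → Odd (Module.finrank F W) → 2 * Module.finrank F W ≠ 12 → Cfsg.Geo.IsNondegenerateOn (QuadraticMap.polar Q) W → Cfsg.Geo.IsMaximalIn (Cfsg.Geo.omegaGL Q) (Cfsg.Geo.subspaceStabilizer W ⊓ Cfsg.Geo.omegaGL Q)) ∧
    (∀ W : Submodule F (Fin 12 → F), Module.finrank F W = 2 → Cfsg.Geo.IsNondegenerateOn (QuadraticMap.polar Q) W → ¬ Cfsg.Geo.IsPlusTypeOn Q W → Cfsg.Geo.IsMaximalIn (Cfsg.Geo.omegaGL Q) (Cfsg.Geo.subspaceStabilizer W ⊓ Cfsg.Geo.omegaGL Q)) ∧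
    (4 ≤ Fintype.card F → ∀ W : Submodule F (Fin 12 → F), Module.finrank F W = 2 → Cfsg.Geo.IsNondegenerateOn (QuadraticMap.polar Q) W → Cfsg.Geo.IsPlusTypeOn Q W → Cfsg.Geo.IsMaximalIn (Cfsg.Geo.omegaGL Q) (Cfsg.Geo.subspaceStabilizer W ⊓ Cfsg.Geo.omegaGL Q)) ∧
    (∀ W : Submodule F (Fin 12 → F), Module.finrank F W = 4 → Cfsg.Geo.IsNondegenerateOn (QuadraticMap.polar Q) W → Cfsg.Geo.IsMaximalIn (Cfsg.Geo.omegaGL Q) (Cfsg.Geo.subspaceStabilizer W ⊓ Cfsg.Geo.omegaGL Q)) ∧
    (∀ W : Submodule F (Fin 12 → F), Module.finrank F W = 6 → Cfsg.Geo.IsNondegenerateOn (QuadraticMap.polar Q) W → Cfsg.Geo.IsMaximalIn (Cfsg.Geo.omegaGL Q) (Cfsg.Geo.subspaceStabilizer W ⊓ Cfsg.Geo.omegaGL Q)) ∧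
    (¬ Odd (Fintype.card F) → ∀ v : (Fin 12 → F), Q v ≠ 0 → Cfsg.Geo.IsMaximalIn (Cfsg.Geo.omegaGL Q) (Cfsg.Geo.subspaceStabilizer (Submodule.span F {v}) ⊓ Cfsg.Geo.omegaGL Q)) ∧
    (∀ D : Fin 3 → Submodule F (Fin 12 → F), Cfsg.Geo.IsOrthogonalMDecomposition Q 4 D → (∀ i, ¬ Cfsg.Geo.IsPlusTypeOn Q (D i)) → Cfsg.Geo.IsMaximalIn (Cfsg.Geo.omegaGL Q) (Cfsg.Geo.decompositionStabilizer D ⊓ Cfsg.Geo.omegaGL Q)) ∧
    (Odd (Fintype.card F) → ∀ K : Subalgebra F (Matrix (Fin 12) (Fin 12) F), Cfsg.Geo.IsFieldSubalgebra 2 K → Cfsg.Geo.IsSelfAdjointFor (QuadraticMap.polar Q) K → Cfsg.Geo.IsMaximalIn (Cfsg.Geo.omegaGL Q) (Cfsg.Geo.subalgebraNormalizer K ⊓ Cfsg.Geo.omegaGL Q)) ∧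
    (Odd (Fintype.card F) → ∀ K : Subalgebra F (Matrix (Fin 12) (Fin 12) F), Cfsg.Geo.IsFieldSubalgebra 3 K → Cfsg.Geo.IsSelfAdjointFor (QuadraticMap.polar Q) K → Cfsg.Geo.IsMaximalIn (Cfsg.Geo.omegaGL Q) (Cfsg.Geo.subalgebraNormalizer K ⊓ Cfsg.Geo.omegaGL Q)) ∧
    (Odd (Fintype.card F) ∧ 5 ≤ Fintype.card F → ∀ (e : Fin 12 ≃ Fin 3 × Fin 4) (P : Matrix.GeneralLinearGroup (Fin 12) F) (f₁ : (Fin 3 → F) → (Fin 3 → F) → F) (f₂ : (Fin 4 → F) → (Fin 4 → F) → F), Cfsg.Geo.IsSymmetricForm f₁ → Cfsg.Geo.IsSymmetricForm f₂ → ¬ Cfsg.Geo.IsPlusTypeOn (fun v : Fin 4 → F => f₂ v v) ⊤ → Cfsg.Geo.IsTensorFormStructure id (QuadraticMap.polar Q) f₁ f₂ e P → Cfsg.Geo.IsMaximalIn (Cfsg.Geo.omegaGL Q) (Cfsg.Geo.tensorProductSubgroup 3 4 e P ⊓ Cfsg.Geo.omegaGL Q)) ∧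
    (∀ (F₀ : Subfield F) (r : ℕ) (P : Matrix.GeneralLinearGroup (Fin 12) F) (ζ : F), r.Prime → Odd r → Fintype.card F = Nat.card F₀ ^ r → ζ ≠ 0 → Cfsg.Geo.IsQuadFormRationalStructure (fun v : Fin 12 → F => ζ * Q v) F₀ P → Cfsg.Geo.IsMaximalIn (Cfsg.Geo.omegaGL Q) (Cfsg.Geo.subfieldSubgroup F₀ P ⊓ Cfsg.Geo.omegaGL Q)) := by
  have hn : 7 ≤ Fintype.card (Fin 12) := by simp
  have two : ∀ {W : Submodule F (Fin 12 → F)} {k : ℕ}, Module.finrank F W = k → 0 < k → k < 12 → W ≠ ⊥ ∧ W ≠ ⊤ :=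
    fun h h0 h1 => ⟨fun e => by rw [e, finrank_bot] at h; omega,
      fun e => by rw [e, finrank_top, Module.finrank_fin_fun] at h; omega⟩
  have dim : ∀ {W : Submodule F (Fin 12 → F)}, Nondeg Q W →
      Module.finrank F W + Module.finrank F ↥(orth hQ W) = 12 := fun h => by
    have hd := (orth_nondeg hQ h).2
    rw [Fintype.card_fin] at hd
    omega
  refine ⟨fun W h0 hW => stab_singular_maximal hQ hn h0 hW (Or.inr hminus), ?_, ?_, ?_, ?_, ?_,
    fun hev v hv => stab_nonsingular_maximal hQ hn (OrthTen.two_eq_zero hev) hv, ?_, ?_, ?_, ?_, ?_⟩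
  · intro _ W h0 h1 ho h6 hW
    have := dim (nondeg_of hW)
    obtain ⟨j, hj⟩ := ho
    exact stab_nondeg_maximal' hQ hn (nondeg_of hW) h0 h1 (Or.inl (by simpa using h6)) (fun h => by omega)
      (fun h => by omega)
  · intro W h2 hW hm
    have := dim (nondeg_of hW)
    obtain ⟨h0, h1⟩ := two h2 (by omega) (by omega)
    refine stab_nondeg_maximal' hQ hn (nondeg_of hW) h0 h1 (Or.inl (by simp; omega))
      (fun _ => Or.inl fun w hw hww => ?_) (fun h => by omega)
    by_contra hw0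
    exact hm (plus_of_singular hQ h2 hw hw0 hww)
  · intro hq W h2 hW _
    obtain ⟨h0, h1⟩ := two h2 (by omega) (by omega)
    exact stab_nondeg_maximal' hQ hn (nondeg_of hW) h0 h1 (Or.inl (by simp; omega))
      (fun _ => Or.inr (by rwa [Nat.card_eq_fintype_card])) (fun _ => Or.inr (by rwa [Nat.card_eq_fintype_card]))
  · intro W h4 hW
    have := dim (nondeg_of hW)
    obtain ⟨h0, h1⟩ := two h4 (by omega) (by omega)
    exact stab_nondeg_maximal' hQ hn (nondeg_of hW) h0 h1 (Or.inl (by simp; omega)) (fun h => by omega)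
      (fun h => by omega)
  · intro W h6 hW
    have := dim (nondeg_of hW)
    obtain ⟨h0, h1⟩ := two h6 (by omega) (by omega)
    exact stab_nondeg_maximal' hQ hn (nondeg_of hW) h0 h1 (Or.inr ⟨⟨3, h6⟩, hminus⟩) (fun h => by omega)
      (fun h => by omega)
  · intro D hD hm
    refine orth_wreath_maximal_four hQ hD hn le_rfl fun _ _ i e f he hf hee hff hef hspan => ?_
    by_contra he0
    refine hm i ⟨Submodule.span F {e, f}, Submodule.span_le.2 (Set.insert_subset_iff.2 ⟨he, by simpa using hf⟩),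
      fun x hx => ?_, ?_⟩
    · obtain ⟨a, b, rfl⟩ := Submodule.mem_span_pair.1 hx
      rw [q_add hQ, q_smul hQ, q_smul hQ, pol_smul_left hQ, pol_smul_right hQ, hee, hff, hef]
      ring
    · have hli : LinearIndependent F ![e, f] := (LinearIndependent.pair_iff' he0).2 fun a ha =>
        hspan (Submodule.mem_span_singleton.2 ⟨a, ha⟩)
      rw [hD.decomp.decomp.finrank_eq i,
        show Submodule.span F ({e, f} : Set (Fin 12 → F)) = Submodule.span F (Set.range ![e, f]) by
          rw [Matrix.range_cons, Matrix.range_cons, Matrix.range_empty, Set.union_empty, Set.singleton_union],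
        finrank_span_eq_card hli, Fintype.card_fin]
  · intro hodd K hK hsa
    exact OrthFieldExt.normalizer_maximal' hQ (two_ne_zero_of_odd_card hodd) Nat.prime_two hK hsa hn fun d hd => by
      rw [Fintype.card_fin] at hd; omega
  · intro hodd K hK hsa
    exact OrthFieldExt.normalizer_maximal' hQ (two_ne_zero_of_odd_card hodd) Nat.prime_three hK hsa hn fun d hd => by
      rw [Fintype.card_fin] at hd
      exact ⟨by omega, by omega, fun _ => Or.inl le_rfl⟩
  · rintro ⟨hodd, h5⟩ e P f₁ f₂ hf₁ hf₂ hm hT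
    exact OrthTensorMirror.orth_tensor_maximal (two_ne_zero_of_odd_card hodd) Q hQ h5 e P f₁ f₂ hf₁ hf₂ hm hT
  · intro F₀ r P ζ hr _ hc hζ hP
    exact subfield_maximal_transport' hQ P hζ hP fun Q' hQ' hV _ =>
      orth_subfield_maximal_nine hQ' hV hr hc (by simp)

end Cfsg.Agent.S5873
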