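import Cfsg.Statements.S5874
import Cfsg.Agent.Lib.OrthEvenMax.SymFactor
import Cfsg.Agent.Lib.OrthEvenMax.PlusSub

set_option autoImplicit false
open Cfsg

namespace Cfsg.Agent.S5874

/-- Every maximal subgroup of Ω_12^-(q) is of one of the listed geometric types or lies in the residual class. Let F be a finite field with q elements (characteristic p), Q a non-degenerate quadratic form on F^12 of minus type (Witt index 5: no totally singular 6-space), Ω the commutator subgroup of its isometry group, and H a maximal subgroup of Ω (inside GL_12(F)). Then H is the intersection with Ω of one of: the stabiliser of a non-zero totally singular subspace; for q odd, the stabiliser of a non-degenerate subspace of odd dimension; the stabiliser of a non-degenerate 2-space of minus type; for q ≥ 4, the stabiliser of a non-degenerate 2-space of plus type; the stabiliser of a non-degenerate 4-space; the stabiliser of a non-degenerate 6-space; for q even, the stabiliser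 of the span of a non-singular vector; the stabiliser of a decomposition into 3 pairwise orthogonal, pairwise isometric non-degenerate 4-spaces of minus type; the normaliser of a degree-2 subfield of the matrix algebra; the normaliser of a degree-3 subfield of the matrix algebra; for q odd with q ≥ 5, the stabiliser of a tensor decomposition of the polar form into symmetric forms on F^3 and F^4 (minus type); a subfield group (|F| = |F₀|^r, r odd prime) whose F₀-structure carries a non-zero multiple of Q — or else H lies in the residual class of the orthogonal case (modulo scalars H is almost simple, with absolutely irreducible perfect socle preimage realisable over no proper subfield and fixing no non-degenerate unitary form). -/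
theorem result {F : Type*} [Field F] [Fintype F] (Q : (Fin 12 → F) → F) (hQ : Cfsg.Geo.IsNondegenerateQuadraticForm Q) (hminus : ¬ Cfsg.Geo.IsPlusTypeOn Q ⊤) (H : Subgroup (Matrix.GeneralLinearGroup (Fin 12) F)) (hH : Cfsg.Geo.IsMaximalIn (Cfsg.Geo.omegaGL Q) H) :
    (∃ W : Submodule F (Fin 12 → F), W ≠ ⊥ ∧ Cfsg.Geo.IsTotallySingularQuad Q W ∧ H = Cfsg.Geo.subspaceStabilizer W ⊓ Cfsg.Geo.omegaGL Q) ∨
    (Odd (Fintype.card F) ∧ ∃ W : Submodule F (Fin 12 → F), W ≠ ⊥ ∧ W ≠ ⊤ ∧ Odd (Module.finrank F W) ∧ 2 * Module.finrank F W ≠ 12 ∧ Cfsg.Geo.IsNondegenerateOn (QuadraticMap.polar Q) W ∧ H = Cfsg.Geo.subspaceStabilizer W ⊓ Cfsg.Geo.omegaGL Q) ∨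
    (∃ W : Submodule F (Fin 12 → F), Module.finrank F W = 2 ∧ Cfsg.Geo.IsNondegenerateOn (QuadraticMap.polar Q) W ∧ ¬ Cfsg.Geo.IsPlusTypeOn Q W ∧ H = Cfsg.Geo.subspaceStabilizer W ⊓ Cfsg.Geo.omegaGL Q) ∨
    (4 ≤ Fintype.card F ∧ ∃ W : Submodule F (Fin 12 → F), Module.finrank F W = 2 ∧ Cfsg.Geo.IsNondegenerateOn (QuadraticMap.polar Q) W ∧ Cfsg.Geo.IsPlusTypeOn Q W ∧ H = Cfsg.Geo.subspaceStabilizer W ⊓ Cfsg.Geo.omegaGL Q) ∨
    (∃ W : Submodule F (Fin 12 → F), Module.finrank F W = 4 ∧ Cfsg.Geo.IsNondegenerateOn (QuadraticMap.polar Q) W ∧ H = Cfsg.Geo.subspaceStabilizer W ⊓ Cfsg.Geo.omegaGL Q) ∨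
    (∃ W : Submodule F (Fin 12 → F), Module.finrank F W = 6 ∧ Cfsg.Geo.IsNondegenerateOn (QuadraticMap.polar Q) W ∧ H = Cfsg.Geo.subspaceStabilizer W ⊓ Cfsg.Geo.omegaGL Q) ∨
    (¬ Odd (Fintype.card F) ∧ ∃ v : (Fin 12 → F), Q v ≠ 0 ∧ H = Cfsg.Geo.subspaceStabilizer (Submodule.span F {v}) ⊓ Cfsg.Geo.omegaGL Q) ∨
    (∃ D : Fin 3 → Submodule F (Fin 12 → F), Cfsg.Geo.IsOrthogonalMDecomposition Q 4 D ∧ (∀ i, ¬ Cfsg.Geo.IsPlusTypeOn Q (D i)) ∧ H = Cfsg.Geo.decompositionStabilizer D ⊓ Cfsg.Geo.omegaGL Q) ∨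
    (∃ K : Subalgebra F (Matrix (Fin 12) (Fin 12) F), Cfsg.Geo.IsFieldSubalgebra 2 K ∧ H = Cfsg.Geo.subalgebraNormalizer K ⊓ Cfsg.Geo.omegaGL Q) ∨
    (∃ K : Subalgebra F (Matrix (Fin 12) (Fin 12) F), Cfsg.Geo.IsFieldSubalgebra 3 K ∧ H = Cfsg.Geo.subalgebraNormalizer K ⊓ Cfsg.Geo.omegaGL Q) ∨
    (Odd (Fintype.card F) ∧ 5 ≤ Fintype.card F ∧ ∃ (e : Fin 12 ≃ Fin 3 × Fin 4) (P : Matrix.GeneralLinearGroup (Fin 12) F) (f₁ : (Fin 3 → F) → (Fin 3 → F) → F) (f₂ : (Fin 4 → F) → (Fin 4 → F) → F), Cfsg.Geo.IsSymmetricForm f₁ ∧ Cfsg.Geo.IsSymmetricForm f₂ ∧ ¬ Cfsg.Geo.IsPlusTypeOn (fun v : Fin 4 → F => f₂ v v) ⊤ ∧ Cfsg.Geo.IsTensorFormStructure id (QuadraticMap.polar Q) f₁ f₂ e P ∧ H = Cfsg.Geo.tensorProductSubgroup 3 4 e P ⊓ Cfsg.Geo.omegaGL Q) ∨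
    (∃ (F₀ : Subfield F) (r : ℕ) (P : Matrix.GeneralLinearGroup (Fin 12) F) (ζ : F), r.Prime ∧ Odd r ∧ Fintype.card F = Nat.card F₀ ^ r ∧ ζ ≠ 0 ∧ Cfsg.Geo.IsQuadFormRationalStructure (fun v : Fin 12 → F => ζ * Q v) F₀ P ∧ H = Cfsg.Geo.subfieldSubgroup F₀ P ⊓ Cfsg.Geo.omegaGL Q) ∨
    Cfsg.Geo.InOrthogonalResidualClass H := by
  classical
  have hn : 5 ≤ Fintype.card (Fin 12) := by simp
  have hiso : H ≤ isometryGroup F Q := hH.1.le.trans (Agent.Transvec.Orth.omega_le_isometry hQ)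
  suffices hmain : Agent.OrthEvenMax.SubspaceMember Q H ∨
      (∃ D : Fin 3 → Submodule F (Fin 12 → F), Geo.IsOrthogonalMDecomposition Q 4 D ∧
        H ≤ Geo.decompositionStabilizer D) ∨
      (∃ K : Subalgebra F (Matrix (Fin 12) (Fin 12) F), Geo.IsFieldSubalgebra 2 K ∧
        H = Geo.subalgebraNormalizer K ⊓ Geo.omegaGL Q) ∨
      (∃ K : Subalgebra F (Matrix (Fin 12) (Fin 12) F), Geo.IsFieldSubalgebra 3 K ∧
        H = Geo.subalgebraNormalizer K ⊓ Geo.omegaGL Q) ∨
      (Odd (Fintype.card F) ∧ 5 ≤ Fintype.card F ∧ ∃ (e : Fin 12 ≃ Fin 3 × Fin 4)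
        (P : Matrix.GeneralLinearGroup (Fin 12) F) (f₁ : (Fin 3 → F) → (Fin 3 → F) → F)
        (f₂ : (Fin 4 → F) → (Fin 4 → F) → F), Geo.IsSymmetricForm f₁ ∧ Geo.IsSymmetricForm f₂ ∧
        ¬ Geo.IsPlusTypeOn (fun v : Fin 4 → F => f₂ v v) ⊤ ∧
        Geo.IsTensorFormStructure id (QuadraticMap.polar Q) f₁ f₂ e P ∧
        H = Geo.tensorProductSubgroup 3 4 e P ⊓ Geo.omegaGL Q) ∨
      (∃ (F₀ : Subfield F) (r : ℕ) (P : Matrix.GeneralLinearGroup (Fin 12) F) (ζ : F), r.Prime ∧ Odd r ∧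
        Fintype.card F = Nat.card F₀ ^ r ∧ ζ ≠ 0 ∧
        Geo.IsQuadFormRationalStructure (fun v : Fin 12 → F => ζ * Q v) F₀ P ∧
        H = Geo.subfieldSubgroup F₀ P ⊓ Geo.omegaGL Q) ∨
      Geo.InOrthogonalResidualClass H by
    rcases hmain with h | ⟨D, hD, hle⟩ | h | h | h | h | h
    · rcases h with h | ⟨ho, W, h0, h1, hW1, hd, hW, he⟩ | h | h | ⟨W, h4, hev, hd, hW, he⟩ | h
      · exact Or.inl h
      · exact Or.inr (Or.inl ⟨ho, W, h0, h1, hW1, fun h => by obtain ⟨j, hj⟩ := hW1; omega, hW, he⟩)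
      · exact Or.inr (Or.inr (Or.inl h))
      · exact Or.inr (Or.inr (Or.inr (Or.inl h)))
      · rw [Fintype.card_fin] at hd
        obtain h | h : Module.finrank F W = 4 ∨ Module.finrank F W = 6 := by
          obtain ⟨j, hj⟩ := hev; omega
        · exact Or.inr (Or.inr (Or.inr (Or.inr (Or.inl ⟨W, h, hW, he⟩))))
        · exact Or.inr (Or.inr (Or.inr (Or.inr (Or.inr (Or.inl ⟨W, h, hW, he⟩)))))
      · exact Or.inr (Or.inr (Or.inr (Or.inr (Or.inr (Or.inr (Or.inl h))))))
    · exact Or.inr (Or.inr (Or.inr (Or.inr (Or.inr (Or.inr (Or.inr (Or.inl ⟨D, hD,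
        Agent.OrthEvenMax.minus_blocks hQ hminus hD (by simp),
        Agent.OrthEvenMax.eq_inf hQ hn hH hle
          (Agent.OrthEvenMax.not_allSiegel_decomposition hQ hD.decomp (by simp))⟩)))))))
    · exact Or.inr (Or.inr (Or.inr (Or.inr (Or.inr (Or.inr (Or.inr (Or.inr (Or.inl h))))))))
    · exact Or.inr (Or.inr (Or.inr (Or.inr (Or.inr (Or.inr (Or.inr (Or.inr (Or.inr (Or.inl h)))))))))
    · exact Or.inr (Or.inr (Or.inr (Or.inr (Or.inr (Or.inr (Or.inr (Or.inr (Or.inr (Or.inr (Or.inl h))))))))))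
    · exact Or.inr (Or.inr (Or.inr (Or.inr (Or.inr (Or.inr (Or.inr (Or.inr (Or.inr (Or.inr (Or.inr
        (Or.inl h)))))))))))
    · exact Or.inr (Or.inr (Or.inr (Or.inr (Or.inr (Or.inr (Or.inr (Or.inr (Or.inr (Or.inr (Or.inr
        (Or.inr h)))))))))))
  cases Agent.OrthEvenMax.evenStructure hQ hiso (Or.inr (Or.inr (Fintype.card_fin 12))) with
  | ts h0 hW h => exact Or.inl (Agent.OrthEvenMax.subspace_ts hQ hn hH h0 hW h)
  | nondeg h0 h1 hW hd h => exact Or.inl (Agent.OrthEvenMax.subspace_nondeg hQ hn hH h0 h1 hW hd h)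
  | point h2 hv h => exact Or.inl (Agent.OrthEvenMax.subspace_point hQ hn hH h2 hv h)
  | ndecomp hirr hD htr htk h =>
    rename_i t k D
    by_cases h34 : t = 3
    · subst h34
      rw [Fintype.card_fin] at htk
      obtain rfl : k = 4 := by omega
      exact Or.inr (Or.inl ⟨D, hD, h⟩)
    refine absurd (Agent.OrthEvenMax.plus_of_blocks hQ hD.decomp htk
      (Agent.OrthEvenMax.blocks_trans hiso htr) ?_) hminus
    rw [Fintype.card_fin] at htk
    have ht := hD.decomp.decomp.two_le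
    have hk := hD.decomp.decomp.pos
    have : t ≤ 12 := Nat.le_of_dvd (by norm_num) ⟨k, htk.symm⟩
    interval_cases t
    · exact Or.inl ⟨⟨3, by omega⟩, dvd_rfl⟩
    all_goals first
      | omega
      | (refine Or.inr ?_; norm_num; done)
      | (refine Or.inl ⟨?_, ?_⟩
         · exact ⟨1, by omega⟩
         · norm_num)
  | pair hirr hk hD hts h =>
    exact absurd ⟨_, le_top, hts 0, by rw [hD.finrank_eq, finrank_top, Module.finrank_pi, hk]⟩ hminus
  | field hirr hr hdvd hK hadj h =>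
    rename_i r K
    rw [Fintype.card_fin] at hdvd
    obtain rfl | rfl : r = 2 ∨ r = 3 := by
      have := Nat.le_of_dvd (by norm_num) hdvd
      interval_cases r <;> first | omega | exact absurd hr (by norm_num)
    · exact Or.inr (Or.inr (Or.inl ⟨K, hK, Agent.OrthEvenMax.eq_inf_field hQ hn hH le_rfl hK h⟩))
    · exact Or.inr (Or.inr (Or.inr (Or.inl
        ⟨K, hK, Agent.OrthEvenMax.eq_inf_field hQ hn hH (by norm_num) hK h⟩)))
  | symTensor hirr h2 ha hb hs hA hB hN =>
    rename_i a b eq P A B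
    have hab : a * b = 12 := by simpa using (Fintype.card_congr eq).symm
    haveI : NeZero a := ⟨by omega⟩
    haveI : NeZero b := ⟨by omega⟩
    have core : ∀ (eq : Fin 12 ≃ Fin 3 × Fin 4) (A : GL (Fin 3) F) (B : GL (Fin 4) F),
        Agent.Aschbacher.TensorSplit (RingEquiv.refl F) 1 (QuadraticMap.polar Q) eq P A B →
        (A : Matrix (Fin 3) (Fin 3) F).transpose = A → (B : Matrix (Fin 4) (Fin 4) F).transpose = B →
        Agent.Aschbacher.Normalises H ((Agent.Aschbacher.kemb eq P).range : Set (Matrix (Fin 12) (Fin 12) F)) →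
        (∃ D : Fin 3 → Submodule F (Fin 12 → F), Geo.IsOrthogonalMDecomposition Q 4 D ∧
          H ≤ Geo.decompositionStabilizer D) ∨
        (Odd (Fintype.card F) ∧ 5 ≤ Fintype.card F ∧ ∃ (e : Fin 12 ≃ Fin 3 × Fin 4)
          (P : Matrix.GeneralLinearGroup (Fin 12) F) (f₁ : (Fin 3 → F) → (Fin 3 → F) → F)
          (f₂ : (Fin 4 → F) → (Fin 4 → F) → F), Geo.IsSymmetricForm f₁ ∧ Geo.IsSymmetricForm f₂ ∧
          ¬ Geo.IsPlusTypeOn (fun v : Fin 4 → F => f₂ v v) ⊤ ∧
          Geo.IsTensorFormStructure id (QuadraticMap.polar Q) f₁ f₂ e P ∧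
          H = Geo.tensorProductSubgroup 3 4 e P ⊓ Geo.omegaGL Q) := by
      intro eq A B hs hA hB hN
      have ho : Odd (Fintype.card F) := Agent.OrthEvenMax.odd_card_iff.2 h2
      have hf₁ := Agent.Aschbacher.formOf_symmetric hA
      have hf₂ := Agent.Aschbacher.formOf_symmetric hB
      by_cases h5 : 5 ≤ Fintype.card F
      · have hstr := hs.isTensorFormStructure (e := 1) one_ne_zero
        rw [one_smul, Agent.Aschbacher.sesqOf_refl, Agent.Aschbacher.sesqOf_refl] at hstr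
        exact Or.inr ⟨ho, h5, eq, P, _, _, hf₁, hf₂,
          fun hp => hminus (Agent.OrthEvenMax.plus_of_factor hQ h2 hs hB hp), hstr,
          Agent.OrthEvenMax.eq_inf hQ hn hH (Agent.Aschbacher.le_tensorProduct eq P hN)
            (Agent.OrthEvenMax.not_allSiegel_tensor hQ (by norm_num) (by norm_num) eq P)⟩
      · have hq : Fintype.card F = 3 := by
          have := Fintype.one_lt_card (α := F)
          obtain ⟨j, hj⟩ := ho
          omega
        have hstr := hs.swap.isTensorFormStructure (e := 1) one_ne_zero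
        rw [one_smul, Agent.Aschbacher.sesqOf_refl, Agent.Aschbacher.sesqOf_refl] at hstr
        obtain ⟨D, hD, hiso', hle⟩ := Agent.Aschbacher.isometric_decomp_of_tensor_three hQ.polar_bilinear hq
          (by norm_num : 0 < 4) hf₂.bilinear hf₂.nondegenerate hf₁ hstr
        refine Or.inl ⟨D, ⟨hD, fun i j => ?_⟩, fun g hg => hle g
          (Agent.Aschbacher.le_tensorProduct _ P (Agent.Aschbacher.normalises_swap hN) hg)
          ⟨1, fun u v => (Agent.Transvec.Orth.pol_mv hQ (hiso hg) u v).trans (by rw [Units.val_one, one_mul])⟩⟩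
        obtain ⟨u, hu⟩ := hiso' i j
        refine ⟨u, fun w => mul_left_cancel₀ h2 ?_⟩
        have h := hu w w
        simp only [← Agent.Transvec.Orth.pol_self hQ]
        exact h
    obtain ⟨rfl, rfl⟩ | ⟨rfl, rfl⟩ : (a = 3 ∧ b = 4) ∨ (a = 4 ∧ b = 3) := by
      have : a ≤ 4 := by nlinarith
      interval_cases a <;> omega
    · rcases core eq A B hs hA hB hN with h | h
      · exact Or.inr (Or.inl h)
      · exact Or.inr (Or.inr (Or.inr (Or.inr (Or.inl h))))
    · rcases core (eq.trans (Equiv.prodComm _ _)) B A hs.swap hB hA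
          (Agent.Aschbacher.normalises_swap hN) with h | h
      · exact Or.inr (Or.inl h)
      · exact Or.inr (Or.inr (Or.inr (Or.inr (Or.inl h))))
  | altTensor hirr ha hb hae hbe hs hA hB hpure hN =>
    rename_i a b eq P A B
    have h12 : a * b = 12 := by simpa using (Fintype.card_congr eq).symm
    have : a ≤ 6 := by nlinarith
    refine absurd ?_ hminus
    by_cases h : a = 2
    · exact Agent.OrthEvenMax.plus_of_pure hQ h hpure
    · refine Agent.OrthEvenMax.plus_of_pure hQ (a := b) (b := a) (eq := eq.trans (Equiv.prodComm _ _)) (P := P)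
        (by obtain ⟨i, hi⟩ := hae; obtain ⟨j, hj⟩ := hbe; interval_cases a <;> omega) fun x₁ x₂ => ?_
      rw [← hpure x₂ x₁]
      congr 2
      funext i
      simp [mul_comm]
  | plusEight h8 hp => exact absurd hp hminus
  | subfield hr hcard hζ hrat h =>
    rename_i F₁ r P ζ
    refine Or.inr (Or.inr (Or.inr (Or.inr (Or.inr (Or.inl
      ⟨F₁, r, P, ζ, hr, ?_, hcard, hζ, hrat, Agent.OrthEvenMax.eq_inf_subfield hQ hn hH hr hcard h⟩)))))
    refine hr.eq_two_or_odd'.resolve_left fun h2 => ?_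
    subst h2
    exact hminus (Agent.OrthEvenMax.plus_of_sub_two hQ ⟨6, by simp⟩ hζ hcard hrat)
  | residual h => exact Or.inr (Or.inr (Or.inr (Or.inr (Or.inr (Or.inr h)))))

end Cfsg.Agent.S5874
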