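import Cfsg.Statements.S5876
import Cfsg.Agent.Lib.PrimSol.Fixed

set_option autoImplicit false
open Cfsg

namespace Cfsg.Agent.S5876

/-- Fixed-point spaces in primitive soluble linear groups. Let F be a finite field and G a soluble subgroup of GL_n(F) that acts irreducibly on F^n and primitively (G preserves no decomposition of F^n into two or more independent subspaces of equal dimension). Then every non-identity element g of G has fixed-point space {v : g v = v} of dimension at most 3n/4. -/
theorem result {F : Type*} [Field F] [Fintype F] {n : ℕ} (G : Subgroup (Matrix.GeneralLinearGroup (Fin n) F)) (hsol : IsSolvable G) (hirr : Cfsg.Geo.ActsIrreducibly (Cfsg.Geo.matrixSet G)) (hprim : ∀ (m t : ℕ) (D : Fin t → Submodule F (Fin n → F)), 2 ≤ t → Cfsg.Geo.IsMDecomposition m D → ¬ G ≤ Cfsg.Geo.decompositionStabilizer D) (g : Matrix.GeneralLinearGroup (Fin n) F) (hg : g ∈ G) (hg1 : g ≠ 1) :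
    4 * Module.finrank F (Module.End.eigenspace (Matrix.toLin' (g : Matrix (Fin n) (Fin n) F)) 1) ≤ 3 * n := by
  classical
  rcases Nat.eq_zero_or_pos n with rfl | hn
  · have := Submodule.finrank_le (Module.End.eigenspace (Matrix.toLin' (g : Matrix (Fin 0) (Fin 0) F)) 1)
    rw [Module.finrank_fin_fun] at this
    omega
  haveI : Nonempty (Fin n) := ⟨⟨0, hn⟩⟩
  let ρ : ↥G →* Module.End F (Fin n → F) :=
    ((Matrix.toLinAlgEquiv' : Matrix (Fin n) (Fin n) F ≃ₐ[F] Module.End F (Fin n → F)).toRingEquiv.toMonoidHom).comp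
      ((Units.coeHom (Matrix (Fin n) (Fin n) F)).comp G.subtype)
  have hρ : ∀ x : ↥G, ρ x = Matrix.toLin' ((x : Matrix.GeneralLinearGroup (Fin n) F) : Matrix (Fin n) (Fin n) F) :=
    fun x => rfl
  have hinj : Function.Injective ρ := fun x y h =>
    Subtype.ext (Units.ext (Matrix.toLin'.injective ((hρ x).symm.trans (h.trans (hρ y)))))
  have hI : PrimSol.Irred ρ := fun W hW => hirr W (by
    rintro _ ⟨x, hx, rfl⟩ _ ⟨w, hw, rfl⟩
    exact hW ⟨x, hx⟩ w hw)
  have hP : PrimSol.NoDecomp ρ := by
    intro m t D ht hm hrk hind htop hmap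
    refine hprim m t D ht ⟨ht, hm, hrk, hind, htop⟩ fun x hx => ?_
    choose σ hσ using hmap ⟨x, hx⟩
    have hne : ∀ i, D i ≠ ⊥ := fun i h => by
      have := hrk i
      rw [h, finrank_bot] at this
      omega
    have hσinj : Function.Injective σ := fun i j h =>
      hind.injective hne (Submodule.map_injective_of_injective (PrimSol.apply_injective ρ ⟨x, hx⟩)
        ((hσ i).trans ((congrArg D h).trans (hσ j).symm)))
    exact ⟨Equiv.ofBijective σ (Finite.injective_iff_bijective.1 hσinj), hσ⟩
  have key := PrimSol.four_mul_fix_le ρ hinj hI hP hsol (g := ⟨g, hg⟩)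
    (fun h => hg1 (congrArg Subtype.val h))
  rw [Module.finrank_fin_fun] at key
  rw [Module.End.eigenspace_def, one_smul]
  exact key

end Cfsg.Agent.S5876
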