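import Cfsg.Statements.S5877
import Cfsg.Agent.Lib.Aschbacher.EigenBoundEqual
-- import your own Cfsg.Agent.* helpers here

set_option autoImplicit false
open Cfsg

namespace Cfsg.Agent.S5877

/-- Eigenspaces of elements normalising an absolutely irreducible extraspecial group. Let F be a finite field, r a prime, and R ≤ GL_n(F) an absolutely irreducible extraspecial r-group (an r-group whose centre equals its derived subgroup and has order r) of exponent r or 4. Let g ∈ GL_n(F) normalise the product of R with the scalar matrices, have prime order ϖ and not be scalar, and let W be the eigenspace of g for any c ∈ F (W may be the zero subspace). Then dim W ≤ 3n/4 if ϖ = 2, dim W ≤ 2n/3 if ϖ = 3, and dim W ≤ n/2 if ϖ > 3; moreover if ϖ = 3 and 3 does not divide n then dim W ≤ n/2. -/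
theorem result {F : Type*} [Field F] [Fintype F] {n r ϖ : ℕ} (R : Subgroup (Matrix.GeneralLinearGroup (Fin n) F)) (hr : r.Prime) (hR : IsPGroup r R) (hZ : Nat.card (Subgroup.center R) = r) (hext : commutator R = Subgroup.center R) (hexp : Monoid.exponent R = r ∨ Monoid.exponent R = 4) (hirr : Cfsg.Geo.ActsAbsolutelyIrreducibly (Cfsg.Geo.matrixSet R)) (g : Matrix.GeneralLinearGroup (Fin n) F) (hg : g ∈ Cfsg.Geo.subgroupNormalizer (R ⊔ Cfsg.Geo.scalars (Fin n) F)) (hϖ : ϖ.Prime) (hord : orderOf g = ϖ) (hns : g ∉ Cfsg.Geo.scalars (Fin n) F) (c : F) :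
    (ϖ = 2 → 4 * Module.finrank F (Module.End.eigenspace (Matrix.toLin' (g : Matrix (Fin n) (Fin n) F)) c) ≤ 3 * n) ∧
    (ϖ = 3 → 3 * Module.finrank F (Module.End.eigenspace (Matrix.toLin' (g : Matrix (Fin n) (Fin n) F)) c) ≤ 2 * n) ∧
    (3 < ϖ → 2 * Module.finrank F (Module.End.eigenspace (Matrix.toLin' (g : Matrix (Fin n) (Fin n) F)) c) ≤ n) ∧
    (ϖ = 3 → ¬ 3 ∣ n → 2 * Module.finrank F (Module.End.eigenspace (Matrix.toLin' (g : Matrix (Fin n) (Fin n) F)) c) ≤ n) := by
  classical
  have D : Agent.EigenBound.Data r R g := ⟨hr, hR, hZ, hext, hexp, hirr, hg⟩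
  haveI : Nonempty (Fin n) := by
    by_contra h
    rw [not_nonempty_iff] at h
    exact hns ((Geo.mem_scalars_iff g).2 ⟨1, Matrix.ext fun i => isEmptyElim i⟩)
  have hpow : g ^ ϖ = 1 := hord ▸ pow_orderOf_eq_one g
  have hgen := Agent.EigenBound.general_bound D hns c
  simp only [Agent.EigenBound.eig, Fintype.card_fin] at hgen
  set d := Module.finrank F (Module.End.eigenspace (Matrix.toLin' (g : Matrix (Fin n) (Fin n) F)) c) with hd
  have hr2 := hr.two_le
  have hhalf : Odd ϖ → r ≠ ϖ → 2 * d ≤ n := fun ho hne => by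
    have h := Agent.EigenBound.half_of_coprime D hns hpow ho ((Nat.coprime_primes hr hϖ).2 hne) c
    simpa [Agent.EigenBound.eig, Fintype.card_fin] using h
  refine ⟨fun _ => ?_, fun h3 => ?_, fun h3 => ?_, fun h3 hn3 => ?_⟩
  · rcases hgen with h | ⟨-, h⟩
    · nlinarith
    · nlinarith
  · by_cases hr3 : r = 3
    · rcases hgen with h | ⟨-, h⟩ <;> subst hr3 <;> omega
    · have := hhalf (by rw [h3]; decide) (by rw [h3]; exact hr3)
      omega
  · have ho : Odd ϖ := hϖ.odd_of_ne_two (by omega)
    by_cases hrϖ : r = ϖ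
    · have h := Agent.EigenBound.half_of_equal D hns (by rw [hrϖ]; exact hpow) (by
        by_contra h5
        push Not at h5
        rw [hrϖ] at h5
        have : ϖ = 4 := by omega
        rw [this] at hϖ
        exact absurd hϖ (by norm_num)) c
      simpa [Agent.EigenBound.eig, Fintype.card_fin] using h
    · exact hhalf ho hrϖ
  · refine hhalf (by rw [h3]; decide) fun hrϖ => hn3 ?_
    obtain ⟨y, hy, hys⟩ : ∃ y ∈ R, y ∉ Geo.scalars (Fin n) F := by
      by_contra hall
      push Not at hall
      haveI : IsMulCommutative R := ⟨⟨fun a b => Subtype.ext (Agent.EigenBound.central (hall a a.2) b)⟩⟩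
      have hbot : commutator R = ⊥ := by
        rw [commutator_def, eq_bot_iff, Subgroup.commutator_le]
        intro a _ b _
        rw [Subgroup.mem_bot, commutatorElement_eq_one_iff_mul_comm]
        exact Subtype.ext (Agent.EigenBound.central (hall a a.2) b)
      rw [← hext, hbot, Subgroup.card_bot] at hZ
      omega
    have h := Agent.EigenBound.dvd_card D hy hys
    rw [Fintype.card_fin, hrϖ, h3] at h
    exact h

end Cfsg.Agent.S5877
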