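import Cfsg.Statements.S5883
import Cfsg.Agent.Lib.Fi23Norm.Maximal
-- import your own Cfsg.Agent.* helpers here

set_option autoImplicit false
open Cfsg
open Cfsg.Agent.FischerPresented

namespace Cfsg.Agent.S5883

/-- The constant 10 in the statement that H⁽¹⁰⁾ is perfect for every maximal subgroup H of a finite almost simple group cannot be lowered to 9: there exist a finite almost simple group G (with a non-abelian simple normal subgroup of trivial centralizer) and a maximal subgroup H of G whose ninth derived subgroup H⁽⁹⁾ is not perfect, i.e. H⁽¹⁰⁾ ≠ H⁽⁹⁾. (A solvable maximal subgroup of derived length 10 in the Fischer group Fi₂₃ is such an example.) -/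
theorem result :
    ∃ (G : Type) (_ : Group G) (_ : Finite G) (S H : Subgroup G), S.Normal ∧ IsSimpleGroup S ∧ ¬ IsMulCommutative S ∧
      Subgroup.centralizer (S : Set G) = ⊥ ∧ IsCoatom H ∧ derivedSeries H 10 ≠ derivedSeries H 9 := by
  haveI := Fi23.order_facts.1
  haveI := Fi23.isSimpleGroup
  have hna : ¬ IsMulCommutative (Fi23Ord3.GT) := fun h => Fi23Norm.Maximal.N_ne_top (eq_top_iff.2 fun g _ =>
    Fi23Norm.centralizer_le_N 2 (Subgroup.mem_centralizer_singleton_iff.2 (h.is_comm.comm _ _)))
  refine ⟨Fi23Ord3.GT, inferInstance, inferInstance, ⊤, Fi23Norm.N 2, inferInstance,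
    (Subgroup.topEquiv (G := Fi23Ord3.GT)).symm.isSimpleGroup_congr.1 Fi23.isSimpleGroup, fun h => hna ⟨⟨fun a b => ?_⟩⟩, ?_,
    Fi23Norm.Maximal.isCoatom_N, Fi23Norm.Maximal.derived_ten⟩
  · exact congrArg Subtype.val (h.is_comm.comm ⟨a, Subgroup.mem_top a⟩ ⟨b, Subgroup.mem_top b⟩)
  · rw [Subgroup.coe_top, Subgroup.centralizer_univ]
    refine (Subgroup.Normal.eq_bot_or_eq_top inferInstance).resolve_right fun h => hna ⟨⟨fun a b => ?_⟩⟩
    exact (Subgroup.mem_center_iff.1 (h ▸ Subgroup.mem_top b) a)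

end Cfsg.Agent.S5883
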