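import Cfsg.Statements.S5885
import Mathlib.GroupTheory.GroupAction.Primitive
import Mathlib.GroupTheory.GroupAction.Quotient
import Mathlib.GroupTheory.SpecificGroups.Alternating

set_option autoImplicit false
open Cfsg
open scoped Pointwise

namespace Cfsg.Agent.S5885

open MulAction Equiv

variable {G : Type*} [Group G] [Finite G]

/-- Every even permutation of the cosets of a maximal subgroup of index `n` is realised. -/
theorem exists_smul_eq_perm (n : ℕ)
    (hA : ∀ P : Subgroup (Equiv.Perm (Fin n)), MulAction.IsPreprimitive P (Fin n) → alternatingGroup (Fin n) ≤ P)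
    (M : Subgroup G) (hM : IsCoatom M) (hn : M.index = n) [Fintype (G ⧸ M)] [DecidableEq (G ⧸ M)]
    (f : Perm (G ⧸ M)) (hf : Perm.sign f = 1) : ∃ g : G, ∀ x : G ⧸ M, g • x = f x := by
  let e : G ⧸ M ≃ Fin n := Finite.equivFinOfCardEq (by rw [← hn, Subgroup.index_eq_card])
  let ψ : G →* Perm (Fin n) := e.permCongrHom.toMonoidHom.comp (toPermHom G (G ⧸ M))
  have hψ : ∀ g x, ψ g (e x) = e (g • x) := fun g x => by
    simp [ψ, Equiv.permCongrHom_coe, Equiv.permCongr_apply]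
  haveI : Nontrivial (G ⧸ M) := by
    rw [← Finite.one_lt_card_iff_nontrivial, ← Subgroup.index_eq_card]
    exact Nat.one_lt_iff_ne_zero_and_ne_one.2
      ⟨Subgroup.index_ne_zero_of_finite, fun h => hM.1 (Subgroup.index_eq_one.1 h)⟩
  haveI : IsPreprimitive G (G ⧸ M) :=
    (isCoatom_stabilizer_iff_preprimitive G ((1 : G) : G ⧸ M)).1 (by rwa [stabilizer_quotient])
  let F : G ⧸ M →ₑ[ψ.rangeRestrict] Fin n :=
    { toFun := e, map_smul' := fun g x => (hψ g x).symm }
  have hP : IsPreprimitive ψ.range (Fin n) := IsPreprimitive.of_surjective (f := F) e.surjective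
  have hmem : e.permCongr f ∈ alternatingGroup (Fin n) := by
    rw [Equiv.Perm.mem_alternatingGroup, Equiv.Perm.sign_permCongr, hf]
  obtain ⟨g, hg⟩ := hA ψ.range hP hmem
  refine ⟨g, fun x => e.injective ?_⟩
  rw [← hψ, hg, Equiv.permCongr_apply, Equiv.symm_apply_apply]

section

variable {X : Type*} [DecidableEq X] [Fintype X]

theorem sign_three {x y z : X} (hxy : x ≠ y) (hyz : y ≠ z) :
    Perm.sign (swap x y * swap y z) = 1 := by
  rw [map_mul, Perm.sign_swap hxy, Perm.sign_swap hyz]; rfl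

theorem three_apply {x y z : X} (hxy : x ≠ y) (hyz : y ≠ z) (hxz : x ≠ z) :
    (swap x y * swap y z) x = y ∧ (swap x y * swap y z) y = z ∧
      ∀ w, w ≠ x → w ≠ y → w ≠ z → (swap x y * swap y z) w = w := by
  refine ⟨?_, ?_, fun w h1 h2 h3 => ?_⟩
  · rw [Perm.mul_apply, swap_apply_of_ne_of_ne hxy hxz, swap_apply_left]
  · rw [Perm.mul_apply, swap_apply_left, swap_apply_of_ne_of_ne hxz.symm hyz.symm]
  · rw [Perm.mul_apply, swap_apply_of_ne_of_ne h2 h3, swap_apply_of_ne_of_ne h1 h2]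

end

/-- Let n be an odd positive integer such that every primitive permutation group of degree n contains the alternating group (so the symmetric and alternating groups are the only primitive groups of degree n). Let G be a finite group, M a maximal subgroup of G of index n, and H a maximal subgroup of M. Then H is a second maximal subgroup of G: H is maximal in every maximal subgroup K of G containing H. -/
theorem result {G : Type*} [Group G]
    [Finite G] (n : ℕ) (hodd : Odd n)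
    (hA : ∀ P : Subgroup (Equiv.Perm (Fin n)), MulAction.IsPreprimitive P (Fin n) → alternatingGroup (Fin n) ≤ P)
    (M : Subgroup G) (hM : IsCoatom M) (hn : M.index = n) (H : Subgroup G) (hHM : H ≤ M)
    (hmax : IsCoatom (H.subgroupOf M)) (K : Subgroup G) (hK : IsCoatom K) (hHK : H ≤ K) :
    IsCoatom (H.subgroupOf K) := by
  classical
  haveI : Finite (G ⧸ M) := inferInstance
  haveI : Fintype (G ⧸ M) := Fintype.ofFinite _
  have hsmul := exists_smul_eq_perm n hA M hM hn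
  set a : G ⧸ M := ((1 : G) : G ⧸ M) with ha
  have hstab : ∀ g : G, g • a = a ↔ g ∈ M := fun g => by
    rw [← mem_stabilizer_iff, ha, stabilizer_quotient]
  have hcard : Nat.card (G ⧸ M) = n := by rw [← Subgroup.index_eq_card, hn]
  have hHne : H ≠ M := fun h => hmax.1 (by rw [h, Subgroup.subgroupOf_self])
  have hmax' : ∀ S : Subgroup G, H ≤ S → S ≤ M → S = H ∨ S = M := fun S h1 h2 => by
    by_cases h : S.subgroupOf M = H.subgroupOf M
    · left
      exact le_antisymm (fun s hs => by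
        have h3 : (⟨s, h2 hs⟩ : M) ∈ S.subgroupOf M := hs
        rw [h] at h3; exact h3) h1
    · right
      have h3 := hmax.2 _ (lt_of_le_of_ne (fun x hx => h1 hx) (Ne.symm h))
      exact le_antisymm h2 (Subgroup.subgroupOf_eq_top.1 h3)
  rcases eq_or_ne K M with rfl | hKM
  · exact hmax
  have hKnot : ¬ K ≤ M := fun h => hKM ((hK.le_iff.1 h).resolve_left hM.1).symm
  have hKH : K ⊓ M = H := by
    refine (hmax' _ (le_inf hHK hHM) inf_le_right).resolve_right fun h => ?_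
    exact hKM ((hM.le_iff.1 (inf_eq_right.1 h)).resolve_left hK.1)
  refine ⟨fun h => ?_, fun L' hL' => ?_⟩
  · rw [Subgroup.subgroupOf_eq_top] at h
    exact hKnot (h.trans hHM)
  set L : Subgroup G := L'.map K.subtype with hLdef
  have hLK : L ≤ K := Subgroup.map_subtype_le _
  have hHL : H ≤ L := fun h hh => ⟨⟨h, hHK hh⟩, hL'.le hh, rfl⟩
  have hLM : ¬ L ≤ M := fun h => by
    refine hL'.ne (le_antisymm hL'.le fun x hx => ?_)
    have hxL : (x : G) ∈ L := ⟨x, hx, rfl⟩
    show (x : G) ∈ H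
    rw [← hKH]
    exact ⟨x.2, h hxL⟩
  -- it is enough that every point of the orbit of `K` is in the orbit of `L`
  suffices hmain : ∀ k ∈ K, ∃ l ∈ L, l • a = k • a by
    refine top_le_iff.1 fun x _ => ?_
    obtain ⟨l, hl, hla⟩ := hmain x x.2
    have h1 : l⁻¹ * (x : G) ∈ H := by
      rw [← hKH]
      exact ⟨K.mul_mem (K.inv_mem (hLK hl)) x.2,
        (hstab _).1 (by rw [mul_smul, ← hla, inv_smul_smul])⟩
    obtain ⟨y, hy, hyx⟩ : (x : G) ∈ L := by
      have := L.mul_mem hl (hHL h1)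
      rwa [mul_inv_cancel_left] at this
    rwa [← Subtype.ext (a1 := y) (a2 := x) hyx]
  intro k₀ hk₀
  by_cases hC : M.normalCore ≤ H
  swap
  · have h1 : H ⊔ M.normalCore = M := (hmax' _ le_sup_left (sup_le hHM (Subgroup.normalCore_le M))).resolve_left
      fun h => hC (h ▸ le_sup_right)
    have h2 : L ⊔ M.normalCore = ⊤ := hM.2 _ (lt_of_le_of_ne
      (h1.ge.trans (sup_le_sup_right hHL _)) fun h => hLM (h ▸ le_sup_left))
    have h3 : k₀ ∈ ((L ⊔ M.normalCore : Subgroup G) : Set G) := by rw [h2]; trivial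
    rw [Subgroup.mul_normal] at h3
    obtain ⟨l, hl, c, hc, rfl⟩ := Set.mem_mul.1 h3
    exact ⟨l, hl, by rw [mul_smul, (hstab c).2 (Subgroup.normalCore_le M hc)]⟩
  by_contra hno
  push Not at hno
  -- a second point in the orbit of `L`, and its orbit under `H`
  obtain ⟨l₀, hl₀, hl₀M⟩ := SetLike.not_le_iff_exists.1 hLM
  set b := l₀ • a with hb
  have hba : b ≠ a := fun h => hl₀M ((hstab _).1 h)
  let Δ : Set (G ⧸ M) := {x | ∃ h ∈ H, h • b = x}
  have hΔL : ∀ x ∈ Δ, ∃ l ∈ L, l • a = x := by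
    rintro _ ⟨h, hh, rfl⟩
    exact ⟨h * l₀, L.mul_mem (hHL hh) hl₀, by rw [mul_smul]⟩
  set x₀ := k₀ • a with hx₀
  have hx₀a : x₀ ≠ a := fun h => hno 1 L.one_mem (by rw [one_smul]; exact h.symm)
  have hx₀Δ : x₀ ∉ Δ := fun h => by
    obtain ⟨l, hl, e⟩ := hΔL _ h
    exact hno l hl e
  have hn3 : 3 ≤ n := by
    have h2 : 2 ≤ n := by
      rw [← hcard]
      exact Finite.one_lt_card_iff_nontrivial.2 ⟨⟨b, a, hba⟩⟩
    obtain ⟨j, hj⟩ := hodd
    omega
  -- `M` is transitive on the points other than `a`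
  have hMtrans : ∀ x y : G ⧸ M, x ≠ a → y ≠ a → ∃ g ∈ M, g • x = y := by
    intro x y hx hy
    rcases eq_or_ne x y with rfl | hxy
    · exact ⟨1, M.one_mem, one_smul _ _⟩
    by_cases hz : ∃ z, z ≠ a ∧ z ≠ x ∧ z ≠ y
    · obtain ⟨z, hza, hzx, hzy⟩ := hz
      obtain ⟨g, hg⟩ := hsmul _ (sign_three hxy hzy.symm)
      obtain ⟨e1, -, e3⟩ := three_apply hxy hzy.symm hzx.symm
      exact ⟨g, (hstab g).1 (by rw [hg, e3 a hx.symm hy.symm hza.symm]), by rw [hg, e1]⟩
    · push Not at hz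
      obtain ⟨m, hm, hmH⟩ := SetLike.not_le_iff_exists.1 fun h : M ≤ H => hHne (le_antisymm hHM h)
      have hmC : m ∉ M.normalCore := fun h => hmH (hC h)
      rw [Subgroup.normalCore_eq_ker, MonoidHom.mem_ker] at hmC
      obtain ⟨w, hw⟩ : ∃ w, m • w ≠ w := not_forall.1 fun hall => hmC (Equiv.ext hall)
      have hma : m • a = a := (hstab m).2 hm
      refine ⟨m, hm, ?_⟩
      have hwa : w ≠ a := fun e => hw (by rw [e, hma])
      have hmx : m • x ≠ a := fun e => hx ((MulAction.injective m) (e.trans hma.symm))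
      by_contra hne
      have hfx : m • x = x := by
        by_contra h'
        exact hne (hz _ hmx h')
      rcases eq_or_ne w x with rfl | hwx
      · exact hw hfx
      · have hwy : w = y := hz w hwa hwx
        have hmw : m • w ≠ a := fun e => hwa ((MulAction.injective m) (e.trans hma.symm))
        have : m • w = y := hz _ hmw fun e => hwx ((MulAction.injective m) (e.trans hfx.symm))
        exact hw (this.trans hwy.symm)
  -- `H` is the stabiliser of `Δ` in `M`
  have hbΔ : b ∈ Δ := ⟨1, H.one_mem, one_smul _ _⟩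
  have hHstab : ∀ g ∈ M, (∀ x, g • x ∈ Δ ↔ x ∈ Δ) → g ∈ H := by
    let S : Subgroup G :=
      { carrier := {g | g ∈ M ∧ ∀ x, g • x ∈ Δ ↔ x ∈ Δ}
        one_mem' := ⟨M.one_mem, fun x => by rw [one_smul]⟩
        mul_mem' := fun {g g'} hg hg' => ⟨M.mul_mem hg.1 hg'.1, fun x => by
          rw [mul_smul, hg.2, hg'.2]⟩
        inv_mem' := fun {g} hg => ⟨M.inv_mem hg.1, fun x => by
          rw [← hg.2, smul_inv_smul]⟩ }
    have hS : S = H := by
      refine (hmax' S (fun h hh => ⟨hHM hh, fun x => ⟨?_, ?_⟩⟩) fun g hg => hg.1).resolve_right fun hSM => ?_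
      · rintro ⟨h', hh', e⟩
        exact ⟨h⁻¹ * h', H.mul_mem (H.inv_mem hh) hh', by rw [mul_smul, e, inv_smul_smul]⟩
      · rintro ⟨h', hh', rfl⟩
        exact ⟨h * h', H.mul_mem hh hh', mul_smul _ _ _⟩
      · obtain ⟨g, hg, hgb⟩ := hMtrans b x₀ hba hx₀a
        rw [← hSM] at hg
        exact hx₀Δ (hgb ▸ (hg.2 b).2 hbΔ)
    exact fun g hg hg' => hS.le ⟨hg, hg'⟩
  have haΔ : a ∉ Δ := by
    rintro ⟨h, hh, e⟩
    exact hba ((MulAction.injective h) (e.trans ((hstab h).2 (hHM hh)).symm))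
  -- even permutations preserving `Δ` and fixing `a` come from `H`
  have hperm : ∀ f : Equiv.Perm (G ⧸ M), Equiv.Perm.sign f = 1 → f a = a →
      (∀ x, f x ∈ Δ ↔ x ∈ Δ) → ∃ h ∈ H, ∀ x, h • x = f x := by
    intro f hf hfa hfΔ
    obtain ⟨g, hg⟩ := hsmul f hf
    exact ⟨g, hHstab g ((hstab g).1 (by rw [hg, hfa])) (fun x => by rw [hg]; exact hfΔ x), hg⟩
  -- a 3-cycle away from `a` and `Δ`
  have hthree : ∀ x y z : G ⧸ M, x ≠ y → y ≠ z → x ≠ z → x ≠ a → y ≠ a → z ≠ a → x ∉ Δ → y ∉ Δ →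
      z ∉ Δ → ∃ h ∈ H, h • x = y ∧ h • y = z := by
    intro x y z hxy hyz hxz hx hy hz hxΔ hyΔ hzΔ
    obtain ⟨e1, e2, e3⟩ := three_apply hxy hyz hxz
    obtain ⟨h, hh, he⟩ := hperm _ (sign_three hxy hyz) (e3 a hx.symm hy.symm hz.symm) fun w => by
      rcases eq_or_ne w x with rfl | hwx
      · rw [e1]; exact iff_of_false hyΔ hxΔ
      rcases eq_or_ne w y with rfl | hwy
      · rw [e2]; exact iff_of_false hzΔ hyΔ
      rcases eq_or_ne w z with rfl | hwz
      · have hv : (swap x y * swap y w) w = x := by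
          rw [Equiv.Perm.mul_apply, swap_apply_right, swap_apply_right]
        rw [hv]; exact iff_of_false hxΔ hzΔ
      rw [e3 w hwx hwy hwz]
    exact ⟨h, hh, by rw [he, e1], by rw [he, e2]⟩
  -- `H` is transitive on the points outside `Δ ∪ {a}`
  have hΓ : ∀ x y : G ⧸ M, x ≠ a → y ≠ a → x ∉ Δ → y ∉ Δ → ∃ h ∈ H, h • x = y := by
    intro x y hx hy hxΔ hyΔ
    rcases eq_or_ne x y with rfl | hxy
    · exact ⟨1, H.one_mem, one_smul _ _⟩
    by_cases hz : ∃ z, z ≠ a ∧ z ∉ Δ ∧ z ≠ x ∧ z ≠ y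
    · obtain ⟨z, hza, hzΔ, hzx, hzy⟩ := hz
      obtain ⟨h, hh, e, -⟩ := hthree x y z hxy hzy.symm hzx.symm hx hy hza hxΔ hyΔ hzΔ
      exact ⟨h, hh, e⟩
    push Not at hz
    by_cases hv : ∃ v ∈ Δ, v ≠ b
    · obtain ⟨v, hv, hvb⟩ := hv
      have hxv : ∀ w ∈ Δ, w ≠ x ∧ w ≠ y := fun w hw => ⟨fun e => hxΔ (e ▸ hw), fun e => hyΔ (e ▸ hw)⟩
      obtain ⟨h, hh, he⟩ := hperm (swap x y * swap b v)
        (by rw [map_mul, Equiv.Perm.sign_swap hxy, Equiv.Perm.sign_swap hvb.symm]; rfl)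
        (by rw [Equiv.Perm.mul_apply, swap_apply_of_ne_of_ne hba.symm (fun e : a = v => haΔ (e ▸ hv)),
              swap_apply_of_ne_of_ne hx.symm hy.symm])
        fun w => by
          rw [Equiv.Perm.mul_apply]
          rcases eq_or_ne w b with rfl | hwb
          · rw [swap_apply_left, swap_apply_of_ne_of_ne (hxv v hv).1 (hxv v hv).2]
            exact iff_of_true hv hbΔ
          rcases eq_or_ne w v with rfl | hwv
          · rw [swap_apply_right, swap_apply_of_ne_of_ne (hxv b hbΔ).1 (hxv b hbΔ).2]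
            exact iff_of_true hbΔ hv
          rw [swap_apply_of_ne_of_ne hwb hwv]
          rcases eq_or_ne w x with rfl | hwx
          · rw [swap_apply_left]; exact iff_of_false hyΔ hxΔ
          rcases eq_or_ne w y with rfl | hwy
          · rw [swap_apply_right]; exact iff_of_false hxΔ hyΔ
          rw [swap_apply_of_ne_of_ne hwx hwy]
      exact ⟨h, hh, by rw [he, Equiv.Perm.mul_apply, swap_apply_of_ne_of_ne (hxv b hbΔ).1.symm
        (hxv v hv).1.symm, swap_apply_left]⟩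
    · push Not at hv
      exfalso
      have hbx : b ≠ x := fun e => hxΔ (e ▸ hbΔ)
      have hby : b ≠ y := fun e => hyΔ (e ▸ hbΔ)
      have hall : (Finset.univ : Finset (G ⧸ M)) = {a, b, x, y} := by
        refine Finset.eq_of_subset_of_card_le (fun w _ => ?_) (Finset.card_le_card (Finset.subset_univ _))
        simp only [Finset.mem_insert, Finset.mem_singleton]
        by_contra hw
        push Not at hw
        by_cases hwΔ : w ∈ Δ
        · exact hw.2.1 (hv w hwΔ)
        · exact hw.2.2.2 (hz w hw.1 hwΔ hw.2.2.1)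
      have h4 : n = 4 := by
        rw [← hcard, Nat.card_eq_fintype_card, ← Finset.card_univ, hall]
        rw [Finset.card_insert_of_notMem, Finset.card_insert_of_notMem,
          Finset.card_insert_of_notMem, Finset.card_singleton] <;>
          simp [hxy, hba.symm, hx.symm, hy.symm, hbx, hby]
      subst h4
      exact absurd hodd (by decide)
  -- the orbit of `L` is `{a} ∪ Δ`
  have hB : ∀ x, (∃ l ∈ L, l • a = x) ↔ x = a ∨ x ∈ Δ := fun x => by
    refine ⟨fun ⟨l, hl, e⟩ => ?_, ?_⟩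
    · by_contra hx
      push Not at hx
      obtain ⟨h, hh, he⟩ := hΓ x x₀ hx.1 hx₀a hx.2 hx₀Δ
      exact hno (h * l) (L.mul_mem (hHL hh) hl) (by rw [mul_smul, e, he, hx₀])
    · rintro (rfl | hx)
      · exact ⟨1, L.one_mem, one_smul _ _⟩
      · exact hΔL x hx
  have hblock : ∀ k ∈ K, ∀ x, (∃ l ∈ L, l • a = x) → (∃ l ∈ L, l • a = k • x) → k ∈ L := by
    rintro k hk _ ⟨l, hl, rfl⟩ ⟨l', hl', e⟩
    have h1 : l'⁻¹ * (k * l) ∈ H := by
      rw [← hKH]
      exact ⟨K.mul_mem (K.inv_mem (hLK hl')) (K.mul_mem hk (hLK hl)),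
        (hstab _).1 (by rw [mul_smul, mul_smul, ← e, inv_smul_smul])⟩
    have h2 := L.mul_mem (L.mul_mem hl' (hHL h1)) (L.inv_mem hl)
    rwa [mul_inv_cancel_left, mul_inv_cancel_right] at h2
  have hLorbit : ∀ l ∈ L, ∀ x, (∃ l' ∈ L, l' • a = x) → ∃ l' ∈ L, l' • a = l • x := by
    rintro l hl _ ⟨l', hl', rfl⟩
    exact ⟨l * l', L.mul_mem hl hl', mul_smul _ _ _⟩
  have hk₀L : k₀ ∉ L := fun h => hno k₀ h rfl
  set y := k₀ • b with hy
  have hyB : ¬ ∃ l ∈ L, l • a = y := fun h => hk₀L (hblock k₀ hk₀ b ⟨l₀, hl₀, rfl⟩ h)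
  rw [hB, not_or] at hyB
  have hxy : x₀ ≠ y := fun e => hba ((MulAction.injective k₀) e).symm
  -- a point outside both translates
  obtain ⟨z, hzB, hzk⟩ : ∃ z, (¬ ∃ l ∈ L, l • a = z) ∧ ¬ ∃ l ∈ L, l • a = k₀⁻¹ • z := by
    by_contra hcov
    push Not at hcov
    let B : Finset (G ⧸ M) := Finset.univ.filter fun x => ∃ l ∈ L, l • a = x
    have h1 : Bᶜ = B.image (k₀ • ·) := by
      ext w
      simp only [B, Finset.mem_compl, Finset.mem_image, Finset.mem_filter, Finset.mem_univ, true_and]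
      constructor
      · intro hw
        exact ⟨k₀⁻¹ • w, hcov w fun l hl e => hw ⟨l, hl, e⟩, smul_inv_smul _ _⟩
      · rintro ⟨v, hv, rfl⟩ hw
        exact hk₀L (hblock k₀ hk₀ v hv hw)
    have h2 := Finset.card_add_card_compl B
    rw [h1, Finset.card_image_of_injective _ (MulAction.injective k₀), ← Nat.card_eq_fintype_card,
      hcard] at h2
    obtain ⟨j, hj⟩ := hodd
    omega
  have hz' := hzB
  rw [hB, not_or] at hz'
  have hzx : x₀ ≠ z := fun e => hzk ⟨1, L.one_mem, by rw [one_smul, ← e, hx₀, inv_smul_smul]⟩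
  have hzy : y ≠ z := fun e => hzk ⟨l₀, hl₀, by rw [← e, hy, inv_smul_smul]⟩
  obtain ⟨h, hh, e1, e2⟩ := hthree x₀ y z hxy hzy hzx hx₀a hyB.1 hz'.1 hx₀Δ hyB.2 hz'.2
  have hk' : k₀⁻¹ * h * k₀ ∈ K := K.mul_mem (K.mul_mem (K.inv_mem hk₀) (hHK hh)) hk₀
  have e3 : (k₀⁻¹ * h * k₀) • a = b := by rw [mul_smul, mul_smul, ← hx₀, e1, hy, inv_smul_smul]
  have e4 : (k₀⁻¹ * h * k₀) • b = k₀⁻¹ • z := by rw [mul_smul, mul_smul, ← hy, e2]
  have hmem : k₀⁻¹ * h * k₀ ∈ L :=
    hblock _ hk' a ⟨1, L.one_mem, one_smul _ _⟩ ⟨l₀, hl₀, e3.symm⟩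
  obtain ⟨l', hl', e5⟩ := hLorbit _ hmem b ⟨l₀, hl₀, rfl⟩
  exact hzk ⟨l', hl', e5.trans e4⟩

end Cfsg.Agent.S5885
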