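import Cfsg.Statements.S5887
import Cfsg.Agent.Lib.Aschbacher.Proper

set_option autoImplicit false
open Cfsg

namespace Cfsg.Agent.S5887

open scoped Matrix

/-- The case of an abstract field inside the matrices. -/
theorem not_maximal {F : Type*} [Field F] [Fintype F] {K : Type*} [Field K] [Finite K] [Algebra F K]
    {n r s c : ℕ} (hc : r = s * c) (hs2 : 2 ≤ s) (hslt : s < r) (hrn : 2 * r ≤ n)
    (hr : Module.finrank F K = r) (μ : K →ₐ[F] Matrix (Fin n) (Fin n) F) :
    ¬ IsCoatom (Cfsg.Geo.subalgebraNormalizer μ.range) ∧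
      ¬ Cfsg.Geo.IsMaximalIn (Cfsg.Geo.specialLinear (Fin n) F)
        (Cfsg.Geo.subalgebraNormalizer μ.range ⊓ Cfsg.Geo.specialLinear (Fin n) F) := by
  classical
  haveI : Fintype K := Fintype.ofFinite K
  have hn4 : 4 ≤ n := by omega
  haveI : NeZero n := ⟨by omega⟩
  set q := Fintype.card F with hqdef
  have hq2 : 2 ≤ q := Fintype.one_lt_card
  have hKcard : Nat.card K = q ^ r := by
    rw [Nat.card_eq_fintype_card, Module.card_eq_pow_finrank (K := F) (V := K), hr]
  obtain ⟨p, _⟩ := CharP.exists F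
  obtain ⟨⟨e, he⟩, hp, hqe⟩ := FiniteField.card F p
  haveI : Fact p.Prime := ⟨hp⟩
  haveI : CharP K p := charP_of_injective_algebraMap (algebraMap F K).injective p
  haveI : ExpChar K p := ExpChar.prime hp
  have hqs : q ^ s = p ^ (e * s) := by rw [hqdef, hqe, ← pow_mul]; rfl
  let E₀ : IntermediateField F K :=
    { carrier := {x | x ^ q ^ s = x}
      mul_mem' := fun {a b} (ha : a ^ q ^ s = a) (hb : b ^ q ^ s = b) => by
        show (a * b) ^ q ^ s = a * b
        rw [mul_pow, ha, hb]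
      add_mem' := fun {a b} (ha : a ^ q ^ s = a) (hb : b ^ q ^ s = b) => by
        show (a + b) ^ q ^ s = a + b
        rw [hqs] at ha hb ⊢
        rw [add_pow_char_pow, ha, hb]
      algebraMap_mem' := fun a => by
        show algebraMap F K a ^ q ^ s = algebraMap F K a
        rw [← map_pow, hqdef, FiniteField.pow_card_pow]
      inv_mem' := fun x (hx : x ^ q ^ s = x) => by
        show x⁻¹ ^ q ^ s = x⁻¹
        rw [inv_pow, hx] }
  let E : Subalgebra F (Matrix (Fin n) (Fin n) F) := E₀.toSubalgebra.map μ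
  have hEK : E ≤ μ.range := by rintro _ ⟨x, -, rfl⟩; exact ⟨x, rfl⟩
  have hμ : Function.Injective μ := μ.toRingHom.injective
  have hmemE : ∀ x, x ∈ E ↔ x ∈ μ.range ∧ x ^ q ^ s = x := by
    refine fun x => ⟨?_, ?_⟩
    · rintro ⟨y, hy, rfl⟩
      refine ⟨⟨y, rfl⟩, ?_⟩
      show μ y ^ q ^ s = μ y
      rw [← map_pow, show y ^ q ^ s = y from hy]
    · rintro ⟨⟨y, rfl⟩, h⟩
      refine ⟨y, hμ ?_, rfl⟩
      rw [map_pow]
      exact h
  -- elements of given orders
  obtain ⟨γ, hγ⟩ := IsCyclic.exists_generator (α := Kˣ)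
  have hγo : orderOf γ = q ^ r - 1 := by
    rw [orderOf_eq_card_of_forall_mem_zpowers hγ, Nat.card_units, hKcard]
  have hmono : q ^ 1 < q ^ s ∧ q ^ s < q ^ r :=
    ⟨Nat.pow_lt_pow_right (by omega) (by omega), Nat.pow_lt_pow_right (by omega) hslt⟩
  rw [pow_one] at hmono
  -- an element of K outside E
  have hKE : μ (γ : K) ∉ E := by
    rw [hmemE]
    rintro ⟨-, h⟩
    have h' : γ ^ (q ^ s - 1) = 1 := by
      have h2 : γ ^ (q ^ s) = γ := Units.ext (hμ (by rw [Units.val_pow_eq_pow_val, map_pow]; exact h))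
      rw [show q ^ s = q ^ s - 1 + 1 by omega, pow_succ] at h2
      exact mul_eq_right.1 h2
    have := Nat.le_of_dvd (by omega) (orderOf_dvd_of_pow_eq_one h')
    omega
  -- a unit of E outside the scalars
  obtain ⟨d, hd⟩ : (q ^ s - 1) ∣ q ^ r - 1 := Nat.pow_sub_one_dvd_pow_sub_one q ⟨c, hc⟩
  have hd0 : d ≠ 0 := by rintro rfl; omega
  have hδo : orderOf (γ ^ d) = q ^ s - 1 := by
    rw [orderOf_pow_of_dvd hd0 (hγo ▸ hd ▸ dvd_mul_left d _), hγo, hd, Nat.mul_div_cancel _ (by omega)]
  let u : GL (Fin n) F := Units.map (μ : K →* Matrix (Fin n) (Fin n) F) (γ ^ d)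
  have hin : ∀ k : Kˣ, k ^ (q ^ s - 1) = 1 → μ (k : K) ∈ E := by
    intro k hk
    refine (hmemE _).2 ⟨⟨k, rfl⟩, ?_⟩
    have : (k : K) ^ q ^ s = k := by
      rw [show q ^ s = q ^ s - 1 + 1 by omega, pow_succ, ← Units.val_pow_eq_pow_val, hk,
        Units.val_one, one_mul]
    rw [← map_pow, this]
  have hu : u ∈ Cfsg.Agent.Aschbacher.algUnits E := by
    have hpo : (γ ^ d) ^ (q ^ s - 1) = 1 := by rw [← hδo]; exact pow_orderOf_eq_one _
    refine ⟨hin _ hpo, ?_⟩
    rw [show u⁻¹ = Units.map (μ : K →* Matrix (Fin n) (Fin n) F) (γ ^ d)⁻¹ from (map_inv _ _).symm]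
    exact hin _ (by rw [inv_pow, hpo, inv_one])
  have hus : u ∉ Cfsg.Geo.scalars (Fin n) F := by
    rintro ⟨a, ha⟩
    have : (γ ^ d) ^ (q - 1) = 1 := by
      refine Units.map_injective (f := (μ : K →* Matrix (Fin n) (Fin n) F)) hμ ?_
      rw [map_pow, map_one]
      show u ^ (q - 1) = 1
      rw [← ha, ← map_pow, show a ^ (q - 1) = 1 from Units.ext (by
        rw [Units.val_pow_eq_pow_val, hqdef, FiniteField.pow_card_sub_one_eq_one _ a.ne_zero,
          Units.val_one]), map_one]
    have := Nat.le_of_dvd (by omega) (orderOf_dvd_of_pow_eq_one this)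
    omega
  have hEtop : E ≠ ⊤ := by
    intro h
    have h1 : (Matrix.single (0 : Fin n) (⟨1, by omega⟩ : Fin n) (1 : F)) ∈ μ.range :=
      hEK (h ▸ Algebra.mem_top)
    have h2 : (Matrix.single (⟨1, by omega⟩ : Fin n) (0 : Fin n) (1 : F)) ∈ μ.range :=
      hEK (h ▸ Algebra.mem_top)
    obtain ⟨k1, hk1⟩ := h1
    obtain ⟨k2, hk2⟩ := h2
    have h3 := congrArg μ (mul_comm k1 k2)
    rw [map_mul, map_mul, show μ k1 = _ from hk1, show μ k2 = _ from hk2] at h3
    rw [Matrix.single_mul_single_same, Matrix.single_mul_single_same, one_mul] at h3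
    have := congrFun (congrFun h3 0) 0
    simp [Matrix.single_apply, Fin.ext_iff] at this
  have hnot : ¬ Cfsg.Geo.specialLinear (Fin n) F ≤ Cfsg.Geo.subalgebraNormalizer E := by
    intro h
    exact Cfsg.Agent.Aschbacher.not_sl_normalises (by rw [Fintype.card_fin]; omega) hEtop hu hus
      fun g hg x hx => (h hg x).1 hx
  have hle : Cfsg.Geo.subalgebraNormalizer μ.range ≤ Cfsg.Geo.subalgebraNormalizer E := by
    intro g hg k
    show k ∈ E ↔ Cfsg.Agent.Aschbacher.cj g k ∈ E
    rw [hmemE, hmemE, ← map_pow, (Cfsg.Agent.Aschbacher.cj g).injective.eq_iff]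
    exact and_congr_left fun _ => hg k
  -- an E-linear transvection
  let x : K := (γ : K)
  letI : Module K (Fin n → F) :=
    Module.compHom (Fin n → F) ((Matrix.toLinAlgEquiv'.toAlgHom.comp μ).toRingHom)
  have hsmul : ∀ (k : K) (v : Fin n → F), k • v = μ k *ᵥ v :=
    fun k v => Matrix.toLinAlgEquiv'_apply _ _
  haveI : IsScalarTower F K (Fin n → F) := ⟨fun a k v => by
    rw [hsmul, hsmul, map_smul, Matrix.smul_mulVec]⟩
  obtain ⟨v0, hv0⟩ : ∃ v : Fin n → F, v ≠ 0 := ⟨Pi.single 0 1, by simp⟩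
  obtain ⟨z, hz⟩ : ∃ z : Fin n → F, ∀ k : K, z ≠ k • v0 := by
    by_contra hno
    push Not at hno
    have hsurj : Function.Surjective ((LinearMap.toSpanSingleton K (Fin n → F) v0).restrictScalars F) :=
      fun z => by
        obtain ⟨k, hk⟩ := hno z
        exact ⟨k, hk.symm⟩
    have := LinearMap.finrank_range_le ((LinearMap.toSpanSingleton K (Fin n → F) v0).restrictScalars F)
    rw [LinearMap.range_eq_top.2 hsurj, finrank_top] at this
    rw [Module.finrank_fin_fun, hr] at this
    omega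
  let P : Submodule E₀ (Fin n → F) := Submodule.span E₀ {v0, z}
  have hxz : x • z ∉ P := by
    intro hmem
    obtain ⟨a, b, hab⟩ := Submodule.mem_span_pair.1 hmem
    have h1 : (a : K) • v0 = (x - (b : K)) • z := by
      rw [sub_smul, ← hab]
      exact (add_sub_cancel_right _ _).symm
    by_cases hb : x - (b : K) = 0
    · exact hKE ⟨b, b.2, congrArg μ (sub_eq_zero.1 hb).symm⟩
    · exact hz ((x - (b : K))⁻¹ * a) (by rw [mul_smul, h1, inv_smul_smul₀ hb])
  obtain ⟨φ, hφx, hφP⟩ := Submodule.exists_dual_map_eq_bot_of_notMem hxz inferInstance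
  have hφ : ∀ w ∈ P, φ w = 0 := fun w hw => by
    have : φ w ∈ P.map φ := ⟨w, hw, rfl⟩
    rw [hφP] at this
    exact this
  have hφ0 : φ v0 = 0 := hφ _ (Submodule.subset_span (Set.mem_insert _ _))
  have hφz : φ z = 0 := hφ _ (Submodule.subset_span (Set.mem_insert_of_mem _ rfl))
  let Nl : (Fin n → F) →ₗ[F] (Fin n → F) :=
    { toFun := fun w => (φ w : K) • v0
      map_add' := fun a b => by rw [map_add, IntermediateField.coe_add, add_smul]
      map_smul' := fun a b => by
        rw [RingHom.id_apply, show a • b = algebraMap F E₀ a • b from (by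
          show a • b = algebraMap F K a • b
          rw [algebraMap_smul]), map_smul, smul_eq_mul, IntermediateField.coe_mul, mul_smul]
        exact algebraMap_smul K a _ }
  let N : Matrix (Fin n) (Fin n) F := LinearMap.toMatrix' Nl
  have hN : ∀ w, N *ᵥ w = (φ w : K) • v0 := fun w => LinearMap.toMatrix'_mulVec _ _
  have hNN : N * N = 0 := by
    refine Matrix.ext_of_mulVec_single fun i => ?_
    rw [← Matrix.mulVec_mulVec, Matrix.zero_mulVec, hN, hN,
      show φ ((φ (Pi.single i 1) : K) • v0) = φ (Pi.single i 1) • φ v0 from φ.map_smul _ v0, hφ0,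
      smul_zero, ZeroMemClass.coe_zero, zero_smul]
  let g : GL (Fin n) F := ⟨1 + N, 1 - N,
    by rw [mul_sub, mul_one, add_mul, one_mul, hNN, add_zero, add_sub_cancel_right],
    by rw [sub_mul, one_mul, mul_add, mul_one, hNN, add_zero, add_sub_cancel_right]⟩
  have hgE : g ∈ Cfsg.Geo.subalgebraNormalizer E := by
    have hcomm : ∀ k ∈ E, N * k = k * N := by
      rintro _ ⟨k, hk, rfl⟩
      refine Matrix.ext_of_mulVec_single fun i => ?_
      rw [← Matrix.mulVec_mulVec, ← Matrix.mulVec_mulVec]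
      show N *ᵥ (μ k *ᵥ _) = μ k *ᵥ _
      rw [← hsmul, ← hsmul, hN, hN,
        show φ (k • Pi.single i 1) = (⟨k, hk⟩ : E₀) • φ (Pi.single i 1) from φ.map_smul ⟨k, hk⟩ _,
        smul_eq_mul, IntermediateField.coe_mul, mul_smul]
    intro k
    show k ∈ E ↔ (g : Matrix (Fin n) (Fin n) F) * k * ((g⁻¹ : GL (Fin n) F) : Matrix (Fin n) (Fin n) F) ∈ E
    have key : ∀ k ∈ E, (g : Matrix (Fin n) (Fin n) F) * k * ((g⁻¹ : GL (Fin n) F) : Matrix (Fin n) (Fin n) F) = k := by
      intro k hk
      rw [Units.mul_inv_eq_iff_eq_mul]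
      show (1 + N) * k = k * (1 + N)
      rw [add_mul, mul_add, one_mul, mul_one, hcomm k hk]
    refine ⟨fun hk => by rw [key k hk]; exact hk, fun hk => ?_⟩
    have h := key _ hk
    rw [Units.mul_inv_eq_iff_eq_mul] at h
    have h2 : (g : Matrix (Fin n) (Fin n) F) * k * ((g⁻¹ : GL (Fin n) F) : Matrix (Fin n) (Fin n) F) = k := by
      refine g.isUnit.mul_left_cancel ?_
      rw [h, Units.inv_mul_cancel_right]
    rwa [h2] at hk
  have hgS : g ∈ Cfsg.Geo.specialLinear (Fin n) F := by
    show Matrix.GeneralLinearGroup.det g = 1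
    refine Units.ext ?_
    show (1 + N).det = 1
    haveI : CharP F p := ‹_›
    haveI : CharP (Matrix (Fin n) (Fin n) F) p := Matrix.charP p
    have h1 : (1 + N) ^ p = 1 := by
      rw [add_pow_char_of_commute _ (Commute.one_left N), one_pow,
        show p = 2 + (p - 2) by have := hp.two_le; omega, pow_add, sq, hNN, zero_mul, add_zero]
    have h2 : ((1 + N).det - 1) ^ p = 0 := by
      rw [sub_pow_char, one_pow, ← Matrix.det_pow, h1, Matrix.det_one, sub_self]
    exact sub_eq_zero.1 (pow_eq_zero_iff hp.ne_zero |>.1 h2)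
  have hgK : g ∉ Cfsg.Geo.subalgebraNormalizer μ.range := by
    intro hg
    obtain ⟨y, hy'⟩ := (hg (μ x)).1 ⟨x, rfl⟩
    have hy : (g : Matrix (Fin n) (Fin n) F) * μ x = μ y * (g : Matrix (Fin n) (Fin n) F) := by
      rw [show μ y = _ from hy', Units.inv_mul_cancel_right]
    have h := congrArg (fun M => M *ᵥ z) hy
    simp only [← Matrix.mulVec_mulVec] at h
    change (1 + N) *ᵥ (μ x *ᵥ z) = μ y *ᵥ ((1 + N) *ᵥ z) at h
    rw [Matrix.add_mulVec, Matrix.add_mulVec, Matrix.one_mulVec, Matrix.one_mulVec, hN, hN, hφz,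
      ← hsmul, ZeroMemClass.coe_zero, zero_smul, add_zero, ← hsmul] at h
    have h' : (φ (x • z) : K) • v0 = (y - x) • z := by
      rw [sub_smul, ← h]
      exact (add_sub_cancel_left _ _).symm
    by_cases hyx : y - x = 0
    · rw [hyx, zero_smul] at h'
      exact (smul_ne_zero (fun e => hφx (Subtype.ext e)) hv0) h'
    · exact hz ((y - x)⁻¹ * φ (x • z)) (by rw [mul_smul, h', inv_smul_smul₀ hyx])
  constructor
  · intro hco
    rcases eq_or_lt_of_le hle with heq | hlt'
    · exact hgK (heq ▸ hgE)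
    · exact hnot (by rw [hco.2 _ hlt']; exact le_top)
  · intro hmax
    rcases hmax.2 (Cfsg.Geo.subalgebraNormalizer E ⊓ Cfsg.Geo.specialLinear (Fin n) F)
      (inf_le_inf_right _ hle) inf_le_right with h | h
    · have hgm : g ∈ Cfsg.Geo.subalgebraNormalizer E ⊓ Cfsg.Geo.specialLinear (Fin n) F := ⟨hgE, hgS⟩
      rw [h] at hgm
      exact hgK hgm.1
    · exact hnot (h.ge.trans inf_le_left)

/-- Let F be a finite field, n a positive integer and r a composite number (r > 1, not prime) that divides n with r < n. Let K be a subalgebra of the algebra of n × n matrices over F which is a field of degree r over F (commutative, every non-zero element invertible, of dimension r over F). Then the normaliser N of K in GL_n(F) (a group of type ΓL_{n/r}(F_{q^r})) is not a maximal subgroup of GL_n(F), and N ∩ SL_n(F) is not a maximal subgroup of SL_n(F): both lie properly inside the normaliser of an intermediate subfield of prime degree over F. -/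
theorem result {F : Type*} [Field F]
    [Fintype F] (n r : ℕ) (hr1 : 1 < r) (hrp : ¬ r.Prime) (hrn : r ∣ n) (hlt : r < n)
    (K : Subalgebra F (Matrix (Fin n) (Fin n) F)) (hK : Cfsg.Geo.IsFieldSubalgebra r K) :
    ¬ IsCoatom (Cfsg.Geo.subalgebraNormalizer K) ∧
      ¬ Cfsg.Geo.IsMaximalIn (Cfsg.Geo.specialLinear (Fin n) F)
        (Cfsg.Geo.subalgebraNormalizer K ⊓ Cfsg.Geo.specialLinear (Fin n) F) := by
  obtain ⟨s, hsr, hs2, hslt⟩ := Nat.exists_dvd_of_not_prime2 (by omega) hrp
  obtain ⟨c, hc⟩ := hsr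
  obtain ⟨e, he⟩ := hrn
  have he2 : 2 ≤ e := by
    rcases e with _ | _ | e <;> first | omega | (simp at he; omega)
  have h2r : 2 * r ≤ n := by rw [he, Nat.mul_comm 2 r]; exact Nat.mul_le_mul_left r he2
  haveI : NeZero n := ⟨by omega⟩
  have hfield : IsField K :=
    { exists_pair_ne := ⟨0, 1, fun h => zero_ne_one (congrArg Subtype.val h)⟩
      mul_comm := fun a b => Subtype.ext (hK.comm _ a.2 _ b.2)
      mul_inv_cancel := fun {a} ha => by
        obtain ⟨y, hy, hy1⟩ := hK.inv a.1 a.2 (fun h => ha (Subtype.ext h))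
        exact ⟨⟨y, hy⟩, Subtype.ext hy1⟩ }
  letI := hfield.toField
  haveI : Finite K := Module.finite_of_finite F
  have h := not_maximal (K := K) hc hs2 hslt h2r hK.finrank_eq K.val
  rwa [Subalgebra.range_val] at h

end Cfsg.Agent.S5887
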