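import Cfsg.Statements.S5890
import Cfsg.Agent.Lib.Classical.DicksonPGLMax
import Cfsg.Agent.Lib.Classical.DicksonSubfield
import Cfsg.Agent.S0805

set_option autoImplicit false
open Cfsg

namespace Cfsg.Agent.S5890

open Cfsg.Agent in
theorem core {F : Type*} [Field F] [Fintype F] (p : ℕ) [Fact p.Prime] [CharP F p]
    (h4 : 4 ≤ Fintype.card F) (h7 : Fintype.card F ≠ 7) (h9 : Fintype.card F ≠ 9) (h11 : Fintype.card F ≠ 11)
    (h40 : (Fintype.card F).Prime → Fintype.card F % 40 ∉ ({11, 19, 21, 29} : Finset ℕ))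
    (hodd : Fintype.card F % 2 = 1)
    {M : Subgroup (Matrix.ProjGenLinGroup (Fin 2) F)} (hM : IsCoatom M)
    (hML : ¬ (Matrix.ProjectiveSpecialLinearGroup.toPGL (n := Fin 2) (R := F)).range ≤ M) :
    IsCoatom (M.comap (Matrix.ProjectiveSpecialLinearGroup.toPGL (n := Fin 2) (R := F))) := by
  classical
  have hp := (Fact.out : p.Prime)
  have hcard : Nat.card F = Fintype.card F := Nat.card_eq_fintype_card
  have hodd' : Nat.card F % 2 = 1 := hcard ▸ hodd
  have h5 : 5 ≤ Nat.card F := by omega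
  have hz := Dickson.zz_eq_two (F := F) hodd'
  have hP := Dickson.zz_mul_card (F := F)
  rw [hz] at hP
  have hp2 : p ≠ 2 := by
    rintro rfl
    exact Dickson.two_ne (F := F) hodd' (by exact_mod_cast CharP.cast_eq_zero F 2)
  have hne := Dickson.comap_ne_top hML
  set M₀ := M.comap (Matrix.ProjectiveSpecialLinearGroup.toPGL (n := Fin 2) (R := F)) with hM₀
  refine ⟨hne, fun G hG => ?_⟩
  by_contra hGt
  have hlt : Nat.card M₀ < Nat.card G := Set.ncard_lt_ncard (SetLike.coe_ssubset_coe.2 hG) (Set.toFinite _)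
  have hdG := G.card_subgroup_dvd_card
  have hsub := Subgroup.card_dvd_of_le hG.le
  rcases Dickson.pgl_maximal p hodd' h5 hM hML with
    ⟨S, hS, -⟩ | ⟨k, hk, h3k, -, ⟨e⟩⟩ | ⟨hqp, h8, -, ⟨e⟩⟩ | ⟨K, i1, i2, m, hm, hmodd, hKm, -, ⟨e⟩⟩
  · have hN := Dickson.card_normalizer_sylow p S
    rw [hz, ← hS] at hN
    obtain ⟨n, -, hn⟩ := FiniteField.card F p
    rw [← hcard] at hn
    have hqd : Nat.card F ∣ Nat.card G := by
      have h1 : Nat.card F ∣ 2 * Nat.card M₀ := hN ▸ dvd_mul_right _ _
      exact ((Nat.coprime_two_right.2 (Nat.odd_iff.2 hodd')).dvd_of_dvd_mul_left h1).trans hsub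
    have hpd : p ∣ Nat.card F := hn ▸ dvd_pow_self p n.ne_zero
    rcases Dickson.classify_proper' p hGt with ⟨c, hc, hc'⟩ | ⟨S', hS'⟩ | ⟨-, h3, ⟨f⟩⟩ | ⟨-, h3, ⟨f⟩⟩ |
      ⟨-, h5', ⟨f⟩⟩ | ⟨K, _, _, m, hm, hKm, -, hh⟩
    · rw [hz] at hc
      have hpc : p ∣ 2 * c := by
        rcases hc' with ⟨-, h⟩ | ⟨⟨f⟩⟩
        · exact ((hpd.trans hqd).trans h.dvd).mul_left 2
        · have h := (hpd.trans hqd).trans (Nat.card_congr f.toEquiv).dvd
          rwa [DihedralGroup.nat_card] at h
      rcases hc with h' | h'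
      · exact hp.not_dvd_one ((Nat.dvd_add_right hpd).1 (hpc.trans h'))
      · have h' := Nat.dvd_sub hpd (hpc.trans h')
        rw [Nat.sub_sub_self (by omega)] at h'
        exact hp.not_dvd_one h'
    · have h1 := Dickson.card_normalizer_sylow p S'
      rw [hz] at h1
      have := Subgroup.card_le_of_le hS'
      have h2 := Nat.eq_of_mul_eq_mul_left two_pos (hN.trans h1.symm)
      rw [← hM₀] at h2; omega
    · have h := (hpd.trans hqd).trans (Nat.card_congr f.toEquiv).dvd
      rw [Dickson.card_a4] at h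
      rcases (Nat.Prime.dvd_mul hp).1 (show p ∣ 2 ^ 2 * 3 from h) with h' | h'
      · exact hp2 ((Nat.prime_dvd_prime_iff_eq hp Nat.prime_two).1 (hp.dvd_of_dvd_pow h'))
      · exact h3 ((Nat.prime_dvd_prime_iff_eq hp Nat.prime_three).1 h')
    · have h := (hpd.trans hqd).trans (Nat.card_congr f.toEquiv).dvd
      rw [Dickson.card_s4] at h
      rcases (Nat.Prime.dvd_mul hp).1 (show p ∣ 2 ^ 3 * 3 from h) with h' | h'
      · exact hp2 ((Nat.prime_dvd_prime_iff_eq hp Nat.prime_two).1 (hp.dvd_of_dvd_pow h'))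
      · exact h3 ((Nat.prime_dvd_prime_iff_eq hp Nat.prime_three).1 h')
    · rw [Nat.card_congr f.toEquiv, Dickson.card_a5] at hlt hsub hqd
      have hq60 := Nat.le_of_dvd (by norm_num) hqd
      have : Nat.card F = 5 ∨ Nat.card F = 15 := by
        interval_cases h : Nat.card F <;> omega
      rcases this with h | h
      · rw [h] at hn
        exact h5' ((Nat.prime_dvd_prime_iff_eq hp Nat.prime_five).1 (hn ▸ dvd_pow_self p n.ne_zero))
      · rw [h] at hn
        have e3 := (Nat.prime_dvd_prime_iff_eq Nat.prime_three hp).1 (Nat.prime_three.dvd_of_dvd_pow (hn ▸ (by norm_num : 3 ∣ 15)))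
        have e5 := (Nat.prime_dvd_prime_iff_eq Nat.prime_five hp).1 (Nat.prime_five.dvd_of_dvd_pow (hn ▸ (by norm_num : 5 ∣ 15)))
        omega
    · have hdk : Nat.card F ∣ Nat.card K * (Nat.card K ^ 2 - 1) := by
        refine hqd.trans ?_
        rcases hh with ⟨⟨f⟩⟩ | ⟨⟨f⟩⟩
        · rw [Nat.card_congr f.toEquiv, ← Dickson.gcd_mul_card_psl]; exact dvd_mul_left _ _
        · rw [Nat.card_congr f.toEquiv, Dickson.card_pgl2]
      rw [← Nat.card_eq_fintype_card] at hKm
      rw [← hKm] at hdk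
      have hk1 : 1 < Nat.card K := Finite.one_lt_card
      have hco : Nat.Coprime (Nat.card K) (Nat.card K ^ 2 - 1) :=
        Nat.Coprime.coprime_dvd_left (dvd_pow_self _ two_ne_zero)
          ((Nat.coprime_self_sub_right (Nat.one_le_pow 2 _ (by omega))).2 (Nat.coprime_one_right _))
      have h1 := Nat.le_of_dvd (by omega) ((hco.pow_left m).dvd_of_dvd_mul_right hdk)
      exact absurd h1 (not_le.2 (lt_self_pow₀ hk1 hm))
  · have hcM : Nat.card M₀ = 2 * k := by rw [Nat.card_congr e.toEquiv, DihedralGroup.nat_card]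
    have h4Q : 4 ≤ Nat.card F := by omega
    rw [hcard] at hk
    rcases Dickson.dihedral_overgroup p (by omega) e hG hGt with ⟨k', hle, hdv, hlt'⟩ | ⟨S, hS⟩ | ⟨hk', hc⟩ |
      ⟨hk', hc⟩ | ⟨hk', hc⟩ | ⟨r, m, hr, hm, hrq, hk', -⟩
    · rw [hz, hcard] at hle
      obtain ⟨c, hc⟩ := Nat.dvd_of_mul_dvd_mul_left two_pos hdv
      rcases Nat.lt_or_ge c 2 with h | h
      · interval_cases c <;> omega
      · have : k * 2 ≤ k * c := Nat.mul_le_mul_left k h
        omega
    · have h1 := Dickson.card_normalizer_sylow p S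
      have h2 := Nat.mul_dvd_mul_left 2 ((Subgroup.card_dvd_of_le (hG.le.trans hS)))
      rw [hz] at h1
      rw [h1, hcM, hcard] at h2
      rcases hk with hk | hk <;> rw [hk] at h2
      · obtain ⟨j, hj⟩ := Nat.exists_eq_add_of_le (show 1 ≤ Fintype.card F by omega)
        have h5' : Fintype.card F * (Fintype.card F - 1) + 2 * Fintype.card F + 2 = (Fintype.card F + 1) * Fintype.card F + 2 := by
          rw [hj, Nat.add_sub_cancel_left]; ring
        have h6 : Fintype.card F + 1 ∣ Fintype.card F * (Fintype.card F - 1) + 2 * Fintype.card F + 2 := by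
          rw [add_assoc]
          exact dvd_add (dvd_trans (dvd_mul_left _ _) h2) ⟨2, by ring⟩
        rw [h5'] at h6
        have := Nat.le_of_dvd (by norm_num) ((Nat.dvd_add_right (dvd_mul_right _ _)).1 h6)
        omega
      · have h3 := Nat.dvd_of_mul_dvd_mul_right (by omega) h2
        omega
    · omega
    · have hq5 : Nat.card F = 5 := by omega
      rw [hc] at hdG
      rw [hq5] at hP
      simp only [Nat.reducePow, Nat.reduceSub, Nat.reduceMul] at hP
      obtain ⟨c, hc'⟩ := hdG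
      omega
    · have hq5 : Nat.card F = 5 := by omega
      rw [hq5] at hP
      simp only [Nat.reducePow, Nat.reduceSub, Nat.reduceMul] at hP
      exact hGt (Subgroup.eq_top_of_card_eq _ (by omega))
    · rw [hcard] at hrq
      have h2 : r ^ 2 ≤ Fintype.card F := hrq ▸ Nat.pow_le_pow_right (by omega) hm
      have hr3 : r = 3 ∨ r ≤ 2 := by
        by_contra hcon
        have : 4 * r ≤ r ^ 2 := by rw [pow_two]; exact Nat.mul_le_mul_right r (by omega)
        omega
      rcases hr3 with rfl | hr2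
      · rcases Nat.lt_or_ge m 3 with h | h
        · have : m = 2 := by omega
          subst this
          omega
        · have : 3 ^ 3 ≤ Fintype.card F := hrq ▸ Nat.pow_le_pow_right (by norm_num) h
          omega
      · have : r = 2 := by omega
        subst this
        rw [← hrq, Nat.pow_mod, Nat.mod_self, zero_pow (by omega), Nat.zero_mod] at hodd
        omega
  · -- the tetrahedral case
    rw [hcard] at hqp
    have h10 : ¬ (p % 10 = 1 ∨ p % 10 = 9) := by
      have h := h40 (hqp ▸ hp)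
      simp only [Finset.mem_insert, Finset.mem_singleton, not_or, hqp] at h
      omega
    have hp3 : p ≠ 3 := by omega
    have hP2 : 2 * Nat.card (Matrix.ProjectiveSpecialLinearGroup (Fin 2) F) = p * (p ^ 2 - 1) := by
      rw [hP, hcard, hqp]
    rw [Nat.card_congr e.toEquiv, Dickson.card_a4] at hlt hsub
    rcases Dickson.overgroup_cases p (Dickson.core_A4 p hp2 e) hG.le hGt with ⟨⟨f⟩⟩ | ⟨⟨f⟩⟩ | ⟨⟨f⟩⟩ | ⟨K, _, _, m, hm, hKm, -⟩
    · rw [Nat.card_congr f.toEquiv, Dickson.card_a4] at hlt; omega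
    · rw [Nat.card_congr f.toEquiv, Dickson.card_s4] at hdG
      have h48 : 48 ∣ p * (p ^ 2 - 1) := hP2 ▸ Nat.mul_dvd_mul_left 2 hdG
      have h16 : p * (p ^ 2 - 1) % 16 = 0 := Nat.dvd_iff_mod_eq_zero.1 ((show 16 ∣ 48 by norm_num).trans h48)
      rw [Nat.mul_mod, ← Nat.mod_add_div p 16] at h16
      have hp16 : p % 16 = 3 ∨ p % 16 = 5 ∨ p % 16 = 11 ∨ p % 16 = 13 := by omega
      have hsq : (p ^ 2 - 1) % 16 = 8 := by
        have h1 : p ^ 2 % 16 = 9 := by
          rw [Nat.pow_mod]
          rcases hp16 with h | h | h | h <;> rw [h]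
        omega
      rw [Nat.mod_add_div, hsq] at h16
      omega
    · rw [Nat.card_congr f.toEquiv, Dickson.card_a5] at hdG
      have h5d : 5 ∣ p * (p ^ 2 - 1) := hP2 ▸ ((show 5 ∣ 60 by norm_num).trans hdG).mul_left 2
      rcases (Nat.Prime.dvd_mul Nat.prime_five).1 h5d with h' | h'
      · have hp5 := (Nat.prime_dvd_prime_iff_eq Nat.prime_five hp).1 h'
        subst hp5
        simp only [Nat.reducePow, Nat.reduceSub, Nat.reduceMul] at hP2
        exact hGt (Subgroup.eq_top_of_card_eq _ (by rw [Nat.card_congr f.toEquiv, Dickson.card_a5]; omega))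
      · have h1 : p ^ 2 % 5 = 1 := by have := Nat.one_le_pow 2 p hp.pos; omega
        rw [Nat.pow_mod] at h1
        have : p % 5 = 2 ∨ p % 5 = 3 ∨ p % 5 = 0 := by omega
        rcases this with h | h | h <;> rw [h] at h1 <;> norm_num at h1
    · rw [hcard, hqp] at hKm
      exact absurd hp (hKm ▸ Nat.Prime.not_prime_pow hm)
  · -- subfield case
    obtain ⟨f₀⟩ := PSL2Field.exists_ringHom (K := K) (F := F) (m := m) (by rw [Nat.card_eq_fintype_card (α := K), hKm])
    haveI : CharP K p := (RingHom.charP_iff f₀ f₀.injective p).2 inferInstance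
    obtain ⟨a, -, ha⟩ := FiniteField.card K p
    obtain ⟨k, hk⟩ : ∃ k, p ^ (a : ℕ) = k := ⟨_, rfl⟩
    have hkodd : k % 2 = 1 := hk ▸ Nat.odd_iff.1 ((hp.odd_of_ne_two hp2).pow)
    have hK' : Nat.card K = k := by rw [Nat.card_eq_fintype_card, ha, hk]
    have hk1 : 1 < k := hK' ▸ Finite.one_lt_card
    have hcH : 2 * Nat.card M₀ = k * (k ^ 2 - 1) := by
      have h2 := Dickson.gcd_mul_card_psl (K := K)
      rwa [hK', Nat.gcd_eq_left (show 2 ∣ k - 1 by omega), ← Nat.card_congr e.toEquiv] at h2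
    have hF : Nat.card F = (p ^ (a : ℕ)) ^ m := by rw [← hKm, ha]
    have hcore : Dickson.Core p M₀ := Dickson.core_field p (by omega) e (QuotientGroup.mk' _)
      (QuotientGroup.ker_mk' _) fun g => Dickson.orderOf_psl_le g
    have hFk : Nat.card F = k ^ m := by rw [hF, hk]
    have hbig : k = 3 ∨ 120 ≤ k * (k ^ 2 - 1) := by
      rcases Nat.lt_or_ge k 5 with h | h
      · left; omega
      · exact Or.inr (le_trans (by norm_num) (Nat.mul_le_mul h (Nat.sub_le_sub_right (Nat.pow_le_pow_left h 2) 1)))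
    obtain ⟨t, ht⟩ := hmodd
    rcases Dickson.subfield_overgroup p a.pos hm hF dvd_rfl hcore (by rw [hk]; exact hcH) hG.le hGt with
      (h12 | ⟨⟨f⟩⟩ | ⟨⟨f⟩⟩) | ⟨L, _, _, hL, ⟨⟨f⟩⟩ | ⟨⟨f⟩⟩⟩
    · rcases hbig with h | h
      · subst h; simp only [Nat.reducePow, Nat.reduceSub, Nat.reduceMul] at hcH; omega
      · omega
    · rw [Nat.card_congr f.toEquiv, Dickson.card_s4] at hlt hdG
      rcases hbig with h | h
      swap
      · omega
      subst h
      have h48 : 48 ∣ Nat.card F * (Nat.card F ^ 2 - 1) := hP ▸ Nat.mul_dvd_mul_left 2 hdG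
      have h9 : Nat.card F ^ 2 % 16 = 9 := by
        rw [hFk, ← pow_mul, ht, show (2 * t + 1) * 2 = 4 * t + 2 by ring, pow_add, pow_mul, Nat.mul_mod, Nat.pow_mod]
        norm_num
      have h16 : Nat.card F * (Nat.card F ^ 2 - 1) % 16 = 0 :=
        Nat.dvd_iff_mod_eq_zero.1 ((show 16 ∣ 48 by norm_num).trans h48)
      rw [Nat.mul_mod, show (Nat.card F ^ 2 - 1) % 16 = 8 by omega] at h16
      omega
    · rw [Nat.card_congr f.toEquiv, Dickson.card_a5] at hlt hdG
      rcases hbig with h | h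
      swap
      · omega
      subst h
      have h5d : 5 ∣ Nat.card F * (Nat.card F ^ 2 - 1) :=
        hP ▸ ((show 5 ∣ 60 by norm_num).trans hdG).mul_left 2
      have h9 : Nat.card F ^ 2 % 5 = 4 := by
        rw [hFk, ← pow_mul, ht, show (2 * t + 1) * 2 = 4 * t + 2 by ring, pow_add, pow_mul, Nat.mul_mod, Nat.pow_mod]
        norm_num
      rcases (Nat.Prime.dvd_mul Nat.prime_five).1 h5d with h' | h'
      · have : Nat.card F ^ 2 % 5 = 0 := Nat.dvd_iff_mod_eq_zero.1 (dvd_pow h' two_ne_zero)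
        omega
      · omega
    · have hG2 := Dickson.gcd_mul_card_psl (K := L)
      rw [Nat.card_eq_fintype_card (α := L), hL, hk, Nat.gcd_eq_left (show 2 ∣ k - 1 by omega),
        ← Nat.card_congr f.toEquiv] at hG2
      omega
    · have hev := (S0805.result (F := F) (K := L) (q := Fintype.card F) rfl (Nat.odd_iff.2 hodd) m
        hm.one_lt.le (by rw [hL, ← hcard, hF])).2.1 ⟨G, ⟨f⟩⟩
      obtain ⟨u, hu⟩ := hev
      omega

/-- Let F be a finite field with q ≥ 4 elements, let L ≤ PGL₂(F) be the image of SL₂(F) (a copy of PSL₂(F), of index gcd(2, q − 1)), and let M be a maximal subgroup of PGL₂(F) that does not contain L. Suppose q ∉ {7, 9, 11} and that q is not a prime congruent to ±11 or ±19 modulo 40. Then M ∩ L is a maximal subgroup of L. (For the excluded q there are maximal subgroups of PGL₂(q) — dihedral groups of order 12 and 16 at q = 7, of order 20 and 16 at q = 9, of order 20 at q = 11, and S₄ at the excluded primes — whose intersection with L is not maximal in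 L.) -/
theorem result {F : Type*} [Field F]
    [Fintype F] (h4 : 4 ≤ Fintype.card F) (h7 : Fintype.card F ≠ 7) (h9 : Fintype.card F ≠ 9) (h11 : Fintype.card F ≠ 11)
    (h40 : (Fintype.card F).Prime → Fintype.card F % 40 ∉ ({11, 19, 21, 29} : Finset ℕ))
    (M : Subgroup (Matrix.ProjGenLinGroup (Fin 2) F)) (hM : IsCoatom M)
    (hML : ¬ (Matrix.ProjGenLinGroup.mk.comp Matrix.SpecialLinearGroup.toGL).range ≤ M) :
    IsCoatom ((M ⊓ (Matrix.ProjGenLinGroup.mk.comp Matrix.SpecialLinearGroup.toGL).range).subgroupOf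
      (Matrix.ProjGenLinGroup.mk.comp Matrix.SpecialLinearGroup.toGL).range) := by
  classical
  have hcard : Nat.card F = Fintype.card F := Nat.card_eq_fintype_card
  rw [Dickson.range_eq] at hML ⊢
  obtain ⟨p, hp⟩ := CharP.exists F
  haveI := hp
  haveI := Fact.mk (CharP.char_is_prime F p)
  haveI : Finite (Matrix.ProjGenLinGroup (Fin 2) F) :=
    Finite.of_surjective _ Matrix.ProjGenLinGroup.mk_surjective
  let ι := (Matrix.ProjectiveSpecialLinearGroup.toPGL (n := Fin 2) (R := F))
  let e := MonoidHom.ofInjective (Dickson.ι_injective (F := F))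
  have he : (M ⊓ ι.range).subgroupOf ι.range = e.mapSubgroup (M.comap ι) := by
    ext ⟨x, hx⟩
    obtain ⟨y, rfl⟩ := hx
    simp only [Subgroup.mem_subgroupOf, Subgroup.mem_inf, MulEquiv.mapSubgroup_apply, Subgroup.mem_map]
    constructor
    · rintro ⟨hM', -⟩
      exact ⟨y, hM', rfl⟩
    · rintro ⟨z, hz, hzy⟩
      obtain rfl : z = y := Dickson.ι_injective (congrArg Subtype.val hzy :)
      exact ⟨hz, z, rfl⟩
  rw [he, OrderIso.isCoatom_iff]
  rcases Nat.mod_two_eq_zero_or_one (Fintype.card F) with heven | hodd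
  · -- in even characteristic the special part is everything
    have hg : Nat.gcd 2 (Nat.card F - 1) = 1 := by
      rw [hcard]
      exact (Nat.coprime_two_left (n := Fintype.card F - 1)).2 (Nat.odd_iff.2 (by omega))
    have hcp := Dickson.gcd_mul_card_psl (K := F)
    rw [hg, one_mul, ← Dickson.card_pgl2] at hcp
    let E := MulEquiv.ofBijective ι ((Nat.bijective_iff_injective_and_card _).2 ⟨Dickson.ι_injective, hcp⟩)
    have hE : E.mapSubgroup (M.comap ι) = M := by
      rw [MulEquiv.mapSubgroup_apply]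
      exact Subgroup.map_comap_eq_self_of_surjective E.surjective M
    rwa [← OrderIso.isCoatom_iff E.mapSubgroup, hE]
  exact core p h4 h7 h9 h11 h40 hodd hM hML

end Cfsg.Agent.S5890
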