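import Cfsg.Statements.S5893
import Cfsg.Agent.Lib.Classical.DicksonMaxTypes

set_option autoImplicit false
open Cfsg

namespace Cfsg.Agent.S5893

/-- Let F be a finite field of even order q ≥ 4 and let M be a maximal subgroup of PSL₂(F) (= SL₂(F) = PGL₂(F)). Then one of the following holds: |M| = q(q − 1) (the stabiliser of a point of the projective line, elementary abelian of order q extended by a cyclic group of order q − 1); M is dihedral of order 2(q − 1); M is dihedral of order 2(q + 1); or q = q₀^r for a prime r with q₀ ≠ 2 and M ≅ PSL₂(F₀) with |F₀| = q₀. -/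
theorem result {F : Type*} [Field F] [Fintype F]
    (heven : Even (Fintype.card F)) (h4 : 4 ≤ Fintype.card F) (M : Subgroup (Matrix.ProjectiveSpecialLinearGroup (Fin 2) F)) (hM : IsCoatom M) :
    Nat.card M = Fintype.card F * (Fintype.card F - 1) ∨
    Nonempty (M ≃* DihedralGroup (Fintype.card F - 1)) ∨
    Nonempty (M ≃* DihedralGroup (Fintype.card F + 1)) ∨
    (∃ (F₀ : Type) (_ : Field F₀) (_ : Fintype F₀) (r : ℕ), r.Prime ∧ Fintype.card F₀ ≠ 2 ∧
        Fintype.card F = Fintype.card F₀ ^ r ∧ Nonempty (M ≃* Matrix.ProjectiveSpecialLinearGroup (Fin 2) F₀)) := by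
  classical
  have hq : Nat.card F = Fintype.card F := Nat.card_eq_fintype_card
  obtain ⟨p, hp⟩ := CharP.exists F
  obtain ⟨n, hpp, hn⟩ := FiniteField.card F p
  haveI := Fact.mk hpp
  have hp2 : p = 2 := by
    have h2 : 2 ∣ p ^ (n : ℕ) := hn ▸ even_iff_two_dvd.1 heven
    exact ((Nat.prime_dvd_prime_iff_eq Nat.prime_two hpp).1 (Nat.prime_two.dvd_of_dvd_pow h2)).symm
  have hz : Nat.card (Subgroup.center (Matrix.SpecialLinearGroup (Fin 2) F)) = 1 := by
    rw [Dickson.card_center, hq]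
    refine Nat.coprime_two_left.2 (Nat.odd_iff.2 ?_)
    obtain ⟨t, ht⟩ := heven
    omega
  rcases Dickson.maximal_cases p (hq.symm ▸ h4) hM with h | ⟨k, hk, -, ⟨e⟩⟩ | ⟨h, -⟩ | ⟨h, -⟩ | ⟨h, -⟩ |
    ⟨K, i1, i2, m, hm, hKm, hK2, hA, -⟩
  · left
    rwa [hz, one_mul, hq] at h
  · rw [hz, one_mul, hq] at hk
    rcases hk with hk | hk
    · exact Or.inr (Or.inr (Or.inl ⟨hk ▸ e⟩))
    · exact Or.inr (Or.inl ⟨hk ▸ e⟩)
  · exact absurd hp2 h
  · exact absurd hp2 h
  · exact absurd hp2 h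
  · rw [hq] at hKm
    exact Or.inr (Or.inr (Or.inr ⟨K, i1, i2, m, hm, hK2, hKm.symm, hA (Or.inl hp2)⟩))

end Cfsg.Agent.S5893
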