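import Cfsg.Statements.S5904


set_option autoImplicit false
open scoped Pointwise
open Cfsg

namespace Cfsg.Agent.S5904

/-- Let Ω be a finite set with more than two elements and O ⊆ Ω a subset with exactly as many elements as its complement. Then the setwise stabilizer of O in the symmetric group on Ω is not a maximal subgroup (it is properly contained in the stabilizer of the partition {O, Ω ∖ O}, which is proper). -/
theorem result {Ω : Type*} [Fintype Ω] [DecidableEq Ω] (hΩ : 2 < Fintype.card Ω)
    (O : Set Ω) (hO : Nat.card O = Nat.card ↥Oᶜ) :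
    ¬ IsCoatom (MulAction.stabilizer (Equiv.Perm Ω) O) := by
  classical
  have hcard : 2 * O.toFinset.card = Fintype.card Ω := by
    rw [two_mul, Set.toFinset_card]
    rw [Nat.card_eq_fintype_card, Nat.card_eq_fintype_card] at hO
    have := Fintype.card_subtype_compl (fun a => a ∈ O)
    have h' : Fintype.card O ≤ Fintype.card Ω := Fintype.card_subtype_le _
    rw [show Fintype.card {a // ¬ a ∈ O} = Fintype.card ↥Oᶜ from Fintype.card_congr (Equiv.refl _)]
      at this
    rw [show Fintype.card {a // a ∈ O} = Fintype.card O from Fintype.card_congr (Equiv.refl _)]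
      at this
    omega
  intro hco
  let K : Subgroup (Equiv.Perm Ω) :=
    { carrier := {g | g • O = O ∨ g • O = Oᶜ}
      one_mem' := Or.inl (one_smul _ _)
      mul_mem' := fun {g h} hg hh => by
        show (g * h) • O = O ∨ (g * h) • O = Oᶜ
        rw [mul_smul]
        rcases hh with e | e <;> rw [e]
        · exact hg
        · rw [Set.smul_set_compl]
          rcases hg with e' | e' <;> rw [e'] <;> simp
      inv_mem' := fun {g} hg => by
        show g⁻¹ • O = O ∨ g⁻¹ • O = Oᶜ
        rcases hg with e | e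
        · exact Or.inl (inv_smul_eq_iff.2 e.symm)
        · refine Or.inr (inv_smul_eq_iff.2 ?_)
          rw [Set.smul_set_compl, e, compl_compl] }
  obtain ⟨a, ha⟩ : O.toFinset.Nonempty := Finset.card_pos.1 (by omega)
  obtain ⟨a', ha', haa⟩ := Finset.exists_mem_ne (s := O.toFinset) (by omega) a
  rw [Set.mem_toFinset] at ha ha'
  obtain ⟨b, hb⟩ : ∃ b, b ∉ O := by
    by_contra h
    push Not at h
    have : O.toFinset = Finset.univ := Finset.eq_univ_of_forall fun z => Set.mem_toFinset.2 (h z)
    rw [this, Finset.card_univ] at hcard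
    omega
  have e : O ≃ ↥Oᶜ := Fintype.equivOfCardEq (by
    rwa [Nat.card_eq_fintype_card, Nat.card_eq_fintype_card] at hO)
  let s : Equiv.Perm Ω := (Equiv.Set.sumCompl O).symm.trans
    (((Equiv.sumCongr e e.symm).trans (Equiv.sumComm _ _)).trans (Equiv.Set.sumCompl O))
  have hs : s • O = Oᶜ := by
    ext z
    rw [Set.mem_smul_set]
    constructor
    · rintro ⟨w, hw, rfl⟩
      simp [s, Equiv.Perm.smul_def, Equiv.Set.sumCompl_symm_apply_of_mem hw]
    · intro hz
      refine ⟨(e.symm ⟨z, hz⟩ : Ω), (e.symm ⟨z, hz⟩).2, ?_⟩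
      simp [s, Equiv.Perm.smul_def]
  have hlt : MulAction.stabilizer (Equiv.Perm Ω) O < K := by
    refine lt_of_le_of_ne (fun g hg => Or.inl (MulAction.mem_stabilizer_iff.1 hg)) fun h => ?_
    have : s ∈ MulAction.stabilizer (Equiv.Perm Ω) O := h ▸ Or.inr hs
    rw [MulAction.mem_stabilizer_iff, hs] at this
    exact (this.symm ▸ hb : b ∉ Oᶜ) hb
  have hK := hco.2 K hlt
  have hsw : Equiv.swap a b ∈ K := hK ▸ Subgroup.mem_top _
  rcases hsw with h | h
  · refine hb (h ▸ ?_)
    exact ⟨a, ha, Equiv.swap_apply_left a b⟩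
  · have hne : a' ≠ b := fun e => hb (e ▸ ha')
    have : a' ∈ Equiv.swap a b • O :=
      ⟨a', ha', Equiv.swap_apply_of_ne_of_ne haa hne⟩
    rw [h] at this
    exact this ha'

end Cfsg.Agent.S5904
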