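import Cfsg.Statements.S5894
import Cfsg.Agent.S5904

set_option autoImplicit false
open Cfsg
open scoped Pointwise

namespace Cfsg.Agent.S5894

/-- For every m ≥ 2 the symmetric group on 2m letters has a maximal subgroup M of index 2m together with a maximal subgroup H of M that is not second maximal: some maximal subgroup K of the symmetric group contains H without H being maximal in K. (One may take M the stabiliser of a letter, H ≅ S_m × S_{m−1} inside it, and K ≅ S_m ≀ S₂ the stabiliser of a partition into two m-sets, with H < S_m × S_m < K.) So the prime-index hypothesis in the second-maximality criterion cannot be relaxed to any even index ≥ 4. -/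
theorem result (m : ℕ) (hm : 2 ≤ m) :
    ∃ M H K : Subgroup (Equiv.Perm (Fin (2 * m))), IsCoatom M ∧ M.index = 2 * m ∧ H ≤ M ∧ IsCoatom (H.subgroupOf M) ∧
      IsCoatom K ∧ H ≤ K ∧ ¬ IsCoatom (H.subgroupOf K) := by
  classical
  let a : Fin (2 * m) := ⟨2 * m - 1, by omega⟩
  let b : Fin (2 * m) := ⟨m, by omega⟩
  let A : Set (Fin (2 * m)) := {i | (i : ℕ) < m}
  have hA : Nat.card A = m := by
    rw [Nat.card_congr ({ toFun := fun i => (⟨(i.1 : ℕ), i.2⟩ : Fin m)
                          invFun := fun i => ⟨⟨i, by omega⟩, i.2⟩
                          left_inv := fun _ => rfl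
                          right_inv := fun _ => rfl } : A ≃ Fin m), Nat.card_fin]
  have haA : a ∉ A := fun h => by simp only [A, a, Set.mem_setOf_eq] at h; omega
  set M := MulAction.stabilizer (Equiv.Perm (Fin (2 * m))) a with hM
  set L := MulAction.stabilizer (Equiv.Perm (Fin (2 * m))) A with hL
  haveI : Nontrivial (Fin (2 * m)) := ⟨⟨a, b, fun h => by
    have := congrArg Fin.val h; simp only [a, b] at this; omega⟩⟩
  -- `M` is maximal
  have hMco : IsCoatom M := by
    have h := Equiv.Perm.isCoatom_stabilizer (s := ({a} : Set (Fin (2 * m))))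
      (Set.singleton_nonempty a) ⟨b, fun h => by
        have := congrArg Fin.val (show b = a from h); simp only [a, b] at this; omega⟩
      (by rw [Nat.card_fin, Set.ncard_singleton]; omega)
    rwa [MulAction.stabilizer_singleton] at h
  have hidx : M.index = 2 * m := by
    rw [hM, MulAction.index_stabilizer_of_transitive, Nat.card_fin]
  -- `L ∩ M` is maximal in `M`
  have hHco : IsCoatom ((L ⊓ M).subgroupOf M) := by
    let q : Fin (2 * m) → Prop := fun i => i ≠ a
    let φ : Equiv.Perm (Subtype q) →* M := (Equiv.Perm.ofSubtype).codRestrict M fun σ => by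
      rw [MulAction.mem_stabilizer_iff]
      exact Equiv.Perm.ofSubtype_apply_of_not_mem σ (by simp [q])
    have hφ : Function.Bijective φ := by
      refine ⟨fun σ τ h => Equiv.Perm.ofSubtype_injective (congrArg Subtype.val h), fun g => ?_⟩
      have hg : g.1 a = a := g.2
      have hq : ∀ i, q (g.1 i) ↔ q i := fun i => by
        show g.1 i ≠ a ↔ i ≠ a
        conv_lhs => rw [← hg]
        exact g.1.injective.ne_iff
      exact ⟨Equiv.Perm.subtypePerm g.1 hq, Subtype.ext (Equiv.Perm.ofSubtype_subtypePerm _
        fun i hi he => hi (by rw [he, hg]))⟩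
    let e : Equiv.Perm (Subtype q) ≃* M := MulEquiv.ofBijective φ hφ
    let A' : Set (Subtype q) := {i | i.1 ∈ A}
    have hA' : A'.ncard = m := by
      refine ((Nat.card_coe_set_eq A').symm.trans ?_).trans hA
      exact Nat.card_congr { toFun := fun i => ⟨i.1.1, i.2⟩
                             invFun := fun i => ⟨⟨i.1, fun h => haA (h ▸ i.2)⟩, i.2⟩
                             left_inv := fun _ => rfl
                             right_inv := fun _ => rfl }
    have hcard : Nat.card (Subtype q) = 2 * m - 1 := by
      rw [Nat.card_eq_fintype_card, Fintype.card_subtype_compl, Fintype.card_fin,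
        Fintype.card_subtype_eq]
    have hco := Equiv.Perm.isCoatom_stabilizer (s := A')
      (Set.nonempty_of_ncard_ne_zero (by omega))
      ⟨⟨b, fun h => by
        have := congrArg Fin.val (show b = a from h); simp only [a, b] at this; omega⟩,
        fun h => Nat.lt_irrefl m h⟩
      (by rw [hcard, hA']; omega)
    have heq : (L ⊓ M).subgroupOf M = (MulAction.stabilizer (Equiv.Perm (Subtype q)) A').map
        (e : Equiv.Perm (Subtype q) →* M) := by
      ext g
      obtain ⟨σ, rfl⟩ := e.surjective g
      simp only [Subgroup.mem_subgroupOf, Subgroup.mem_inf, SetLike.coe_mem, and_true]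
      rw [show (e σ : M) = (e : Equiv.Perm (Subtype q) →* M) σ from rfl,
        Subgroup.mem_map_iff_mem (show Function.Injective (e : Equiv.Perm (Subtype q) →* M) from
          e.injective)]
      show Equiv.Perm.ofSubtype σ ∈ L ↔ _
      rw [hL, MulAction.mem_stabilizer_set' A.toFinite, MulAction.mem_stabilizer_set' A'.toFinite]
      constructor
      · intro h i hi
        have := h (show i.1 ∈ A from hi)
        rwa [Equiv.Perm.smul_def, Equiv.Perm.ofSubtype_apply_coe] at this
      · intro h i hi
        have hqi : q i := fun e' => haA (e' ▸ hi)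
        have h2 := h (show (⟨i, hqi⟩ : Subtype q) ∈ A' from hi)
        rw [Equiv.Perm.smul_def, Equiv.Perm.ofSubtype_apply_of_mem σ hqi]
        exact h2
    rw [heq]
    exact ((MulEquiv.mapSubgroup e).isCoatom_iff _).2 hco
  have hLnc : ¬ IsCoatom L := S5904.result (by rw [Fintype.card_fin]; omega) A (by
    have := Set.ncard_add_ncard_compl A
    rw [← Nat.card_coe_set_eq, ← Nat.card_coe_set_eq, hA, Nat.card_fin] at this
    rw [hA]; omega)
  have hLtop : L ≠ ⊤ := fun h => haA (by
    have h2 : Equiv.swap ⟨0, by omega⟩ a ∈ L := h ▸ Subgroup.mem_top _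
    rw [hL, MulAction.mem_stabilizer_set' A.toFinite] at h2
    simpa using h2 (show (⟨0, by omega⟩ : Fin (2 * m)) ∈ A by simp [A]; omega))
  obtain ⟨K, hK, hLK⟩ := (eq_top_or_exists_le_coatom L).resolve_left hLtop
  refine ⟨M, L ⊓ M, K, hMco, hidx, inf_le_right, hHco, hK, inf_le_left.trans hLK, fun hc => ?_⟩
  have hlt : (L ⊓ M).subgroupOf K < L.subgroupOf K := by
    refine lt_of_le_of_ne (fun z hz => hz.1) fun h => ?_
    have hsw : Equiv.swap b a ∈ L := by
      rw [hL, MulAction.mem_stabilizer_set' A.toFinite]
      intro i hi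
      have hi' : (i : ℕ) < m := hi
      have h1 : i ≠ b := fun e' => by
        have := congrArg Fin.val e'; simp only [b] at this; omega
      have h2 : i ≠ a := fun e' => haA (e' ▸ hi)
      rw [Equiv.Perm.smul_def, Equiv.swap_apply_of_ne_of_ne h1 h2]
      exact hi
    have hmem : (⟨_, hLK hsw⟩ : K) ∈ (L ⊓ M).subgroupOf K := h ▸ hsw
    have := MulAction.mem_stabilizer_iff.1 hmem.2
    replace this : Equiv.swap b a a = a := this
    rw [Equiv.swap_apply_right] at this
    have := congrArg Fin.val this
    simp only [a, b] at this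
    omega
  have h2 := hc.2 _ hlt
  rw [Subgroup.subgroupOf_eq_top] at h2
  exact hLnc (le_antisymm hLK h2 ▸ hK)

end Cfsg.Agent.S5894
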