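import Cfsg.Statements.S5895
import Cfsg.Agent.Lib.Classical.GLSubspace

set_option autoImplicit false
open Cfsg

namespace Cfsg.Agent.S5895

open scoped Matrix

/-- The action of the matrices on the vectors, multiplicatively. -/
def act (F : Type) [Field F] (d : ℕ) : GL (Fin d) F →* MulAut (Multiplicative (Fin d → F)) where
  toFun g :=
    { toFun := fun v => Multiplicative.ofAdd ((g : Matrix (Fin d) (Fin d) F) *ᵥ v.toAdd)
      invFun := fun v => Multiplicative.ofAdd (((g⁻¹ : GL (Fin d) F) : Matrix (Fin d) (Fin d) F) *ᵥ v.toAdd)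
      left_inv := fun v => by simp
      right_inv := fun v => by simp
      map_mul' := fun v w => by simp [Matrix.mulVec_add] }
  map_one' := by ext v; simp
  map_mul' g h := by ext v; simp

lemma act_apply {F : Type} [Field F] {d : ℕ} (g : GL (Fin d) F) (v : Multiplicative (Fin d → F)) :
    act F d g v = Multiplicative.ofAdd ((g : Matrix (Fin d) (Fin d) F) *ᵥ v.toAdd) := rfl

/-- For every prime p and every d ≥ 2 there is a finite group G with a maximal subgroup M of index p^d and a maximal subgroup H of M that is not second maximal in G: some maximal subgroup K of G contains H without H being maximal in K. (One may take G the affine group V ⋊ GL(V) of V = 𝔽_p^d, M = GL(V), H the stabiliser in M of a line W of V, and K = V ⋊ H, with H < W ⋊ H < K.) So the prime-index hypothesis in the second-maximality criterion cannot be relaxed to prime-power index. -/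
theorem result (p d : ℕ) (hp : p.Prime)
    (hd : 2 ≤ d) :
    ∃ (G : Type) (_ : Group G) (_ : Finite G) (M H K : Subgroup G), IsCoatom M ∧ M.index = p ^ d ∧ H ≤ M ∧
      IsCoatom (H.subgroupOf M) ∧ IsCoatom K ∧ H ≤ K ∧ ¬ IsCoatom (H.subgroupOf K) := by
  classical
  haveI : Fact p.Prime := ⟨hp⟩
  let F := ZMod p
  let V := Fin d → F
  let G := SemidirectProduct (Multiplicative V) (GL (Fin d) F) (act F d)
  haveI : Finite G := Finite.of_equiv _ (SemidirectProduct.equivProd (φ := act F d)).symm
  let M : Subgroup G := (SemidirectProduct.inr : GL (Fin d) F →* G).range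
  haveI : NeZero d := ⟨by omega⟩
  let W : Submodule F V := F ∙ (Pi.single 0 1 : V)
  have hw1 : (Pi.single 0 1 : V) ≠ 0 := by simp
  have hW0 : W ≠ ⊥ := by
    rw [Ne, Submodule.span_singleton_eq_bot]
    exact hw1
  have hW1 : W ≠ ⊤ := by
    intro h
    have h1 : Module.finrank F W = 1 := finrank_span_singleton hw1
    rw [h, finrank_top, Module.finrank_fin_fun] at h1
    omega
  let S : Subgroup (GL (Fin d) F) := Cfsg.stabilizing (Cfsg.glToMat (Fin d) F) (W : Set V)
  have hS : IsCoatom S := GLSubspace.isCoatom_stabilizing hW0 hW1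
  have hSmem : ∀ g ∈ S, ∀ v ∈ W, (g : Matrix (Fin d) (Fin d) F) *ᵥ v ∈ W := fun g hg v hv => (hg v).1 hv
  let H : Subgroup G := S.map SemidirectProduct.inr
  let K : Subgroup G := S.comap SemidirectProduct.rightHom
  have hHM : H ≤ M := by rintro _ ⟨g, -, rfl⟩; exact ⟨g, rfl⟩
  have hHK : H ≤ K := by
    rintro _ ⟨g, hg, rfl⟩
    show SemidirectProduct.rightHom (SemidirectProduct.inr g) ∈ S
    rwa [SemidirectProduct.rightHom_inr]
  have hMmem : ∀ x : G, x ∈ M ↔ x.left = 1 := by
    refine fun x => ⟨fun h => ?_, fun h => ⟨x.right, SemidirectProduct.ext (by simp [h]) (by simp)⟩⟩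
    obtain ⟨g, rfl⟩ := h
    simp
  have hM : IsCoatom M := by
    refine ⟨fun h => ?_, fun X hX => ?_⟩
    · have := (hMmem (SemidirectProduct.inl (Multiplicative.ofAdd (Pi.single 0 1 : V)))).1
        (h ▸ Subgroup.mem_top _)
      exact hw1 (congrArg Multiplicative.toAdd this)
    obtain ⟨x, hx, hxM⟩ := Set.exists_of_ssubset (SetLike.coe_ssubset_coe.2 hX)
    let A : AddSubgroup V :=
      { carrier := {v | (SemidirectProduct.inl (Multiplicative.ofAdd v) : G) ∈ X}
        add_mem' := fun {a b} ha hb => by
          show SemidirectProduct.inl (Multiplicative.ofAdd (a + b)) ∈ X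
          rw [ofAdd_add, map_mul]
          exact X.mul_mem ha hb
        zero_mem' := by
          show SemidirectProduct.inl (Multiplicative.ofAdd (0 : V)) ∈ X
          rw [ofAdd_zero, map_one]
          exact X.one_mem
        neg_mem' := fun {a} ha => by
          show SemidirectProduct.inl (Multiplicative.ofAdd (-a)) ∈ X
          rw [ofAdd_neg, map_inv]
          exact X.inv_mem ha }
    let U : Submodule F V := AddSubgroup.toZModSubmodule p A
    have hU : ∀ (g : GL (Fin d) F) (v : V), v ∈ U → (g : Matrix (Fin d) (Fin d) F) *ᵥ v ∈ U := by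
      intro g v hv
      show (SemidirectProduct.inl (act F d g (Multiplicative.ofAdd v)) : G) ∈ X
      rw [SemidirectProduct.inl_aut]
      exact X.mul_mem (X.mul_mem (hX.le ⟨g, rfl⟩) hv) (hX.le ⟨g⁻¹, rfl⟩)
    have hleft : x.left.toAdd ∈ U := by
      show (SemidirectProduct.inl x.left : G) ∈ X
      rw [show (SemidirectProduct.inl x.left : G) = x * (SemidirectProduct.inr x.right)⁻¹ from
        eq_mul_inv_iff_mul_eq.2 x.inl_left_mul_inr_right]
      exact X.mul_mem hx (X.inv_mem (hX.le ⟨x.right, rfl⟩))
    have hUtop : U = ⊤ := by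
      by_contra h1
      have h0 : U ≠ ⊥ := fun h => hxM ((hMmem x).2 (by
        rw [h, Submodule.mem_bot] at hleft
        exact hleft))
      refine (GLSubspace.isCoatom_stabilizing h0 h1).1 (eq_top_iff.2 fun g _ v => ⟨hU g v, fun h => ?_⟩)
      have := hU g⁻¹ _ h
      change ((g⁻¹ : GL (Fin d) F) : Matrix (Fin d) (Fin d) F) *ᵥ ((g : Matrix (Fin d) (Fin d) F) *ᵥ v) ∈ U at this
      rwa [Matrix.mulVec_mulVec, Units.inv_mul, Matrix.one_mulVec] at this
    refine eq_top_iff.2 fun y _ => ?_
    rw [← y.inl_left_mul_inr_right]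
    exact X.mul_mem (show y.left.toAdd ∈ U from hUtop ▸ Submodule.mem_top) (hX.le ⟨y.right, rfl⟩)
  refine ⟨G, inferInstance, inferInstance, M, H, K, hM, ?_, hHM, ?_, ?_, hHK, ?_⟩
  · have h1 := M.index_mul_card
    rw [show Nat.card M = Nat.card (GL (Fin d) F) from
      (Nat.card_congr (MonoidHom.ofInjective SemidirectProduct.inr_injective).toEquiv).symm,
      SemidirectProduct.card, show Nat.card (Multiplicative V) = p ^ d by
        rw [show Nat.card (Multiplicative V) = Nat.card V from rfl, Nat.card_fun, Nat.card_zmod,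
          Nat.card_eq_fintype_card, Fintype.card_fin]] at h1
    exact mul_right_cancel₀ Nat.card_pos.ne' h1
  · refine ⟨fun h => hS.1 (eq_top_iff.2 fun g _ => ?_), fun X hX => ?_⟩
    · have : (⟨SemidirectProduct.inr g, g, rfl⟩ : M) ∈ H.subgroupOf M := h ▸ Subgroup.mem_top _
      obtain ⟨g', hg', e⟩ := this
      exact SemidirectProduct.inr_injective e ▸ hg'
    · let T : Subgroup (GL (Fin d) F) := X.comap (SemidirectProduct.inr : GL (Fin d) F →* G).rangeRestrict
      have hST : S < T := by
        obtain ⟨⟨_, g, rfl⟩, hx, hn⟩ := Set.exists_of_ssubset (SetLike.coe_ssubset_coe.2 hX)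
        refine SetLike.lt_iff_le_and_exists.2 ⟨fun s hs => hX.le ⟨s, hs, rfl⟩, g, hx, fun hg => hn ?_⟩
        exact ⟨g, hg, rfl⟩
      have hT := hS.2 T hST
      refine eq_top_iff.2 ?_
      rintro ⟨_, g, rfl⟩ -
      exact (show g ∈ T from hT ▸ Subgroup.mem_top _)
  · refine ⟨fun h => hS.1 (eq_top_iff.2 fun g _ => ?_), fun X hX => ?_⟩
    · have : (SemidirectProduct.inr g : G) ∈ K := h ▸ Subgroup.mem_top _
      simpa [K] using this
    · have hker : (SemidirectProduct.rightHom : G →* GL (Fin d) F).ker ≤ X := fun x hx =>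
        hX.le (show x.right ∈ S by rw [show x.right = 1 from hx]; exact S.one_mem)
      have hcm : X = (X.map SemidirectProduct.rightHom).comap SemidirectProduct.rightHom := by
        rw [Subgroup.comap_map_eq, sup_eq_left.2 hker]
      have hlt : S < X.map SemidirectProduct.rightHom := by
        refine lt_of_le_of_ne (fun s hs => ⟨SemidirectProduct.inr s, hX.le (show SemidirectProduct.rightHom (SemidirectProduct.inr s : G) ∈ S by rw [SemidirectProduct.rightHom_inr]; exact hs), by simp⟩) ?_
        intro h
        rw [← h] at hcm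
        exact hX.ne' hcm
      rw [hcm, hS.2 _ hlt, Subgroup.comap_top]
  · intro hco
    let L : Subgroup G :=
      { carrier := {x | x.right ∈ S ∧ x.left.toAdd ∈ W}
        one_mem' := ⟨S.one_mem, W.zero_mem⟩
        mul_mem' := fun {a b} ha hb => ⟨S.mul_mem ha.1 hb.1, by
          rw [SemidirectProduct.mul_left, toAdd_mul, act_apply, toAdd_ofAdd]
          exact W.add_mem ha.2 (hSmem _ ha.1 _ hb.2)⟩
        inv_mem' := fun {a} ha => ⟨S.inv_mem ha.1, by
          rw [SemidirectProduct.inv_left, act_apply, toAdd_ofAdd, toAdd_inv]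
          exact hSmem _ (S.inv_mem ha.1) _ (W.neg_mem ha.2)⟩ }
    have hlt : H.subgroupOf K < L.subgroupOf K := by
      have hwK : (SemidirectProduct.inl (Multiplicative.ofAdd (Pi.single 0 1 : V)) : G) ∈ K := by
        show SemidirectProduct.rightHom _ ∈ S
        rw [SemidirectProduct.rightHom_inl]
        exact S.one_mem
      refine SetLike.lt_iff_le_and_exists.2 ⟨fun x hx => ?_, ⟨_, hwK⟩, ?_, fun h => ?_⟩
      · obtain ⟨g, hg, e⟩ := hx
        show (x : G).right ∈ S ∧ (x : G).left.toAdd ∈ W
        rw [show (x : G) = SemidirectProduct.inr g from e.symm]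
        exact ⟨by simpa using hg, by simp⟩
      · exact ⟨S.one_mem, Submodule.mem_span_singleton_self _⟩
      · obtain ⟨g, -, e⟩ := h
        exact hw1 (congrArg (fun x : G => x.left.toAdd) e).symm
    have htop := hco.2 _ hlt
    obtain ⟨v, hv⟩ : ∃ v, v ∉ W := by
      by_contra h
      push Not at h
      exact hW1 (eq_top_iff.2 fun v _ => h v)
    have hvK : (SemidirectProduct.inl (Multiplicative.ofAdd v) : G) ∈ K := by
      show SemidirectProduct.rightHom _ ∈ S
      simp
    have : (⟨_, hvK⟩ : K) ∈ L.subgroupOf K := htop ▸ Subgroup.mem_top _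
    exact hv (by simpa using this.2)

end Cfsg.Agent.S5895
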