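import Cfsg.Statements.S5896
-- import your own Cfsg.Agent.* helpers here

set_option autoImplicit false
open Cfsg

namespace Cfsg.Agent.S5896

open Matrix
open scoped commutatorElement

section
variable {R : Type*} [CommRing R]

local notation "SL2" => Matrix.SpecialLinearGroup (Fin 2) R

/-- Upper elementary. -/
def uu (x : R) : SL2 := ⟨!![1, x; 0, 1], by simp [Matrix.det_fin_two]⟩

/-- Lower elementary. -/
def ll (x : R) : SL2 := ⟨!![1, 0; x, 1], by simp [Matrix.det_fin_two]⟩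

/-- Diagonal. -/
def dd (t : Rˣ) : SL2 := ⟨!![(t : R), 0; 0, ((t⁻¹ : Rˣ) : R)], by simp [Matrix.det_fin_two]⟩

lemma uu_val (x : R) : (uu x : SL2).1 = !![1, x; 0, 1] := rfl

lemma ll_val (x : R) : (ll x : SL2).1 = !![1, 0; x, 1] := rfl

lemma dd_val (t : Rˣ) : (dd t : SL2).1 = !![(t : R), 0; 0, ((t⁻¹ : Rˣ) : R)] := rfl

lemma ext4 {g h : SL2} (h00 : g.1 0 0 = h.1 0 0) (h01 : g.1 0 1 = h.1 0 1) (h10 : g.1 1 0 = h.1 1 0)
    (h11 : g.1 1 1 = h.1 1 1) : g = h := by
  refine Subtype.ext ?_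
  ext i j
  fin_cases i <;> fin_cases j <;> assumption

lemma mul4 (g h : SL2) (i j : Fin 2) : (g * h).1 i j = g.1 i 0 * h.1 0 j + g.1 i 1 * h.1 1 j := by
  show (g.1 * h.1) i j = _
  rw [Matrix.mul_apply, Fin.sum_univ_two]

lemma dd_eq (t : Rˣ) : dd t = (uu (t : R) * ll (-((t⁻¹ : Rˣ) : R)) * uu (t : R)) *
    (uu (-1 : R) * ll (1 : R) * uu (-1 : R)) := by
  refine ext4 ?_ ?_ ?_ ?_ <;> simp [mul4, dd_val, uu_val, ll_val] <;> ring_nf <;> simp

/-- The factorisation of an element with an invertible corner. -/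
lemma factor (g : SL2) (a : Rˣ) (ha : g.1 0 0 = a) :
    g = ll (g.1 1 0 * ((a⁻¹ : Rˣ) : R)) * dd a * uu (((a⁻¹ : Rˣ) : R) * g.1 0 1) := by
  have hd := g.2
  rw [Matrix.det_fin_two, ha] at hd
  have h1 : (a : R) * ((a⁻¹ : Rˣ) : R) = 1 := a.mul_inv
  refine ext4 ?_ ?_ ?_ ?_ <;> simp [mul4, dd_val, uu_val, ll_val, ha]
  · linear_combination ((a⁻¹ : Rˣ) : R) * hd - g.1 1 1 * h1

lemma comm_dd_uu (t : Rˣ) (x : R) : ⁅dd t, uu x⁆ = uu (((t : R) * t - 1) * x) := by
  rw [commutatorElement_def, mul_inv_eq_iff_eq_mul, mul_inv_eq_iff_eq_mul]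
  refine ext4 ?_ ?_ ?_ ?_ <;> simp [mul4, dd_val, uu_val]
  · linear_combination (-((t : R) * x)) * t.mul_inv

lemma comm_dd_ll (t : Rˣ) (x : R) :
    ⁅dd t, ll x⁆ = ll ((((t⁻¹ : Rˣ) : R) * ((t⁻¹ : Rˣ) : R) - 1) * x) := by
  rw [commutatorElement_def, mul_inv_eq_iff_eq_mul, mul_inv_eq_iff_eq_mul]
  refine ext4 ?_ ?_ ?_ ?_ <;> simp [mul4, dd_val, ll_val]
  · linear_combination (-(((t⁻¹ : Rˣ) : R) * x)) * t.mul_inv

lemma comm_uu_ll (x y : R) :
    (⁅uu x, ll y⁆).1 0 0 = 1 + x * y + x * y * (x * y) ∧ (⁅uu x, ll y⁆).1 0 1 = -(x * x * y) ∧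
      (⁅uu x, ll y⁆).1 1 0 = x * y * y ∧ (⁅uu x, ll y⁆).1 1 1 = 1 - x * y := by
  have hu : (uu x)⁻¹ = uu (-x) := inv_eq_of_mul_eq_one_right (by
    refine ext4 ?_ ?_ ?_ ?_ <;> simp [mul4, uu_val])
  have hl : (ll y)⁻¹ = ll (-y) := inv_eq_of_mul_eq_one_right (by
    refine ext4 ?_ ?_ ?_ ?_ <;> simp [mul4, ll_val])
  rw [commutatorElement_def, hu, hl]
  refine ⟨?_, ?_, ?_, ?_⟩ <;> simp [mul4, uu_val, ll_val] <;> ring

lemma conj_uu (w : SL2) (x : R) (h00 : w.1 0 0 = 0) (h11 : w.1 1 1 = 0) :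
    w * uu x = ll (-(w.1 1 0 * w.1 1 0 * x)) * w := by
  have hd := w.2
  rw [Matrix.det_fin_two, h00, h11] at hd
  refine ext4 ?_ ?_ ?_ ?_ <;> simp [mul4, uu_val, ll_val, h00, h11]
  · linear_combination (-(w.1 1 0 * x)) * hd

end


lemma two_ne : (2 : ZMod 5) ≠ 0 := by decide

lemma three_ne : (2 : ZMod 5) * 2 - 1 ≠ 0 := by decide

/-- Finite perfect groups have solvable maximal subgroups of unbounded derived length: for every d there is a finite perfect group G (equal to its commutator subgroup) with a solvable maximal subgroup H whose derived length exceeds d, i.e. the d-th term of the derived series of H is non-trivial. (Take the derived subgroup of a wreath product S ≀ A₅ with S solvable of large derived length, and H the preimage of a maximal subgroup of A₅.) -/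
theorem result (d : ℕ) :
    ∃ (G : Type) (_ : Group G) (_ : Finite G) (H : Subgroup G), commutator G = ⊤ ∧ IsCoatom H ∧ Group.IsSolvable H ∧
      derivedSeries H d ≠ ⊥ := by
  classical
  set k := 2 ^ d + 1 with hk
  haveI : Fact (Nat.Prime 5) := ⟨by norm_num⟩
  haveI : NeZero (5 ^ k) := ⟨by positivity⟩
  let π : (ZMod (5 ^ k)) →+* ZMod 5 := ZMod.castHom (dvd_pow_self 5 (show k ≠ 0 from Nat.succ_ne_zero _)) (ZMod 5)
  have hunit : ∀ x : (ZMod (5 ^ k)), π x ≠ 0 → IsUnit x := by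
    intro x hx
    rw [← ZMod.natCast_zmod_val x, ZMod.isUnit_iff_coprime]
    refine Nat.Coprime.pow_right _ ((Nat.coprime_comm).1 ((Nat.Prime.coprime_iff_not_dvd (by norm_num)).2 ?_))
    intro h
    apply hx
    rw [← ZMod.natCast_zmod_val x, map_natCast]
    exact (ZMod.natCast_eq_zero_iff _ _).2 h
  have hπ5 : π 5 = 0 := by
    have : (5 : (ZMod (5 ^ k))) = ((5 : ℕ) : (ZMod (5 ^ k))) := by norm_num
    rw [this, map_natCast, ZMod.natCast_self]
  -- generation
  have gen : ∀ X : Subgroup (Matrix.SpecialLinearGroup (Fin 2) (ZMod (5 ^ k))), (∀ x, uu x ∈ X) → (∀ x, ll x ∈ X) → X = ⊤ := by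
    intro X hu hl
    have hd : ∀ t, dd t ∈ X := fun t => by
      rw [dd_eq]
      exact X.mul_mem (X.mul_mem (X.mul_mem (hu _) (hl _)) (hu _)) (X.mul_mem (X.mul_mem (hu _) (hl _)) (hu _))
    have key : ∀ g : (Matrix.SpecialLinearGroup (Fin 2) (ZMod (5 ^ k))), IsUnit (g.1 0 0) → g ∈ X := by
      rintro g ⟨a, ha⟩
      rw [factor g a ha.symm]
      exact X.mul_mem (X.mul_mem (hl _) (hd _)) (hu _)
    refine eq_top_iff.2 fun g _ => ?_
    by_cases h : π (g.1 0 0) = 0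
    · have hg : (uu (1 : (ZMod (5 ^ k))) * g).1 0 0 = g.1 0 0 + g.1 1 0 := by simp [mul4, uu_val]
      have hc : π (g.1 1 0) ≠ 0 := fun hc => by
        have hdet := congrArg π g.2
        rw [Matrix.det_fin_two, map_sub, map_mul, map_mul, h, hc, zero_mul, mul_zero, sub_zero,
          map_one] at hdet
        exact zero_ne_one hdet
      have := X.mul_mem (X.inv_mem (hu (1 : (ZMod (5 ^ k))))) (key _ (hunit _ (by rw [hg, map_add, h, zero_add]; exact hc)))
      simpa using this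
    · exact key g (hunit _ h)
  have hperf : commutator (Matrix.SpecialLinearGroup (Fin 2) (ZMod (5 ^ k))) = ⊤ := by
    obtain ⟨t, ht⟩ := hunit (2 : (ZMod (5 ^ k))) (by rw [map_ofNat]; exact two_ne)
    have h3 : IsUnit ((t : (ZMod (5 ^ k))) * t - 1) := hunit _ (by
      rw [ht, map_sub, map_mul, map_ofNat, map_one]; exact three_ne)
    have h3' : IsUnit (((t⁻¹ : (ZMod (5 ^ k))ˣ) : (ZMod (5 ^ k))) * ((t⁻¹ : (ZMod (5 ^ k))ˣ) : (ZMod (5 ^ k))) - 1) := by
      have : ((t⁻¹ : (ZMod (5 ^ k))ˣ) : (ZMod (5 ^ k))) * ((t⁻¹ : (ZMod (5 ^ k))ˣ) : (ZMod (5 ^ k))) - 1 =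
          -(((t : (ZMod (5 ^ k))) * t - 1) * (((t⁻¹ : (ZMod (5 ^ k))ˣ) : (ZMod (5 ^ k))) * ((t⁻¹ : (ZMod (5 ^ k))ˣ) : (ZMod (5 ^ k))))) := by
        linear_combination (1 + (t : (ZMod (5 ^ k))) * ((t⁻¹ : (ZMod (5 ^ k))ˣ) : (ZMod (5 ^ k)))) * t.mul_inv
      rw [this]
      exact (h3.mul (((t⁻¹ : (ZMod (5 ^ k))ˣ).isUnit).mul (t⁻¹ : (ZMod (5 ^ k))ˣ).isUnit)).neg
    refine gen _ (fun x => ?_) (fun x => ?_)
    · obtain ⟨e, he⟩ := h3
      rw [show x = ((t : (ZMod (5 ^ k))) * t - 1) * (((e⁻¹ : (ZMod (5 ^ k))ˣ) : (ZMod (5 ^ k))) * x) by rw [← he, ← mul_assoc, e.mul_inv, one_mul],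
        ← comm_dd_uu]
      exact Subgroup.commutator_mem_commutator (Subgroup.mem_top _) (Subgroup.mem_top _)
    · obtain ⟨e, he⟩ := h3'
      rw [show x = (((t⁻¹ : (ZMod (5 ^ k))ˣ) : (ZMod (5 ^ k))) * ((t⁻¹ : (ZMod (5 ^ k))ˣ) : (ZMod (5 ^ k))) - 1) * (((e⁻¹ : (ZMod (5 ^ k))ˣ) : (ZMod (5 ^ k))) * x) by
          rw [← he, ← mul_assoc, e.mul_inv, one_mul],
        ← comm_dd_ll]
      exact Subgroup.commutator_mem_commutator (Subgroup.mem_top _) (Subgroup.mem_top _)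
  -- the triangular subgroup
  let H : Subgroup (Matrix.SpecialLinearGroup (Fin 2) (ZMod (5 ^ k))) :=
    { carrier := {g | π (g.1 1 0) = 0}
      one_mem' := by simp
      mul_mem' := fun {a b} ha hb => by
        show π ((a * b).1 1 0) = 0
        rw [mul4, map_add, map_mul, map_mul, show π (a.1 1 0) = 0 from ha,
          show π (b.1 1 0) = 0 from hb, zero_mul, mul_zero, add_zero]
      inv_mem' := fun {a} ha => by
        show π ((a⁻¹).1 1 0) = 0
        rw [Matrix.SpecialLinearGroup.coe_inv, Matrix.adjugate_fin_two]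
        simpa using ha }
  have hmemH : ∀ g : (Matrix.SpecialLinearGroup (Fin 2) (ZMod (5 ^ k))), g ∈ H ↔ π (g.1 1 0) = 0 := fun g => Iff.rfl
  have huH : ∀ x, uu x ∈ H := fun x => (hmemH _).2 (by simp [mul4, uu_val])
  have hdH : ∀ t, dd t ∈ H := fun t => (hmemH _).2 (by simp [dd_val])
  have hcoatom : IsCoatom H := by
    refine ⟨fun h => ?_, fun X hX => ?_⟩
    · have : ll (1 : (ZMod (5 ^ k))) ∈ H := h ▸ Subgroup.mem_top _
      rw [hmemH] at this
      simp [ll_val] at this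
    · obtain ⟨g, hg, hgH⟩ := Set.exists_of_ssubset (SetLike.coe_ssubset_coe.2 hX)
      obtain ⟨c, hc⟩ := hunit (g.1 1 0) hgH
      let e := ((c⁻¹ : (ZMod (5 ^ k))ˣ) : (ZMod (5 ^ k)))
      have hce : g.1 1 0 * e = 1 := by rw [← hc]; exact c.mul_inv
      set w : (Matrix.SpecialLinearGroup (Fin 2) (ZMod (5 ^ k))) := uu (-(g.1 0 0 * e)) * g * uu (-(g.1 1 1 * e)) with hw
      have hwX : w ∈ X := X.mul_mem (X.mul_mem (hX.le (huH _)) hg) (hX.le (huH _))
      have h00 : w.1 0 0 = 0 := by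
        simp [hw, mul4, uu_val]
        linear_combination (-g.1 0 0) * hce
      have h11 : w.1 1 1 = 0 := by
        simp [hw, mul4, uu_val]
        linear_combination (-g.1 1 1) * hce
      have h10 : w.1 1 0 = g.1 1 0 := by simp [hw, mul4, uu_val]
      refine gen X (fun x => hX.le (huH x)) fun y => ?_
      have h : ∀ x, ll (-(w.1 1 0 * w.1 1 0 * x)) ∈ X := fun x => by
        rw [eq_mul_inv_of_mul_eq (conj_uu w x h00 h11).symm]
        exact X.mul_mem (X.mul_mem hwX (hX.le (huH x))) (X.inv_mem hwX)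
      have hy : -(w.1 1 0 * w.1 1 0 * -(e * e * y)) = y := by
        rw [h10]; linear_combination y * (g.1 1 0 * e + 1) * hce
      exact hy ▸ h _
  have hsolv : Group.IsSolvable H := by
    let φ₀ : H →* ZMod 5 :=
      { toFun := fun g => π ((g : (Matrix.SpecialLinearGroup (Fin 2) (ZMod (5 ^ k)))).1 0 0)
        map_one' := by simp
        map_mul' := fun a b => by
          show π (((a : (Matrix.SpecialLinearGroup (Fin 2) (ZMod (5 ^ k)))) * (b : (Matrix.SpecialLinearGroup (Fin 2) (ZMod (5 ^ k))))).1 0 0) = _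
          rw [mul4, map_add, map_mul, map_mul, (hmemH _).1 b.2, mul_zero, add_zero] }
    let φ : H →* (ZMod 5)ˣ := φ₀.toHomUnits
    haveI : Finite H := inferInstance
    have hp : IsPGroup 5 φ.ker := by
      rintro ⟨⟨g, hg⟩, hφ⟩
      refine ⟨k + 1, Subtype.ext (Subtype.ext (Subtype.ext ?_))⟩
      show (g ^ 5 ^ (k + 1)).1 = 1
      have ha : π (g.1 0 0) = 1 := congrArg Units.val hφ
      have hc : π (g.1 1 0) = 0 := hg
      have hd : π (g.1 1 1) = 1 := by
        have hdet := congrArg π g.2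
        rw [Matrix.det_fin_two, map_sub, map_mul, map_mul, ha, hc, mul_zero, sub_zero, map_one,
          one_mul] at hdet
        exact hdet
      have hdiv : ∀ x : (ZMod (5 ^ k)), π x = 0 → ∃ y, x = 5 * y := by
        intro x hx
        rw [← ZMod.natCast_zmod_val x, map_natCast, ZMod.natCast_eq_zero_iff] at hx
        obtain ⟨y, hy⟩ := hx
        exact ⟨(y : (ZMod (5 ^ k))), by rw [← ZMod.natCast_zmod_val x, hy]; push_cast; rfl⟩
      have step : ∀ j, ∃ A : Matrix (Fin 2) (Fin 2) (ZMod (5 ^ k)),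
          (g ^ 5 ^ (j + 1)).1 = 1 + (5 : (ZMod (5 ^ k))) ^ (j + 1) • A := by
        intro j
        induction j with
        | zero =>
          have hmap : π.mapMatrix ((g ^ 5 ^ (0 + 1)).1) = 1 := by
            rw [Matrix.SpecialLinearGroup.coe_pow, map_pow]
            have hgm : π.mapMatrix g.1 = !![1, π (g.1 0 1); 0, 1] := by
              ext i j; fin_cases i <;> fin_cases j <;> simp [ha, hc, hd]
            have hup : ∀ (N : ℕ) (b : ZMod 5), (!![1, b; 0, 1] : Matrix (Fin 2) (Fin 2) (ZMod 5)) ^ N =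
                !![1, (N : ZMod 5) * b; 0, 1] := by
              intro N b
              induction N with
              | zero =>
                rw [pow_zero, Nat.cast_zero, zero_mul]
                ext i j; fin_cases i <;> fin_cases j <;> rfl
              | succ N ih =>
                rw [pow_succ, ih]
                ext i j
                fin_cases i <;> fin_cases j <;> simp [Matrix.mul_apply, Fin.sum_univ_two] <;> ring
            rw [hgm, hup, show ((5 ^ (0 + 1) : ℕ) : ZMod 5) = 0 from rfl, zero_mul]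
            ext i j
            fin_cases i <;> fin_cases j <;> rfl
          have hent : ∀ i j, ∃ y, ((g ^ 5 ^ (0 + 1)).1 - 1) i j = 5 * y := fun i j => hdiv _ (by
            have h := congrFun (congrFun (show π.mapMatrix ((g ^ 5 ^ (0 + 1)).1 - 1) = 0 by
              rw [map_sub, hmap, map_one, sub_self]) i) j
            simpa using h)
          choose A hA using hent
          refine ⟨Matrix.of A, ?_⟩
          rw [← sub_eq_iff_eq_add']
          ext i j
          simpa using hA i j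
        | succ j ih =>
          obtain ⟨A, hA⟩ := ih
          set c := (5 : (ZMod (5 ^ k))) ^ (j + 1) with hc
          refine ⟨A + (2 * c) • A ^ 2 + (2 * c ^ 2) • A ^ 3 + c ^ 3 • A ^ 4 +
            (c ^ 3 * (5 : (ZMod (5 ^ k))) ^ j) • A ^ 5, ?_⟩
          rw [pow_succ 5 (j + 1), pow_mul, Matrix.SpecialLinearGroup.coe_pow, hA, pow_succ (5 : (ZMod (5 ^ k))) (j + 1),
            ← hc, show (1 + c • A) ^ 5 = 1 + (5 : (ZMod (5 ^ k))) • (c • A) + (10 : (ZMod (5 ^ k))) • (c • A) ^ 2 +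
              (10 : (ZMod (5 ^ k))) • (c • A) ^ 3 + (5 : (ZMod (5 ^ k))) • (c • A) ^ 4 + (c • A) ^ 5 by
                have h5' : ∀ E : Matrix (Fin 2) (Fin 2) (ZMod (5 ^ k)), (1 + E) ^ 5 =
                    1 + (5 : ℕ) • E + (10 : ℕ) • E ^ 2 + (10 : ℕ) • E ^ 3 + (5 : ℕ) • E ^ 4 + E ^ 5 := by
                  intro E
                  simp only [pow_succ, pow_zero, one_mul]
                  noncomm_ring
                rw [h5']
                simp only [← Nat.cast_smul_eq_nsmul (ZMod (5 ^ k)), Nat.cast_ofNat]]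
          simp only [smul_pow, smul_smul, smul_add]
          have e5 : c ^ 5 = c * 5 * (c ^ 3 * (5 : (ZMod (5 ^ k))) ^ j) := by
            rw [hc, pow_succ]; ring
          rw [e5]
          match_scalars <;> ring
      obtain ⟨A, hA⟩ := step k
      rw [hA, show ((5 : (ZMod (5 ^ k))) ^ (k + 1)) = 0 from ?_, zero_smul, add_zero]
      rw [show (5 : (ZMod (5 ^ k))) = ((5 : ℕ) : (ZMod (5 ^ k))) by norm_num, ← Nat.cast_pow, ZMod.natCast_eq_zero_iff]
      exact pow_dvd_pow 5 (Nat.le_succ k)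
    haveI := hp.isNilpotent
    exact solvable_of_ker_le_range φ.ker.subtype φ (by rw [Subgroup.range_subtype])
  refine ⟨(Matrix.SpecialLinearGroup (Fin 2) (ZMod (5 ^ k))), inferInstance, inferInstance, H, hperf, hcoatom, hsolv, ?_⟩
  -- the derived series
  let D : ℕ → Subgroup (Matrix.SpecialLinearGroup (Fin 2) (ZMod (5 ^ k))) := fun j => (derivedSeries H j).map H.subtype
  have hDs : ∀ j, D (j + 1) = ⁅D j, D j⁆ := fun j => by
    show (derivedSeries H (j + 1)).map H.subtype = _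
    rw [derivedSeries_succ, Subgroup.map_commutator]
  have hpow : ∀ N : ℕ, 1 ≤ N → π ((5 : (ZMod (5 ^ k))) ^ N) = 0 := fun N hN => by
    rw [map_pow, hπ5, zero_pow (by omega)]
  have key : ∀ j, (∀ x, uu ((5 : (ZMod (5 ^ k))) ^ (2 ^ j) * x) ∈ D j) ∧ (∀ x, ll ((5 : (ZMod (5 ^ k))) ^ (2 ^ j) * x) ∈ D j) ∧
      ∃ t : (ZMod (5 ^ k))ˣ, ∃ z : (ZMod (5 ^ k)), IsUnit z ∧ (t : (ZMod (5 ^ k))) = 1 + (5 : (ZMod (5 ^ k))) ^ (2 ^ j) * z ∧ dd t ∈ D j := by
    intro j
    induction j with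
    | zero =>
      obtain ⟨t, ht⟩ := hunit ((1 : (ZMod (5 ^ k))) + 5 * 1) (by rw [map_add, map_mul, hπ5, zero_mul, add_zero, map_one]; exact one_ne_zero)
      refine ⟨fun x => ⟨⟨_, huH _⟩, trivial, rfl⟩, fun x => ⟨⟨_, ?_⟩, trivial, rfl⟩,
        t, 1, isUnit_one, by rw [ht, pow_zero, pow_one], ⟨⟨_, hdH _⟩, trivial, rfl⟩⟩
      show π ((ll _ : Matrix.SpecialLinearGroup (Fin 2) (ZMod (5 ^ k))).1 1 0) = 0
      simp [ll_val, hπ5]
    | succ j ih =>
      obtain ⟨hu, hl, t, z, hz, ht, hd⟩ := ih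
      set c := (5 : (ZMod (5 ^ k))) ^ (2 ^ j) with hc
      have hc2 : (5 : (ZMod (5 ^ k))) ^ (2 ^ (j + 1)) = c * c := by rw [hc, ← pow_add, ← two_mul, ← pow_succ']
      have hπc : π c = 0 := hpow _ Nat.one_le_two_pow
      have hun : IsUnit (z * (2 + c * z)) := hz.mul (hunit _ (by
        rw [map_add, map_ofNat, map_mul, hπc, zero_mul, add_zero]; exact two_ne))
      obtain ⟨e, he⟩ := hun
      have htt : (t : (ZMod (5 ^ k))) * t - 1 = c * e := by rw [he, ht]; ring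
      rw [hDs, hc2]
      refine ⟨fun x => ?_, fun x => ?_, ?_⟩
      · have : c * c * x = ((t : (ZMod (5 ^ k))) * t - 1) * (c * (((e⁻¹ : (ZMod (5 ^ k))ˣ) : (ZMod (5 ^ k))) * x)) := by
          rw [htt]; linear_combination (-(c * c * x)) * e.mul_inv
        rw [this, ← comm_dd_uu]
        exact Subgroup.commutator_mem_commutator hd (hu _)
      · have : c * c * x = (((t⁻¹ : (ZMod (5 ^ k))ˣ) : (ZMod (5 ^ k))) * ((t⁻¹ : (ZMod (5 ^ k))ˣ) : (ZMod (5 ^ k))) - 1) *
            (c * (-((t : (ZMod (5 ^ k))) * t) * ((e⁻¹ : (ZMod (5 ^ k))ˣ) : (ZMod (5 ^ k))) * x)) := by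
          linear_combination (((t⁻¹ : (ZMod (5 ^ k))ˣ) : (ZMod (5 ^ k))) * (t : (ZMod (5 ^ k))) + 1) * (c * ((e⁻¹ : (ZMod (5 ^ k))ˣ) : (ZMod (5 ^ k))) * x) * t.mul_inv
            - c * ((e⁻¹ : (ZMod (5 ^ k))ˣ) : (ZMod (5 ^ k))) * x * htt - c * c * x * e.mul_inv
        rw [this, ← comm_dd_ll]
        exact Subgroup.commutator_mem_commutator hd (hl _)
      · obtain ⟨c00, c01, c10, -⟩ := comm_uu_ll c c
        have hcm : ⁅uu c, ll c⁆ ∈ ⁅D j, D j⁆ := Subgroup.commutator_mem_commutator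
          (by simpa using hu 1) (by simpa using hl 1)
        obtain ⟨a, ha⟩ := hunit (1 + c * c + c * c * (c * c)) (by
          simp only [map_add, map_mul, map_one, hπc, mul_zero, add_zero]; exact one_ne_zero)
        refine ⟨a, 1 + c * c, hunit _ (by
          rw [map_add, map_mul, hπc, mul_zero, add_zero, map_one]; exact one_ne_zero), by rw [ha]; ring, ?_⟩
        have hf := factor _ a (c00.trans ha.symm)
        rw [c01, c10] at hf
        have hU : ∀ x, uu (c * c * x) ∈ ⁅D j, D j⁆ := fun x => by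
          have : c * c * x = ((t : (ZMod (5 ^ k))) * t - 1) * (c * (((e⁻¹ : (ZMod (5 ^ k))ˣ) : (ZMod (5 ^ k))) * x)) := by
            rw [htt]; linear_combination (-(c * c * x)) * e.mul_inv
          rw [this, ← comm_dd_uu]
          exact Subgroup.commutator_mem_commutator hd (hu _)
        have hL : ∀ x, ll (c * c * x) ∈ ⁅D j, D j⁆ := fun x => by
          have : c * c * x = (((t⁻¹ : (ZMod (5 ^ k))ˣ) : (ZMod (5 ^ k))) * ((t⁻¹ : (ZMod (5 ^ k))ˣ) : (ZMod (5 ^ k))) - 1) *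
              (c * (-((t : (ZMod (5 ^ k))) * t) * ((e⁻¹ : (ZMod (5 ^ k))ˣ) : (ZMod (5 ^ k))) * x)) := by
            linear_combination (((t⁻¹ : (ZMod (5 ^ k))ˣ) : (ZMod (5 ^ k))) * (t : (ZMod (5 ^ k))) + 1) * (c * ((e⁻¹ : (ZMod (5 ^ k))ˣ) : (ZMod (5 ^ k))) * x) * t.mul_inv
              - c * ((e⁻¹ : (ZMod (5 ^ k))ˣ) : (ZMod (5 ^ k))) * x * htt - c * c * x * e.mul_inv
          rw [this, ← comm_dd_ll]
          exact Subgroup.commutator_mem_commutator hd (hl _)
        rw [eq_inv_mul_of_mul_eq (eq_mul_inv_of_mul_eq hf.symm)]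
        refine mul_mem (inv_mem ?_) (mul_mem hcm (inv_mem ?_))
        · rw [show c * c * c * ((a⁻¹ : (ZMod (5 ^ k))ˣ) : (ZMod (5 ^ k))) = c * c * (c * ((a⁻¹ : (ZMod (5 ^ k))ˣ) : (ZMod (5 ^ k)))) by ring]
          exact hL _
        · rw [show ((a⁻¹ : (ZMod (5 ^ k))ˣ) : (ZMod (5 ^ k))) * -(c * c * c) = c * c * (-(c * ((a⁻¹ : (ZMod (5 ^ k))ˣ) : (ZMod (5 ^ k))))) by ring]
          exact hU _
  intro hbot
  have hmem := (key d).1 1
  have hD : D d = ⊥ := by
    show (derivedSeries H d).map H.subtype = ⊥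
    rw [hbot, Subgroup.map_bot]
  rw [hD, Subgroup.mem_bot] at hmem
  have h := congrArg (fun g : (Matrix.SpecialLinearGroup (Fin 2) (ZMod (5 ^ k))) => g.1 0 1) hmem
  simp [uu_val] at h
  have hz : ((5 ^ 2 ^ d : ℕ) : (ZMod (5 ^ k))) = 0 := by push_cast; exact h
  rw [ZMod.natCast_eq_zero_iff, Nat.pow_dvd_pow_iff_le_right (by norm_num)] at hz
  omega

end Cfsg.Agent.S5896
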