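import Cfsg.Statements.S5902
import Cfsg.Agent.S5901

set_option autoImplicit false
open Cfsg

namespace Cfsg.Agent.S5902

/-- Let G be a finite group, X a subgroup whose own subgroup lattice is complemented, and suppose X lies in exactly one maximal subgroup M of G. Then every subgroup H of G not contained in the normal core of M has a complement in the subgroup lattice of G (some C with H ⊔ C = G and H ⊓ C = 1); in particular the subgroup lattice of G modulo the normal core of M is complemented. -/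
theorem result {G : Type*} [Group G] [Finite G] (X M : Subgroup G)
    (hK : ComplementedLattice (Subgroup X))
    (hM : IsCoatom M) (hXM : X ≤ M) (huniq : ∀ M' : Subgroup G, IsCoatom M' → X ≤ M' → M' = M) :
    (∀ H : Subgroup G, ¬ H ≤ M.normalCore → ∃ C : Subgroup G, H ⊔ C = ⊤ ∧ H ⊓ C = ⊥) ∧
    ComplementedLattice (Subgroup (G ⧸ M.normalCore)) := by
  haveI : Finite (Subgroup G) := inferInstance
  have hfirst : ∀ H : Subgroup G, ¬ H ≤ M.normalCore →
      ∃ C : Subgroup G, H ⊔ C = ⊤ ∧ H ⊓ C = ⊥ := by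
    intro H hH
    obtain ⟨a, haH, g, hga⟩ : ∃ a ∈ H, ∃ g : G, g * a * g⁻¹ ∉ M := by
      by_contra h
      push Not at h
      exact hH fun a ha g => h a ha g
    let e : Subgroup G ≃o Subgroup G := MulEquiv.mapSubgroup (MulAut.conj g⁻¹)
    have hXint : ∀ Y : Subgroup G, Y ≤ X → ∃ C : Subgroup G, C ≤ X ∧ Y ⊔ C = X ∧ Y ⊓ C = ⊥ := by
      intro Y hY
      obtain ⟨C, hC⟩ := exists_isCompl (Y.subgroupOf X)
      have hY' : (Y.subgroupOf X).map X.subtype = Y := by
        rw [Subgroup.subgroupOf_map_subtype, inf_eq_left.2 hY]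
      refine ⟨C.map X.subtype, Subgroup.map_subtype_le C, ?_, ?_⟩
      · conv_lhs => rw [← hY']
        rw [← Subgroup.map_sup, hC.sup_eq_top, ← MonoidHom.range_eq_map, Subgroup.range_subtype]
      · conv_lhs => rw [← hY']
        rw [← Subgroup.map_inf _ _ _ X.subtype_injective, hC.inf_eq_bot, Subgroup.map_bot]
    have hint : ∀ Y : Subgroup G, ⊥ ≤ Y → Y ≤ e X →
        ∃ C : Subgroup G, ⊥ ≤ C ∧ C ≤ e X ∧ Y ⊔ C = e X ∧ Y ⊓ C = ⊥ := by
      intro Y _ hY
      obtain ⟨C, h1, h2, h3⟩ := hXint (e.symm Y) (e.symm_apply_le.2 hY)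
      refine ⟨e C, bot_le, e.monotone h1, ?_, ?_⟩
      · rw [← h2, map_sup, e.apply_symm_apply]
      · conv_rhs => rw [← e.map_bot, ← h3, map_inf, e.apply_symm_apply]
    refine S5901.complement ⊥ (e X) (e M) bot_le hint ((e.isCoatom_iff M).2 hM) ?_ H ?_
      (inf_bot_eq H)
    · intro M' hM' hle
      rw [← huniq (e.symm M') ((e.symm.isCoatom_iff M').2 hM') (e.le_symm_apply.2 hle),
        e.apply_symm_apply]
    · intro hle
      obtain ⟨m, hm, hme⟩ := hle haH
      refine hga ?_
      have h' : g⁻¹ * m * g⁻¹⁻¹ = a := hme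
      rw [← h']
      simpa [mul_assoc] using hm
  refine ⟨hfirst, ⟨fun Hq => ?_⟩⟩
  set K := M.normalCore with hK
  have hker : (QuotientGroup.mk' K).ker = K := QuotientGroup.ker_mk' K
  set H := Hq.comap (QuotientGroup.mk' K) with hHdef
  have hKH : K ≤ H := by
    rw [← hker]
    exact Subgroup.ker_le_comap _ _
  have hmap : H.map (QuotientGroup.mk' K) = Hq :=
    Subgroup.map_comap_eq_self_of_surjective (QuotientGroup.mk'_surjective K) Hq
  by_cases h : H ≤ K
  · refine ⟨⊤, ?_⟩
    rw [show Hq = ⊥ by rw [← hmap, Subgroup.map_eq_bot_iff, hker]; exact h]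
    exact isCompl_bot_top
  obtain ⟨C, h1, h2⟩ := hfirst H h
  refine ⟨C.map (QuotientGroup.mk' K), IsCompl.of_eq ?_ ?_⟩
  · rw [eq_bot_iff]
    rintro z ⟨hz1, c, hc, rfl⟩
    have : c ∈ H ⊓ C := ⟨hz1, hc⟩
    rw [h2, Subgroup.mem_bot] at this
    rw [this, map_one]
    exact one_mem _
  · rw [← hmap, ← Subgroup.map_sup, h1,
      Subgroup.map_top_of_surjective _ (QuotientGroup.mk'_surjective K)]

end Cfsg.Agent.S5902
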