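import Cfsg.Statements.S5903
import Cfsg.Agent.S5901

set_option autoImplicit false
open Cfsg

namespace Cfsg.Agent.S5903

/-- Let G be a finite simple group, X a subgroup lying in exactly one maximal subgroup M of G, and N a subgroup of prime order with N ≤ X that is central in M. If the subgroup lattice of X/N is complemented, then the subgroup lattice of G is complemented. -/
theorem result {G : Type*} [Group G] [Finite G] [IsSimpleGroup G] (X M N : Subgroup G)
    (hM : IsCoatom M) (hXM : X ≤ M) (huniq : ∀ M' : Subgroup G, IsCoatom M' → X ≤ M' → M' = M)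
    (hNX : N ≤ X) (hN : (Nat.card N).Prime) (hcen : ∀ n ∈ N, ∀ m ∈ M, m * n = n * m)
    [(N.subgroupOf X).Normal] (hK : ComplementedLattice (Subgroup (X ⧸ N.subgroupOf X))) :
    ComplementedLattice (Subgroup G) := by
  haveI : Finite (Subgroup G) := inferInstance
  refine ⟨fun H => ?_⟩
  rcases eq_or_ne H ⊥ with rfl | hbot
  · exact ⟨⊤, isCompl_bot_top⟩
  rcases eq_or_ne H ⊤ with rfl | htop
  · exact ⟨⊥, isCompl_top_bot⟩
  -- the interval condition
  have hint : ∀ Y : Subgroup G, N ≤ Y → Y ≤ X →
      ∃ C : Subgroup G, N ≤ C ∧ C ≤ X ∧ Y ⊔ C = X ∧ Y ⊓ C = N := by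
    intro Y hNY hYX
    set π := QuotientGroup.mk' (N.subgroupOf X) with hπ
    have hker : π.ker = N.subgroupOf X := QuotientGroup.ker_mk' _
    obtain ⟨C, hC⟩ := exists_isCompl ((Y.subgroupOf X).map π)
    have hY' : ((Y.subgroupOf X).map π).comap π = Y.subgroupOf X := by
      rw [Subgroup.comap_map_eq, hker, sup_eq_left]
      exact fun z hz => hNY hz
    have hNC : N.subgroupOf X ≤ C.comap π := hker.ge.trans (Subgroup.ker_le_comap π C)
    have hNX' : (N.subgroupOf X).map X.subtype = N := by
      rw [Subgroup.subgroupOf_map_subtype, inf_eq_left.2 hNX]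
    have hYX' : (Y.subgroupOf X).map X.subtype = Y := by
      rw [Subgroup.subgroupOf_map_subtype, inf_eq_left.2 hYX]
    refine ⟨(C.comap π).map X.subtype, ?_, Subgroup.map_subtype_le _, ?_, ?_⟩
    · exact hNX'.ge.trans (Subgroup.map_mono hNC)
    · rw [← hYX', ← Subgroup.map_sup]
      conv_rhs => rw [← X.range_subtype, MonoidHom.range_eq_map]
      congr 1
      rw [← hY', Subgroup.comap_sup_eq π _ _ (QuotientGroup.mk'_surjective _), hC.sup_eq_top,
        Subgroup.comap_top]
    · rw [← hYX', ← Subgroup.map_inf _ _ _ X.subtype_injective, ← hY', ← Subgroup.comap_inf,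
        hC.inf_eq_bot, MonoidHom.comap_bot, hker]
      exact hNX' 
  -- a suitable conjugate
  obtain ⟨g, hgM, hgN⟩ : ∃ g : G, ¬ H.map (MulAut.conj g).toMonoidHom ≤ M ∧
      ¬ N ≤ H.map (MulAut.conj g).toMonoidHom := by
    by_contra h
    have hgen : Subgroup.normalClosure (N : Set G) ≤ Subgroup.normalizer (H : Set G) := by
      refine (Subgroup.closure_le _).2 fun y hy => ?_
      obtain ⟨n, hn, hny⟩ := Group.mem_conjugatesOfSet_iff.1 hy
      obtain ⟨c, hc⟩ := isConj_iff.1 hny
      subst hc
      by_cases hle : H.map (MulAut.conj c⁻¹).toMonoidHom ≤ M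
      · refine Subgroup.mem_normalizer_iff.2 fun z => ?_
        have key : ∀ w ∈ H, c * n * c⁻¹ * w = w * (c * n * c⁻¹) := fun w hw => by
          have h1 : c⁻¹ * w * c⁻¹⁻¹ ∈ M := hle ⟨w, hw, rfl⟩
          have h2 := hcen n hn _ h1
          calc c * n * c⁻¹ * w = c * (n * (c⁻¹ * w * c⁻¹⁻¹)) * c⁻¹ := by group
            _ = c * ((c⁻¹ * w * c⁻¹⁻¹) * n) * c⁻¹ := by rw [h2]
            _ = _ := by group
        constructor
        · intro hz
          rwa [key z hz, mul_inv_cancel_right]
        · intro hz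
          have h3 := key _ hz
          simp only [← mul_assoc] at h3
          have h4 : c * n * c⁻¹ * z * (c * n * c⁻¹)⁻¹ = z := by
            refine mul_left_cancel (a := c * n * c⁻¹) ?_
            calc c * n * c⁻¹ * (c * n * c⁻¹ * z * (c * n * c⁻¹)⁻¹)
                = c * n * c⁻¹ * c * n * c⁻¹ * z * (c * n * c⁻¹)⁻¹ := by group
              _ = c * n * c⁻¹ * z * (c * n * c⁻¹)⁻¹ * c * n * c⁻¹ := h3
              _ = c * n * c⁻¹ * z := by group
          rwa [h4] at hz
      · have h' : N ≤ H.map (MulAut.conj c⁻¹).toMonoidHom := by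
          by_contra hN'
          exact h ⟨c⁻¹, hle, hN'⟩
        obtain ⟨w, hw, hwn⟩ := h' hn
        refine Subgroup.le_normalizer ?_
        have e : c⁻¹ * w * c⁻¹⁻¹ = n := hwn
        rw [← e]
        simpa [mul_assoc] using hw
    have hN1 : Subgroup.normalClosure (N : Set G) ≠ ⊥ := fun e => by
      have : N ≤ ⊥ := e ▸ Subgroup.le_normalClosure
      rw [le_bot_iff] at this
      rw [this, Subgroup.card_bot] at hN
      exact Nat.not_prime_one hN
    have htop' := (Subgroup.normalClosure_normal (s := (N : Set G))).eq_bot_or_eq_top.resolve_left hN1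
    rw [htop', top_le_iff, Subgroup.normalizer_eq_top_iff] at hgen
    rcases hgen.eq_bot_or_eq_top with e | e
    · exact hbot e
    · exact htop e
  set H' := H.map (MulAut.conj g).toMonoidHom with hH'
  have hinf : H' ⊓ N = ⊥ := by
    haveI : Fact (Nat.card N).Prime := ⟨hN⟩
    rcases (H'.subgroupOf N).eq_bot_or_eq_top_of_prime_card with e | e
    · rw [Subgroup.subgroupOf_eq_bot, disjoint_iff] at e
      exact e
    · exact absurd (Subgroup.subgroupOf_eq_top.1 e) hgN
  obtain ⟨C, h1, h2⟩ := S5901.complement N X M hNX hint hM huniq H' hgM hinf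
  let e : Subgroup G ≃o Subgroup G := MulEquiv.mapSubgroup (MulAut.conj g)
  have hc : IsCompl (e H) C := IsCompl.of_eq h2 h1
  exact ⟨e.symm C, by simpa using (e.symm.isCompl_iff.1 hc)⟩

end Cfsg.Agent.S5903
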