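import Cfsg.Statements.S5913


set_option autoImplicit false
open Cfsg

namespace Cfsg.Agent.S5913

/-- Let S be a non-abelian simple group and n a natural number. Every normal subgroup N of the direct power S^n (functions Fin n → S) is a subproduct: there is a set T of coordinates such that N consists exactly of the elements whose coordinates outside T are trivial. In particular the minimal normal subgroups of S^n are its n factors. -/
theorem result {S : Type*} [Group S] [IsSimpleGroup S] (hS : ¬ IsMulCommutative S) (n : ℕ)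
    (N : Subgroup (Fin n → S)) [N.Normal] :
    ∃ T : Finset (Fin n), ∀ x : Fin n → S, x ∈ N ↔ ∀ i, i ∉ T → x i = 1 := by
  classical
  have hc : ∀ y : S, y ≠ 1 → ∃ a : S, y * a * y⁻¹ * a⁻¹ ≠ 1 := by
    intro y hy
    by_contra h
    push Not at h
    refine hy ?_
    have hy' : y ∈ Subgroup.center S := Subgroup.mem_center_iff.2 fun a => by
      have := h a
      rw [mul_inv_eq_one, mul_inv_eq_iff_eq_mul] at this
      exact this.symm
    rcases (Subgroup.center S).normal_of_characteristic.eq_bot_or_eq_top with e | e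
    · exact Subgroup.mem_bot.1 (e ▸ hy')
    · exact absurd ⟨⟨fun u v => (Subgroup.mem_center_iff.1 (e ▸ Subgroup.mem_top u) v).symm⟩⟩ hS
  refine ⟨Finset.univ.filter fun i => ∃ x ∈ N, x i ≠ 1, fun x => ⟨fun hx i hi => ?_, fun hx => ?_⟩⟩
  · by_contra h
    exact hi (Finset.mem_filter.2 ⟨Finset.mem_univ _, x, hx, h⟩)
  have key : ∀ i : Fin n, (∃ z ∈ N, z i ≠ 1) → ∀ s : S, Pi.mulSingle i s ∈ N := by
    rintro i ⟨z, hz, hzi⟩
    obtain ⟨a, ha⟩ := hc (z i) hzi
    have hNi : (N.comap (MonoidHom.mulSingle (fun _ : Fin n => S) i)).Normal :=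
      (inferInstance : N.Normal).comap _
    have hmem : z i * a * (z i)⁻¹ * a⁻¹ ∈ N.comap (MonoidHom.mulSingle (fun _ : Fin n => S) i) := by
      have h1 : z * (Pi.mulSingle i a * z⁻¹ * (Pi.mulSingle i a)⁻¹) ∈ N :=
        mul_mem hz ((inferInstance : N.Normal).conj_mem _ (inv_mem hz) _)
      have e : z * (Pi.mulSingle i a * z⁻¹ * (Pi.mulSingle i a)⁻¹) =
          Pi.mulSingle i (z i * a * (z i)⁻¹ * a⁻¹) := by
        funext j
        rcases eq_or_ne j i with rfl | hj
        · simp [mul_assoc]
        · simp [hj]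
      show Pi.mulSingle i _ ∈ N
      rwa [← e]
    rcases hNi.eq_bot_or_eq_top with e | e
    · exact absurd (Subgroup.mem_bot.1 (e ▸ hmem)) ha
    · intro s
      have hs : s ∈ N.comap (MonoidHom.mulSingle (fun _ : Fin n => S) i) := e ▸ Subgroup.mem_top s
      exact hs
  have hall : ∀ i, Pi.mulSingle i (x i) ∈ N := fun i => by
    by_cases h : ∃ z ∈ N, z i ≠ 1
    · exact key i h _
    · rw [hx i (fun hi => h (Finset.mem_filter.1 hi).2), Pi.mulSingle_one]
      exact one_mem _
  exact Subgroup.pi_mem_of_mulSingle_mem (H := N) x hall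

end Cfsg.Agent.S5913
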