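import Cfsg.Statements.S5938
import Cfsg.Agent.Lib.Classical.DicksonOver
import Cfsg.Agent.S0803

set_option autoImplicit false
open Cfsg

namespace Cfsg.Agent.S5938

/-- Let p be a prime with p ≡ ±1 (mod 8) and F a field with p elements. Then PSL_2(F) has a maximal subgroup isomorphic to the symmetric group S_4. -/
theorem result {F : Type*} [Field F] [Fintype F] (p : ℕ) [Fact p.Prime] (hF : Fintype.card F = p) (hp : p % 8 = 1 ∨ p % 8 = 7) : ∃ H : Subgroup (Matrix.ProjectiveSpecialLinearGroup (Fin 2) F), IsCoatom H ∧ Nonempty (H ≃* Equiv.Perm (Fin 4)) := by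
  classical
  have hq : Nat.card F = p := by rw [Nat.card_eq_fintype_card, hF]
  haveI : CharP F p := by
    obtain ⟨r, hr⟩ := CharP.exists F
    obtain ⟨n, hr', hn⟩ := FiniteField.card F r
    rw [hF] at hn
    have : r = p := by
      have := (Nat.prime_dvd_prime_iff_eq hr' (Fact.out : p.Prime)).1 (hn ▸ dvd_pow_self r n.ne_zero)
      exact this
    subst this
    exact hr
  have hP := Dickson.zz_mul_card (F := F)
  rw [Dickson.card_center, hq, show Nat.gcd 2 (p - 1) = 2 from Nat.gcd_eq_left (by omega)] at hP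
  obtain ⟨H, ⟨e⟩⟩ := (S0803.result (F := F) hF).2 (by
    rw [Nat.pow_mod, ← Nat.div_add_mod (p % 16) 8, show p % 16 % 8 = p % 8 from Nat.mod_mod_of_dvd p (by norm_num)]
    have : p % 16 / 8 < 2 := Nat.div_lt_of_lt_mul (Nat.mod_lt p (by norm_num))
    generalize p % 16 / 8 = a at *
    interval_cases a <;> rcases hp with h | h <;> rw [h])
  have hcH : Nat.card H = 24 := (Nat.card_congr e.toEquiv).trans Dickson.card_s4
  have hp7 : 7 ≤ p := by have := (Fact.out : p.Prime).two_le; omega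
  refine ⟨H, ⟨fun h => ?_, fun G hG => ?_⟩, ⟨e⟩⟩
  · rw [h, Subgroup.card_top] at hcH
    rw [hcH] at hP
    have : 49 ≤ p ^ 2 := by nlinarith
    nlinarith [Nat.mul_le_mul hp7 (show 48 ≤ p ^ 2 - 1 by omega)]
  by_contra hne
  have hlt : 24 < Nat.card G := hcH ▸ Set.ncard_lt_ncard (SetLike.coe_ssubset_coe.2 hG) (Set.toFinite _)
  have hdvd : 24 ∣ Nat.card G := hcH ▸ Subgroup.card_dvd_of_le hG.le
  rcases Dickson.overgroup_cases p (Dickson.core_S4 p (by omega) e) hG.le hne with ⟨⟨f⟩⟩ | ⟨⟨f⟩⟩ | ⟨⟨f⟩⟩ | ⟨K, _, _, m, hm, hK, -⟩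
  · rw [Nat.card_congr f.toEquiv, Dickson.card_a4] at hlt; omega
  · rw [Nat.card_congr f.toEquiv, Dickson.card_s4] at hlt; omega
  · rw [Nat.card_congr f.toEquiv, Dickson.card_a5] at hdvd; omega
  · rw [hq] at hK
    exact Nat.Prime.not_prime_pow hm (hK.symm ▸ (Fact.out : p.Prime) : Nat.Prime (Fintype.card K ^ m))

end Cfsg.Agent.S5938
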