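import Cfsg.Statements.S5939
import Cfsg.Agent.Lib.Classical.DicksonOver
import Cfsg.Agent.S0804

set_option autoImplicit false
open Cfsg

namespace Cfsg.Agent.S5939

/-- Let p be a prime and F a finite field of characteristic p such that either F has p elements and p ≡ ±1 (mod 10), or F has p² elements and p ≡ ±3 (mod 10). Then PSL_2(F) has a maximal subgroup isomorphic to the alternating group A_5. -/
theorem result {F : Type*} [Field F] [Fintype F] (p : ℕ) [Fact p.Prime] [CharP F p] (h : (Fintype.card F = p ∧ (p % 10 = 1 ∨ p % 10 = 9)) ∨ (Fintype.card F = p ^ 2 ∧ (p % 10 = 3 ∨ p % 10 = 7))) : ∃ H : Subgroup (Matrix.ProjectiveSpecialLinearGroup (Fin 2) F), IsCoatom H ∧ Nonempty (H ≃* alternatingGroup (Fin 5)) := by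
  classical
  obtain ⟨n, hn⟩ : ∃ n, (n = 1 ∨ n = 2) ∧ Fintype.card F = p ^ n := by
    rcases h with ⟨h, -⟩ | ⟨h, -⟩
    exacts [⟨1, Or.inl rfl, by rw [h, pow_one]⟩, ⟨2, Or.inr rfl, h⟩]
  obtain ⟨hn, hF⟩ := hn
  have hq : Nat.card F = p ^ n := by rw [Nat.card_eq_fintype_card, hF]
  have hp2 : p ≠ 2 ∧ p ≠ 5 := by rcases h with ⟨-, h⟩ | ⟨-, h⟩ <;> omega
  have hp3 : 3 ≤ p := by have := (Fact.out : p.Prime).two_le; omega
  have h5 : 5 ∣ Fintype.card F * (Fintype.card F ^ 2 - 1) := by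
    refine dvd_mul_of_dvd_right ?_ _
    have h1 : 1 ≤ Fintype.card F ^ 2 := Nat.one_le_pow _ _ Fintype.card_pos
    have h2 : Fintype.card F ^ 2 % 5 = 1 := by
      rw [Nat.pow_mod]
      rcases h with ⟨hc, hm⟩ | ⟨hc, hm⟩ <;> rw [hc]
      · rcases hm with hm | hm <;>
          rw [← Nat.mod_mod_of_dvd p (show 5 ∣ 10 by norm_num), hm]
      · rw [Nat.pow_mod p]
        rcases hm with hm | hm <;>
          rw [← Nat.mod_mod_of_dvd p (show 5 ∣ 10 by norm_num), hm]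
    omega
  obtain ⟨H, ⟨e⟩⟩ := (S0804.result (F := F) rfl).2 h5
  have hcH : Nat.card H = 60 := (Nat.card_congr e.toEquiv).trans Dickson.card_a5
  have hP := Dickson.zz_mul_card (F := F)
  have hz : Nat.card (Subgroup.center (Matrix.SpecialLinearGroup (Fin 2) F)) ≤ 2 := by
    rw [Dickson.card_center]; exact Nat.gcd_le_left _ (by norm_num)
  refine ⟨H, ⟨fun ht => ?_, fun G hG => ?_⟩, ⟨e⟩⟩
  · rw [ht, Subgroup.card_top] at hcH
    rw [hcH] at hP
    have h9 : 9 ≤ Nat.card F := by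
      rcases h with ⟨hc, hm⟩ | ⟨hc, -⟩ <;> rw [Nat.card_eq_fintype_card, hc]
      · rcases hm with hm | hm
        · have : p ≠ 1 := (Fact.out : p.Prime).ne_one
          omega
        · omega
      · nlinarith
    have : 81 ≤ Nat.card F ^ 2 := by nlinarith
    nlinarith [Nat.mul_le_mul h9 (show 80 ≤ Nat.card F ^ 2 - 1 by omega)]
  by_contra hne
  have hlt : 60 < Nat.card G := hcH ▸ Set.ncard_lt_ncard (SetLike.coe_ssubset_coe.2 hG) (Set.toFinite _)
  have hdvd : 60 ∣ Nat.card G := hcH ▸ Subgroup.card_dvd_of_le hG.le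
  rcases Dickson.overgroup_cases p (Dickson.core_A5 p hp2.1 e) hG.le hne with ⟨⟨f⟩⟩ | ⟨⟨f⟩⟩ | ⟨⟨f⟩⟩ | ⟨K, _, _, m, hm, hK, hc⟩
  · rw [Nat.card_congr f.toEquiv, Dickson.card_a4] at hlt; omega
  · rw [Nat.card_congr f.toEquiv, Dickson.card_s4] at hlt; omega
  · rw [Nat.card_congr f.toEquiv, Dickson.card_a5] at hlt; omega
  rw [hq] at hK
  obtain ⟨i, -, hi⟩ := (Nat.dvd_prime_pow Fact.out).1 (hK ▸ dvd_pow_self (Fintype.card K) (show m ≠ 0 by omega))
  rw [hi, ← pow_mul] at hK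
  have hinj : i * m = n := Nat.pow_right_injective (Fact.out : p.Prime).two_le hK
  have hi0 : i ≠ 0 := by
    rintro rfl
    have := Fintype.one_lt_card (α := K)
    rw [hi, pow_zero] at this
    omega
  have hn2 : n = 2 ∧ i = 1 := by
    have : 2 ≤ i * m := le_trans hm (Nat.le_mul_of_pos_left m (Nat.pos_of_ne_zero hi0))
    have hn' : n = 2 := by omega
    refine ⟨hn', ?_⟩
    have : i * 2 ≤ i * m := Nat.mul_le_mul_left i hm
    omega
  rw [hn2.2, pow_one, ← Nat.card_eq_fintype_card] at hi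
  have h5d : 5 ∣ p * (p ^ 2 - 1) := by
    rcases hc with ⟨⟨f⟩⟩ | ⟨⟨f⟩⟩
    · rw [← hi, ← Dickson.gcd_mul_card_psl]
      exact dvd_mul_of_dvd_right (dvd_trans ⟨12, rfl⟩ (Nat.card_congr f.toEquiv ▸ hdvd)) _
    · rw [← hi, ← Dickson.card_pgl2]
      exact dvd_trans ⟨12, rfl⟩ (Nat.card_congr f.toEquiv ▸ hdvd)
  have hp37 : p % 10 = 3 ∨ p % 10 = 7 := by
    rcases h with ⟨hc', -⟩ | ⟨-, h⟩
    · exfalso
      rw [hF, hn2.1] at hc'
      nlinarith
    · exact h
  rcases (Nat.Prime.dvd_mul Nat.prime_five).1 h5d with h' | h'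
  · omega
  · have h1 : 1 ≤ p ^ 2 := Nat.one_le_pow _ _ (by omega)
    have h2 : p ^ 2 % 5 = 1 := by omega
    rw [Nat.pow_mod] at h2
    rcases hp37 with hm' | hm' <;>
      · rw [← Nat.mod_mod_of_dvd p (show 5 ∣ 10 by norm_num), hm'] at h2
        norm_num at h2

end Cfsg.Agent.S5939
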