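import Cfsg.Statements.S5940
import Cfsg.Agent.Lib.Classical.DicksonOver
import Cfsg.Agent.S0802
import Cfsg.Agent.S0803
import Cfsg.Agent.S0804

set_option autoImplicit false
open Cfsg

namespace Cfsg.Agent.S5940

/-- Let p ≥ 5 be a prime with p ≡ ±3 (mod 8) and p ≢ ±1 (mod 10), and F a field with p elements. Then PSL_2(F) has a maximal subgroup isomorphic to the alternating group A_4. -/
theorem result {F : Type*} [Field F] [Fintype F] (p : ℕ) [Fact p.Prime] (hF : Fintype.card F = p) (h5 : 5 ≤ p) (h8 : p % 8 = 3 ∨ p % 8 = 5) (h10 : p % 10 ≠ 1 ∧ p % 10 ≠ 9) : ∃ H : Subgroup (Matrix.ProjectiveSpecialLinearGroup (Fin 2) F), IsCoatom H ∧ Nonempty (H ≃* alternatingGroup (Fin 4)) := by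
  classical
  have hq : Nat.card F = p := by rw [Nat.card_eq_fintype_card, hF]
  haveI : CharP F p := by
    obtain ⟨r, hr⟩ := CharP.exists F
    obtain ⟨n, hr', hn⟩ := FiniteField.card F r
    rw [hF] at hn
    have : r = p := by
      have := (Nat.prime_dvd_prime_iff_eq hr' (Fact.out : p.Prime)).1 (hn ▸ dvd_pow_self r n.ne_zero)
      exact this
    subst this
    exact hr
  have hP := Dickson.zz_mul_card (F := F)
  rw [Dickson.card_center, hq, show Nat.gcd 2 (p - 1) = 2 from Nat.gcd_eq_left (by omega)] at hP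
  obtain ⟨H, ⟨e⟩⟩ := (S0802.result (F := F) p 1 (by rw [pow_one, hF])).2 (by omega)
  have hcH : Nat.card H = 12 := (Nat.card_congr e.toEquiv).trans Dickson.card_a4
  refine ⟨H, ⟨fun h => ?_, fun G hG => ?_⟩, ⟨e⟩⟩
  · rw [h, Subgroup.card_top] at hcH
    rw [hcH] at hP
    have : 25 ≤ p ^ 2 := by nlinarith
    nlinarith [Nat.mul_le_mul h5 (show 24 ≤ p ^ 2 - 1 by omega)]
  by_contra hne
  have hlt : 12 < Nat.card G := hcH ▸ Set.ncard_lt_ncard (SetLike.coe_ssubset_coe.2 hG) (Set.toFinite _)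
  rcases Dickson.overgroup_cases p (Dickson.core_A4 p (by omega) e) hG.le hne with ⟨⟨f⟩⟩ | ⟨⟨f⟩⟩ | ⟨⟨f⟩⟩ | ⟨K, _, _, m, hm, hK, -⟩
  · rw [Nat.card_congr f.toEquiv, Dickson.card_a4] at hlt; omega
  · have h16 := (S0803.result (F := F) hF).1 ⟨G, ⟨f⟩⟩
    rw [Nat.pow_mod, ← Nat.div_add_mod (p % 16) 8, show p % 16 % 8 = p % 8 from Nat.mod_mod_of_dvd p (by norm_num)] at h16
    have : p % 16 / 8 < 2 := Nat.div_lt_of_lt_mul (Nat.mod_lt p (by norm_num))
    generalize p % 16 / 8 = a at *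
    interval_cases a <;> rcases h8 with h | h <;> rw [h] at h16 <;> norm_num at h16
  · have h5' := (S0804.result (F := F) hF).1 ⟨G, ⟨f⟩⟩
    have hp5 : p = 5 := by
      by_contra hne5
      rcases (Nat.Prime.dvd_mul Nat.prime_five).1 h5' with h | h
      · exact hne5 ((Nat.prime_dvd_prime_iff_eq Nat.prime_five Fact.out).1 h).symm
      · have hp1 : 1 ≤ p ^ 2 := Nat.one_le_pow _ _ (by omega)
        have h1 : p ^ 2 % 5 = 1 := by omega
        rw [Nat.pow_mod] at h1
        have : p % 5 < 5 := Nat.mod_lt _ (by norm_num)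
        have hne5' : p % 5 ≠ 0 := fun h0 =>
          hne5 ((Nat.prime_dvd_prime_iff_eq Nat.prime_five Fact.out).1 (Nat.dvd_of_mod_eq_zero h0)).symm
        have : p % 10 % 5 = p % 5 := Nat.mod_mod_of_dvd p (by norm_num)
        have : p % 8 % 2 = p % 2 := Nat.mod_mod_of_dvd p (by norm_num)
        have : p % 10 % 2 = p % 2 := Nat.mod_mod_of_dvd p (by norm_num)
        interval_cases hh : p % 5 <;> norm_num at h1 <;> omega
    subst hp5
    simp only [Nat.reducePow, Nat.reduceSub, Nat.reduceMul] at hP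
    exact hne (Subgroup.eq_top_of_card_eq _ (by rw [Nat.card_congr f.toEquiv, Dickson.card_a5]; omega))
  · rw [hq] at hK
    exact Nat.Prime.not_prime_pow hm (hK.symm ▸ (Fact.out : p.Prime) : Nat.Prime (Fintype.card K ^ m))

end Cfsg.Agent.S5940
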