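import Cfsg.Statements.S5941
import Cfsg.Agent.Lib.Classical.DicksonSubfield
import Cfsg.Agent.Lib.Classical.PSL2Subfield
import Cfsg.Agent.S0805

set_option autoImplicit false
open Cfsg

namespace Cfsg.Agent.S5941

/-- Let K and F be finite fields of odd characteristic with #F = (#K)². Then PSL_2(F) has a maximal subgroup isomorphic to PGL_2(K). -/
theorem result {F K : Type*} [Field F] [Fintype F] [Field K] [Fintype K] (q : ℕ) (hK : Fintype.card K = q) (hF : Fintype.card F = q ^ 2) (hq : Odd q) : ∃ H : Subgroup (Matrix.ProjectiveSpecialLinearGroup (Fin 2) F), IsCoatom H ∧ Nonempty (H ≃* Matrix.ProjGenLinGroup (Fin 2) K) := by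
  classical
  have hK' : Nat.card K = q := by rw [Nat.card_eq_fintype_card, hK]
  have hF' : Nat.card F = q ^ 2 := by rw [Nat.card_eq_fintype_card, hF]
  obtain ⟨f⟩ := PSL2Field.exists_ringHom (K := K) (F := F) (m := 2) (by rw [hK', hF'])
  obtain ⟨p, hp⟩ := CharP.exists K
  obtain ⟨a, hpp, ha⟩ := FiniteField.card K p
  haveI := Fact.mk hpp
  haveI : CharP F p := (RingHom.charP_iff f f.injective p).1 hp
  have hq' : q = p ^ (a : ℕ) := hK.symm.trans ha
  have hF'' : Nat.card F = (p ^ (a : ℕ)) ^ 2 := by rw [hF', hq']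
  obtain ⟨-, h2⟩ := S0805.result (F := F) (K := K) (q := Fintype.card F) rfl (by rw [hF]; exact hq.pow) 2 (by norm_num)
    (by rw [hK, hF])
  obtain ⟨H, ⟨e⟩⟩ := h2.2 ⟨1, rfl⟩
  have hcH : 1 * Nat.card H = p ^ (a : ℕ) * ((p ^ (a : ℕ)) ^ 2 - 1) := by
    rw [one_mul, Nat.card_congr e.toEquiv, Dickson.card_pgl2, hK', hq']
  have hq3 : 3 ≤ q := by
    have h1 : 1 < q := hK ▸ Fintype.one_lt_card
    obtain ⟨t, ht⟩ := hq
    omega
  have hcore : Dickson.Core p H := Dickson.core_field p (hK'.symm ▸ hq3) e Matrix.SpecialLinearGroup.toPGL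
    Matrix.SpecialLinearGroup.toPGL_ker fun g => Dickson.orderOf_pgl_le g
  refine ⟨H, ⟨Dickson.ne_top_of_card hpp a.pos le_rfl hF'' le_rfl hcH, fun G hG => ?_⟩, ⟨e⟩⟩
  by_contra hne
  have hlt : Nat.card H < Nat.card G := Set.ncard_lt_ncard (SetLike.coe_ssubset_coe.2 hG) (Set.toFinite _)
  rw [one_mul, ← hq'] at hcH
  have hsmall : q = 3 ∨ 60 ≤ Nat.card H := by
    rcases Nat.lt_or_ge q 4 with h | h
    · exact Or.inl (by omega)
    · right
      rw [hcH]
      exact le_trans (by norm_num) (Nat.mul_le_mul h (show 15 ≤ q ^ 2 - 1 by nlinarith [Nat.sub_add_cancel (Nat.one_le_pow 2 q (by omega))]))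
  rcases Dickson.subfield_overgroup p a.pos Nat.prime_two hF'' (one_dvd 2) hcore (by rw [one_mul, hcH, hq']) hG.le hne with
    (h12 | ⟨⟨f⟩⟩ | ⟨⟨f⟩⟩) | ⟨L, _, _, hL, ⟨⟨f⟩⟩ | ⟨⟨f⟩⟩⟩
  · rcases hsmall with rfl | h
    · simp only [Nat.reducePow, Nat.reduceSub, Nat.reduceMul] at hcH; omega
    · omega
  · rw [Nat.card_congr f.toEquiv, Dickson.card_s4] at hlt
    rcases hsmall with rfl | h
    · simp only [Nat.reducePow, Nat.reduceSub, Nat.reduceMul] at hcH; omega
    · omega
  · rw [Nat.card_congr f.toEquiv, Dickson.card_a5] at hlt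
    have hd := Subgroup.card_dvd_of_le hG.le
    rw [Nat.card_congr f.toEquiv, Dickson.card_a5] at hd
    rcases hsmall with rfl | h
    · simp only [Nat.reducePow, Nat.reduceSub, Nat.reduceMul] at hcH; rw [hcH] at hd; norm_num at hd
    · omega
  · rw [Nat.card_congr f.toEquiv, hcH] at hlt
    have := Dickson.card_psl_le (K := L)
    rw [Nat.card_eq_fintype_card (α := L), hL, ← hq'] at this
    omega
  · rw [Nat.card_congr f.toEquiv, Dickson.card_pgl2, hcH, Nat.card_eq_fintype_card, hL, ← hq'] at hlt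
    omega

end Cfsg.Agent.S5941
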