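import Cfsg.Statements.S5942
import Cfsg.Agent.Lib.Classical.DicksonSubfield
import Cfsg.Agent.Lib.Classical.PSL2Subfield
import Cfsg.Agent.S0805
import Cfsg.Agent.S0803
import Cfsg.Agent.S0804

set_option autoImplicit false
open Cfsg

namespace Cfsg.Agent.S5942

/-- Let K and F be finite fields of odd characteristic with #F = (#K)^r for an odd prime r. Then PSL_2(F) has a maximal subgroup isomorphic to PSL_2(K). -/
theorem result {F K : Type*} [Field F] [Fintype F] [Field K] [Fintype K] (q r : ℕ) (hK : Fintype.card K = q) (hF : Fintype.card F = q ^ r) (hq : Odd q) (hr : r.Prime) (hr2 : r ≠ 2) : ∃ H : Subgroup (Matrix.ProjectiveSpecialLinearGroup (Fin 2) F), IsCoatom H ∧ Nonempty (H ≃* Matrix.ProjectiveSpecialLinearGroup (Fin 2) K) := by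
  classical
  have hK' : Nat.card K = q := by rw [Nat.card_eq_fintype_card, hK]
  have hF' : Nat.card F = q ^ r := by rw [Nat.card_eq_fintype_card, hF]
  obtain ⟨f⟩ := PSL2Field.exists_ringHom (K := K) (F := F) (m := r) (by rw [hK', hF'])
  obtain ⟨p, hp⟩ := CharP.exists K
  obtain ⟨a, hpp, ha⟩ := FiniteField.card K p
  haveI := Fact.mk hpp
  haveI : CharP F p := (RingHom.charP_iff f f.injective p).1 hp
  have hq' : q = p ^ (a : ℕ) := hK.symm.trans ha
  have hF'' : Nat.card F = (p ^ (a : ℕ)) ^ r := by rw [hF', hq']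
  obtain ⟨⟨H, ⟨e⟩⟩, hpgl⟩ := S0805.result (F := F) (K := K) (q := Fintype.card F) rfl (by rw [hF]; exact hq.pow) r
    hr.one_lt.le (by rw [hK, hF])
  have hz : Nat.gcd 2 (q - 1) = 2 := by
    obtain ⟨t, ht⟩ := hq
    exact Nat.gcd_eq_left (by omega)
  have hcH : 2 * Nat.card H = p ^ (a : ℕ) * ((p ^ (a : ℕ)) ^ 2 - 1) := by
    have h2 := Dickson.gcd_mul_card_psl (K := K)
    rw [hK', hz, ← Nat.card_congr e.toEquiv] at h2
    rw [← hq']; exact h2
  have hq3 : 3 ≤ q := by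
    have h1 : 1 < q := hK ▸ Fintype.one_lt_card
    obtain ⟨t, ht⟩ := hq
    omega
  have hcore : Dickson.Core p H := Dickson.core_field p (hK'.symm ▸ hq3) e (QuotientGroup.mk' _)
    (QuotientGroup.ker_mk' _) fun g => Dickson.orderOf_psl_le g
  refine ⟨H, ⟨Dickson.ne_top_of_card hpp a.pos hr.two_le hF'' (by norm_num) hcH, fun G hG => ?_⟩, ⟨e⟩⟩
  by_contra hne
  have hlt : Nat.card H < Nat.card G := Set.ncard_lt_ncard (SetLike.coe_ssubset_coe.2 hG) (Set.toFinite _)
  rcases Dickson.subfield_overgroup p a.pos hr hF'' dvd_rfl hcore hcH hG.le hne with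
    (h12 | ⟨⟨f⟩⟩ | ⟨⟨f⟩⟩) | ⟨L, _, _, hL, ⟨⟨f⟩⟩ | ⟨⟨f⟩⟩⟩
  all_goals rw [← hq'] at hcH
  · have h1 : 24 ≤ q * (q ^ 2 - 1) :=
      le_trans (by norm_num) (Nat.mul_le_mul hq3 (show 8 ≤ q ^ 2 - 1 by nlinarith [Nat.sub_add_cancel (Nat.one_le_pow 2 q (by omega))]))
    omega
  · rcases Nat.lt_or_ge q 5 with h | h
    · have hq3' : q = 3 := by obtain ⟨t, ht⟩ := hq; omega
      have h16 := (S0803.result (F := F) hF).1 ⟨G, ⟨f⟩⟩
      obtain ⟨t, ht⟩ := hr.odd_of_ne_two hr2
      rw [hq3', ← pow_mul, mul_comm, pow_mul, ht, pow_succ, pow_mul, Nat.mul_mod, Nat.pow_mod] at h16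
      norm_num at h16
    · have h1 : 120 ≤ q * (q ^ 2 - 1) :=
        le_trans (by norm_num) (Nat.mul_le_mul h (show 24 ≤ q ^ 2 - 1 by nlinarith [Nat.sub_add_cancel (Nat.one_le_pow 2 q (by omega))]))
      rw [Nat.card_congr f.toEquiv, Dickson.card_s4] at hlt
      omega
  · rcases Nat.lt_or_ge q 5 with h | h
    · have hq3' : q = 3 := by obtain ⟨t, ht⟩ := hq; omega
      have h5 := (S0804.result (F := F) hF).1 ⟨G, ⟨f⟩⟩
      rw [hq3'] at h5
      rcases (Nat.Prime.dvd_mul Nat.prime_five).1 h5 with h' | h'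
      · exact absurd ((Nat.prime_dvd_prime_iff_eq Nat.prime_five Nat.prime_three).1
          (Nat.prime_five.dvd_of_dvd_pow h')) (by norm_num)
      · obtain ⟨t, ht⟩ := hr.odd_of_ne_two hr2
        have h9 : (3 ^ r) ^ 2 % 5 = 4 := by
          rw [← pow_mul, mul_comm, pow_mul, ht, pow_succ, pow_mul, Nat.mul_mod, Nat.pow_mod]
          norm_num
        have := Nat.one_le_pow 2 (3 ^ r) (by positivity)
        omega
    · have h1 : 120 ≤ q * (q ^ 2 - 1) :=
        le_trans (by norm_num) (Nat.mul_le_mul h (show 24 ≤ q ^ 2 - 1 by nlinarith [Nat.sub_add_cancel (Nat.one_le_pow 2 q (by omega))]))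
      rw [Nat.card_congr f.toEquiv, Dickson.card_a5] at hlt
      omega
  · have hG2 := Dickson.gcd_mul_card_psl (K := L)
    rw [Nat.card_eq_fintype_card (α := L), hL, ← hq', hz, ← Nat.card_congr f.toEquiv] at hG2
    omega
  · have hev := (S0805.result (F := F) (K := L) (q := Fintype.card F) rfl (by rw [hF]; exact hq.pow) r
      hr.one_lt.le (by rw [hL, ← hq', hF])).2.1 ⟨G, ⟨f⟩⟩
    obtain ⟨t, ht⟩ := hev
    obtain ⟨u, hu⟩ := hr.odd_of_ne_two hr2
    omega

end Cfsg.Agent.S5942
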