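import Cfsg.Statements.S5943
import Cfsg.Agent.Lib.Classical.DicksonSubfield
import Cfsg.Agent.Lib.Classical.PSL2Subfield

set_option autoImplicit false
open Cfsg

namespace Cfsg.Agent.S5943

/-- Let K and F be finite fields of characteristic 2 with #K = q > 2 and #F = q^r for a prime r. Then PSL_2(F) has a maximal subgroup isomorphic to PSL_2(K) (which equals PGL_2(K) in characteristic 2). -/
theorem result {F K : Type*} [Field F] [Fintype F] [Field K] [Fintype K] (q r : ℕ) (hK : Fintype.card K = q) (hF : Fintype.card F = q ^ r) (hq : Even q) (hq2 : q ≠ 2) (hr : r.Prime) : ∃ H : Subgroup (Matrix.ProjectiveSpecialLinearGroup (Fin 2) F), IsCoatom H ∧ Nonempty (H ≃* Matrix.ProjectiveSpecialLinearGroup (Fin 2) K) := by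
  classical
  have hK' : Nat.card K = q := by rw [Nat.card_eq_fintype_card, hK]
  have hF' : Nat.card F = q ^ r := by rw [Nat.card_eq_fintype_card, hF]
  obtain ⟨f⟩ := PSL2Field.exists_ringHom (K := K) (F := F) (m := r) (by rw [hK', hF'])
  obtain ⟨p, hp⟩ := CharP.exists K
  obtain ⟨a, hpp, ha⟩ := FiniteField.card K p
  haveI := Fact.mk hpp
  haveI : CharP F p := (RingHom.charP_iff f f.injective p).1 hp
  have hq' : q = p ^ (a : ℕ) := hK.symm.trans ha
  have hF'' : Nat.card F = (p ^ (a : ℕ)) ^ r := by rw [hF', hq']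
  obtain ⟨φ, hφ⟩ := PSL2Field.exists_psl_hom f
  let H := φ.range
  let e : H ≃* Matrix.ProjectiveSpecialLinearGroup (Fin 2) K := (MonoidHom.ofInjective hφ).symm
  have h1q : 1 < q := hK ▸ Fintype.one_lt_card
  have hq4 : 4 ≤ q := by obtain ⟨t, ht⟩ := hq; omega
  have hz : Nat.gcd 2 (q - 1) = 1 := by
    obtain ⟨t, ht⟩ := hq
    rw [Nat.gcd_comm]
    exact (Nat.coprime_two_right.2 (Nat.odd_iff.2 (by omega)) : Nat.Coprime (q - 1) 2)
  have hcH : 1 * Nat.card H = p ^ (a : ℕ) * ((p ^ (a : ℕ)) ^ 2 - 1) := by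
    have h2 := Dickson.gcd_mul_card_psl (K := K)
    rw [hK', hz, ← Nat.card_congr e.toEquiv] at h2
    rw [← hq']; exact h2
  have hcore : Dickson.Core p H := Dickson.core_field p (by omega) e (QuotientGroup.mk' _)
    (QuotientGroup.ker_mk' _) fun g => Dickson.orderOf_psl_le g
  refine ⟨H, ⟨Dickson.ne_top_of_card hpp a.pos hr.two_le hF'' le_rfl hcH, fun G hG => ?_⟩, ⟨e⟩⟩
  by_contra hne
  have hlt : Nat.card H < Nat.card G := Set.ncard_lt_ncard (SetLike.coe_ssubset_coe.2 hG) (Set.toFinite _)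
  have h60 : 60 ≤ Nat.card H := by
    rw [one_mul, ← hq'] at hcH
    rw [hcH]
    exact le_trans (by norm_num) (Nat.mul_le_mul hq4 (show 15 ≤ q ^ 2 - 1 by nlinarith [Nat.sub_add_cancel (Nat.one_le_pow 2 q (by omega))]))
  rcases Dickson.subfield_overgroup p a.pos hr hF'' (one_dvd 2) hcore hcH hG.le hne with
    (h12 | ⟨⟨f⟩⟩ | ⟨⟨f⟩⟩) | ⟨L, _, _, hL, ⟨⟨f⟩⟩ | ⟨⟨f⟩⟩⟩
  all_goals rw [one_mul, ← hq'] at hcH
  · omega
  · rw [Nat.card_congr f.toEquiv, Dickson.card_s4] at hlt; omega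
  · rw [Nat.card_congr f.toEquiv, Dickson.card_a5] at hlt; omega
  · have hG2 := Dickson.gcd_mul_card_psl (K := L)
    rw [Nat.card_eq_fintype_card (α := L), hL, ← hq', hz, one_mul, ← Nat.card_congr f.toEquiv] at hG2
    omega
  · rw [Nat.card_congr f.toEquiv, Dickson.card_pgl2, hcH, Nat.card_eq_fintype_card, hL, ← hq'] at hlt
    omega

end Cfsg.Agent.S5943
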