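import Cfsg.Statements.S5946


set_option autoImplicit false
open Cfsg

namespace Cfsg.Agent.S5946

/-- Let F ⊆ K be finite fields with [K : F] = n ≥ 2 and regard K as an n-dimensional F-vector space. The Singer group M ≤ GL_F(K) of multiplications by the non-zero elements of K is self-centralizing: every F-linear automorphism of K commuting with all of M lies in M. -/
theorem result {F K : Type*} [Field F] [Fintype F] [Field K] [Fintype K] [Algebra F K] (n : ℕ) (hn : 2 ≤ n) (hdim : Module.finrank F K = n) :
    Subgroup.centralizer (((Units.map ((Algebra.lmul F K : K →ₐ[F] Module.End F K) : K →* Module.End F K)).range : Subgroup (Module.End F K)ˣ) : Set (Module.End F K)ˣ) = (Units.map ((Algebra.lmul F K : K →ₐ[F] Module.End F K) : K →* Module.End F K)).range := by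
  refine le_antisymm (fun f hf => ?_) ?_
  · have key : ∀ a : K, (f : Module.End F K) a = (f : Module.End F K) 1 * a := by
      intro a
      rcases eq_or_ne a 0 with rfl | ha
      · simp
      have h := Subgroup.mem_centralizer_iff.1 hf _ ⟨Units.mk0 a ha, rfl⟩
      have h' : Algebra.lmul F K a * (f : Module.End F K) = (f : Module.End F K) * Algebra.lmul F K a :=
        congrArg Units.val h
      have h2 := LinearMap.congr_fun h' 1
      simp [Module.End.mul_apply] at h2
      rw [← h2, mul_comm]
    have h1 : (f : Module.End F K) 1 ≠ 0 := by
      intro h0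
      have h2 : (f : Module.End F K) = 0 := LinearMap.ext fun a => by rw [key a, h0, zero_mul]; rfl
      exact one_ne_zero (α := K) (by
        have h3 := LinearMap.congr_fun f.inv_mul 1
        simp [h2, Module.End.mul_apply] at h3)
    refine ⟨Units.mk0 _ h1, Units.ext (LinearMap.ext fun a => ?_)⟩
    rw [key a]
    simp
  · rintro _ ⟨u, rfl⟩
    rw [Subgroup.mem_centralizer_iff]
    rintro _ ⟨v, rfl⟩
    rw [← map_mul, ← map_mul, mul_comm]

end Cfsg.Agent.S5946
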