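import Cfsg.Statements.S5947
import Cfsg.Agent.S2904

set_option autoImplicit false
open Cfsg

namespace Cfsg.Agent.S5947

open Polynomial

/-- A prime power one less than a power of two is prime. -/
lemma prime_of_succ_pow_two {p f m : ℕ} (hp : p.Prime) (hf : 0 < f) (h : p ^ f + 1 = 2 ^ m) : f = 1 := by
  by_contra hf1
  have hp2 : p ≠ 2 := by
    rintro rfl
    rcases Nat.eq_zero_or_pos m with rfl | hm
    · simp at h
    · have h1 : 2 ∣ 2 ^ f := dvd_pow_self 2 (by omega)
      have h2 : 2 ∣ 2 ^ m := dvd_pow_self 2 (by omega)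
      omega
  obtain ⟨r, hr, hrd, hrk⟩ := Cfsg.Agent.S2904.result p (2 * f) hp.one_lt (by omega) (fun h => hp2 h.1) (fun h => by omega)
  have hsplit : p ^ (2 * f) - 1 = (p ^ f + 1) * (p ^ f - 1) := by
    rw [two_mul, pow_add, ← sq]
    simpa using Nat.sq_sub_sq (p ^ f) 1
  rw [hsplit, hr.dvd_mul] at hrd
  rcases hrd with hrd | hrd
  · rw [h] at hrd
    obtain rfl := (Nat.prime_dvd_prime_iff_eq hr Nat.prime_two).1 (hr.dvd_of_dvd_pow hrd)
    have := hp.eq_two_or_odd.resolve_left hp2
    exact hrk 1 one_pos (by omega) (by rw [pow_one]; omega)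
  · exact hrk f hf (by omega) hrd

section
variable {F : Type*} [Field F] [Fintype F]

/-- An element of primitive prime order generates a field. -/
lemma irreducible_minpoly {V : Type*} [AddCommGroup V] [Module F V] [FiniteDimensional F V]
    {n r : ℕ} (hdim : Module.finrank F V = n) (hr : r.Prime) (hr0 : (r : F) ≠ 0)
    (hk : ∀ k : ℕ, 0 < k → k < n → ¬ r ∣ Fintype.card F ^ k - 1)
    (u : Module.End F V) (hu : u ^ r = 1) (hu1 : u ≠ 1) :
    Irreducible (minpoly F u) ∧ (minpoly F u).natDegree = n := by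
  haveI : Nontrivial (Module.End F V) := ⟨u, 1, hu1⟩
  set h := minpoly F u with hh
  have hint : IsIntegral F u := Algebra.IsIntegral.isIntegral u
  have hdvd : h ∣ X ^ r - 1 := minpoly.dvd F u (by simp [hu])
  have hsq : Squarefree h := by
    refine Squarefree.squarefree_of_dvd hdvd (Separable.squarefree ?_)
    have := separable_X_pow_sub_C (F := F) (n := r) (1 : F) hr0 one_ne_zero
    simpa using this
  have hdeg : h.natDegree ≤ n := by
    refine le_trans (natDegree_le_of_dvd (LinearMap.minpoly_dvd_charpoly u) u.charpoly_monic.ne_zero) ?_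
    rw [LinearMap.charpoly_natDegree, hdim]
  obtain ⟨g, hgm, hgi, hgd, hg1⟩ : ∃ g, g.Monic ∧ Irreducible g ∧ g ∣ h ∧ g.eval 1 ≠ 0 := by
    have hm := minpoly.monic hint
    by_cases h1 : h.eval 1 = 0
    · obtain ⟨h', hh'⟩ := dvd_iff_isRoot.2 (show IsRoot h 1 from h1)
      have hm' : h'.Monic := (monic_X_sub_C (1 : F)).of_mul_monic_left (hh' ▸ hm)
      have hne : h' ≠ 1 := by
        rintro rfl
        have := minpoly.aeval F u
        rw [← hh, hh', mul_one] at this
        exact hu1 (sub_eq_zero.1 (by simpa using this))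
      obtain ⟨g, hgm, hgi, hgd⟩ := exists_monic_irreducible_factor h' (fun hu' => hne (hm'.eq_one_of_isUnit hu'))
      refine ⟨g, hgm, hgi, hgd.trans (hh' ▸ dvd_mul_left h' _), fun h0 => ?_⟩
      have : (X - C (1 : F)) * (X - C 1) ∣ h :=
        hh' ▸ mul_dvd_mul_left _ ((dvd_iff_isRoot.2 h0).trans hgd)
      exact (not_isUnit_X_sub_C (1 : F)) (hsq _ this)
    · obtain ⟨g, hgm, hgi, hgd⟩ := exists_monic_irreducible_factor h (minpoly.not_isUnit F u)
      refine ⟨g, hgm, hgi, hgd, fun h0 => h1 ?_⟩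
      obtain ⟨c, hc⟩ : g ∣ h := hgd
      rw [hc, eval_mul, h0, zero_mul]
  haveI : Fact (Irreducible g) := ⟨hgi⟩
  haveI : Finite (AdjoinRoot g) := by
    haveI := (AdjoinRoot.powerBasis hgi.ne_zero).finite
    exact Module.finite_of_finite F
  haveI : Fintype (AdjoinRoot g) := Fintype.ofFinite _
  have hρ : (AdjoinRoot.root g) ^ r = 1 := by
    have := AdjoinRoot.mk_eq_zero.2 (hgd.trans hdvd)
    rw [map_sub, map_pow, AdjoinRoot.mk_X, map_one, sub_eq_zero] at this
    exact this
  have hρ1 : AdjoinRoot.root g ≠ 1 := fun e => hg1 (by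
    have h0 : g ∣ X - C (1 : F) := AdjoinRoot.mk_eq_zero.1 (by
      rw [map_sub, AdjoinRoot.mk_X, AdjoinRoot.mk_C, map_one, e, sub_self])
    have hgdeg := hgi.natDegree_pos
    obtain ⟨c, hc⟩ := h0
    have he : g = X - C (1 : F) := eq_of_monic_of_dvd_of_natDegree_le hgm (monic_X_sub_C 1) ⟨c, hc⟩
      (by rw [natDegree_X_sub_C]; omega) |>.symm
    rw [he]; simp)
  have hcard : Fintype.card (AdjoinRoot g) = Fintype.card F ^ g.natDegree := by
    rw [Module.card_eq_pow_finrank (K := F) (V := AdjoinRoot g),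
      (AdjoinRoot.powerBasis hgi.ne_zero).finrank, AdjoinRoot.powerBasis_dim]
  have hne0 : AdjoinRoot.root g ≠ 0 := fun e => by
    rw [e, zero_pow hr.ne_zero] at hρ; exact zero_ne_one hρ
  have hdiv : r ∣ Fintype.card F ^ g.natDegree - 1 := by
    haveI : Fact r.Prime := ⟨hr⟩
    rw [← orderOf_eq_prime hρ hρ1, ← hcard]
    exact orderOf_dvd_of_pow_eq_one (FiniteField.pow_card_sub_one_eq_one _ hne0)
  have hgn : n ≤ g.natDegree := by
    by_contra hlt
    exact hk _ hgi.natDegree_pos (by omega) hdiv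
  have heq : g = h := (eq_of_monic_of_dvd_of_natDegree_le hgm (minpoly.monic hint) hgd (hdeg.trans hgn)).symm
  exact ⟨heq ▸ hgi, le_antisymm hdeg (heq ▸ hgn)⟩

end


/-- Let F ⊆ K be finite fields with |F| = q and [K : F] = n ≥ 2, regard K as an n-dimensional F-vector space, and let M ≤ GL_F(K) be the Singer group of multiplications by non-zero elements of K (cyclic of order q^n − 1). Assume (n, q) ≠ (6, 2), and that it is not the case that n = 2 with q a prime such that q + 1 is a power of 2. Then every abelian subgroup of GL_F(K) of order q^n − 1 is conjugate to M. -/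
theorem result {F K : Type*} [Field F] [Fintype F] [Field K] [Fintype K] [Algebra F K] (n : ℕ) (hn : 2 ≤ n) (hdim : Module.finrank F K = n)
    (hex1 : ¬ (n = 6 ∧ Fintype.card F = 2))
    (hex2 : ¬ (n = 2 ∧ (Fintype.card F).Prime ∧ ∃ a : ℕ, Fintype.card F + 1 = 2 ^ a))
    (U : Subgroup (Module.End F K)ˣ) (hU : IsMulCommutative U) (hcard : Nat.card U = Fintype.card K - 1) :
    ∃ g : (Module.End F K)ˣ, U.map (MulAut.conj g).toMonoidHom = (Units.map ((Algebra.lmul F K : K →ₐ[F] Module.End F K) : K →* Module.End F K)).range := by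
  classical
  set q := Fintype.card F with hqdef
  have hq : 1 < q := Fintype.one_lt_card
  have hK : Fintype.card K = q ^ n := by
    rw [hqdef, ← hdim, Module.card_eq_pow_finrank (K := F) (V := K)]
  have hn2 : ¬ (n = 2 ∧ ∃ m : ℕ, q + 1 = 2 ^ m) := by
    rintro ⟨hn', m, hm⟩
    obtain ⟨p, hp⟩ := CharP.exists F
    obtain ⟨⟨f, hf⟩, hprime, hqf⟩ := FiniteField.card F p
    have hqf' : q = p ^ f := hqf
    have := prime_of_succ_pow_two hprime hf (hqf' ▸ hm)
    exact hex2 ⟨hn', by rw [hqf', this, pow_one]; exact hprime, m, hm⟩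
  obtain ⟨r, hr, hrd, hrk⟩ := Cfsg.Agent.S2904.result q n hq (by omega) (fun h => hex1 ⟨h.2, h.1⟩) hn2
  haveI : Fact r.Prime := ⟨hr⟩
  have hr0 : (r : F) ≠ 0 := by
    intro h0
    obtain ⟨p, hp⟩ := CharP.exists F
    obtain ⟨⟨f, hf⟩, hprime, hqf⟩ := FiniteField.card F p
    rw [CharP.cast_eq_zero_iff F p] at h0
    obtain rfl := (Nat.prime_dvd_prime_iff_eq hprime hr).1 h0
    have hd : p ∣ q ^ n := dvd_pow (show p ∣ q by rw [hqdef, hqf]; exact dvd_pow_self p hf.ne') (by omega)
    exact hprime.not_dvd_one ((Nat.dvd_add_right hrd).1 (by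
      rw [Nat.sub_add_cancel (Nat.one_le_pow _ _ (by omega))]; exact hd))
  haveI : Finite U := Nat.finite_of_card_ne_zero (by rw [hcard, hK]; have := Nat.one_lt_pow (by omega : n ≠ 0) hq; omega)
  obtain ⟨⟨u, huU⟩, hu⟩ := exists_prime_orderOf_dvd_card' r (show r ∣ Nat.card U by rw [hcard, hK]; exact hrd)
  have hur : (u : Module.End F K) ^ r = 1 := by
    have h := congrArg (fun x : U => ((x : (Module.End F K)ˣ) : Module.End F K))
      (hu ▸ pow_orderOf_eq_one (⟨u, huU⟩ : U))
    simpa using h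
  have hu1 : (u : Module.End F K) ≠ 1 := fun e => by
    rw [show (⟨u, huU⟩ : U) = 1 from Subtype.ext (Units.ext e), orderOf_one] at hu
    exact hr.ne_one hu.symm
  obtain ⟨hirr, hdeg⟩ := irreducible_minpoly hdim hr hr0 hrk _ hur hu1
  set g := minpoly F (u : Module.End F K) with hg
  haveI : Fact (Irreducible g) := ⟨hirr⟩
  haveI := (AdjoinRoot.powerBasis hirr.ne_zero).finite
  haveI : Finite (AdjoinRoot g) := Module.finite_of_finite F
  haveI : Fintype (AdjoinRoot g) := Fintype.ofFinite _
  have hfr : Module.finrank F (AdjoinRoot g) = n := by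
    rw [(AdjoinRoot.powerBasis hirr.ne_zero).finrank, AdjoinRoot.powerBasis_dim, hdeg]
  obtain ⟨μ, hμ⟩ : ∃ μ : AdjoinRoot g →ₐ[F] Module.End F K,
      μ (AdjoinRoot.root g) = (u : Module.End F K) := by
    refine ⟨Ideal.Quotient.liftₐ (Ideal.span {g}) (Polynomial.aeval (u : Module.End F K)) ?_, ?_⟩
    · intro a ha
      obtain ⟨c, rfl⟩ := Ideal.mem_span_singleton.1 ha
      rw [map_mul, hg, minpoly.aeval, zero_mul]
    · show Polynomial.aeval (u : Module.End F K) Polynomial.X = _
      simp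
  haveI : Nontrivial (Module.End F K) := ⟨(u : Module.End F K), 1, hu1⟩
  haveI : NeZero n := ⟨by omega⟩
  obtain ⟨p, _⟩ := CharP.exists F
  haveI : Fact p.Prime := ⟨CharP.char_is_prime F p⟩
  let σ : AdjoinRoot g ≃ₐ[F] K :=
    (FiniteField.algEquivExtension F p n (AdjoinRoot g) hfr).trans
      (FiniteField.algEquivExtension F p n K hdim).symm
  -- the orbit map
  let Φ : AdjoinRoot g →ₗ[F] K :=
    { toFun := fun l => μ l 1
      map_add' := fun a b => by rw [map_add, LinearMap.add_apply]
      map_smul' := fun c a => by rw [map_smul, LinearMap.smul_apply, RingHom.id_apply] }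
  have hΦ : Function.Injective Φ := (injective_iff_map_eq_zero Φ).2 fun l hl => by
    by_contra hl0
    have h1 : μ l⁻¹ (μ l 1) = 1 := by
      rw [← Module.End.mul_apply, ← map_mul, inv_mul_cancel₀ hl0, map_one μ, Module.End.one_apply]
    rw [show μ l 1 = 0 from hl, map_zero] at h1
    exact zero_ne_one h1
  have hΦs : Function.Surjective Φ :=
    (LinearMap.injective_iff_surjective_of_finrank_eq_finrank (hfr.trans hdim.symm)).1 hΦ
  let Φe : AdjoinRoot g ≃ₗ[F] K := LinearEquiv.ofBijective Φ ⟨hΦ, hΦs⟩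
  let G : K ≃ₗ[F] K := Φe.symm.trans σ.toLinearEquiv
  have hG : ∀ l : AdjoinRoot g, G (μ l 1) = σ l := fun l => by
    show σ (Φe.symm (Φe l)) = σ l
    rw [LinearEquiv.symm_apply_apply]
  let gg : (Module.End F K)ˣ :=
    { val := G.toLinearMap
      inv := G.symm.toLinearMap
      val_inv := LinearMap.ext fun x => G.apply_symm_apply x
      inv_val := LinearMap.ext fun x => G.symm_apply_apply x }
  -- members of U
  have hUmem : ∀ T ∈ U, ∃ l : AdjoinRoot g, (T : Module.End F K) = μ l := by
    intro T hT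
    have hcomm : Commute (T : Module.End F K) (u : Module.End F K) := by
      have h := congrArg (fun x : U => ((x : (Module.End F K)ˣ) : Module.End F K))
        (hU.is_comm.comm (⟨T, hT⟩ : U) ⟨u, huU⟩)
      exact h
    have hcomm' : ∀ l : AdjoinRoot g, Commute (T : Module.End F K) (μ l) := by
      intro l
      induction l using AdjoinRoot.induction_on with
      | ih a =>
        rw [← AdjoinRoot.aeval_eq, ← Polynomial.aeval_algHom_apply, hμ]
        exact Algebra.commute_of_mem_adjoin_singleton_of_commute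
          (Polynomial.aeval_mem_adjoin_singleton F _) hcomm
    obtain ⟨l', hl'⟩ := hΦs ((T : Module.End F K) 1)
    refine ⟨l', LinearMap.ext fun x => ?_⟩
    obtain ⟨l, rfl⟩ := hΦs x
    show (T : Module.End F K) (μ l 1) = μ l' (μ l 1)
    have h1 : (T : Module.End F K) (μ l 1) = μ l ((T : Module.End F K) 1) :=
      LinearMap.congr_fun (hcomm' l).eq 1
    rw [h1, ← show μ l' 1 = (T : Module.End F K) 1 from hl', ← Module.End.mul_apply, ← map_mul,
      ← Module.End.mul_apply, ← map_mul, mul_comm]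
  refine ⟨gg, ?_⟩
  set M := (Units.map ((Algebra.lmul F K : K →ₐ[F] Module.End F K) : K →* Module.End F K)).range with hM
  have hle : U.map (MulAut.conj gg).toMonoidHom ≤ M := by
    rintro _ ⟨T, hT, rfl⟩
    obtain ⟨l, hl⟩ := hUmem T hT
    have hl0 : l ≠ 0 := fun h => T.ne_zero (by rw [hl, h, map_zero])
    refine ⟨Units.mk0 (σ l) (by simpa using hl0), Units.ext (LinearMap.ext fun x => ?_)⟩
    show σ l * x = G ((T : Module.End F K) (G.symm x))
    obtain ⟨x, rfl⟩ := G.surjective x
    obtain ⟨m, rfl⟩ := hΦs x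
    rw [LinearEquiv.symm_apply_apply, hl]
    show σ l * G (μ m 1) = G (μ l (μ m 1))
    rw [← Module.End.mul_apply, ← map_mul, hG, hG, map_mul]
  haveI : Finite M := Finite.of_surjective _ (MonoidHom.rangeRestrict_surjective _)
  refine Subgroup.eq_of_le_of_card_ge hle ?_
  rw [Nat.card_congr (U.equivMapOfInjective _ (MulAut.conj gg).injective).toEquiv.symm, hcard,
    ← Fintype.card_units, ← Nat.card_eq_fintype_card]
  exact Nat.card_le_card_of_surjective _ (MonoidHom.rangeRestrict_surjective _)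

end Cfsg.Agent.S5947
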