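import Cfsg.Statements.S5950
import Cfsg.Agent.Lib.Elusive.Decomp

set_option autoImplicit false
open scoped MatrixGroups
open Cfsg

namespace Cfsg.Agent.S5950

/-- Elements of prime order of PSL_n(q) fixing no decomposition `F^n = U ⊕ W` with `dim U = m`. Here `T = PSL_n(F)` for a field `F` with `q = p^f` elements (`n ≥ 2`, `(n, q) ≠ (2, 2), (2, 3)`); an element of `T` of prime order `r` is represented by a matrix `x` of determinant 1 with `x^r` scalar and `x` not scalar; `i` denotes the multiplicative order of `q` modulo `r` (when `r ≠ p`), and `(a)_r` the `r`-part of `a`. Let `n ≥ 3`, `1 ≤ m < n/2`, and let `r` be a prime dividing the number of such decompositions (unordered pairs `{U, W}` of complementary subspaces with `dim U = m`; since `m ≠ n − m` these are the ordered pairs with `dim U = m`). Then every element of `T` of order `r` fixes such a pair (fixes both `U` and `W` for some complementary `U, W` with `dim U = m`) if and only if one of: (i) `r = p > 2` and every partition of `n` into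 parts of size at most `p` contains, as a sub-multiset, a partition of `m`; (ii) `r = p = 2` and `n` is odd or `m` is even; (iii) `r ≠ p`, `i = 1`, and `r ∣ m` or `(q−1)_r ≥ (n)_r` (with `q ≡ 1 (mod 4)` required when `r = 2` and `n` is even); (iv) `r ≠ p`, `2 ≤ i ≤ m` and `n mod i ≥ m mod i`. -/
theorem result {F : Type*} [Field F] [Fintype F] {p : ℕ} [Fact p.Prime] [CharP F p] {q : ℕ} (hq : Fintype.card F = q)
    (n m : ℕ) (hn : 3 ≤ n) (hm : 1 ≤ m) (hmn : 2 * m < n)
    (r : ℕ) [Fact r.Prime]
    (hrΩ : r ∣ Nat.card {P : Submodule F (Fin n → F) × Submodule F (Fin n → F) // IsCompl P.1 P.2 ∧ Module.finrank F ↥P.1 = m}) :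
    (∀ x : Matrix.SpecialLinearGroup (Fin n) F,
      (∃ c : F, ((x ^ r : Matrix.SpecialLinearGroup (Fin n) F) : Matrix (Fin n) (Fin n) F) = c • (1 : Matrix (Fin n) (Fin n) F)) →
      (∀ c : F, (x : Matrix (Fin n) (Fin n) F) ≠ c • (1 : Matrix (Fin n) (Fin n) F)) →
      ∃ U W : Submodule F (Fin n → F), IsCompl U W ∧ Module.finrank F ↥U = m ∧
        U.map (Matrix.toLin' (x : Matrix (Fin n) (Fin n) F)) ≤ U ∧ W.map (Matrix.toLin' (x : Matrix (Fin n) (Fin n) F)) ≤ W) ↔
    ((r = p ∧ 2 < p ∧ (∀ μ : Multiset ℕ, (∀ a ∈ μ, 0 < a ∧ a ≤ p) → μ.sum = n → ∃ ν : Multiset ℕ, ν ≤ μ ∧ ν.sum = m)) ∨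
     (r = p ∧ p = 2 ∧ (Odd n ∨ Even m)) ∨
     (r ≠ p ∧
      ((orderOf (q : ZMod r) = 1 ∧ (r ∣ m ∨ (padicValNat r n ≤ padicValNat r (q - 1) ∧ (r = 2 → Even n → q % 4 = 1)))) ∨
       (2 ≤ orderOf (q : ZMod r) ∧ orderOf (q : ZMod r) ≤ m ∧ m % orderOf (q : ZMod r) ≤ n % orderOf (q : ZMod r))))) := by
  subst hq
  rw [Elusive.forall_sl_iff (fun T => ∃ U W : Submodule F (Fin n → F), IsCompl U W ∧
    Module.finrank F ↥U = m ∧ U.map T ≤ U ∧ W.map T ≤ W)]
  by_cases hrp : r = p
  · subst hrp
    have hd : ¬ r ∣ Fintype.card F - 1 := fun h => by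
      obtain ⟨e, -, hqe⟩ := FiniteField.card F r
      have h2 : r ∣ Fintype.card F := hqe ▸ dvd_pow_self r e.ne_zero
      have h3 := Nat.dvd_sub h2 h
      rw [Nat.sub_sub_self Fintype.card_pos] at h3
      exact (Fact.out : r.Prime).one_lt.ne' (Nat.dvd_one.1 h3)
    haveI : Nonempty (Fin n) := ⟨⟨0, by omega⟩⟩
    haveI : CharP (Module.End F (Fin n → F)) r :=
      charP_of_injective_algebraMap (algebraMap F (Module.End F (Fin n → F))).injective r
    simp only [true_and, ne_eq, not_true_eq_false, false_and, or_false]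
    have hcond : ((2 < r ∧ ∀ μ : Multiset ℕ, (∀ a ∈ μ, 0 < a ∧ a ≤ r) → μ.sum = n →
          ∃ ν : Multiset ℕ, ν ≤ μ ∧ ν.sum = m) ∨ (r = 2 ∧ (Odd n ∨ Even m))) ↔
        ∀ μ : Multiset ℕ, (∀ a ∈ μ, 0 < a ∧ a ≤ r) → μ.sum = n → ∃ ν : Multiset ℕ, ν ≤ μ ∧ ν.sum = m := by
      rcases Nat.lt_or_ge 2 r with h | h
      · simp only [h, true_and, show r ≠ 2 by omega, false_and, or_false]
      · obtain rfl : r = 2 := le_antisymm h (Fact.out : r.Prime).two_le
        simp only [lt_irrefl, false_and, false_or, true_and]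
        exact (Elusive.parts_two_iff (by omega)).symm
    rw [hcond]
    constructor
    · intro h μ hμ hsum
      by_cases h1 : ∀ a ∈ μ, a = 1
      · refine ⟨Multiset.replicate m 1, ?_, by simp⟩
        rw [Multiset.eq_replicate_card.2 h1] at hsum ⊢
        rw [Multiset.sum_replicate, smul_eq_mul, mul_one] at hsum
        exact (Multiset.replicate_le_replicate _).2 (by omega)
      let s : Nat.Partition n := ⟨μ, fun ha => (hμ _ ha).1, hsum⟩
      obtain ⟨f, hf, hs⟩ := NilJordan.exists_of_partition (F := F) (V := Fin n → F)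
        (Module.finrank_fin_fun F) s
      have hfp : f ^ r = 0 := by
        rw [← LinearMap.ker_eq_top]
        refine Submodule.eq_top_of_finrank_eq ?_
        rw [hs r, Module.finrank_fin_fun]
        show (μ.map fun a => min a r).sum = n
        rw [show (μ.map fun a => min a r) = μ.map fun a => a from
          Multiset.map_congr rfl fun a ha => min_eq_left (hμ a ha).2, Multiset.map_id']
        exact hsum
      have hT : (1 + f) ^ r = (1 : F) • (1 : Module.End F (Fin n → F)) := by
        rw [add_pow_char_of_commute _ (Commute.one_left f), one_pow, hfp, add_zero, one_smul]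
      have hdet : LinearMap.det (1 + f) = 1 := Elusive.eq_one_of_pow_eq_one hd
        (by rw [← map_pow, hT, one_smul, map_one])
      have hns : ∀ c : F, 1 + f ≠ c • (1 : Module.End F (Fin n → F)) := fun c hc => by
        rw [hc, smul_pow, one_pow] at hT
        rw [Algebra.smul_def, mul_one, Algebra.smul_def, mul_one] at hT
        rw [Elusive.eq_one_of_pow_eq_one hd ((algebraMap F (Module.End F (Fin n → F))).injective hT),
          one_smul, add_eq_left] at hc
        have h0 := hs 1
        rw [pow_one, hc, LinearMap.ker_zero, finrank_top, Module.finrank_fin_fun] at h0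
        push Not at h1
        obtain ⟨a, ha, ha1⟩ := h1
        obtain ⟨u, hu⟩ := Multiset.exists_cons_of_mem ha
        have ha0 := (hμ a ha).1
        have hs' : μ.sum = n := hsum
        change n = (μ.map fun a => min a 1).sum at h0
        rw [hu, Multiset.map_cons, Multiset.sum_cons] at h0
        rw [hu, Multiset.sum_cons] at hs'
        have hle : (u.map fun a => min a 1).sum ≤ u.sum := by
          conv_rhs => rw [← Multiset.map_id u]
          exact Multiset.sum_map_le_sum_map _ _ fun a _ => min_le_left _ _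
        omega
      obtain ⟨U, W, hUW, hUd, hU, hW⟩ := h (1 + f) 1 hT hdet hns
      have hinv : ∀ {X : Submodule F (Fin n → F)}, X.map (1 + f) ≤ X → Elusive.Inv f X := fun hX v hv => by
        have := Submodule.sub_mem _ (Elusive.inv_map_iff.1 hX v hv) hv
        rwa [LinearMap.add_apply, Module.End.one_apply, add_sub_cancel_left] at this
      obtain ⟨ν, hν, hν'⟩ := Elusive.exists_sub_of_compl (Module.finrank_fin_fun F) hf hs hUW (hinv hU) (hinv hW)
      exact ⟨ν, hν, hν'.trans hUd⟩
    · intro h T c hT hdet hns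
      have hc0 := Elusive.scalar_ne_zero (by omega) hT hdet
      obtain ⟨s, hs⟩ := Elusive.exists_root hd hc0
      have hs0 : s ≠ 0 := fun e => hc0 (by rw [← hs, e, zero_pow (Fact.out : r.Prime).ne_zero])
      obtain ⟨hTs, hT'⟩ := Elusive.scaled hT hs hs0
      set f : Module.End F (Fin n → F) := s⁻¹ • T - 1 with hfdef
      have hfp : f ^ r = 0 := by
        rw [hfdef, sub_pow_char_of_commute _ (Commute.one_right _), hT', one_pow, sub_self]
      obtain ⟨σ, hσ⟩ := NilJordan.exists_inv (Module.finrank_fin_fun F) f ⟨r, hfp⟩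
      have hle : ∀ a ∈ σ.parts, 0 < a ∧ a ≤ r := by
        intro a ha
        refine ⟨σ.parts_pos ha, not_lt.1 fun hlt => ?_⟩
        have h0 := hσ r
        rw [hfp, LinearMap.ker_zero, finrank_top, Module.finrank_fin_fun] at h0
        obtain ⟨u, hu⟩ := Multiset.exists_cons_of_mem ha
        have hs' := σ.parts_sum
        rw [hu, Multiset.map_cons, Multiset.sum_cons] at h0
        rw [hu, Multiset.sum_cons] at hs'
        have hle : (u.map fun a => min a r).sum ≤ u.sum := by
          conv_rhs => rw [← Multiset.map_id u]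
          exact Multiset.sum_map_le_sum_map _ _ fun a _ => min_le_left _ _
        omega
      obtain ⟨ν, hν, hνm⟩ := h σ.parts hle σ.parts_sum
      obtain ⟨U, W, hUW, hUd, hU, hW⟩ :=
        Elusive.exists_compl_of_sub (Module.finrank_fin_fun F) ⟨r, hfp⟩ hσ hν hνm
      have hinv : ∀ {X : Submodule F (Fin n → F)}, Elusive.Inv f X → X.map T ≤ X := fun hX =>
        Elusive.inv_map_iff.2 (Elusive.inv_of_scaled hTs (fun v hv => by
          have := Submodule.add_mem _ (hX v hv) hv
          rwa [hfdef, LinearMap.sub_apply, Module.End.one_apply, sub_add_cancel] at this))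
      exact ⟨U, W, hUW, hUd, hinv hU, hinv hW⟩
  simp only [hrp, false_and, false_or, ne_eq, not_false_eq_true, true_and]
  have hq' : ¬ r ∣ Fintype.card F := fun h => hrp (by
    obtain ⟨e, hp', hqe⟩ := FiniteField.card F p
    exact (Nat.prime_dvd_prime_iff_eq Fact.out hp').1 ((Fact.out : r.Prime).dvd_of_dvd_pow (hqe ▸ h)))
  obtain ⟨-, k, hk, hik⟩ := Elusive.dvd_card_grass (by omega) (Elusive.dvd_card_pairs hq' hrΩ)
  have hr0 := Elusive.cast_ne_zero_of_not_dvd_card (F := F) hq'
  have hipos := Elusive.orderOf_card_pos (F := F) (r := r) hr0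
  have hmod := Elusive.mod_lt_of_dvd_sub hk (by omega) hik
  set i := orderOf (Fintype.card F : ZMod r) with hi
  have hile : i ≤ n := (Nat.le_of_dvd (by omega) hik).trans (Nat.sub_le _ _)
  have hcompl : ∀ {T : Module.End F (Fin n → F)} {c : F}, T ^ r = c • 1 → c ≠ 0 →
      (∃ W, Elusive.Inv T W ∧ Module.finrank F ↥W = m) →
      ∃ U W : Submodule F (Fin n → F), IsCompl U W ∧ Module.finrank F ↥U = m ∧ U.map T ≤ U ∧ W.map T ≤ W := by
    rintro T c hT hc ⟨U, hU, hUd⟩
    obtain ⟨W, hUW, hW⟩ := Elusive.exists_inv_compl hT hc hr0 hU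
    exact ⟨U, W, hUW, hUd, Elusive.inv_map_iff.2 hU, Elusive.inv_map_iff.2 hW⟩
  rcases (show i = 1 ∨ 2 ≤ i by omega) with h1 | h2
  · have hd := Elusive.orderOf_card_eq_one_iff.1 h1
    have hcrit := Elusive.nonpower_criterion (F := F) (r := r) hd (n := n) (by omega)
    rw [← hcrit]
    simp only [h1, show ¬ (2 : ℕ) ≤ 1 by omega, false_and, or_false, true_and]
    constructor
    · intro h
      by_cases hrm : r ∣ m
      · exact Or.inl hrm
      refine Or.inr fun c hc0 hc hrn hdet => hrm ?_
      obtain ⟨T, hT, hdT, hns⟩ := Elusive.exists_nonpower_op (by omega) hc0 hc hrn hdet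
      obtain ⟨U, W, -, hUd, hUi, -⟩ := h T c hT hdT hns
      exact Elusive.dvd_of_inv hT hc0 hc (Elusive.inv_map_iff.1 hUi) hUd
    · intro h T c hT hdet hns
      have hc0 := Elusive.scalar_ne_zero (by omega) hT hdet
      refine hcompl hT hc0 ?_
      by_cases hc : ∃ s, s ^ r = c
      · obtain ⟨s, hs⟩ := hc
        have hs0 : s ≠ 0 := fun e => hc0 (by rw [← hs, e, zero_pow (Fact.out : r.Prime).ne_zero])
        obtain ⟨hTs, hT'⟩ := Elusive.scaled hT hs hs0
        obtain ⟨W, hW, hWd⟩ := Elusive.pow_case hq' hT' hmn.le (by rw [← hi, h1, Nat.mod_one, Nat.mod_one])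
        exact ⟨W, Elusive.inv_of_scaled hTs hW, hWd⟩
      push Not at hc
      have hrn : r ∣ n := by
        have := Elusive.dvd_finrank_nonpower hT hc0 hc (W := ⊤) (fun _ _ => trivial)
        rwa [finrank_top, Module.finrank_fin_fun] at this
      have hrm : r ∣ m := h.resolve_right fun h' => h' c hc0 hc hrn (by
        have e := Elusive.det_nonpower hT hc0 hc
        rwa [hdet, Module.finrank_fin_fun, eq_comm] at e)
      obtain ⟨U, -, hU, -, -, hUd, -⟩ := Elusive.exists_nested_nonpower hT hc0 hc (le_refl (m / r))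
        (by rw [Nat.div_mul_cancel hrm, Module.finrank_fin_fun]; omega)
      exact ⟨U, hU, by rw [hUd, Nat.div_mul_cancel hrm]⟩
  · have hd : ¬ r ∣ Fintype.card F - 1 := fun h => by
      have := Elusive.orderOf_card_eq_one_iff.2 h; omega
    simp only [show i ≠ 1 by omega, h2, false_and, false_or, true_and]
    constructor
    · intro h
      obtain ⟨T, hT, hdT, hns, hfix⟩ := Elusive.exists_small_fixed (n := n) hq' hd (n / i) (n % i)
        (Nat.div_pos hile hipos) (by rw [← hi, Nat.mul_comm]; exact Nat.div_add_mod n i)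
      obtain ⟨U, W, -, hUd, hUi, -⟩ := h T 1 (by rw [hT, one_smul]) hdT hns
      have hle := Elusive.mod_le_of_inv hq' hT hfix (Elusive.inv_map_iff.1 hUi) hUd
      rw [← hi] at hle
      refine ⟨not_lt.1 fun hmi => ?_, hle⟩
      rw [Nat.mod_eq_of_lt hmi] at hle
      omega
    · rintro ⟨-, hmn'⟩ T c hT hdet hns
      have hc0 := Elusive.scalar_ne_zero (by omega) hT hdet
      refine hcompl hT hc0 ?_
      obtain ⟨s, hs⟩ := Elusive.exists_root hd hc0
      have hs0 : s ≠ 0 := fun e => hc0 (by rw [← hs, e, zero_pow (Fact.out : r.Prime).ne_zero])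
      obtain ⟨hTs, hT'⟩ := Elusive.scaled hT hs hs0
      obtain ⟨W, hW, hWd⟩ := Elusive.pow_case hq' hT' hmn.le hmn'
      exact ⟨W, Elusive.inv_of_scaled hTs hW, hWd⟩

end Cfsg.Agent.S5950
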