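import Cfsg.Statements.S5951
import Cfsg.Agent.Lib.Elusive.Main

set_option autoImplicit false
open scoped MatrixGroups
open Cfsg

namespace Cfsg.Agent.S5951

/-- Elements of prime order of PSL_n(q) fixing no pair of subspaces `U < W` with `dim U = m`, `dim W = n − m`. Here `T = PSL_n(F)` for a field `F` with `q = p^f` elements (`n ≥ 2`, `(n, q) ≠ (2, 2), (2, 3)`); an element of `T` of prime order `r` is represented by a matrix `x` of determinant 1 with `x^r` scalar and `x` not scalar; `i` denotes the multiplicative order of `q` modulo `r` (when `r ≠ p`), and `(a)_r` the `r`-part of `a`. Let `1 ≤ m < n/2` and let `r` be a prime dividing the number of such pairs. Then every element of `T` of order `r` fixes such a pair (both `U` and `W`) if and only if `r ≠ p` and either (i) `i = 1` and (`r ∣ m`, or `(q−1)_r ≥ (n)_r` with `q ≡ 1 (mod 4)` required when `r = 2` and `n` is even), or (ii) `2 ≤ i ≤ m` and `n mod i ≥ 2 (m mod i)`. -/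
theorem result {F : Type*} [Field F] [Fintype F] {p : ℕ} [Fact p.Prime] [CharP F p] {q : ℕ} (hq : Fintype.card F = q)
    (n m : ℕ) (hn : 2 ≤ n) (hT : (n, q) ≠ (2, 2) ∧ (n, q) ≠ (2, 3)) (hm : 1 ≤ m) (hmn : 2 * m < n)
    (r : ℕ) [Fact r.Prime]
    (hrΩ : r ∣ Nat.card {P : Submodule F (Fin n → F) × Submodule F (Fin n → F) //
        P.1 ≤ P.2 ∧ Module.finrank F ↥P.1 = m ∧ Module.finrank F ↥P.2 = n - m}) :
    (∀ x : Matrix.SpecialLinearGroup (Fin n) F,
      (∃ c : F, ((x ^ r : Matrix.SpecialLinearGroup (Fin n) F) : Matrix (Fin n) (Fin n) F) = c • (1 : Matrix (Fin n) (Fin n) F)) →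
      (∀ c : F, (x : Matrix (Fin n) (Fin n) F) ≠ c • (1 : Matrix (Fin n) (Fin n) F)) →
      ∃ U W : Submodule F (Fin n → F), U ≤ W ∧ Module.finrank F ↥U = m ∧ Module.finrank F ↥W = n - m ∧
        U.map (Matrix.toLin' (x : Matrix (Fin n) (Fin n) F)) ≤ U ∧ W.map (Matrix.toLin' (x : Matrix (Fin n) (Fin n) F)) ≤ W) ↔
    (r ≠ p ∧
      ((orderOf (q : ZMod r) = 1 ∧ (r ∣ m ∨ (padicValNat r n ≤ padicValNat r (q - 1) ∧ (r = 2 → Even n → q % 4 = 1)))) ∨
       (2 ≤ orderOf (q : ZMod r) ∧ orderOf (q : ZMod r) ≤ m ∧ 2 * (m % orderOf (q : ZMod r)) ≤ n % orderOf (q : ZMod r)))) := by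
  subst hq
  obtain ⟨hr, k, hk, hik⟩ := Elusive.dvd_card_flags (by omega) hrΩ
  have hr0 := Elusive.cast_ne_zero_of_not_dvd_card (F := F) hr
  have hipos := Elusive.orderOf_card_pos (F := F) (r := r) hr0
  rw [and_iff_right (Elusive.ne_char_of_not_dvd_card hr),
    Elusive.forall_sl_iff (fun T => ∃ U W : Submodule F (Fin n → F), U ≤ W ∧ Module.finrank F ↥U = m ∧ Module.finrank F ↥W = n - m ∧ U.map T ≤ U ∧ W.map T ≤ W)]
  have hmod := Elusive.mod_lt_of_dvd_sub hk (by omega) hik
  set i := orderOf (Fintype.card F : ZMod r) with hi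
  have hile : i ≤ n := (Nat.le_of_dvd (by omega) hik).trans (Nat.sub_le _ _)
  rcases (show i = 1 ∨ 2 ≤ i by omega) with h1 | h2
  · have hd := Elusive.orderOf_card_eq_one_iff.1 h1
    have hcrit := Elusive.nonpower_criterion (F := F) (r := r) hd (n := n) (by omega)
    rw [← hcrit]
    simp only [h1, show ¬ (2 : ℕ) ≤ 1 by omega, false_and, or_false, true_and]
    constructor
    · intro h
      by_cases hrm : r ∣ m
      · exact Or.inl hrm
      refine Or.inr fun c hc0 hc hrn hdet => hrm ?_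
      obtain ⟨T, hT, hdT, hns⟩ := Elusive.exists_nonpower_op (by omega) hc0 hc hrn hdet
      obtain ⟨U, W, -, hUd, -, hUi, -⟩ := h T c hT hdT hns
      rw [Elusive.inv_map_iff] at hUi
      exact Elusive.dvd_of_inv hT hc0 hc hUi hUd
    · intro h T c hT hdet hns
      have hc0 := Elusive.scalar_ne_zero (by omega) hT hdet
      by_cases hc : ∃ s, s ^ r = c
      · obtain ⟨s, hs⟩ := hc
        have hs0 : s ≠ 0 := fun e => hc0 (by rw [← hs, e, zero_pow (Fact.out : r.Prime).ne_zero])
        obtain ⟨hTs, hT'⟩ := Elusive.scaled hT hs hs0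
        obtain ⟨U, W, hU, hW, hUW, hUd, hWd⟩ :=
          Elusive.pow_case_flag hr hT' hmn.le (by rw [← hi, h1, Nat.mod_one, Nat.mod_one])
        exact ⟨U, W, hUW, hUd, hWd, Elusive.inv_map_iff.2 (Elusive.inv_of_scaled hTs hU),
          Elusive.inv_map_iff.2 (Elusive.inv_of_scaled hTs hW)⟩
      push Not at hc
      have hrn : r ∣ n := by
        have := Elusive.dvd_finrank_nonpower hT hc0 hc (W := ⊤) (fun _ _ => trivial)
        rwa [finrank_top, Module.finrank_fin_fun] at this
      have hrm : r ∣ m := h.resolve_right fun h' => h' c hc0 hc hrn (by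
        have e := Elusive.det_nonpower hT hc0 hc
        rwa [hdet, Module.finrank_fin_fun, eq_comm] at e)
      have hrw : r ∣ n - m := Nat.dvd_sub hrn hrm
      obtain ⟨U, W, hU, hW, hUW, hUd, hWd⟩ := Elusive.exists_nested_nonpower hT hc0 hc
        (a := m / r) (b := (n - m) / r) (Nat.div_le_div_right (by omega))
        (by rw [Nat.div_mul_cancel hrw, Module.finrank_fin_fun]; omega)
      exact ⟨U, W, hUW, by rw [hUd, Nat.div_mul_cancel hrm], by rw [hWd, Nat.div_mul_cancel hrw],
        Elusive.inv_map_iff.2 hU, Elusive.inv_map_iff.2 hW⟩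
  · have hd : ¬ r ∣ Fintype.card F - 1 := fun h => by
      have := Elusive.orderOf_card_eq_one_iff.2 h; omega
    simp only [show i ≠ 1 by omega, h2, false_and, false_or, true_and]
    constructor
    · intro h
      obtain ⟨T, hT, hdT, hns, hfix⟩ := Elusive.exists_small_fixed (n := n) hr hd (n / i) (n % i)
        (Nat.div_pos hile hipos) (by rw [← hi, Nat.mul_comm]; exact Nat.div_add_mod n i)
      obtain ⟨U, W, hUW, hUd, hWd, hUi, hWi⟩ := h T 1 (by rw [hT, one_smul]) hdT hns
      have hle := Elusive.two_mod_le_of_inv hr hT (by omega) hfix (Elusive.inv_map_iff.1 hUi)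
        (Elusive.inv_map_iff.1 hWi) hUW hUd hWd
      rw [← hi] at hle
      refine ⟨not_lt.1 fun hmi => ?_, hle⟩
      rw [Nat.mod_eq_of_lt hmi] at hle
      omega
    · rintro ⟨-, hmn'⟩ T c hT hdet hns
      obtain ⟨s, hs⟩ := Elusive.exists_root hd (Elusive.scalar_ne_zero (by omega) hT hdet)
      have hs0 : s ≠ 0 := fun e => Elusive.scalar_ne_zero (by omega) hT hdet
        (by rw [← hs, e, zero_pow (Fact.out : r.Prime).ne_zero])
      obtain ⟨hTs, hT'⟩ := Elusive.scaled hT hs hs0
      obtain ⟨U, W, hU, hW, hUW, hUd, hWd⟩ := Elusive.pow_case_flag hr hT' hmn.le hmn'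
      exact ⟨U, W, hUW, hUd, hWd, Elusive.inv_map_iff.2 (Elusive.inv_of_scaled hTs hU),
        Elusive.inv_map_iff.2 (Elusive.inv_of_scaled hTs hW)⟩

end Cfsg.Agent.S5951
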