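import Cfsg.Statements.S5952
-- import your own Cfsg.Agent.* helpers here

set_option autoImplicit false
open Cfsg

namespace Cfsg.Agent.S5952

section
variable {F V : Type*} [Field F] [AddCommGroup V] [Module F V] [FiniteDimensional F V]

/-- A subspace of prescribed dimension inside a given one. -/
lemma exists_le_finrank (C : Submodule F V) {c : ℕ} (hc : c ≤ Module.finrank F C) :
    ∃ C' : Submodule F V, C' ≤ C ∧ Module.finrank F C' = c := by
  obtain ⟨v, hv⟩ := exists_linearIndependent_of_le_finrank hc
  refine ⟨Submodule.span F (Set.range fun i => (v i : V)), Submodule.span_le.2 ?_, ?_⟩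
  · rintro _ ⟨i, rfl⟩
    exact (v i).2
  · have h : LinearIndependent F (fun i => (v i : V)) := hv.map' C.subtype C.ker_subtype
    rw [finrank_span_eq_card h, Fintype.card_fin]

/-- The partial sums. -/
def part {s : ℕ} (C : Submodule F V) (U : Fin s → Submodule F V) (k : ℕ) : Submodule F V :=
  C ⊔ ⨆ (j : Fin s) (_ : (j : ℕ) < k), U j

variable {s : ℕ} {C : Submodule F V} {U : Fin s → Submodule F V}

lemma part_zero : part C U 0 = C := by
  simp [part]

lemma part_succ {k : ℕ} (hk : k < s) : part C U (k + 1) = part C U k ⊔ U ⟨k, hk⟩ := by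
  unfold part
  refine le_antisymm (sup_le (le_sup_left.trans le_sup_left) (iSup₂_le fun j hj => ?_))
    (sup_le (sup_le_sup_left (iSup₂_le fun j hj => ?_) _) ?_)
  · rcases (Nat.lt_succ_iff_lt_or_eq.1 hj) with h | h
    · exact le_sup_of_le_left (le_sup_of_le_right (le_iSup₂_of_le j h le_rfl))
    · obtain rfl : j = ⟨k, hk⟩ := Fin.ext h
      exact le_sup_right
  · exact le_iSup₂_of_le j (hj.trans (Nat.lt_succ_self k)) le_rfl
  · exact le_sup_of_le_right (le_iSup₂_of_le ⟨k, hk⟩ (Nat.lt_succ_self k) le_rfl)

lemma part_top (h : ⨆ o : Option (Fin s), o.elim C U = ⊤) : part C U s = ⊤ := by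
  rw [iSup_option] at h
  refine eq_top_iff.2 (h.ge.trans (sup_le le_sup_left (le_sup_of_le_right (iSup_le fun j => ?_))))
  exact le_iSup₂_of_le j j.2 le_rfl

lemma part_disjoint (h : iSupIndep fun o : Option (Fin s) => o.elim C U) {C' : Submodule F V}
    (hC' : C' ≤ C) {k : ℕ} (hk : k < s) : part C' U k ⊓ U ⟨k, hk⟩ = ⊥ := by
  refine (Disjoint.mono_left ?_ (h (some ⟨k, hk⟩)).symm).eq_bot
  refine sup_le (hC'.trans (le_iSup₂_of_le none (by simp) le_rfl)) (iSup₂_le fun j hj => ?_)
  refine le_iSup₂_of_le (some j) ?_ le_rfl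
  intro e
  have := congrArg Fin.val (Option.some.inj e)
  simp at this
  omega

lemma part_invariant {f : V →ₗ[F] V} (hC : C.map f ≤ C) (hU : ∀ j, (U j).map f ≤ U j) (k : ℕ) :
    (part C U k).map f ≤ part C U k := by
  unfold part
  simp only [Submodule.map_sup, Submodule.map_iSup]
  exact sup_le_sup hC (iSup₂_mono fun j _ => hU j)

end


/-- Which dimensions of invariant subspaces a semisimple linear map has. Let `V` be a finite-dimensional vector space over a field `F` and `f` an invertible semisimple linear map of `V`. Suppose `V` is the internal direct sum of the fixed space `C_V(f)` (the eigenspace for 1) and subspaces `U_1, …, U_s`, each `f`-invariant of dimension `a ≥ 1` on which `f` acts irreducibly (no `f`-invariant subspaces other than 0 and `U_j`). Let `0 < m < dim V` and `ℓ = m mod a`. Then `f` leaves some `m`-dimensional subspace invariant if and only if `dim C_V(f) ≥ m`, or `a ≤ m` and `dim C_V(f) ≥ ℓ`. -/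
theorem result {F V : Type*} [Field F] [AddCommGroup V] [Module F V]
    [FiniteDimensional F V] (f : V →ₗ[F] V) (hf : Function.Bijective f) (hss : Module.End.IsSemisimple f)
    {s a : ℕ} (ha : 1 ≤ a) (U : Fin s → Submodule F V)
    (hUinv : ∀ j, (U j).map f ≤ U j) (hUdim : ∀ j, Module.finrank F ↥(U j) = a)
    (hUirr : ∀ j, ∀ W : Submodule F V, W ≤ U j → W.map f ≤ W → W = ⊥ ∨ W = U j)
    (hdec : DirectSum.IsInternal (fun o : Option (Fin s) => o.elim (Module.End.eigenspace f 1) U))
    (m : ℕ) (hm : 0 < m) (hmV : m < Module.finrank F V) :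
    (∃ W : Submodule F V, Module.finrank F ↥W = m ∧ W.map f ≤ W) ↔
    (m ≤ Module.finrank F ↥(Module.End.eigenspace f 1) ∨
      (a ≤ m ∧ m % a ≤ Module.finrank F ↥(Module.End.eigenspace f 1))) := by
  classical
  obtain ⟨hind, htop⟩ := (DirectSum.isInternal_submodule_iff_iSupIndep_and_iSup_eq_top _).1 hdec
  set C := Module.End.eigenspace f 1 with hC
  have hCfix : ∀ v ∈ C, f v = v := fun v hv => by
    rw [hC, Module.End.mem_eigenspace_iff, one_smul] at hv
    exact hv
  have hCinv : ∀ C' : Submodule F V, C' ≤ C → C'.map f ≤ C' := fun C' h => by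
    rintro _ ⟨v, hv, rfl⟩
    rwa [hCfix v (h hv)]
  have hdim : ∀ (C' : Submodule F V), C' ≤ C → ∀ k ≤ s,
      Module.finrank F (part C' U k) = Module.finrank F C' + k * a := by
    intro C' hC' k
    induction k with
    | zero => intro _; rw [part_zero, Nat.zero_mul, Nat.add_zero]
    | succ k ih =>
      intro hk
      have h := Submodule.finrank_sup_add_finrank_inf_eq (part C' U k) (U ⟨k, hk⟩)
      rw [part_disjoint hind hC' hk, finrank_bot, ih (by omega), hUdim, ← part_succ hk] at h
      rw [Nat.succ_mul]
      omega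
  have htot : Module.finrank F V = Module.finrank F C + s * a := by
    rw [← hdim C le_rfl s le_rfl, part_top htop, finrank_top]
  constructor
  · rintro ⟨W, hWm, hW⟩
    have key : ∀ k ≤ s, ∃ i, i ≤ k ∧
        Module.finrank F (W ⊓ part C U k : Submodule F V) =
          Module.finrank F (W ⊓ C : Submodule F V) + i * a := by
      intro k
      induction k with
      | zero => intro _; exact ⟨0, le_rfl, by rw [part_zero, Nat.zero_mul, Nat.add_zero]⟩
      | succ k ih =>
        intro hk
        obtain ⟨i, hik, hi⟩ := ih (by omega)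
        set P := part C U k with hP
        set X := (W ⊓ part C U (k + 1)) ⊔ P with hX
        have hPle : P ≤ part C U (k + 1) := by rw [part_succ (show k < s from hk)]; exact le_sup_left
        have hXle : X ≤ part C U (k + 1) := sup_le inf_le_right hPle
        have hXinv : X.map f ≤ X := by
          rw [hX, Submodule.map_sup]
          refine sup_le_sup ?_ (part_invariant (hCinv C le_rfl) hUinv k)
          exact (Submodule.map_inf_le _).trans
            (inf_le_inf hW (part_invariant (hCinv C le_rfl) hUinv _))
        have hXeq : X = P ⊔ (U ⟨k, hk⟩ ⊓ X) := by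
          rw [← sup_inf_assoc_of_le (U ⟨k, hk⟩) (show P ≤ X from le_sup_right), ← part_succ (show k < s from hk),
            inf_eq_right.2 hXle]
        have h := Submodule.finrank_sup_add_finrank_inf_eq (W ⊓ part C U (k + 1)) P
        rw [inf_assoc, inf_eq_right.2 hPle, ← hX, hi, hdim C le_rfl k (by omega)] at h
        rcases hUirr ⟨k, hk⟩ (U ⟨k, hk⟩ ⊓ X) inf_le_left
          ((Submodule.map_inf_le _).trans (inf_le_inf (hUinv _) hXinv)) with e | e
        · refine ⟨i, by omega, ?_⟩
          rw [e, sup_bot_eq] at hXeq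
          rw [hXeq, hdim C le_rfl k (by omega)] at h
          omega
        · refine ⟨i + 1, by omega, ?_⟩
          rw [e, ← part_succ (show k < s from hk)] at hXeq
          rw [hXeq, hdim C le_rfl (k + 1) hk, Nat.succ_mul] at h
          rw [Nat.succ_mul]
          omega
    obtain ⟨i, -, hi⟩ := key s le_rfl
    rw [part_top htop, inf_top_eq, hWm] at hi
    have hle : Module.finrank F (W ⊓ C : Submodule F V) ≤ Module.finrank F C :=
      Submodule.finrank_mono inf_le_right
    rcases Nat.eq_zero_or_pos i with rfl | hpos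
    · left; omega
    · right
      have : a ≤ i * a := Nat.le_mul_of_pos_left a hpos
      refine ⟨by omega, le_trans ?_ hle⟩
      rw [hi, Nat.add_mul_mod_self_right]
      exact Nat.mod_le _ _
  · intro h
    obtain ⟨c, j, hc, hj, hcj⟩ : ∃ c j, c ≤ Module.finrank F C ∧ j ≤ s ∧ c + j * a = m := by
      rcases h with h | ⟨h1, h2⟩
      · exact ⟨m, 0, h, Nat.zero_le _, by simp⟩
      · by_cases hs : m / a ≤ s
        · refine ⟨m % a, m / a, h2, hs, ?_⟩
          rw [Nat.mul_comm]; exact Nat.mod_add_div m a
        · push Not at hs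
          have : s * a ≤ m / a * a := Nat.mul_le_mul_right a hs.le
          have := Nat.div_mul_le_self m a
          exact ⟨m - s * a, s, by omega, le_rfl, by omega⟩
    obtain ⟨C', hC', hC'c⟩ := exists_le_finrank C hc
    exact ⟨part C' U j, by rw [hdim C' hC' j hj, hC'c, hcj],
      part_invariant (hCinv C' hC') hUinv j⟩

end Cfsg.Agent.S5952
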