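import Cfsg.Statements.S5954
import Cfsg.Agent.Lib.Elusive.HermNdUnip
import Cfsg.Agent.Lib.Elusive.HermNdTwo
import Cfsg.Agent.Lib.Elusive.HermNdWitness
-- import your own Cfsg.Agent.* helpers here

set_option autoImplicit false
open scoped MatrixGroups
open Cfsg

namespace Cfsg.Agent.S5954

/-- Elements of prime order of PSU_n(q) with no fixed nondegenerate `m`-space. Here `T = PSU_n(q)` (`n ≥ 3`, `(n, q) ≠ (3, 2)`), realised through the matrices of determinant 1 over the field `F` with `q²` elements preserving the Hermitian form `h(u, v) = Σ u_i v_i^q`; an element of `T` of prime order `r` is such a matrix `x` with `x^r` scalar and `x` not scalar. For `r ≠ p` let `i` be the multiplicative order of `q` modulo `r`, `b = i/2` for `i` even and `b = i` for `i` odd, `c = i, i/2, 2i` according as `i ≡ 0, 2 (mod 4)` or `i` odd, and write `k = n mod c`, `ℓ = m mod b`, `ℓ' = m mod c`, `n' = ⌊n/b⌋`, `m' = ⌊m/b⌋`, `s = (r−1)/b`; `(a)_r` is the `r`-part of `a`.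 Let `1 ≤ m < n/2` and let `r` be a prime dividing the number of nondegenerate `m`-spaces. Then every element of `T` of order `r` fixes a nondegenerate `m`-space if and only if one of: (i) `r = p > 2` and every partition of `n` into parts of size at most `p` contains (as a sub-multiset) a partition of `m`; (ii) `r = p = 2` and (`n` is odd or `m` is even); (iii) `r = 2 ≠ p` and (`n` is odd, or `m` is even, or `(q+1)_2 ≥ (n)_2` and `q ≡ 3 (mod 4)`); (iv) `r ≠ p`, `r > 2`, and either `i ≠ 2`, `c ≤ m` and `k ≥ ℓ'`, or `i = 2` and (`r ∣ m` or `(q+1)_r ≥ (n)_r`). -/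
theorem result {F : Type*} [Field F] [Fintype F] {p : ℕ} [Fact p.Prime] [CharP F p] {q : ℕ} (hq : Fintype.card F = q ^ 2)
    (n m : ℕ) (hn : 3 ≤ n) (hT : (n, q) ≠ (3, 2)) (hm : 1 ≤ m) (hmn : 2 * m < n)
    (r : ℕ) [Fact r.Prime]
    (hrΩ : r ∣ Nat.card {W : Submodule F (Fin n → F) // Module.finrank F ↥W = m ∧ (∀ u ∈ W, u ≠ 0 → ∃ v ∈ W, Cfsg.hermForm n F q u v ≠ 0)})
    (i b c : ℕ) (hi : i = orderOf (q : ZMod r)) (hb : b = if Even i then i / 2 else i)
    (hc : c = if i % 4 = 0 then i else if i % 4 = 2 then i / 2 else 2 * i) :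
    (∀ x : Matrix.SpecialLinearGroup (Fin n) F, x ∈ Cfsg.SU n F q →
      (∃ z : F, ((x ^ r : Matrix.SpecialLinearGroup (Fin n) F) : Matrix (Fin n) (Fin n) F) = z • (1 : Matrix (Fin n) (Fin n) F)) →
      (∀ z : F, (x : Matrix (Fin n) (Fin n) F) ≠ z • (1 : Matrix (Fin n) (Fin n) F)) →
      ∃ W : Submodule F (Fin n → F), Module.finrank F ↥W = m ∧ (∀ u ∈ W, u ≠ 0 → ∃ v ∈ W, Cfsg.hermForm n F q u v ≠ 0) ∧
        W.map (Matrix.toLin' (x : Matrix (Fin n) (Fin n) F)) ≤ W) ↔
    ((r = p ∧ 2 < p ∧ (∀ μ : Multiset ℕ, (∀ a ∈ μ, 0 < a ∧ a ≤ p) → μ.sum = n → ∃ ν : Multiset ℕ, ν ≤ μ ∧ ν.sum = m)) ∨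
     (r = p ∧ p = 2 ∧ (Odd n ∨ Even m)) ∨
     (r = 2 ∧ p ≠ 2 ∧ (Odd n ∨ Even m ∨ (padicValNat 2 n ≤ padicValNat 2 (q + 1) ∧ q % 4 = 3))) ∨
     (r ≠ p ∧ 2 < r ∧ ((i ≠ 2 ∧ c ≤ m ∧ m % c ≤ n % c) ∨ (i = 2 ∧ (r ∣ m ∨ padicValNat r n ≤ padicValNat r (q + 1)))))) := by
  classical
  change Elusive.SUNdFix F q n m r ↔ _
  obtain ⟨σ, hσ, hne, hinv, hfix, hq2⟩ := Agent.HermStd.exists_sigma hq
  have hn0 : 0 < n := by omega
  have hmn' : m ≤ n := by omega
  obtain ⟨e, hqe⟩ : ∃ e, q = p ^ e := by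
    obtain ⟨k, -, hk⟩ := FiniteField.card F p
    have : q ∣ p ^ (k : ℕ) := by rw [← hk, hq]; exact dvd_pow_self q two_ne_zero
    obtain ⟨e, -, he⟩ := (Nat.dvd_prime_pow Fact.out).1 this
    exact ⟨e, he⟩
  have hrP : r.Prime := Fact.out
  rcases eq_or_ne r p with rfl | hrp
  · simp only [true_and, ne_eq, not_true, false_and, or_false]
    rw [Elusive.suNdFix_unip_iff r hne hinv hσ hn0 hmn']
    rcases eq_or_ne r 2 with rfl | hr2
    · rw [Elusive.part_two_iff hmn']
      simp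
    · have := hrP.two_le
      simp [hr2, show 2 < r by omega]
  have hqr : ¬ r ∣ q := fun h => hrp ((Nat.prime_dvd_prime_iff_eq hrP Fact.out).1 (hrP.dvd_of_dvd_pow (hqe ▸ h)))
  have hrF : (r : F) ≠ 0 := fun h => by
    rw [CharP.cast_eq_zero_iff F p] at h
    exact hrp ((Nat.prime_dvd_prime_iff_eq Fact.out Fact.out).1 h).symm
  rcases eq_or_ne r 2 with rfl | hr2
  · have h2 : (2 : F) ≠ 0 := by simpa using hrF
    constructor
    · intro hall
      refine Or.inr (Or.inr (Or.inl ⟨rfl, hrp.symm, ?_⟩))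
      by_contra hno
      rw [not_or, not_or, Nat.not_odd_iff_even, Nat.not_even_iff_odd] at hno
      exact Elusive.not_suNdFix_two hne hinv hσ hq h2 hn0 hno.1 hno.2.1 hno.2.2 hall
    · rintro (⟨h, -⟩ | ⟨h, -⟩ | ⟨-, -, h⟩ | ⟨-, h, -⟩)
      · exact absurd h hrp
      · exact absurd h hrp
      · exact Elusive.suNdFix_two hne hinv hσ hq h2 hn0 hmn' h
      · omega
  obtain ⟨j, hj1, hj2, hj⟩ := Elusive.dvd_count_nd_herm hne hinv hσ hfix hqr hmn' hrΩ
  haveI : Fact (2 < r) := ⟨lt_of_le_of_ne hrP.two_le (Ne.symm hr2)⟩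
  have hr3 : 2 < r := Fact.out
  have hq0 : (q : ZMod r) ≠ 0 := fun h => hqr ((ZMod.natCast_eq_zero_iff _ _).1 h)
  have hi0 : 0 < i := hi ▸ orderOf_pos_iff.2 (isOfFinOrder_iff_pow_eq_one.2
    ⟨r - 1, by omega, ZMod.pow_card_sub_one_eq_one hq0⟩)
  have hK : (Fintype.card F : ZMod r) = (q : ZMod r) ^ 2 := by rw [hq, Nat.cast_pow]
  have hb' : b = orderOf (Fintype.card F : ZMod r) := by
    rw [hK, orderOf_pow' _ two_ne_zero, ← hi, hb]
    split_ifs with he
    · rw [Nat.gcd_eq_right he.two_dvd]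
    · rw [show i.gcd 2 = 1 from Nat.coprime_two_right.2 (Nat.not_even_iff_odd.1 he), Nat.div_one]
  have hb0 : 0 < b := hb' ▸ Elusive.orderOf_card_pos hrF
  have hpm : ∀ k : ℕ, (-1 : ZMod r) ^ k = 1 → k % 2 = 0 := fun k hk => by
    by_contra hk2
    rw [Odd.neg_one_pow (Nat.odd_iff.2 (by omega))] at hk
    exact ZMod.neg_one_ne_one hk
  have hdvd : ∀ k : ℕ, (q : ZMod r) ^ k = (-1) ^ k → c ∣ k := by
    intro k hk
    have h1 : i ∣ 2 * k := by
      rw [hi]
      refine orderOf_dvd_of_pow_eq_one ?_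
      rw [mul_comm, pow_mul, hk, ← pow_mul, mul_comm, pow_mul, neg_one_sq, one_pow]
    rw [hc]
    by_cases h4 : i % 4 = 0
    · rw [if_pos h4]
      obtain ⟨a, ha⟩ := h1
      obtain ⟨i', rfl⟩ : ∃ i', i = 4 * i' := ⟨i / 4, by omega⟩
      have hk2 : k = 2 * i' * a := by rw [mul_assoc] at ha ⊢; omega
      rcases Nat.even_or_odd a with ⟨a', rfl⟩ | hodd
      · exact ⟨a', by rw [hk2]; ring⟩
      · exfalso
        have h5 : (q : ZMod r) ^ (2 * i') = -1 := by
          have h6 : ((q : ZMod r) ^ (2 * i')) ^ 2 = 1 := by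
            rw [← pow_mul, show 2 * i' * 2 = orderOf (q : ZMod r) by omega, pow_orderOf_eq_one]
          exact (sq_eq_one_iff.1 h6).resolve_left (pow_ne_one_of_lt_orderOf (by omega) (by omega))
        rw [hk2, pow_mul, h5, hodd.neg_one_pow, mul_assoc, pow_mul, neg_one_sq, one_pow] at hk
        exact ZMod.neg_one_ne_one hk
    · rw [if_neg h4]
      by_cases h42 : i % 4 = 2
      · rw [if_pos h42]
        obtain ⟨i', rfl⟩ : ∃ i', i = 2 * i' := ⟨i / 2, by omega⟩
        rw [Nat.mul_div_cancel_left _ two_pos]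
        exact Nat.dvd_of_mul_dvd_mul_left two_pos h1
      · rw [if_neg h42]
        have hodd : Odd i := Nat.odd_iff.2 (by omega)
        have h2 : i ∣ k := (Nat.coprime_two_right.2 hodd).dvd_of_dvd_mul_left h1
        obtain ⟨a, rfl⟩ := h2
        rw [pow_mul, hi, pow_orderOf_eq_one, one_pow, ← hi] at hk
        have h3 := hpm _ hk.symm
        have h5 : 2 ∣ a := (Nat.prime_two.dvd_mul.1 (Nat.dvd_of_mod_eq_zero h3)).resolve_left fun h => by
          rw [Nat.odd_iff] at hodd; omega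
        rw [mul_comm 2 i]
        exact Nat.mul_dvd_mul_left i h5
  have hcj : c ∣ j := hdvd j hj
  have hcb : (i % 4 = 2 ∧ c = b) ∨ (i % 4 ≠ 2 ∧ c = 2 * b) := by
    rw [hc, hb]
    by_cases h4 : i % 4 = 0
    · exact Or.inr ⟨by omega, by rw [if_pos h4, if_pos (Nat.even_iff.2 (by omega))]; omega⟩
    by_cases h42 : i % 4 = 2
    · exact Or.inl ⟨h42, by rw [if_neg h4, if_pos h42, if_pos (Nat.even_iff.2 (by omega))]⟩
    · exact Or.inr ⟨h42, by rw [if_neg h4, if_neg h42, if_neg (fun h => by rw [Nat.even_iff] at h; omega)]⟩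
  have hcn : c ≤ n := (Nat.le_of_dvd (by omega) hcj).trans hj2
  have hself : i % 4 = 2 → ∀ g ∈ LBRootPoly.factors F r, LBRootTwist.rc σ g = g := fun h4 g hg => by
    have hneg : (q : ZMod r) ^ (i / 2) = -1 := by
      have h2 : ((q : ZMod r) ^ (i / 2)) ^ 2 = 1 := by
        rw [← pow_mul, show i / 2 * 2 = orderOf (q : ZMod r) by omega, pow_orderOf_eq_one]
      exact (sq_eq_one_iff.1 h2).resolve_left (pow_ne_one_of_lt_orderOf (by omega) (by omega))
    refine (LBRootTwist.rc_self_iff σ hinv p e (fun x => hqe ▸ hσ x) hrP hg).2 ⟨(i / 2 + 1) / 2, ?_⟩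
    rw [hK, ← hqe, ← pow_mul, show 2 * ((i / 2 + 1) / 2) = i / 2 + 1 by omega, pow_succ, hneg, neg_one_mul]
  have hdq : r ∣ q + 1 ↔ i = 2 := by
    rw [← ZMod.natCast_eq_zero_iff, Nat.cast_add, Nat.cast_one, add_eq_zero_iff_eq_neg]
    constructor
    · intro h
      rw [hi]
      refine orderOf_eq_prime (by rw [h, neg_one_sq]) ?_
      rw [h]
      exact ZMod.neg_one_ne_one
    · intro h
      have h2 : ((q : ZMod r)) ^ 2 = 1 := by rw [← h, hi, pow_orderOf_eq_one]
      refine (sq_eq_one_iff.1 h2).resolve_left fun h1 => ?_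
      rw [h1, orderOf_one] at hi
      omega
  have hc0 : 0 < c := by rcases hcb with ⟨-, e'⟩ | ⟨-, e'⟩ <;> omega
  have hcm : m % c ≤ n % c → c ≤ m := fun h => by
    by_contra hlt
    rw [Nat.mod_eq_of_lt (by omega)] at h
    obtain ⟨a, ha⟩ := hcj
    rw [show n = n - j + c * a by omega, Nat.add_mul_mod_self_left] at h
    have := Nat.mod_le (n - j) c
    omega
  have hc1 : i = 2 → c = 1 := fun h => by rw [hc, h]; rfl
  constructor
  · intro hall
    refine Or.inr (Or.inr (Or.inr ⟨hrp, hr3, ?_⟩))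
    rcases eq_or_ne i 2 with h2 | h2
    · refine Or.inr ⟨h2, ?_⟩
      by_contra hno
      rw [not_or, not_le] at hno
      exact Elusive.not_suNdFix_nonpower hne hinv hσ hq hr2 (hdq.2 h2) hn0 hno.1 hno.2 hall
    · have h1 : m % c ≤ n % c := not_lt.1 fun h => by
        refine Elusive.not_suNdFix_mod p hne hinv hσ hrF (fun hd => h2 (hdq.1 hd)) hb' (h := c) ?_ hfix hqr hcn h hall
        rcases hcb with ⟨h4, e'⟩ | ⟨-, e'⟩
        · exact Or.inl ⟨e', hself h4⟩
        · refine Or.inr ⟨e', fun k hk1 hk2 hk => ?_⟩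
          have := Nat.le_of_dvd (by omega) (hdvd k hk)
          omega
      exact Or.inl ⟨h2, hcm h1, h1⟩
  · rintro (⟨h, -⟩ | ⟨h, -⟩ | ⟨h, -⟩ | ⟨-, -, hR⟩)
    · exact absurd h hrp
    · exact absurd h hrp
    · exact absurd h hr2
    have hle : m % c ≤ n % c := by
      rcases hR with ⟨-, -, h⟩ | ⟨h, -⟩
      · exact h
      · rw [hc1 h, Nat.mod_one, Nat.mod_one]
    intro x hx hx1 hx2
    obtain ⟨z, hz⟩ := hx1
    have hH := Agent.HermStd.isHerm_std hne hinv hσ n
    have hx' : ∀ u v, Cfsg.hermForm n F q (Matrix.toLin' x.1 u) (Matrix.toLin' x.1 v) = Cfsg.hermForm n F q u v := hx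
    have hI := Elusive.hermSF_isom (hh := hH) hx'
    have hxx : Matrix.toLin' x.1 ^ r = z • 1 := by
      rw [← Matrix.toLin'_pow, show x.1 ^ r = z • 1 from hz, map_smul, Matrix.toLin'_one]; rfl
    have hzz : z ^ (q + 1) = 1 := by
      let e0 : Fin n → F := Pi.single ⟨0, hn0⟩ 1
      have h3 := hI.pow r e0 e0
      rw [hxx, LinearMap.smul_apply, Module.End.one_apply, Elusive.hermSF_B, Elusive.hermSF_B, hH.smul_left,
        hH.smul_right, ← mul_assoc, Agent.HermStd.hermForm_single hσ] at h3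
      rw [pow_succ', ← hσ]
      simpa using h3
    have hz0 : z ≠ 0 := fun h => by rw [h, zero_pow (by omega)] at hzz; exact zero_ne_one hzz
    by_cases hpow : ∃ s : F, s ^ r = z ∧ s ^ (q + 1) = 1
    · obtain ⟨s, hs, hsq⟩ := hpow
      have hs0 : s ≠ 0 := fun h => by rw [h, zero_pow (by omega)] at hsq; exact zero_ne_one hsq
      obtain ⟨T, hT⟩ : ∃ T, T = s⁻¹ • Matrix.toLin' x.1 := ⟨_, rfl⟩
      have hTr : T ^ r = 1 := by
        rw [hT, _root_.smul_pow, hxx, smul_smul, ← hs, inv_pow, inv_mul_cancel₀ (pow_ne_zero r hs0), one_smul]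
      have e' : ∀ u v, Cfsg.hermForm n F q (T u) (T v) = Cfsg.hermForm n F q u v := fun u v => by
        rw [hT, LinearMap.smul_apply, LinearMap.smul_apply, hH.smul_left, hH.smul_right, hx', ← mul_assoc, hσ,
          ← pow_succ', inv_pow, hsq, inv_one, one_mul]
      obtain ⟨W, hWi, hW, hWd⟩ := Elusive.exists_fixed_nd_herm (hh := hH) hTr hrF e' (m := m) hc0
        (fun U hUi hUM hU hne' => by
          rcases hcb with ⟨h4, e1⟩ | ⟨-, e1⟩
          · have hbo : b % 2 = 1 := by rw [hb, if_pos (Nat.even_iff.2 (by omega))]; omega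
            have hqb : (q : ZMod r) ^ b = -1 := by
              have h2 : ((q : ZMod r) ^ b) ^ 2 = 1 := by
                rw [← pow_mul, show b * 2 = orderOf (q : ZMod r) by
                  rw [hb, if_pos (Nat.even_iff.2 (by omega))]; omega, pow_orderOf_eq_one]
              refine (sq_eq_one_iff.1 h2).resolve_left (pow_ne_one_of_lt_orderOf (by omega) ?_)
              rw [← hi, hb, if_pos (Nat.even_iff.2 (by omega))]
              omega
            have hσk : ∀ y, σ y = y ^ (p ^ (e * b)) := fun y => by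
              obtain ⟨t, ht⟩ : ∃ t, b = 2 * t + 1 := ⟨b / 2, by omega⟩
              rw [pow_mul p, ← hqe, hσ, ht, pow_succ', pow_mul y, pow_mul q, ← hq, FiniteField.pow_card_pow]
            rw [e1, hb']
            exact Elusive.exists_block_self p hTr hrF e' hσk
              (by rw [pow_mul, ← hqe, Nat.cast_pow, hqb]) hUi hUM hU hne'
          · rw [e1, hb']
            refine Elusive.exists_block_pair hne hσ hfix hqr hTr hrF e' (fun k hk1 hk2 hk => ?_) hUi hUM hU hne'
            rw [← hb'] at hk2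
            have := Nat.le_of_dvd (by omega) (hdvd k hk)
            omega)
        (by rw [Module.finrank_fin_fun]; exact hmn') (by rwa [Module.finrank_fin_fun])
      refine ⟨W, hWd, Elusive.nd_herm_iff.2 hW, Elusive.inv_map_iff.2 fun v hv => ?_⟩
      rw [show Matrix.toLin' x.1 v = s • T v by rw [hT, LinearMap.smul_apply, smul_inv_smul₀ hs0]]
      exact W.smul_mem _ (hWi v hv)
    · have hrq : r ∣ q + 1 := by
        by_contra hcop
        have hcop' : Nat.Coprime r (q + 1) := hrP.coprime_iff_not_dvd.2 hcop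
        obtain ⟨y, hy⟩ := Nat.exists_mul_mod_eq_one_of_coprime hcop' (by omega)
        refine hpow ⟨z ^ y, ?_, ?_⟩
        · rw [← pow_mul, mul_comm, ← Nat.mod_add_div (r * y) (q + 1), hy.2, pow_add, pow_one, pow_mul, hzz, one_pow,
            mul_one]
        · rw [← pow_mul, mul_comm, pow_mul, hzz, one_pow]
      have h2i : i = 2 := hdq.1 hrq
      have hrq1 : ¬ r ∣ q - 1 := fun h => by
        have h3 := Nat.dvd_sub hrq h
        rw [show q + 1 - (q - 1) = 2 by omega] at h3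
        exact hr2 ((Nat.prime_dvd_prime_iff_eq hrP Nat.prime_two).1 h3)
      have hnp : ∀ s : F, s ^ r ≠ z := fun s hs => hpow ⟨s, hs, by
        have h3 : (s ^ (q + 1)) ^ r = 1 := by rw [← pow_mul, mul_comm, pow_mul, hs, hzz]
        have hs0 : s ≠ 0 := fun h => hz0 (by rw [← hs, h, zero_pow hrP.ne_zero])
        have h4 : (s ^ (q + 1)) ^ (q - 1) = 1 := by
          rw [← pow_mul, ← Nat.sq_sub_sq, one_pow, ← hq]
          exact FiniteField.pow_card_sub_one_eq_one s hs0
        have := pow_gcd_eq_one.2 ⟨h3, h4⟩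
        rwa [show r.gcd (q - 1) = 1 from hrP.coprime_iff_not_dvd.2 hrq1, pow_one] at this⟩
      obtain ⟨-, h5⟩ := hR.resolve_left fun h => h.1 h2i
      rcases h5 with hrm | hv
      · obtain ⟨W, hWi, hW, hWd⟩ := Elusive.exists_nd_nonpower (hh := hH) hxx hz0 hnp hx' hrm
          (by rw [Module.finrank_fin_fun]; exact hmn')
        exact ⟨W, hWd, Elusive.nd_herm_iff.2 hW, Elusive.inv_map_iff.2 hWi⟩
      · exfalso
        have hrn : r ∣ n := by
          have h3 := Elusive.dvd_finrank_nonpower hxx hz0 hnp (W := ⊤) (fun _ _ => trivial)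
          rwa [finrank_top, Module.finrank_fin_fun] at h3
        have hdet := Elusive.det_nonpower hxx hz0 hnp
        rw [LinearMap.det_toLin', show x.1.det = 1 from x.2, Module.finrank_fin_fun,
          Even.neg_one_pow (Nat.even_iff.2 (by have := Nat.odd_iff.1 (hrP.odd_of_ne_two hr2); omega)), one_mul] at hdet
        have hd : r ∣ Fintype.card F - 1 := by
          rw [hq, show q ^ 2 - 1 = q ^ 2 - 1 ^ 2 by rfl, Nat.sq_sub_sq]
          exact dvd_mul_of_dvd_left hrq _
        have hN : n / r ≠ 0 := (Nat.div_pos (Nat.le_of_dvd hn0 hrn) hrP.pos).ne'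
        refine (Elusive.nonpower_pow_ne_one_iff hd hN).2 ?_ z hz0 hnp hdet.symm
        rw [padicValNat.div hrn, hq, show q ^ 2 - 1 = q ^ 2 - 1 ^ 2 by rfl, Nat.sq_sub_sq,
          padicValNat.mul (by omega) (by omega)]
        have := one_le_padicValNat_of_dvd hn0.ne' hrn
        omega

end Cfsg.Agent.S5954
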