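import Cfsg.Statements.S5955
import Cfsg.Agent.Lib.Elusive.SympTI

set_option autoImplicit false
open scoped MatrixGroups
open Cfsg

namespace Cfsg.Agent.S5955

/-- Elements of prime order of PSp_n(q) with no fixed totally isotropic `m`-space. Here `T = PSp_n(q)` with `n = 2d ≥ 4`, `(n, q) ≠ (4, 2)`, realised through the symplectic matrices over the field `F` with `q` elements (preserving the standard alternating form); an element of `T` of prime order `r` is such a matrix `x` with `x^r` scalar and `x` not scalar. For `r ≠ p` let `i` be the multiplicative order of `q` modulo `r`, `c = i` for `i` even and `c = 2i` for `i` odd, and write `k = n mod c`, `ℓ = m mod i`, `ℓ' = m mod c`, `n' = ⌊n/i⌋`, `m' = ⌊m/i⌋`, `t = (r−1)/i`. Let `1 ≤ m ≤ n/2` and let `r` be a prime dividing the number of totally isotropic `m`-spaces. Then every element of `T` of order `r` fixes a totally isotropic `m`-space if and only if either (i) `r = 2 ≠ p` and (`m` is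 even or `q ≡ 1 (mod 4)`); or (ii) `r ≠ p`, `r > 2`, `i ≤ m`, `k ≥ 2ℓ`, and (`i` is odd or `n' − 2m' ≥ t`). -/
theorem result {F : Type*} [Field F] [Fintype F] {p : ℕ} [Fact p.Prime] [CharP F p] {q : ℕ} (hq : Fintype.card F = q)
    (d m : ℕ) (hd : 2 ≤ d) (hT : (d, q) ≠ (2, 2)) (hm : 1 ≤ m) (hmd : m ≤ d)
    (r : ℕ) [Fact r.Prime]
    (hrΩ : r ∣ Nat.card {W : Submodule F (Fin d ⊕ Fin d → F) // Module.finrank F ↥W = m ∧ (∀ u ∈ W, ∀ v ∈ W, Cfsg.sympForm d F u v = 0)})
    (i c : ℕ) (hi : i = orderOf (q : ZMod r)) (hc : c = if Even i then i else 2 * i) :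
    (∀ x : ↥(Matrix.symplecticGroup (Fin d) F),
      (∃ z : F, ((x ^ r : ↥(Matrix.symplecticGroup (Fin d) F)) : Matrix (Fin d ⊕ Fin d) (Fin d ⊕ Fin d) F) = z • (1 : Matrix (Fin d ⊕ Fin d) (Fin d ⊕ Fin d) F)) →
      (∀ z : F, (x : Matrix (Fin d ⊕ Fin d) (Fin d ⊕ Fin d) F) ≠ z • (1 : Matrix (Fin d ⊕ Fin d) (Fin d ⊕ Fin d) F)) →
      ∃ W : Submodule F (Fin d ⊕ Fin d → F), Module.finrank F ↥W = m ∧ (∀ u ∈ W, ∀ v ∈ W, Cfsg.sympForm d F u v = 0) ∧
        W.map (Matrix.toLin' (x : Matrix (Fin d ⊕ Fin d) (Fin d ⊕ Fin d) F)) ≤ W) ↔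
    ((r = 2 ∧ p ≠ 2 ∧ (Even m ∨ q % 4 = 1)) ∨
     (r ≠ p ∧ 2 < r ∧ i ≤ m ∧ 2 * (m % i) ≤ (2 * d) % c ∧ (Odd i ∨ (r - 1) / i + 2 * (m / i) ≤ (2 * d) / i))) := by
  subst hq
  change Elusive.SpTIFix F d m r ↔ _
  obtain ⟨j, hj, hdvd⟩ := Elusive.dvd_count hmd hrΩ
  have hrp : r ≠ p := fun e => by
    subst e
    have h1 : r ∣ Fintype.card F := by
      obtain ⟨k, hp, hk⟩ := FiniteField.card F r
      exact hk ▸ dvd_pow_self _ k.ne_zero
    have h2 : r ∣ Fintype.card F ^ (2 * (d - j)) := dvd_pow h1 (by omega)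
    have h3 := Nat.dvd_sub h2 hdvd
    rw [show Fintype.card F ^ (2 * (d - j)) - (Fintype.card F ^ (2 * (d - j)) - 1) = 1 by
      have := Nat.one_le_pow (2 * (d - j)) _ (Fintype.card_pos (α := F)); omega, Nat.dvd_one] at h3
    exact (Fact.out : r.Prime).ne_one h3
  have hrF : (r : F) ≠ 0 := fun h => by
    rw [CharP.cast_eq_zero_iff F p] at h
    exact hrp ((Nat.prime_dvd_prime_iff_eq Fact.out Fact.out).1 h).symm
  rcases eq_or_ne r 2 with rfl | hr2
  · have h2 : (2 : F) ≠ 0 := by simpa using hrF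
    constructor
    · intro hall
      refine Or.inl ⟨rfl, hrp.symm, ?_⟩
      by_contra hno
      rw [not_or] at hno
      exact Elusive.not_tiFix_two h2 (by omega) hno.1 hno.2 hall
    · rintro (⟨-, -, h⟩ | ⟨-, h, -⟩)
      · exact Elusive.tiFix_two h2 (by omega) hmd h
      · omega
  have hi0 : 0 < i := hi ▸ Elusive.orderOf_card_pos hrF
  have hr3 : 2 < r := by have := (Fact.out : r.Prime).two_le; omega
  have hidvd : i ∣ 2 * (d - j) := by
    rw [hi]
    refine orderOf_dvd_of_pow_eq_one ?_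
    rw [← ZMod.natCast_eq_zero_iff, Nat.cast_sub (Nat.one_le_pow _ _ Fintype.card_pos), sub_eq_zero, Nat.cast_pow,
      Nat.cast_one] at hdvd
    exact hdvd
  have hcdvd : c ∣ 2 * (d - j) := by
    rw [hc]
    by_cases he : Even i
    · rwa [if_pos he]
    · rw [if_neg he]
      exact Nat.mul_dvd_mul_left 2 ((Nat.coprime_two_right.2 (Nat.not_even_iff_odd.1 he)).dvd_of_dvd_mul_left hidvd)
  have hcd : c ≤ 2 * d := (Nat.le_of_dvd (by omega) hcdvd).trans (by omega)
  have hid : i ≤ 2 * d := (Nat.le_of_dvd (by omega) hidvd).trans (by omega)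
  constructor
  · intro hall
    refine Or.inr ⟨hrp, hr3, ?_⟩
    have h1 : 2 * (m % i) ≤ (2 * d) % c := not_lt.1 fun h =>
      Elusive.not_tiFix_mod p hrF hr2 hi hc hcd h hall
    have him : i ≤ m := by
      by_contra hlt
      rw [Nat.mod_eq_of_lt (not_le.1 hlt)] at h1
      obtain ⟨a, ha⟩ := hcdvd
      have hc0 : 0 < c := by rw [hc]; split_ifs <;> omega
      have hlt' := Nat.mod_lt (2 * d) hc0
      have hmod : (2 * d) % c = 2 * j := by
        rw [show 2 * d = 2 * j + c * a by omega, Nat.add_mul_mod_self_left, Nat.mod_eq_of_lt (by omega)]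
      omega
    refine ⟨him, h1, ?_⟩
    by_cases hodd : Odd i
    · exact Or.inl hodd
    · exact Or.inr (not_lt.1 fun h =>
        Elusive.not_tiFix_multiplicity p hrF hr2 hi (Nat.not_odd_iff_even.1 hodd) him hid h hall)
  · rintro (⟨h, -⟩ | ⟨-, -, -, h1, h2⟩)
    · exact absurd h hr2
    · exact Elusive.tiFix_odd hrF hr2 (by omega) hmd hi hc h1 h2

end Cfsg.Agent.S5955
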