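import Cfsg.Statements.S5956
import Cfsg.Agent.Lib.Elusive.SympNdCount
import Cfsg.Agent.Lib.Elusive.SympNdUnip
import Cfsg.Agent.Lib.Elusive.SympNdTwo
-- import your own Cfsg.Agent.* helpers here

set_option autoImplicit false
open scoped MatrixGroups
open Cfsg

namespace Cfsg.Agent.S5956

/-- Elements of prime order of PSp_n(q) with no fixed nondegenerate `m`-space. Here `T = PSp_n(q)` with `n = 2d ≥ 4`, `(n, q) ≠ (4, 2)`, realised through the symplectic matrices over the field `F` with `q` elements (preserving the standard alternating form); an element of `T` of prime order `r` is such a matrix `x` with `x^r` scalar and `x` not scalar. For `r ≠ p` let `i` be the multiplicative order of `q` modulo `r`, `c = i` for `i` even and `c = 2i` for `i` odd, and write `k = n mod c`, `ℓ = m mod i`, `ℓ' = m mod c`, `n' = ⌊n/i⌋`, `m' = ⌊m/i⌋`, `t = (r−1)/i`. Let `m` be even with `2 ≤ m < n/2` and let `r` be a prime dividing the number of nondegenerate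 `m`-spaces. Then every element of `T` of order `r` fixes a nondegenerate `m`-space if and only if one of: (i) `r = p > 2` and every partition of `n` into parts of size at most `p` in which every odd part has even multiplicity contains (as a sub-multiset) a partition of `m` in which every odd part has even multiplicity; (ii) `r = p = 2` and (`n ≡ 2 (mod 4)` or `m ≡ 0 (mod 4)`); (iii) `r = 2 ≠ p`; (iv) `r ≠ p`, `r > 2`, `c ≤ m` and `k ≥ ℓ'`. -/
theorem result {F : Type*} [Field F] [Fintype F] {p : ℕ} [Fact p.Prime] [CharP F p] {q : ℕ} (hq : Fintype.card F = q)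
    (d m : ℕ) (hd : 2 ≤ d) (hT : (d, q) ≠ (2, 2)) (hm : 2 ≤ m) (hme : Even m) (hmd : m < d)
    (r : ℕ) [Fact r.Prime]
    (hrΩ : r ∣ Nat.card {W : Submodule F (Fin d ⊕ Fin d → F) // Module.finrank F ↥W = m ∧ (∀ u ∈ W, u ≠ 0 → ∃ v ∈ W, Cfsg.sympForm d F u v ≠ 0)})
    (i c : ℕ) (hi : i = orderOf (q : ZMod r)) (hc : c = if Even i then i else 2 * i) :
    (∀ x : ↥(Matrix.symplecticGroup (Fin d) F),
      (∃ z : F, ((x ^ r : ↥(Matrix.symplecticGroup (Fin d) F)) : Matrix (Fin d ⊕ Fin d) (Fin d ⊕ Fin d) F) = z • (1 : Matrix (Fin d ⊕ Fin d) (Fin d ⊕ Fin d) F)) →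
      (∀ z : F, (x : Matrix (Fin d ⊕ Fin d) (Fin d ⊕ Fin d) F) ≠ z • (1 : Matrix (Fin d ⊕ Fin d) (Fin d ⊕ Fin d) F)) →
      ∃ W : Submodule F (Fin d ⊕ Fin d → F), Module.finrank F ↥W = m ∧ (∀ u ∈ W, u ≠ 0 → ∃ v ∈ W, Cfsg.sympForm d F u v ≠ 0) ∧
        W.map (Matrix.toLin' (x : Matrix (Fin d ⊕ Fin d) (Fin d ⊕ Fin d) F)) ≤ W) ↔
    ((r = p ∧ 2 < p ∧ (∀ μ : Multiset ℕ, (∀ a ∈ μ, 0 < a ∧ a ≤ p) → (∀ a : ℕ, Odd a → Even (μ.count a)) → μ.sum = 2 * d →
        ∃ ν : Multiset ℕ, ν ≤ μ ∧ ν.sum = m ∧ ∀ a : ℕ, Odd a → Even (ν.count a))) ∨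
     (r = p ∧ p = 2 ∧ ((2 * d) % 4 = 2 ∨ m % 4 = 0)) ∨
     (r = 2 ∧ p ≠ 2) ∨
     (r ≠ p ∧ 2 < r ∧ c ≤ m ∧ m % c ≤ (2 * d) % c)) := by
  subst hq
  have hd0 : 0 < d := by omega
  have hmn : m ≤ 2 * d := by omega
  change Elusive.SpNdFix F d m r ↔ _
  rcases eq_or_ne r p with rfl | hrp
  · simp only [true_and, ne_eq, not_true, false_and, or_false]
    rcases eq_or_ne r 2 with rfl | hr2
    · have h20 : (2 : F) = 0 := by exact_mod_cast CharP.cast_eq_zero F 2
      rw [Elusive.spNdFix_char_two_iff h20 hd0 hme hmn]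
      simp
    · rw [Elusive.spNdFix_unip_iff r hr2 hd0 hme hmn]
      have := (Fact.out : r.Prime).two_le
      simp [hr2, show 2 < r by omega]
  rcases eq_or_ne r 2 with rfl | hr2
  · have hp : p ≠ 2 := hrp.symm
    have h2 : (2 : F) ≠ 0 := Ring.two_ne_zero (fun e => hp ((ringChar.eq F p) ▸ e))
    exact iff_of_true (Elusive.spNdFix_two h2 hd0 hme hmn) (Or.inr (Or.inr (Or.inl ⟨rfl, hp⟩)))
  have hr3 : 2 < r := by have := (Fact.out : r.Prime).two_le; omega
  have hrq : ¬ r ∣ Fintype.card F := fun h => hrp (by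
    obtain ⟨k, hp, hk⟩ := FiniteField.card F p
    rw [hk] at h
    exact (Nat.prime_dvd_prime_iff_eq Fact.out hp).1 ((Fact.out : r.Prime).dvd_of_dvd_pow h))
  obtain ⟨j, hj1, hj2, hj⟩ := Elusive.dvd_count_nd hme hmn hrq hrΩ
  have hidvd : i ∣ 2 * j := by
    rw [hi]
    refine orderOf_dvd_of_pow_eq_one ?_
    rw [← ZMod.natCast_eq_zero_iff, Nat.cast_sub (Nat.one_le_pow _ _ Fintype.card_pos), sub_eq_zero, Nat.cast_pow,
      Nat.cast_one] at hj
    exact hj
  have hcdvd : c ∣ 2 * j := by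
    rw [hc]
    by_cases he : Even i
    · rwa [if_pos he]
    · rw [if_neg he]
      exact Nat.mul_dvd_mul_left 2 ((Nat.coprime_two_right.2 (Nat.not_even_iff_odd.1 he)).dvd_of_dvd_mul_left hidvd)
  have hcd : c ≤ 2 * d := (Nat.le_of_dvd (by omega) hcdvd).trans (by omega)
  rw [Elusive.spNdFix_odd_iff p hrp hr2 hd0 hme hmn hi hc hcd]
  have hcm : m % c ≤ (2 * d) % c → c ≤ m := fun h => by
    by_contra hlt
    rw [Nat.mod_eq_of_lt (by omega)] at h
    obtain ⟨a, ha⟩ := hcdvd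
    rw [show 2 * d = 2 * d - 2 * j + c * a by omega, Nat.add_mul_mod_self_left] at h
    have := Nat.mod_le (2 * d - 2 * j) c
    omega
  simp only [hrp, hr2, false_and, false_or, ne_eq, not_false_eq_true, hr3, true_and]
  exact ⟨fun h => ⟨hcm h, h⟩, fun h => h.2⟩

end Cfsg.Agent.S5956
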