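import Cfsg.Statements.S5957

set_option autoImplicit false
open scoped MatrixGroups
open Cfsg

namespace Cfsg.Agent.S5957

open scoped Matrix

section
variable {F : Type*} [Field F] {n : ℕ}

local notation "V" => (Fin n → F)

/-- The place of the j-th end of the i-th pair. -/
def slot (a s : ℕ) (i : ℕ) (j : Fin 2) : ℕ × ℕ :=
  if i < s * a then (2 * (i / a) + (j : ℕ), i % a)
  else (2 * s + (i - s * a) / (a / 2), 2 * ((i - s * a) % (a / 2)) + (j : ℕ))

/-- Arrangement of the basis in blocks. -/
lemma exists_blocks {k l a t : ℕ} (ha : 1 ≤ a) (h : 2 * k + l = a * t) :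
    ∃ (e : (Fin k × Fin 2) ⊕ Fin l ≃ Fin t × Fin a) (σ : Equiv.Perm (Fin t)),
      (∀ i j, σ (e (.inl (i, j))).1 = (e (.inl (i, 1 - j))).1) ∧ ∀ i, σ (e (.inr i)).1 = (e (.inr i)).1 := by
  classical
  obtain ⟨s, hs⟩ : ∃ s, s = min (k / a) (t / 2) := ⟨_, rfl⟩
  have hst : 2 * s ≤ t := by omega
  have hsk : s * a ≤ k := le_trans (Nat.mul_le_mul_right a (hs ▸ min_le_left _ _)) (Nat.div_mul_le_self k a)
  have hrem : k - s * a ≤ (t - 2 * s) * (a / 2) := by
    rcases Nat.lt_or_ge (t - 2 * s) 2 with h2 | h2
    · rcases (show t = 2 * s ∨ t = 2 * s + 1 by omega) with rfl | rfl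
      · have : a * (2 * s) = 2 * (s * a) := by ring
        simp only [Nat.sub_self, Nat.zero_mul]
        omega
      · have : a * (2 * s + 1) = 2 * (s * a) + a := by ring
        rw [show 2 * s + 1 - 2 * s = 1 by omega, Nat.one_mul]
        omega
    · have hsk' : s = k / a := by omega
      have hlt : k - s * a < a := by
        rw [hsk']
        have := Nat.div_add_mod k a
        have := Nat.mod_lt k (show 0 < a by omega)
        rw [Nat.mul_comm (k / a) a]
        omega
      have : 2 * (a / 2) ≤ (t - 2 * s) * (a / 2) := Nat.mul_le_mul_right _ h2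
      omega
  have hbound : ∀ (i : Fin k) (j : Fin 2), (slot a s i j).1 < t ∧ (slot a s i j).2 < a := by
    intro i j
    have hi := i.2
    have hj := j.2
    unfold slot
    split_ifs with hc
    · have h1 : (i : ℕ) / a < s := (Nat.div_lt_iff_lt_mul (by omega)).2 hc
      exact ⟨by dsimp only; omega, Nat.mod_lt _ (by omega)⟩
    · have hpos : 0 < a / 2 := by
        rcases Nat.eq_zero_or_pos (a / 2) with h0 | h0
        · rw [h0, Nat.mul_zero] at hrem; omega
        · exact h0
      have h1 : ((i : ℕ) - s * a) / (a / 2) < t - 2 * s := (Nat.div_lt_iff_lt_mul hpos).2 (by omega)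
      have h2 : ((i : ℕ) - s * a) % (a / 2) < a / 2 := Nat.mod_lt _ hpos
      exact ⟨by dsimp only; omega, by dsimp only; omega⟩
  let f : Fin k × Fin 2 → Fin t × Fin a := fun p =>
    (⟨(slot a s p.1 p.2).1, (hbound p.1 p.2).1⟩, ⟨(slot a s p.1 p.2).2, (hbound p.1 p.2).2⟩)
  have hinj : Function.Injective f := by
    rintro ⟨i, j⟩ ⟨i', j'⟩ he
    simp only [f, Prod.mk.injEq, Fin.mk.injEq] at he
    obtain ⟨h1, h2⟩ := he
    have hj := j.2
    have hj' := j'.2
    have e1 := Nat.div_add_mod (i : ℕ) a
    have e2 := Nat.div_add_mod (i' : ℕ) a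
    have e3 := Nat.div_add_mod ((i : ℕ) - s * a) (a / 2)
    have e4 := Nat.div_add_mod ((i' : ℕ) - s * a) (a / 2)
    have z1 := Nat.zero_le (((i : ℕ) - s * a) / (a / 2))
    have z2 := Nat.zero_le (((i' : ℕ) - s * a) / (a / 2))
    unfold slot at h1 h2
    split_ifs at h1 h2 with c c' c' <;> dsimp only at h1 h2
    · have hd : (i : ℕ) / a = (i' : ℕ) / a := by omega
      have hj'' : (j : ℕ) = j' := by omega
      rw [hd] at e1
      exact congrArg₂ Prod.mk (Fin.ext (by omega)) (Fin.ext hj'')
    · have h3 : (i : ℕ) / a < s := (Nat.div_lt_iff_lt_mul (by omega)).2 c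
      omega
    · have h3 : (i' : ℕ) / a < s := (Nat.div_lt_iff_lt_mul (by omega)).2 c'
      omega
    · have hd : ((i : ℕ) - s * a) / (a / 2) = ((i' : ℕ) - s * a) / (a / 2) := by omega
      have hm : ((i : ℕ) - s * a) % (a / 2) = ((i' : ℕ) - s * a) % (a / 2) := by omega
      have hj'' : (j : ℕ) = j' := by omega
      rw [hd, hm] at e3
      exact congrArg₂ Prod.mk (Fin.ext (by omega)) (Fin.ext hj'')
  have hfull : ∀ p : Fin t × Fin a, (p.1 : ℕ) < 2 * s → p ∈ Set.range f := by
    rintro ⟨b, c⟩ hb
    dsimp only at hb
    have hc := c.2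
    have hi : (b : ℕ) / 2 * a + c < s * a := by
      have : ((b : ℕ) / 2 + 1) * a ≤ s * a := Nat.mul_le_mul_right _ (by omega)
      rw [Nat.succ_mul] at this
      omega
    refine ⟨(⟨(b : ℕ) / 2 * a + c, by omega⟩, ⟨(b : ℕ) % 2, Nat.mod_lt _ (by norm_num)⟩), ?_⟩
    have hd : ((b : ℕ) / 2 * a + c) / a = (b : ℕ) / 2 := by
      rw [Nat.add_comm, Nat.add_mul_div_right _ _ (show 0 < a by omega), Nat.div_eq_of_lt hc, Nat.zero_add]
    have hm : ((b : ℕ) / 2 * a + c) % a = c := by
      rw [Nat.add_comm, Nat.add_mul_mod_self_right, Nat.mod_eq_of_lt hc]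
    simp only [f, slot, hi, if_true, hd, hm, Prod.mk.injEq, Fin.ext_iff, Fin.val_mk]
    exact ⟨Nat.div_add_mod _ _, trivial⟩
  have hcard : Fintype.card ((Set.range f)ᶜ : Set (Fin t × Fin a)) = l := by
    rw [Fintype.card_compl_set, Set.card_range_of_injective hinj]
    simp only [Fintype.card_prod, Fintype.card_fin]
    have : t * a = a * t := Nat.mul_comm _ _
    omega
  let g : Fin l ≃ ((Set.range f)ᶜ : Set (Fin t × Fin a)) := (Fintype.equivFinOfCardEq hcard).symm
  let e : (Fin k × Fin 2) ⊕ Fin l ≃ Fin t × Fin a :=
    (Equiv.sumCongr (Equiv.ofInjective f hinj) g).trans (Equiv.Set.sumCompl (Set.range f))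
  have hel : ∀ p, e (.inl p) = f p := fun p => rfl
  have her : ∀ i, ((e (.inr i)).1 : ℕ) ≥ 2 * s := fun i => by
    by_contra h'
    exact (g i).2 (hfull _ (show ((g i : Fin t × Fin a).1 : ℕ) < 2 * s from not_le.1 h'))
  let sw : Fin t → Fin t := fun b =>
    if hb : (b : ℕ) < 2 * s then
      (if hp : (b : ℕ) % 2 = 0 then ⟨b + 1, by omega⟩ else ⟨b - 1, by omega⟩)
    else b
  have hsw : Function.Involutive sw := by
    intro b
    refine Fin.ext ?_
    by_cases hb : (b : ℕ) < 2 * s
    · by_cases hp : (b : ℕ) % 2 = 0
      · have h1 : sw b = ⟨b + 1, by omega⟩ := by simp [sw, hb, hp]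
        rw [h1]
        simp only [sw]
        split_ifs <;> simp only [Fin.val_mk] <;> omega
      · have h1 : sw b = ⟨b - 1, by omega⟩ := by simp [sw, hb, hp]
        rw [h1]
        simp only [sw]
        split_ifs <;> simp only [Fin.val_mk] <;> omega
    · simp [sw, hb]
  refine ⟨e, hsw.toPerm sw, fun i j => ?_, fun i => ?_⟩
  · rw [hel, hel]
    refine Fin.ext ?_
    show ((sw (f (i, j)).1 : Fin t) : ℕ) = _
    simp only [f, slot]
    by_cases hc : (i : ℕ) < s * a
    · have h1 : (i : ℕ) / a < s := (Nat.div_lt_iff_lt_mul (by omega)).2 hc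
      fin_cases j <;> simp [sw, hc] <;> split_ifs <;> simp only [Fin.val_mk] <;> omega
    · fin_cases j <;> simp [sw, hc]
  · refine Fin.ext ?_
    show ((sw (e (.inr i)).1 : Fin t) : ℕ) = _
    have := her i
    simp [sw, not_lt.2 this]

/-- The decomposition attached to a monomial basis. -/
lemma exists_decomposition {k l a t : ℕ} (ha : 1 ≤ a) (ht : 2 ≤ t) (hn : n = a * t)
    (x : V →ₗ[F] V) (hx : Function.Injective x) (v : (Fin k × Fin 2) ⊕ Fin l → V)
    (hspan : ⊤ ≤ Submodule.span F (Set.range v)) (hcard : 2 * k + l = n)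
    (hp : ∀ i j, x (v (.inl (i, j))) ∈ Submodule.span F {v (.inl (i, 1 - j))})
    (hs : ∀ i, x (v (.inr i)) ∈ Submodule.span F {v (.inr i)}) :
    ∃ D : Fin t → Submodule F V, Cfsg.Geo.IsMDecomposition a D ∧
      ∃ σ : Equiv.Perm (Fin t), ∀ j, (D j).map x = D (σ j) := by
  obtain ⟨e, σ, hσp, hσs⟩ := exists_blocks ha (hcard.trans hn)
  have hli : LinearIndependent F v := linearIndependent_of_top_le_span_of_card_eq_finrank hspan (by
    simp [Fintype.card_sum, Module.finrank_fin_fun]; omega)
  let D : Fin t → Submodule F V := fun j => Submodule.span F (Set.range fun c : Fin a => v (e.symm (j, c)))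
  have hfr : ∀ j, Module.finrank F (D j) = a := fun j => by
    rw [finrank_span_eq_card (R := F) (b := fun c : Fin a => v (e.symm (j, c))) (hli.comp _ fun c c' h => by
      simpa using e.symm.injective h), Fintype.card_fin]
  have hmem : ∀ b, v b ∈ D (e b).1 := fun b =>
    Submodule.subset_span ⟨(e b).2, by simp⟩
  have hDle : ∀ j, D j ≤ Submodule.span F (v '' {b | (e b).1 = j}) := fun j => by
    refine Submodule.span_le.2 ?_
    rintro _ ⟨c, rfl⟩
    exact Submodule.subset_span ⟨_, by simp, rfl⟩
  refine ⟨D, ⟨ht, ha, hfr, ?_, ?_⟩, σ, fun j => ?_⟩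
  · intro i
    refine Disjoint.mono (hDle i) (iSup₂_le fun j hji => (hDle j).trans
      (Submodule.span_mono (Set.image_mono (fun b (hb : (e b).1 = j) => show (e b).1 ≠ i from hb ▸ hji))))
      (hli.disjoint_span_image ?_)
    exact Set.disjoint_left.2 fun b hb hb' => hb' hb
  · refine eq_top_iff.2 (hspan.trans (Submodule.span_le.2 ?_))
    rintro _ ⟨b, rfl⟩
    exact le_iSup D _ (hmem b)
  · refine Submodule.eq_of_le_of_finrank_le ?_ ?_
    · rw [Submodule.map_span_le]
      rintro _ ⟨c, rfl⟩
      set b := e.symm (j, c) with hb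
      have hbj : (e b).1 = j := by simp [hb]
      rw [← hbj]
      show x (v (e.symm ((e b).1, c))) ∈ _
      rw [show e.symm ((e b).1, c) = b by rw [hbj, hb]]
      clear_value b
      rcases b with ⟨i, jj⟩ | i
      · rw [hσp]
        exact (Submodule.span_singleton_le_iff_mem _ _).2 (hmem _) (hp i jj)
      · rw [hσs]
        exact (Submodule.span_singleton_le_iff_mem _ _).2 (hmem _) (hs i)
    · rw [hfr, ← (Submodule.equivMapOfInjective x hx (D j)).finrank_eq, hfr]

end


/-- Involutions of PSL_n(q) and imprimitive subgroups. Here `T = PSL_n(F)` for a field `F` with `q = p^f` elements (`n ≥ 2`, `(n, q) ≠ (2, 2), (2, 3)`), `n = a·t` with `t ≥ 2`, and Ω is the set of direct-sum decompositions of `F^n` into `t` subspaces of dimension `a` (unordered; their number is the number of ordered ones divided by `t!`), whose stabilizers are the imprimitive subgroups of type GL_a(q) ≀ S_t (maximal except in some small cases; maximality is not assumed); an element of `T` of prime order `r` (a matrix `x` of determinant 1 with `x^r` scalar, `x` not scalar) fixes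 a point of Ω when it permutes the summands of some such decomposition. If the number of such decompositions is even, then every involution of `T` stabilizes one of them (the action is 2-elusive). -/
theorem result {F : Type*} [Field F] [Fintype F] {p : ℕ} [Fact p.Prime] [CharP F p] {q : ℕ} (hq : Fintype.card F = q)
    (n a t : ℕ) (hn : 2 ≤ n) (hT : (n, q) ≠ (2, 2) ∧ (n, q) ≠ (2, 3)) (hat : n = a * t) (ha : 1 ≤ a) (ht : 2 ≤ t)
    (hΩ : 2 ∣ Nat.card {D : Fin t → Submodule F (Fin n → F) // Cfsg.Geo.IsMDecomposition a D} / Nat.factorial t)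
    (x : Matrix.SpecialLinearGroup (Fin n) F)
    (hx1 : ∃ z : F, ((x ^ 2 : Matrix.SpecialLinearGroup (Fin n) F) : Matrix (Fin n) (Fin n) F) = z • (1 : Matrix (Fin n) (Fin n) F))
    (hx2 : ∀ z : F, (x : Matrix (Fin n) (Fin n) F) ≠ z • (1 : Matrix (Fin n) (Fin n) F)) :
    ∃ D : Fin t → Submodule F (Fin n → F), Cfsg.Geo.IsMDecomposition a D ∧
        ∃ σ : Equiv.Perm (Fin t), ∀ j, (D j).map (Matrix.toLin' (x : Matrix (Fin n) (Fin n) F)) = D (σ j) := by
  classical
  obtain ⟨z, hz⟩ := hx1
  set L := Matrix.toLin' (x : Matrix (Fin n) (Fin n) F) with hL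
  have hLL : ∀ v, L (L v) = z • v := by
    intro v
    have : ((x : Matrix (Fin n) (Fin n) F) * x) = z • (1 : Matrix (Fin n) (Fin n) F) := by
      rw [← hz, Matrix.SpecialLinearGroup.coe_pow, sq]
    rw [hL, Matrix.toLin'_apply, Matrix.toLin'_apply, Matrix.mulVec_mulVec, this, Matrix.smul_mulVec,
      Matrix.one_mulVec]
  have hz0 : z ≠ 0 := by
    rintro rfl
    have h1 := (x ^ 2).2
    change ((x ^ 2 : Matrix.SpecialLinearGroup (Fin n) F) : Matrix (Fin n) (Fin n) F).det = 1 at h1
    haveI : Nonempty (Fin n) := ⟨⟨0, by omega⟩⟩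
    rw [hz, zero_smul, Matrix.det_zero] at h1
    exact zero_ne_one h1
  have hinj : Function.Injective L := fun u v h => by
    have := congrArg L h
    rw [hLL, hLL] at this
    exact smul_right_injective _ hz0 this
  have hsing : ∀ {w : Fin n → F}, w ∈ Submodule.span F {w} := fun {w} => Submodule.mem_span_singleton_self w
  by_cases hsq : ∃ c : F, c * c = z
  · obtain ⟨c, rfl⟩ := hsq
    have hc : c ≠ 0 := left_ne_zero_of_mul hz0
    let N : (Fin n → F) →ₗ[F] (Fin n → F) := L - c • LinearMap.id
    have hN : ∀ v, N v = L v - c • v := fun v => rfl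
    by_cases h2 : (2 : F) = 0
    · have hNN : ∀ v, N (N v) = 0 := fun v => by
        rw [hN, hN, map_sub, map_smul, hLL]
        have : (2 : F) • (c • (c • v) - c • L v) = 0 := by rw [h2, zero_smul]
        linear_combination (norm := module) this
      obtain ⟨C, hC⟩ := Submodule.exists_isCompl (LinearMap.ker N)
      obtain ⟨Q, hQ⟩ := Submodule.exists_isCompl (LinearMap.range N)
      let Q' := Q ⊓ LinearMap.ker N
      let bC := Module.finBasis F C
      let bQ := Module.finBasis F Q'
      refine exists_decomposition ha ht hat L hinj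
        (Sum.elim (fun p : Fin _ × Fin 2 => if p.2 = 0 then (bC p.1 : Fin n → F) else L (bC p.1)) (fun i => (bQ i : Fin n → F)))
        ?_ ?_ ?_ ?_
      · have hrk : LinearMap.range N ≤ LinearMap.ker N := by
          rintro _ ⟨v, rfl⟩; exact hNN v
        intro v _
        set S := Submodule.span F (Set.range (Sum.elim
          (fun p : Fin _ × Fin 2 => if p.2 = 0 then (bC p.1 : Fin n → F) else L (bC p.1)) (fun i => (bQ i : Fin n → F))))
        have hmem : ∀ b, Sum.elim (fun p : Fin _ × Fin 2 => if p.2 = 0 then (bC p.1 : Fin n → F) else L (bC p.1))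
            (fun i => (bQ i : Fin n → F)) b ∈ S := fun b => Submodule.subset_span ⟨b, rfl⟩
        have hCS : C ≤ S := fun w hw => by
          have := congrArg Subtype.val (bC.sum_repr ⟨w, hw⟩)
          rw [← show _ = w from this, Submodule.coe_sum]
          exact sum_mem fun i _ => S.smul_mem _ (hmem (.inl (i, 0)))
        have hLCS : C.map L ≤ S := by
          rintro _ ⟨w, hw, rfl⟩
          have := congrArg Subtype.val (bC.sum_repr ⟨w, hw⟩)
          rw [← show _ = w from this, Submodule.coe_sum, map_sum]
          refine sum_mem fun i _ => ?_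
          rw [Submodule.coe_smul, map_smul]
          exact S.smul_mem _ (hmem (.inl (i, 1)))
        have hdecomp : ∀ v, ∃ w ∈ C, N (v - w) = 0 := fun v => by
          obtain ⟨k, hk, w, hw, h⟩ := Submodule.mem_sup.1 (hC.sup_eq_top.ge (Submodule.mem_top : v ∈ ⊤))
          exact ⟨w, hw, by rw [← h, add_sub_cancel_right]; exact hk⟩
        have hRS : LinearMap.range N ≤ S := by
          rintro _ ⟨u, rfl⟩
          obtain ⟨w, hw, hNw⟩ := hdecomp u
          rw [map_sub, sub_eq_zero] at hNw
          rw [hNw, hN]
          exact S.sub_mem (hLCS ⟨w, hw, rfl⟩) (S.smul_mem _ (hCS hw))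
        have hKS : LinearMap.ker N ≤ S := by
          intro u hu
          obtain ⟨r, hr, q, hq, h⟩ := Submodule.mem_sup.1 (hQ.sup_eq_top.ge (Submodule.mem_top : u ∈ ⊤))
          have hq' : q ∈ Q' := ⟨hq, by
            rw [← h] at hu
            have := (LinearMap.ker N).sub_mem hu (hrk hr)
            rwa [add_sub_cancel_left] at this⟩
          rw [← h]
          refine S.add_mem (hRS hr) ?_
          have := congrArg Subtype.val (bQ.sum_repr ⟨q, hq'⟩)
          rw [← show _ = q from this, Submodule.coe_sum]
          exact sum_mem fun i _ => S.smul_mem _ (hmem (.inr i))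
        obtain ⟨w, hw, hNw⟩ := hdecomp v
        have := S.add_mem (hCS hw) (hKS hNw)
        rwa [add_sub_cancel] at this
      · have h1 := LinearMap.finrank_range_add_finrank_ker N
        have h2' := Submodule.finrank_add_eq_of_isCompl hC
        rw [Module.finrank_fin_fun] at h1 h2'
        have hrk : LinearMap.range N ≤ LinearMap.ker N := by
          rintro _ ⟨v, rfl⟩; exact hNN v
        have h3 := Submodule.finrank_sup_add_finrank_inf_eq (LinearMap.range N) Q'
        have e1 : LinearMap.range N ⊔ Q' = LinearMap.ker N := by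
          show LinearMap.range N ⊔ Q ⊓ LinearMap.ker N = _
          rw [← sup_inf_assoc_of_le Q hrk, hQ.sup_eq_top, top_inf_eq]
        have e2 : LinearMap.range N ⊓ Q' = ⊥ :=
          le_bot_iff.1 (le_trans (inf_le_inf_left _ inf_le_left) hQ.inf_eq_bot.le)
        rw [e1, e2, finrank_bot] at h3
        omega
      · intro i j
        fin_cases j
        · simpa using hsing
        · simp only [Sum.elim_inl]
          simp [hLL]
          exact Submodule.smul_mem _ _ hsing
      · intro i
        simp only [Sum.elim_inr]
        have h : N (bQ i) = 0 := (bQ i).2.2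
        rw [hN, sub_eq_zero] at h
        rw [h]
        exact Submodule.smul_mem _ _ hsing
    · let A := LinearMap.ker N
      let B := LinearMap.ker (L + c • LinearMap.id)
      have hAB : IsCompl A B := by
        refine IsCompl.of_eq (eq_bot_iff.2 ?_) (eq_top_iff.2 ?_)
        · rintro v ⟨hv1, hv2⟩
          rw [SetLike.mem_coe, LinearMap.mem_ker] at hv1 hv2
          have : ((2 : F) * c) • v = 0 := by
            rw [hN] at hv1
            rw [LinearMap.add_apply, LinearMap.smul_apply, LinearMap.id_apply] at hv2
            linear_combination (norm := module) hv2 - hv1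
          exact (smul_eq_zero.1 this).resolve_left (mul_ne_zero h2 hc)
        · intro v _
          have h2c : (2 : F) * c ≠ 0 := mul_ne_zero h2 hc
          have e : v = ((2 : F) * c)⁻¹ • (L v + c • v) + ((2 : F) * c)⁻¹ • (c • v - L v) := by
            rw [← smul_add, show L v + c • v + (c • v - L v) = ((2 : F) * c) • v by module,
              inv_smul_smul₀ h2c]
          rw [e]
          refine Submodule.add_mem_sup (Submodule.smul_mem _ _ ?_) (Submodule.smul_mem _ _ ?_)
          · show N (L v + c • v) = 0
            rw [hN, map_add, map_smul, hLL]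
            module
          · show L (c • v - L v) + c • (c • v - L v) = 0
            rw [map_sub, map_smul, hLL]
            module
      let bA := Module.finBasis F A
      let bB := Module.finBasis F B
      let v : Fin (Module.finrank F A + Module.finrank F B) → (Fin n → F) :=
        Fin.append (fun i => (bA i : Fin n → F)) (fun i => (bB i : Fin n → F))
      refine exists_decomposition (k := 0) ha ht hat L hinj (Sum.elim (fun p => p.1.elim0) v) ?_ ?_ ?_ ?_
      · rw [← hAB.sup_eq_top]
        have hr : ∀ i, v i ∈ Submodule.span F (Set.range (Sum.elim (fun p : Fin 0 × Fin 2 => p.1.elim0) v)) :=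
          fun i => Submodule.subset_span ⟨.inr i, rfl⟩
        refine sup_le (fun w hw => ?_) (fun w hw => ?_)
        · have := congrArg Subtype.val (bA.sum_repr ⟨w, hw⟩)
          rw [← show _ = w from this, Submodule.coe_sum]
          refine sum_mem fun i _ => Submodule.smul_mem _ _ ?_
          have h := hr (Fin.castAdd _ i)
          simpa only [v, Fin.append_left] using h
        · have := congrArg Subtype.val (bB.sum_repr ⟨w, hw⟩)
          rw [← show _ = w from this, Submodule.coe_sum]
          refine sum_mem fun i _ => Submodule.smul_mem _ _ ?_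
          have h := hr (Fin.natAdd _ i)
          simpa only [v, Fin.append_right] using h
      · have := Submodule.finrank_add_eq_of_isCompl hAB
        rw [Module.finrank_fin_fun] at this
        omega
      · exact fun i => i.elim0
      · intro i
        simp only [Sum.elim_inr, v]
        refine Fin.addCases (fun i => ?_) (fun i => ?_) i
        · rw [Fin.append_left]
          have h := (bA i).2
          rw [LinearMap.mem_ker, hN, sub_eq_zero] at h
          rw [h]
          exact Submodule.smul_mem _ _ hsing
        · rw [Fin.append_right]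
          have h := (bB i).2
          rw [LinearMap.mem_ker, LinearMap.add_apply, LinearMap.smul_apply, LinearMap.id_apply,
            add_eq_zero_iff_eq_neg] at h
          rw [h]
          exact Submodule.neg_mem _ (Submodule.smul_mem _ _ hsing)
  · push Not at hsq
    let fam : ∀ {k : ℕ}, (Fin k → (Fin n → F)) → (Fin k × Fin 2) ⊕ Fin 0 → (Fin n → F) :=
      fun w => Sum.elim (fun p => if p.2 = 0 then w p.1 else L (w p.1)) Fin.elim0
    have hext : ∀ k, ∀ w : Fin k → (Fin n → F), LinearIndependent F (fam w) →
        ⊤ ≤ Submodule.span F (Set.range (fam w)) ∨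
        ∃ w' : Fin (k + 1) → (Fin n → F), LinearIndependent F (fam w') := by
      intro k w hw
      by_cases htop : ⊤ ≤ Submodule.span F (Set.range (fam w))
      · exact Or.inl htop
      obtain ⟨v, -, hv⟩ := SetLike.not_le_iff_exists.1 htop
      refine Or.inr ⟨Fin.snoc w v, ?_⟩
      set S := Submodule.span F (Set.range (fam w)) with hS
      have hSL : ∀ u ∈ S, L u ∈ S := by
        intro u hu
        have : S.map L ≤ S := by
          rw [hS, Submodule.map_span_le]
          rintro _ ⟨⟨i, j⟩ | e, rfl⟩
          · fin_cases j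
            · exact Submodule.subset_span ⟨.inl (i, 1), by simp [fam]⟩
            · have e1 : fam w (.inl (i, 0)) = w i := by simp [fam]
              show L (fam w (.inl (i, 1))) ∈ Submodule.span F (Set.range (fam w))
              rw [show fam w (.inl (i, 1)) = L (w i) by simp [fam], hLL, ← e1]
              exact Submodule.smul_mem _ _ (Submodule.subset_span (Set.mem_range_self _))
          · exact e.elim0
        exact this ⟨u, hu, rfl⟩
      have hkey : ∀ a b : F, a • v + b • L v ∈ S → a = 0 ∧ b = 0 := by
        intro a b hab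
        have h2 := hSL _ hab
        rw [map_add, map_smul, map_smul, hLL] at h2
        have h3 : (a * a - b * b * z) • v ∈ S := by
          have := S.sub_mem (S.smul_mem a hab) (S.smul_mem b h2)
          convert this using 1
          module
        have h4 : a * a - b * b * z = 0 := by
          by_contra h4
          exact hv ((S.smul_mem_iff h4).1 h3)
        have hb : b = 0 := by
          by_contra hb
          exact hsq (a / b) (by field_simp; linear_combination h4)
        refine ⟨?_, hb⟩
        rw [hb] at h4
        simpa using h4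
      rw [Fintype.linearIndependent_iff] at hw ⊢
      intro g hg
      simp only [Fintype.sum_sum_type, Finset.univ_eq_empty, Finset.sum_empty, add_zero,
        Fintype.sum_prod_type, Fin.sum_univ_two, fam, Sum.elim_inl] at hg
      rw [Fin.sum_univ_castSucc] at hg
      simp only [Fin.snoc_castSucc, Fin.snoc_last, if_true, Fin.one_eq_zero_iff] at hg
      set T := ∑ i : Fin k, (g (.inl (i.castSucc, 0)) • w i + g (.inl (i.castSucc, 1)) • L (w i))
      have hT : T ∈ S := sum_mem fun i _ => S.add_mem
        (S.smul_mem _ (Submodule.subset_span ⟨.inl (i, 0), by simp [fam]⟩))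
        (S.smul_mem _ (Submodule.subset_span ⟨.inl (i, 1), by simp [fam]⟩))
      have hlast := hkey (g (.inl (Fin.last k, 0))) (g (.inl (Fin.last k, 1))) (by
        have : g (.inl (Fin.last k, 0)) • v + g (.inl (Fin.last k, 1)) • L v = -T := by
          simp at hg
          exact eq_neg_of_add_eq_zero_right hg
        rw [this]
        exact S.neg_mem hT)
      have hT0 : T = 0 := by
        simp [hlast.1, hlast.2] at hg
        exact hg
      have hall := hw (Sum.elim (fun p => g (.inl (p.1.castSucc, p.2))) Fin.elim0) (by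
        simpa [Fintype.sum_sum_type, Fintype.sum_prod_type, Fin.sum_univ_two, fam] using hT0)
      rintro (⟨i, j⟩ | e)
      · refine Fin.lastCases ?_ (fun i => ?_) i
        · fin_cases j
          · exact hlast.1
          · exact hlast.2
        · exact hall (.inl (i, j))
      · exact e.elim0
    have hmain : ∀ k, (∃ m, ∃ w : Fin m → (Fin n → F), LinearIndependent F (fam w) ∧
        ⊤ ≤ Submodule.span F (Set.range (fam w))) ∨ ∃ w : Fin k → (Fin n → F), LinearIndependent F (fam w) := by
      intro k
      induction k with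
      | zero => exact Or.inr ⟨Fin.elim0, linearIndependent_empty_type⟩
      | succ k ih =>
        rcases ih with h | ⟨w, hw⟩
        · exact Or.inl h
        · rcases hext k w hw with h | h
          · exact Or.inl ⟨k, w, hw, h⟩
          · exact Or.inr h
    obtain ⟨k, w, hw, hspan⟩ := (hmain (n + 1)).resolve_right fun ⟨w, hw⟩ => by
      have := hw.fintype_card_le_finrank
      simp [Module.finrank_fin_fun] at this
      omega
    have hk : 2 * k + 0 = n := by
      have := finrank_span_eq_card hw
      rw [top_le_iff.1 hspan, finrank_top, Module.finrank_fin_fun] at this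
      simp at this
      omega
    refine exists_decomposition ha ht hat L hinj (fam w) hspan hk (fun i j => ?_) fun e => e.elim0
    fin_cases j
    · simpa [fam] using hsing
    · simp only [fam, Sum.elim_inl]
      simp [hLL]
      exact Submodule.smul_mem _ _ hsing

end Cfsg.Agent.S5957
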