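import Cfsg.Statements.S5959
import Cfsg.Agent.Lib.Elusive.Decomp

set_option autoImplicit false
open scoped MatrixGroups
open Cfsg

namespace Cfsg.Agent.S5959

/-- Elements of order `p` of PSL_n(q) and imprimitive subgroups: a necessary condition. Here `T = PSL_n(F)` for a field `F` with `q = p^f` elements (`n ≥ 2`, `(n, q) ≠ (2, 2), (2, 3)`), `n = a·t` with `t ≥ 2`, and Ω is the set of direct-sum decompositions of `F^n` into `t` subspaces of dimension `a` (unordered; their number is the number of ordered ones divided by `t!`), whose stabilizers are the imprimitive subgroups of type GL_a(q) ≀ S_t (maximal except in some small cases; maximality is not assumed); an element of `T` of prime order `r` (a matrix `x` of determinant 1 with `x^r` scalar, `x` not scalar) fixes a point of Ω when it permutes the summands of some such decomposition. Suppose `p > 2` divides the number of such decompositions. If every element of `T` of order `p` stabilizes such a decomposition, then every partition of `n` into parts of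 size at most `p` in which the part `p` occurs fewer than `a` times contains (as a sub-multiset) a partition of `a`. -/
theorem result {F : Type*} [Field F] [Fintype F] {p : ℕ} [Fact p.Prime] [CharP F p] {q : ℕ} (hq : Fintype.card F = q)
    (n a t : ℕ) (hn : 2 ≤ n) (hT : (n, q) ≠ (2, 2) ∧ (n, q) ≠ (2, 3)) (hat : n = a * t) (ha : 1 ≤ a) (ht : 2 ≤ t)
    (hp : 2 < p) (hΩ : p ∣ Nat.card {D : Fin t → Submodule F (Fin n → F) // Cfsg.Geo.IsMDecomposition a D} / Nat.factorial t)
    (h : ∀ x : Matrix.SpecialLinearGroup (Fin n) F,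
      (∃ z : F, ((x ^ p : Matrix.SpecialLinearGroup (Fin n) F) : Matrix (Fin n) (Fin n) F) = z • (1 : Matrix (Fin n) (Fin n) F)) →
      (∀ z : F, (x : Matrix (Fin n) (Fin n) F) ≠ z • (1 : Matrix (Fin n) (Fin n) F)) →
      ∃ D : Fin t → Submodule F (Fin n → F), Cfsg.Geo.IsMDecomposition a D ∧
        ∃ σ : Equiv.Perm (Fin t), ∀ j, (D j).map (Matrix.toLin' (x : Matrix (Fin n) (Fin n) F)) = D (σ j)) :
    (∀ μ : Multiset ℕ, (∀ b ∈ μ, 0 < b ∧ b ≤ p) → μ.sum = n → μ.count p < a → ∃ ν : Multiset ℕ, ν ≤ μ ∧ ν.sum = a) := by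
  intro μ hμ hsum hcount
  subst hq
  by_cases h1 : ∀ b ∈ μ, b = 1
  · refine ⟨Multiset.replicate a 1, ?_, by simp⟩
    rw [Multiset.eq_replicate_card.2 h1] at hsum ⊢
    rw [Multiset.sum_replicate, smul_eq_mul, mul_one] at hsum
    exact (Multiset.replicate_le_replicate _).2 (by
      rw [hsum, hat]; exact Nat.le_mul_of_pos_right a (by omega))
  have hmin : ∀ (k : ℕ) (u : Multiset ℕ), (u.map fun b => min b k).sum ≤ u.sum := fun k u => by
    conv_rhs => rw [← Multiset.map_id u]
    exact Multiset.sum_map_le_sum_map _ _ fun b _ => min_le_left _ _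
  have hd : ¬ p ∣ Fintype.card F - 1 := fun hd => by
    obtain ⟨e, -, hqe⟩ := FiniteField.card F p
    have h2 : p ∣ Fintype.card F := hqe ▸ dvd_pow_self p e.ne_zero
    have h3 := Nat.dvd_sub h2 hd
    rw [Nat.sub_sub_self Fintype.card_pos] at h3
    exact (Fact.out : p.Prime).one_lt.ne' (Nat.dvd_one.1 h3)
  haveI : Nonempty (Fin n) := ⟨⟨0, by omega⟩⟩
  haveI : CharP (Module.End F (Fin n → F)) p :=
    charP_of_injective_algebraMap (algebraMap F (Module.End F (Fin n → F))).injective p
  rw [Elusive.forall_sl_iff (fun T => ∃ D : Fin t → Submodule F (Fin n → F),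
    Cfsg.Geo.IsMDecomposition a D ∧ ∃ σ : Equiv.Perm (Fin t), ∀ j, (D j).map T = D (σ j))] at h
  let s : Nat.Partition n := ⟨μ, fun hb => (hμ _ hb).1, hsum⟩
  obtain ⟨f, hf, hs⟩ := NilJordan.exists_of_partition (F := F) (V := Fin n → F)
    (Module.finrank_fin_fun F) s
  have hfp : f ^ p = 0 := by
    rw [← LinearMap.ker_eq_top]
    refine Submodule.eq_top_of_finrank_eq ?_
    rw [hs p, Module.finrank_fin_fun]
    show (μ.map fun b => min b p).sum = n
    rw [show (μ.map fun b => min b p) = μ.map fun b => b from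
      Multiset.map_congr rfl fun b hb => min_eq_left (hμ b hb).2, Multiset.map_id']
    exact hsum
  have hT' : (1 + f) ^ p = (1 : F) • (1 : Module.End F (Fin n → F)) := by
    rw [add_pow_char_of_commute _ (Commute.one_left f), one_pow, hfp, add_zero, one_smul]
  have hTp : (1 + f) ^ p = 1 := by rw [hT', one_smul]
  have hdet : LinearMap.det (1 + f) = 1 := Elusive.eq_one_of_pow_eq_one hd
    (by rw [← map_pow, hTp, map_one])
  have hns : ∀ c : F, 1 + f ≠ c • (1 : Module.End F (Fin n → F)) := fun c hc => by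
    rw [hc, smul_pow, one_pow, Algebra.smul_def, mul_one] at hTp
    rw [Elusive.eq_one_of_pow_eq_one hd ((algebraMap F (Module.End F (Fin n → F))).injective
      (hTp.trans (map_one _).symm)), one_smul, add_eq_left] at hc
    have h0 := hs 1
    rw [pow_one, hc, LinearMap.ker_zero, finrank_top, Module.finrank_fin_fun] at h0
    push Not at h1
    obtain ⟨b, hb, hb1⟩ := h1
    obtain ⟨u, hu⟩ := Multiset.exists_cons_of_mem hb
    have hb0 := (hμ b hb).1
    have hs' : μ.sum = n := hsum
    change n = (μ.map fun b => min b 1).sum at h0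
    rw [hu, Multiset.map_cons, Multiset.sum_cons] at h0
    rw [hu, Multiset.sum_cons] at hs'
    have := hmin 1 u
    omega
  obtain ⟨D, hD, σ, hσ⟩ := h (1 + f) 1 hT' hdet hns
  have hmap : ∀ i, ∀ v ∈ D i, (1 + f) v ∈ D (σ i) := fun i v hv => hσ i ▸ ⟨v, hv, rfl⟩
  have hDne : ∀ i, D i ≠ ⊥ := fun i hb => by
    have := hD.finrank_eq i
    rw [hb, finrank_bot] at this
    omega
  have hpow : ∀ (k : ℕ) i, ∀ v ∈ D i, ((1 + f) ^ k) v ∈ D ((σ ^ k) i) := fun k => by
    induction k with
    | zero => intro i v hv; simpa using hv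
    | succ k ih =>
      intro i v hv
      rw [pow_succ', pow_succ', Module.End.mul_apply, Equiv.Perm.mul_apply]
      exact hmap _ _ (ih i v hv)
  by_cases hfix : ∃ j, σ j = j
  · obtain ⟨j, hj⟩ := hfix
    let W : Submodule F (Fin n → F) := ⨆ (i) (_ : i ≠ j), D i
    have hc : IsCompl (D j) W := ⟨hD.indep j, by
      rw [codisjoint_iff, eq_top_iff, ← hD.iSup_eq_top]
      refine iSup_le fun i => ?_
      by_cases hij : i = j
      · subst hij; exact le_sup_left
      · exact le_trans (le_iSup₂ (f := fun i (_ : i ≠ j) => D i) i hij) le_sup_right⟩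
    have hf' : ∀ {X : Submodule F (Fin n → F)}, Elusive.Inv (1 + f) X → Elusive.Inv f X := fun hX v hv => by
      have := Submodule.sub_mem _ (hX v hv) hv
      rwa [LinearMap.add_apply, Module.End.one_apply, add_sub_cancel_left] at this
    have hU : Elusive.Inv (1 + f) (D j) := fun v hv => hj ▸ hmap j v hv
    have hW : Elusive.Inv (1 + f) W := by
      rw [← Elusive.inv_map_iff]
      show (⨆ (i) (_ : i ≠ j), D i).map (1 + f) ≤ W
      rw [Submodule.map_iSup]
      refine iSup_le fun i => ?_
      rw [Submodule.map_iSup]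
      refine iSup_le fun hij => ?_
      rw [hσ i]
      exact le_iSup₂ (f := fun i (_ : i ≠ j) => D i) (σ i) fun e => hij (σ.injective (e.trans hj.symm))
    obtain ⟨ν, hν, hνs⟩ := Elusive.exists_sub_of_compl (Module.finrank_fin_fun F) hf hs hc (hf' hU) (hf' hW)
    exact ⟨ν, hν, hνs.trans (hD.finrank_eq j)⟩
  push Not at hfix
  exfalso
  have hσp : ∀ i, (σ ^ p) i = i := fun i => by
    by_contra hne
    obtain ⟨v, hv, hv0⟩ := Submodule.exists_mem_ne_zero_of_ne_bot (hDne i)
    have h2 := hpow p i v hv
    rw [hTp, Module.End.one_apply] at h2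
    exact hv0 (Submodule.disjoint_def.1 (hD.indep i) v hv
      ((le_iSup₂ (f := fun k (_ : k ≠ i) => D k) ((σ ^ p) i) hne) h2))
  have hne : ∀ i, ∀ k, 0 < k → k < p → (σ ^ k) i ≠ i := fun i k hk hkp hfx => by
    obtain ⟨l, -, hl⟩ := Nat.exists_mul_mod_eq_one_of_coprime
      ((Nat.coprime_comm.1 ((Fact.out : p.Prime).coprime_iff_not_dvd.2 (Nat.not_dvd_of_pos_of_lt hk hkp))))
      (Fact.out : p.Prime).one_lt
    have hkl : ∀ m, ((σ ^ k) ^ m) i = i := fun m => by
      induction m with
      | zero => rfl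
      | succ m ih => rw [pow_succ, Equiv.Perm.mul_apply, hfx, ih]
    have hpl : ∀ m, ((σ ^ p) ^ m) i = i := fun m => by
      induction m with
      | zero => rfl
      | succ m ih => rw [pow_succ, Equiv.Perm.mul_apply, hσp, ih]
    refine hfix i ?_
    have := hkl l
    rwa [← pow_mul, ← Nat.mod_add_div (k * l) p, hl, pow_add, pow_one, pow_mul, Equiv.Perm.mul_apply,
      hpl] at this
  have hgeom : f ^ (p - 1) = ∑ k ∈ Finset.range p, (1 + f) ^ k := by
    have e : (Polynomial.X - 1 : Polynomial F) ^ (p - 1) = ∑ k ∈ Finset.range p, Polynomial.X ^ k := by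
      refine mul_right_cancel₀ (b := (Polynomial.X - 1 : Polynomial F)) (by rw [← map_one (Polynomial.C (R := F))]; exact Polynomial.X_sub_C_ne_zero 1) ?_
      rw [← pow_succ, Nat.sub_add_cancel (Fact.out : p.Prime).one_lt.le, geom_sum_mul,
        sub_pow_char, one_pow]
    have e' := congrArg (Polynomial.aeval (1 + f)) e
    simp only [map_pow, map_sub, map_sum, Polynomial.aeval_X, map_one, add_sub_cancel_left] at e'
    exact e'
  obtain ⟨j⟩ : Nonempty (Fin t) := ⟨⟨0, by omega⟩⟩
  have hdisj : LinearMap.ker (f ^ (p - 1)) ⊓ D j = ⊥ := by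
    refine eq_bot_iff.2 fun v ⟨hv, hvj⟩ => ?_
    rw [SetLike.mem_coe, LinearMap.mem_ker, hgeom, LinearMap.sum_apply,
      ← Nat.sub_add_cancel (Fact.out : p.Prime).one_lt.le, Finset.sum_range_succ', pow_zero,
      Module.End.one_apply, add_eq_zero_iff_neg_eq] at hv
    rw [Submodule.mem_bot]
    refine Submodule.disjoint_def.1 (hD.indep j) v hvj ?_
    rw [← hv]
    refine Submodule.neg_mem _ (sum_mem fun k hk => ?_)
    have := Finset.mem_range.1 hk
    exact (le_iSup₂ (f := fun i (_ : i ≠ j) => D i) ((σ ^ (k + 1)) j) (hne j (k + 1) k.succ_pos (by omega)))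
      (hpow (k + 1) j v hvj)
  have hdim := Submodule.finrank_sup_add_finrank_inf_eq (LinearMap.ker (f ^ (p - 1))) (D j)
  rw [hdisj, finrank_bot, hD.finrank_eq, hs (p - 1)] at hdim
  have hle := Submodule.finrank_le (LinearMap.ker (f ^ (p - 1)) ⊔ D j)
  rw [Module.finrank_fin_fun] at hle
  have hcnt : ∀ u : Multiset ℕ, (∀ b ∈ u, b ≤ p) →
      (u.map fun b => min b (p - 1)).sum + u.count p = u.sum := by
    intro u
    induction u using Multiset.induction_on with
    | empty => simp
    | cons b u ih =>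
      intro hb
      have hb1 := hb b (Multiset.mem_cons_self _ _)
      have hih := ih fun c hc => hb c (Multiset.mem_cons_of_mem hc)
      simp only [Multiset.map_cons, Multiset.sum_cons, Multiset.count_cons]
      split_ifs <;> omega
  have := hcnt μ fun b hb => (hμ b hb).2
  change _ = (μ.map fun b => min b (p - 1)).sum + a at hdim
  omega

end Cfsg.Agent.S5959
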