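import Cfsg.Statements.S5960
import Cfsg.Agent.Lib.Elusive.SympFrame

set_option autoImplicit false
open scoped MatrixGroups
open Cfsg

namespace Cfsg.Agent.S5960

/-- Involutions of PSp_n(q) and imprimitive subgroups. Here `T = PSp_n(q)`, `n = 2d ≥ 4`, `(n, q) ≠ (4, 2)`, realised through the symplectic matrices over the field `F` with `q` elements and the standard alternating form; `n = a·t` with `a` even and `t ≥ 2`, and Ω is the (nonempty) set of orthogonal decompositions of `F^n` into `t` nondegenerate subspaces of dimension `a` (unordered; counted as ordered ones divided by `t!`), whose stabilizers are the imprimitive subgroups of type Sp_a(q) ≀ S_t (maximality is not assumed); an element of `T` of prime order `r` (a symplectic matrix `x` with `x^r` scalar, `x` not scalar) fixes a point of Ω when it permutes the summands of some such decomposition. If the number of such decompositions is even, then every involution of `T` stabilizes one of them (the action is 2-elusive). -/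
theorem result {F : Type*} [Field F] [Fintype F] {p : ℕ} [Fact p.Prime] [CharP F p] {q : ℕ} (hq : Fintype.card F = q)
    (d : ℕ) (hd : 2 ≤ d) (hT : (d, q) ≠ (2, 2))
    (a t : ℕ) (hat : 2 * d = a * t) (ha : 2 ≤ a) (hae : Even a) (ht : 2 ≤ t) (hΩ : 2 ∣ Nat.card {D : Fin t → Submodule F (Fin d ⊕ Fin d → F) // (Cfsg.Geo.IsMDecomposition a D ∧ (∀ j, ∀ u ∈ D j, u ≠ 0 → ∃ v ∈ D j, Cfsg.sympForm d F u v ≠ 0) ∧
          (∀ j j', j ≠ j' → ∀ u ∈ D j, ∀ v ∈ D j', Cfsg.sympForm d F u v = 0))} / Nat.factorial t)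
    (x : ↥(Matrix.symplecticGroup (Fin d) F))
    (hx1 : ∃ z : F, ((x ^ 2 : ↥(Matrix.symplecticGroup (Fin d) F)) : Matrix (Fin d ⊕ Fin d) (Fin d ⊕ Fin d) F) = z • (1 : Matrix (Fin d ⊕ Fin d) (Fin d ⊕ Fin d) F))
    (hx2 : ∀ z : F, (x : Matrix (Fin d ⊕ Fin d) (Fin d ⊕ Fin d) F) ≠ z • (1 : Matrix (Fin d ⊕ Fin d) (Fin d ⊕ Fin d) F)) :
    ∃ D : Fin t → Submodule F (Fin d ⊕ Fin d → F), (Cfsg.Geo.IsMDecomposition a D ∧ (∀ j, ∀ u ∈ D j, u ≠ 0 → ∃ v ∈ D j, Cfsg.sympForm d F u v ≠ 0) ∧
          (∀ j j', j ≠ j' → ∀ u ∈ D j, ∀ v ∈ D j', Cfsg.sympForm d F u v = 0)) ∧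
        ∃ σ : Equiv.Perm (Fin t), ∀ j, (D j).map (Matrix.toLin' (x : Matrix (Fin d ⊕ Fin d) (Fin d ⊕ Fin d) F)) = D (σ j) := by
  classical
  obtain ⟨z, hz⟩ := hx1
  obtain ⟨ι, _, e, f, π, hfam, hspan, hπ, hR⟩ : Elusive.HasFrame (ClassicalSp.spBilin d F)
      (fun v w v' w' => Matrix.toLin' x.1 v ∈ Submodule.span F {v', w'} ∧
        Matrix.toLin' x.1 w ∈ Submodule.span F {v', w'}) ⊤ := by
    by_cases h2 : (2 : F) = 0
    · refine Elusive.frame_two ClassicalSp.spBilin_isAlt (Elusive.toLin_isometry x) ?_ h2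
        (fun _ _ => trivial) Elusive.ndSub_top
      have hn : (-1 : F) = 1 := by
        rw [neg_eq_iff_add_eq_zero]; linear_combination h2
      rcases Elusive.sq_scalar (by omega) x hz with ⟨-, h⟩ | ⟨-, h⟩
      · exact h
      · rw [h]
        exact LinearMap.ext fun v => by
          rw [LinearMap.neg_apply, Module.End.one_apply, ← neg_one_smul F v, hn, one_smul]
    · rcases Elusive.sq_scalar (by omega) x hz with ⟨-, hsq⟩ | ⟨-, hsq⟩
      · obtain ⟨ι, hι, e, f, π, hfam, hspan, hπ, hR⟩ := Elusive.frame_eigen ClassicalSp.spBilin_isAlt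
          (Elusive.toLin_isometry x) hsq h2 (X := ⊤) (fun _ _ => trivial) Elusive.ndSub_top
        exact ⟨ι, hι, e, f, id, hfam, hspan, fun _ => rfl, fun i =>
          ⟨Submodule.span_mono (Set.singleton_subset_iff.2 (Set.mem_insert _ _)) (hR i).1,
            Submodule.span_mono (Set.singleton_subset_iff.2 (Set.mem_insert_of_mem _ (Set.mem_singleton _))) (hR i).2⟩⟩
      · obtain ⟨ι, hι, e, f, π, hfam, hspan, hπ, hR⟩ := Elusive.frame_swap ClassicalSp.spBilin_isAlt
          (Elusive.toLin_isometry x) hsq h2 (X := ⊤) (fun _ _ => trivial) Elusive.ndSub_top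
        exact ⟨ι, hι, e, f, id, hfam, hspan, fun _ => rfl, fun i =>
          ⟨Submodule.span_mono (Set.singleton_subset_iff.2 (Set.mem_insert_of_mem _ (Set.mem_singleton _))) (hR i).1,
            Submodule.span_mono (Set.singleton_subset_iff.2 (Set.mem_insert _ _)) (hR i).2⟩⟩
  have hcard := Elusive.card_frame hfam hspan
  obtain ⟨m, rfl⟩ : ∃ m, a = 2 * m := ⟨a / 2, by obtain ⟨l, hl⟩ := hae; omega⟩
  obtain ⟨Bk, hB1, hB2, hB3, hB4⟩ := Elusive.exists_blocks hπ m t Finset.univ (fun i _ => Finset.mem_univ _)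
    (by rw [Finset.card_univ, hcard]; nlinarith)
  have hind := Elusive.hypFam_indep ClassicalSp.spBilin_isAlt hfam
  let idx : Fin t → Set (ι ⊕ ι) := fun j => {s | Sum.elim id id s ∈ Bk j}
  let D : Fin t → Submodule F (Fin d ⊕ Fin d → F) := fun j =>
    Submodule.span F (Sum.elim e f '' idx j)
  have hmemD : ∀ j, ∀ i ∈ Bk j, e i ∈ D j ∧ f i ∈ D j := fun j i hi =>
    ⟨Submodule.subset_span ⟨Sum.inl i, hi, rfl⟩, Submodule.subset_span ⟨Sum.inr i, hi, rfl⟩⟩
  have hblock : ∀ j j', ∀ i ∈ Bk j, ∀ i' ∈ Bk j', j ≠ j' → i ≠ i' := fun j j' i hi i' hi' hne h =>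
    Finset.disjoint_left.1 (hB2 j j' hne) hi (h ▸ hi')
  have horth : ∀ j j', j ≠ j' → ∀ u ∈ D j, ∀ v ∈ D j', Cfsg.sympForm d F u v = 0 := by
    intro j j' hne u hu v hv
    rw [← ClassicalSp.spBilin_apply]
    refine Submodule.span_induction (p := fun u _ => ClassicalSp.spBilin d F u v = 0) ?_ (by simp)
      (fun a b _ _ ha hb => by simp [ha, hb]) (fun c a _ ha => by simp [ha]) hu
    rintro _ ⟨s, hs, rfl⟩
    refine Submodule.span_induction (p := fun v _ => ClassicalSp.spBilin d F (Sum.elim e f s) v = 0) ?_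
      (by simp) (fun a b _ _ ha hb => by simp [ha, hb]) (fun c a _ ha => by simp [ha]) hv
    rintro _ ⟨s', hs', rfl⟩
    rcases s with i | i <;> rcases s' with i' | i' <;>
      have hii : i ≠ i' := hblock j j' i hs i' hs' hne
    · exact hfam.ee i i'
    · exact hfam.ef' i i' hii
    · show ClassicalSp.spBilin d F (f i) (e i') = 0
      rw [← LinearMap.BilinForm.IsAlt.neg_eq ClassicalSp.spBilin_isAlt, hfam.ef' i' i hii.symm, neg_zero]
    · exact hfam.ff i i'
  have htop : iSup D = ⊤ := by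
    rw [eq_top_iff, ← hspan]
    refine Submodule.span_le.2 ?_
    rintro _ ⟨i | i, rfl⟩ <;> obtain ⟨j, hj⟩ := hB3 i (Finset.mem_univ i)
    · exact Submodule.mem_iSup_of_mem j (hmemD j i hj).1
    · exact Submodule.mem_iSup_of_mem j (hmemD j i hj).2
  have hrank : ∀ j, Module.finrank F (D j) = 2 * m := by
    intro j
    let g : {i // i ∈ Bk j} ⊕ {i // i ∈ Bk j} → Fin d ⊕ Fin d → F := Sum.elim (fun i => e i.1) (fun i => f i.1)
    have hg : D j = Submodule.span F (Set.range g) := by
      show Submodule.span F _ = _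
      congr 1
      ext v
      constructor
      · rintro ⟨i | i, hi, rfl⟩
        · exact ⟨Sum.inl ⟨i, hi⟩, rfl⟩
        · exact ⟨Sum.inr ⟨i, hi⟩, rfl⟩
      · rintro ⟨i | i, rfl⟩
        · exact ⟨Sum.inl i.1, i.2, rfl⟩
        · exact ⟨Sum.inr i.1, i.2, rfl⟩
    have hgi : LinearIndependent F g := by
      have := hind.comp (Sum.map (Subtype.val : {i // i ∈ Bk j} → ι) (Subtype.val : {i // i ∈ Bk j} → ι))
        (Subtype.val_injective.sumMap Subtype.val_injective)
      rwa [Sum.elim_comp_map] at this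
    rw [hg, finrank_span_eq_card hgi, Fintype.card_sum, Fintype.card_coe, (hB1 j).1]
    ring
  have hindep : iSupIndep D := fun j => by
    refine Disjoint.mono_right ?_ (hind.disjoint_span_image (s := idx j) (t := (idx j)ᶜ) disjoint_compl_right)
    refine iSup₂_le fun j' hne => Submodule.span_mono (Set.image_mono fun s hs hs' => ?_)
    exact Finset.disjoint_left.1 (hB2 j' j hne) hs hs'
  refine ⟨D, ⟨⟨ht, by omega, hrank, hindep, htop⟩, ?_, horth⟩, ?_⟩
  · intro j u hu hu0
    by_contra hall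
    push Not at hall
    refine hu0 ((ClassicalSp.spBilin_nondeg (m := d) (F := F)).1 u fun v => ?_)
    have hv : v ∈ iSup D := htop ▸ Submodule.mem_top
    refine Submodule.iSup_induction _ (motive := fun v => ClassicalSp.spBilin d F u v = 0) hv
      (fun j' v hv' => ?_) (by simp) (fun a b ha hb => by simp [ha, hb])
    rw [ClassicalSp.spBilin_apply]
    by_cases hjj : j = j'
    · subst hjj; exact hall v hv'
    · exact horth j j' hjj u hu v hv'
  · choose σ hσ using hB4
    have hle : ∀ j, (D j).map (Matrix.toLin' x.1) ≤ D (σ j) := fun j => by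
      show (Submodule.span F _).map _ ≤ _
      rw [Submodule.map_span, Submodule.span_le]
      rintro _ ⟨_, ⟨i | i, hi, rfl⟩, rfl⟩ <;>
        have hsp : Submodule.span F {e (π i), f (π i)} ≤ D (σ j) := Submodule.span_le.2
          (Set.insert_subset (hmemD _ _ (hσ j i hi)).1 (Set.singleton_subset_iff.2 (hmemD _ _ (hσ j i hi)).2))
      · exact hsp (hR i).1
      · exact hsp (hR i).2
    have hmap : ∀ j, (D j).map (Matrix.toLin' x.1) = D (σ j) := fun j =>
      Elusive.toLin_map_of_le x (hle j) ((hrank j).trans (hrank _).symm)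
    have hinj : Function.Injective σ := fun j k h => by
      have hne : ∀ i, D i ≠ ⊥ := fun i hb => by
        have := hrank i
        rw [hb, finrank_bot] at this
        omega
      exact hindep.injective hne (Submodule.map_injective_of_injective
        (fun a b e => (ClassicalSp.toEquiv x).injective e) ((hmap j).trans ((congrArg D h).trans (hmap k).symm)))
    exact ⟨Equiv.ofBijective σ (Finite.injective_iff_bijective.1 hinj), hmap⟩

end Cfsg.Agent.S5960
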