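import Cfsg.Statements.S5962
import Cfsg.Agent.Lib.Elusive.SympFrame

set_option autoImplicit false
open scoped MatrixGroups
open Cfsg

namespace Cfsg.Agent.S5962

/-- Involutions of PSp_n(q), q odd, and the subgroups GL_{n/2}(q).2. Here `T = PSp_n(q)`, `n = 2d ≥ 4`, `q` odd, realised through the symplectic matrices over the field `F` with `q` elements; Ω is the set of unordered pairs `{U, W}` of complementary totally isotropic `d`-spaces (`F^n = U ⊕ W`), whose stabilizers are the subgroups of type GL_d(q).2 (maximal except in some small cases; maximality is not assumed); an element of `T` of prime order `r` (a symplectic matrix `x` with `x^r` scalar, `x` not scalar) fixes such a pair when it fixes or interchanges `U` and `W`. If the number of such pairs is even, every involution of `T` fixes one of them (the action is 2-elusive). -/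
theorem result {F : Type*} [Field F] [Fintype F] {p : ℕ} [Fact p.Prime] [CharP F p] {q : ℕ} (hq : Fintype.card F = q)
    (d : ℕ) (hd : 2 ≤ d) (hT : (d, q) ≠ (2, 2)) (hodd : Odd q)
    (hΩ : 2 ∣ Nat.card {P : Submodule F (Fin d ⊕ Fin d → F) × Submodule F (Fin d ⊕ Fin d → F) // IsCompl P.1 P.2 ∧ (∀ u ∈ P.1, ∀ v ∈ P.1, Cfsg.sympForm d F u v = 0) ∧ (∀ u ∈ P.2, ∀ v ∈ P.2, Cfsg.sympForm d F u v = 0)} / 2)
    (x : ↥(Matrix.symplecticGroup (Fin d) F))
    (hx1 : ∃ z : F, ((x ^ 2 : ↥(Matrix.symplecticGroup (Fin d) F)) : Matrix (Fin d ⊕ Fin d) (Fin d ⊕ Fin d) F) = z • (1 : Matrix (Fin d ⊕ Fin d) (Fin d ⊕ Fin d) F))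
    (hx2 : ∀ z : F, (x : Matrix (Fin d ⊕ Fin d) (Fin d ⊕ Fin d) F) ≠ z • (1 : Matrix (Fin d ⊕ Fin d) (Fin d ⊕ Fin d) F)) :
    ∃ U W : Submodule F (Fin d ⊕ Fin d → F), IsCompl U W ∧ (∀ u ∈ U, ∀ v ∈ U, Cfsg.sympForm d F u v = 0) ∧ (∀ u ∈ W, ∀ v ∈ W, Cfsg.sympForm d F u v = 0) ∧
        ((U.map (Matrix.toLin' (x : Matrix (Fin d ⊕ Fin d) (Fin d ⊕ Fin d) F)) = U ∧ W.map (Matrix.toLin' (x : Matrix (Fin d ⊕ Fin d) (Fin d ⊕ Fin d) F)) = W) ∨
         (U.map (Matrix.toLin' (x : Matrix (Fin d ⊕ Fin d) (Fin d ⊕ Fin d) F)) = W ∧ W.map (Matrix.toLin' (x : Matrix (Fin d ⊕ Fin d) (Fin d ⊕ Fin d) F)) = U)) := by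
  classical
  subst hq
  obtain ⟨z, hz⟩ := hx1
  let V := Fin d ⊕ Fin d → F
  have h2 : (2 : F) ≠ 0 := fun h => by
    have he : Even (Fintype.card F) := Nat.even_iff.2 (FiniteField.even_card_of_char_two
      (CharP.ringChar_of_prime_eq_zero Nat.prime_two (by exact_mod_cast h)))
    exact Nat.not_even_iff_odd.2 hodd he
  -- from a frame to the two subspaces
  have key : ∀ {ι : Type} [Fintype ι] (e f : ι → V), Elusive.HypFam (ClassicalSp.spBilin d F) e f →
      Elusive.famSpan (F := F) e f = ⊤ →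
      (((∀ i, Matrix.toLin' x.1 (e i) ∈ Submodule.span F (Set.range e)) ∧
          ∀ i, Matrix.toLin' x.1 (f i) ∈ Submodule.span F (Set.range f)) ∨
        ((∀ i, Matrix.toLin' x.1 (e i) ∈ Submodule.span F (Set.range f)) ∧
          ∀ i, Matrix.toLin' x.1 (f i) ∈ Submodule.span F (Set.range e))) →
      ∃ U W : Submodule F V, IsCompl U W ∧ (∀ u ∈ U, ∀ v ∈ U, Cfsg.sympForm d F u v = 0) ∧
        (∀ u ∈ W, ∀ v ∈ W, Cfsg.sympForm d F u v = 0) ∧
        ((U.map (Matrix.toLin' x.1) = U ∧ W.map (Matrix.toLin' x.1) = W) ∨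
         (U.map (Matrix.toLin' x.1) = W ∧ W.map (Matrix.toLin' x.1) = U)) := by
    intro ι _ e f h hs hcase
    have hind := Elusive.hypFam_indep ClassicalSp.spBilin_isAlt h
    have hiso : ∀ g : ι → V, (∀ i j, ClassicalSp.spBilin d F (g i) (g j) = 0) →
        ∀ u ∈ Submodule.span F (Set.range g), ∀ v ∈ Submodule.span F (Set.range g), Cfsg.sympForm d F u v = 0 := by
      intro g hg u hu v hv
      rw [← ClassicalSp.spBilin_apply]
      obtain ⟨a, rfl⟩ := (Submodule.mem_span_range_iff_exists_fun F).1 hu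
      obtain ⟨b, rfl⟩ := (Submodule.mem_span_range_iff_exists_fun F).1 hv
      simp [hg]
    have hde : Module.finrank F (Submodule.span F (Set.range e)) = Fintype.card ι :=
      finrank_span_eq_card (hind.comp _ Sum.inl_injective)
    have hdf : Module.finrank F (Submodule.span F (Set.range f)) = Fintype.card ι :=
      finrank_span_eq_card (hind.comp _ Sum.inr_injective)
    refine ⟨_, _, ⟨?_, codisjoint_iff.2 ?_⟩, hiso e h.ee, hiso f h.ff, ?_⟩
    · have h' := hind.disjoint_span_image (s := Set.range Sum.inl) (t := Set.range Sum.inr)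
        Set.isCompl_range_inl_range_inr.disjoint
      rw [← Set.range_comp, ← Set.range_comp, Sum.elim_comp_inl, Sum.elim_comp_inr] at h'
      exact h'
    · rw [← Submodule.span_union, ← hs, Elusive.famSpan, Set.Sum.elim_range]
    · have hle : ∀ (g g' : ι → V), (∀ i, Matrix.toLin' x.1 (g i) ∈ Submodule.span F (Set.range g')) →
          (Submodule.span F (Set.range g)).map (Matrix.toLin' x.1) ≤ Submodule.span F (Set.range g') := by
        intro g g' hg
        rw [Submodule.map_span, Submodule.span_le]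
        rintro _ ⟨_, ⟨i, rfl⟩, rfl⟩
        exact hg i
      rcases hcase with ⟨h1, h1'⟩ | ⟨h1, h1'⟩
      · exact Or.inl ⟨Elusive.toLin_map_of_le x (hle _ _ h1) rfl, Elusive.toLin_map_of_le x (hle _ _ h1') rfl⟩
      · exact Or.inr ⟨Elusive.toLin_map_of_le x (hle _ _ h1) (hde.trans hdf.symm),
          Elusive.toLin_map_of_le x (hle _ _ h1') (hdf.trans hde.symm)⟩
  have hsing : ∀ {ι : Type} (g : ι → V) (i : ι) {v : V}, v ∈ Submodule.span F ({g i} : Set V) →
      v ∈ Submodule.span F (Set.range g) := fun g i v hv =>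
    Submodule.span_mono (Set.singleton_subset_iff.2 (Set.mem_range_self i)) hv
  rcases Elusive.sq_scalar (by omega) x hz with ⟨-, hsq⟩ | ⟨-, hsq⟩
  · obtain ⟨ι, _, e, f, π, hfam, hspan, -, hR⟩ := Elusive.frame_eigen ClassicalSp.spBilin_isAlt
      (Elusive.toLin_isometry x) hsq h2 (X := ⊤) (fun _ _ => trivial) Elusive.ndSub_top
    exact key e f hfam hspan (Or.inl ⟨fun i => hsing e i (hR i).1, fun i => hsing f i (hR i).2⟩)
  · obtain ⟨ι, _, e, f, π, hfam, hspan, -, hR⟩ := Elusive.frame_swap ClassicalSp.spBilin_isAlt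
      (Elusive.toLin_isometry x) hsq h2 (X := ⊤) (fun _ _ => trivial) Elusive.ndSub_top
    exact key e f hfam hspan (Or.inr ⟨fun i => hsing f i (hR i).1, fun i => hsing e i (hR i).2⟩)

end Cfsg.Agent.S5962
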