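import Cfsg.Statements.S5963
import Cfsg.Agent.Lib.Elusive.Lagrangian

set_option autoImplicit false
open scoped MatrixGroups
open Cfsg

namespace Cfsg.Agent.S5963

open Matrix Cfsg.Agent.ClassicalSp

/-- An element of order `r` with a nondegenerate moved space of dimension `2 * e` without invariant
proper subspaces. -/
lemma exists_op {F : Type*} [Field F] [Fintype F] {e d r : ℕ} [Fact r.Prime] (he : 0 < e) (hed : e ≤ d)
    (hr : ¬ r ∣ Fintype.card F) (hi : orderOf (Fintype.card F : ZMod r) = 2 * e) :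
    ∃ x : symplecticGroup (Fin d) F, x ^ r = 1 ∧ x ≠ 1 ∧
      ¬ ∃ U W : Submodule F (Fin d ⊕ Fin d → F), IsCompl U W ∧
        (∀ u ∈ U, ∀ v ∈ U, Cfsg.sympForm d F u v = 0) ∧ (∀ u ∈ W, ∀ v ∈ W, Cfsg.sympForm d F u v = 0) ∧
        U.map (Matrix.toLin' x.1) ≤ U ∧ W.map (Matrix.toLin' x.1) ≤ W := by
  classical
  have hQ := Fintype.one_lt_card (α := F)
  obtain ⟨g, hg⟩ : ∃ g : symplecticGroup (Fin e) F, orderOf g = r := by
    refine exists_prime_orderOf_dvd_card' r ?_
    rw [card_sp, Nat.card_eq_fintype_card]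
    refine Dvd.dvd.mul_left ?_ _
    refine dvd_trans ?_ (Finset.dvd_prod_of_mem _ (Finset.mem_range.2 (show e - 1 < e by omega)))
    rw [← ZMod.natCast_eq_zero_iff, Nat.cast_sub (Nat.one_le_pow _ _ (by omega)), Nat.cast_pow,
      show e - 1 + 1 = e by omega, ← hi, pow_orderOf_eq_one, Nat.cast_one, sub_self]
  let S : Module.End F (Fin e ⊕ Fin e → F) := Matrix.toLin' g.1
  have hSr : S ^ r = 1 := by
    rw [← Matrix.toLin'_pow, ← SubmonoidClass.coe_pow, ← hg, pow_orderOf_eq_one, Submonoid.coe_one,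
      Matrix.toLin'_one]
    rfl
  have hS1 : S ≠ 1 := fun h => by
    have hg1 : g = 1 := Subtype.ext (Matrix.toLin'.injective (by
      rw [Submonoid.coe_one, Matrix.toLin'_one]; exact h))
    rw [hg1, orderOf_one] at hg
    exact (Fact.out : r.Prime).one_lt.ne hg
  have hr0 := Elusive.cast_ne_zero_of_not_dvd_card (F := F) hr
  obtain ⟨N, hJ, hsum⟩ := Elusive.exists_moved_eq hSr hr0
  rw [hi, finrank_space] at hsum
  have hJ1 : N = 1 := by
    rcases Nat.lt_or_ge N 2 with h | h
    · refine le_antisymm (by omega) (Nat.pos_of_ne_zero fun h0 => hS1 ?_)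
      subst h0
      rw [Nat.zero_mul, Nat.add_zero] at hsum
      refine LinearMap.ext fun v => Elusive.mem_fixedSpace.1 ?_
      rw [Submodule.eq_top_of_finrank_eq (S := Elusive.fixedSpace S) (by rw [hsum, finrank_space])]
      exact Submodule.mem_top
    · have := Nat.mul_le_mul_right (2 * e) h
      omega
  rw [hJ1, Nat.one_mul] at hsum
  rw [hJ1, Nat.one_mul, hi] at hJ
  have hfix : Elusive.fixedSpace S = ⊥ := Submodule.finrank_eq_zero.1 (by omega)
  have hmv : Elusive.movedSpace S r = ⊤ := Submodule.eq_top_of_finrank_eq (by rw [hJ, finrank_space])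
  let j : Fin e ⊕ Fin e → Fin d ⊕ Fin d := Sum.map (Fin.castLE hed) (Fin.castLE hed)
  have hj : Function.Injective j :=
    (Fin.castLE_injective hed).sumMap (Fin.castLE_injective hed)
  let P : (Fin d ⊕ Fin d → F) →ₗ[F] (Fin e ⊕ Fin e → F) := LinearMap.funLeft F F j
  let E : (Fin e ⊕ Fin e → F) →ₗ[F] (Fin d ⊕ Fin d → F) := Function.ExtendByZero.linearMap F j
  have hPE : ∀ a, P (E a) = a := fun a => funext fun k => hj.extend_apply a 0 k
  have hE : ∀ a y, Cfsg.sympForm d F (E a) y = Cfsg.sympForm e F a (P y) := by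
    intro a y
    rw [sympForm_eq, sympForm_eq]
    refine (Fintype.sum_of_injective j hj _ _ (fun b hb => ?_) fun k => ?_).symm
    · show Function.extend j a 0 b * _ = 0
      rw [Function.extend_apply' _ _ _ (by simpa using hb), Pi.zero_apply, zero_mul]
    · show _ = Function.extend j a 0 (j k) * _
      rw [hj.extend_apply]
      congr 1
      rcases k with k | k <;> simp [J, fromBlocks_mulVec, Matrix.neg_mulVec, j, P]
  let T : Module.End F (Fin d ⊕ Fin d → F) := 1 + E ∘ₗ (S - 1) ∘ₗ P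
  have hT : ∀ v, T v = v + E (S (P v) - P v) := fun v => rfl
  have hTE : ∀ a, T (E a) = E (S a) := fun a => by
    rw [hT, hPE, map_sub, add_sub_cancel]
  have hTk : ∀ (k : ℕ) v, (T ^ k) v = v + E ((S ^ k) (P v) - P v) := fun k => by
    induction k with
    | zero => intro v; simp
    | succ k ih =>
      intro v
      rw [pow_succ', Module.End.mul_apply, ih, map_add, hTE, hT, pow_succ', Module.End.mul_apply,
        add_assoc, ← map_add, map_sub]
      congr 2
      abel
  have hSω : ∀ a b, spBilin e F (S a) (S b) = spBilin e F a b := fun a b => by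
    rw [spBilin_apply, spBilin_apply]
    exact (mem_iff_preserves g.1).1 g.2 a b
  have hEr : ∀ x a, spBilin d F x (E a) = spBilin e F (P x) a := fun x a => by
    rw [← LinearMap.BilinForm.IsAlt.neg_eq spBilin_isAlt, spBilin_apply, hE, ← spBilin_apply,
      LinearMap.BilinForm.IsAlt.neg_eq spBilin_isAlt]
  have hTω : ∀ x y, spBilin d F (T x) (T y) = spBilin d F x y := fun x y => by
    have h1 : ∀ a y, spBilin d F (E a) y = spBilin e F a (P y) := fun a y => by
      rw [spBilin_apply, hE, ← spBilin_apply]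
    rw [hT, hT, map_add (spBilin d F), LinearMap.add_apply, map_add (spBilin d F x),
      map_add (spBilin d F (E _)), h1, h1, hEr, hPE]
    simp only [map_sub, LinearMap.sub_apply, hSω]
    ring
  let M : symplecticGroup (Fin d) F := ⟨LinearMap.toMatrix' T, (mem_iff_preserves _).2 fun u v => by
    rw [← Matrix.toLin'_apply, ← Matrix.toLin'_apply, Matrix.toLin'_toMatrix', ← spBilin_apply,
      ← spBilin_apply, hTω]⟩
  refine ⟨M, ?_, ?_, ?_⟩
  · refine Subtype.ext (Matrix.toLin'.injective (LinearMap.ext fun v => ?_))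
    rw [SubmonoidClass.coe_pow, Matrix.toLin'_pow, Submonoid.coe_one, Matrix.toLin'_one,
      show (M : Matrix _ _ F) = LinearMap.toMatrix' T from rfl, Matrix.toLin'_toMatrix', hTk, hSr]
    simp
  · intro h
    have hT1 : T = 1 := by
      have := congrArg (fun A : symplecticGroup (Fin d) F => Matrix.toLin' A.1) h
      simpa [M, Module.End.one_eq_id] using this
    refine hS1 (LinearMap.ext fun a => ?_)
    have := hTE a
    rw [hT1, Module.End.one_apply] at this
    have h' := congrArg P this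
    rw [hPE, hPE] at h'
    exact h'.symm
  rintro ⟨U, W, hUW, hU, hW, hiU, hiW⟩
  have key : ∀ U : Submodule F (Fin d ⊕ Fin d → F), (∀ u ∈ U, ∀ v ∈ U, Cfsg.sympForm d F u v = 0) →
      U.map (Matrix.toLin' M.1) ≤ U → ∀ u ∈ U, P u = 0 := by
    intro U hU hiU u hu
    rw [show (M : Matrix _ _ F) = LinearMap.toMatrix' T from rfl, Matrix.toLin'_toMatrix',
      Elusive.inv_map_iff] at hiU
    have hU' : Elusive.Inv S (U.comap E) := fun a ha => by
      show E (S a) ∈ U
      rw [← hTE]
      exact hiU _ ha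
    have hdv := Elusive.dvd_finrank_moved hSr hr0 hU' (hmv ▸ le_top)
    rw [hi] at hdv
    have hbot : U.comap E = ⊥ := by
      by_contra hne
      have h2 : 2 * e ≤ Module.finrank F (U.comap E) :=
        Nat.le_of_dvd (Nat.pos_of_ne_zero fun h => hne (Submodule.finrank_eq_zero.1 h)) hdv
      have h3 := Submodule.finrank_le (U.comap E)
      rw [finrank_space] at h3
      have htop : U.comap E = ⊤ := Submodule.eq_top_of_finrank_eq (by rw [finrank_space]; omega)
      have hmem : ∀ a, E a ∈ U := fun a => (htop ▸ Submodule.mem_top : a ∈ U.comap E)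
      have h4 := hU _ (hmem (Pi.single (Sum.inr ⟨0, he⟩) 1)) _ (hmem (Pi.single (Sum.inl ⟨0, he⟩) 1))
      rw [hE, hPE, Elusive.sympForm_single] at h4
      simp [J] at h4
    have h5 : S (P u) - P u ∈ U.comap E := by
      show E _ ∈ U
      have := U.sub_mem (hiU u hu) hu
      rwa [hT, add_sub_cancel_left] at this
    rw [hbot, Submodule.mem_bot, sub_eq_zero] at h5
    have h6 : P u ∈ Elusive.fixedSpace S := Elusive.mem_fixedSpace.2 h5
    rwa [hfix, Submodule.mem_bot] at h6
  obtain ⟨u, hu, w, hw, huw⟩ := Submodule.mem_sup.1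
    (hUW.sup_eq_top ▸ Submodule.mem_top (x := E (Pi.single (Sum.inl ⟨0, he⟩) 1)))
  have := congrArg P huw
  rw [map_add, key U hU hiU u hu, key W hW hiW w hw, add_zero, hPE] at this
  simpa using congrFun this (Sum.inl ⟨0, he⟩)

/-- Derangements of odd prime order of PSp_n(q), q odd, on pairs of complementary totally isotropic subspaces. Here `T = PSp_n(q)`, `n = 2d ≥ 4`, `q` odd, realised through the symplectic matrices over the field `F` with `q` elements; Ω is the set of unordered pairs `{U, W}` of complementary totally isotropic `d`-spaces (`F^n = U ⊕ W`), whose stabilizers are the subgroups of type GL_d(q).2 (maximal except in some small cases; maximality is not assumed); an element of `T` of prime order `r` (a symplectic matrix `x` with `x^r` scalar, `x` not scalar) fixes such a pair when it fixes or interchanges `U` and `W`. For every odd prime `r ≠ p` dividing the number of such pairs, some element of `T` of order `r` fixes no such pair (the action is never `r`-elusive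 for odd `r ≠ p`). -/
theorem result {F : Type*} [Field F] [Fintype F] {p : ℕ} [Fact p.Prime] [CharP F p] {q : ℕ} (hq : Fintype.card F = q)
    (d : ℕ) (hd : 2 ≤ d) (hT : (d, q) ≠ (2, 2)) (hodd : Odd q)
    (r : ℕ) [Fact r.Prime] (hr2 : r ≠ 2) (hrp : r ≠ p) (hΩ : r ∣ Nat.card {P : Submodule F (Fin d ⊕ Fin d → F) × Submodule F (Fin d ⊕ Fin d → F) // IsCompl P.1 P.2 ∧ (∀ u ∈ P.1, ∀ v ∈ P.1, Cfsg.sympForm d F u v = 0) ∧ (∀ u ∈ P.2, ∀ v ∈ P.2, Cfsg.sympForm d F u v = 0)} / 2) :
    ∃ x : ↥(Matrix.symplecticGroup (Fin d) F),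
      (∃ z : F, ((x ^ r : ↥(Matrix.symplecticGroup (Fin d) F)) : Matrix (Fin d ⊕ Fin d) (Fin d ⊕ Fin d) F) = z • (1 : Matrix (Fin d ⊕ Fin d) (Fin d ⊕ Fin d) F)) ∧
      (∀ z : F, (x : Matrix (Fin d ⊕ Fin d) (Fin d ⊕ Fin d) F) ≠ z • (1 : Matrix (Fin d ⊕ Fin d) (Fin d ⊕ Fin d) F)) ∧
      ¬ (∃ U W : Submodule F (Fin d ⊕ Fin d → F), IsCompl U W ∧ (∀ u ∈ U, ∀ v ∈ U, Cfsg.sympForm d F u v = 0) ∧ (∀ u ∈ W, ∀ v ∈ W, Cfsg.sympForm d F u v = 0) ∧
        ((U.map (Matrix.toLin' (x : Matrix (Fin d ⊕ Fin d) (Fin d ⊕ Fin d) F)) = U ∧ W.map (Matrix.toLin' (x : Matrix (Fin d ⊕ Fin d) (Fin d ⊕ Fin d) F)) = W) ∨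
         (U.map (Matrix.toLin' (x : Matrix (Fin d ⊕ Fin d) (Fin d ⊕ Fin d) F)) = W ∧ W.map (Matrix.toLin' (x : Matrix (Fin d ⊕ Fin d) (Fin d ⊕ Fin d) F)) = U))) := by
  subst hq
  have hqr : ¬ r ∣ Fintype.card F := fun h => hrp (by
    obtain ⟨e, hp', hqe⟩ := FiniteField.card F p
    exact (Nat.prime_dvd_prime_iff_eq Fact.out hp').1 ((Fact.out : r.Prime).dvd_of_dvd_pow (hqe ▸ h)))
  obtain ⟨j, hjd, hj⟩ := Elusive.dvd_lpair (by omega) hr2 hqr hΩ
  have hr0 := Elusive.cast_ne_zero_of_not_dvd_card (F := F) hqr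
  have hpos := Elusive.orderOf_card_pos (F := F) (r := r) hr0
  have hj' : (Fintype.card F : ZMod r) ^ j = -1 := by
    rw [← ZMod.natCast_eq_zero_iff, Nat.cast_add, Nat.cast_pow, Nat.cast_one] at hj
    exact eq_neg_of_add_eq_zero_left hj
  have hneg : (-1 : ZMod r) ≠ 1 := fun h => by
    have h2 : ((2 : ℕ) : ZMod r) = 0 := by
      have h11 : (1 : ZMod r) + 1 = 0 := by
        have h12 := neg_add_cancel (1 : ZMod r)
        rwa [h] at h12
      simpa [← one_add_one_eq_two] using h11
    rw [ZMod.natCast_eq_zero_iff] at h2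
    exact hr2 ((Nat.prime_dvd_prime_iff_eq Fact.out Nat.prime_two).1 h2)
  have hnd : ¬ orderOf (Fintype.card F : ZMod r) ∣ j := fun h => by
    rw [orderOf_dvd_iff_pow_eq_one, hj'] at h
    exact hneg h
  have hd2 : orderOf (Fintype.card F : ZMod r) ∣ 2 * j := by
    rw [orderOf_dvd_iff_pow_eq_one, mul_comm, pow_mul, hj', neg_one_sq]
  obtain ⟨e, he⟩ : 2 ∣ orderOf (Fintype.card F : ZMod r) := by
    by_contra h
    exact hnd ((Nat.Coprime.symm ((Nat.prime_two.coprime_iff_not_dvd).2 h)).dvd_of_dvd_mul_left hd2)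
  have hj0 : 0 < j := Nat.pos_of_ne_zero fun h => hnd (h ▸ dvd_zero _)
  have hej : e ≤ j := Nat.le_of_dvd hj0 (Nat.dvd_of_mul_dvd_mul_left (by norm_num) (he ▸ hd2))
  obtain ⟨x, hxr, hx1, hxn⟩ := exists_op (F := F) (e := e) (d := d) (r := r) (by omega) (hej.trans hjd) hqr he
  have hq1 : ¬ r ∣ Fintype.card F - 1 := fun h => by
    have := Elusive.orderOf_card_eq_one_iff.2 h
    omega
  have hV : Nonempty (Fin d ⊕ Fin d) := ⟨Sum.inl ⟨0, by omega⟩⟩
  refine ⟨x, ⟨1, by rw [hxr, one_smul]; rfl⟩, fun z hz => ?_, ?_⟩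
  · have hzr : z ^ r = 1 := by
      have h := congrArg (fun A : symplecticGroup (Fin d) F => A.1) hxr
      simp only [SubmonoidClass.coe_pow, Submonoid.coe_one, hz, smul_pow, one_pow] at h
      have h' := congrFun (congrFun h (Classical.arbitrary _)) (Classical.arbitrary _)
      simpa using h'
    exact hx1 (Subtype.ext (by rw [hz, Elusive.eq_one_of_pow_eq_one hq1 hzr, one_smul]; rfl))
  rintro ⟨U, W, hUW, hU, hW, (⟨h1, h2⟩ | ⟨h1, h2⟩)⟩
  · exact hxn ⟨U, W, hUW, hU, hW, h1.le, h2.le⟩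
  · obtain ⟨k, hk⟩ := (Fact.out : r.Prime).odd_of_ne_two hr2
    have hpow : ∀ k : ℕ, U.map (Matrix.toLin' x.1 ^ (2 * k + 1)) = W := fun k => by
      induction k with
      | zero => rw [Nat.mul_zero, Nat.zero_add, pow_one]; exact h1
      | succ k ih =>
        rw [show 2 * (k + 1) + 1 = (2 * k + 1) + 1 + 1 by ring, pow_succ', pow_succ',
          Module.End.mul_eq_comp, Module.End.mul_eq_comp, Submodule.map_comp, Submodule.map_comp, ih, h2, h1]
    have h := hpow k
    rw [← hk, ← Matrix.toLin'_pow, ← SubmonoidClass.coe_pow, hxr, Submonoid.coe_one, Matrix.toLin'_one,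
      Submodule.map_id] at h
    subst h
    have hbot : U = ⊥ := disjoint_self.1 hUW.disjoint
    obtain ⟨hh, -⟩ := Elusive.finrank_lpair (F := F) (d := d) ⟨(U, U), hUW, hU, hU⟩
    change Module.finrank F U = d at hh
    rw [hbot, finrank_bot] at hh
    omega

end Cfsg.Agent.S5963
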