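import Cfsg.Statements.S5970
import Cfsg.Agent.Lib.LinearBlock.SingerNorm

set_option autoImplicit false
open scoped MatrixGroups
open Cfsg

namespace Cfsg.Agent.S5970

/-- Elements of order `n` of PSL_n(q), `n` prime, and the normalizer of a Singer cycle. Here `T = PSL_n(F)` for a field `F` with `q = p^f` elements (`n ≥ 2`, `(n, q) ≠ (2, 2), (2, 3)`), `k` is a prime dividing `n`, `K` is a subalgebra of the `n × n` matrices that is a field of degree `k` over `F` (an extension-field structure F_{q^k} on `F^n`), and `H` is the subgroup of matrices of determinant 1 normalizing `K` — a subgroup of type GL_{n/k}(q^k) (maximal except in some small cases; maximality is not assumed); Ω is the set of cosets of `H` in `T`, so an element of `T` of prime order `r` (a matrix `x` of determinant 1 with `x^r` scalar, `x` not scalar) fixes a point of Ω when some conjugate of `x` by a matrix of determinant 1 normalizes `K`. Take `k = n > 3` prime with `n ≠ p` (so `H` is the normalizer of a Singer cycle), and suppose `n` divides the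 index of `H`. Then every element of `T` of order `n` is conjugate in `T` into `H` if and only if the multiplicative order of `q` modulo `n` is `n − 1`. -/
theorem result {F : Type*} [Field F] [Fintype F] {p : ℕ} [Fact p.Prime] [CharP F p] {q : ℕ} (hq : Fintype.card F = q)
    (n : ℕ) (hn : 2 ≤ n) (hT : (n, q) ≠ (2, 2) ∧ (n, q) ≠ (2, 3))
    (k : ℕ) (hk : k.Prime) (hkn : k ∣ n) (K : Subalgebra F (Matrix (Fin n) (Fin n) F)) (hK : Cfsg.Geo.IsFieldSubalgebra k K) (hkn' : k = n) (hn3 : 3 < n) (hnp : n ≠ p) (hΩ : n ∣ ((Cfsg.Geo.subalgebraNormalizer K).comap (Matrix.SpecialLinearGroup.toGL : Matrix.SpecialLinearGroup (Fin n) F →* GL (Fin n) F)).index) :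
    (∀ x : Matrix.SpecialLinearGroup (Fin n) F,
      (∃ z : F, ((x ^ n : Matrix.SpecialLinearGroup (Fin n) F) : Matrix (Fin n) (Fin n) F) = z • (1 : Matrix (Fin n) (Fin n) F)) →
      (∀ z : F, (x : Matrix (Fin n) (Fin n) F) ≠ z • (1 : Matrix (Fin n) (Fin n) F)) →
      ∃ P : Matrix.SpecialLinearGroup (Fin n) F, P⁻¹ * x * P ∈ ((Cfsg.Geo.subalgebraNormalizer K).comap (Matrix.SpecialLinearGroup.toGL : Matrix.SpecialLinearGroup (Fin n) F →* GL (Fin n) F))) ↔
    orderOf (q : ZMod n) = n - 1 := by
  open Cfsg.Agent Polynomial Matrix in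
  classical
  subst hq
  subst hkn'
  constructor
  · intro hall
    by_contra hord
    obtain ⟨x, hxd, hxn, hx1, ⟨w, hw, hxw⟩, g, hg0, hg, hdeg⟩ := LBSinger.exists_short p hk (by omega) hnp hord
    have hns : ∀ z : F, x ≠ z • 1 := fun z hz => hx1 (by
      have h1 := hxw
      rw [hz, smul_mulVec, one_mulVec, ← sub_eq_zero] at h1
      nth_rewrite 2 [← one_smul F w] at h1
      rw [← sub_smul, smul_eq_zero] at h1
      rw [hz, sub_eq_zero.1 (h1.resolve_right hw), one_smul])
    obtain ⟨x', rfl⟩ : ∃ x' : Matrix.SpecialLinearGroup (Fin k) F, x'.1 = x := ⟨⟨x, hxd⟩, rfl⟩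
    obtain ⟨P, hP⟩ := hall x' ⟨1, by rw [Matrix.SpecialLinearGroup.coe_pow, one_smul]; exact hxn⟩ hns
    exact LBSinger.not_all hk hK x' P (z := 1) (e := 1) (by rw [one_smul]; exact hxn) hw
      (by rw [one_smul]; exact hxw) hg0 hg hdeg (hns 1) hP
  · rintro hord x ⟨z, hz⟩ hns
    rw [Matrix.SpecialLinearGroup.coe_pow] at hz
    haveI : Fact k.Prime := ⟨hk⟩
    have hdet : z ^ k = 1 := by
      have := congrArg Matrix.det hz
      rw [det_pow, x.2, one_pow, det_smul, det_one, mul_one, Fintype.card_fin] at this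
      exact this.symm
    have hz1 : z = 1 := by
      have hz0 : z ≠ 0 := fun e => by rw [e, zero_pow hk.ne_zero] at hdet; exact zero_ne_one hdet
      rcases hk.eq_one_or_self_of_dvd _ (orderOf_dvd_of_pow_eq_one hdet) with h | h
      · exact orderOf_eq_one_iff.1 h
      · exfalso
        have h2 := orderOf_dvd_of_pow_eq_one (FiniteField.pow_card_sub_one_eq_one z hz0)
        rw [h] at h2
        have hc := Fintype.card_pos (α := F)
        have h3 : (Fintype.card F : ZMod k) = 1 := by
          simpa using (ZMod.natCast_eq_natCast_iff _ _ _).2 ((Nat.modEq_iff_dvd' (by omega : 1 ≤ Fintype.card F)).2 h2).symm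
        rw [h3, orderOf_one] at hord
        omega
    rw [hz1, one_smul] at hz
    have hx1 : x.1 ≠ 1 := fun e => hns 1 (by rw [e, one_smul])
    obtain ⟨h, P, hP, hh⟩ := LBSinger.exists_conj p hk hnp hK one_ne_zero hz
      (LBSinger.charpoly_long p hk (by omega) hnp hord hz hx1)
    refine ⟨P, Subgroup.mem_comap.2 ?_⟩
    have he : Matrix.SpecialLinearGroup.toGL (P⁻¹ * x * P) = h := Units.ext (by rw [one_smul] at hP; exact hP)
    rw [he]; exact hh

end Cfsg.Agent.S5970

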