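import Cfsg.Statements.S5971
import Cfsg.Agent.Lib.LinearBlock.SingerNorm

set_option autoImplicit false
open scoped MatrixGroups
open Cfsg

namespace Cfsg.Agent.S5971

/-- Elements of order 3 of PSL_3(q) and the normalizer of a Singer cycle. Here `T = PSL_n(F)` for a field `F` with `q = p^f` elements (`n ≥ 2`, `(n, q) ≠ (2, 2), (2, 3)`), `k` is a prime dividing `n`, `K` is a subalgebra of the `n × n` matrices that is a field of degree `k` over `F` (an extension-field structure F_{q^k} on `F^n`), and `H` is the subgroup of matrices of determinant 1 normalizing `K` — a subgroup of type GL_{n/k}(q^k) (maximal except in some small cases; maximality is not assumed); Ω is the set of cosets of `H` in `T`, so an element of `T` of prime order `r` (a matrix `x` of determinant 1 with `x^r` scalar, `x` not scalar) fixes a point of Ω when some conjugate of `x` by a matrix of determinant 1 normalizes `K`. Take `n = k = 3` and suppose 3 divides the index of `H`. Then every element of `T` of order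 3 is conjugate in `T` into `H` if and only if `q ≡ 4, 7` or `8 (mod 9)`. -/
theorem result {F : Type*} [Field F] [Fintype F] {p : ℕ} [Fact p.Prime] [CharP F p] {q : ℕ} (hq : Fintype.card F = q)
    (n : ℕ) (hn : n = 3) (k : ℕ) (hk : k.Prime) (hkn : k ∣ n) (K : Subalgebra F (Matrix (Fin n) (Fin n) F)) (hK : Cfsg.Geo.IsFieldSubalgebra k K) (hk3 : k = 3) (hΩ : 3 ∣ ((Cfsg.Geo.subalgebraNormalizer K).comap (Matrix.SpecialLinearGroup.toGL : Matrix.SpecialLinearGroup (Fin n) F →* GL (Fin n) F)).index) :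
    (∀ x : Matrix.SpecialLinearGroup (Fin n) F,
      (∃ z : F, ((x ^ 3 : Matrix.SpecialLinearGroup (Fin n) F) : Matrix (Fin n) (Fin n) F) = z • (1 : Matrix (Fin n) (Fin n) F)) →
      (∀ z : F, (x : Matrix (Fin n) (Fin n) F) ≠ z • (1 : Matrix (Fin n) (Fin n) F)) →
      ∃ P : Matrix.SpecialLinearGroup (Fin n) F, P⁻¹ * x * P ∈ ((Cfsg.Geo.subalgebraNormalizer K).comap (Matrix.SpecialLinearGroup.toGL : Matrix.SpecialLinearGroup (Fin n) F →* GL (Fin n) F))) ↔
    (q % 9 = 4 ∨ q % 9 = 7 ∨ q % 9 = 8) := by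
  open Cfsg.Agent Polynomial Matrix in
  classical
  subst hq hn hk3
  have hk : Nat.Prime 3 := Nat.prime_three
  haveI : Fact (Nat.Prime 3) := ⟨hk⟩
  obtain ⟨q, hq⟩ : ∃ q, q = Fintype.card F := ⟨_, rfl⟩
  rw [← hq]
  have hqpos : 0 < q := hq ▸ Fintype.card_pos
  obtain ⟨f, -, hf⟩ := FiniteField.card F p
  constructor
  · intro hall
    have hval : ∀ x : Matrix.SpecialLinearGroup (Fin 3) F, (x ^ 3 : Matrix.SpecialLinearGroup (Fin 3) F).1 = x.1 ^ 3 :=
      fun x => Matrix.SpecialLinearGroup.coe_pow x 3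
    have hno : ∀ (x' : Matrix.SpecialLinearGroup (Fin 3) F) (z e : F) (w : Fin 3 → F) (g : F[X]),
        x'.1 ^ 3 = z • 1 → w ≠ 0 → x'.1 *ᵥ w = e • w → g ≠ 0 → aeval x'.1 g = 0 → g.natDegree < 3 →
        (∀ t : F, x'.1 ≠ t • 1) → False := by
      intro x' z e w g hz hw hew hg0 hg hdeg hns
      obtain ⟨P, hP⟩ := hall x' ⟨z, (hval x').trans hz⟩ hns
      exact LBSinger.not_all hk hK x' P hz hw hew hg0 hg hdeg (hns e) hP
    by_contra hcon
    by_cases hp : p = 3
    · -- a transvection
      subst hp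
      obtain ⟨x', hx'⟩ : ∃ x' : Matrix.SpecialLinearGroup (Fin 3) F, x'.1 = transvection 0 1 1 :=
        ⟨⟨_, det_transvection_of_ne _ _ (by decide) _⟩, rfl⟩
      have hN : (x'.1 - 1) ^ 2 = 0 := by
        rw [hx', pow_two, transvection, add_sub_cancel_left]
        ext i j; fin_cases i <;> fin_cases j <;> simp [Matrix.mul_apply, Fin.sum_univ_three, Matrix.single]
      refine hno x' 1 1 (Pi.single 0 1) ((X - 1) ^ 2) ?_ ?_ ?_ ?_ ?_ ?_ ?_
      · have h3 : (x'.1 - 1) ^ 3 = 0 := by rw [pow_succ, hN, zero_mul]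
        rw [sub_pow_char_of_commute (p := 3) (Commute.one_right x'.1), one_pow, sub_eq_zero] at h3
        rw [h3, one_smul]
      · intro h; simpa using congrFun h 0
      · rw [hx', one_smul]; ext i; fin_cases i <;> simp [transvection, Matrix.single, mulVec, dotProduct, Fin.sum_univ_three]
      · exact pow_ne_zero _ (by rw [← C_1]; exact X_sub_C_ne_zero 1)
      · rw [map_pow, map_sub, aeval_X, map_one, hN]
      · rw [natDegree_pow, ← C_1, natDegree_X_sub_C]; omega
      · intro t ht
        have := congrFun (congrFun ht 0) 1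
        simp [hx', transvection, Matrix.single] at this
    have h3F : (3 : F) ≠ 0 := fun h => hp ((Nat.prime_dvd_prime_iff_eq Fact.out hk).1 ((CharP.cast_eq_zero_iff F p 3).1 (by exact_mod_cast h)))
    have hq3 : ¬ 3 ∣ q := by
      rw [hq, hf]
      intro h
      exact hp ((Nat.prime_dvd_prime_iff_eq hk Fact.out).1 (hk.dvd_of_dvd_pow h)).symm
    rcases (by omega : q % 9 = 1 ∨ q % 9 = 2 ∨ q % 9 = 5) with h | h25
    · -- elements of order nine
      obtain ⟨g, hg⟩ := IsCyclic.exists_ofOrder_eq_natCard (α := Fˣ)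
      rw [Nat.card_units, Nat.card_eq_fintype_card, ← hq] at hg
      obtain ⟨c, hc⟩ : 9 ∣ q - 1 := by omega
      have hq1 : 1 < q := hq ▸ Fintype.one_lt_card
      obtain ⟨ζ, hζ⟩ : ∃ ζ : F, ζ = ((g ^ c : Fˣ) : F) := ⟨_, rfl⟩
      have ho : orderOf ζ = 9 := by
        rw [hζ, orderOf_units, orderOf_pow_of_dvd (by intro e; subst e; omega) (by rw [hg, hc]; exact dvd_mul_left _ _), hg, hc,
          Nat.mul_div_cancel _ (by omega)]
      have h9 : ζ ^ 9 = 1 := by rw [← ho]; exact pow_orderOf_eq_one ζ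
      have hζ0 : ζ ≠ 0 := fun e => by rw [e, zero_pow (by omega)] at h9; exact zero_ne_one h9
      have h6 : ζ ^ 7 ≠ ζ := fun e => by
        have : ζ ^ 6 = 1 := mul_right_cancel₀ hζ0 (by rw [← pow_succ, one_mul]; exact e)
        exact pow_ne_one_of_lt_orderOf (by omega) (by omega) this
      obtain ⟨x', hx'⟩ : ∃ x' : Matrix.SpecialLinearGroup (Fin 3) F, x'.1 = diagonal ![ζ, ζ, ζ ^ 7] :=
        ⟨⟨diagonal ![ζ, ζ, ζ ^ 7], by rw [det_diagonal, Fin.prod_univ_three]; simp; linear_combination h9⟩, rfl⟩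
      refine hno x' (ζ ^ 3) ζ (Pi.single 0 1) ((X - C ζ) * (X - C (ζ ^ 7))) ?_ ?_ ?_ ?_ ?_ ?_ ?_
      · rw [hx', diagonal_pow, smul_one_eq_diagonal]
        refine congrArg diagonal (funext fun i => ?_)
        fin_cases i <;> simp
        linear_combination (ζ ^ 12 + ζ ^ 3) * h9
      · intro h; simpa using congrFun h 0
      · rw [hx']; ext i; fin_cases i <;> simp
      · exact mul_ne_zero (X_sub_C_ne_zero _) (X_sub_C_ne_zero _)
      · rw [map_mul, map_sub, map_sub, aeval_X, aeval_C, aeval_C, hx', Algebra.algebraMap_eq_smul_one,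
          Algebra.algebraMap_eq_smul_one, smul_one_eq_diagonal, smul_one_eq_diagonal, diagonal_sub, diagonal_sub,
          diagonal_mul_diagonal, ← diagonal_zero]
        refine congrArg diagonal (funext fun i => ?_)
        fin_cases i <;> simp
      · rw [(monic_X_sub_C ζ).natDegree_mul (monic_X_sub_C _), natDegree_X_sub_C, natDegree_X_sub_C]; omega
      · intro t ht
        have a := congrFun (congrFun ht 0) 0
        have b := congrFun (congrFun ht 2) 2
        simp [hx'] at a b
        exact h6 (b.trans a.symm)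
    · -- then three does not divide the index
      obtain ⟨S, hSN, hSn, hSc⟩ := LBSinger.exists_sigma hk hK
      obtain ⟨S', hS'⟩ : ∃ S' : Matrix.SpecialLinearGroup (Fin 3) F, S'.1 = S.1 :=
        ⟨⟨S.1, LBSinger.pow_det (by decide) hSc⟩, rfl⟩
      obtain ⟨H, hH⟩ : ∃ H, H = (Cfsg.Geo.subalgebraNormalizer K).comap
        (Matrix.SpecialLinearGroup.toGL : Matrix.SpecialLinearGroup (Fin 3) F →* GL (Fin 3) F) := ⟨_, rfl⟩
      rw [← hH] at hΩ
      have hSH : S' ∈ H := hH ▸ (Subgroup.mem_comap.2 (by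
        rw [show Matrix.SpecialLinearGroup.toGL S' = S from Units.ext hS']; exact hSN))
      have hS1 : S' ^ 3 = 1 ∧ S' ≠ 1 := by
        refine ⟨Subtype.ext (by rw [Matrix.SpecialLinearGroup.coe_pow, hS', hSn]; rfl), fun e => ?_⟩
        rw [e, Matrix.SpecialLinearGroup.coe_one] at hS'
        rw [← hS', Matrix.charpoly_one, Fintype.card_fin] at hSc
        have h' := congrArg (fun P : F[X] => P.coeff 1) hSc
        rw [show ((X : F[X]) - 1) ^ 3 = X ^ 3 - C 3 * X ^ 2 + C 3 * X - 1 by
          rw [show (C (3 : F)) = 3 from map_ofNat C 3]; ring] at h'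
        simp [coeff_one, coeff_X_pow] at h'
        exact h3F h'
      have hdH : 3 ∣ Nat.card H := by
        have : orderOf (⟨S', hSH⟩ : H) = 3 := orderOf_eq_prime (Subtype.ext hS1.1) fun e => hS1.2 (congrArg Subtype.val e)
        have h' := orderOf_dvd_natCard (⟨S', hSH⟩ : H)
        rw [this] at h'
        exact h'
      have hcard := ClassicalSL.card_sl_mul (ι := Fin 3) (F := F)
      rw [ClassicalSL.card_gl_fin (Nat.card_eq_fintype_card) 3, Nat.card_eq_fintype_card, ← hq, Fin.prod_univ_three] at hcard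
      simp only [Fin.val_zero, Fin.val_one, Fin.val_two, pow_zero, pow_one] at hcard
      obtain ⟨a, ha⟩ := mul_dvd_mul hdH hΩ
      rw [Subgroup.card_mul_index] at ha
      rw [ha] at hcard
      have hz := congrArg (Nat.cast : ℕ → ZMod 9) hcard
      rw [Nat.cast_mul, Nat.cast_mul (3 * 3), show (((3 * 3 : ℕ)) : ZMod 9) = 0 from rfl, zero_mul, mul_zero] at hz
      have h1 : 1 ≤ q ^ 3 := Nat.one_le_pow _ _ hqpos
      have h2 : q ≤ q ^ 3 := Nat.le_self_pow (by omega) q
      have h4 : q ^ 2 ≤ q ^ 3 := Nat.pow_le_pow_right hqpos (by omega)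
      push_cast [Nat.cast_sub h1, Nat.cast_sub h2, Nat.cast_sub h4] at hz
      rcases h25 with h | h <;>
        · rw [← ZMod.natCast_mod, h] at hz
          exact absurd hz (by decide)
  · intro hq9 x ⟨z, hz⟩ hns
    rw [Matrix.SpecialLinearGroup.coe_pow] at hz
    have hp : p ≠ 3 := fun e => by
      subst e
      have : 3 ∣ q := by rw [hq, hf]; exact dvd_pow_self 3 f.ne_zero
      omega
    have h3F : (3 : F) ≠ 0 := fun h => hp ((Nat.prime_dvd_prime_iff_eq Fact.out hk).1 ((CharP.cast_eq_zero_iff F p 3).1 (by exact_mod_cast h)))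
    have hz1 := LBSinger.scalar_three (by rw [← hq]; omega) x.2 hz
    rw [hz1, one_smul] at hz
    obtain ⟨h, P, hP, hh⟩ := LBSinger.exists_conj p hk (Ne.symm hp) hK one_ne_zero hz
      (LBSinger.charpoly_three h3F hz x.2 hns)
    refine ⟨P, Subgroup.mem_comap.2 ?_⟩
    have he : Matrix.SpecialLinearGroup.toGL (P⁻¹ * x * P) = h := Units.ext (by rw [one_smul] at hP; exact hP)
    rw [he]; exact hh

end Cfsg.Agent.S5971

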