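import Cfsg.Statements.S5976
import Cfsg.Agent.Lib.LinearBlock.GUSpMain

set_option autoImplicit false
open scoped MatrixGroups
open Cfsg

namespace Cfsg.Agent.S5976

/-- Elements of prime order of PSp_n(q), q odd, and the subgroups of type GU_{n/2}(q). Here `T = PSp_{2d}(F)` for a field `F` with `q` elements, `q` odd, `d ≥ 2`, realised through the matrices preserving the standard alternating form `f`; `K` is a subalgebra of the `2d × 2d` matrices that is a field of degree 2 over `F`, closed under taking adjoints for `f` but not consisting of self-adjoint elements (so `F^{2d}` becomes a `d`-dimensional space over `K ≅ F_{q²}` on which `f` is the trace of a multiple of a non-degenerate hermitian form); `H` is the subgroup of `T` normalizing `K` — the symplectic maps that are `K`-linear or `K`-semilinear, a subgroup of type GU_d(q) (maximality is not assumed). Ω is the set of cosets of `H` in `T`, so an element of `T` of prime order `r` (`x ∈ T` with `x^r` scalar, `x` not scalar)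 fixes a point of Ω exactly when some `T`-conjugate of `x` normalizes `K`. Let `r` be a prime dividing the index of `H`. Then every element of `T` of order `r` fixes a point of Ω if and only if `r = 2`. -/
theorem result {F : Type*} [Field F] [Fintype F] {p : ℕ} [Fact p.Prime] [CharP F p] {q : ℕ} (hq : Fintype.card F = q)
    (hodd : Odd q) (d : ℕ) (hd : 2 ≤ d)
    (K : Subalgebra F (Matrix (Fin d ⊕ Fin d) (Fin d ⊕ Fin d) F)) (hK : Cfsg.Geo.IsFieldSubalgebra 2 K)
    (hKf : Cfsg.Geo.IsAdjointClosedFor (Cfsg.sympForm d F) K) (hKns : ¬ Cfsg.Geo.IsSelfAdjointFor (Cfsg.sympForm d F) K)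
    (r : ℕ) [Fact r.Prime]
    (hΩ : r ∣ (Cfsg.Geo.subalgebraNormalizer K).relIndex (Cfsg.spGL d F)) :
    (∀ x ∈ Cfsg.spGL d F, (∃ z : F, ((x ^ r : GL (Fin d ⊕ Fin d) F) : Matrix (Fin d ⊕ Fin d) (Fin d ⊕ Fin d) F) = z • (1 : Matrix (Fin d ⊕ Fin d) (Fin d ⊕ Fin d) F)) →
      (∀ z : F, (x : Matrix (Fin d ⊕ Fin d) (Fin d ⊕ Fin d) F) ≠ z • (1 : Matrix (Fin d ⊕ Fin d) (Fin d ⊕ Fin d) F)) →
      ∃ g ∈ Cfsg.spGL d F, g⁻¹ * x * g ∈ Cfsg.Geo.subalgebraNormalizer K) ↔ r = 2 := by
  classical
  have hr : r.Prime := Fact.out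
  have hodd' : Odd (Fintype.card F) := hq ▸ hodd
  have hp2 : p ≠ 2 := fun e => by
    subst e
    have := FiniteField.even_card_iff_char_two.1 (ringChar.eq F 2)
    rw [Nat.odd_iff] at hodd'
    omega
  have h2 : (2 : F) ≠ 0 := Ring.two_ne_zero (fun e => hp2 ((ringChar.eq F p) ▸ e))
  constructor
  · intro hall
    by_contra hr2
    obtain ⟨ι, hι, δ, hδ, hsk, hgen⟩ := LBGUSp.exists_skew h2 hK hKf hKns
    obtain ⟨A, hA, hAr, hAc⟩ : ∃ A : Matrix (Fin d ⊕ Fin d) (Fin d ⊕ Fin d) F,
        A * LBRegForm.adj (Matrix.J (Fin d) F) A = 1 ∧ A ^ r = 1 ∧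
          ∀ (δ : F), ¬ IsSquare δ → ∀ ι, LBGUSp.IsSkewRoot δ ι → ι * A ≠ A * ι := by
      by_cases hrp : r = p
      · subst hrp
        exact LBGUSp.transvection_witness h2 (by omega) r
      · have hdvd := LBGUSp.index_dvd hq h2 hK hKf hKns
        have hrq : ¬ r ∣ q := fun h => hrp (by
          obtain ⟨k, -, hk⟩ := FiniteField.card F p
          rw [hq] at hk
          rw [hk] at h
          exact (Nat.prime_dvd_prime_iff_eq hr Fact.out).1 (hr.dvd_of_dvd_pow h))
        have hrpow : ¬ r ∣ q ^ (d * d) := fun h => hrq (hr.dvd_of_dvd_pow h)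
        obtain ⟨i, hi, hid⟩ := hr.prime.exists_mem_finset_dvd ((hr.dvd_mul.1 (hΩ.trans hdvd)).resolve_left hrpow)
        rw [Finset.mem_range] at hi
        refine LBGUSp.exists_witness p hodd' hr2 hrp ?_
        rw [hq]
        have hq1 : 1 ≤ q ^ (i + 1) := Nat.one_le_pow _ _ (hq ▸ Fintype.card_pos)
        by_cases he : Even i
        · rw [if_pos he] at hid
          have h1 : (q : ZMod r) ^ (i + 1) = 1 := by
            have := (ZMod.natCast_eq_natCast_iff _ _ _).2 ((Nat.modEq_iff_dvd' hq1).2 hid).symm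
            rwa [Nat.cast_pow, Nat.cast_one] at this
          have hd' := orderOf_dvd_of_pow_eq_one h1
          exact Or.inl ⟨Odd.of_dvd_nat he.add_one hd', (Nat.le_of_dvd (by omega) hd').trans (by omega)⟩
        · rw [if_neg he] at hid
          have h1 : (q : ZMod r) ^ (i + 1) = -1 := by
            have h0 := (ZMod.natCast_eq_zero_iff _ r).2 hid
            push_cast at h0
            linear_combination h0
          have h3 : (q : ZMod r) ^ (i + 1) ≠ 1 := by
            rw [h1]
            intro e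
            have : ((2 : ℕ) : ZMod r) = 0 := by push_cast; linear_combination -e
            rw [ZMod.natCast_eq_zero_iff] at this
            exact hr2 ((Nat.prime_dvd_prime_iff_eq hr Nat.prime_two).1 this)
          have hd' : orderOf (q : ZMod r) ∣ 2 * (i + 1) := orderOf_dvd_of_pow_eq_one (by
            rw [pow_mul', h1, neg_one_sq])
          refine Or.inr ⟨?_, (Nat.le_of_dvd (by omega) hd').trans (by omega)⟩
          by_contra h4
          refine h3 (orderOf_dvd_iff_pow_eq_one.1 ?_)
          obtain ⟨m, hm⟩ : Even (i + 1) := Nat.even_add_one.2 he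
          by_cases hev : Even (orderOf (q : ZMod r))
          · obtain ⟨o, ho⟩ := hev
            have hoodd : Odd o := Nat.not_even_iff_odd.1 fun ⟨c, hc⟩ => h4 ⟨c, by omega⟩
            rw [ho, ← two_mul] at hd' ⊢
            have := Nat.dvd_of_mul_dvd_mul_left two_pos hd'
            exact (Nat.coprime_two_left.2 hoodd).mul_dvd_of_dvd_of_dvd ⟨m, by omega⟩ this
          · exact (Nat.coprime_two_right.2 (Nat.not_even_iff_odd.1 hev)).dvd_of_dvd_mul_left hd'
    let x : GL (Fin d ⊕ Fin d) F := ⟨A, LBRegForm.adj (Matrix.J (Fin d) F) A, hA, mul_eq_one_comm.1 hA⟩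
    have hxS : x ∈ Cfsg.spGL d F := (LBGUSp.spGL_iff x).2 hA
    obtain ⟨g, hg, hgN⟩ := hall x hxS ⟨1, by rw [Units.val_pow_eq_pow_val, one_smul]; exact hAr⟩ fun z hz => by
      have hz' : A = z • 1 := hz
      refine hAc δ hδ ι hsk ?_
      rw [hz', mul_smul_comm, smul_mul_assoc, mul_one, one_mul]
    have hym : g⁻¹ * x * g ∈ Cfsg.spGL d F := mul_mem (mul_mem (inv_mem hg) hxS) hg
    have hxr : x ^ r = 1 := Units.ext (by rw [Units.val_pow_eq_pow_val]; exact hAr)
    have hyr : (g⁻¹ * x * g) ^ r = 1 := by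
      have := conj_pow (i := r) (a := g⁻¹) (b := x)
      rw [inv_inv] at this
      rw [this, hxr, mul_one, inv_mul_cancel]
    have hcom := LBGUSp.commute_of_normalizes h2 hδ hsk hι hgen (by omega) ((LBGUSp.spGL_iff _).1 hym) hgN
      (hr.odd_of_ne_two hr2) hyr
    have hga := (LBGUSp.spGL_iff g).1 hg
    have hginv : (g⁻¹).1 = LBRegForm.adj (Matrix.J (Fin d) F) g.1 := by
      calc (g⁻¹).1 = (g⁻¹).1 * (g.1 * LBRegForm.adj (Matrix.J (Fin d) F) g.1) := by rw [hga, mul_one]
        _ = LBRegForm.adj (Matrix.J (Fin d) F) g.1 := by rw [← mul_assoc, Units.inv_mul, one_mul]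
    refine hAc δ hδ (g.1 * ι * (g⁻¹).1) ⟨?_, ?_⟩ ?_
    · rw [show g.1 * ι * (g⁻¹).1 * (g.1 * ι * (g⁻¹).1) = g.1 * (ι * ((g⁻¹).1 * g.1) * ι) * (g⁻¹).1 by
        simp only [mul_assoc], Units.inv_mul, mul_one, hsk.1, mul_smul_comm, mul_one, smul_mul_assoc, Units.mul_inv]
    · rw [hginv, LBRegForm.adj_mul (Matrix.J_squared _ _), LBRegForm.adj_mul (Matrix.J_squared _ _),
        LBRegForm.adj_adj (Matrix.J_squared _ _) (Matrix.J_transpose _ _), hsk.2, neg_mul, mul_neg, mul_assoc]
    · have e := congrArg (fun M => g.1 * M * (g⁻¹).1) hcom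
      show g.1 * ι * (g⁻¹).1 * x.1 = x.1 * (g.1 * ι * (g⁻¹).1)
      simpa [mul_assoc, Units.val_mul] using e
  · rintro rfl x hx ⟨z, hz⟩ -
    exact LBGUSp.exists_conj_normalizes hp2 (by omega) h2 hK hKf hKns x hx (z := z)
      (by rw [← hz, Units.val_pow_eq_pow_val, pow_two])

end Cfsg.Agent.S5976

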