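import Cfsg.Statements.S5983
import Cfsg.Agent.Lib.LinearBlock.SpOrthElusive

set_option autoImplicit false
open scoped MatrixGroups
open Cfsg

namespace Cfsg.Agent.S5983

/-- Elements of prime order of PSp_n(q), q even, and the subgroups of orthogonal type. Here `T = Sp_{2d}(F)` for a field `F` of characteristic 2 with `q` elements (`d ≥ 2`, `(d, q) ≠ (2, 2)`), realised as the invertible matrices preserving the standard alternating form; `Q` is a non-degenerate quadratic form on `F^{2d}` whose polar form is that alternating form, and `H` is the subgroup of `T` preserving `Q` up to a scalar (equivalently preserving `Q`) — a subgroup of type O^±_{2d}(q) (maximality is not assumed); `Q` is of plus type when `F^{2d}` contains a `d`-dimensional subspace on which `Q` vanishes, of minus type otherwise. Ω is the set of cosets of `H` in `T`, so an element of `T` of prime order `r` (`x ∈ T` with `x^r` scalar, `x` not scalar) fixes a point of Ω exactly when some `T`-conjugate of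 `x` preserves `Q`. Let `r` be a prime dividing the index of `H`. Then every element of `T` of order `r` fixes a point of Ω if and only if `r = 2` and either `Q` is of plus type or `d` is odd. -/
theorem result {F : Type*} [Field F] [Fintype F] {p : ℕ} [Fact p.Prime] [CharP F p] {q : ℕ} (hq : Fintype.card F = q)
    (hp : p = 2) (d : ℕ) (hd : 2 ≤ d) (hT : (d, q) ≠ (2, 2)) (Q : (Fin d ⊕ Fin d → F) → F) (hQ : Cfsg.Geo.IsNondegenerateQuadraticForm Q)
    (hQf : ∀ u v, QuadraticMap.polar Q u v = Cfsg.sympForm d F u v)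
    (r : ℕ) [Fact r.Prime]
    (hΩ : r ∣ (Cfsg.Geo.quadSimilarityGroup Q).relIndex (Cfsg.spGL d F)) :
    (∀ x ∈ Cfsg.spGL d F, (∃ z : F, ((x ^ r : GL (Fin d ⊕ Fin d) F) : Matrix (Fin d ⊕ Fin d) (Fin d ⊕ Fin d) F) = z • (1 : Matrix (Fin d ⊕ Fin d) (Fin d ⊕ Fin d) F)) →
      (∀ z : F, (x : Matrix (Fin d ⊕ Fin d) (Fin d ⊕ Fin d) F) ≠ z • (1 : Matrix (Fin d ⊕ Fin d) (Fin d ⊕ Fin d) F)) →
      ∃ g ∈ Cfsg.spGL d F, g⁻¹ * x * g ∈ Cfsg.Geo.quadSimilarityGroup Q) ↔
    (r = 2 ∧ (Cfsg.Geo.IsPlusTypeOn Q ⊤ ∨ Odd d)) := by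
  open Cfsg.Agent Cfsg.Agent.LBSpOrth Cfsg.Agent.LBEven in
  classical
  subst hp
  have hd1 : 1 ≤ d := by omega
  have hB := hQ.polar_bilinear
  obtain ⟨Q', hQ'⟩ : ∃ Q' : QuadraticForm F (Fin d ⊕ Fin d → F), ⇑Q' = Q :=
    ⟨QuadraticMap.ofPolar Q (fun a v => by rw [hQ.smul, smul_eq_mul, pow_two]) hB.add_left
      (fun a v w => by rw [hB.smul_left, smul_eq_mul]), rfl⟩
  subst hQ'
  have hV : Fintype.card (Fin d ⊕ Fin d) = 2 * d := by simp [two_mul]
  have hnd := nondeg_sympForm hQf
  have hplus : Cfsg.Geo.IsPlusTypeOn (⇑Q') (⊤ : Submodule F (Fin d ⊕ Fin d → F)) ↔ IsPlus d Q' := by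
    have hfr : Module.finrank F ↥(⊤ : Submodule F (Fin d ⊕ Fin d → F)) = 2 * d := by
      rw [finrank_top, Module.finrank_fintype_fun_eq_card, hV]
    rw [isPlus_iff hd1 hV hnd]
    constructor
    · rintro ⟨U, -, hU, hU'⟩
      exact ⟨U, hU, by rw [hfr] at hU'; omega⟩
    · rintro ⟨U, hU, hU'⟩
      exact ⟨U, le_top, hU, by rw [hU', hfr]⟩
  obtain ⟨hip, him⟩ := index_eq hd1 hQf
  have hrp : r.Prime := Fact.out
  rw [hplus]
  constructor
  · intro hall
    by_cases hr : r = 2
    · subst hr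
      refine ⟨rfl, or_iff_not_imp_left.2 fun hm => Nat.not_even_iff_odd.1 fun he => ?_⟩
      obtain ⟨c, hc⟩ := he
      obtain ⟨x, hxS, hx2, hx1, hxR⟩ := exists_witness (F := F) (d := d) (c := c) (by omega) hc
      obtain ⟨g, hg, hgm⟩ := hall x hxS ⟨1, by rw [hx2, one_smul, Units.val_one]⟩ (not_scalar hd1 hxS hx1)
      obtain ⟨R, hR, ht, hxR'⟩ := form_of_conj hd1 hQf hxS hg hgm
      exact hm (ht.2 (hxR R hR hxR'))
    · exfalso
      obtain ⟨k, -, hk⟩ := FiniteField.card F 2
      have hq0 : (Fintype.card F : ZMod r) ≠ 0 := by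
        rw [Ne, ZMod.natCast_eq_zero_iff, hk]
        exact fun h => hr ((Nat.prime_dvd_prime_iff_eq hrp Nat.prime_two).1 (hrp.dvd_of_dvd_pow h))
      have hr2 : ¬ r ∣ 2 := fun h => hr ((Nat.prime_dvd_prime_iff_eq hrp Nat.prime_two).1 h)
      have hcast : ∀ e, (Cfsg.Geo.quadSimilarityGroup (⇑Q')).relIndex (Cfsg.spGL d F) * 2 = Fintype.card F ^ d * e →
          (e : ZMod r) = 0 := fun e he => by
        have h := congrArg (Nat.cast : ℕ → ZMod r) he
        rw [Nat.cast_mul, (ZMod.natCast_eq_zero_iff _ r).2 hΩ, zero_mul, Nat.cast_mul, Nat.cast_pow, eq_comm, mul_eq_zero] at h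
        exact h.resolve_left (pow_ne_zero _ hq0)
      obtain ⟨i, hi⟩ : ∃ i, i = orderOf (Fintype.card F : ZMod r) := ⟨_, rfl⟩
      haveI : Fact (2 < r) := ⟨lt_of_le_of_ne hrp.two_le (Ne.symm hr)⟩
      have hi0 : 0 < i := by
        rw [hi, orderOf_pos_iff, isOfFinOrder_iff_pow_eq_one]
        exact ⟨r - 1, by have := hrp.two_le; omega, ZMod.pow_card_sub_one_eq_one hq0⟩
      have hsq : ((Fintype.card F : ZMod r) ^ d) ^ 2 = 1 ∧ (IsPlus d Q' → (Fintype.card F : ZMod r) ^ d = -1) ∧
          (¬ IsPlus d Q' → (Fintype.card F : ZMod r) ^ d = 1) := by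
        have h1 : IsPlus d Q' → (Fintype.card F : ZMod r) ^ d = -1 := fun hp => by
          have := hcast _ (hip hp)
          push_cast at this
          linear_combination this
        have h2 : ¬ IsPlus d Q' → (Fintype.card F : ZMod r) ^ d = 1 := fun hp => by
          have := hcast _ (him hp)
          rw [Nat.cast_sub (Nat.one_le_pow _ _ Fintype.card_pos)] at this
          push_cast at this
          linear_combination this
        refine ⟨?_, h1, h2⟩
        by_cases hp : IsPlus d Q'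
        · rw [h1 hp]; ring
        · rw [h2 hp]; ring
      have hdvd : i ∣ 2 * d := by
        rw [hi, orderOf_dvd_iff_pow_eq_one, mul_comm, pow_mul]; exact hsq.1
      have hodd : Odd i → i ∣ d := fun ho => (Nat.Coprime.dvd_of_dvd_mul_left (Nat.coprime_two_right.2 ho) hdvd)
      obtain ⟨x, hxS, hxr, hx1, hxX⟩ := exists_fpf (F := F) (r := r) hr hd1 hi hdvd hodd
      obtain ⟨g, hg, hgm⟩ := hall x hxS ⟨1, by rw [hxr, one_smul, Units.val_one]⟩ (not_scalar hd1 hxS hx1)
      obtain ⟨R, hR, ht, hxR⟩ := form_of_conj hd1 hQf hxS hg hgm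
      haveI : Fact (Nat.Prime 2) := ⟨Nat.prime_two⟩
      have hT := LBEvenRoot.type_iff 2 hrp hr hr hi hd1 hV (nondeg_sympForm hR) hxR
        (by rw [← Units.val_pow_eq_pow_val, hxr, Units.val_one]) hxX
      rw [← ht] at hT
      obtain ⟨s, hs⟩ := hdvd
      have hdiv : 2 * d / i = s := by rw [hs, Nat.mul_div_cancel_left _ hi0]
      by_cases he : Even i
      · obtain ⟨k', hk'⟩ := he
        have hds : d = k' * s := by
          have : 2 * d = 2 * (k' * s) := by rw [hs, hk']; ring
          omega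
        have hxk : (Fintype.card F : ZMod r) ^ k' = -1 := by
          have h2 : ((Fintype.card F : ZMod r) ^ k') ^ 2 = 1 := by
            rw [← pow_mul, show k' * 2 = orderOf (Fintype.card F : ZMod r) by omega, pow_orderOf_eq_one]
          exact (sq_eq_one_iff.1 h2).resolve_left (pow_ne_one_of_lt_orderOf (by omega) (by omega))
        have hpow : (Fintype.card F : ZMod r) ^ d = (-1) ^ s := by rw [hds, pow_mul, hxk]
        by_cases hp : IsPlus d Q'
        · have hev : Even s := hdiv ▸ hT.1 hp ⟨k', hk'⟩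
          have := hsq.2.1 hp
          rw [hpow, hev.neg_one_pow] at this
          exact ZMod.neg_one_ne_one this.symm
        · have hev : ¬ Even s := fun e => hp (hT.2 fun _ => hdiv.symm ▸ e)
          have := hsq.2.2 hp
          rw [hpow, (Nat.not_even_iff_odd.1 hev).neg_one_pow] at this
          exact ZMod.neg_one_ne_one this
      · have hp : IsPlus d Q' := hT.2 fun h => absurd h he
        have h1 : (Fintype.card F : ZMod r) ^ d = 1 := orderOf_dvd_iff_pow_eq_one.1 (hi ▸ hodd (Nat.not_even_iff_odd.1 he))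
        exact ZMod.neg_one_ne_one (n := r) ((hsq.2.1 hp).symm.trans h1)
  · rintro ⟨rfl, hcase⟩ x hxS hz hns
    have hx2 := pow_eq_of_scalar hd1 hxS hz
    have key : ∀ g ∈ Cfsg.spGL d F, (∀ v, Q' (Matrix.mulVec (g⁻¹ * x * g).1 v) = Q' v) →
        ∃ g ∈ Cfsg.spGL d F, g⁻¹ * x * g ∈ Cfsg.Geo.quadSimilarityGroup (⇑Q') :=
      fun g hg h => ⟨g, hg, 1, fun v => by rw [Units.val_one, one_mul]; exact h v⟩
    by_cases hp : IsPlus d Q'
    · obtain ⟨R, hR, hxR, ht⟩ := involution_plus hd1 hxS hx2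
      obtain ⟨g, hg, h⟩ := conj_mem hQf hR (iff_of_true hp ht) hxR
      exact key g hg h
    · obtain ⟨R, hR, hxR, ht⟩ := involution_minus hd1 (hcase.resolve_left hp) hxS hx2
      obtain ⟨g, hg, h⟩ := conj_mem hQf hR (iff_of_false hp ht) hxR
      exact key g hg h

end Cfsg.Agent.S5983

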