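import Cfsg.Statements.S5984
import Cfsg.Agent.Lib.LinearBlock.SUPairWitness

set_option autoImplicit false
open scoped MatrixGroups
open Cfsg

namespace Cfsg.Agent.S5984

/-- Elements of prime order of PSU_n(q) and the stabilizers of pairs of complementary totally singular subspaces. Here `T = PSU_n(q)` is realised through `SU_n(q)`, the matrices of determinant 1 over the field `F` with `q²` elements preserving the hermitian form `Σ uᵢ vᵢ^q`, with `n ≥ 4` even; `D` is a pair of complementary subspaces of dimension `n/2` on each of which the form vanishes identically, and `H` is the subgroup of `SU_n(q)` fixing or interchanging the two members — a subgroup of type GL_{n/2}(q²).2 (maximality is not assumed). Ω is the set of cosets of `H`, so an element of `T` of prime order `r` (`x ∈ SU_n(q)` with `x^r` scalar, `x` not scalar) fixes a point of Ω exactly when some `SU_n(q)`-conjugate of `x` lies in `H`. Let `r` be a prime dividing the index of `H`. Then every element of `T` of order `r` fixes a point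 of Ω if and only if `r = 2`, `q` is odd and `(q + 1)_2 ≤ (n)_2` (2-parts). -/
theorem result {F : Type*} [Field F] [Fintype F] {p : ℕ} [Fact p.Prime] [CharP F p] {q : ℕ} (hq : Fintype.card F = q ^ 2)
    (n : ℕ) (hn : 4 ≤ n) (he : Even n) (D : Fin 2 → Submodule F (Fin n → F)) (hD : Cfsg.Geo.IsMDecomposition (n / 2) D)
    (hDs : ∀ i, Cfsg.Geo.IsTotallySingularFor (Cfsg.hermForm n F q) (D i))
    (r : ℕ) [Fact r.Prime]
    (hΩ : r ∣ (Cfsg.Geo.decompositionStabilizer D).relIndex (Cfsg.GU n F q ⊓ Cfsg.Geo.specialLinear (Fin n) F)) :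
    (∀ x ∈ Cfsg.GU n F q ⊓ Cfsg.Geo.specialLinear (Fin n) F, (∃ z : F, ((x ^ r : GL (Fin n) F) : Matrix (Fin n) (Fin n) F) = z • (1 : Matrix (Fin n) (Fin n) F)) →
      (∀ z : F, (x : Matrix (Fin n) (Fin n) F) ≠ z • (1 : Matrix (Fin n) (Fin n) F)) →
      ∃ g ∈ Cfsg.GU n F q ⊓ Cfsg.Geo.specialLinear (Fin n) F, g⁻¹ * x * g ∈ Cfsg.Geo.decompositionStabilizer D) ↔
    (r = 2 ∧ Odd q ∧ padicValNat 2 (q + 1) ≤ padicValNat 2 n) := by
  classical
  obtain ⟨σ, hS⟩ := LBSUPair.exists_frob hq
  obtain ⟨m, hm⟩ := he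
  have hm2 : 2 ≤ m := by omega
  have hD' : Cfsg.Geo.IsMDecomposition m D := by rwa [show n / 2 = m by omega] at hD
  have hqp : Odd q ↔ p ≠ 2 := by
    constructor
    · rintro h rfl
      have h1 : Fintype.card F % 2 = 0 := FiniteField.even_card_iff_char_two.1 (ringChar.eq F 2)
      rw [hq] at h1
      exact Nat.not_even_iff_odd.2 h.pow (Nat.even_iff.2 h1)
    · intro h
      by_contra hc
      rw [Nat.not_odd_iff_even] at hc
      exact h ((ringChar.eq F p).symm.trans (FiniteField.even_card_iff_char_two.2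
        (Nat.even_iff.1 (hq ▸ Nat.even_pow.2 ⟨hc, two_ne_zero⟩))))
  constructor
  · intro hall
    by_contra hnot
    obtain ⟨x, hx, hxz, hns, hg⟩ := LBSUPair.exists_derangement hS p hm hm2 hD' hDs hΩ
      (fun h => hnot ⟨h.1, hqp.2 h.2.1, h.2.2⟩)
    obtain ⟨g, hgm, hgN⟩ := hall x hx hxz hns
    exact hg g hgm hgN
  · rintro ⟨rfl, hodd, hle⟩ x hx hxz -
    exact LBSUPair.fixes hS p (hqp.1 hodd) hm (by omega) hD' hDs hle hx hxz

end Cfsg.Agent.S5984

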