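import Cfsg.Statements.S5985
import Cfsg.Agent.Lib.LinearBlock.OrthPointElusive

set_option autoImplicit false
open scoped MatrixGroups
open Cfsg

namespace Cfsg.Agent.S5985

/-- Elements of prime order of Ω⁺_n(q), q even, with no fixed nonsingular 1-space. Here `T = PΩ⁺_n(F)`, `n = 2d ≥ 8`, realised through `Ω⁺_n(q)`, the commutator subgroup of the isometry group of `Q = Σ xᵢyᵢ` over the field `F` with `q` elements; an element of `T` of prime order `r` is an element `x` of `Ω⁺_n(q)` with `x^r` scalar and `x` not scalar; `q` is even (so the centre is trivial). Let Ω be the set of 1-dimensional subspaces spanned by a vector `v` with `Q(v) ≠ 0`, and let `r` be a prime dividing their number. Then every element of `T` of order `r` fixes some nonsingular 1-space if and only if `r = 2` and `n ≡ 2 (mod 4)` (that is, `d` is odd). -/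
theorem result {F : Type*} [Field F] [Fintype F] {p : ℕ} [Fact p.Prime] [CharP F p] {q : ℕ} (hq : Fintype.card F = q)
    (hp : p = 2) (d : ℕ) (hd : 4 ≤ d) (r : ℕ) [Fact r.Prime]
    (hrΩ : r ∣ Nat.card {W : Submodule F (Fin d ⊕ Fin d → F) // Module.finrank F ↥W = 1 ∧ ∃ v ∈ W, Cfsg.quadFormPlus d F v ≠ 0}) :
    (∀ x : GL (Fin d ⊕ Fin d) F, x ∈ Cfsg.Geo.omegaGL (Cfsg.quadFormPlus d F) →
      (∃ z : F, ((x ^ r : GL (Fin d ⊕ Fin d) F) : Matrix (Fin d ⊕ Fin d) (Fin d ⊕ Fin d) F) = z • (1 : Matrix (Fin d ⊕ Fin d) (Fin d ⊕ Fin d) F)) →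
      (∀ z : F, (x : Matrix (Fin d ⊕ Fin d) (Fin d ⊕ Fin d) F) ≠ z • (1 : Matrix (Fin d ⊕ Fin d) (Fin d ⊕ Fin d) F)) →
      ∃ W : Submodule F (Fin d ⊕ Fin d → F), (Module.finrank F ↥W = 1 ∧ ∃ v ∈ W, Cfsg.quadFormPlus d F v ≠ 0) ∧ W.map (Matrix.toLin' (x : Matrix (Fin d ⊕ Fin d) (Fin d ⊕ Fin d) F)) ≤ W) ↔ (r = 2 ∧ Odd d) := by
  open Cfsg.Agent in
  classical
  subst hp
  subst hq
  rw [← Orth.coe_qPlus] at hrΩ ⊢
  have hd1 : 1 ≤ d := by omega
  have hnd := Orth.qPlus_nondeg (F := F) d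
  have hι : Fintype.card (Fin d ⊕ Fin d) = 2 * d := by simp [two_mul]
  have hP : LBEven.IsPlus d (Orth.qPlus F d) := ⟨LinearEquiv.refl F _, fun v => rfl⟩
  haveI : Nonempty (Fin d ⊕ Fin d) := ⟨Sum.inl ⟨0, by omega⟩⟩
  constructor
  · intro hall
    by_cases hr : r = 2
    · subst hr
      refine ⟨rfl, Nat.not_even_iff_odd.1 fun he => ?_⟩
      obtain ⟨c, rfl⟩ := he
      obtain ⟨x, hx, hx2, hx1, hfix⟩ := LBPoint.exists_omega_witness (F := F) (c := c) (by omega)
      obtain ⟨W, ⟨hW, hv⟩, hmap⟩ := hall x hx ⟨1, by rw [hx2, one_smul, Units.val_one]⟩ (fun z hz => hx1 (Units.ext (by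
        rw [hz, LBPoint.scalar_one hnd (LBPoint.mem_omega hx) hz, one_smul, Units.val_one])))
      obtain ⟨v, hv, hQv⟩ := LBPoint.fixed_of_point (LBPoint.mem_omega hx) hW hv hmap
      exact hQv (hfix v hv)
    · exfalso
      obtain ⟨k, rfl⟩ : ∃ k, d = k + 1 := ⟨d - 1, by omega⟩
      obtain ⟨hc2, hz⟩ := And.intro (LBPoint.card_points (Q := Orth.qPlus F (k + 1))) (Orth.zeros_qPlus (F := F) k)
      rw [hι] at hc2
      rw [Nat.card_eq_fintype_card (α := F)] at hz
      have hN := congrArg (Nat.cast : ℕ → ZMod r) hc2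
      have hZ := congrArg (Nat.cast : ℕ → ZMod r) hz
      rw [Nat.cast_add, Nat.cast_mul, (ZMod.natCast_eq_zero_iff _ r).2 hrΩ, zero_mul, zero_add] at hN
      rw [Nat.cast_add, hN] at hZ
      push_cast at hZ
      obtain ⟨e, -, he⟩ := FiniteField.card F 2
      have hq0 : (Fintype.card F : ZMod r) ≠ 0 := by
        rw [Ne, ZMod.natCast_eq_zero_iff, he]
        exact fun h => hr ((Nat.prime_dvd_prime_iff_eq Fact.out Nat.prime_two).1 ((Fact.out : r.Prime).dvd_of_dvd_pow h))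
      by_cases hq1 : (Fintype.card F : ZMod r) = 1
      · have hd' : (Fintype.card F : ZMod r) ^ (k + 1) = 1 := by rw [hq1, one_pow]
        obtain ⟨x, hx, hs1, hs2, hno⟩ := LBPoint.not_all_odd hr hd1 hι hnd (Or.inl hd') (iff_of_true hP hd')
        exact hno (hall x hx hs1 hs2)
      · have hd' : (Fintype.card F : ZMod r) ^ (k + 1) = 1 := by
          have h1 : (Fintype.card F : ZMod r) ^ k * ((Fintype.card F : ZMod r) - 1) * ((Fintype.card F : ZMod r) ^ (k + 1) - 1) = 0 := by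
            linear_combination hZ
          have h2 := (mul_eq_zero.1 h1).resolve_left (mul_ne_zero (pow_ne_zero _ hq0) (sub_ne_zero.2 hq1))
          exact sub_eq_zero.1 h2
        obtain ⟨x, hx, hs1, hs2, hno⟩ := LBPoint.not_all_odd hr hd1 hι hnd (Or.inl hd') (iff_of_true hP hd')
        exact hno (hall x hx hs1 hs2)
  · rintro ⟨rfl, hodd⟩ x hx ⟨z, hz⟩ hns
    have hx2 : x ^ 2 = 1 := Units.ext (by
      rw [hz, LBPoint.scalar_one hnd (LBPoint.mem_omega (pow_mem hx 2)) hz, one_smul, Units.val_one])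
    obtain ⟨v, hv, hQv⟩ := LBPoint.involution_fix hd1 hι hnd (fun _ => hodd) (LBPoint.mem_omega hx) hx2
    exact LBPoint.point_of_fixed hv hQv

end Cfsg.Agent.S5985

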