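import Cfsg.Statements.S5986
import Cfsg.Agent.Lib.LinearBlock.OrthPointElusive

set_option autoImplicit false
open scoped MatrixGroups
open Cfsg

namespace Cfsg.Agent.S5986

/-- Elements of prime order of Ω⁻_n(q), q even, with no fixed nonsingular 1-space. Here `T = PΩ⁻_n(F)`, `n = 2d ≥ 8`, realised through `Ω⁻_n(q)`, the commutator subgroup of the isometry group of `Q = Σ_{i<d−1} xᵢyᵢ + z₁² + a z₁z₂ + b z₂²` with `z₁² + a z₁z₂ + b z₂²` anisotropic, over the field `F` with `q` elements; an element of `T` of prime order `r` is an element `x` of `Ω⁻_n(q)` with `x^r` scalar and `x` not scalar; `q` is even (so the centre is trivial). Let Ω be the set of 1-dimensional subspaces spanned by a vector `v` with `Q(v) ≠ 0`, and let `r` be a prime dividing their number. Then every element of `T` of order `r` fixes some nonsingular 1-space if and only if `r = 2`. -/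
theorem result {F : Type*} [Field F] [Fintype F] {p : ℕ} [Fact p.Prime] [CharP F p] {q : ℕ} (hq : Fintype.card F = q)
    (hp : p = 2) (d : ℕ) (hd : 4 ≤ d) (a b : F) (hab : ∀ x y : F, x ^ 2 + a * x * y + b * y ^ 2 = 0 → x = 0 ∧ y = 0) (r : ℕ) [Fact r.Prime]
    (hrΩ : r ∣ Nat.card {W : Submodule F ((Fin (d - 1) ⊕ Fin (d - 1)) ⊕ Fin 2 → F) // Module.finrank F ↥W = 1 ∧ ∃ v ∈ W, Cfsg.quadFormMinus (d - 1) F a b v ≠ 0}) :
    (∀ x : GL ((Fin (d - 1) ⊕ Fin (d - 1)) ⊕ Fin 2) F, x ∈ Cfsg.Geo.omegaGL (Cfsg.quadFormMinus (d - 1) F a b) →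
      (∃ z : F, ((x ^ r : GL ((Fin (d - 1) ⊕ Fin (d - 1)) ⊕ Fin 2) F) : Matrix ((Fin (d - 1) ⊕ Fin (d - 1)) ⊕ Fin 2) ((Fin (d - 1) ⊕ Fin (d - 1)) ⊕ Fin 2) F) = z • (1 : Matrix ((Fin (d - 1) ⊕ Fin (d - 1)) ⊕ Fin 2) ((Fin (d - 1) ⊕ Fin (d - 1)) ⊕ Fin 2) F)) →
      (∀ z : F, (x : Matrix ((Fin (d - 1) ⊕ Fin (d - 1)) ⊕ Fin 2) ((Fin (d - 1) ⊕ Fin (d - 1)) ⊕ Fin 2) F) ≠ z • (1 : Matrix ((Fin (d - 1) ⊕ Fin (d - 1)) ⊕ Fin 2) ((Fin (d - 1) ⊕ Fin (d - 1)) ⊕ Fin 2) F)) →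
      ∃ W : Submodule F ((Fin (d - 1) ⊕ Fin (d - 1)) ⊕ Fin 2 → F), (Module.finrank F ↥W = 1 ∧ ∃ v ∈ W, Cfsg.quadFormMinus (d - 1) F a b v ≠ 0) ∧ W.map (Matrix.toLin' (x : Matrix ((Fin (d - 1) ⊕ Fin (d - 1)) ⊕ Fin 2) ((Fin (d - 1) ⊕ Fin (d - 1)) ⊕ Fin 2) F)) ≤ W) ↔ r = 2 := by
  open Cfsg.Agent in
  classical
  subst hp
  subst hq
  rw [← Orth.coe_qMinus] at hrΩ ⊢
  have hd1 : 1 ≤ d := by omega
  have hnd := Orth.qMinus_nondeg hab (d - 1)
  have hι : Fintype.card ((Fin (d - 1) ⊕ Fin (d - 1)) ⊕ Fin 2) = 2 * d := by simp; omega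
  have hP : ¬ LBEven.IsPlus d (Orth.qMinus F (d - 1) a b) :=
    LBEven.minus_not_plus hd1 hab (LinearEquiv.refl F _) (fun v => rfl)
  constructor
  · intro hall
    by_contra hr
    obtain ⟨k, rfl⟩ : ∃ k, d = k + 1 := ⟨d - 1, by omega⟩
    obtain ⟨hc2, hz⟩ := And.intro (LBPoint.card_points (Q := Orth.qMinus F (k + 1 - 1) a b)) (Orth.zeros_qMinus hab (k + 1 - 1))
    rw [hι] at hc2
    rw [Nat.card_eq_fintype_card (α := F)] at hz
    have hq : 1 < Fintype.card F := Fintype.one_lt_card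
    have hN : Nat.card {W : Submodule F ((Fin (k + 1 - 1) ⊕ Fin (k + 1 - 1)) ⊕ Fin 2 → F) //
        Module.finrank F W = 1 ∧ ∃ v ∈ W, Orth.qMinus F (k + 1 - 1) a b v ≠ 0} = Fintype.card F ^ k * (Fintype.card F ^ (k + 1) + 1) := by
      simp only [Nat.add_sub_cancel] at hz hc2 ⊢
      refine Nat.eq_of_mul_eq_mul_right (show 0 < Fintype.card F - 1 by omega) ?_
      zify [hq.le] at hc2 hz ⊢
      linear_combination hc2 - hz
    have h0 := (ZMod.natCast_eq_zero_iff _ r).2 (hN ▸ hrΩ)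
    push_cast at h0
    obtain ⟨e, -, he⟩ := FiniteField.card F 2
    have hq0 : (Fintype.card F : ZMod r) ≠ 0 := by
      rw [Ne, ZMod.natCast_eq_zero_iff, he]
      exact fun h => hr ((Nat.prime_dvd_prime_iff_eq Fact.out Nat.prime_two).1 ((Fact.out : r.Prime).dvd_of_dvd_pow h))
    have hd' : (Fintype.card F : ZMod r) ^ (k + 1) = -1 := by
      linear_combination (mul_eq_zero.1 h0).resolve_left (pow_ne_zero _ hq0)
    haveI : Fact (2 < r) := ⟨lt_of_le_of_ne (Fact.out : r.Prime).two_le (Ne.symm hr)⟩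
    obtain ⟨x, hx, hs1, hs2, hno⟩ := LBPoint.not_all_odd hr hd1 hι hnd (Or.inr hd') (iff_of_false hP (fun e => ZMod.neg_one_ne_one (hd'.symm.trans e)))
    exact hno (hall x hx hs1 hs2)
  · rintro rfl x hx ⟨z, hz⟩ hns
    have hx2 : x ^ 2 = 1 := Units.ext (by
      rw [hz, LBPoint.scalar_one hnd (LBPoint.mem_omega (pow_mem hx 2)) hz, one_smul, Units.val_one])
    obtain ⟨v, hv, hQv⟩ := LBPoint.involution_fix hd1 hι hnd (fun h => absurd h hP) (LBPoint.mem_omega hx) hx2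
    exact LBPoint.point_of_fixed hv hQv

end Cfsg.Agent.S5986

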