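import Cfsg.Statements.S5989
import Cfsg.Agent.Lib.Elusive.NdFamiliesTwo
-- import your own Cfsg.Agent.* helpers here

set_option autoImplicit false
open scoped MatrixGroups
open Cfsg

namespace Cfsg.Agent.S5989

/-- Elements of prime order of PΩ⁺_n(q), q odd, with no fixed nondegenerate `m`-space of odd dimension. Here `T = PΩ⁺_n(F)`, `n = 2d ≥ 8`, realised through `Ω⁺_n(q)`, the commutator subgroup of the isometry group of `Q = Σ xᵢyᵢ` over the field `F` with `q` elements; an element of `T` of prime order `r` is an element `x` of `Ω⁺_n(q)` with `x^r` scalar and `x` not scalar; `q` and `m` are odd, `1 ≤ m < n/2`. The nondegenerate `m`-spaces (subspaces on which the polar form is nondegenerate) fall into two isometry classes, each an orbit of `T`, and the two actions are equivalent; fix one such space `W₀` and let Ω be the set of nondegenerate `m`-spaces isometric to `W₀` (some linear isomorphism preserves `Q`). Let `r` be a prime dividing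 the size of Ω; for `r ≠ p` let `i` be the multiplicative order of `q` modulo `r`, `c = i` for `i` even and `c = 2i` for `i` odd, and write `k = n mod c`, `ℓ = m mod i`, `ℓ' = m mod c`, `n' = ⌊n/i⌋`, `m' = ⌊m/i⌋`, `t = (r−1)/i`. Then every element of `T` of order `r` fixes a member of Ω if and only if one of: (i) `r = 2`, `n ≡ 2 (mod 4)` and `q ≢ 1 (mod 8)`; (ii) `r ≠ p` odd, `i` odd, `c ≤ m` and `k > ℓ' > 0`; (iii) `r ≠ p` odd, `i` even, and either `k = 0` and `n/i` odd, or `i ≤ m` and `k > ℓ' > 0`. (For `r = p` there is always an element of order `p` fixing no member of Ω.) -/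
theorem result {F : Type*} [Field F] [Fintype F] {p : ℕ} [Fact p.Prime] [CharP F p] {q : ℕ} (hq : Fintype.card F = q)
    (hodd : Odd q) (d m : ℕ) (hd : 4 ≤ d) (hm : Odd m) (hmd : m < d)
    (W₀ : Submodule F (Fin d ⊕ Fin d → F)) (hW₀ : Module.finrank F ↥W₀ = m ∧ Cfsg.Geo.IsNondegenerateOn (QuadraticMap.polar (Cfsg.quadFormPlus d F)) W₀)
    (r : ℕ) [Fact r.Prime]
    (hrΩ : r ∣ Nat.card {W : Submodule F (Fin d ⊕ Fin d → F) // Module.finrank F ↥W = m ∧ Cfsg.Geo.IsNondegenerateOn (QuadraticMap.polar (Cfsg.quadFormPlus d F)) W ∧ Cfsg.Geo.AreIsometricFor (Cfsg.quadFormPlus d F) W W₀})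
    (i c : ℕ) (hi : i = orderOf (q : ZMod r)) (hc : c = if Even i then i else 2 * i) :
    (∀ x : GL (Fin d ⊕ Fin d) F, x ∈ Cfsg.Geo.omegaGL (Cfsg.quadFormPlus d F) →
      (∃ z : F, ((x ^ r : GL (Fin d ⊕ Fin d) F) : Matrix (Fin d ⊕ Fin d) (Fin d ⊕ Fin d) F) = z • (1 : Matrix (Fin d ⊕ Fin d) (Fin d ⊕ Fin d) F)) →
      (∀ z : F, (x : Matrix (Fin d ⊕ Fin d) (Fin d ⊕ Fin d) F) ≠ z • (1 : Matrix (Fin d ⊕ Fin d) (Fin d ⊕ Fin d) F)) →
      ∃ W : Submodule F (Fin d ⊕ Fin d → F), (Module.finrank F ↥W = m ∧ Cfsg.Geo.IsNondegenerateOn (QuadraticMap.polar (Cfsg.quadFormPlus d F)) W ∧ Cfsg.Geo.AreIsometricFor (Cfsg.quadFormPlus d F) W W₀) ∧ W.map (Matrix.toLin' (x : Matrix (Fin d ⊕ Fin d) (Fin d ⊕ Fin d) F)) ≤ W) ↔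
    ((r = 2 ∧ Odd d ∧ q % 8 ≠ 1) ∨
     (r ≠ p ∧ 2 < r ∧ Odd i ∧ c ≤ m ∧ 0 < m % c ∧ m % c < (2 * d) % c) ∨
     (r ≠ p ∧ 2 < r ∧ Even i ∧ (((2 * d) % c = 0 ∧ Odd ((2 * d) / i)) ∨ (i ≤ m ∧ 0 < m % c ∧ m % c < (2 * d) % c)))) := by
  subst hq
  have hfin := hW₀.1
  have hnd := hW₀.2
  rw [← Agent.Orth.coe_qPlus] at hnd hrΩ ⊢
  rw [Elusive.ndq_iff_geo] at hnd
  have hS : ∀ W : Submodule F (Fin d ⊕ Fin d → F), (Module.finrank F ↥W = m ∧ Cfsg.Geo.IsNondegenerateOn (QuadraticMap.polar (⇑(Agent.Orth.qPlus F d))) W ∧ Cfsg.Geo.AreIsometricFor (⇑(Agent.Orth.qPlus F d)) W W₀) ↔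
      Elusive.IsoQ (Agent.Orth.qPlus F d) W W₀ := fun W =>
    ⟨fun h => h.2.2, fun h => ⟨h.finrank.trans hfin, Elusive.ndq_iff_geo.2 (h.symm.ndq hnd), h⟩⟩
  rw [Elusive.ndFix_congr hS r]
  rw [Elusive.even_parabolic (p := p) hodd (Elusive.plus_data (by omega)) ?_ hd hm hmd hnd hfin hi hc
    (by rwa [← Nat.card_congr (Equiv.subtypeEquivRight hS)])]
  swap
  · intro h
    refine Elusive.plus_ones_of (Elusive.two_ne p (Elusive.odd_char (F := F) hodd)) ?_
    rcases h.1 trivial with h | h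
    · exact h.pow d
    · exact ⟨(-1) ^ (d / 2), by rw [← pow_add]; congr 1; obtain ⟨u, rfl⟩ := h; omega⟩
  have hq2 := Nat.odd_iff.1 hodd
  rcases Nat.even_or_odd i with he | ho
  · rw [if_pos he] at hc
    subst hc
    simp only [Elusive.tau_even he, he, Nat.not_odd_iff_even.2 he, false_and, and_false, false_or, true_and, or_false,
      true_iff, iff_true, iff_false, not_not, Nat.not_even_iff_odd, Nat.even_iff, Nat.odd_iff, not_true, not_false_eq_true, and_true]
    omega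
  · rw [if_neg (Nat.not_even_iff_odd.2 ho)] at hc
    simp only [Elusive.tau_odd ho, ho, Nat.not_even_iff_odd.2 ho, false_and, and_false, false_or, true_and, or_false,
      true_iff, iff_true, iff_false, not_not, Nat.even_iff, Nat.odd_iff, not_true, not_false_eq_true, and_true]
    omega


end Cfsg.Agent.S5989
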