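import Cfsg.Statements.S5992
import Cfsg.Agent.Lib.Elusive.NdFamiliesTwo
-- import your own Cfsg.Agent.* helpers here

set_option autoImplicit false
open scoped MatrixGroups
open Cfsg

namespace Cfsg.Agent.S5992

/-- Elements of prime order r ≠ p of Ω_n(q), nq odd, with no fixed hyperbolic `m`-space. Here `T = Ω_n(F)`, `n = 2d+1 ≥ 7`, `q` odd, realised as the commutator subgroup of the isometry group of `Q = x₀² + Σ xᵢyᵢ` over the field `F` with `q` elements (trivial centre, so its elements of prime order `r` are used directly); a nondegenerate `m`-space (even `m`) is a subspace on which the polar form of `Q` is nondegenerate; it is hyperbolic if it contains an `m/2`-dimensional subspace on which `Q` vanishes, elliptic otherwise. Let `m` be even with `2 ≤ m ≤ n − 1` (no restriction `m < n/2`) and let `r ≠ p` be a prime dividing the number of hyperbolic `m`-spaces; for `r ≠ p` let `i` be the multiplicative order of `q` modulo `r`, `c = i` for `i` even and `c =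 2i` for `i` odd, and write `k = n mod c`, `ℓ' = m mod c`. Then every element of `T` of order `r` fixes some hyperbolic `m`-space if and only if `r = 2`, or `r` is odd and one of: (i) `i` odd, `c ≤ m` and either `k > ℓ' > 0` or `ℓ' = 0`; (ii) `i` even, `i ≤ m`, `k > ℓ'`, and `m/i` even whenever `ℓ' = 0`. (`r = p` is not covered by this statement.) -/
theorem result {F : Type*} [Field F] [Fintype F] {p : ℕ} [Fact p.Prime] [CharP F p] {q : ℕ} (hq : Fintype.card F = q) (hqodd : Odd q)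
    (d m : ℕ) (hd : 3 ≤ d) (hm : 2 ≤ m) (hme : Even m) (hmn : m ≤ 2 * d)
    (r : ℕ) [Fact r.Prime] (hrp : r ≠ p)
    (hrΩ : r ∣ Nat.card {W : Submodule F (Unit ⊕ (Fin d ⊕ Fin d) → F) // Module.finrank F ↥W = m ∧ Cfsg.Geo.IsNondegenerateOn (QuadraticMap.polar (Cfsg.quadFormOdd d F)) W ∧ Cfsg.Geo.IsPlusTypeOn (Cfsg.quadFormOdd d F) W})
    (i c : ℕ) (hi : i = orderOf (q : ZMod r)) (hc : c = if Even i then i else 2 * i) :
    (∀ x : GL (Unit ⊕ (Fin d ⊕ Fin d)) F, x ∈ Cfsg.Geo.omegaGL (Cfsg.quadFormOdd d F) → orderOf x = r →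
      ∃ W : Submodule F (Unit ⊕ (Fin d ⊕ Fin d) → F), (Module.finrank F ↥W = m ∧ Cfsg.Geo.IsNondegenerateOn (QuadraticMap.polar (Cfsg.quadFormOdd d F)) W ∧ Cfsg.Geo.IsPlusTypeOn (Cfsg.quadFormOdd d F) W) ∧ W.map (Matrix.toLin' (x : Matrix (Unit ⊕ (Fin d ⊕ Fin d)) (Unit ⊕ (Fin d ⊕ Fin d)) F)) ≤ W) ↔
    (r = 2 ∨
     (2 < r ∧ Odd i ∧ c ≤ m ∧ (m % c = 0 ∨ (0 < m % c ∧ m % c < (2 * d + 1) % c))) ∨
     (2 < r ∧ Even i ∧ i ≤ m ∧ m % c < (2 * d + 1) % c ∧ (0 < m % c ∨ Even (m / i)))) := by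
  subst hq
  obtain ⟨e, he⟩ := hme
  have h2 := Elusive.two_ne (F := F) p (Elusive.odd_char (F := F) hqodd)
  have hQ := Agent.Orth.qOdd_nondeg (F := F) h2 d
  obtain ⟨W₀, hW₀, hd0, hp, hcl⟩ := Elusive.exists_class hQ (e := e) (by omega) (by simp; omega) True
  rw [← Agent.Orth.coe_qOdd] at hrΩ ⊢
  have hS : ∀ W : Submodule F (Unit ⊕ (Fin d ⊕ Fin d) → F), (Module.finrank F ↥W = m ∧ Cfsg.Geo.IsNondegenerateOn (QuadraticMap.polar (⇑(Agent.Orth.qOdd F d))) W ∧ Cfsg.Geo.IsPlusTypeOn (⇑(Agent.Orth.qOdd F d)) W) ↔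
      Elusive.IsoQ (Agent.Orth.qOdd F d) W W₀ := fun W => by
    rw [← hcl W, Elusive.ndq_iff_geo, show m = 2 * e by omega, iff_true, Elusive.plus_iff_geo]
  rw [Elusive.ndFix_congr_order hS hQ h2 (d := d) (by simp; omega) r,
    Elusive.odd_even_sub hqodd hd hm ⟨e, he⟩ hmn hW₀ (by omega) (Or.inl hrp) hi hc
      (by rwa [← Nat.card_congr (Equiv.subtypeEquivRight hS)])]
  simp only [hp, hrp, ne_eq]
  have hk : c % 2 = 0 → (2 * d + 1) % c % 2 = 1 := fun h => by
    rw [Nat.mod_mod_of_dvd _ (Nat.dvd_of_mod_eq_zero h)]; omega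
  rcases Nat.even_or_odd i with hev | ho
  · rw [if_pos hev] at hc
    subst hc
    simp only [Elusive.tau_even hev, hev, Nat.not_odd_iff_even.2 hev, false_and, and_false, false_or, true_and, or_false,
      true_iff, iff_true, iff_false, false_iff, not_not, Nat.even_iff, Nat.odd_iff, not_true, not_false_eq_true, and_true, or_true]
  · rw [if_neg (Nat.not_even_iff_odd.2 ho)] at hc
    simp only [Elusive.tau_odd ho, ho, Nat.not_even_iff_odd.2 ho, false_and, and_false, false_or, true_and, or_false,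
      true_iff, iff_true, iff_false, false_iff, not_not, Nat.even_iff, Nat.odd_iff, not_true, not_false_eq_true, and_true, or_true]
    have := hk (by omega)
    omega

end Cfsg.Agent.S5992
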