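import Cfsg.Statements.S5994
import Cfsg.Agent.Lib.LinearBlock.OrthPartition

set_option autoImplicit false
open scoped MatrixGroups
open Cfsg

namespace Cfsg.Agent.S5994

/-- A necessary condition for every element of order p of PΩ⁻_n(q), q odd, to fix an elliptic `m`-space. Here `T = PΩ⁻_n(F)`, `n = 2d ≥ 8`, realised through `Ω⁻_n(q)`, the commutator subgroup of the isometry group of `Q = Σ_{i<d−1} xᵢyᵢ + z₁² + a z₁z₂ + b z₂²` with `z₁² + a z₁z₂ + b z₂²` anisotropic, over the field `F` with `q` elements; an element of `T` of prime order `r` is an element `x` of `Ω⁻_n(q)` with `x^r` scalar and `x` not scalar; `q` is odd; a nondegenerate `m`-space (even `m`) is a subspace on which the polar form of `Q` is nondegenerate; it is hyperbolic if it contains an `m/2`-dimensional subspace on which `Q` vanishes, elliptic otherwise. Let `m` be even with `2 ≤ m ≤ n − 2` and suppose `p` divides the number of elliptic `m`-spaces. If every element of `T` of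 order `p` fixes some elliptic `m`-space, then `n ≡ m (mod 4)` and every partition of `n` into parts of size at most `p` in which every even part has even multiplicity contains (as a sub-multiset) a partition of `m` in which every even part has even multiplicity. -/
theorem result {F : Type*} [Field F] [Fintype F] {p : ℕ} [Fact p.Prime] [CharP F p] {q : ℕ} (hq : Fintype.card F = q) (hqodd : Odd q)
    (d m : ℕ) (hd : 4 ≤ d) (hm : 2 ≤ m) (hme : Even m) (hmn : m + 2 ≤ 2 * d) (a b : F) (hab : ∀ x y : F, x ^ 2 + a * x * y + b * y ^ 2 = 0 → x = 0 ∧ y = 0)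
    (hpΩ : p ∣ Nat.card {W : Submodule F ((Fin (d - 1) ⊕ Fin (d - 1)) ⊕ Fin 2 → F) // Module.finrank F ↥W = m ∧ Cfsg.Geo.IsNondegenerateOn (QuadraticMap.polar (Cfsg.quadFormMinus (d - 1) F a b)) W ∧ ¬ Cfsg.Geo.IsPlusTypeOn (Cfsg.quadFormMinus (d - 1) F a b) W}) :
    (∀ x : GL ((Fin (d - 1) ⊕ Fin (d - 1)) ⊕ Fin 2) F, x ∈ Cfsg.Geo.omegaGL (Cfsg.quadFormMinus (d - 1) F a b) →
      (∃ z : F, ((x ^ p : GL ((Fin (d - 1) ⊕ Fin (d - 1)) ⊕ Fin 2) F) : Matrix ((Fin (d - 1) ⊕ Fin (d - 1)) ⊕ Fin 2) ((Fin (d - 1) ⊕ Fin (d - 1)) ⊕ Fin 2) F) = z • (1 : Matrix ((Fin (d - 1) ⊕ Fin (d - 1)) ⊕ Fin 2) ((Fin (d - 1) ⊕ Fin (d - 1)) ⊕ Fin 2) F)) →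
      (∀ z : F, (x : Matrix ((Fin (d - 1) ⊕ Fin (d - 1)) ⊕ Fin 2) ((Fin (d - 1) ⊕ Fin (d - 1)) ⊕ Fin 2) F) ≠ z • (1 : Matrix ((Fin (d - 1) ⊕ Fin (d - 1)) ⊕ Fin 2) ((Fin (d - 1) ⊕ Fin (d - 1)) ⊕ Fin 2) F)) →
      ∃ W : Submodule F ((Fin (d - 1) ⊕ Fin (d - 1)) ⊕ Fin 2 → F), (Module.finrank F ↥W = m ∧ Cfsg.Geo.IsNondegenerateOn (QuadraticMap.polar (Cfsg.quadFormMinus (d - 1) F a b)) W ∧ ¬ Cfsg.Geo.IsPlusTypeOn (Cfsg.quadFormMinus (d - 1) F a b) W) ∧ W.map (Matrix.toLin' (x : Matrix ((Fin (d - 1) ⊕ Fin (d - 1)) ⊕ Fin 2) ((Fin (d - 1) ⊕ Fin (d - 1)) ⊕ Fin 2) F)) ≤ W) →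
    ((2 * d) % 4 = m % 4 ∧ (∀ μ : Multiset ℕ, (∀ e ∈ μ, 0 < e ∧ e ≤ p) → (∀ e : ℕ, Even e → Even (μ.count e)) → μ.sum = 2 * d →
        ∃ ν : Multiset ℕ, ν ≤ μ ∧ ν.sum = m ∧ ∀ e : ℕ, Even e → Even (ν.count e))) := by
  open Cfsg.Agent in
  classical
  intro hall
  have hpp : p.Prime := Fact.out
  have hp2 : p ≠ 2 := fun e => by
    subst e
    have := FiniteField.even_card_iff_char_two.1 (ringChar.eq F 2)
    rw [hq, Nat.odd_iff] at *
    omega
  have hp3 : 3 ≤ p := by have := hpp.two_le; omega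
  rw [← Orth.coe_qMinus] at hall
  have hcard : Fintype.card ((Fin (d - 1) ⊕ Fin (d - 1)) ⊕ Fin 2) = 2 * d := by simp; omega
  have hQ := Orth.qMinus_nondeg (F := F) hab (d - 1)
  have hfix : LBType.Fixes p (Orth.qMinus F (d - 1) a b)
      (fun W => ¬ Cfsg.Geo.IsPlusTypeOn (⇑(Orth.qMinus F (d - 1) a b)) W) m :=
    fun x hx hxp hns => hall x hx ⟨1, by rw [hxp, one_smul, Units.val_one]⟩ hns
  have hpart := fun (μ : Multiset ℕ) h1 h2 (h3 : μ.sum = 2 * d) => LBType.partitions p hp2 hQ (by omega) hme (by omega) hfix μ h1 h2 (by rw [hcard]; exact h3)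
  refine ⟨?_, hpart⟩
  rw [Nat.even_iff] at hme
  by_contra hne
  rcases Nat.mod_two_eq_zero_or_one d with hd2 | hd2
  · -- n ≡ 0, m ≡ 2
    obtain ⟨c₀, hc₀⟩ : ∃ c₀, d = 2 * c₀ + 2 := ⟨(d - 2) / 2, by omega⟩
    have hro : ∀ f ∈ ({3, 1} : Multiset ℕ), Odd f := fun f hf => by
      simp at hf; rcases hf with rfl | rfl <;> decide
    obtain ⟨ν, hν, hνs, hνe⟩ := hpart (Multiset.replicate (2 * c₀) 2 + {3, 1})
      (fun e he => by
        rcases Multiset.mem_add.1 he with h | h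
        · rw [Multiset.eq_of_mem_replicate h]; omega
        · simp at h; omega)
      (fun e he => by
        rw [Multiset.count_add, Multiset.count_eq_zero.2 (fun h => Nat.not_even_iff_odd.2 (hro e h) he), add_zero,
          Multiset.count_replicate]
        split_ifs
        · exact even_two_mul c₀
        · exact Even.zero)
      (by simp; omega)
    obtain ⟨c, ν₁, h1, h3, -⟩ := LBType.test_twos hro hν hνe
    have h4 : Multiset.card ν₁ ≤ 2 := le_trans (Multiset.card_le_card h1) (by simp)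
    rcases Nat.lt_or_ge (Multiset.card ν₁) 2 with h5 | h5
    · rcases Nat.lt_or_ge (Multiset.card ν₁) 1 with h6 | h6
      · rw [Multiset.card_eq_zero.1 (by omega : Multiset.card ν₁ = 0)] at h3
        simp at h3
        omega
      · obtain ⟨f, hf⟩ := Multiset.card_eq_one.1 (by omega : Multiset.card ν₁ = 1)
        have := Nat.odd_iff.1 (hro f (Multiset.mem_of_le h1 (hf ▸ Multiset.mem_singleton_self f)))
        rw [hf, Multiset.sum_singleton] at h3
        omega
    · rw [Multiset.eq_of_le_of_card_le h1 (by simp; omega)] at h3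
      simp at h3
      omega
  · -- n ≡ 2, m ≡ 0
    obtain ⟨c₀, hc₀⟩ : ∃ c₀, d = 2 * c₀ + 1 := ⟨d / 2, by omega⟩
    have hro : ∀ f ∈ Multiset.replicate 2 1, Odd f := fun f hf => by
      rw [Multiset.eq_of_mem_replicate hf]; decide
    obtain ⟨W, hW, -, ν, hν, hνs, hνe, hplus⟩ := LBType.key p hp2 hQ (by omega) hfix
      (Multiset.replicate (2 * c₀) 2 + Multiset.replicate 2 1)
      (fun e he => by
        rcases Multiset.mem_add.1 he with h | h <;> rw [Multiset.eq_of_mem_replicate h] <;> omega)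
      (fun e he => by
        rw [Multiset.count_add, Multiset.count_eq_zero.2 (fun h => Nat.not_even_iff_odd.2 (hro e h) he), add_zero,
          Multiset.count_replicate]
        split_ifs
        · exact even_two_mul c₀
        · exact Even.zero)
      (by rw [hcard]; simp; omega)
      ⟨1, by simp, odd_one⟩ ⟨2, Multiset.mem_add.2 (Or.inl (Multiset.mem_replicate.2 ⟨by omega, rfl⟩)), le_rfl⟩
    obtain ⟨c, ν₁, h1, h3, h4⟩ := LBType.test_twos hro hν hνe
    obtain ⟨k, hk, rfl⟩ := Multiset.le_replicate_iff.1 h1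
    rw [Multiset.sum_replicate, smul_eq_mul, mul_one] at h3
    obtain rfl : k = 0 := by omega
    refine hW (hplus fun e he => ?_)
    rw [h4, Multiset.count_add, Multiset.count_replicate, Multiset.count_replicate, if_neg (Ne.symm he)]
    split_ifs <;> rfl

end Cfsg.Agent.S5994

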