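import Cfsg.Statements.S5995
import Cfsg.Agent.Lib.LinearBlock.OrthPartition

set_option autoImplicit false
open scoped MatrixGroups
open Cfsg

namespace Cfsg.Agent.S5995

/-- A necessary condition for every element of order p of Ω_n(q), nq odd, to fix a hyperbolic `m`-space. Here `T = Ω_n(F)`, `n = 2d+1 ≥ 7`, `q` odd, realised as the commutator subgroup of the isometry group of `Q = x₀² + Σ xᵢyᵢ` over the field `F` with `q` elements (trivial centre, so its elements of prime order `r` are used directly); a nondegenerate `m`-space (even `m`) is a subspace on which the polar form of `Q` is nondegenerate; it is hyperbolic if it contains an `m/2`-dimensional subspace on which `Q` vanishes, elliptic otherwise. Let `m` be even with `2 ≤ m ≤ n − 1` and suppose `p` divides the number of hyperbolic `m`-spaces. If every element of `T` of order `p` fixes some hyperbolic `m`-space, then `m ≡ 0 (mod 4)` and every partition of `n` into parts of size at most `p` in which every even part has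 even multiplicity contains (as a sub-multiset) a partition of `m` in which every even part has even multiplicity. -/
theorem result {F : Type*} [Field F] [Fintype F] {p : ℕ} [Fact p.Prime] [CharP F p] {q : ℕ} (hq : Fintype.card F = q) (hqodd : Odd q)
    (d m : ℕ) (hd : 3 ≤ d) (hm : 2 ≤ m) (hme : Even m) (hmn : m ≤ 2 * d)
    (hpΩ : p ∣ Nat.card {W : Submodule F (Unit ⊕ (Fin d ⊕ Fin d) → F) // Module.finrank F ↥W = m ∧ Cfsg.Geo.IsNondegenerateOn (QuadraticMap.polar (Cfsg.quadFormOdd d F)) W ∧ Cfsg.Geo.IsPlusTypeOn (Cfsg.quadFormOdd d F) W}) :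
    (∀ x : GL (Unit ⊕ (Fin d ⊕ Fin d)) F, x ∈ Cfsg.Geo.omegaGL (Cfsg.quadFormOdd d F) → orderOf x = p →
      ∃ W : Submodule F (Unit ⊕ (Fin d ⊕ Fin d) → F), (Module.finrank F ↥W = m ∧ Cfsg.Geo.IsNondegenerateOn (QuadraticMap.polar (Cfsg.quadFormOdd d F)) W ∧ Cfsg.Geo.IsPlusTypeOn (Cfsg.quadFormOdd d F) W) ∧ W.map (Matrix.toLin' (x : Matrix (Unit ⊕ (Fin d ⊕ Fin d)) (Unit ⊕ (Fin d ⊕ Fin d)) F)) ≤ W) →
    (m % 4 = 0 ∧ (∀ μ : Multiset ℕ, (∀ e ∈ μ, 0 < e ∧ e ≤ p) → (∀ e : ℕ, Even e → Even (μ.count e)) → μ.sum = 2 * d + 1 →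
        ∃ ν : Multiset ℕ, ν ≤ μ ∧ ν.sum = m ∧ ∀ e : ℕ, Even e → Even (ν.count e))) := by
  open Cfsg.Agent in
  classical
  intro hall
  have hpp : p.Prime := Fact.out
  have hp2 : p ≠ 2 := fun e => by
    subst e
    have := FiniteField.even_card_iff_char_two.1 (ringChar.eq F 2)
    rw [hq, Nat.odd_iff] at *
    omega
  have h2 : (2 : F) ≠ 0 := Ring.two_ne_zero (fun e => hp2 ((ringChar.eq F p) ▸ e))
  have hp3 : 3 ≤ p := by have := hpp.two_le; omega
  rw [← Orth.coe_qOdd] at hall
  have hcard : Fintype.card (Unit ⊕ (Fin d ⊕ Fin d)) = 2 * d + 1 := by simp; omega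
  have hfix : LBType.Fixes p (Orth.qOdd F d) (fun W => Cfsg.Geo.IsPlusTypeOn (⇑(Orth.qOdd F d)) W) m :=
    fun x hx hxp hns => hall x hx (orderOf_eq_prime hxp fun e => hns 1 (by rw [e, one_smul, Units.val_one]))
  have hpart := fun (μ : Multiset ℕ) h1 h2' (h3 : μ.sum = 2 * d + 1) => LBType.partitions p hp2 (Orth.qOdd_nondeg (F := F) h2 d) (by omega) hme (by omega)
    hfix μ h1 h2' (by rw [hcard]; exact h3)
  refine ⟨?_, hpart⟩
  obtain ⟨a, r, hsum, hr⟩ : ∃ a r, 4 * a + r = 2 * d + 1 ∧ (r = 1 ∨ r = 3) := by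
    refine ⟨(2 * d + 1) / 4, (2 * d + 1) % 4, Nat.div_add_mod _ _, ?_⟩
    omega
  have hro : ∀ f ∈ ({r} : Multiset ℕ), Odd f := fun f hf => by
    rw [Multiset.mem_singleton.1 hf, Nat.odd_iff]; omega
  obtain ⟨ν, hν, hνs, hνe⟩ := hpart (Multiset.replicate (2 * a) 2 + {r})
    (fun e he => by
      rcases Multiset.mem_add.1 he with h | h
      · rw [Multiset.eq_of_mem_replicate h]; omega
      · rw [Multiset.mem_singleton.1 h]; omega)
    (fun e he => by
      rw [Multiset.count_add, Multiset.count_eq_zero.2 (fun h => Nat.not_even_iff_odd.2 (hro e h) he), add_zero,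
        Multiset.count_replicate]
      split_ifs
      · exact even_two_mul a
      · exact Even.zero)
    (by rw [Multiset.sum_add, Multiset.sum_replicate, Multiset.sum_singleton, smul_eq_mul]; omega)
  obtain ⟨c, ν₁, h1, h3, -⟩ := LBType.test_twos hro hν hνe
  rw [Nat.even_iff] at hme
  rcases Multiset.le_singleton.1 h1 with e | e <;> rw [e] at h3 <;> simp at h3 <;> omega

end Cfsg.Agent.S5995

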