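import Cfsg.Statements.S5997
import Cfsg.Agent.Lib.Classical.TwoByTwo

set_option autoImplicit false
open scoped MatrixGroups
open Cfsg

namespace Cfsg.Agent.S5997

open scoped Matrix
open Matrix (GeneralLinearGroup SpecialLinearGroup)
open TwoByTwo (IsScalar form)

section
variable {F : Type*} [Field F]

lemma cayley (M : Matrix (Fin 2) (Fin 2) F) :
    M * M = M.trace • M - M.det • (1 : Matrix (Fin 2) (Fin 2) F) := by
  ext i j
  fin_cases i <;> fin_cases j <;>
    simp [Matrix.mul_apply, Fin.sum_univ_two, Matrix.trace_fin_two, Matrix.det_fin_two] <;> ring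

lemma not_scalar_iff {M : Matrix (Fin 2) (Fin 2) F} :
    ¬ IsScalar M ↔ ∀ c : F, M ≠ c • (1 : Matrix (Fin 2) (Fin 2) F) := by
  refine ⟨fun h c e => h (e ▸ TwoByTwo.isScalar_smul_one c), fun h hs => h _ (TwoByTwo.isScalar_iff.1 hs)⟩

lemma coeff_eq {M : Matrix (Fin 2) (Fin 2) F} (hM : ¬ IsScalar M) {a b : F}
    (h : a • M = b • (1 : Matrix (Fin 2) (Fin 2) F)) : a = 0 ∧ b = 0 := by
  obtain ⟨h1, h2⟩ := TwoByTwo.lin_injective hM
    (a := 0) (b := a) (a' := b) (b' := 0) (by rw [zero_smul, zero_add, h, zero_smul, add_zero])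
  exact ⟨h2, h1.symm⟩

/-- The discriminant not vanishing, the form takes every value. -/
lemma exists_form_eq [Fintype F] (hodd : Fintype.card F % 2 = 1) (M : Matrix (Fin 2) (Fin 2) F)
    (hM : ¬ IsScalar M) (hdisc : M.trace ^ 2 - 4 * M.det ≠ 0) (t : F) :
    ∃ v, form M v = t := by
  have h2 : (2 : F) ≠ 0 := Ring.two_ne_zero (fun h => by
    have := FiniteField.even_card_of_char_two h
    omega)
  by_cases ha : M 1 0 = 0
  · have hb : M 1 1 - M 0 0 ≠ 0 := fun h => hdisc (by
      rw [Matrix.trace_fin_two, Matrix.det_fin_two, ha]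
      linear_combination (M 1 1 - M 0 0) * h)
    refine ⟨![(t + M 0 1) / (M 1 1 - M 0 0), 1], ?_⟩
    rw [TwoByTwo.form_eq, ha]
    simp
    field_simp
    ring
  · set d := M.trace ^ 2 - 4 * M.det with hd
    obtain ⟨x, y, hxy⟩ := FiniteField.exists_root_sum_quadratic
      (f := Polynomial.C (M 1 0) * Polynomial.X ^ 2 - Polynomial.C t)
      (g := Polynomial.C (-(d / (4 * M 1 0))) * Polynomial.X ^ 2)
      (by
        rw [Polynomial.degree_sub_eq_left_of_degree_lt] <;>
          rw [Polynomial.degree_C_mul_X_pow 2 ha]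
        exacts [rfl, lt_of_le_of_lt Polynomial.degree_C_le (by norm_num)])
      (by
        rw [Polynomial.degree_C_mul_X_pow 2]
        · rfl
        · have h4 : (4 : F) ≠ 0 := by
            rw [show (4 : F) = 2 * 2 by norm_num]; exact mul_ne_zero h2 h2
          exact neg_ne_zero.2 (div_ne_zero hdisc (mul_ne_zero h4 ha)))
      hodd
    simp only [Polynomial.eval_sub, Polynomial.eval_mul, Polynomial.eval_C, Polynomial.eval_pow,
      Polynomial.eval_X] at hxy
    refine ⟨![x - (M 1 1 - M 0 0) / (2 * M 1 0) * y, y], ?_⟩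
    rw [TwoByTwo.form_eq]
    rw [hd, Matrix.trace_fin_two, Matrix.det_fin_two] at hxy
    simp
    have h4 : (4 : F) ≠ 0 := by
      rw [show (4 : F) = 2 * 2 by norm_num]; exact mul_ne_zero h2 h2
    field_simp at hxy ⊢
    linear_combination hxy

/-- Elements of determinant one with the same trace are conjugate under determinant one. -/
lemma exists_conj_sl [Fintype F] (hodd : Fintype.card F % 2 = 1) {x y : GL (Fin 2) F}
    (hx : x ∈ Cfsg.Geo.specialLinear (Fin 2) F) (hy : y ∈ Cfsg.Geo.specialLinear (Fin 2) F)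
    (hxs : ¬ IsScalar x.val) (hys : ¬ IsScalar y.val) (ht : x.val.trace = y.val.trace)
    (hdisc : x.val.trace ^ 2 - 4 ≠ 0) :
    ∃ g ∈ Cfsg.Geo.specialLinear (Fin 2) F, g⁻¹ * x * g = y := by
  have hdet : ∀ {z : GL (Fin 2) F}, z ∈ Cfsg.Geo.specialLinear (Fin 2) F → z.val.det = 1 :=
    fun hz => congrArg Units.val hz
  obtain ⟨v, hv⟩ := TwoByTwo.exists_form_ne_zero hys
  obtain ⟨w, hw⟩ := exists_form_eq hodd x.val hxs (by rwa [hdet hx, mul_one]) (form y.val v)
  obtain ⟨X, hX, hXd⟩ := TwoByTwo.similar (N := x.val) (w := w) hv ht.symm (by rw [hdet hx, hdet hy])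
  rw [hw, div_self hv] at hXd
  refine ⟨GeneralLinearGroup.mkOfDetNeZero X (by rw [hXd]; exact one_ne_zero), Units.ext hXd, ?_⟩
  rw [mul_assoc, inv_mul_eq_iff_eq_mul]
  exact (Units.ext hX).symm

end


/-- Elements of prime order of PSL_2(p) and the normalizer of a quaternion subgroup. Here `T = PSL_2(F)` for the field `F` with `p` elements, `p ≥ 5` prime; `R` is a subgroup of GL_2(F) isomorphic to the quaternion group of order 8 (an absolutely irreducible 2-group of symplectic type), and `H` is the subgroup of matrices of determinant 1 normalizing `R` — a subgroup of type 2^{1+2}.O₂⁻(2), isomorphic modulo scalars to A₄ or S₄ (maximality is not assumed). Ω is the set of cosets of `H` in `T`, so an element of `T` of prime order `r` (a matrix `x` of determinant 1 with `x^r` scalar, `x` not scalar) fixes a point of Ω exactly when some conjugate of `x` by a matrix of determinant 1 normalizes `R`. Let `r` be a prime dividing the index of `H`. Then every element of `T` of order `r` fixes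 a point of Ω if and only if `r = 2` or `r = 3`. -/
theorem result {F : Type*} [Field F] [Fintype F] {p : ℕ} [Fact p.Prime] [CharP F p] (hF : Fintype.card F = p) (hp : 5 ≤ p)
    (R : Subgroup (GL (Fin 2) F)) (hR : Nonempty (↥R ≃* QuaternionGroup 2))
    (r : ℕ) [Fact r.Prime]
    (hΩ : r ∣ (Cfsg.Geo.subgroupNormalizer R).relIndex (Cfsg.Geo.specialLinear (Fin 2) F)) :
    (∀ x ∈ Cfsg.Geo.specialLinear (Fin 2) F, (∃ z : F, ((x ^ r : GL (Fin 2) F) : Matrix (Fin 2) (Fin 2) F) = z • (1 : Matrix (Fin 2) (Fin 2) F)) →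
      (∀ z : F, (x : Matrix (Fin 2) (Fin 2) F) ≠ z • (1 : Matrix (Fin 2) (Fin 2) F)) →
      ∃ g ∈ Cfsg.Geo.specialLinear (Fin 2) F, g⁻¹ * x * g ∈ Cfsg.Geo.subgroupNormalizer R) ↔ (r = 2 ∨ r = 3) := by
  classical
  have hpp : p.Prime := Fact.out
  have hodd : Fintype.card F % 2 = 1 := by
    rw [hF]; exact hpp.eq_two_or_odd.resolve_left (by omega)
  have hsmall : ∀ k : ℕ, k < p → k ≠ 0 → (k : F) ≠ 0 := fun k h1 h0 h => by
    rw [CharP.cast_eq_zero_iff F p] at h
    exact absurd (Nat.le_of_dvd (Nat.pos_of_ne_zero h0) h) (by omega)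
  have h2 : (2 : F) ≠ 0 := by exact_mod_cast hsmall 2 (by omega) (by omega)
  have h3 : (3 : F) ≠ 0 := by exact_mod_cast hsmall 3 (by omega) (by omega)
  have h4 : (4 : F) ≠ 0 := by exact_mod_cast hsmall 4 (by omega) (by omega)
  obtain ⟨e⟩ := hR
  -- generators
  obtain ⟨ii, hi⟩ : ∃ ii : GL (Fin 2) F, ii = (e.symm (QuaternionGroup.a 1) : GL (Fin 2) F) := ⟨_, rfl⟩
  obtain ⟨jj, hj⟩ : ∃ jj : GL (Fin 2) F, jj = (e.symm (QuaternionGroup.xa 0) : GL (Fin 2) F) := ⟨_, rfl⟩
  obtain ⟨zz, hz⟩ : ∃ zz : GL (Fin 2) F, zz = (e.symm (QuaternionGroup.a 2) : GL (Fin 2) F) := ⟨_, rfl⟩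
  have hiR : ii ∈ R := hi ▸ SetLike.coe_mem _
  have hjR : jj ∈ R := hj ▸ SetLike.coe_mem _
  have hzR : zz ∈ R := hz ▸ SetLike.coe_mem _
  have hii : ii * ii = zz := by
    rw [hi, hz, ← Subgroup.coe_mul, ← map_mul, QuaternionGroup.a_mul_a]; rfl
  have hjj : jj * jj = zz := by
    rw [hj, hz, ← Subgroup.coe_mul, ← map_mul, QuaternionGroup.xa_mul_xa]; rfl
  have hji : jj * ii = zz * (ii * jj) := by
    rw [hi, hj, hz, ← Subgroup.coe_mul, ← map_mul, ← Subgroup.coe_mul, ← map_mul, ← Subgroup.coe_mul,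
      ← map_mul]
    rfl
  have hzne : zz ≠ 1 := by
    rw [hz]
    intro h
    have := congrArg e (Subtype.ext h : e.symm (QuaternionGroup.a 2) = 1)
    rw [e.apply_symm_apply, map_one, QuaternionGroup.one_def] at this
    exact absurd (QuaternionGroup.a.inj this) (by decide)
  have hzsq : zz * zz = 1 := by
    rw [hz, ← Subgroup.coe_mul, ← map_mul, QuaternionGroup.a_mul_a,
      show (2 : ZMod (2 * 2)) + 2 = 0 from rfl, ← QuaternionGroup.one_def, map_one]
    rfl
  have hzc : Commute zz ii := by rw [← hii]; exact (Commute.refl ii).mul_left (Commute.refl ii)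
  have hzc' : Commute zz jj := by rw [← hjj]; exact (Commute.refl jj).mul_left (Commute.refl jj)
  obtain ⟨A, hA⟩ : ∃ A, A = (ii : Matrix (Fin 2) (Fin 2) F) := ⟨_, rfl⟩
  obtain ⟨B, hB⟩ : ∃ B, B = (jj : Matrix (Fin 2) (Fin 2) F) := ⟨_, rfl⟩
  -- the central involution
  have hncomm : ¬ Commute ii jj := fun h => hzne (by
    have e1 := hji
    rw [← h.eq] at e1
    exact (mul_eq_right.1 e1.symm))
  have hzneg : (zz : Matrix (Fin 2) (Fin 2) F) = -1 := by
    by_cases hs : IsScalar (zz : Matrix (Fin 2) (Fin 2) F)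
    · obtain ⟨c, hc⟩ : ∃ c : F, (zz : Matrix (Fin 2) (Fin 2) F) = c • (1 : Matrix (Fin 2) (Fin 2) F) :=
        ⟨_, TwoByTwo.isScalar_iff.1 hs⟩
      have h := congrArg Units.val hzsq
      rw [Units.val_mul, hc, smul_mul_smul_comm, one_mul, Units.val_one] at h
      have h' : c * c = 1 := by simpa using congrFun (congrFun h 0) 0
      rcases mul_self_eq_one_iff.1 h' with rfl | rfl
      · exact absurd (Units.ext (by rw [hc, one_smul, Units.val_one])) hzne
      · rw [hc, neg_one_smul]
    · exfalso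
      obtain ⟨a, b, hab⟩ := TwoByTwo.commute_eq hs (congrArg Units.val hzc.eq)
      obtain ⟨c, d, hcd⟩ := TwoByTwo.commute_eq hs (congrArg Units.val hzc'.eq)
      refine hncomm (Units.ext ?_)
      rw [Units.val_mul, Units.val_mul, hab, hcd]
      simp only [mul_add, add_mul, mul_smul_comm, smul_mul_assoc, one_mul, mul_one, smul_smul,
        smul_add]
      match_scalars <;> ring
  have hAA : A * A = -1 := by rw [hA, ← Units.val_mul, hii, hzneg]
  have hBB : B * B = -1 := by rw [hB, ← Units.val_mul, hjj, hzneg]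
  have hBA : B * A = -(A * B) := by
    rw [hA, hB, ← Units.val_mul, hji, Units.val_mul, hzneg, Units.val_mul, neg_one_mul]
  have hns : ∀ {M N : Matrix (Fin 2) (Fin 2) F}, IsUnit M → IsUnit N → N * M = -(M * N) →
      ¬ IsScalar M := by
    intro M N hM hN h hs
    obtain ⟨c, rfl⟩ : ∃ c : F, M = c • (1 : Matrix (Fin 2) (Fin 2) F) := ⟨_, TwoByTwo.isScalar_iff.1 hs⟩
    rw [mul_smul_comm, smul_mul_assoc, one_mul, mul_one] at h
    have h' : (2 * c) • N = 0 := by
      linear_combination (norm := match_scalars <;> ring) h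
    rcases smul_eq_zero.1 h' with h0 | h0
    · rcases mul_eq_zero.1 h0 with h0 | h0
      · exact h2 h0
      · rw [h0, zero_smul] at hM
        exact not_isUnit_zero hM
    · rw [h0] at hN
      exact not_isUnit_zero hN
  have htr : ∀ {M : Matrix (Fin 2) (Fin 2) F}, ¬ IsScalar M → M * M = -1 →
      M.trace = 0 ∧ M.det = 1 := by
    intro M hM h
    rw [cayley] at h
    obtain ⟨h1, h2⟩ := coeff_eq hM (a := M.trace) (b := M.det - 1) (by
      linear_combination (norm := match_scalars <;> ring) h)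
    exact ⟨h1, sub_eq_zero.1 h2⟩
  have hAns : ¬ IsScalar A := hns (hA ▸ ii.isUnit) (hB ▸ jj.isUnit) hBA
  have hBns : ¬ IsScalar B := hns (hB ▸ jj.isUnit) (hA ▸ ii.isUnit) (by rw [hBA, neg_neg])
  have rA : ∀ X, A * (A * X) = -X := fun X => by rw [← mul_assoc, hAA, neg_one_mul]
  have rB : ∀ X, B * (B * X) = -X := fun X => by rw [← mul_assoc, hBB, neg_one_mul]
  have rBA : ∀ X, B * (A * X) = -(A * (B * X)) := fun X => by
    rw [← mul_assoc, hBA, neg_mul, mul_assoc]
  have hAB : A * B * (A * B) = -1 := by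
    rw [mul_assoc, rBA, mul_neg, rA, hBB, neg_neg]
  have hABns : ¬ IsScalar (A * B) := hns ((hA ▸ ii.isUnit : IsUnit A).mul (hB ▸ jj.isUnit))
    (hA ▸ ii.isUnit : IsUnit A) (by rw [rA, mul_assoc, hBA, mul_neg, rA, neg_neg])
  obtain ⟨tA, dA⟩ := htr hAns hAA
  obtain ⟨tB, dB⟩ := htr hBns hBB
  obtain ⟨tAB, -⟩ := htr hABns hAB
  -- the element of order three
  obtain ⟨u, hu⟩ : ∃ u, u = A + B + A * B := ⟨_, rfl⟩
  have huu : u * u = (-3 : F) • (1 : Matrix (Fin 2) (Fin 2) F) := by
    rw [hu]
    simp only [mul_add, add_mul, mul_assoc, rA, rB, rBA, hAA, hBB, hBA, mul_neg, neg_neg, mul_one,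
      neg_mul]
    match_scalars <;> ring
  obtain ⟨Sm, hSm⟩ : ∃ Sm, Sm = (2 : F)⁻¹ • (u - 1) := ⟨_, rfl⟩
  have hSS : Sm * Sm + Sm + 1 = 0 := by
    rw [hSm, smul_mul_smul_comm, sub_mul, mul_sub, mul_one, one_mul, huu]
    match_scalars <;> field_simp <;> ring
  have htS : Sm.trace = -1 := by
    rw [hSm, hu, Matrix.trace_smul, Matrix.trace_sub, Matrix.trace_add, Matrix.trace_add, tA, tB,
      tAB, Matrix.trace_one, Fintype.card_fin, smul_eq_mul]
    field_simp
    ring
  have hdS : Sm.det = 1 := by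
    have h := hSS
    rw [cayley, htS] at h
    have h' : (1 - Sm.det) • (1 : Matrix (Fin 2) (Fin 2) F) = 0 := by
      linear_combination (norm := match_scalars <;> ring) h
    rcases smul_eq_zero.1 h' with h0 | h0
    · exact (sub_eq_zero.1 h0).symm
    · exact absurd h0 one_ne_zero
  let sg : GL (Fin 2) F := GeneralLinearGroup.mkOfDetNeZero Sm (by rw [hdS]; exact one_ne_zero)
  have hsN : sg ∈ Cfsg.Geo.subgroupNormalizer R := by
    have hsi : sg * ii = (ii * jj) * sg := Units.ext (by
      show Sm * (ii : Matrix (Fin 2) (Fin 2) F) = ((ii : Matrix (Fin 2) (Fin 2) F) * jj) * Sm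
      rw [← hA, ← hB, hSm, hu]
      simp only [mul_add, add_mul, sub_mul, mul_sub, mul_assoc, rA, rB, rBA, hAA, hBB, hBA, mul_neg,
        neg_neg, mul_one, one_mul, neg_mul, smul_mul_assoc, mul_smul_comm]
      match_scalars <;> ring)
    have hsj : sg * jj = ii * sg := Units.ext (by
      show Sm * (jj : Matrix (Fin 2) (Fin 2) F) = (ii : Matrix (Fin 2) (Fin 2) F) * Sm
      rw [← hA, ← hB, hSm, hu]
      simp only [mul_add, add_mul, sub_mul, mul_sub, mul_assoc, rA, rB, rBA, hAA, hBB, hBA, mul_neg,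
        neg_neg, mul_one, one_mul, neg_mul, smul_mul_assoc, mul_smul_comm]
      match_scalars <;> ring)
    have hle : R ≤ R.comap (MulAut.conj sg).toMonoidHom := by
      intro x hx
      obtain ⟨q, hq⟩ : ∃ q, x = (e.symm q : GL (Fin 2) F) := ⟨e ⟨x, hx⟩, by rw [e.symm_apply_apply]⟩
      have ci : ii ∈ R.comap (MulAut.conj sg).toMonoidHom := by
        show sg * ii * sg⁻¹ ∈ R
        rw [hsi, mul_inv_cancel_right]
        exact R.mul_mem hiR hjR
      have cj : jj ∈ R.comap (MulAut.conj sg).toMonoidHom := by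
        show sg * jj * sg⁻¹ ∈ R
        rw [hsj, mul_inv_cancel_right]
        exact hiR
      have ca : ∀ k : ZMod (2 * 2), (e.symm (QuaternionGroup.a k) : GL (Fin 2) F) ∈
          R.comap (MulAut.conj sg).toMonoidHom := fun k => by
        have : QuaternionGroup.a k = (QuaternionGroup.a 1 : QuaternionGroup 2) ^ k.val := by
          rw [QuaternionGroup.a_one_pow, ZMod.natCast_zmod_val]
        rw [this, map_pow, Subgroup.coe_pow, ← hi]
        exact Subgroup.pow_mem _ ci _
      subst hq
      rcases q with k | k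
      · exact ca k
      · rw [show QuaternionGroup.xa k = (QuaternionGroup.xa 0 : QuaternionGroup 2) * QuaternionGroup.a k
          by rw [QuaternionGroup.xa_mul_a, zero_add], map_mul, Subgroup.coe_mul, ← hj]
        exact Subgroup.mul_mem _ cj (ca k)
    haveI : Finite R := Finite.of_equiv _ e.symm.toEquiv
    show sg ∈ Subgroup.normalizer (R : Set (GL (Fin 2) F))
    rw [Subgroup.mem_normalizer_iff]
    have hmap : R.map (MulAut.conj sg).toMonoidHom = R := Subgroup.eq_of_le_of_card_ge
      (Subgroup.map_le_iff_le_comap.2 hle)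
      (Nat.card_congr (R.equivMapOfInjective _ (MulAut.conj sg).injective).toEquiv).le
    intro h
    refine ⟨fun hh => hle hh, fun hh => ?_⟩
    have h' : sg * h * sg⁻¹ ∈ R.map (MulAut.conj sg).toMonoidHom := by rw [hmap]; exact hh
    obtain ⟨y, hy, hyy⟩ := h'
    rwa [← (MulAut.conj sg).injective hyy]
  have hRN : ∀ x ∈ R, x ∈ Cfsg.Geo.subgroupNormalizer R := fun x hx => Subgroup.le_normalizer hx
  have hdet : ∀ {z : GL (Fin 2) F}, z ∈ Cfsg.Geo.specialLinear (Fin 2) F ↔ z.val.det = 1 :=
    ⟨fun hz => congrArg Units.val hz, fun hz => Units.ext hz⟩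
  have hzS : zz ∈ Cfsg.Geo.specialLinear (Fin 2) F := hdet.2 (by rw [hzneg]; simp [Matrix.det_neg])
  have hzcentral : ∀ g : GL (Fin 2) F, zz * g = g * zz := fun g =>
    Units.ext (by rw [Units.val_mul, Units.val_mul, hzneg, neg_one_mul, mul_neg_one])
  constructor
  · intro hall
    by_contra hr
    rw [not_or] at hr
    have hr5 : 5 ≤ r := by
      have hrp : r.Prime := Fact.out
      have := hrp.two_le
      by_contra h5
      interval_cases r <;> first | omega | (norm_num at hrp)
    have hrodd : r % 2 = 1 := (Fact.out : r.Prime).eq_two_or_odd.resolve_left hr.1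
    obtain ⟨⟨y, hyS⟩, hy⟩ := exists_prime_orderOf_dvd_card' r
      (hΩ.trans ((Cfsg.Geo.subgroupNormalizer R).relIndex_dvd_card (Cfsg.Geo.specialLinear (Fin 2) F)))
    have hyr : y ^ r = 1 := by
      have := congrArg Subtype.val (hy ▸ pow_orderOf_eq_one (⟨y, hyS⟩ : Cfsg.Geo.specialLinear (Fin 2) F))
      simpa using this
    have hyne : ∀ c : F, y.val ≠ c • (1 : Matrix (Fin 2) (Fin 2) F) := fun c hc => by
      have hd := hdet.1 hyS
      rw [hc, Matrix.det_smul, Matrix.det_one, Fintype.card_fin, mul_one] at hd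
      have hp' := congrArg Units.val hyr
      rw [Units.val_pow_eq_pow_val, hc, smul_pow, one_pow, Units.val_one] at hp'
      have hcr : c ^ r = 1 := by simpa using congrFun (congrFun hp' 0) 0
      rw [← Nat.div_add_mod r 2, hrodd, pow_succ, pow_mul, hd, one_pow, one_mul] at hcr
      rw [hcr, one_smul] at hc
      have : (⟨y, hyS⟩ : Cfsg.Geo.specialLinear (Fin 2) F) = 1 := Subtype.ext (Units.ext hc)
      rw [this, orderOf_one] at hy
      omega
    obtain ⟨g, hg, hgN⟩ := hall y hyS ⟨1, by rw [hyr, Units.val_one, one_smul]⟩ hyne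
    -- the conjugate centralises R
    obtain ⟨w, hw⟩ : ∃ w, w = g⁻¹ * y * g := ⟨_, rfl⟩
    rw [← hw] at hgN
    have hwr : w ^ r = 1 := by
      rw [hw, show g⁻¹ * y * g = g⁻¹ * y * (g⁻¹)⁻¹ by rw [inv_inv], conj_pow, hyr, mul_one,
        mul_inv_cancel]
    let φ : GL (Fin 2) F → R → R := fun v x =>
      if h : v * (x : GL (Fin 2) F) * v⁻¹ ∈ R then ⟨_, h⟩ else x
    let perm : Equiv.Perm R :=
      { toFun := φ w
        invFun := φ w⁻¹
        left_inv := fun x => by
          have h1 : w * (x : GL (Fin 2) F) * w⁻¹ ∈ R := (Subgroup.mem_normalizer_iff.1 hgN _).1 x.2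
          have e1 : φ w x = ⟨_, h1⟩ := dif_pos h1
          rw [e1]
          have h2 : w⁻¹ * (w * (x : GL (Fin 2) F) * w⁻¹) * w⁻¹⁻¹ = x := by group
          simp only [φ, h2, x.2, dite_true]
        right_inv := fun x => by
          have h1 : w⁻¹ * (x : GL (Fin 2) F) * w⁻¹⁻¹ ∈ R :=
            (Subgroup.mem_normalizer_iff.1 (Subgroup.inv_mem _ hgN) _).1 x.2
          have e1 : φ w⁻¹ x = ⟨_, h1⟩ := dif_pos h1
          rw [e1]
          have h2 : w * (w⁻¹ * (x : GL (Fin 2) F) * w⁻¹⁻¹) * w⁻¹ = x := by group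
          simp only [φ, h2, x.2, dite_true] }
    have hperm : ∀ x : R, ((perm x : R) : GL (Fin 2) F) = w * x * w⁻¹ := fun x => by
      have h1 : w * (x : GL (Fin 2) F) * w⁻¹ ∈ R := (Subgroup.mem_normalizer_iff.1 hgN _).1 x.2
      show ((φ w x : R) : GL (Fin 2) F) = _
      simp only [φ, h1, dite_true]
    have hpow : ∀ (N : ℕ) (x : R), (((perm ^ N) x : R) : GL (Fin 2) F) = w ^ N * x * (w ^ N)⁻¹ := by
      intro N
      induction N with
      | zero => simp
      | succ N ih =>
        intro x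
        rw [pow_succ', Equiv.Perm.mul_apply, hperm, ih, pow_succ']
        group
    have hpr : perm ^ r ^ 1 = 1 := by
      rw [pow_one]
      refine Equiv.ext fun x => Subtype.ext ?_
      rw [hpow, hwr]
      simp
    haveI : Finite R := Finite.of_equiv _ e.symm.toEquiv
    haveI : Fintype R := Fintype.ofFinite _
    have hmod := Equiv.Perm.card_compl_support_modEq (p := r) hpr
    have hR8 : Fintype.card R = 8 := by
      rw [← Nat.card_eq_fintype_card, Nat.card_congr e.toEquiv, Nat.card_eq_fintype_card, QuaternionGroup.card]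
    let Fix : Subgroup R :=
      { carrier := {x | perm x = x}
        one_mem' := Subtype.ext (by rw [hperm]; simp)
        mul_mem' := fun {a b} ha hb => Subtype.ext (by
          have ha' := (hperm a).symm.trans (congrArg Subtype.val ha)
          have hb' := (hperm b).symm.trans (congrArg Subtype.val hb)
          rw [hperm, Subgroup.coe_mul]
          conv_rhs => rw [← ha', ← hb']
          group)
        inv_mem' := fun {a} ha => Subtype.ext (by
          have ha' := (hperm a).symm.trans (congrArg Subtype.val ha)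
          rw [hperm, Subgroup.coe_inv]
          conv_rhs => rw [← ha']
          group) }
    have hzfix : (⟨zz, hzR⟩ : R) ∈ Fix := Subtype.ext (by
      rw [hperm]
      show w * zz * w⁻¹ = zz
      rw [← hzcentral, mul_inv_cancel_right])
    haveI : Nontrivial Fix := ⟨⟨1, ⟨_, hzfix⟩, fun h => hzne (congrArg (fun x : Fix => ((x : R) : GL (Fin 2) F)) h).symm⟩⟩
    have hfc : Nat.card Fix = perm.supportᶜ.card := by
      rw [← Nat.card_eq_finsetCard]
      exact Nat.card_congr (Equiv.subtypeEquivRight fun x => by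
        show perm x = x ↔ _
        simp [Equiv.Perm.mem_support])
    have hdvd := Fix.card_subgroup_dvd_card
    rw [Nat.card_eq_fintype_card (α := R), hR8] at hdvd
    have hgt : 1 < Nat.card Fix := Finite.one_lt_card
    rw [hR8, ← hfc] at hmod
    have h8 : Nat.card Fix = 8 := by
      have hle8 := Nat.le_of_dvd (by norm_num) hdvd
      have hd : r ∣ 8 - Nat.card Fix := (Nat.modEq_iff_dvd' hle8).1 hmod
      interval_cases hc : Nat.card Fix <;> first | rfl | omega | (revert hdvd; decide) | (have := Nat.le_of_dvd (by norm_num) hd; interval_cases r <;> first | omega | (revert hd; decide))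
    have hall' : Fix = ⊤ := Subgroup.eq_top_of_card_eq _ (by rw [h8, Nat.card_eq_fintype_card, hR8])
    have hcomm : ∀ x ∈ R, w * x = x * w := fun x hx => by
      have h : perm ⟨x, hx⟩ = ⟨x, hx⟩ := (hall' ▸ Subgroup.mem_top _ : (⟨x, hx⟩ : R) ∈ Fix)
      have h' := (hperm ⟨x, hx⟩).symm.trans (congrArg Subtype.val h)
      exact mul_inv_eq_iff_eq_mul.1 h'
    have hcA : A * (w : Matrix (Fin 2) (Fin 2) F) = w * A := by
      rw [hA]; exact congrArg Units.val (hcomm ii hiR).symm
    obtain ⟨a, b, hab⟩ := TwoByTwo.commute_eq hAns hcA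
    have hcB : (w : Matrix (Fin 2) (Fin 2) F) * B = B * w := by
      rw [hB]; exact congrArg Units.val (hcomm jj hjR)
    rw [hab, add_mul, mul_add, smul_mul_assoc, mul_smul_comm, smul_mul_assoc, mul_smul_comm, one_mul,
      mul_one, hBA] at hcB
    have h' : (2 * b) • (A * B) = 0 := by
      linear_combination (norm := match_scalars <;> ring) hcB
    rcases smul_eq_zero.1 h' with h0 | h0
    · rw [(mul_eq_zero.1 h0).resolve_left h2, zero_smul, add_zero] at hab
      refine hyne a ?_
      have ey : y = g * w * g⁻¹ := by rw [hw]; group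
      rw [ey, Units.val_mul, Units.val_mul, hab, mul_smul_comm, smul_mul_assoc, mul_one,
        Units.mul_inv]
    · rw [h0, zero_mul] at hAB
      exact one_ne_zero (neg_eq_zero.1 hAB.symm)
  · intro hr x hxS hxr hxns
    obtain ⟨c, hc⟩ := hxr
    have hxs : ¬ IsScalar x.val := not_scalar_iff.2 hxns
    have hxd := hdet.1 hxS
    have hiS : ii ∈ Cfsg.Geo.specialLinear (Fin 2) F := hdet.2 (hA ▸ dA)
    have hsS : sg ∈ Cfsg.Geo.specialLinear (Fin 2) F := hdet.2 hdS
    have hx2 := cayley x.val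
    rw [hxd, one_smul] at hx2
    have fin : ∀ y ∈ Cfsg.Geo.subgroupNormalizer R, y ∈ Cfsg.Geo.specialLinear (Fin 2) F →
        ¬ IsScalar y.val → x.val.trace = y.val.trace → x.val.trace ^ 2 - 4 ≠ 0 →
        ∃ g ∈ Cfsg.Geo.specialLinear (Fin 2) F, g⁻¹ * x * g ∈ Cfsg.Geo.subgroupNormalizer R := by
      intro y hy hyS hys ht hd
      obtain ⟨g, hg, e'⟩ := exists_conj_sl hodd hxS hyS hxs hys ht hd
      exact ⟨g, hg, e' ▸ hy⟩
    rcases hr with rfl | rfl
    · rw [Units.val_pow_eq_pow_val, sq, hx2] at hc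
      obtain ⟨ht, -⟩ := coeff_eq hxs (a := x.val.trace) (b := c + 1) (by
        linear_combination (norm := match_scalars <;> ring) hc)
      exact fin ii (hRN ii hiR) hiS (hA ▸ hAns) (by rw [ht, ← hA, tA])
        (by rw [ht]; simpa using h4)
    · rw [Units.val_pow_eq_pow_val, pow_succ, sq, hx2, sub_mul, smul_mul_assoc, hx2, one_mul] at hc
      obtain ⟨ht, -⟩ := coeff_eq hxs (a := x.val.trace ^ 2 - 1) (b := c + x.val.trace) (by
        linear_combination (norm := match_scalars <;> ring) hc)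
      have hdisc : x.val.trace ^ 2 - 4 ≠ 0 := fun h => h3 (by linear_combination ht - h)
      have hSns : ¬ IsScalar Sm := fun hs => by
        obtain ⟨d, hd⟩ : ∃ d : F, Sm = d • (1 : Matrix (Fin 2) (Fin 2) F) :=
          ⟨_, TwoByTwo.isScalar_iff.1 hs⟩
        have e1 := htS
        have e2 := hdS
        rw [hd, Matrix.trace_smul, Matrix.trace_one, Fintype.card_fin, smul_eq_mul] at e1
        rw [hd, Matrix.det_smul, Matrix.det_one, Fintype.card_fin, mul_one] at e2
        push_cast at e1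
        exact h3 (by linear_combination (-4 : F) * e2 + (d * 2 - 1) * e1)
      rcases mul_self_eq_one_iff.1 (show x.val.trace * x.val.trace = 1 by linear_combination ht) with h | h
      · have hv : (zz * sg).val = -Sm := by
          rw [Units.val_mul, hzneg, neg_one_mul]
          rfl
        refine fin (zz * sg) (Subgroup.mul_mem _ (hRN zz hzR) hsN) (Subgroup.mul_mem _ hzS hsS) ?_ ?_ hdisc
        · rw [hv]
          intro hs
          exact hSns ⟨by simpa using hs.1, by simpa using hs.2.1, by simpa using hs.2.2⟩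
        · rw [hv, Matrix.trace_neg, htS, h, neg_neg]
      · exact fin sg hsN hsS hSns (by rw [h]; exact htS.symm) hdisc

end Cfsg.Agent.S5997
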