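import Cfsg.Statements.S5998
import Cfsg.Agent.Lib.LinearBlock.HeisThree
import Cfsg.Agent.Lib.Classical.SL

set_option autoImplicit false
open scoped MatrixGroups
open Cfsg

namespace Cfsg.Agent.S5998

/-- Elements of prime order of PSL_3(p), p ≡ 1 (mod 3), and the normalizer of an extraspecial subgroup of order 27. Here `T = PSL_3(F)` for the field `F` with `p` elements, `p` a prime with `p ≡ 1 (mod 3)`; `R` is a non-abelian subgroup of GL_3(F) of order 27 and exponent 3 (an extraspecial group 3^{1+2}, acting absolutely irreducibly), and `H` is the subgroup of matrices of determinant 1 normalizing `R` — a subgroup of type 3^{1+2}.Sp₂(3) (maximality is not assumed). Ω is the set of cosets of `H` in `T`, so an element of `T` of prime order `r` (a matrix `x` of determinant 1 with `x^r` scalar, `x` not scalar) fixes a point of Ω exactly when some conjugate of `x` by a matrix of determinant 1 normalizes `R`. Let `r` be a prime dividing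 the index of `H`. Then every element of `T` of order `r` fixes a point of Ω if and only if `r = 2`, or `r = 3` and `p ≡ 1 (mod 9)`. -/
theorem result {F : Type*} [Field F] [Fintype F] {p : ℕ} [Fact p.Prime] [CharP F p] (hF : Fintype.card F = p) (hp3 : p % 3 = 1)
    (R : Subgroup (GL (Fin 3) F)) (hR : Nat.card R = 27) (hRe : Monoid.exponent R = 3) (hRna : ¬ IsMulCommutative R)
    (r : ℕ) [Fact r.Prime]
    (hΩ : r ∣ (Cfsg.Geo.subgroupNormalizer R).relIndex (Cfsg.Geo.specialLinear (Fin 3) F)) :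
    (∀ x ∈ Cfsg.Geo.specialLinear (Fin 3) F, (∃ z : F, ((x ^ r : GL (Fin 3) F) : Matrix (Fin 3) (Fin 3) F) = z • (1 : Matrix (Fin 3) (Fin 3) F)) →
      (∀ z : F, (x : Matrix (Fin 3) (Fin 3) F) ≠ z • (1 : Matrix (Fin 3) (Fin 3) F)) →
      ∃ g ∈ Cfsg.Geo.specialLinear (Fin 3) F, g⁻¹ * x * g ∈ Cfsg.Geo.subgroupNormalizer R) ↔ (r = 2 ∨ (r = 3 ∧ p % 9 = 1)) := by
  classical
  have hp : p.Prime := Fact.out
  obtain ⟨S, hS⟩ : ∃ S, S = Cfsg.Geo.specialLinear (Fin 3) F := ⟨_, rfl⟩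
  have hU : LBHeis.Amb (⊤ : Subgroup (GL (Fin 3) F)) (⊤ : Subgroup Fˣ) :=
    ⟨fun g _ h _ hc => by obtain ⟨Q, hQ⟩ := isConj_iff.1 hc; exact ⟨Q, trivial, hQ⟩, fun _ _ => trivial,
      fun t => ⟨fun _ _ => trivial, fun _ => trivial⟩, trivial, trivial⟩
  have hp2 : p ≠ 2 := fun h => by omega
  have hp3' : p ≠ 3 := fun h => by omega
  have hunits : Nat.card Fˣ = p - 1 := by rw [Nat.card_units, Nat.card_eq_fintype_card, hF]
  have hroot : ∀ n, n ∣ p - 1 → ∃ z : F, IsPrimitiveRoot z n := fun n hn => by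
    obtain ⟨g, hg⟩ := IsCyclic.exists_generator (α := Fˣ)
    have ho : orderOf g = p - 1 := hunits ▸ orderOf_eq_card_of_forall_mem_zpowers hg
    have hpos : 0 < p - 1 := by have := hp.two_le; omega
    have h1 : IsPrimitiveRoot g (p - 1) := ho ▸ IsPrimitiveRoot.orderOf g
    have h2 : IsPrimitiveRoot (g ^ ((p - 1) / n)) n := h1.pow hpos (Nat.div_mul_cancel hn).symm
    exact ⟨_, h2.map_of_injective (f := Units.coeHom F) Units.val_injective⟩
  obtain ⟨z3, hz3⟩ := hroot 3 (by omega)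
  obtain ⟨w, hw, P, hP, h1, h2, h3⟩ := LBHeis.exists_std hU p hp3' hz3 R le_top hR hRe hRna
  have hStd : LBHeis.Std (⊤ : Subgroup (GL (Fin 3) F)) R P w := ⟨hw, hP, h1, h2, h3⟩
  constructor
  · intro hall
    by_contra hnot
    push Not at hnot
    obtain ⟨hr2, hr3⟩ := hnot
    by_cases h : r = 3
    · -- the index is prime to three
      subst h
      obtain ⟨u, rfl⟩ : ∃ u, p = 3 * u + 1 := ⟨p / 3, by omega⟩
      have h81 := LBHeis.three_index hR hStd le_top (by rw [top_inf_eq]; exact hΩ)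
      rw [top_inf_eq] at h81
      have hm := Subgroup.card_mul_index (Matrix.GeneralLinearGroup.det : GL (Fin 3) F →* Fˣ).ker
      rw [Subgroup.index_ker, MonoidHom.range_eq_top.2 Matrix.GeneralLinearGroup.det_surjective, Subgroup.card_top,
        hunits, ClassicalSL.card_gl_fin (by rw [Nat.card_eq_fintype_card, hF]) 3] at hm
      have hd : 243 ∣ ∏ i : Fin 3, ((3 * u + 1) ^ 3 - (3 * u + 1) ^ (i : ℕ)) := by
        refine (Nat.mul_dvd_mul h81 (show 3 ∣ 3 * u + 1 - 1 by omega)).trans ?_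
        exact dvd_of_eq hm
      rw [Fin.prod_univ_three] at hd
      have e : ((3 * u + 1) ^ 3 - (3 * u + 1) ^ (0 : ℕ)) * ((3 * u + 1) ^ 3 - (3 * u + 1) ^ (1 : ℕ)) * ((3 * u + 1) ^ 3 - (3 * u + 1) ^ (2 : ℕ))
          = 81 * (u ^ 3 * (3 * u + 1) ^ 3 * (3 * u + 2) * (3 * u ^ 2 + 3 * u + 1)) := by
        have a0 : (3 * u + 1) ^ 3 - (3 * u + 1) ^ (0 : ℕ) = 9 * u * (3 * u ^ 2 + 3 * u + 1) := by
          rw [pow_zero, show (3 * u + 1) ^ 3 = 9 * u * (3 * u ^ 2 + 3 * u + 1) + 1 by ring, Nat.add_sub_cancel]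
        have a1 : (3 * u + 1) ^ 3 - (3 * u + 1) ^ (1 : ℕ) = (3 * u + 1) * (3 * u * (3 * u + 2)) := by
          rw [show (3 * u + 1) ^ 3 = (3 * u + 1) * (3 * u * (3 * u + 2)) + (3 * u + 1) ^ (1 : ℕ) by ring, Nat.add_sub_cancel]
        have a2 : (3 * u + 1) ^ 3 - (3 * u + 1) ^ (2 : ℕ) = (3 * u + 1) ^ 2 * (3 * u) := by
          rw [show (3 * u + 1) ^ 3 = (3 * u + 1) ^ 2 * (3 * u) + (3 * u + 1) ^ (2 : ℕ) by ring, Nat.add_sub_cancel]
        rw [a0, a1, a2]; ring
      simp only [Fin.val_zero, Fin.val_one, Fin.val_two] at hd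
      rw [e, show (243 : ℕ) = 81 * 3 from rfl] at hd
      have hd3 := Nat.dvd_of_mul_dvd_mul_left (by norm_num) hd
      have hu : ¬ 3 ∣ u := fun ⟨v, hv⟩ => hr3 rfl (by omega)
      rcases Nat.prime_three.dvd_mul.1 hd3 with hx | hx
      · rcases Nat.prime_three.dvd_mul.1 hx with hx | hx
        · rcases Nat.prime_three.dvd_mul.1 hx with hx | hx
          · exact hu (Nat.prime_three.dvd_of_dvd_pow hx)
          · have := Nat.prime_three.dvd_of_dvd_pow hx; omega
        · omega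
      · have : (3 * u ^ 2 + 3 * u + 1) % 3 = 0 := Nat.mod_eq_zero_of_dvd hx
        omega
    · obtain ⟨x, hx, hxr, hns, hg⟩ := LBHeis.derange hU hR hStd hr2 h (by
        rw [top_inf_eq]
        exact hΩ.trans (Subgroup.index_dvd_card _))
      obtain ⟨g, hgm, hgN⟩ := hall x hx.2 ⟨1, by rw [hxr, Units.val_one, one_smul]⟩ hns
      exact hg g ⟨trivial, hgm⟩ hgN
  · rintro (rfl | ⟨rfl, h9⟩) x hx hxz hns
    · obtain ⟨g, hg, hgN⟩ := LBHeis.fixes_two hU p hp2 trivial hR hStd (x := x) ⟨trivial, hx⟩ hxz hns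
      exact ⟨g, hg.2, hgN⟩
    · obtain ⟨z9, hz9⟩ := hroot 9 (by omega)
      obtain ⟨g, hg, hgN⟩ := LBHeis.fixes_three hU p hp3' hz9 (fun _ _ => trivial) hR hStd (x := x) ⟨trivial, hx⟩ hxz
      exact ⟨g, hg.2, hgN⟩

end Cfsg.Agent.S5998

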