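import Cfsg.Statements.S5999
import Cfsg.Agent.Lib.LinearBlock.HeisThree
import Cfsg.Agent.Lib.LinearBlock.GUConj

set_option autoImplicit false
open scoped MatrixGroups
open Cfsg

namespace Cfsg.Agent.S5999

/-- Elements of prime order of PSU_3(p), p ≡ 2 (mod 3), and the normalizer of an extraspecial subgroup of order 27. Here `T = PSU_3(p)` for a prime `p ≥ 5` with `p ≡ 2 (mod 3)`, realised through `SU_3(p)`, the matrices of determinant 1 over the field `F` with `p²` elements preserving the hermitian form `Σ uᵢvᵢ^p`; `R` is a non-abelian subgroup of order 27 and exponent 3 of the full unitary group of that form (an extraspecial group 3^{1+2}, acting absolutely irreducibly), and `H` is the subgroup of `SU_3(p)` normalizing `R` — a subgroup of type 3^{1+2}.Sp₂(3) (maximality is not assumed). Ω is the set of cosets of `H`, so an element of `T` of prime order `r` (`x ∈ SU_3(p)` with `x^r` scalar, `x` not scalar) fixes a point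 of Ω exactly when some `SU_3(p)`-conjugate of `x` normalizes `R`. Let `r` be a prime dividing the index of `H`. Then every element of `T` of order `r` fixes a point of Ω if and only if `r = 2`, or `r = 3` and `p ≡ 8 (mod 9)`. -/
theorem result {F : Type*} [Field F] [Fintype F] {p : ℕ} [Fact p.Prime] [CharP F p] (hF : Fintype.card F = p ^ 2) (hp : 5 ≤ p) (hp3 : p % 3 = 2)
    (R : Subgroup (GL (Fin 3) F)) (hRU : R ≤ Cfsg.GU 3 F p) (hR : Nat.card R = 27) (hRe : Monoid.exponent R = 3) (hRna : ¬ IsMulCommutative R)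
    (r : ℕ) [Fact r.Prime]
    (hΩ : r ∣ (Cfsg.Geo.subgroupNormalizer R).relIndex (Cfsg.GU 3 F p ⊓ Cfsg.Geo.specialLinear (Fin 3) F)) :
    (∀ x ∈ Cfsg.GU 3 F p ⊓ Cfsg.Geo.specialLinear (Fin 3) F, (∃ z : F, ((x ^ r : GL (Fin 3) F) : Matrix (Fin 3) (Fin 3) F) = z • (1 : Matrix (Fin 3) (Fin 3) F)) →
      (∀ z : F, (x : Matrix (Fin 3) (Fin 3) F) ≠ z • (1 : Matrix (Fin 3) (Fin 3) F)) →
      ∃ g ∈ Cfsg.GU 3 F p ⊓ Cfsg.Geo.specialLinear (Fin 3) F, g⁻¹ * x * g ∈ Cfsg.Geo.subgroupNormalizer R) ↔ (r = 2 ∨ (r = 3 ∧ p % 9 = 8)) := by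
  classical
  have hpp : p.Prime := Fact.out
  have hp2 : p ≠ 2 := by omega
  have hp3' : p ≠ 3 := by omega
  obtain ⟨σ, hσ, hne, hinv, hfix, -⟩ := HermStd.exists_sigma hF
  obtain ⟨Nm, hNm⟩ : ∃ Nm, Nm = HermSU.normOne σ := ⟨_, rfl⟩
  have hNmem : ∀ t : Fˣ, t ∈ Nm ↔ t ^ (p + 1) = 1 := fun t => by
    rw [hNm]
    show (t : F) * σ t = 1 ↔ _
    rw [hσ, ← pow_succ', ← Units.val_pow_eq_pow_val, Units.val_eq_one]
  have hU : LBHeis.Amb (Cfsg.GU 3 F p) Nm := by
    refine ⟨fun g hg h hh hc => ?_, fun g hg => hNm ▸ HermSU.det_mem_normOne hσ hg, fun t => ⟨fun ht i => ?_, fun ht => ?_⟩, ?_, ?_⟩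
    · obtain ⟨Q, hQ⟩ := isConj_iff.1 (LBGUConj.isConj_of_gl hF ⟨g, hg⟩ ⟨h, hh⟩ hc)
      exact ⟨Q.1, Q.2, congrArg Subtype.val hQ⟩
    · have e := congrArg (fun M : Matrix (Fin 3) (Fin 3) F => M i i) ((HermSU.mem_GU_iff hσ _).1 ht)
      simp only [LBHeis.dg_val, Matrix.diagonal_transpose, Matrix.diagonal_map (map_zero σ), Matrix.diagonal_mul_diagonal,
        Matrix.diagonal_apply_eq, Matrix.one_apply_eq, Function.comp_apply] at e
      rw [hNm]; exact e
    · exact HermSU.diag_mem_GU hσ fun i => hNm ▸ ht i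
    · rw [HermSU.mem_GU_iff hσ]
      ext i j
      fin_cases i <;> fin_cases j <;> simp [LBHeis.cyc, Matrix.mul_apply, Fin.sum_univ_three]
    · rw [HermSU.mem_GU_iff hσ]
      ext i j
      fin_cases i <;> fin_cases j <;> simp [LBHeis.inv3, Matrix.mul_apply, Fin.sum_univ_three]
  have hunits : Nat.card Fˣ = p ^ 2 - 1 := by rw [Nat.card_units, Nat.card_eq_fintype_card, hF]
  have hsq : p ^ 2 - 1 = (p + 1) * (p - 1) := by
    rw [show p ^ 2 - 1 = p ^ 2 - 1 ^ 2 by norm_num, Nat.sq_sub_sq]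
  have hroot : ∀ n, n ∣ p + 1 → ∃ z : F, IsPrimitiveRoot z n := fun n hn => by
    obtain ⟨g, hg⟩ := IsCyclic.exists_generator (α := Fˣ)
    have ho : orderOf g = p ^ 2 - 1 := hunits ▸ orderOf_eq_card_of_forall_mem_zpowers hg
    have hn' : n ∣ p ^ 2 - 1 := hsq ▸ hn.mul_right _
    have hpos : 0 < p ^ 2 - 1 := by
      have : 2 ^ 2 ≤ p ^ 2 := Nat.pow_le_pow_left hpp.two_le 2
      omega
    have h1 : IsPrimitiveRoot g (p ^ 2 - 1) := ho ▸ IsPrimitiveRoot.orderOf g
    have h2 := h1.pow hpos (Nat.div_mul_cancel hn').symm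
    exact ⟨_, h2.map_of_injective (f := Units.coeHom F) Units.val_injective⟩
  obtain ⟨z3, hz3⟩ := hroot 3 (by omega)
  obtain ⟨w, hw, P, hP, h1, h2, h3⟩ := LBHeis.exists_std hU p hp3' hz3 R hRU hR hRe hRna
  have hStd : LBHeis.Std (Cfsg.GU 3 F p) R P w := ⟨hw, hP, h1, h2, h3⟩
  constructor
  · intro hall
    by_contra hnot
    push Not at hnot
    obtain ⟨hr2, hr3⟩ := hnot
    by_cases h : r = 3
    · -- the index is prime to three
      subst h
      obtain ⟨u, rfl⟩ : ∃ u, p = 3 * u + 2 := ⟨p / 3, by omega⟩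
      have h81 := LBHeis.three_index hR hStd hRU hΩ
      let f : ↥(Cfsg.GU 3 F (3 * u + 2) ⊓ Cfsg.Geo.specialLinear (Fin 3) F) ≃ Cfsg.SU 3 F (3 * u + 2) :=
        { toFun := fun g => ⟨⟨g.1.1, congrArg Units.val g.2.2⟩, fun a b => g.2.1 a b⟩
          invFun := fun A => ⟨Matrix.SpecialLinearGroup.toGL A.1, HermSU.toGL_mem_GU A, Units.ext A.1.2⟩
          left_inv := fun g => Subtype.ext (Units.ext rfl)
          right_inv := fun A => Subtype.ext (Subtype.ext rfl) }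
      rw [Nat.card_congr f] at h81
      have hd : 243 ∣ (3 * u + 2 + 1) * Nat.card (Cfsg.SU 3 F (3 * u + 2)) :=
        (Nat.mul_dvd_mul (show 3 ∣ 3 * u + 2 + 1 by omega) h81)
      rw [HermSU.card_SU_mul hne hinv hσ (by norm_num) hfix, HermStd.card_GU hne hinv hσ 3 hfix] at hd
      obtain ⟨P', hP'⟩ : ∃ P', P' = 3 * u + 2 := ⟨_, rfl⟩
      simp [Finset.prod_range_succ, ← hP'] at hd
      have e1 : P' ^ 2 - 1 = 3 * (u + 1) * (3 * u + 1) := by
        rw [hP', show (3 * u + 2) ^ 2 = 3 * (u + 1) * (3 * u + 1) + 1 by ring, Nat.add_sub_cancel]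
      have e2 : P' ^ 3 + 1 = 9 * (u + 1) * (3 * u ^ 2 + 3 * u + 1) := by rw [hP']; ring
      rw [e1, e2, show P' + 1 = 3 * (u + 1) by omega] at hd
      have hd' : 81 * 3 ∣ 81 * (P' ^ 3 * (u + 1) ^ 3 * (3 * u + 1) * (3 * u ^ 2 + 3 * u + 1)) := by
        refine (dvd_of_eq (by norm_num : (81 * 3 : ℕ) = 243)).trans (hd.trans (dvd_of_eq ?_))
        ring
      have hd3 := Nat.dvd_of_mul_dvd_mul_left (by norm_num) hd'
      have hu : ¬ 3 ∣ u + 1 := fun ⟨v, hv⟩ => hr3 rfl (by omega)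
      rcases Nat.prime_three.dvd_mul.1 hd3 with hx | hx
      · rcases Nat.prime_three.dvd_mul.1 hx with hx | hx
        · rcases Nat.prime_three.dvd_mul.1 hx with hx | hx
          · have := Nat.prime_three.dvd_of_dvd_pow hx; omega
          · exact hu (Nat.prime_three.dvd_of_dvd_pow hx)
        · omega
      · have : (3 * u ^ 2 + 3 * u + 1) % 3 = 0 := Nat.mod_eq_zero_of_dvd hx
        omega
    · obtain ⟨x, hx, hxr, hns, hg⟩ := LBHeis.derange hU hR hStd hr2 h (hΩ.trans (Subgroup.index_dvd_card _))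
      obtain ⟨g, hgm, hgN⟩ := hall x hx ⟨1, by rw [hxr, Units.val_one, one_smul]⟩ hns
      exact hg g hgm hgN
  · rintro (rfl | ⟨rfl, h9⟩) x hx hxz hns
    · exact LBHeis.fixes_two hU p hp2 ((hNmem _).2 (by
        obtain ⟨v, hv⟩ : Even (p + 1) := (hpp.odd_of_ne_two hp2).add_odd odd_one
        rw [hv, ← two_mul, pow_mul, neg_one_sq, one_pow])) hR hStd hx hxz hns
    · obtain ⟨z9, hz9⟩ := hroot 9 (by omega)
      exact LBHeis.fixes_three hU p hp3' hz9 (fun t ht => (hNmem t).2 (by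
        obtain ⟨v, hv⟩ : 9 ∣ p + 1 := by omega
        rw [hv, pow_mul, ht, one_pow])) hR hStd hx hxz

end Cfsg.Agent.S5999

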